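import Cfsg.Statements.S3866
import Mathlib

set_option autoImplicit false
open Cfsg

namespace Cfsg.Agent.S3866

/-- Let A be a commutative normal subgroup of the finite group G with G generated by A and an element x. Then a ↦ x a x⁻¹ a⁻¹ is a surjective homomorphism from A onto the commutator subgroup of G whose kernel is the centralizer of x in A; in particular the commutator subgroup has order equal to the index in A of that centralizer. -/
theorem result {G : Type*} [Group G] [Finite G] (A : Subgroup G) [A.Normal] (hA : IsMulCommutative A) (x : G) (hgen : A ⊔ Subgroup.zpowers x = ⊤) : (∀ a ∈ A, x * a * x⁻¹ * a⁻¹ ∈ commutator G) ∧ (∀ c ∈ commutator G, ∃ a ∈ A, x * a * x⁻¹ * a⁻¹ = c) ∧ (∀ a ∈ A, ∀ b ∈ A, x * (a * b) * x⁻¹ * (a * b)⁻¹ = (x * a * x⁻¹ * a⁻¹) * (x * b * x⁻¹ * b⁻¹)) ∧ Nat.card (commutator G) * Nat.card ↥(A ⊓ Subgroup.centralizer ({x} : Set G)) = Nat.card A := by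
  have hnA : A.Normal := inferInstance
  have hcomm : ∀ a ∈ A, ∀ b ∈ A, a * b = b * a := fun a ha b hb =>
    congrArg Subtype.val (hA.is_comm.comm (⟨a, ha⟩ : A) ⟨b, hb⟩)
  have hxA : ∀ a ∈ A, x * a * x⁻¹ * a⁻¹ ∈ A := fun a ha =>
    A.mul_mem (hnA.conj_mem a ha x) (A.inv_mem ha)
  let f : A →* G :=
    { toFun := fun a => x * a * x⁻¹ * (a : G)⁻¹
      map_one' := by simp
      map_mul' := fun a b => by
        show x * ((a : G) * b) * x⁻¹ * ((a : G) * b)⁻¹ = _
        calc x * ((a : G) * b) * x⁻¹ * ((a : G) * b)⁻¹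
            = (x * (a : G) * x⁻¹) * ((x * (b : G) * x⁻¹) * (b : G)⁻¹) * (a : G)⁻¹ := by group
          _ = (x * (a : G) * x⁻¹) * ((a : G)⁻¹ * ((x * (b : G) * x⁻¹) * (b : G)⁻¹)) := by
            rw [mul_assoc (x * (a : G) * x⁻¹), hcomm _ (hxA b b.2) _ (A.inv_mem a.2)]
          _ = _ := by group }
  have hfA : f.range ≤ A := by
    rintro _ ⟨a, rfl⟩; exact hxA a a.2
  have hfc : ∀ a ∈ A, ∀ w ∈ f.range, a * w = w * a := fun a ha w hw => hcomm a ha w (hfA hw)
  have hrx : ∀ w ∈ f.range, x * w * x⁻¹ ∈ f.range := by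
    rintro _ ⟨a, rfl⟩
    exact ⟨⟨x * a * x⁻¹, hnA.conj_mem a a.2 x⟩, by
      show x * (x * (a : G) * x⁻¹) * x⁻¹ * (x * (a : G) * x⁻¹)⁻¹ = x * (x * a * x⁻¹ * (a : G)⁻¹) * x⁻¹
      group⟩
  haveI hN : f.range.Normal := by
    have key : A ⊔ Subgroup.zpowers x ≤ Subgroup.normalizer (f.range : Set G) := by
      refine sup_le (fun a ha => ?_) (Subgroup.zpowers_le.2 ?_)
      · refine (Subgroup.centralizer_le_normalizer _) (Subgroup.mem_centralizer_iff.2 fun w hw => ?_)
        exact (hfc a ha w hw).symm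
      · refine Subgroup.mem_normalizer_iff.2 fun w => ⟨hrx w, fun h => ?_⟩
        obtain ⟨a, ha⟩ := h
        refine ⟨⟨x⁻¹ * a * x, by simpa using hnA.conj_mem a a.2 x⁻¹⟩, ?_⟩
        show x * (x⁻¹ * (a : G) * x) * x⁻¹ * (x⁻¹ * (a : G) * x)⁻¹ = w
        have ha' : x * (a : G) * x⁻¹ * (a : G)⁻¹ = x * w * x⁻¹ := ha
        calc x * (x⁻¹ * (a : G) * x) * x⁻¹ * (x⁻¹ * (a : G) * x)⁻¹
            = x⁻¹ * (x * (a : G) * x⁻¹ * (a : G)⁻¹) * x := by group
          _ = w := by rw [ha']; group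
    rw [hgen] at key
    exact Subgroup.normalizer_eq_top_iff.1 (eq_top_iff.2 key)
  have hsub : commutator G ≤ f.range := by
    let q := QuotientGroup.mk' f.range
    have hA' : ∀ a ∈ A, Commute (q x) (q a) := fun a ha => by
      have h1 : q (x * a * x⁻¹ * a⁻¹) = 1 := (QuotientGroup.eq_one_iff _).2 ⟨⟨a, ha⟩, rfl⟩
      rw [map_mul, map_mul, map_mul, map_inv, map_inv, mul_inv_eq_one, mul_inv_eq_iff_eq_mul] at h1
      exact h1
    have hall : ∀ g v : G, Commute (q g) (q v) := by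
      have h0 : ∀ g ∈ A ⊔ Subgroup.zpowers x, ∀ v ∈ A ⊔ Subgroup.zpowers x, Commute (q g) (q v) := by
        intro g hg v hv
        rw [← SetLike.mem_coe, Subgroup.normal_mul, Set.mem_mul] at hg hv
        obtain ⟨a, ha, _, ⟨i, rfl⟩, rfl⟩ := hg
        obtain ⟨b, hb, _, ⟨j, rfl⟩, rfl⟩ := hv
        show Commute (q (a * x ^ i)) (q (b * x ^ j))
        rw [map_mul, map_mul, map_zpow, map_zpow]
        have hab : Commute (q a) (q b) := (show Commute a b from hcomm a ha b hb).map q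
        exact (hab.mul_right ((hA' a ha).symm.zpow_right j)).mul_left
          (((hA' b hb).zpow_left i).mul_right (Commute.zpow_zpow (Commute.refl _) i j))
      intro g v
      exact h0 g (hgen ▸ Subgroup.mem_top g) v (hgen ▸ Subgroup.mem_top v)
    rw [commutator_def, Subgroup.commutator_le]
    intro u _ v _
    refine (QuotientGroup.eq_one_iff _).1 ?_
    show q _ = 1
    rw [map_commutatorElement, commutatorElement_eq_one_iff_mul_comm]
    exact hall u v
  have hsup : ∀ a ∈ A, x * a * x⁻¹ * a⁻¹ ∈ commutator G := fun a _ => by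
    rw [← commutatorElement_def]
    exact Subgroup.commutator_mem_commutator (Subgroup.mem_top x) (Subgroup.mem_top a)
  have hr : f.range = commutator G := le_antisymm (by rintro _ ⟨a, rfl⟩; exact hsup a a.2) hsub
  refine ⟨hsup, fun c hc => ?_, fun a ha b hb => f.map_mul ⟨a, ha⟩ ⟨b, hb⟩, ?_⟩
  · obtain ⟨a, ha⟩ := hsub hc
    exact ⟨a, a.2, ha⟩
  · have hker : f.ker.map A.subtype = A ⊓ Subgroup.centralizer ({x} : Set G) := by
      ext a
      simp only [Subgroup.mem_map, MonoidHom.mem_ker, Subgroup.mem_inf,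
        Subgroup.mem_centralizer_singleton_iff]
      constructor
      · rintro ⟨a, ha, rfl⟩
        refine ⟨a.2, ?_⟩
        have ha' : x * (a : G) * x⁻¹ * (a : G)⁻¹ = 1 := ha
        rw [mul_inv_eq_one, mul_inv_eq_iff_eq_mul] at ha'
        exact ha'.symm
      · rintro ⟨ha, hax⟩
        refine ⟨⟨a, ha⟩, ?_, rfl⟩
        show x * a * x⁻¹ * a⁻¹ = 1
        rw [← hax]; group
    rw [← hker, Subgroup.card_map_of_injective A.subtype_injective, ← hr,
      ← Subgroup.index_ker, Subgroup.index_mul_card]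

end Cfsg.Agent.S3866
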