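import Cfsg.Statements.S3867
import Mathlib
import Cfsg.Agent.Lib.PGroup.Counting

set_option autoImplicit false
open Cfsg

namespace Cfsg.Agent.S3867

open scoped Pointwise

/-- Let M and N be nontrivial normal subgroups of the finite group G with M ⊓ N trivial, and let p be a prime. Writing n(X) for the number of Sylow p-subgroups of a group X, one has n(G) · n(G/MN) = n(G/M) · n(G/N). -/
theorem result {G : Type*} [Group G] [Finite G] (p : ℕ) [Fact p.Prime] (M N : Subgroup G) [M.Normal] [N.Normal] (hM : M ≠ ⊥) (hN : N ≠ ⊥) (hMN : M ⊓ N = ⊥) : Nat.card (Sylow p G) * Nat.card (Sylow p (G ⧸ (M ⊔ N))) = Nat.card (Sylow p (G ⧸ M)) * Nat.card (Sylow p (G ⧸ N)) := by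
  classical
  obtain ⟨P⟩ := Sylow.nonempty (p := p) (G := G)
  -- the Sylow number of a quotient
  have hquot : ∀ (K : Subgroup G) [K.Normal], Nat.card (Sylow p (G ⧸ K)) =
      (Subgroup.normalizer (((P : Subgroup G) ⊔ K : Subgroup G) : Set G)).index := by
    intro K _
    rw [Sylow.card_eq_index_normalizer (P.mapSurjective (QuotientGroup.mk'_surjective K))]
    show (Subgroup.normalizer (((P : Subgroup G).map (QuotientGroup.mk' K) : Subgroup (G ⧸ K)) : Set (G ⧸ K))).index = _
    rw [← Subgroup.index_comap_of_surjective _ (QuotientGroup.mk'_surjective K),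
      Subgroup.comap_normalizer_eq_of_surjective _ (QuotientGroup.mk'_surjective K),
      Subgroup.comap_map_eq, QuotientGroup.ker_mk']
  rw [Sylow.card_eq_index_normalizer P, hquot, hquot, hquot]
  set A := Subgroup.normalizer (((P : Subgroup G) ⊔ M : Subgroup G) : Set G)
  set B := Subgroup.normalizer (((P : Subgroup G) ⊔ N : Subgroup G) : Set G)
  set C := Subgroup.normalizer (((P : Subgroup G) ⊔ (M ⊔ N) : Subgroup G) : Set G)
  set D := Subgroup.normalizer ((P : Subgroup G) : Set G)
  have hmk : ∀ (X Y : Subgroup G), (∀ g ∈ X, ∀ y ∈ Y, g * y * g⁻¹ ∈ Y) →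
      X ≤ Subgroup.normalizer (Y : Set G) := by
    intro X Y h g hg
    refine Subgroup.mem_normalizer_iff.2 fun y => ⟨h g hg y, fun hy => ?_⟩
    simpa [mul_assoc] using h g⁻¹ (X.inv_mem hg) _ hy
  have hsupK : ∀ (K : Subgroup G) [K.Normal] (X : Subgroup G), X ≤ Subgroup.normalizer (((P : Subgroup G)) : Set G) →
      X ≤ Subgroup.normalizer (((P : Subgroup G) ⊔ K : Subgroup G) : Set G) := by
    intro K hK X hX
    refine hmk _ _ fun g hg y hy => ?_
    have hle : (P : Subgroup G) ⊔ K ≤ ((P : Subgroup G) ⊔ K).comap (MulAut.conj g).toMonoidHom := sup_le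
      (fun z hz => Subgroup.mem_sup_left ((Subgroup.mem_normalizer_iff.1 (hX hg) z).1 hz))
      (fun z hz => Subgroup.mem_sup_right (hK.conj_mem z hz g))
    exact hle hy
  have hDA : D ≤ A := hsupK M D le_rfl
  have hDB : D ≤ B := hsupK N D le_rfl
  have hAC : A ≤ C := hmk _ _ fun g hg y hy => by
    have hle : (P : Subgroup G) ⊔ (M ⊔ N) ≤
        ((P : Subgroup G) ⊔ (M ⊔ N)).comap (MulAut.conj g).toMonoidHom := by
      rw [← sup_assoc]
      refine sup_le (fun z hz => ?_) (fun z hz => Subgroup.mem_sup_right (‹N.Normal›.conj_mem z hz g))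
      exact Subgroup.mem_sup_left ((Subgroup.mem_normalizer_iff.1 hg z).1 hz)
    exact hle hy
  have hBC : B ≤ C := hmk _ _ fun g hg y hy => by
    have hle : (P : Subgroup G) ⊔ (M ⊔ N) ≤
        ((P : Subgroup G) ⊔ (M ⊔ N)).comap (MulAut.conj g).toMonoidHom := by
      rw [sup_comm M N, ← sup_assoc]
      refine sup_le (fun z hz => ?_) (fun z hz => Subgroup.mem_sup_right (‹M.Normal›.conj_mem z hz g))
      exact Subgroup.mem_sup_left ((Subgroup.mem_normalizer_iff.1 hg z).1 hz)
    exact hle hy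
  -- `A ∩ B = D`
  have hinf : A ⊓ B = D := by
    refine le_antisymm (hmk _ _ fun g hg y hy => ?_) (le_inf hDA hDB)
    have h1 := (Subgroup.mem_normalizer_iff.1 hg.1 y).1 (Subgroup.mem_sup_left hy)
    have h2 := (Subgroup.mem_normalizer_iff.1 hg.2 y).1 (Subgroup.mem_sup_left hy)
    rw [← SetLike.mem_coe, Subgroup.mul_normal, Set.mem_mul] at h1 h2
    obtain ⟨a, ha, m, hm, ham⟩ := h1
    obtain ⟨b, hb, n, hn, hbn⟩ := h2
    have hxP : m * n⁻¹ ∈ (P : Subgroup G) := by
      have : m * n⁻¹ = a⁻¹ * b := by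
        rw [show m = a⁻¹ * (g * y * g⁻¹) by rw [← ham]; group, ← hbn]; group
      rw [this]; exact Subgroup.mul_mem _ (Subgroup.inv_mem _ ha) hb
    -- the projection of `P ∩ MN` to `M` is a `p`-group normalized by `P`
    let S : Subgroup G :=
      { carrier := {u | u ∈ M ∧ ∃ v ∈ N, u * v ∈ (P : Subgroup G)}
        one_mem' := ⟨M.one_mem, 1, N.one_mem, by rw [mul_one]; exact Subgroup.one_mem _⟩
        mul_mem' := fun {u u'} hu hu' => by
          obtain ⟨hu, v, hv, huv⟩ := hu
          obtain ⟨hu', v', hv', huv'⟩ := hu'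
          refine ⟨M.mul_mem hu hu', v * v', N.mul_mem hv hv', ?_⟩
          have hc : Commute v u' :=
            (Subgroup.commute_of_normal_of_disjoint M N ‹_› ‹_› (disjoint_iff.2 hMN) u' v hu' hv).symm
          have : u * u' * (v * v') = (u * v) * (u' * v') := by
            calc u * u' * (v * v') = u * (u' * v) * v' := by group
              _ = u * (v * u') * v' := by rw [hc.eq]
              _ = (u * v) * (u' * v') := by group
          rw [this]
          exact Subgroup.mul_mem _ huv huv'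
        inv_mem' := fun {u} hu => by
          obtain ⟨hu, v, hv, huv⟩ := hu
          refine ⟨M.inv_mem hu, v⁻¹, N.inv_mem hv, ?_⟩
          have hc : Commute u v :=
            Subgroup.commute_of_normal_of_disjoint M N ‹_› ‹_› (disjoint_iff.2 hMN) u v hu hv
          rw [← mul_inv_rev, ← hc.eq]
          exact Subgroup.inv_mem _ huv }
    have hSp : IsPGroup p S := by
      rintro ⟨u, hu, v, hv, huv⟩
      obtain ⟨k, hk⟩ := P.isPGroup' ⟨u * v, huv⟩
      refine ⟨k, Subtype.ext ?_⟩
      have hk' : (u * v) ^ p ^ k = 1 := congrArg Subtype.val hk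
      rw [(Subgroup.commute_of_normal_of_disjoint M N ‹_› ‹_› (disjoint_iff.2 hMN) u v hu hv).mul_pow,
        mul_eq_one_iff_eq_inv] at hk'
      have : u ^ p ^ k ∈ M ⊓ N := ⟨M.pow_mem hu _, by rw [hk']; exact N.inv_mem (N.pow_mem hv _)⟩
      rw [hMN, Subgroup.mem_bot] at this
      simpa using this
    have hPS : (P : Subgroup G) ≤ Subgroup.normalizer (S : Set G) := hmk _ _ fun q hq u ⟨hu, v, hv, huv⟩ => by
      refine ⟨‹M.Normal›.conj_mem u hu q, q * v * q⁻¹, ‹N.Normal›.conj_mem v hv q, ?_⟩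
      rw [show q * u * q⁻¹ * (q * v * q⁻¹) = q * (u * v) * q⁻¹ by group]
      exact Subgroup.mul_mem _ (Subgroup.mul_mem _ hq huv) (Subgroup.inv_mem _ hq)
    have hsup : IsPGroup p ((P : Subgroup G) ⊔ S : Subgroup G) := by
      exact P.isPGroup'.to_sup_of_normal_right' hSp hPS
    have hmP : m ∈ (P : Subgroup G) := by
      rw [← P.is_maximal' hsup le_sup_left]
      exact Subgroup.mem_sup_right ⟨hm, n⁻¹, N.inv_mem hn, hxP⟩
    rw [← ham]; exact Subgroup.mul_mem _ ha hmP
  -- Frattini argument for `P (M ⊔ N)`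
  have hprod : ∀ g ∈ C, ∃ a ∈ A, ∃ b ∈ B, a * b = g := by
    intro g hg
    set L := (P : Subgroup G) ⊔ (M ⊔ N)
    have hgP : ((g • P : Sylow p G) : Subgroup G) ≤ L := by
      rintro _ ⟨z, hz, rfl⟩
      exact (Subgroup.mem_normalizer_iff.1 hg z).1 (Subgroup.mem_sup_left hz)
    obtain ⟨⟨k, hk⟩, hk'⟩ := MulAction.exists_smul_eq L ((g • P).subtype hgP)
      (P.subtype (le_sup_left : (P : Subgroup G) ≤ L))
    rw [Sylow.smul_subtype] at hk'
    have h1 : k • g • P = P := Sylow.subtype_injective hk'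
    rw [smul_smul, Sylow.smul_eq_iff_mem_normalizer] at h1
    -- `g = k⁻¹ (k g)` with `k ∈ (M ⊔ N) P`
    have hk2 : k⁻¹ ∈ ((M ⊔ N) ⊔ (P : Subgroup G) : Subgroup G) := by
      rw [sup_comm]; exact Subgroup.inv_mem _ hk
    rw [← SetLike.mem_coe, Subgroup.normal_mul, Set.mem_mul] at hk2
    obtain ⟨z, hz, q, hq, hzq⟩ := hk2
    rw [SetLike.mem_coe, ← SetLike.mem_coe, Subgroup.normal_mul, Set.mem_mul] at hz
    obtain ⟨m, hm, n, hn, rfl⟩ := hz
    refine ⟨m, ?_, n * (q * (k * g)), ?_, by
      calc m * (n * (q * (k * g))) = (m * n * q) * k * g := by group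
        _ = g := by rw [hzq]; group⟩
    · exact Subgroup.le_normalizer (Subgroup.mem_sup_right hm)
    · exact Subgroup.mul_mem _ (Subgroup.le_normalizer (Subgroup.mem_sup_right hn))
        (hDB (Subgroup.mul_mem _ (Subgroup.le_normalizer hq) h1))
  have hcard : Nat.card C * Nat.card D = Nat.card A * Nat.card B := by
    rw [← hinf, ← CfsgLib.PGroup.card_setMul_mul_card_inf A B]
    congr 1
    refine Nat.card_congr (Equiv.setCongr (Set.Subset.antisymm (fun g hg => ?_) ?_))
    · obtain ⟨a, ha, b, hb, rfl⟩ := hprod g hg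
      exact Set.mul_mem_mul ha hb
    · exact Set.mul_subset_iff.2 fun a ha b hb => C.mul_mem (hAC ha) (hBC hb)
  apply Nat.eq_of_mul_eq_mul_left (Nat.mul_pos (Nat.card_pos (α := D)) (Nat.card_pos (α := C)))
  calc Nat.card D * Nat.card C * (D.index * C.index)
      = (Nat.card D * D.index) * (Nat.card C * C.index) := by ring
    _ = (Nat.card A * A.index) * (Nat.card B * B.index) := by
      rw [Subgroup.card_mul_index, Subgroup.card_mul_index, Subgroup.card_mul_index, Subgroup.card_mul_index]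
    _ = (Nat.card A * Nat.card B) * (A.index * B.index) := by ring
    _ = Nat.card D * Nat.card C * (A.index * B.index) := by rw [← hcard]; ring

end Cfsg.Agent.S3867
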