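import Cfsg.Statements.S3869
import Cfsg.Agent.Lib.PGroup.IrreducibleCyclic
import Cfsg.Agent.Lib.PGroup.PrimeIndex
import Cfsg.Agent.Lib.PGroup.Counting

set_option autoImplicit false
open Cfsg

namespace Cfsg.Agent.S3869

/-- Let p and q be distinct primes and G a finite non-abelian group with a normal elementary abelian q-subgroup A that is a minimal normal subgroup of G and has index p. Then A has order q^e with e the multiplicative order of q modulo p, and G is minimal non-p-closed: its Sylow p-subgroups are not normal, while in every proper subgroup and in every proper quotient of G the Sylow p-subgroups are normal. -/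
theorem result {G : Type*} [Group G] [Finite G] {p q : ℕ} [Fact p.Prime] (hq : q.Prime) (hpq : q ≠ p)
    (hna : ¬ IsMulCommutative G) (A : Subgroup G) [A.Normal] (hA : Cfsg.IsElementaryAbelian q A) (hidx : A.index = p)
    (hmin : ∀ B : Subgroup G, B.Normal → B ≤ A → B = ⊥ ∨ B = A) :
    Nat.card ↥A = q ^ orderOf (q : ZMod p) ∧ ¬ Cfsg.IsPClosed p G ∧ (∀ H : Subgroup G, H ≠ ⊤ → Cfsg.IsPClosed p ↥H) ∧
      ∀ (N : Subgroup G) [N.Normal], N ≠ ⊥ → Cfsg.IsPClosed p (G ⧸ N) := by
  classical
  haveI := Fact.mk hq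
  have hp : p.Prime := Fact.out
  have hAc : ∀ a ∈ A, ∀ b ∈ A, a * b = b * a := fun a ha b hb =>
    congrArg Subtype.val (hA.1.is_comm.comm (⟨a, ha⟩ : A) ⟨b, hb⟩)
  have hco := CfsgLib.PGroup.isCoatom_of_index_prime (A := A) (hidx ▸ hp)
  have hAq : IsPGroup q A := fun a => ⟨1, Subtype.ext (by simpa using hA.2 a a.2)⟩
  obtain ⟨k, hk⟩ := IsPGroup.iff_card.1 hAq
  have hG : Nat.card G = q ^ k * p := by rw [← A.card_mul_index, hk, hidx]
  have hpdvd : p ∣ Nat.card G := hG ▸ dvd_mul_left _ _
  obtain ⟨x, hx⟩ := exists_prime_orderOf_dvd_card' p hpdvd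
  have hxA : x ∉ A := fun h => by
    have h1 : orderOf x ∣ q := orderOf_dvd_of_pow_eq_one (hA.2 x h)
    rw [hx] at h1
    exact hpq ((Nat.prime_dvd_prime_iff_eq hp hq).1 h1).symm
  have hxA' : ∀ y : G, orderOf y = p → y ∉ A := fun y hy h => by
    have h1 : orderOf y ∣ q := orderOf_dvd_of_pow_eq_one (hA.2 y h)
    rw [hy] at h1
    exact hpq ((Nat.prime_dvd_prime_iff_eq hp hq).1 h1).symm
  -- the centre is trivial on `A`, the conjugation is irreducible
  have hnormA : ∀ (B : Subgroup G) (y : G), B ≤ A → y ∉ A → (∀ b ∈ B, y * b * y⁻¹ ∈ B) → B.Normal := by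
    intro B y hBA hy hB
    have hyn : y ∈ Subgroup.normalizer (B : Set G) := by
      have hmap : B.map (MulAut.conj y).toMonoidHom = B := by
        refine Subgroup.eq_of_le_of_card_ge ?_ ?_
        · rintro _ ⟨b, hb, rfl⟩; exact hB b hb
        · rw [Subgroup.card_map_of_injective (MulAut.conj y).injective]
      refine Subgroup.mem_normalizer_iff.2 fun b => ⟨hB b, fun hb => ?_⟩
      rw [← hmap] at hb
      obtain ⟨c, hc, hcb⟩ := hb
      have : c = b := mul_left_cancel (mul_right_cancel (show y * c * y⁻¹ = y * b * y⁻¹ from hcb))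
      exact this ▸ hc
    have hAn : A ≤ Subgroup.normalizer (B : Set G) := fun a ha => Subgroup.mem_normalizer_iff.2 fun b =>
      ⟨fun hb => by rw [hAc a ha b (hBA hb), mul_inv_cancel_right]; exact hb, fun hb => by
        have hbA : b ∈ A := by
          have h := A.mul_mem (A.mul_mem (A.inv_mem ha) (hBA hb)) ha
          simpa [mul_assoc] using h
        rwa [hAc a ha b hbA, mul_inv_cancel_right] at hb⟩
    exact Subgroup.normalizer_eq_top_iff.1 (CfsgLib.PGroupExtra.eq_top_of_prime_index (hidx ▸ hp) hAn hyn hy)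
  have hne : ∃ a ∈ A, x * a * x⁻¹ ≠ a := by
    by_contra! h
    refine hna ⟨⟨fun u v => ?_⟩⟩
    have htop : Subgroup.centralizer (A : Set G) = ⊤ := by
      refine CfsgLib.PGroupExtra.eq_top_of_prime_index (hidx ▸ hp)
        (fun a ha => Subgroup.mem_centralizer_iff.2 fun b hb => hAc b hb a ha)
        (Subgroup.mem_centralizer_iff.2 fun b hb => (mul_inv_eq_iff_eq_mul.1 (h b hb)).symm) hxA
    have hAcen : A ≤ Subgroup.center G := fun a ha => Subgroup.mem_center_iff.2 fun g =>
      (Subgroup.mem_centralizer_iff.1 (htop.ge (Subgroup.mem_top g)) a ha).symm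
    haveI : IsCyclic (G ⧸ A) := isCyclic_of_prime_card (p := p) (by rw [← Subgroup.index_eq_card, hidx])
    exact commutative_of_cyclic_center_quotient (QuotientGroup.mk' A) (by rw [QuotientGroup.ker_mk']; exact hAcen) u v
  obtain ⟨a₀, ha₀, hxa₀⟩ := hne
  let cA : CommGroup A := { (inferInstance : Group A) with mul_comm := fun a b => Subtype.ext (hAc a a.2 b b.2) }
  have hcard : Nat.card A = q ^ orderOf (q : ZMod p) := by
    let φ : Additive A →+ Additive A := MonoidHom.toAdditive
      (MonoidHom.mk' (fun a : A => (⟨x * a * x⁻¹, ‹A.Normal›.conj_mem a a.2 x⟩ : A))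
        (fun a b => Subtype.ext (by simp [mul_assoc])))
    rw [Nat.card_congr (Additive.ofMul (α := A))]
    refine CfsgLib.PGroup.card_of_irreducible hpq ?_ φ ?_ ⟨Additive.ofMul ⟨a₀, ha₀⟩, ?_⟩ ?_
    · intro a
      apply Additive.toMul.injective
      rw [toMul_nsmul, toMul_zero]
      exact Subtype.ext (by simpa using hA.2 _ (Additive.toMul a).2)
    · intro a
      apply Additive.toMul.injective
      apply Subtype.ext
      have hit : ∀ j : ℕ, ((Additive.toMul (φ^[j] a) : A) : G) = x ^ j * (Additive.toMul a : A) * (x ^ j)⁻¹ := by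
        intro j
        induction j with
        | zero => simp
        | succ j ih =>
          rw [Function.iterate_succ_apply']
          show x * ((Additive.toMul (φ^[j] a) : A) : G) * x⁻¹ = _
          rw [ih, pow_succ']; group
      have hxp : x ^ p = 1 := hx ▸ pow_orderOf_eq_one x
      rw [hit, hxp]; simp
    · exact fun h => hxa₀ (congrArg (fun u : Additive A => ((Additive.toMul u : A) : G)) h)
    · intro W hW
      let B : Subgroup G :=
        { carrier := {b | ∃ hb : b ∈ A, Additive.ofMul (⟨b, hb⟩ : A) ∈ W}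
          one_mem' := ⟨A.one_mem, W.zero_mem⟩
          mul_mem' := fun ⟨hb, hbW⟩ ⟨hc, hcW⟩ => ⟨A.mul_mem hb hc, W.add_mem hbW hcW⟩
          inv_mem' := fun ⟨hb, hbW⟩ => ⟨A.inv_mem hb, W.neg_mem hbW⟩ }
      have hBA : B ≤ A := fun b hb => hb.1
      rcases hmin B (hnormA B x hBA hxA (fun b ⟨hb, hbW⟩ => ⟨‹A.Normal›.conj_mem b hb x, hW _ hbW⟩)) hBA with h | h
      · left
        rw [eq_bot_iff]
        intro w hw
        have hwB : ((Additive.toMul w : A) : G) ∈ B := ⟨(Additive.toMul w : A).2, hw⟩
        rw [h, Subgroup.mem_bot] at hwB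
        exact Additive.toMul.injective (Subtype.ext hwB)
      · right
        rw [eq_top_iff]
        intro w _
        obtain ⟨_, hwW⟩ := h.ge (Additive.toMul w : A).2
        exact hwW
  have hnpc : ¬ Cfsg.IsPClosed p G := by
    intro hc
    obtain ⟨P⟩ := Sylow.nonempty (p := p) (G := G)
    have hPn : (P : Subgroup G).Normal := hc P
    obtain ⟨y, hy⟩ := exists_prime_orderOf_dvd_card' (G := (P : Subgroup G)) p (by
      obtain ⟨l, hl⟩ := IsPGroup.iff_card.1 P.isPGroup'
      rw [hl]
      refine dvd_pow_self p fun h => ?_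
      exact P.not_dvd_index (by
        have h1 := (P : Subgroup G).card_mul_index
        rw [hl, h, pow_zero, one_mul] at h1
        rw [h1]; exact hpdvd))
    have hyo : orderOf (y : G) = p := by rw [Subgroup.orderOf_coe, hy]
    have hdis : Disjoint A (P : Subgroup G) := IsPGroup.disjoint_of_ne q p hpq _ _ hAq P.isPGroup'
    refine hxa₀ ?_
    -- `A` is centralized by `P`, hence central
    have htop : Subgroup.centralizer ({a₀} : Set G) = ⊤ :=
      CfsgLib.PGroupExtra.eq_top_of_prime_index (hidx ▸ hp)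
        (fun a ha => Subgroup.mem_centralizer_singleton_iff.2 (hAc a ha a₀ ha₀))
        (Subgroup.mem_centralizer_singleton_iff.2
          (Subgroup.commute_of_normal_of_disjoint A (P : Subgroup G) ‹_› hPn hdis a₀ y ha₀ y.2).eq.symm)
        (hxA' _ hyo)
    rw [mul_inv_eq_iff_eq_mul]
    exact Subgroup.mem_centralizer_singleton_iff.1 (htop.ge (Subgroup.mem_top x))
  refine ⟨hcard, hnpc, fun H hH Q => ?_, fun N _ hN Q => ?_⟩
  · by_cases hd : p ∣ Nat.card H
    · obtain ⟨⟨y, hyH⟩, hy⟩ := exists_prime_orderOf_dvd_card' p hd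
      have hyo : orderOf y = p := by rw [← hy, ← Subgroup.orderOf_coe]
      have hB : (H ⊓ A).Normal := hnormA _ y inf_le_right (hxA' y hyo)
        (fun b hb => ⟨H.mul_mem (H.mul_mem hyH hb.1) (H.inv_mem hyH), ‹A.Normal›.conj_mem b hb.2 y⟩)
      rcases hmin _ hB inf_le_right with h | h
      · have hle : Nat.card H ≤ p := by
          rw [← hidx, Subgroup.index_eq_card]
          refine Nat.card_le_card_of_injective (fun a : H => QuotientGroup.mk' A a) fun a b hab => ?_
          have h2 : (a : G)⁻¹ * b ∈ H ⊓ A := ⟨H.mul_mem (H.inv_mem a.2) b.2, (QuotientGroup.eq).1 hab⟩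
          rw [h, Subgroup.mem_bot, inv_mul_eq_one] at h2
          exact Subtype.ext h2
        have hHp : Nat.card H = p := le_antisymm hle (Nat.le_of_dvd Nat.card_pos hd)
        rw [Subgroup.eq_top_of_card_eq (Q : Subgroup H) ?_]
        · infer_instance
        · exact le_antisymm (Subgroup.card_le_card_group _) (Nat.le_of_dvd Nat.card_pos (by
            rw [hHp]
            simpa using Q.pow_dvd_card_of_pow_dvd_card (n := 1) (by rw [pow_one]; exact hd)))
      · exfalso
        exact hxA' y hyo ((hco.le_iff.1 (inf_eq_right.1 h)).resolve_left hH ▸ hyH)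
    · rw [Subgroup.eq_bot_of_card_eq (Q : Subgroup H) ?_]
      · infer_instance
      · obtain ⟨l, hl⟩ := IsPGroup.iff_card.1 Q.isPGroup'
        rcases Nat.eq_zero_or_pos l with rfl | hl0
        · simpa using hl
        · exact absurd ((hl ▸ dvd_pow_self p hl0.ne').trans (Subgroup.card_subgroup_dvd_card _)) hd
  · have hAN : A ≤ N := by
      rcases hmin (N ⊓ A) inferInstance inf_le_right with h | h
      · exfalso
        -- then `N` is a normal subgroup of order `p`
        have hNc : Nat.card N ≤ p := by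
          rw [← hidx, Subgroup.index_eq_card]
          refine Nat.card_le_card_of_injective (fun a : N => QuotientGroup.mk' A a) fun a b hab => ?_
          have h2 : (a : G)⁻¹ * b ∈ N ⊓ A := ⟨N.mul_mem (N.inv_mem a.2) b.2, (QuotientGroup.eq).1 hab⟩
          rw [h, Subgroup.mem_bot, inv_mul_eq_one] at h2
          exact Subtype.ext h2
        obtain ⟨⟨y, hyN⟩, hy1⟩ := N.ne_bot_iff_exists_ne_one.1 hN
        have hy1' : y ≠ 1 := fun h => hy1 (Subtype.ext h)
        have hyA : y ∉ A := fun hyA => hy1' (Subgroup.mem_bot.1 (h ▸ (⟨hyN, hyA⟩ : y ∈ N ⊓ A)))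
        refine hxa₀ ?_
        have htop : Subgroup.centralizer ({a₀} : Set G) = ⊤ :=
          CfsgLib.PGroupExtra.eq_top_of_prime_index (hidx ▸ hp)
            (fun a ha => Subgroup.mem_centralizer_singleton_iff.2 (hAc a ha a₀ ha₀))
            (Subgroup.mem_centralizer_singleton_iff.2
              (Subgroup.commute_of_normal_of_disjoint A N ‹_› ‹_› (by rw [disjoint_iff, inf_comm, h]) a₀ y ha₀ hyN).eq.symm)
            hyA
        rw [mul_inv_eq_iff_eq_mul]
        exact Subgroup.mem_centralizer_singleton_iff.1 (htop.ge (Subgroup.mem_top x))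
      · exact inf_eq_right.1 h
    have hd : Nat.card (G ⧸ N) ∣ p := by
      rw [← Subgroup.index_eq_card, ← hidx]
      exact Subgroup.index_dvd_of_le hAN
    haveI : IsCyclic (G ⧸ N) := by
      rcases (Nat.dvd_prime hp).1 hd with h | h
      · exact @isCyclic_of_subsingleton _ _ (Nat.card_eq_one_iff_unique.1 h).1
      · exact isCyclic_of_prime_card h
    obtain ⟨g, hg⟩ := IsCyclic.exists_generator (α := G ⧸ N)
    refine ⟨fun u hu v => ?_⟩
    obtain ⟨i, rfl⟩ := hg u
    obtain ⟨j, rfl⟩ := hg v
    rw [((Commute.refl g).zpow_zpow j i).eq, mul_inv_cancel_right]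
    exact hu

end Cfsg.Agent.S3869
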