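import Cfsg.Statements.S3868
import Cfsg.Agent.S3869
import Cfsg.Agent.Lib.PGroup.Basic
import Cfsg.Agent.Lib.PGroup.NilpotentCover
import Cfsg.Agent.Lib.PGroup.Counting

set_option autoImplicit false
open Cfsg

namespace Cfsg.Agent.S3868

open scoped Pointwise

/-- Structure of the non-simple minimal non-p-closed groups. Call a finite group p-closed when its Sylow p-subgroups are normal, and minimal non-p-closed when it is not p-closed but every proper subgroup and every proper quotient is. If such a group G is not simple, then there is a prime q ≠ p such that G has order p · q^e, where e is the multiplicative order of q modulo p, and G has a normal subgroup A of order q^e that is elementary abelian and is a minimal normal subgroup of G (so G is the semidirect product of A by a group of order p acting irreducibly). -/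
theorem result {G : Type*} [Group G] [Finite G] {p : ℕ} [Fact p.Prime]
    (hnc : ¬ Cfsg.IsPClosed p G) (hsub : ∀ H : Subgroup G, H ≠ ⊤ → Cfsg.IsPClosed p ↥H)
    (hquo : ∀ (N : Subgroup G) [N.Normal], N ≠ ⊥ → Cfsg.IsPClosed p (G ⧸ N)) (hns : ¬ IsSimpleGroup G) :
    ∃ q : ℕ, q.Prime ∧ q ≠ p ∧ Nat.card G = p * q ^ orderOf (q : ZMod p) ∧
      ∃ A : Subgroup G, A.Normal ∧ Nat.card ↥A = q ^ orderOf (q : ZMod p) ∧ Cfsg.IsElementaryAbelian q A ∧
        ∀ B : Subgroup G, B.Normal → B ≤ A → B = ⊥ ∨ B = A := by
  classical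
  have hp : p.Prime := Fact.out
  obtain ⟨P⟩ := Sylow.nonempty (p := p) (G := G)
  have hPnn : ¬ (P : Subgroup G).Normal := fun h => hnc fun Q => by
    haveI := Sylow.unique_of_normal P h
    exact (Subsingleton.elim P Q) ▸ h
  -- (a) no normal `p`-subgroup
  have hOp : ∀ R : Subgroup G, R.Normal → IsPGroup p R → R = ⊥ := by
    intro R hR hRp
    by_contra hne
    haveI := hR
    have hRP : R ≤ (P : Subgroup G) := by
      obtain ⟨Q, hQ⟩ := hRp.exists_le_sylow
      obtain ⟨g, rfl⟩ := MulAction.exists_smul_eq G P Q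
      intro a ha
      have h := hQ (hR.conj_mem a ha g)
      rw [Sylow.coe_subgroup_smul, Subgroup.mem_pointwise_smul_iff_inv_smul_mem] at h
      simpa [mul_assoc] using h
    have h2 : ((P : Subgroup G).map (QuotientGroup.mk' R)).Normal :=
      hquo R hne (P.mapSurjective (QuotientGroup.mk'_surjective R))
    refine hPnn ?_
    rw [← Subgroup.comap_map_eq_self (f := QuotientGroup.mk' R) (H := (P : Subgroup G))
      (by rw [QuotientGroup.ker_mk']; exact hRP)]
    exact h2.comap _
  -- normal `p`-closed subgroups have order prime to `p`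
  have hclosed : ∀ M : Subgroup G, M.Normal → M ≠ ⊤ → ¬ p ∣ Nat.card M := by
    intro M hM hMtop hd
    haveI := hM
    obtain ⟨T⟩ := Sylow.nonempty (p := p) (G := M)
    haveI := T.characteristic_of_normal (hsub M hMtop T)
    have h0 := hOp ((T : Subgroup M).map M.subtype) inferInstance (T.isPGroup'.map _)
    have h1 : Nat.card (T : Subgroup M) = 1 := by
      rw [← Subgroup.card_map_of_injective M.subtype_injective, h0, Subgroup.card_bot]
    have h2 := T.pow_dvd_card_of_pow_dvd_card (n := 1) (by rw [pow_one]; exact hd)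
    rw [pow_one, h1] at h2
    exact hp.ne_one (Nat.dvd_one.1 h2)
  -- a minimal normal subgroup
  obtain ⟨N₀, hN₀n, hN₀b, hN₀t⟩ : ∃ N : Subgroup G, N.Normal ∧ N ≠ ⊥ ∧ N ≠ ⊤ := by
    by_contra! hc
    haveI : Nontrivial G := by
      by_contra h
      rw [not_nontrivial_iff_subsingleton] at h
      refine hPnn ?_
      rw [Subgroup.eq_bot_of_subsingleton (P : Subgroup G)]
      infer_instance
    exact hns { eq_bot_or_eq_top_of_normal := fun N hN => or_iff_not_imp_left.2 fun h' => hc N hN h' }
  obtain ⟨N, ⟨hNn, hNb, hNle⟩, hNmin⟩ := Set.Finite.exists_minimal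
    (s := {N : Subgroup G | N.Normal ∧ N ≠ ⊥ ∧ N ≤ N₀}) (Set.toFinite _) ⟨N₀, hN₀n, hN₀b, le_rfl⟩
  haveI := hNn
  have hmin : ∀ B : Subgroup G, B.Normal → B ≤ N → B = ⊥ ∨ B = N := fun B hB hBN =>
    or_iff_not_imp_left.2 fun hB0 => le_antisymm hBN (hNmin ⟨hB, hB0, hBN.trans hNle⟩ hBN)
  have hNt : N ≠ ⊤ := fun h => hN₀t (top_le_iff.1 (h ▸ hNle))
  have hpN := hclosed N hNn hNt
  -- (c) `G = P N`
  have hPN : (P : Subgroup G) ⊔ N = ⊤ := by
    by_contra hne
    have h2 : ((P : Subgroup G).map (QuotientGroup.mk' N)).Normal :=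
      hquo N hNb (P.mapSurjective (QuotientGroup.mk'_surjective N))
    have hn : ((P : Subgroup G) ⊔ N).Normal := by
      have h3 := h2.comap (QuotientGroup.mk' N)
      rwa [Subgroup.comap_map_eq, QuotientGroup.ker_mk'] at h3
    refine hclosed _ hn hne ?_
    have hp0 : p ∣ Nat.card (P : Subgroup G) := by
      obtain ⟨k, hk⟩ := IsPGroup.iff_card.1 P.isPGroup'
      rw [hk]
      refine dvd_pow_self p fun h => hPnn ?_
      rw [Subgroup.eq_bot_of_card_eq (P : Subgroup G) (by rw [hk, h, pow_zero])]
      infer_instance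
    exact hp0.trans (Subgroup.card_dvd_of_le le_sup_left)
  -- (d) `N` is a `q`-group
  obtain ⟨q, hq, hNq⟩ : ∃ q : ℕ, q.Prime ∧ IsPGroup q N := by
    by_contra! hno
    -- every Sylow subgroup of `N` has a conjugate centralized by `P`
    have key : (Subgroup.centralizer ((P : Subgroup G) : Set G)).subgroupOf N = ⊤ := by
      refine CfsgLib.PGroup.eq_top_of_forall_sylow_le fun r hr => ?_
      obtain ⟨Q⟩ := Sylow.nonempty (p := r) (G := N)
      set Qg := (Q : Subgroup N).map N.subtype with hQg
      set H := Subgroup.normalizer (Qg : Set G) with hH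
      by_cases hHtop : H = ⊤
      · haveI : Qg.Normal := Subgroup.normalizer_eq_top_iff.1 hHtop
        rcases hmin Qg inferInstance (Subgroup.map_subtype_le _) with h | h
        · refine ⟨Q, fun a ha => ?_⟩
          have : (a : G) ∈ Qg := ⟨a, ha, rfl⟩
          rw [h, Subgroup.mem_bot] at this
          show (a : G) ∈ Subgroup.centralizer ((P : Subgroup G) : Set G)
          rw [this]
          exact Subgroup.one_mem _
        · exact absurd (h ▸ Q.isPGroup'.map N.subtype) (hno r hr.out)
      · have hfr : H ⊔ N = ⊤ := Sylow.normalizer_sup_eq_top Q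
        -- a Sylow `p`-subgroup of `G` inside `H`
        have hidx : ¬ p ∣ H.index := by
          intro hd
          refine hpN (hd.trans ?_)
          have h1 : H.index = H.relIndex (H ⊔ N) := by rw [hfr, Subgroup.relIndex_top_right]
          have e1 := CfsgLib.PGroup.card_setMul_mul_card_inf H N
          rw [← Subgroup.mul_normal] at e1
          change Nat.card ↥(H ⊔ N) * Nat.card ↥(H ⊓ N) = Nat.card H * Nat.card N at e1
          rw [hfr, Subgroup.card_top, ← H.card_mul_index, mul_assoc] at e1
          exact ⟨_, (Nat.eq_of_mul_eq_mul_left Nat.card_pos e1).symm⟩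
        obtain ⟨R⟩ := Sylow.nonempty (p := p) (G := H)
        obtain ⟨P', hP'⟩ := (R.isPGroup'.map H.subtype).exists_le_sylow
        have hRP : (R : Subgroup H).map H.subtype = P' := by
          refine Subgroup.eq_of_le_of_card_ge hP' (Nat.le_of_dvd Nat.card_pos ?_)
          rw [Subgroup.card_map_of_injective H.subtype_injective]
          obtain ⟨l, hl⟩ := IsPGroup.iff_card.1 P'.isPGroup'
          rw [hl]
          refine R.pow_dvd_card_of_pow_dvd_card ?_
          have : p ^ l ∣ Nat.card H * H.index := by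
            rw [H.card_mul_index, ← hl]; exact Subgroup.card_subgroup_dvd_card _
          exact (Nat.Coprime.pow_left l ((hp.coprime_iff_not_dvd).2 hidx)).dvd_of_dvd_mul_right this
        have hQH : Qg ≤ H := Subgroup.le_normalizer
        haveI : (Qg.subgroupOf H).Normal := Subgroup.normal_subgroupOf_iff_le_normalizer hQH |>.2 le_rfl
        have hdis : Disjoint (Qg.subgroupOf H) (R : Subgroup H) := by
          by_cases hrp : r = p
          · subst hrp
            have hQ1 : Qg = ⊥ := by
              refine Subgroup.eq_bot_of_card_eq _ ?_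
              obtain ⟨l, hl⟩ := IsPGroup.iff_card.1 (Q.isPGroup'.map N.subtype)
              rcases Nat.eq_zero_or_pos l with rfl | hl0
              · exact hl.trans (pow_zero r)
              · exact absurd ((hl ▸ dvd_pow_self r hl0.ne').trans
                  (Subgroup.card_dvd_of_le (Subgroup.map_subtype_le _))) hpN
            rw [hQ1, Subgroup.bot_subgroupOf]
            exact disjoint_bot_left
          · exact IsPGroup.disjoint_of_ne r p hrp _ _
              ((Q.isPGroup'.map N.subtype).of_equiv (Subgroup.subgroupOfEquivOfLe hQH).symm) R.isPGroup'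
        obtain ⟨g, hg⟩ := MulAction.exists_smul_eq G P P'
        refine ⟨MulAut.conjNormal (H := N) g⁻¹ • Q, fun a ha => ?_⟩
        show (a : G) ∈ Subgroup.centralizer ((P : Subgroup G) : Set G)
        refine Subgroup.mem_centralizer_iff.2 fun u hu => ?_
        change a ∈ MulAut.conjNormal g⁻¹ • (Q : Subgroup N) at ha
        have haQ : g * (a : G) * g⁻¹ ∈ Qg := by
          obtain ⟨b, hb, rfl⟩ := ha
          refine ⟨b, hb, ?_⟩
          show (b : G) = g * ((MulAut.conjNormal g⁻¹ b : N) : G) * g⁻¹
          rw [MulAut.conjNormal_apply]; group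
        have huR : g * u * g⁻¹ ∈ (R : Subgroup H).map H.subtype := by
          rw [hRP, ← hg, Sylow.coe_subgroup_smul, Subgroup.mem_pointwise_smul_iff_inv_smul_mem]
          simpa [mul_assoc] using SetLike.mem_coe.1 hu
        obtain ⟨w, hw, hwu⟩ := huR
        have hc := Subgroup.commute_of_normal_of_disjoint (Qg.subgroupOf H) (R : Subgroup H) ‹_› (hsub H hHtop R)
          hdis ⟨g * (a : G) * g⁻¹, hQH haQ⟩ w haQ hw
        have hc' : g * (a : G) * g⁻¹ * w = w * (g * (a : G) * g⁻¹) := congrArg Subtype.val hc.eq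
        rw [show (w : G) = g * u * g⁻¹ from hwu] at hc'
        have h' : g * (u * (a : G)) * g⁻¹ = g * ((a : G) * u) * g⁻¹ := by
          simpa [mul_assoc] using hc'.symm
        exact mul_left_cancel (mul_right_cancel h')
    refine hPnn (Subgroup.normalizer_eq_top_iff.1 (top_le_iff.1 (hPN ▸ sup_le Subgroup.le_normalizer ?_)))
    exact (Subgroup.subgroupOf_eq_top.1 key).trans (Subgroup.centralizer_le_normalizer _)
  haveI := Fact.mk hq
  have hqp : q ≠ p := by
    rintro rfl
    exact hNb (hOp N hNn hNq)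
  -- (e) `N` is elementary abelian
  have hNc : ∀ a ∈ N, ∀ b ∈ N, a * b = b * a := by
    haveI : Nontrivial N := N.nontrivial_iff_ne_bot.2 hNb
    have hZ := hNq.center_nontrivial
    rcases hmin ((Subgroup.center N).map N.subtype) inferInstance (Subgroup.map_subtype_le _) with h | h
    · exfalso
      rw [Subgroup.map_eq_bot_iff, Subgroup.ker_subtype, le_bot_iff] at h
      exact ((Subgroup.center N).nontrivial_iff_ne_bot.1 hZ) h
    · intro a ha b hb
      obtain ⟨a', ha', rfl⟩ := h.ge ha
      exact congrArg Subtype.val (Subgroup.mem_center_iff.1 ha' ⟨b, hb⟩).symm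
  have hNe : Cfsg.IsElementaryAbelian q N := by
    refine ⟨⟨⟨fun a b => Subtype.ext (hNc a a.2 b b.2)⟩⟩, ?_⟩
    let B : Subgroup G :=
      { carrier := {a | a ∈ N ∧ a ^ q = 1}
        one_mem' := ⟨N.one_mem, one_pow q⟩
        mul_mem' := fun {a b} ha hb => ⟨N.mul_mem ha.1 hb.1, by
          rw [(show Commute a b from hNc a ha.1 b hb.1).mul_pow, ha.2, hb.2, one_mul]⟩
        inv_mem' := fun {a} ha => ⟨N.inv_mem ha.1, by rw [inv_pow, ha.2, inv_one]⟩ }
    have hBn : B.Normal := ⟨fun a ha g => ⟨hNn.conj_mem a ha.1 g, by rw [conj_pow, ha.2, mul_one, mul_inv_cancel]⟩⟩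
    rcases hmin B hBn (fun a ha => ha.1) with h | h
    · exfalso
      obtain ⟨⟨z, hz⟩, hzo⟩ := exists_prime_orderOf_dvd_card' (G := N) q (by
        obtain ⟨k, hk⟩ := IsPGroup.iff_card.1 hNq
        rw [hk]
        exact dvd_pow_self q fun h0 => hNb (Subgroup.eq_bot_of_card_eq _ (by rw [hk, h0, pow_zero])))
      have hzq : z ^ q = 1 := congrArg Subtype.val (hzo ▸ pow_orderOf_eq_one (⟨z, hz⟩ : N))
      have : z ∈ B := ⟨hz, hzq⟩
      rw [h, Subgroup.mem_bot] at this
      subst this
      exact hq.ne_one (hzo.symm.trans (orderOf_eq_one_iff.2 rfl))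
    · exact fun a ha => (h.ge ha).2
  -- (f) the index is `p`
  have hGq : IsPGroup p (G ⧸ N) := by
    refine P.isPGroup'.of_surjective ((QuotientGroup.mk' N).comp (P : Subgroup G).subtype) fun x => ?_
    obtain ⟨g, rfl⟩ := QuotientGroup.mk'_surjective N x
    have hg : g ∈ (P : Subgroup G) ⊔ N := hPN ▸ Subgroup.mem_top g
    rw [← SetLike.mem_coe, Subgroup.mul_normal, Set.mem_mul] at hg
    obtain ⟨a, ha, b, hb, rfl⟩ := hg
    exact ⟨⟨a, ha⟩, by
      rw [MonoidHom.comp_apply, map_mul]
      exact ((mul_eq_left).2 ((QuotientGroup.eq_one_iff b).2 hb)).symm⟩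
  obtain ⟨k, hk⟩ := IsPGroup.iff_card.1 hGq
  have hk1 : k = 1 := by
    rcases Nat.lt_or_ge k 1 with hk0 | hk2
    · exfalso
      refine hNt (Subgroup.index_eq_one.1 ?_)
      rw [Subgroup.index_eq_card, hk, show k = 0 by omega, pow_zero]
    · by_contra hne
      haveI : Nontrivial (G ⧸ N) := Finite.one_lt_card_iff_nontrivial.1 (hk ▸ Nat.one_lt_pow (by omega) hp.one_lt)
      obtain ⟨M, hM, -⟩ := (eq_top_or_exists_le_coatom (⊥ : Subgroup (G ⧸ N))).resolve_left bot_ne_top
      haveI := CfsgLib.PGroup.normal_of_isCoatom hGq hM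
      have hMi := CfsgLib.PGroup.index_of_isCoatom hGq hM
      refine hclosed (M.comap (QuotientGroup.mk' N)) inferInstance (fun h => hM.1 ?_) ?_
      · rw [← Subgroup.map_comap_eq_self_of_surjective (QuotientGroup.mk'_surjective N) M, h,
          ← MonoidHom.range_eq_map, MonoidHom.range_eq_top.2 (QuotientGroup.mk'_surjective N)]
      · have h1 := (M.comap (QuotientGroup.mk' N)).card_mul_index
        rw [Subgroup.index_comap_of_surjective _ (QuotientGroup.mk'_surjective N), hMi,
          ← N.card_mul_index, Subgroup.index_eq_card, hk, ← Nat.succ_pred_eq_of_pos (Nat.pos_of_ne_zero (by omega : k ≠ 0)),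
          pow_succ, ← mul_assoc] at h1
        rw [Nat.eq_of_mul_eq_mul_right hp.pos h1]
        exact dvd_mul_of_dvd_right (dvd_pow_self p (by rw [Nat.pred_eq_sub_one]; omega)) _
  have hidx : N.index = p := by rw [Subgroup.index_eq_card, hk, hk1, pow_one]
  have hna : ¬ IsMulCommutative G := fun h => hPnn ⟨fun a ha g => by
    rw [h.is_comm.comm g a, mul_inv_cancel_right]; exact ha⟩
  obtain ⟨hcard, -⟩ := Cfsg.Agent.S3869.result hq hqp hna N hNe hidx hmin
  refine ⟨q, hq, hqp, ?_, N, hNn, hcard, hNe, hmin⟩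
  rw [← N.card_mul_index, hcard, hidx, mul_comm]

end Cfsg.Agent.S3868
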