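import Cfsg.Statements.S3870
import Mathlib

set_option autoImplicit false
open Cfsg

namespace Cfsg.Agent.S3870

open scoped Pointwise

/-- Let G be a finite simple group whose Sylow p-subgroups are not normal but such that every proper subgroup of G has a normal Sylow p-subgroup. Then any two distinct Sylow p-subgroups of G intersect trivially, and for every Sylow p-subgroup P the normalizer of every non-identity subgroup of P lies in the normalizer of P. -/
theorem result {G : Type*} [Group G] [Finite G] [IsSimpleGroup G] {p : ℕ} [Fact p.Prime]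
    (hnc : ¬ Cfsg.IsPClosed p G) (hsub : ∀ H : Subgroup G, H ≠ ⊤ → Cfsg.IsPClosed p ↥H) :
    (∀ P Q : Sylow p G, P ≠ Q → (P : Subgroup G) ⊓ (Q : Subgroup G) = ⊥) ∧
      ∀ (P : Sylow p G) (R : Subgroup G), R ≤ P → R ≠ ⊥ →
        Subgroup.normalizer (R : Set G) ≤ Subgroup.normalizer ((P : Subgroup G) : Set G) := by
  classical
  have hp : p.Prime := Fact.out
  -- the normalizer of a nontrivial p-subgroup is proper
  have hproper : ∀ D : Subgroup G, IsPGroup p D → D ≠ ⊥ → Subgroup.normalizer (D : Set G) ≠ ⊤ := by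
    intro D hD hDb h
    haveI := Subgroup.normalizer_eq_top_iff.1 h
    rcases (inferInstance : (D).Normal).eq_bot_or_eq_top with h1 | h1
    · exact hDb h1
    · refine hnc fun P => ?_
      have : (P : Subgroup G) = ⊤ :=
        top_le_iff.1 ((h1 ▸ le_refl _ : (⊤ : Subgroup G) ≤ D).trans (hD.le_sylow_of_normal P))
      rw [this]; infer_instance
  have hTI : ∀ P Q : Sylow p G, P ≠ Q → (P : Subgroup G) ⊓ (Q : Subgroup G) = ⊥ := by
    suffices H : ∀ D : Subgroup G, ∀ P Q : Sylow p G, P ≠ Q → (P : Subgroup G) ⊓ Q = D → D = ⊥ from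
      fun P Q h => H _ P Q h rfl
    intro D
    induction hn : (Nat.card G - Nat.card D) using Nat.strong_induction_on generalizing D with
    | _ n ih =>
      subst hn
      intro P Q hPQ hD
      by_contra hDb
      have hDP : D ≤ (P : Subgroup G) := hD ▸ inf_le_left
      have hDQ : D ≤ (Q : Subgroup G) := hD ▸ inf_le_right
      set N := Subgroup.normalizer (D : Set G)
      have hNne := hproper D (P.isPGroup'.to_le hDP) hDb
      obtain ⟨S⟩ := Sylow.nonempty (p := p) (G := N)
      have hSn := hsub N hNne S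
      have key : ∀ R : Sylow p G, ((R : Subgroup G).subgroupOf N) ≤ (S : Subgroup N) := by
        intro R
        have hp' : IsPGroup p ((R : Subgroup G).subgroupOf N) := R.isPGroup'.comap_subtype
        obtain ⟨S', hS'⟩ := hp'.exists_le_sylow
        haveI := Sylow.unique_of_normal S hSn
        exact hS'.trans (le_of_eq (congrArg _ (Subsingleton.elim S' S)))
      obtain ⟨R, hR⟩ := (S.isPGroup'.map N.subtype).exists_le_sylow
      have lt : ∀ W : Sylow p G, D ≤ (W : Subgroup G) → D ≠ (W : Subgroup G) →
          D < (W : Subgroup G) ⊓ (R : Subgroup G) := by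
        intro W hDW hne
        have hnc' := normalizerCondition_of_isNilpotent (h := W.isPGroup'.isNilpotent)
          (D.subgroupOf (W : Subgroup G)) (lt_top_iff_ne_top.2 fun h =>
            hne (le_antisymm hDW (Subgroup.subgroupOf_eq_top.1 h)))
        obtain ⟨w, hw, hwD⟩ := SetLike.exists_of_lt hnc'
        rw [← Subgroup.subgroupOf_normalizer_eq hDW, Subgroup.mem_subgroupOf] at hw
        refine lt_of_le_not_ge (le_inf hDW (fun d hd => hR ⟨⟨d, Subgroup.le_normalizer hd⟩,
          key W (hDW hd), rfl⟩)) fun h => hwD ?_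
        exact h ⟨w.2, hR ⟨⟨w, hw⟩, key W w.2, rfl⟩⟩
      have bigger : ∀ W : Sylow p G, D < (W : Subgroup G) ⊓ (R : Subgroup G) → W = R := by
        intro W hW
        by_contra hne
        have hlt : Nat.card D < Nat.card ↥((W : Subgroup G) ⊓ (R : Subgroup G)) := by
          have h6 := Set.ncard_lt_ncard (SetLike.coe_ssubset_coe.2 hW) (Set.toFinite _)
          rwa [← Nat.card_coe_set_eq, ← Nat.card_coe_set_eq] at h6
        have := ih _ (by
          have := Subgroup.card_le_card_group ((W : Subgroup G) ⊓ (R : Subgroup G))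
          omega) _ rfl W R hne rfl
        rw [this] at hW
        exact (not_lt_bot hW)
      have hP : P = R := bigger P (lt P hDP fun h => hPQ (Sylow.ext (P.3 Q.isPGroup' (h ▸ hDQ)).symm))
      have hQ : Q = R := bigger Q (lt Q hDQ fun h => hPQ (Sylow.ext (Q.3 P.isPGroup' (h ▸ hDP))))
      exact hPQ (hP.trans hQ.symm)
  refine ⟨hTI, fun P R hRP hRb g hg => ?_⟩
  refine Sylow.smul_eq_iff_mem_normalizer.1 (by_contra fun hne => hRb ?_)
  rw [eq_bot_iff, ← hTI (g • P) P hne]
  refine le_inf (fun x hx => ?_) hRP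
  rw [Sylow.coe_subgroup_smul]
  refine ⟨g⁻¹ * x * g, hRP ?_, ?_⟩
  · have := (Subgroup.mem_normalizer_iff.1 (Subgroup.inv_mem _ hg) x).1 hx
    simpa using this
  · show g * (g⁻¹ * x * g) * g⁻¹ = x
    group

end Cfsg.Agent.S3870
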