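import Cfsg.Statements.S3872
import Cfsg.Agent.Lib.PGroup.PolySeq
import Cfsg.Agent.Lib.Solvable.UniqueSubgroup

set_option autoImplicit false
open Cfsg

namespace Cfsg.Agent.S3872

universe u

open scoped commutatorElement

theorem card_lcs_mul_le {G : Type u} [Group G] [Finite G] {p : ℕ} [hp : Fact p.Prime] (hG : IsPGroup p G)
    (h2 : (commutator G).index ≠ 1 ∧ (commutator G).index ≠ p) :
    ∀ k : ℕ, (⊤ : Subgroup G).lowerCentralSeries (k + 1) ≠ ⊥ →
      Nat.card ↥((⊤ : Subgroup G).lowerCentralSeries (k + 1)) * p ^ (k + 2) ≤ Nat.card G := by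
  haveI : Group.IsNilpotent G := hG.isNilpotent
  intro k
  induction k with
  | zero =>
    intro _
    have hc : (⊤ : Subgroup G).lowerCentralSeries (0 + 1) = commutator G := by
      rw [Subgroup.lowerCentralSeries_succ, Subgroup.lowerCentralSeries_zero, commutator_def]
    rw [hc]
    obtain ⟨j, hj⟩ := hG.index (commutator G)
    have hj2 : 2 ≤ j := by
      rcases j with _ | _ | j
      · exact absurd hj (by simpa using h2.1)
      · exact absurd hj (by simpa using h2.2)
      · omega
    rw [← Subgroup.card_mul_index (commutator G), hj]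
    exact Nat.mul_le_mul_left _ (Nat.pow_le_pow_right hp.out.pos hj2)
  | succ k ih =>
    intro hne
    set A := (⊤ : Subgroup G).lowerCentralSeries (k + 1) with hA
    set B := (⊤ : Subgroup G).lowerCentralSeries (k + 1 + 1) with hB
    have hBA : B ≤ A := Subgroup.lowerCentralSeries_antitone _ (Nat.le_succ _)
    have hAne : A ≠ ⊥ := fun h => hne (le_bot_iff.1 (h ▸ hBA))
    have hlt : B ≠ A := by
      intro he
      have hn : ∀ m, (⊤ : Subgroup G).lowerCentralSeries (k + 1 + m) = A := by
        intro m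
        induction m with
        | zero => rfl
        | succ m ihm => rw [← Nat.add_assoc, Subgroup.lowerCentralSeries_succ, ihm, hA,
            ← Subgroup.lowerCentralSeries_succ, ← hA, ← hB, he]
      obtain ⟨c, hc⟩ := Subgroup.nilpotent_iff_lowerCentralSeries.1 (inferInstance : Group.IsNilpotent G)
      apply hAne
      rw [← hn c]
      exact le_bot_iff.1 (hc ▸ Subgroup.lowerCentralSeries_antitone _ (Nat.le_add_left c _))
    obtain ⟨j, hj⟩ := (hG.to_subgroup A).index (B.subgroupOf A)
    have hj1 : 1 ≤ j := by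
      rcases j with _ | j
      · exact absurd (le_antisymm hBA (Subgroup.relIndex_eq_one.1 (by simpa [Subgroup.relIndex] using hj))) hlt
      · omega
    have hcard : Nat.card A = Nat.card B * p ^ j := by
      rw [← Subgroup.card_mul_index (B.subgroupOf A), hj,
        Nat.card_congr (Subgroup.subgroupOfEquivOfLe hBA).toEquiv]
    refine le_trans ?_ (ih hAne)
    rw [hcard, mul_assoc, ← pow_add]
    exact Nat.mul_le_mul_left _ (Nat.pow_le_pow_right hp.out.pos (by omega))

theorem closed_mul {G : Type u} [Group G] {p : ℕ} {K : Subgroup G}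
    (hK : ∃ H : Subgroup ↥K, (H : Set ↥K) = {g : ↥K | g ^ p = 1}) {x y : G} (hx : x ∈ K) (hy : y ∈ K)
    (hxp : x ^ p = 1) (hyp : y ^ p = 1) : (x * y) ^ p = 1 := by
  obtain ⟨H, hH⟩ := hK
  have h1 : (⟨x, hx⟩ : K) ∈ H := by rw [← SetLike.mem_coe, hH]; exact Subtype.ext hxp
  have h2 : (⟨y, hy⟩ : K) ∈ H := by rw [← SetLike.mem_coe, hH]; exact Subtype.ext hyp
  have h3 := mul_mem h1 h2
  rw [← SetLike.mem_coe, hH] at h3
  exact congrArg Subtype.val h3

/-- Say that a finite group is p-exponent closed when its elements of order dividing p form a subgroup. Let G be a finite p-group that is not p-exponent closed, but all of whose proper subgroups and proper quotients are. Then G is generated by two elements, has nilpotency class at least p, has exponent p², has cyclic center, and has order at least p^(p+1). -/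
theorem result {G : Type*} [Group G] [Finite G] {p : ℕ} [Fact p.Prime] (hG : IsPGroup p G)
    (hnc : ¬ (∃ H : Subgroup G, (H : Set G) = {g : G | g ^ p = 1})) (hsub : ∀ K : Subgroup G, K ≠ ⊤ → (∃ H : Subgroup ↥K, (H : Set ↥K) = {g : ↥K | g ^ p = 1}))
    (hquo : ∀ (N : Subgroup G) [N.Normal], N ≠ ⊥ → (∃ H : Subgroup (G ⧸ N), (H : Set (G ⧸ N)) = {g : (G ⧸ N) | g ^ p = 1})) :
    (∃ x y : G, Subgroup.closure ({x, y} : Set G) = ⊤) ∧ (⊤ : Subgroup G).lowerCentralSeries (p - 1) ≠ ⊥ ∧
      Monoid.exponent G = p ^ 2 ∧ IsCyclic ↥(Subgroup.center G) ∧ p ^ (p + 1) ≤ Nat.card G := by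
  classical
  have hp : p.Prime := Fact.out
  obtain ⟨a, b, ha, hb, hab⟩ : ∃ a b : G, a ^ p = 1 ∧ b ^ p = 1 ∧ (a * b) ^ p ≠ 1 := by
    by_contra hne
    push Not at hne
    refine hnc ⟨{ carrier := {g : G | g ^ p = 1}
                  one_mem' := one_pow p
                  mul_mem' := ?_
                  inv_mem' := ?_ }, rfl⟩
    · intro x y hx hy
      exact hne x y hx hy
    · intro x hx
      exact (inv_pow x p).trans (inv_eq_one.2 hx)
  have htop : Subgroup.closure ({a, b} : Set G) = ⊤ := by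
    by_contra hne
    exact hab (closed_mul (hsub _ hne) (Subgroup.subset_closure (Or.inl rfl))
      (Subgroup.subset_closure (Or.inr rfl)) ha hb)
  haveI : Nontrivial G := ⟨⟨a * b, 1, fun h => hab (by rw [h, one_pow])⟩⟩
  -- a sup with the derived subgroup is proper
  have hproper : ∀ x : G, Subgroup.zpowers x ⊔ commutator G ≠ ⊤ := by
    intro x hx
    have h1 := CfsgLib.PGroup.eq_top_of_sup_frattini (top_le_iff.1
      (hx.ge.trans (sup_le_sup_left (CfsgLib.PGroup.commutator_le_frattini hG) _)))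
    obtain ⟨i, hi⟩ := Subgroup.mem_zpowers_iff.1 (h1 ▸ Subgroup.mem_top a)
    obtain ⟨j, hj⟩ := Subgroup.mem_zpowers_iff.1 (h1 ▸ Subgroup.mem_top b)
    apply hab
    have hc : Commute a b := hi ▸ hj ▸ Commute.zpow_zpow (Commute.refl x) i j
    rw [hc.mul_pow, ha, hb, one_mul]
  have hGne : commutator G ≠ ⊤ := fun h => hproper 1 (by rw [h, sup_top_eq])
  -- class at least p
  have hclass : (⊤ : Subgroup G).lowerCentralSeries (p - 1) ≠ ⊥ := by
    intro hcl
    obtain ⟨-, hreg⟩ := CfsgLib.Transfer.regOne_of_regular (CfsgLib.PGroup.PolySeq.isRegular_of_class_lt hG hcl)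
    obtain ⟨c, hc, e⟩ := hreg a b
    rw [htop, ← commutator_def] at hc
    apply hab
    rw [e, ha, hb, one_mul, one_mul]
    obtain ⟨H, hH⟩ := hsub (commutator G) hGne
    have hgen : ∀ u v : G, u ^ p = 1 → ⁅u, v⁆ ^ p = 1 := by
      intro u v hu
      have hK := hsub _ (hproper u)
      rw [show ⁅u, v⁆ = u * (v * u⁻¹ * v⁻¹) by rw [commutatorElement_def]; group]
      refine closed_mul hK (Subgroup.mem_sup_left (Subgroup.mem_zpowers u)) ?_ hu ?_
      · rw [show v * u⁻¹ * v⁻¹ = ⁅v, u⁻¹⁆ * u⁻¹ by rw [commutatorElement_def]; group]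
        exact mul_mem (Subgroup.mem_sup_right (Subgroup.commutator_mem_commutator (Subgroup.mem_top _) (Subgroup.mem_top _)))
          (Subgroup.mem_sup_left (inv_mem (Subgroup.mem_zpowers u)))
      · rw [conj_pow, inv_pow, hu, inv_one, mul_one, mul_inv_cancel]
    let N : Subgroup G := H.map (commutator G).subtype
    have hN : ∀ g : G, g ∈ N ↔ g ∈ commutator G ∧ g ^ p = 1 := by
      intro g
      constructor
      · rintro ⟨g', hg', rfl⟩
        have h1 : g' ∈ (H : Set ↥(commutator G)) := hg'
        rw [hH] at h1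
        exact ⟨g'.2, congrArg Subtype.val h1⟩
      · rintro ⟨h1, h2⟩
        refine ⟨⟨g, h1⟩, ?_, rfl⟩
        show (⟨g, h1⟩ : ↥(commutator G)) ∈ (H : Set ↥(commutator G))
        rw [hH]; exact Subtype.ext h2
    haveI : N.Normal := ⟨fun g hg v => (hN _).2 ⟨(inferInstance : (commutator G).Normal).conj_mem g ((hN g).1 hg).1 v,
      by rw [conj_pow, ((hN g).1 hg).2, mul_one, mul_inv_cancel]⟩⟩
    let π := QuotientGroup.mk' N
    have hπ : Function.Surjective π := QuotientGroup.mk'_surjective N
    have hab' : π a * π b = π b * π a := by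
      rw [← commutatorElement_eq_one_iff_mul_comm, ← map_commutatorElement]
      exact (QuotientGroup.eq_one_iff _).2 ((hN _).2
        ⟨Subgroup.commutator_mem_commutator (Subgroup.mem_top _) (Subgroup.mem_top _), hgen a b ha⟩)
    have hgenQ : Subgroup.closure ({π a, π b} : Set (G ⧸ N)) = ⊤ := by
      rw [← Set.image_pair, ← MonoidHom.map_closure, htop, Subgroup.map_top_of_surjective π hπ]
    have hcen : Subgroup.closure ({π a, π b} : Set (G ⧸ N)) ≤ Subgroup.center (G ⧸ N) := by
      rw [Subgroup.closure_le]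
      intro z hz
      refine Subgroup.mem_center_iff.2 fun w => ?_
      have hw : w ∈ Subgroup.centralizer ({z} : Set (G ⧸ N)) := by
        refine (Subgroup.closure_le _).2 ?_ (hgenQ.ge (Subgroup.mem_top w))
        intro u hu
        rw [SetLike.mem_coe, Subgroup.mem_centralizer_singleton_iff]
        rcases hz with rfl | rfl <;> rcases hu with rfl | rfl <;> first | rfl | exact hab' | exact hab'.symm
      exact Subgroup.mem_centralizer_singleton_iff.1 hw
    have hle : commutator G ≤ N := by
      rw [commutator_def, Subgroup.commutator_le]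
      intro u _ v _
      rw [← QuotientGroup.eq_one_iff]
      show π ⁅u, v⁆ = 1
      rw [map_commutatorElement, commutatorElement_eq_one_iff_mul_comm]
      exact Subgroup.mem_center_iff.1 (hcen (hgenQ.ge (Subgroup.mem_top (π v)))) (π u)
    rw [Cfsg.powerClosure] at hc
    refine Subgroup.closure_induction (p := fun c _ => c = 1) ?_ rfl (fun x y _ _ h1 h2 => by rw [h1, h2, one_mul])
      (fun x _ h1 => by rw [h1, inv_one]) hc
    rintro _ ⟨x, hx, rfl⟩
    rw [pow_one]
    exact ((hN x).1 (hle hx)).2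
  -- elements x^p lie in every central subgroup of order p
  have hcentral : ∀ z : G, z ∈ Subgroup.center G → orderOf z = p → ∀ x : G, x ^ p ∈ Subgroup.zpowers z := by
    intro z hz hzo x
    haveI : (Subgroup.zpowers z).Normal := ⟨fun y hy g => by
      have hyc : y ∈ Subgroup.center G := Subgroup.zpowers_le.2 hz hy
      rwa [Subgroup.mem_center_iff.1 hyc g, mul_inv_cancel_right]⟩
    have hne : Subgroup.zpowers z ≠ ⊥ := fun h => hp.ne_one (by rw [← hzo, orderOf_eq_one_iff.2 (Subgroup.zpowers_eq_bot.1 h)])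
    obtain ⟨H, hH⟩ := hquo (Subgroup.zpowers z) hne
    have htopH : H = ⊤ := by
      rw [eq_top_iff, ← Subgroup.map_top_of_surjective (QuotientGroup.mk' (Subgroup.zpowers z)) (QuotientGroup.mk'_surjective _),
        ← htop, MonoidHom.map_closure, Subgroup.closure_le]
      rintro _ ⟨u, hu, rfl⟩
      rw [hH]
      show _ ^ p = 1
      rcases hu with rfl | rfl <;> rw [← map_pow] <;> simp [ha, hb]
    rw [← QuotientGroup.eq_one_iff]
    have : (x : G ⧸ Subgroup.zpowers z) ∈ (H : Set _) := by rw [htopH]; trivial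
    rw [hH] at this
    exact this
  obtain ⟨z0, hz0, hz0o⟩ : ∃ z, z ∈ Subgroup.center G ∧ orderOf z = p := by
    haveI : Nontrivial ↥(Subgroup.center G) := hG.center_nontrivial
    exact CfsgLib.PGroup.exists_orderOf_eq hG ((Subgroup.nontrivial_iff_ne_bot _).1 inferInstance)
  have hexp : Monoid.exponent G = p ^ 2 := by
    have hd : Monoid.exponent G ∣ p ^ 2 := Monoid.exponent_dvd_of_forall_pow_eq_one fun x => by
      obtain ⟨i, hi⟩ := Subgroup.mem_zpowers_iff.1 (hcentral z0 hz0 hz0o x)
      rw [sq, pow_mul, ← hi, ← zpow_natCast, ← zpow_mul, mul_comm, zpow_mul, zpow_natCast, ← hz0o,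
        pow_orderOf_eq_one, one_zpow]
    obtain ⟨i, hi, hi'⟩ := (Nat.dvd_prime_pow hp).1 hd
    rw [hi']
    congr 1
    by_contra hne
    have : Monoid.exponent G ∣ p := by
      rw [hi']
      exact (pow_dvd_pow p (show i ≤ 1 by omega)).trans (by rw [pow_one])
    exact hab (Monoid.exponent_dvd_iff_forall_pow_eq_one.1 this _)
  have hcyc : IsCyclic ↥(Subgroup.center G) := by
    refine CfsgLib.Solvable.isCyclic_of_unique_of_comm (hG.to_subgroup _) (fun x y => Subtype.ext
      (Subgroup.mem_center_iff.1 y.2 x)) ?_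
    intro x y hx hy
    rw [← Subgroup.orderOf_coe] at hx hy
    have h1 : (a * b) ^ p ∈ Subgroup.zpowers (x : G) := hcentral _ x.2 hx _
    have h2 : (a * b) ^ p ∈ Subgroup.zpowers (y : G) := hcentral _ y.2 hy _
    have key : ∀ w : G, orderOf w = p → (a * b) ^ p ∈ Subgroup.zpowers w →
        Subgroup.zpowers ((a * b) ^ p) = Subgroup.zpowers w := fun w hw hm => by
      refine Subgroup.eq_of_le_of_card_ge (Subgroup.zpowers_le.2 hm) (le_of_eq ?_)
      have hd : orderOf ((a * b) ^ p) ∣ p := by
        have := Subgroup.card_dvd_of_le (Subgroup.zpowers_le.2 hm)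
        rwa [Nat.card_zpowers, Nat.card_zpowers, hw] at this
      rw [Nat.card_zpowers, Nat.card_zpowers, hw]
      exact ((hp.eq_one_or_self_of_dvd _ hd).resolve_left fun h => hab (orderOf_eq_one_iff.1 h)).symm
    have h3 : (x : G) ∈ Subgroup.zpowers (y : G) := by
      rw [← key _ hy h2, key _ hx h1]; exact Subgroup.mem_zpowers _
    obtain ⟨k, hk⟩ := h3
    exact ⟨k, Subtype.ext (by simpa using hk)⟩
  refine ⟨⟨a, b, htop⟩, hclass, hexp, hcyc, ?_⟩
  have h2 : (commutator G).index ≠ 1 ∧ (commutator G).index ≠ p := by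
    refine ⟨fun h => hGne (Subgroup.index_eq_one.1 h), fun h => ?_⟩
    rw [Subgroup.index_eq_card] at h
    haveI := isCyclic_of_prime_card h
    obtain ⟨g, hg⟩ := IsCyclic.exists_generator (α := G ⧸ commutator G)
    obtain ⟨x, rfl⟩ := QuotientGroup.mk'_surjective _ g
    refine hproper x (eq_top_iff.2 fun v _ => ?_)
    obtain ⟨i, hi⟩ := Subgroup.mem_zpowers_iff.1 (hg (v : G ⧸ commutator G))
    rw [show v = x ^ i * ((x ^ i)⁻¹ * v) by group]
    refine mul_mem (Subgroup.mem_sup_left (Subgroup.zpow_mem _ (Subgroup.mem_zpowers x) i)) (Subgroup.mem_sup_right ?_)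
    rw [← map_zpow] at hi
    exact QuotientGroup.eq.1 hi
  obtain ⟨m, hm⟩ : ∃ m, p - 1 = m + 1 := ⟨p - 2, by have := hp.two_le; omega⟩
  rw [hm] at hclass
  have hA := card_lcs_mul_le hG h2 m hclass
  have h3 : p ≤ Nat.card ↥((⊤ : Subgroup G).lowerCentralSeries (m + 1)) :=
    Nat.le_of_dvd Nat.card_pos (CfsgLib.PGroup.dvd_card_of_ne_bot hG hclass)
  calc p ^ (p + 1) = p * p ^ (m + 2) := by rw [← pow_succ']; congr 1; omega
    _ ≤ _ := (Nat.mul_le_mul_right _ h3).trans hA

end Cfsg.Agent.S3872
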