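import Cfsg.Statements.S3873
import Cfsg.Agent.Lib.PGroup.IrreducibleCyclic

set_option autoImplicit false
open Cfsg

namespace Cfsg.Agent.S3873

open scoped Pointwise

/-- Say that a finite group is p-exponent closed when its elements of order dividing p form a subgroup. Let G be a finite group that is not p-exponent closed, but all of whose proper subgroups and proper quotients are, and suppose G is neither simple nor a p-group. Then there is a prime q ≠ p such that G has order p · q^e, where e is the multiplicative order of q modulo p, and G has a normal elementary abelian subgroup of order q^e that is a minimal normal subgroup of G. -/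
theorem result {G : Type*} [Group G] [Finite G] {p : ℕ} [Fact p.Prime]
    (hnc : ¬ (∃ H : Subgroup G, (H : Set G) = {g : G | g ^ p = 1})) (hsub : ∀ K : Subgroup G, K ≠ ⊤ → (∃ H : Subgroup ↥K, (H : Set ↥K) = {g : ↥K | g ^ p = 1}))
    (hquo : ∀ (N : Subgroup G) [N.Normal], N ≠ ⊥ → (∃ H : Subgroup (G ⧸ N), (H : Set (G ⧸ N)) = {g : (G ⧸ N) | g ^ p = 1}))
    (hns : ¬ IsSimpleGroup G) (hnp : ¬ IsPGroup p G) :
    ∃ q : ℕ, q.Prime ∧ q ≠ p ∧ Nat.card G = p * q ^ orderOf (q : ZMod p) ∧
      ∃ A : Subgroup G, A.Normal ∧ Nat.card ↥A = q ^ orderOf (q : ZMod p) ∧ Cfsg.IsElementaryAbelian q A ∧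
        ∀ B : Subgroup G, B.Normal → B ≤ A → B = ⊥ ∨ B = A := by
  classical
  have hp : p.Prime := Fact.out
  have hmul : ∀ K : Subgroup G, K ≠ ⊤ → ∀ x ∈ K, ∀ y ∈ K, x ^ p = 1 → y ^ p = 1 → (x * y) ^ p = 1 := by
    intro K hK x hx y hy hxp hyp
    obtain ⟨H, hH⟩ := hsub K hK
    have h1 : (⟨x, hx⟩ : K) ∈ H := by
      rw [← SetLike.mem_coe, hH]; exact Subtype.ext (by simpa using hxp)
    have h2 : (⟨y, hy⟩ : K) ∈ H := by
      rw [← SetLike.mem_coe, hH]; exact Subtype.ext (by simpa using hyp)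
    have h3 := H.mul_mem h1 h2
    rw [← SetLike.mem_coe, hH] at h3
    simpa using congrArg Subtype.val h3
  have hgen : Subgroup.closure {g : G | g ^ p = 1} = ⊤ := by
    by_contra h
    refine hnc ⟨⟨⟨⟨{g : G | g ^ p = 1}, fun {a b} ha hb => hmul _ h a (Subgroup.subset_closure ha) b
      (Subgroup.subset_closure hb) ha hb⟩, one_pow p⟩, fun {a} (ha : a ^ p = 1) => ?_⟩, rfl⟩
    show a⁻¹ ^ p = 1
    rw [inv_pow, ha, inv_one]
  have hexp : ∀ N : Subgroup G, N.Normal → N ≠ ⊥ → ∀ g : G, g ^ p ∈ N := by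
    intro N _ hN g
    obtain ⟨H, hH⟩ := hquo N hN
    have hle : Subgroup.closure {g : G | g ^ p = 1} ≤ H.comap (QuotientGroup.mk' N) := by
      rw [Subgroup.closure_le]
      intro x hx
      show (x : G ⧸ N) ∈ H
      rw [← SetLike.mem_coe, hH]
      show (x : G ⧸ N) ^ p = 1
      rw [← QuotientGroup.mk_pow, show x ^ p = 1 from hx, QuotientGroup.mk_one]
    have := hle (hgen ▸ Subgroup.mem_top g)
    rw [Subgroup.mem_comap, ← SetLike.mem_coe, hH] at this
    rw [← QuotientGroup.eq_one_iff, QuotientGroup.mk_pow]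
    exact this
  have hmeet : ∀ N₁ N₂ : Subgroup G, N₁.Normal → N₂.Normal → N₁ ≠ ⊥ → N₂ ≠ ⊥ → N₁ ⊓ N₂ ≠ ⊥ := by
    intro N₁ N₂ i1 i2 h1 h2 hb
    refine hnp fun g => ⟨1, ?_⟩
    rw [pow_one]
    have := Subgroup.mem_inf.2 ⟨hexp N₁ i1 h1 g, hexp N₂ i2 h2 g⟩
    rwa [hb, Subgroup.mem_bot] at this
  haveI : Nontrivial G := by
    by_contra h
    rw [not_nontrivial_iff_subsingleton] at h
    exact hnp fun g => ⟨0, Subsingleton.elim _ _⟩
  obtain ⟨N0, hN0, hN0b, hN0t⟩ : ∃ N : Subgroup G, N.Normal ∧ N ≠ ⊥ ∧ N ≠ ⊤ := by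
    by_contra h
    push Not at h
    exact hns ⟨fun N hN => or_iff_not_imp_left.2 (h N hN)⟩
  obtain ⟨N, ⟨hNn, hNb, hNle⟩, hNmin⟩ := WellFounded.has_min (wellFounded_lt (α := Subgroup G))
    {N | N.Normal ∧ N ≠ ⊥ ∧ N ≤ N0} ⟨N0, hN0, hN0b, le_rfl⟩
  have hmin : ∀ B : Subgroup G, B.Normal → B ≤ N → B = ⊥ ∨ B = N := fun B hB hBN =>
    or_iff_not_imp_left.2 fun hBb => hBN.lt_or_eq.resolve_left fun hlt =>
      hNmin B ⟨hB, hBb, hBN.trans hNle⟩ hlt
  have hNt : N ≠ ⊤ := fun h => hN0t (top_le_iff.1 (h ▸ hNle))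
  haveI := hNn
  have hNp : ∀ n ∈ N, n ^ p = 1 → n = 1 := by
    intro n hn hnp1
    by_contra hn1
    let W : Subgroup G :=
      { carrier := {g | g ∈ N ∧ g ^ p = 1}
        mul_mem' := fun {a b} ha hb => ⟨N.mul_mem ha.1 hb.1, hmul N hNt a ha.1 b hb.1 ha.2 hb.2⟩
        one_mem' := ⟨N.one_mem, one_pow p⟩
        inv_mem' := fun {a} ha => ⟨N.inv_mem ha.1, by rw [inv_pow, ha.2, inv_one]⟩ }
    have hWn : W.Normal := ⟨fun a ha g => ⟨hNn.conj_mem a ha.1 g, by rw [conj_pow, ha.2, mul_one, mul_inv_cancel]⟩⟩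
    rcases hmin W hWn (fun a ha => ha.1) with h | h
    · exact hn1 (Subgroup.mem_bot.1 (h ▸ (⟨hn, hnp1⟩ : n ∈ W)))
    · refine hnp fun g => ⟨2, ?_⟩
      have := (h.ge (hexp N hNn hNb g)).2
      rwa [← pow_mul, ← sq] at this
  have hNcop : (Nat.card N).Coprime p := by
    refine ((hp.coprime_iff_not_dvd).2 fun h => ?_).symm
    obtain ⟨n, hn⟩ := exists_prime_orderOf_dvd_card' (G := N) p h
    have h1 := hNp n n.2 (by rw [← SubmonoidClass.coe_pow, ← hn, pow_orderOf_eq_one, OneMemClass.coe_one])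
    rw [OneMemClass.coe_eq_one.1 h1, orderOf_one] at hn
    exact hp.one_lt.ne hn
  have hcent : ∀ K : Subgroup G, K ≠ ⊤ → ∀ x ∈ K, x ^ p = 1 → ∀ n ∈ N, n * x * n⁻¹ ∈ K → n * x = x * n := by
    intro K hK x hx hxp n hn hnx
    have h1 := hmul K hK _ hnx _ (K.inv_mem hx) (by rw [conj_pow, hxp, mul_one, mul_inv_cancel])
      (by rw [inv_pow, hxp, inv_one])
    have h2 : n * x * n⁻¹ * x⁻¹ ∈ N := by
      rw [mul_assoc (n * x), mul_assoc n, ← mul_assoc x]
      exact N.mul_mem hn (hNn.conj_mem _ (N.inv_mem hn) x)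
    have h3 := hNp _ h2 h1
    rwa [mul_inv_eq_one, mul_inv_eq_iff_eq_mul] at h3
  obtain ⟨x, hxp, hxtop⟩ : ∃ x : G, x ^ p = 1 ∧ N ⊔ Subgroup.zpowers x = ⊤ := by
    by_contra h
    push Not at h
    have hNc : N ≤ Subgroup.center G := by
      intro n hn
      rw [Subgroup.mem_center_iff]
      intro g
      have hle : Subgroup.closure {g : G | g ^ p = 1} ≤ Subgroup.centralizer {n} := by
        rw [Subgroup.closure_le]
        intro x hx
        rw [SetLike.mem_coe, Subgroup.mem_centralizer_iff]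
        intro m hm
        rw [Set.mem_singleton_iff.1 hm]
        refine hcent _ (h x hx) x (Subgroup.mem_sup_right (Subgroup.mem_zpowers x)) hx n hn ?_
        exact Subgroup.mul_mem _ (Subgroup.mul_mem _ (Subgroup.mem_sup_left hn)
          (Subgroup.mem_sup_right (Subgroup.mem_zpowers x))) (Subgroup.mem_sup_left (N.inv_mem hn))
      exact ((Subgroup.mem_centralizer_iff.1 (hle (hgen ▸ Subgroup.mem_top g))) n rfl).symm
    have hquot : IsPGroup p (G ⧸ N) := fun g => by
      obtain ⟨g, rfl⟩ := QuotientGroup.mk_surjective g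
      exact ⟨1, by rw [pow_one, ← QuotientGroup.mk_pow, QuotientGroup.eq_one_iff]; exact hexp N hNn hNb g⟩
    haveI : Group.IsNilpotent (G ⧸ N) := hquot.isNilpotent
    have hnil : Group.IsNilpotent G := Subgroup.isNilpotent_of_ker_le_center (QuotientGroup.mk' N)
      (by rw [QuotientGroup.ker_mk']; exact hNc)
    obtain ⟨P⟩ := (inferInstance : Nonempty (Sylow p G))
    have hPn : (P : Subgroup G).Normal := (((Group.isNilpotent_of_finite_tfae (G := G)).out 0 3 rfl rfl).mp hnil) p ⟨hp⟩ P
    have hPb : (P : Subgroup G) ≠ ⊥ := by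
      intro hb
      have h1 : Subgroup.closure {g : G | g ^ p = 1} = ⊥ := by
        rw [Subgroup.closure_eq_bot_iff]
        intro g hg
        obtain ⟨Q, hQ⟩ := (IsPGroup.of_card (n := (orderOf g).factorization p) (p := p) (G := Subgroup.zpowers g) (by
          rw [Nat.card_zpowers]
          obtain ⟨i, -, hi⟩ := (Nat.dvd_prime_pow hp).1 (show orderOf g ∣ p ^ 1 by rw [pow_one]; exact orderOf_dvd_of_pow_eq_one hg)
          rw [hi, hp.factorization_pow, Finsupp.single_eq_same])).exists_le_sylow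
        obtain ⟨c, rfl⟩ := MulAction.exists_smul_eq G P Q
        have := hQ (Subgroup.mem_zpowers g)
        rw [Sylow.coe_subgroup_smul, hb, Subgroup.smul_bot, Subgroup.mem_bot] at this
        exact this
      rw [hgen] at h1
      exact top_ne_bot h1
    refine hmeet N P hNn hPn hNb hPb (disjoint_iff.1 (Subgroup.disjoint_of_coprime_natCard ?_))
    rw [P.card_eq_multiplicity]
    exact hNcop.pow_right _
  have hx1 : x ≠ 1 := by
    rintro rfl
    rw [Subgroup.zpowers_one_eq_bot, sup_bot_eq] at hxtop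
    exact hNt hxtop
  have hxo : orderOf x = p := orderOf_eq_prime hxp hx1
  have hxN : N ⊓ Subgroup.zpowers x = ⊥ := disjoint_iff.1 (Subgroup.disjoint_of_coprime_natCard
    (by rw [Nat.card_zpowers, hxo]; exact hNcop))
  have hcompl : N.IsComplement' (Subgroup.zpowers x) :=
    Subgroup.isComplement'_of_disjoint_and_mul_eq_univ (disjoint_iff.2 hxN)
      (by rw [← Subgroup.normal_mul, hxtop, Subgroup.coe_top])
  have hGcard : Nat.card G = Nat.card N * p := by
    rw [← hcompl.card_mul, Nat.card_zpowers, hxo]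
  let Z : Sylow p G := Sylow.ofCard (Subgroup.zpowers x) (by
    rw [Nat.card_zpowers, hxo, hGcard, Nat.factorization_mul Nat.card_pos.ne' hp.ne_zero, Finsupp.add_apply,
      Nat.factorization_eq_zero_of_not_dvd (hp.coprime_iff_not_dvd.1 hNcop.symm),
      hp.factorization_self, zero_add, pow_one])
  have hxnc : ¬ ∀ n ∈ N, n * x = x * n := by
    intro hall
    have hn : (Subgroup.zpowers x).Normal := by
      rw [← Subgroup.normalizer_eq_top_iff, eq_top_iff, ← hxtop]
      refine sup_le (fun n hn => ?_) Subgroup.le_normalizer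
      rw [Subgroup.mem_normalizer_iff]
      intro y
      have hny : ∀ y ∈ Subgroup.zpowers x, n * y * n⁻¹ = y := by
        rintro y ⟨i, rfl⟩
        rw [mul_inv_eq_iff_eq_mul]
        exact (Commute.zpow_right (hall n hn) i).eq
      refine ⟨fun hy => (hny y hy).symm ▸ hy, fun hy => ?_⟩
      have h1 := hny _ hy
      have : n * y * n⁻¹ = y := by
        have h2 := congrArg (fun z => n⁻¹ * z * n) h1
        simpa [mul_assoc] using h2
      exact this ▸ hy
    exact hmeet N _ hNn hn hNb (by rw [Ne, Subgroup.zpowers_eq_bot]; exact hx1) hxN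
  have hsyl : ∀ r : ℕ, r.Prime → ∃ Q : Subgroup G, Q ≤ N ∧
      Nat.card Q = r ^ (Nat.card N).factorization r ∧ x ∈ Subgroup.normalizer (Q : Set G) := by
    intro r hr
    haveI : Fact r.Prime := ⟨hr⟩
    obtain ⟨Q0⟩ := (inferInstance : Nonempty (Sylow r N))
    let Q1 : Subgroup G := (Q0 : Subgroup N).map N.subtype
    have hfr := Q0.normalizer_sup_eq_top
    have hpdvd : p ∣ Nat.card (Subgroup.normalizer (Q1 : Set G)) := by
      by_contra h
      have hle : Subgroup.normalizer (Q1 : Set G) ≤ N := by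
        intro g hg
        rw [← QuotientGroup.eq_one_iff (N := N) g]
        have h1 : orderOf (g : G ⧸ N) ∣ p := orderOf_dvd_of_pow_eq_one (by
          rw [← QuotientGroup.mk_pow, QuotientGroup.eq_one_iff]; exact hexp N hNn hNb g)
        have h2 : orderOf (g : G ⧸ N) ∣ Nat.card (Subgroup.normalizer (Q1 : Set G)) :=
          (orderOf_map_dvd (QuotientGroup.mk' N) g).trans (Subgroup.orderOf_dvd_natCard _ hg)
        rcases (Nat.dvd_prime hp).1 h1 with h3 | h3
        · exact orderOf_eq_one_iff.1 h3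
        · exact absurd (h3 ▸ h2) h
      exact hNt (by rw [← hfr]; exact (sup_eq_right.2 hle).symm)
    obtain ⟨y, hy⟩ := exists_prime_orderOf_dvd_card' (G := Subgroup.normalizer (Q1 : Set G)) p hpdvd
    have hyz : IsPGroup p (Subgroup.zpowers (y : G)) :=
      IsPGroup.of_card (n := 1) (by rw [Nat.card_zpowers, Subgroup.orderOf_coe, hy, pow_one])
    obtain ⟨Y, hY⟩ := hyz.exists_le_sylow
    obtain ⟨c, hc⟩ := MulAction.exists_smul_eq G Y Z
    have hxmem : x ∈ (Subgroup.normalizer (Q1 : Set G)).map (MulAut.conj c).toMonoidHom := by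
      have h1 : (Subgroup.zpowers (y : G)).map (MulAut.conj c).toMonoidHom = Subgroup.zpowers x := by
        refine Subgroup.eq_of_le_of_card_ge ?_ (le_of_eq ?_)
        · refine (Subgroup.map_mono hY).trans ?_
          show _ ≤ (Z : Subgroup G)
          rw [← hc, Sylow.coe_subgroup_smul, Subgroup.pointwise_smul_def]
          rfl
        · rw [Subgroup.card_map_of_injective (MulAut.conj c).injective, Nat.card_zpowers,
            Nat.card_zpowers, hxo, Subgroup.orderOf_coe, hy]
      exact (Subgroup.map_mono (Subgroup.zpowers_le.2 y.2)) (h1 ▸ Subgroup.mem_zpowers x)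
    refine ⟨Q1.map (MulAut.conj c).toMonoidHom, ?_, ?_, ?_⟩
    · rintro _ ⟨_, ⟨n, -, rfl⟩, rfl⟩
      exact hNn.conj_mem _ n.2 c
    · rw [Subgroup.card_map_of_injective (MulAut.conj c).injective,
        Subgroup.card_map_of_injective N.subtype_injective, Q0.card_eq_multiplicity]
    · exact Subgroup.le_normalizer_map _ hxmem
  obtain ⟨q, hq, Q, hQN, hQcard, hQnorm, hQtop⟩ : ∃ q : ℕ, q.Prime ∧ ∃ Q : Subgroup G, Q ≤ N ∧
      Nat.card Q = q ^ (Nat.card N).factorization q ∧ x ∈ Subgroup.normalizer (Q : Set G) ∧ Q ⊔ Subgroup.zpowers x = ⊤ := by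
    by_contra h
    push Not at h
    refine hxnc fun n hn => ?_
    have hle : N ≤ Subgroup.centralizer {x} := by
      have hsub : N ⊓ Subgroup.centralizer {x} = N := by
        refine Subgroup.eq_of_le_of_card_ge inf_le_left (Nat.le_of_dvd Nat.card_pos ?_)
        rw [← Nat.factorization_le_iff_dvd Nat.card_pos.ne' Nat.card_pos.ne']
        intro r
        by_cases hr : r.Prime
        · obtain ⟨Q, hQN, hQc, hQx⟩ := hsyl r hr
          refine (hr.pow_dvd_iff_le_factorization Nat.card_pos.ne').1 (hQc ▸ Subgroup.card_dvd_of_le ?_)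
          intro m hm
          refine ⟨hQN hm, ?_⟩
          show m ∈ Subgroup.centralizer {x}
          rw [Subgroup.mem_centralizer_iff]
          intro z hz
          rw [Set.mem_singleton_iff.1 hz]
          exact (hcent _ (h r hr Q hQN hQc hQx) x (Subgroup.mem_sup_right (Subgroup.mem_zpowers x)) hxp m (hQN hm)
            (Subgroup.mul_mem _ (Subgroup.mul_mem _ (Subgroup.mem_sup_left hm)
              (Subgroup.mem_sup_right (Subgroup.mem_zpowers x))) (Subgroup.mem_sup_left (Q.inv_mem hm)))).symm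
        · simp [Nat.factorization_eq_zero_of_not_prime _ hr]
      exact inf_eq_left.1 hsub
    exact ((Subgroup.mem_centralizer_iff.1 (hle hn)) x rfl).symm
  have hQeq : Q = N := by
    refine le_antisymm hQN fun n hn => ?_
    have hmem : n ∈ ((Q : Set G) * (Subgroup.zpowers x : Set G)) := by
      rw [← Subgroup.coe_mul_of_right_le_normalizer_left Q (Subgroup.zpowers x) (Subgroup.zpowers_le.2 hQnorm), hQtop]
      exact Subgroup.mem_top n
    obtain ⟨a, ha, b, hb, rfl⟩ := hmem
    have hb1 : b ∈ N ⊓ Subgroup.zpowers x := ⟨by simpa using N.mul_mem (N.inv_mem (hQN ha)) hn, hb⟩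
    rw [hxN, Subgroup.mem_bot] at hb1
    show a * b ∈ Q
    rw [hb1, mul_one]
    exact ha
  subst hQeq
  haveI : Fact q.Prime := ⟨hq⟩
  have hd : (Nat.card Q).factorization q ≠ 0 := by
    intro h
    rw [h, pow_zero] at hQcard
    exact hNb (Subgroup.eq_bot_of_card_eq _ hQcard)
  have hqp : q ≠ p := by
    rintro rfl
    exact (hp.coprime_iff_not_dvd.1 hNcop.symm) (hQcard ▸ dvd_pow_self q hd)
  have hQp : IsPGroup q Q := IsPGroup.of_card hQcard
  haveI : Group.IsNilpotent Q := hQp.isNilpotent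
  have hab : IsMulCommutative Q := by
    have hQc : (⁅Q, Q⁆ : Subgroup G) = ⊥ := by
      refine (hmin _ (Subgroup.commutator_normal Q Q) (Subgroup.commutator_le_self Q)).resolve_right fun h => hNb ?_
      have h1 : ∀ n, Q ≤ ((⊤ : Subgroup Q).lowerCentralSeries n).map Q.subtype := by
        intro n
        induction n with
        | zero => rw [Subgroup.lowerCentralSeries_zero, ← MonoidHom.range_eq_map, Subgroup.range_subtype]
        | succ n ih =>
          rw [Subgroup.lowerCentralSeries_succ, Subgroup.map_commutator, ← MonoidHom.range_eq_map,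
            Subgroup.range_subtype]
          exact h.ge.trans (Subgroup.commutator_mono ih le_rfl)
      obtain ⟨n, hn⟩ := Subgroup.nilpotent_iff_lowerCentralSeries.1 (inferInstance : Group.IsNilpotent Q)
      have := h1 n
      rw [hn, Subgroup.map_bot] at this
      exact le_bot_iff.1 this
    exact ⟨⟨fun a b => Subtype.ext (commutatorElement_eq_one_iff_mul_comm.1
      (Subgroup.mem_bot.1 (hQc ▸ Subgroup.commutator_mem_commutator a.2 b.2)))⟩⟩
  have hc : ∀ a ∈ Q, ∀ b ∈ Q, a * b = b * a := fun a ha b hb =>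
    congrArg Subtype.val (hab.is_comm.comm ⟨a, ha⟩ ⟨b, hb⟩)
  let W : Subgroup G :=
    { carrier := {g | g ∈ Q ∧ g ^ q = 1}
      mul_mem' := fun {a b} ha hb => ⟨Q.mul_mem ha.1 hb.1, by
        rw [(show Commute a b from hc a ha.1 b hb.1).mul_pow, ha.2, hb.2, mul_one]⟩
      one_mem' := ⟨Q.one_mem, one_pow q⟩
      inv_mem' := fun {a} ha => ⟨Q.inv_mem ha.1, by rw [inv_pow, ha.2, inv_one]⟩ }
  have hWn : W.Normal := ⟨fun a ha g => ⟨hNn.conj_mem a ha.1 g, by rw [conj_pow, ha.2, mul_one, mul_inv_cancel]⟩⟩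
  have hexq : ∀ a ∈ Q, a ^ q = 1 := by
    rcases hmin W hWn (fun a ha => ha.1) with h | h
    · obtain ⟨a, ha⟩ := exists_prime_orderOf_dvd_card' (G := Q) q (hQcard ▸ dvd_pow_self q hd)
      have hmem : (a : G) ∈ W := ⟨a.2, by rw [← SubmonoidClass.coe_pow, ← ha, pow_orderOf_eq_one, OneMemClass.coe_one]⟩
      rw [h, Subgroup.mem_bot] at hmem
      rw [OneMemClass.coe_eq_one.1 hmem, orderOf_one] at ha
      exact absurd ha hq.one_lt.ne
    · exact fun a ha => (h.ge ha).2
  letI : CommGroup Q := { (inferInstance : Group Q) with mul_comm := fun a b => hab.is_comm.comm a b }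
  let φ : Additive Q →+ Additive Q := MonoidHom.toAdditive
    (MonoidHom.mk' (fun a : Q => (⟨x * a * x⁻¹, hNn.conj_mem _ a.2 x⟩ : Q)) fun a b => Subtype.ext (by simp [mul_assoc]))
  have hφ : ∀ k : ℕ, ∀ a : Additive Q, ((Additive.toMul (φ^[k] a) : Q) : G) = x ^ k * (Additive.toMul a : Q) * (x ^ k)⁻¹ := by
    intro k
    induction k with
    | zero => intro a; simp
    | succ k ih =>
      intro a
      rw [Function.iterate_succ_apply', show ((Additive.toMul (φ (φ^[k] a)) : Q) : G) = x * (Additive.toMul (φ^[k] a) : Q) * x⁻¹ from rfl,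
        ih, pow_succ', mul_inv_rev]
      simp only [mul_assoc]
  have hcard := CfsgLib.PGroup.card_of_irreducible (p := p) (q := q) hqp (M := Additive Q)
    (fun a => Additive.toMul.injective (Subtype.ext (by simpa using hexq _ (Additive.toMul a).2))) φ
    (fun a => Additive.toMul.injective (Subtype.ext (by rw [hφ, hxp, one_mul, inv_one, mul_one])))
    (by
      by_contra h
      push Not at h
      refine hxnc fun n hn => ?_
      have := congrArg (fun z => ((Additive.toMul z : Q) : G)) (h (Additive.ofMul ⟨n, hn⟩))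
      exact (mul_inv_eq_iff_eq_mul.1 this).symm)
    fun H hH => by
      let B : Subgroup G := (AddSubgroup.toSubgroup' H).map Q.subtype
      have hB : B.Normal := by
        rw [← Subgroup.normalizer_eq_top_iff, eq_top_iff, ← hxtop]
        refine sup_le (fun n hn => Subgroup.centralizer_le_normalizer _ ?_) (Subgroup.zpowers_le.2 ?_)
        · rw [Subgroup.mem_centralizer_iff]
          rintro _ ⟨b, -, rfl⟩
          exact hc _ b.2 n hn
        · exact Subgroup.mem_normalizer_fintype (S := (B : Set G)) (by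
            rintro _ ⟨b, hb, rfl⟩
            exact ⟨_, hH _ hb, rfl⟩)
      rcases hmin B hB (Subgroup.map_subtype_le _) with h | h
      · left
        rw [eq_bot_iff]
        intro a ha
        have : ((Additive.toMul a : Q) : G) ∈ B := ⟨_, ha, rfl⟩
        rw [h, Subgroup.mem_bot] at this
        exact Additive.toMul.injective (OneMemClass.coe_eq_one.1 this)
      · right
        rw [eq_top_iff]
        intro a _
        obtain ⟨b, hb, hba⟩ := h.ge (Additive.toMul a).2
        have h2 : Additive.toMul a = b := (Subtype.ext hba).symm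
        exact (show a = Additive.ofMul b from h2) ▸ hb
  have hQe : Nat.card Q = q ^ orderOf (q : ZMod p) := hcard
  exact ⟨q, hq, hqp, by rw [hGcard, hQe, mul_comm], Q, hNn, hQe, ⟨hab, hexq⟩, hmin⟩

end Cfsg.Agent.S3873
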