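import Cfsg.Statements.S3875
import Mathlib
import Cfsg.Agent.S0999
import Cfsg.Agent.Lib.LocalEven.PClosed
import Cfsg.Agent.Lib.Solvable.CoprimeAction
import Cfsg.Agent.Lib.Classical.Dickson.MinimalSimple

set_option autoImplicit false
set_option linter.style.haveILetI false
open Cfsg

namespace Cfsg.Agent.S3875

open Subgroup

/-- A `q`-subgroup moved by a `p`-element has order at least `m`. -/
theorem mul_le_card {G : Type*} [Group G] [Finite G] {p q : ℕ} [hp : Fact p.Prime] [hq : Fact q.Prime]
    (hqp : q ≠ p) {m : ℕ} (hleast : ∀ k : ℕ, IsPrimePow k → k % p = 1 → m ≤ k) {x : G} {Q : Subgroup G}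
    (hQ : IsPGroup q Q) (hx : IsPGroup p (zpowers x)) (hxQ : x ∈ normalizer (Q : Set G))
    (hnc : ¬ Q ≤ centralizer ({x} : Set G)) : p * m ≤ Nat.card G := by
  classical
  set A := zpowers x with hA
  have hAQ : ∀ (a : A), ∀ y ∈ Q, (a : G) * y * (a : G)⁻¹ ∈ Q := fun a y hy =>
    (mem_normalizer_iff.1 (zpowers_le.2 hxQ a.2) y).1 hy
  letI : MulAction A Q :=
    { smul := fun a y => ⟨(a : G) * y * (a : G)⁻¹, hAQ a y y.2⟩
      one_smul := fun y => Subtype.ext (by show (1 : G) * y * (1 : G)⁻¹ = y; group)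
      mul_smul := fun a b y => Subtype.ext (by
        show ((a : G) * b) * y * ((a : G) * b)⁻¹ = (a : G) * ((b : G) * y * (b : G)⁻¹) * (a : G)⁻¹
        group) }
  have hmod := hx.card_modEq_card_fixedPoints Q
  have e : Nat.card (MulAction.fixedPoints A Q) = Nat.card (Q ⊓ centralizer ({x} : Set G) : Subgroup G) := by
    refine Nat.card_congr
      { toFun := fun y => ⟨(y.1 : G), y.1.2, mem_centralizer_singleton_iff.2 ?_⟩
        invFun := fun y => ⟨⟨y.1, y.2.1⟩, fun a => Subtype.ext ?_⟩
        left_inv := fun y => rfl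
        right_inv := fun y => rfl }
    · have h1 : x * (y.1 : G) * x⁻¹ = y.1 := congrArg Subtype.val (y.2 ⟨x, mem_zpowers x⟩)
      rw [mul_inv_eq_iff_eq_mul] at h1
      exact h1.symm
    · obtain ⟨i, hi⟩ := a.2
      show (a : G) * y.1 * (a : G)⁻¹ = y.1
      rw [← hi]
      have h2 : Commute (x ^ i) (y.1 : G) :=
        Commute.zpow_left (mem_centralizer_singleton_iff.1 y.2.2).symm i
      show x ^ i * y.1 * (x ^ i)⁻¹ = y.1
      rw [h2.eq, mul_inv_cancel_right]
  obtain ⟨a, ha⟩ := IsPGroup.iff_card.1 hQ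
  obtain ⟨b, hb⟩ := IsPGroup.iff_card.1 (hQ.to_le (inf_le_left : Q ⊓ centralizer ({x} : Set G) ≤ Q))
  have hba : b < a := by
    refine (Nat.pow_lt_pow_iff_right hq.out.one_lt).1 ?_
    rw [← ha, ← hb]
    refine lt_of_le_of_ne (card_le_of_le inf_le_left) fun e' => hnc ?_
    exact (eq_of_le_of_card_ge inf_le_left e'.ge).ge.trans inf_le_right
  rw [e, ha, hb] at hmod
  have h3 : q ^ (a - b) % p = 1 := by
    have h4 : q ^ b * q ^ (a - b) ≡ q ^ b * 1 [MOD p] := by
      rwa [← pow_add, mul_one, Nat.add_sub_cancel' hba.le]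
    have h5 : (q ^ b).Coprime p :=
      Nat.Coprime.pow_left b ((Nat.coprime_primes hq.out hp.out).2 hqp)
    have h6 : q ^ (a - b) % p = 1 % p := Nat.ModEq.cancel_left_of_coprime h5.symm h4
    rwa [Nat.mod_eq_of_lt hp.out.one_lt] at h6
  have hm : m ≤ Nat.card Q :=
    (hleast _ (hq.out.isPrimePow.pow (by omega)) h3).trans
      (ha ▸ Nat.pow_le_pow_right hq.out.pos (Nat.sub_le a b))
  have hdisj : Disjoint A Q := by
    refine hx.disjoint_of_ne p q (Ne.symm hqp) _ _ ?_
    exact hQ
  have hpA : p ≤ Nat.card A := by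
    obtain ⟨i, hi⟩ := IsPGroup.iff_card.1 hx
    rw [hi]
    refine Nat.le_self_pow (fun h0 => hnc fun y hy => mem_centralizer_singleton_iff.2 ?_) p
    rw [h0, pow_zero] at hi
    have h1 : x = 1 := by
      have := eq_bot_of_card_eq A hi
      rwa [hA, zpowers_eq_bot] at this
    simp [h1]
  calc p * m ≤ Nat.card A * Nat.card Q := Nat.mul_le_mul hpA hm
    _ = Nat.card (A × Q) := (Nat.card_prod _ _).symm
    _ ≤ Nat.card G := Nat.card_le_card_of_injective _ (mul_injective_of_disjoint hdisj)

/-- A group with all Sylow subgroups centralised. -/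
theorem exists_moved_sylow {G : Type*} [Group G] [Finite G] {p : ℕ} [hp : Fact p.Prime]
    {T N : Subgroup G} (hT : IsPGroup p T) (hTN : T ≤ normalizer (N : Set G))
    (hcop : ¬ p ∣ Nat.card N) (hnc : ¬ N ≤ centralizer (T : Set G)) :
    ∃ (q : ℕ) (_ : Fact q.Prime) (Q : Subgroup G) (x : G), q ≠ p ∧ IsPGroup q Q ∧
      IsPGroup p (zpowers x) ∧ x ∈ normalizer (Q : Set G) ∧ ¬ Q ≤ centralizer ({x} : Set G) := by
  classical
  have hcop' : (Nat.card T).Coprime (Nat.card N) := by
    obtain ⟨i, hi⟩ := IsPGroup.iff_card.1 hT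
    rw [hi]
    exact Nat.Coprime.pow_left i (hp.out.coprime_iff_not_dvd.2 hcop)
  haveI := hT.isNilpotent
  by_contra hno
  push Not at hno
  refine hnc ?_
  suffices hle : (centralizer (T : Set G)).subgroupOf N = ⊤ from subgroupOf_eq_top.1 hle
  set C := (centralizer (T : Set G)).subgroupOf N with hC
  refine eq_top_of_card_eq C (Nat.dvd_antisymm (card_subgroup_dvd_card C) ?_)
  rw [← Nat.factorization_le_iff_dvd Nat.card_pos.ne' Nat.card_pos.ne', Finsupp.le_iff]
  intro q hq
  haveI := Fact.mk (Nat.prime_of_mem_primeFactors hq)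
  have hqp : q ≠ p := fun e => hcop (e ▸ Nat.dvd_of_mem_primeFactors hq)
  obtain ⟨Q, hQ⟩ := CfsgLib.Solvable.exists_invariant_sylow T N hTN hcop' (Or.inl inferInstance) q
  have hle : (Q : Subgroup N) ≤ C := by
    intro y hy
    refine mem_centralizer_iff.2 fun t ht => ?_
    have h1 := hno q inferInstance ((Q : Subgroup N).map N.subtype) t hqp (Q.2.map _)
      (hT.to_le (zpowers_le.2 ht)) (hQ ht)
    exact (mem_centralizer_singleton_iff.1 (h1 ⟨y, hy, rfl⟩)).symm
  have h1 := card_dvd_of_le hle
  rw [Q.card_eq_multiplicity] at h1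
  exact (Nat.Prime.pow_dvd_iff_le_factorization Fact.out Nat.card_pos.ne').1 h1

/-- The lower bound. -/
theorem lower_bound (p : ℕ) [hp : Fact p.Prime] (hp2 : p ≠ 2) (m : ℕ)
    (hleast : ∀ k : ℕ, IsPrimePow k → k % p = 1 → m ≤ k) :
    ∀ n : ℕ, ∀ (H : Type) [Group H] [Finite H], Nat.card H = n → ¬ Cfsg.IsPClosed p H →
      min (p * m) (p * (p ^ 2 - 1) / 2) ≤ n := by
  intro n
  induction n using Nat.strong_induction_on with
  | _ n ih =>
    intro H _ _ hn hncl
    by_contra hlt
    push Not at hlt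
    obtain ⟨T⟩ : Nonempty (Sylow p H) := inferInstance
    have hTn : ¬ (T : Subgroup H).Normal := fun hT => hncl fun P => by
      obtain ⟨g, rfl⟩ := MulAction.exists_smul_eq H T P
      haveI := hT
      rw [Sylow.coe_subgroup_smul, Normal.conj_smul_eq_self]
      exact hT
    have hpdvd : p ∣ Nat.card H := by
      by_contra hd
      refine hTn ?_
      have : (T : Subgroup H) = ⊥ := by
        obtain ⟨i, hi⟩ := IsPGroup.iff_card.1 T.2
        rcases Nat.eq_zero_or_pos i with rfl | hi0
        · exact eq_bot_of_card_eq _ (by simpa using hi)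
        · exact absurd ((dvd_pow_self p hi0.ne').trans (hi ▸ card_subgroup_dvd_card _)) hd
      rw [this]; infer_instance
    have hsub : ∀ K : Subgroup H, K ≠ ⊤ → Cfsg.IsPClosed p K := fun K hK => by
      by_contra hc
      have hKlt : Nat.card K < n := hn ▸
        lt_of_le_of_ne (card_le_card_group K) fun e => hK (eq_top_of_card_eq K e)
      exact absurd (ih _ hKlt K rfl hc) (by omega)
    by_cases hs : ∃ N : Subgroup H, N.Normal ∧ N ≠ ⊥ ∧ N ≠ ⊤
    · -- a proper normal subgroup
      have hquot : ∀ (N : Subgroup H) [N.Normal], N ≠ ⊥ → Cfsg.IsPClosed p (H ⧸ N) := by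
        intro N _ hN
        by_contra hc
        have hlt' : Nat.card (H ⧸ N) < n := by
          rw [← hn, ← N.card_mul_index, Subgroup.index]
          have h1 : 1 < Nat.card N := (one_lt_card_iff_ne_bot N).2 hN
          exact lt_mul_of_one_lt_left Nat.card_pos h1
        exact absurd (ih _ hlt' (H ⧸ N) rfl hc) (by omega)
      have hcore : pCore p H = ⊥ := by
        by_contra hc
        haveI : (pCore p H).Normal := inferInstance
        refine hncl ((CfsgLib.LocalEven.PClosed.iff_sylow_le T).2 ?_)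
        rw [← CfsgLib.LocalEven.PClosed.pCore_map_mk (CfsgLib.Cores.isPGroup_pCore p),
          ← Subgroup.map_le_iff_le_comap]
        exact CfsgLib.LocalEven.PClosed.iff_forall_le_pCore.1 (hquot _ hc) _ (T.2.map _)
      obtain ⟨N, hNn, hN1, hNtop⟩ := hs
      haveI := hNn
      have hNp : ¬ p ∣ Nat.card N := by
        intro hd
        obtain ⟨y, hy⟩ := exists_prime_orderOf_dvd_card' p hd
        have hyp : IsPGroup p (zpowers (y : H)) := IsPGroup.of_card (n := 1) (by
          rw [Nat.card_zpowers, Subgroup.orderOf_coe, hy, pow_one])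
        have := CfsgLib.LocalEven.PClosed.le_pCore_of_normal (hsub N hNtop) hyp (zpowers_le.2 y.2)
          (mem_zpowers _)
        rw [hcore, mem_bot] at this
        rw [show y = 1 from Subtype.ext this, orderOf_one] at hy
        exact hp.out.ne_one hy.symm
      -- `N T` is normal
      set W := ((T : Subgroup H).map (QuotientGroup.mk' N)).comap (QuotientGroup.mk' N) with hW
      haveI hWn : W.Normal := by
        have hP := T.mapSurjective (QuotientGroup.mk'_surjective N)
        haveI : ((T : Subgroup H).map (QuotientGroup.mk' N)).Normal := by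
          have := hquot N hN1 (T.mapSurjective (QuotientGroup.mk'_surjective N))
          rwa [Sylow.coe_mapSurjective] at this
        infer_instance
      have hWtop : W = ⊤ := by
        by_contra hW1
        have h1 := CfsgLib.LocalEven.PClosed.le_pCore_of_normal (hsub W hW1) T.2
          (Subgroup.le_comap_map _ _)
        rw [hcore, le_bot_iff] at h1
        exact hTn (h1 ▸ inferInstance)
      have hsup : (T : Subgroup H) ⊔ N = ⊤ := by
        rw [← hWtop, hW, comap_map_eq, QuotientGroup.ker_mk']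
      have hnc : ¬ N ≤ centralizer ((T : Subgroup H) : Set H) := by
        intro hle
        refine hTn (normalizer_eq_top_iff.1 (top_le_iff.1 ?_))
        rw [← hsup]
        refine sup_le le_normalizer fun g hg => mem_normalizer_iff.2 fun t => ?_
        constructor
        · intro ht
          rwa [← mem_centralizer_iff.1 (hle hg) t ht, mul_inv_cancel_right]
        · intro ht
          have h1 := mem_centralizer_iff.1 (hle hg) _ ht
          have h2 : g * t * g⁻¹ = t := mul_left_cancel (a := g) (by rw [← h1]; group)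
          rwa [h2] at ht
      obtain ⟨q, hq, Q, x, hqp, hQ, hx, hxQ, hQc⟩ := exists_moved_sylow T.2
        (by rw [normalizer_eq_top]; exact le_top) hNp hnc
      have := mul_le_card hqp hleast hQ hx hxQ hQc
      omega
    · -- simple
      push Not at hs
      haveI : Nontrivial H := Finite.one_lt_card_iff_nontrivial.1
        (lt_of_lt_of_le hp.out.one_lt (Nat.le_of_dvd Nat.card_pos hpdvd))
      haveI : IsSimpleGroup H := ⟨fun N hN => or_iff_not_imp_left.2 (hs N hN)⟩
      have hncyc : ¬ IsCyclic H := fun hc => hncl fun P => by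
        haveI := hc
        letI := IsCyclic.commGroup (α := H)
        exact ⟨fun y hy g => by rwa [mul_comm g y, mul_inv_cancel_right]⟩
      have hp5 : 2 * (p * (p ^ 2 - 1) / 2) < 2 * p ^ 3 := by
        have h1 : p * (p ^ 2 - 1) / 2 * 2 ≤ p * (p ^ 2 - 1) := Nat.div_mul_le_self _ _
        have h2 : p * (p ^ 2 - 1) < p * p ^ 2 :=
          Nat.mul_lt_mul_of_pos_left (Nat.sub_lt (pow_pos hp.out.pos 2) one_pos) hp.out.pos
        have h3 : p * p ^ 2 = p ^ 3 := by ring
        omega
      rcases Cfsg.Agent.S0999.result hncyc p hp.out hpdvd (by omega) with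
        ⟨F, _, _, hF, h3, ⟨e⟩⟩ | ⟨k, F, _, _, hF, hk, h3, ⟨e⟩⟩
      · have h := CfsgLib.Classical.Dickson.gcd_mul_card_PSL hF
        rw [← Nat.card_congr e.toEquiv, hn] at h
        have hg : Nat.gcd 2 (p - 1) = 2 :=
          Nat.gcd_eq_left (by rcases hp.out.eq_two_or_odd with h2 | h2 <;> omega)
        rw [hg] at h
        have h4 : (p - 1) * (p + 1) = p ^ 2 - 1 := by
          rw [mul_comm, ← Nat.sq_sub_sq]
        rw [h4] at h
        omega
      · have h := CfsgLib.Classical.Dickson.gcd_mul_card_PSL hF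
        rw [← Nat.card_congr e.toEquiv, hn] at h
        have hk0 : k ≠ 0 := fun h0 => by rw [h0] at hk; omega
        have hg : Nat.gcd 2 (2 ^ k - 1) = 1 := by
          refine Nat.prime_two.coprime_iff_not_dvd.2 ?_
          have : 2 ∣ 2 ^ k := dvd_pow_self 2 hk0
          omega
        have hp5 : 5 ≤ p := by
          rcases Nat.eq_or_lt_of_le (show 4 ≤ p by omega) with h4 | h4
          · exact absurd (h4 ▸ hp.out) (by norm_num)
          · omega
        rw [hg, one_mul] at h
        set r := 2 ^ k with hr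
        obtain ⟨r', hr'⟩ : ∃ r', r = r' + 4 := ⟨r - 4, by omega⟩
        have h1 : r - 1 = r' + 3 := by omega
        have h2 : p ^ 2 - 1 = (r' + 5) * (r' + 5) - 1 := by rw [hk, hr']; ring_nf
        have h5 : p * (p ^ 2 - 1) ≤ 2 * n := by
          have h6 : (r' + 5) * (r' + 5) - 1 = (r' + 4) * (r' + 6) := by
            have : (r' + 5) * (r' + 5) = (r' + 4) * (r' + 6) + 1 := by ring
            omega
          rw [h2, h6, h, h1, hk, hr']
          calc (r' + 4 + 1) * ((r' + 4) * (r' + 6))
              ≤ (r' + 4 + 1) * ((r' + 4) * (2 * (r' + 3))) := by gcongr; omega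
            _ = _ := by ring
        omega

/-- An element of order `p` generating a non-normal subgroup of order coprime index. -/
theorem affine_example (p : ℕ) [hp : Fact p.Prime] (m : ℕ) (hm : IsPrimePow m) (hm1 : m % p = 1) :
    ∃ (H : Type) (_ : Group H) (_ : Finite H), Nat.card H = p * m ∧ ¬ Cfsg.IsPClosed p H := by
  classical
  obtain ⟨l, k, hl, hk, rfl⟩ := hm
  haveI : Fact l.Prime := ⟨hl.nat_prime⟩
  let F := GaloisField l k
  haveI : Fintype F := Fintype.ofFinite F
  have hF : Nat.card F = l ^ k := GaloisField.card l k (by omega)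
  have hdvd : p ∣ Nat.card Fˣ := by
    rw [Nat.card_units, hF]
    exact (Nat.modEq_iff_dvd' (Nat.one_le_pow _ _ hl.nat_prime.pos)).1
      (show 1 % p = l ^ k % p by rw [hm1, Nat.mod_eq_of_lt hp.out.one_lt])
  obtain ⟨u, hu⟩ := exists_prime_orderOf_dvd_card' p hdvd
  let φ : zpowers u →* MulAut (Multiplicative F) :=
    { toFun := fun w =>
        { toFun := fun y => Multiplicative.ofAdd (((w : Fˣ) : F) * y.toAdd)
          invFun := fun y => Multiplicative.ofAdd ((((w : Fˣ)⁻¹ : Fˣ) : F) * y.toAdd)
          left_inv := fun y => by simp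
          right_inv := fun y => by simp
          map_mul' := fun a b => by simp [mul_add] }
      map_one' := by ext y; simp
      map_mul' := fun a b => by ext y; simp [mul_assoc] }
  let H := Multiplicative F ⋊[φ] zpowers u
  haveI : Finite H := Finite.of_equiv _ SemidirectProduct.equivProd.symm
  have hcard : Nat.card H = p * l ^ k := by
    rw [Nat.card_congr SemidirectProduct.equivProd, Nat.card_prod, Nat.card_zpowers, hu,
      Nat.card_congr (Multiplicative.toAdd (α := F)), hF, mul_comm]
  refine ⟨H, inferInstance, inferInstance, hcard, fun hcl => ?_⟩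
  set R := (SemidirectProduct.inr : zpowers u →* H).range with hR
  have hRc : Nat.card R = p := by
    rw [hR, ← Nat.card_congr (MonoidHom.ofInjective SemidirectProduct.inr_injective).toEquiv,
      Nat.card_zpowers, hu]
  obtain ⟨P, hP⟩ := (IsPGroup.of_card (n := 1) (hRc.trans (pow_one p).symm)).exists_le_sylow
  have hPR : R = P := by
    refine eq_of_le_of_card_ge hP ?_
    obtain ⟨i, hi⟩ := IsPGroup.iff_card.1 P.2
    have hpm : ¬ p ∣ l ^ k := by
      rw [Nat.dvd_iff_mod_eq_zero, hm1]; exact one_ne_zero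
    have h1 : Nat.card P ∣ p := by
      refine (Nat.Coprime.dvd_of_dvd_mul_right ?_ (hcard ▸ card_subgroup_dvd_card (P : Subgroup H)))
      rw [hi]
      exact Nat.Coprime.pow_left i (hp.out.coprime_iff_not_dvd.2 hpm)
    rw [hRc]
    exact Nat.le_of_dvd hp.out.pos h1
  have hRn : R.Normal := hPR ▸ hcl P
  let w : zpowers u := ⟨u, mem_zpowers u⟩
  obtain ⟨v, hv⟩ := hRn.conj_mem (SemidirectProduct.inr w) ⟨w, rfl⟩
    (SemidirectProduct.inl (Multiplicative.ofAdd (1 : F)))
  have h1 := congrArg SemidirectProduct.left hv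
  simp only [SemidirectProduct.left_inr, SemidirectProduct.mul_left, SemidirectProduct.left_inl,
    SemidirectProduct.inv_left, SemidirectProduct.right_inl, SemidirectProduct.right_inr,
    SemidirectProduct.mul_right, inv_one, map_one, mul_one, one_mul, MulAut.one_apply] at h1
  have h2 : (1 : F) + (u : F) * (-1) = 0 := by
    have := congrArg Multiplicative.toAdd h1.symm
    simpa [φ, w] using this
  have h3 : u = 1 := Units.ext (by rw [Units.val_one]; linear_combination -h2)
  rw [h3, orderOf_one] at hu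
  exact hp.out.ne_one hu.symm

/-- `PSL(2, p)` is not `p`-closed. -/
theorem psl_example (p : ℕ) [hp : Fact p.Prime] (hp5 : 4 ≤ p) :
    ∃ (H : Type) (_ : Group H) (_ : Finite H), Nat.card H = p * (p ^ 2 - 1) / 2 ∧
      ¬ Cfsg.IsPClosed p H := by
  classical
  have hc := ZMod.card p
  have hcard : 2 * Nat.card (Matrix.ProjectiveSpecialLinearGroup (Fin 2) (ZMod p)) = p * (p ^ 2 - 1) := by
    have h := CfsgLib.Classical.Dickson.gcd_mul_card_PSL hc
    have hg : Nat.gcd 2 (p - 1) = 2 :=
      Nat.gcd_eq_left (by rcases hp.out.eq_two_or_odd with h2 | h2 <;> omega)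
    rw [hg] at h
    rw [h, mul_comm (p - 1), ← Nat.sq_sub_sq, one_pow]
  obtain ⟨hs, -, -⟩ := CfsgLib.Classical.Dickson.noncomm_of_four_le hc hp5
  haveI := hs
  refine ⟨Matrix.ProjectiveSpecialLinearGroup (Fin 2) (ZMod p), inferInstance, inferInstance, by omega,
    fun hcl => ?_⟩
  set G := Matrix.ProjectiveSpecialLinearGroup (Fin 2) (ZMod p)
  obtain ⟨P⟩ : Nonempty (Sylow p G) := inferInstance
  have hodd : p % 2 = 1 := by rcases hp.out.eq_two_or_odd with h2 | h2 <;> omega
  have hcop : ¬ p ∣ p ^ 2 - 1 := fun hd => by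
    have h1 : p ∣ p ^ 2 := dvd_pow_self p two_ne_zero
    have h2 := Nat.dvd_sub h1 hd
    rw [Nat.sub_sub_self (Nat.one_le_pow _ _ hp.out.pos)] at h2
    exact hp.out.ne_one (Nat.dvd_one.1 h2)
  have hpG : p ∣ Nat.card G :=
    ((Nat.coprime_primes hp.out Nat.prime_two).2 (by omega)).dvd_of_dvd_mul_left (hcard ▸ dvd_mul_right p _)
  rcases (hcl P).eq_bot_or_eq_top with e | e
  · exact P.not_dvd_index (by rw [e, index_bot]; exact hpG)
  · obtain ⟨i, hi⟩ := IsPGroup.iff_card.1 P.2
    rw [e, card_top] at hi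
    have hdv : p ^ 2 - 1 ∣ 2 * p ^ i := ⟨p, by rw [← hi, hcard, mul_comm]⟩
    have h1 : p ^ 2 - 1 ∣ 2 :=
      (Nat.Coprime.pow_right i (hp.out.coprime_iff_not_dvd.2 hcop).symm).dvd_of_dvd_mul_right hdv
    have h2 := Nat.le_of_dvd two_pos h1
    have h3 : 4 * 4 ≤ p ^ 2 := by rw [sq]; exact Nat.mul_le_mul hp5 hp5
    omega

/-- Let p be an odd prime and let m be the least prime power congruent to 1 modulo p. Then the least order of a finite group whose Sylow p-subgroups are not normal is the smaller of p · m and p(p² − 1)/2: every finite group whose Sylow p-subgroups are not normal has at least that order, and some group of exactly that order has non-normal Sylow p-subgroups. -/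
theorem result (p : ℕ) [Fact p.Prime] (hp : p ≠ 2) (m : ℕ) (hm : IsPrimePow m) (hm1 : m % p = 1)
    (hleast : ∀ k : ℕ, IsPrimePow k → k % p = 1 → m ≤ k) :
    (∀ (H : Type) [Group H] [Finite H], ¬ Cfsg.IsPClosed p H → min (p * m) (p * (p ^ 2 - 1) / 2) ≤ Nat.card H) ∧
      ∃ (H : Type) (_ : Group H) (_ : Finite H), Nat.card H = min (p * m) (p * (p ^ 2 - 1) / 2) ∧ ¬ Cfsg.IsPClosed p H := by
  refine ⟨fun H _ _ hH => lower_bound p hp m hleast _ H rfl hH, ?_⟩
  by_cases hle : p * m ≤ p * (p ^ 2 - 1) / 2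
  · obtain ⟨H, i, f, hc, hn⟩ := affine_example p m hm hm1
    exact ⟨H, i, f, by rw [min_eq_left hle]; exact hc, hn⟩
  · have h3 : 4 ≤ p := by
      by_contra h4
      have hp' := (Fact.out : p.Prime).two_le
      obtain rfl : p = 3 := by omega
      have h5 : m ≤ 4 := hleast 4 ⟨2, 2, Nat.prime_two.prime, two_pos, by norm_num⟩ (by norm_num)
      norm_num at hle
      omega
    obtain ⟨H, i, f, hc, hn⟩ := psl_example p h3
    exact ⟨H, i, f, by rw [min_eq_right (le_of_not_ge hle)]; exact hc, hn⟩

end Cfsg.Agent.S3875
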