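import Cfsg.Statements.S3878
import Mathlib

set_option autoImplicit false
open Cfsg

namespace Cfsg.Agent.S3878

open Subgroup MulAction Equiv

theorem conj_mem_of_not_dvd_index {G : Type*} [Group G] [Finite G] {p : ℕ} [Fact p.Prime]
    (H : Subgroup G) (hH : ¬ p ∣ H.index) {g : G} (hg : orderOf g = p) :
    ∃ x : G, x⁻¹ * g * x ∈ H := by
  have hp : IsPGroup p (zpowers g) :=
    IsPGroup.of_card (n := 1) (by rw [Nat.card_zpowers, hg, pow_one])
  obtain ⟨q, hq⟩ := hp.nonempty_fixed_point_of_prime_not_dvd_card (G ⧸ H) (by rwa [← index_eq_card])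
  obtain ⟨x, rfl⟩ := QuotientGroup.mk_surjective q
  have h := hq ⟨g, mem_zpowers g⟩
  change ((g * x : G) : G ⧸ H) = (x : G ⧸ H) at h
  rw [QuotientGroup.eq] at h
  refine ⟨x, ?_⟩
  have h2 := H.inv_mem h
  simpa [mul_assoc] using h2

/-- A subgroup of `Sym(q)`, `q` prime, of index prime to two primes `p < q` and to `q`. -/
theorem even_or_top {p q : ℕ} [Fact p.Prime] [Fact q.Prime] (hpq : p < q)
    (H : Subgroup (Perm (Fin q))) (hp : ¬ p ∣ H.index) (hq : ¬ q ∣ H.index) :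
    (p = 2 → H = ⊤) ∧ 2 ∣ Nat.card H := by
  classical
  have hqp : q.Prime := Fact.out
  have hpp : p.Prime := Fact.out
  have hcq : Nat.card (Fin q) = q := Nat.card_fin q
  have hex : ∀ r : ℕ, 2 ≤ r → r ≤ q → ∃ g : Perm (Fin q), g.IsCycle ∧ g.support.card = r := by
    intro r h2 hr
    obtain ⟨g, hg⟩ := (Equiv.Perm.exists_with_cycleType_iff (α := Fin q) (m := ({r} : Multiset ℕ))).2
      ⟨by simpa using hr, by simpa using h2⟩
    refine ⟨g, Equiv.Perm.card_cycleType_eq_one.1 (by rw [hg]; simp), ?_⟩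
    rw [← Equiv.Perm.sum_cycleType, hg]; simp
  have hin : ∀ r : ℕ, r.Prime → r ≤ q → ¬ r ∣ H.index →
      ∃ g : Perm (Fin q), g.IsCycle ∧ g.support.card = r ∧ g ∈ H := by
    intro r hr hrq hri
    haveI := Fact.mk hr
    obtain ⟨g, hgc, hgs⟩ := hex r hr.two_le hrq
    obtain ⟨x, hx⟩ := conj_mem_of_not_dvd_index H hri (g := g) (by rw [hgc.orderOf, hgs])
    have h1 := hgc.conj (g := x⁻¹)
    rw [inv_inv] at h1
    refine ⟨_, h1, ?_, hx⟩
    rw [← hgs]
    conv_lhs => rw [show x⁻¹ * g * x = x⁻¹ * g * (x⁻¹)⁻¹ by rw [inv_inv]]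
    rw [Equiv.Perm.support_conj, Finset.card_map]
  obtain ⟨σ, hσc, hσs, hσH⟩ := hin q hqp le_rfl hq
  obtain ⟨τ, hτc, hτs, hτH⟩ := hin p hpp hpq.le hp
  have hσu : σ.support = Finset.univ := by
    apply Finset.eq_univ_of_card; rw [hσs, Fintype.card_fin]
  haveI : IsPretransitive H (Fin q) := by
    refine ⟨fun x y => ?_⟩
    obtain ⟨i, hi⟩ := hσc.sameCycle (Equiv.Perm.mem_support.1 (hσu ▸ Finset.mem_univ x))
      (Equiv.Perm.mem_support.1 (hσu ▸ Finset.mem_univ y))
    exact ⟨⟨σ ^ i, H.zpow_mem hσH i⟩, hi⟩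
  have hprim : IsPreprimitive H (Fin q) := IsPreprimitive.of_prime_card (by rwa [hcq])
  constructor
  · intro h2
    exact Equiv.Perm.subgroup_eq_top_of_isPreprimitive_of_isSwap_mem hprim τ
      (Equiv.Perm.card_support_eq_two.1 (by omega)) hτH
  by_cases hs : q = p + 1
  · -- then `p = 2`
    have : p = 2 := by
      by_contra h2
      exact absurd hqp (Nat.not_prime_of_dvd_of_lt (m := 2) (by
        have := hpp.eq_two_or_odd.resolve_left h2; omega) le_rfl (by have := hpp.two_le; omega))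
    have h2i : Equiv.Perm.IsSwap τ := Equiv.Perm.card_support_eq_two.1 (by omega)
    rw [← h2i.orderOf]
    exact orderOf_dvd_natCard H hτH
  obtain ⟨n, hn⟩ : ∃ n, q - p = n + 1 := ⟨q - p - 1, by omega⟩
  have h2t : IsMultiplyPretransitive H (Fin q) 2 := by
    refine hprim.is_two_pretransitive (s := ((τ.support : Set (Fin q)))ᶜ) (n := n) ?_ ?_
      (Equiv.Perm.isPretransitive_of_isCycle_mem hτc hτH)
    · rw [Set.ncard_compl, Set.ncard_coe_finset, hτs, hcq, hn]
    · rw [hcq]; have := hpp.two_le; omega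
  obtain ⟨h, h1, h2⟩ : ∃ h : H, h • (⟨0, hqp.pos⟩ : Fin q) = ⟨1, hqp.one_lt⟩ ∧
      h • (⟨1, hqp.one_lt⟩ : Fin q) = ⟨0, hqp.pos⟩ :=
    is_two_pretransitive_iff.1 h2t (by simp [Fin.ext_iff]) (by simp [Fin.ext_iff])
  by_contra hodd
  have ho : Odd (orderOf h) := by
    rw [Nat.odd_iff, ← Nat.two_dvd_ne_zero]
    exact fun hd => hodd (hd.trans (_root_.orderOf_dvd_natCard h))
  obtain ⟨k, hk⟩ := ho
  set a : Fin q := ⟨0, hqp.pos⟩
  have hfix : h ^ 2 ∈ stabilizer H a := by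
    rw [mem_stabilizer_iff, pow_two, mul_smul, h1, h2]
  have : h ∈ stabilizer H a := by
    have e : (h ^ 2) ^ (k + 1) = h := by
      rw [← pow_mul, show 2 * (k + 1) = (2 * k + 1) + 1 by ring, pow_succ, ← hk, pow_orderOf_eq_one,
        one_mul]
    rw [← e]
    exact pow_mem hfix _
  rw [mem_stabilizer_iff, h1] at this
  simp [a, Fin.ext_iff] at this

theorem no_small_index {r : ℕ} (hr : r.Prime) (h5 : 5 ≤ r) (H : Subgroup (Perm (Fin (r + 1))))
    (hH : H.index = r) : False := by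
  classical
  set A := alternatingGroup (Fin (r + 1))
  let φ : A →* Perm (Perm (Fin (r + 1)) ⧸ H) := (MulAction.toPermHom _ _).comp A.subtype
  have hnt : Nontrivial (Fin (r + 1)) := Fin.nontrivial_iff_two_le.2 (by omega)
  haveI := hnt
  have hcA := two_mul_nat_card_alternatingGroup (α := Fin (r + 1))
  rw [Nat.card_perm, Nat.card_fin] at hcA
  have hcH := H.card_mul_index
  rw [Nat.card_perm, Nat.card_fin, hH] at hcH
  rcases alternatingGroup.normal_subgroup_eq_bot_or_eq_top (N := φ.ker) (by rw [Nat.card_fin]; omega) with h | h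
  · have := Nat.card_le_card_of_injective φ (φ.ker_eq_bot_iff.1 h)
    rw [Nat.card_perm, ← index_eq_card, hH] at this
    have h2 : (r + 1).factorial = (r + 1) * r.factorial := rfl
    have h3 := r.factorial_pos
    nlinarith
  · have hle : A ≤ H := by
      intro g hg
      have h1 : φ ⟨g, hg⟩ = 1 := MonoidHom.mem_ker.1 (h ▸ Subgroup.mem_top _)
      have h2 := Equiv.ext_iff.1 h1 ((1 : Perm (Fin (r + 1))) : Perm (Fin (r + 1)) ⧸ H)
      change ((g * 1 : Perm (Fin (r + 1))) : Perm (Fin (r + 1)) ⧸ H) = _ at h2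
      rw [Equiv.Perm.one_apply, QuotientGroup.eq] at h2
      simpa using h2
    have h3 := card_le_of_le hle
    have h4 : 0 < Nat.card H := Nat.card_pos
    change Nat.card (alternatingGroup (Fin (r + 1))) ≤ Nat.card H at h3
    nlinarith

theorem trivial_of_forall_E {π : Set ℕ} (hE : ∀ (G : Type) [Group G] [Finite G], Cfsg.IsEPiGroup π G) :
    (∀ p q : ℕ, p.Prime → q.Prime → p ∈ π → q ∈ π → p = q) ∨ ∀ p : ℕ, p.Prime → p ∈ π := by
  classical
  by_contra hcon
  push Not at hcon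
  obtain ⟨⟨p₀, q₀, hp₀, hq₀, hp₀π, hq₀π, hne⟩, r₁, hr₁, hr₁π⟩ := hcon
  have key : ∀ p q : ℕ, p.Prime → q.Prime → p ∈ π → q ∈ π → p < q →
      2 ∈ π ∧ (p = 2 → ∀ r, r.Prime → r ≤ q → r ∈ π) := by
    intro p q hp hq hpπ hqπ hpq
    haveI := Fact.mk hp
    haveI := Fact.mk hq
    obtain ⟨H, hH1, hH2⟩ := hE (Perm (Fin q))
    obtain ⟨ha, hb⟩ := even_or_top hpq H (hH2 p hp hpπ) (hH2 q hq hqπ)
    refine ⟨hH1 2 Nat.prime_two hb, fun h2 r hr hrq => hH1 r hr ?_⟩
    rw [ha h2, card_top, Nat.card_perm, Nat.card_fin]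
    exact Nat.dvd_factorial hr.pos hrq
  have h2π : 2 ∈ π := by
    rcases lt_or_gt_of_ne hne with h | h
    · exact (key _ _ hp₀ hq₀ hp₀π hq₀π h).1
    · exact (key _ _ hq₀ hp₀ hq₀π hp₀π h).1
  obtain ⟨q, hq, hqπ, hq2⟩ : ∃ q, q.Prime ∧ q ∈ π ∧ 2 < q := by
    by_cases hp : p₀ = 2
    · exact ⟨q₀, hq₀, hq₀π, lt_of_le_of_ne hq₀.two_le fun h => hne (hp.trans h)⟩
    · exact ⟨p₀, hp₀, hp₀π, lt_of_le_of_ne hp₀.two_le (Ne.symm hp)⟩
  have hex : ∃ r, r.Prime ∧ r ∉ π := ⟨r₁, hr₁, hr₁π⟩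
  set r := Nat.find hex
  obtain ⟨hr, hrπ⟩ := Nat.find_spec hex
  have hsmall : ∀ s, s.Prime → s ∈ π → s < r := by
    intro s hs hsπ
    by_contra hle
    rcases eq_or_lt_of_le hs.two_le with rfl | h2
    · have h1 : r = 2 := le_antisymm (not_lt.1 hle) hr.two_le
      exact hrπ (by show r ∈ π; rw [h1]; exact h2π)
    · exact hrπ ((key 2 s Nat.prime_two hs h2π hsπ h2).2 rfl r hr (not_lt.1 hle))
  have hrq := hsmall q hq hqπ
  have h5 : 5 ≤ r := by
    by_contra h
    have h4 : r = 4 := by have := hq.two_le; omega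
    rw [show Nat.find hex = 4 from h4] at hr
    norm_num at hr
  obtain ⟨H, hH1, hH2⟩ := hE (Perm (Fin (r + 1)))
  refine no_small_index hr h5 H ?_
  have hidx : H.index ∣ (r + 1).factorial := by
    have := H.index_dvd_card
    rwa [Nat.card_perm, Nat.card_fin] at this
  have honly : ∀ s, s.Prime → s ∣ H.index → s = r := by
    intro s hs hsd
    have hsle : s ≤ r + 1 := (hs.dvd_factorial).1 (hsd.trans hidx)
    have h1 : ¬ s < r := fun h => hH2 s hs (by
      by_contra hsπ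
      exact Nat.find_min hex h ⟨hs, hsπ⟩) hsd
    rcases eq_or_lt_of_le (not_lt.1 h1) with h | h
    · exact h.symm
    · have : s = r + 1 := by omega
      have := hr.eq_two_or_odd
      exact absurd hs (Nat.not_prime_of_dvd_of_lt (m := 2) (by omega) le_rfl (by omega))
  have hne1 : H.index ≠ 1 := fun h => hrπ (hH1 r hr (by
    rw [index_eq_one.1 h, card_top, Nat.card_perm, Nat.card_fin]
    exact Nat.dvd_factorial hr.pos (Nat.le_succ r)))
  have hrd : r ∣ H.index := by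
    obtain ⟨s, hs, hsd⟩ := Nat.exists_prime_and_dvd hne1
    rwa [honly s hs hsd] at hsd
  obtain ⟨m, hm⟩ := hrd
  rcases eq_or_ne m 1 with rfl | hm1
  · rw [hm, mul_one]
  exfalso
  obtain ⟨s, hs, hsd⟩ := Nat.exists_prime_and_dvd hm1
  have hsr := honly s hs (hm ▸ hsd.mul_left r)
  subst hsr
  have h2 : r * r ∣ (r + 1).factorial := ((mul_dvd_mul_left r hsd).trans hm.symm.dvd).trans hidx
  obtain ⟨r', hr'⟩ : ∃ r', r = r' + 1 := ⟨r - 1, by omega⟩
  rw [show (r + 1).factorial = r * ((r + 1) * r'.factorial) by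
    rw [Nat.factorial_succ, hr', Nat.factorial_succ]; ring] at h2
  have h3 := Nat.dvd_of_mul_dvd_mul_left hr.pos h2
  rcases hr.dvd_mul.1 h3 with h | h
  · have := Nat.dvd_sub h (dvd_refl r)
    rw [Nat.add_sub_cancel_left] at this
    exact hr.ne_one (Nat.dvd_one.1 this)
  · have := hr.dvd_factorial.1 h
    omega

theorem E_of_D {π : Set ℕ} {G : Type} [Group G] [Finite G] (hD : Cfsg.IsDPiGroup π G) :
    Cfsg.IsEPiGroup π G := by
  obtain ⟨M, -, hM⟩ := Finite.exists_le_maximal (p := Cfsg.IsPiSubgroup π) (a := (⊥ : Subgroup G))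
    (fun p hp hd => absurd (Nat.le_of_dvd Nat.one_pos (card_bot (G := G) ▸ hd))
      (not_le.2 hp.one_lt))
  refine ⟨M, hM.1, fun p hp hpπ hd => ?_⟩
  haveI := Fact.mk hp
  obtain ⟨P⟩ : Nonempty (Sylow p G) := inferInstance
  have hP : Cfsg.IsPiSubgroup π (P : Subgroup G) := fun q hq hqd => by
    obtain ⟨a, ha⟩ := IsPGroup.iff_card.1 P.2
    rw [ha] at hqd
    rwa [(Nat.prime_dvd_prime_iff_eq hq hp).1 (hq.dvd_of_dvd_pow hqd)]
  obtain ⟨M', hPM', hM'⟩ := Finite.exists_le_maximal (p := Cfsg.IsPiSubgroup π) hP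
  obtain ⟨g, hg⟩ := hD M M' hM hM'
  refine P.not_dvd_index (dvd_trans hd ?_)
  have e : M'.index = M.index := by
    rw [hg]
    exact index_map_equiv M (MulAut.conj g)
  exact e ▸ index_dvd_of_le hPM'

theorem D_of_trivial {π : Set ℕ}
    (h : (∀ p q : ℕ, p.Prime → q.Prime → p ∈ π → q ∈ π → p = q) ∨ ∀ p : ℕ, p.Prime → p ∈ π)
    (G : Type) [Group G] [Finite G] : Cfsg.IsDPiGroup π G := by
  intro H K hH hK
  rcases h with h | h
  · by_cases hex : ∃ p, p.Prime ∧ p ∈ π
    · obtain ⟨p, hp, hpπ⟩ := hex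
      haveI := Fact.mk hp
      have hiff : ∀ L : Subgroup G, Cfsg.IsPiSubgroup π L ↔ IsPGroup p L := by
        intro L
        constructor
        · intro hL
          refine IsPGroup.of_card (n := (Nat.card L).primeFactorsList.length)
            (Nat.eq_prime_pow_of_unique_prime_dvd Nat.card_pos.ne' fun {d} hd hdd =>
              h d p hd hp (hL d hd hdd) hpπ)
        · intro hL q hq hqd
          obtain ⟨a, ha⟩ := IsPGroup.iff_card.1 hL
          rw [ha] at hqd
          rwa [(Nat.prime_dvd_prime_iff_eq hq hp).1 (hq.dvd_of_dvd_pow hqd)]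
      let mk : ∀ L : Subgroup G, Maximal (Cfsg.IsPiSubgroup π) L → Sylow p G := fun L hL =>
        ⟨L, (hiff L).1 hL.1, fun {Q} hQ hle => le_antisymm (hL.2 ((hiff Q).2 hQ) hle) hle⟩
      obtain ⟨g, hg⟩ := MulAction.exists_smul_eq G (mk H hH) (mk K hK)
      exact ⟨g, (congrArg Sylow.toSubgroup hg).symm⟩
    · push Not at hex
      have : ∀ L : Subgroup G, Cfsg.IsPiSubgroup π L → L = ⊥ := by
        intro L hL
        refine eq_bot_of_card_eq _ ?_
        by_contra hne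
        obtain ⟨d, hd, hdd⟩ := Nat.exists_prime_and_dvd hne
        exact hex d hd (hL d hd hdd)
      exact ⟨1, by rw [this H hH.1, this K hK.1, Subgroup.map_bot]⟩
  · have : ∀ L : Subgroup G, Maximal (Cfsg.IsPiSubgroup π) L → L = ⊤ := fun L hL =>
      top_le_iff.1 (hL.2 (fun d hd _ => h d hd) le_top)
    refine ⟨1, ?_⟩
    rw [this H hH, this K hK]
    exact (map_top_of_surjective _ (MulEquiv.surjective _)).symm

/-- For a set of primes π the following are equivalent: every finite group has a Hall π-subgroup; in every finite group the maximal π-subgroups are pairwise conjugate; π contains at most one prime or contains every prime. -/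
theorem result (π : Set ℕ) :
    ((∀ (G : Type) [Group G] [Finite G], Cfsg.IsEPiGroup π G) ↔
      ((∀ p q : ℕ, p.Prime → q.Prime → p ∈ π → q ∈ π → p = q) ∨ ∀ p : ℕ, p.Prime → p ∈ π)) ∧
    ((∀ (G : Type) [Group G] [Finite G], Cfsg.IsDPiGroup π G) ↔
      ((∀ p q : ℕ, p.Prime → q.Prime → p ∈ π → q ∈ π → p = q) ∨ ∀ p : ℕ, p.Prime → p ∈ π)) := by
  refine ⟨⟨trivial_of_forall_E, fun h G _ _ => E_of_D (D_of_trivial h G)⟩, ⟨fun hD => ?_, D_of_trivial⟩⟩
  exact trivial_of_forall_E fun G _ _ => E_of_D (hD G)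

end Cfsg.Agent.S3878
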