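import Cfsg.Statements.S3880
import Cfsg.Agent.Lib.PGroup.Metacyclic

set_option autoImplicit false
open Cfsg

namespace Cfsg.Agent.S3880

open CfsgLib.PGroup CfsgLib.PGroup.Metacyclic

/-- Let p be an odd prime and G a finite metacyclic p-group (G has a cyclic normal subgroup with cyclic quotient). Then a subgroup L of G is abelian if and only if |L| ≤ |G : G'|, and L is a maximal abelian subgroup of G if and only if |L| = |G : G'|. -/
theorem result {G : Type*} [Group G] [Finite G] {p : ℕ} [Fact p.Prime] (hp : p ≠ 2) (hG : IsPGroup p G) (hmc : Cfsg.IsMetacyclic G) (L : Subgroup G) :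
    (IsMulCommutative ↥L ↔ Nat.card ↥L ≤ (commutator G).index) ∧
      (Maximal (fun K : Subgroup G => IsMulCommutative ↥K) L ↔ Nat.card ↥L = (commutator G).index) := by
  obtain ⟨D⟩ := exists_mdata hG hmc
  have first : ∀ K : Subgroup G, IsMulCommutative ↥K ↔ Nat.card ↥K ≤ (commutator G).index := by
    intro K
    rw [D.index_commutator hp]
    refine ⟨fun h => ?_, fun h => by_contra fun hna => ?_⟩
    · rw [D.card_eq_mul hp K]
      exact Nat.mul_le_mul (Subgroup.card_le_of_le inf_le_right) ((D.isMulCommutative_iff hp K).1 h)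
    · refine hna ((D.isMulCommutative_iff hp K).2 ?_)
      rw [D.card_eq_mul hp K, inf_eq_right.2 (D.center_le_of_not_comm hp K hna)] at h
      exact Nat.le_of_mul_le_mul_left h Nat.card_pos
  refine ⟨first L, fun hL => ?_, fun hL => ⟨(first L).2 hL.le, fun K hK hLK => ?_⟩⟩
  · refine le_antisymm ((first L).1 hL.prop) (not_lt.1 fun hlt => ?_)
    obtain ⟨k, hk⟩ := IsPGroup.iff_card.1 (hG.to_subgroup L)
    obtain ⟨c, hc⟩ := hG.index (commutator G)
    rw [hk, hc] at hlt
    have hkc : k + 1 ≤ c := (Nat.pow_lt_pow_iff_right (Fact.out : p.Prime).one_lt).1 hlt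
    have hd : p ^ (k + 1) ∣ Nat.card G :=
      (pow_dvd_pow p hkc).trans (hc ▸ Subgroup.index_dvd_card _)
    obtain ⟨K, hK, hLK⟩ := Sylow.exists_subgroup_card_pow_succ hd hk
    have hKc : IsMulCommutative ↥K := (first K).2 (by rw [hK, hc]; exact Nat.pow_le_pow_right (Fact.out : p.Prime).pos hkc)
    have := hL.eq_of_le hKc hLK
    rw [this, hK] at hk
    exact Nat.lt_irrefl _ ((Nat.pow_lt_pow_iff_right (Fact.out : p.Prime).one_lt).2 k.lt_succ_self |>.trans_eq hk)
  · exact (Subgroup.eq_of_le_of_card_ge hLK (hL ▸ (first K).1 hK)).ge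

end Cfsg.Agent.S3880
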