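import Cfsg.Statements.S3881
import Cfsg.Agent.Lib.PGroup.Metacyclic

set_option autoImplicit false
open Cfsg

namespace Cfsg.Agent.S3881

open CfsgLib.PGroup CfsgLib.PGroup.Metacyclic

/-- Let p be an odd prime and G a finite metacyclic p-group (G has a cyclic normal subgroup with cyclic quotient). Suppose G is non-abelian with |G'| = p^n. Then for 1 ≤ i ≤ n the number of elements of G whose conjugacy class has exactly p^i elements is |Z(G)| · (p^(2i) − p^(2i−2)). -/
theorem result {G : Type*} [Group G] [Finite G] {p : ℕ} [Fact p.Prime] (hp : p ≠ 2) (hG : IsPGroup p G) (hmc : Cfsg.IsMetacyclic G) (n : ℕ) (hn : n ≠ 0) (hGn : Nat.card ↥(commutator G) = p ^ n) (i : ℕ) (hi : 1 ≤ i) (hin : i ≤ n) :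
    Nat.card {g : G // (Subgroup.centralizer ({g} : Set G)).index = p ^ i} =
      Nat.card ↥(Subgroup.center G) * (p ^ (2 * i) - p ^ (2 * i - 2)) := by
  classical
  obtain ⟨D⟩ := exists_mdata hG hmc
  have hnn : D.n = n := Nat.pow_right_injective (Fact.out : p.Prime).two_le (D.card_commutator.symm.trans hGn)
  subst hnn
  haveI := Plane.neZero_pow (p := p) (n := D.n)
  set N := p ^ D.n with hN
  set Z := Subgroup.center G
  have hord := D.index_centralizer hp
  have htor : ∀ k ≤ D.n, Nat.card {w : ZMod N × ZMod N // (p ^ k) • w = 0} = p ^ k * p ^ k := by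
    intro k hk
    have h1 : Nat.card {z : ZMod N // (p ^ k) • z = 0} = p ^ k := by
      set c : ZMod N := ((p ^ (D.n - k) : ℕ) : ZMod N)
      have hcard : Nat.card (AddSubgroup.zmultiples c) = p ^ k := by
        rw [Nat.card_zmultiples, ZMod.addOrderOf_coe _ (NeZero.ne N), hN,
          Nat.gcd_eq_right (pow_dvd_pow p (Nat.sub_le _ _)),
          Nat.pow_div (Nat.sub_le _ _) (Fact.out : p.Prime).pos, Nat.sub_sub_self hk]
      refine (Nat.card_congr (Equiv.subtypeEquivRight (q := fun z => z ∈ AddSubgroup.zmultiples c)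
        fun z => ⟨fun hz => ?_, fun hz => ?_⟩)).trans hcard
      · obtain ⟨y, rfl⟩ := Plane.exists_eq_mul_of_pow_smul hk hz
        refine AddSubgroup.mem_zmultiples_iff.2 ⟨(y.val : ℤ), ?_⟩
        simp [c, hN, mul_comm]
      · obtain ⟨y, rfl⟩ := AddSubgroup.mem_zmultiples_iff.1 hz
        have h0 : ((p ^ k * p ^ (D.n - k) : ℕ) : ZMod N) = 0 := by
          rw [← pow_add, Nat.add_sub_cancel' hk, hN, ZMod.natCast_self]
        rw [nsmul_eq_mul, zsmul_eq_mul, mul_left_comm, ← Nat.cast_mul, h0, mul_zero]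
    conv_rhs => rw [← h1, ← Nat.card_prod]
    exact Nat.card_congr
      { toFun := fun w => (⟨w.1.1, congrArg Prod.fst w.2⟩, ⟨w.1.2, congrArg Prod.snd w.2⟩)
        invFun := fun w => ⟨(w.1.1, w.2.1), Prod.ext w.1.2 w.2.2⟩
        left_inv := fun _ => rfl
        right_inv := fun _ => rfl }
  have hcount : Nat.card {w : ZMod N × ZMod N // addOrderOf w = p ^ i} = p ^ (2 * i) - p ^ (2 * i - 2) := by
    set S := {w : ZMod N × ZMod N | (p ^ i) • w = 0}
    set S' := {w : ZMod N × ZMod N | (p ^ (i - 1)) • w = 0}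
    have hsub : S' ⊆ S := fun w (hw : (p ^ (i - 1)) • w = 0) => by
      show (p ^ i) • w = 0
      rw [show i = i - 1 + 1 by omega, pow_succ, mul_nsmul, hw, nsmul_zero]
    have heq : {w : ZMod N × ZMod N | addOrderOf w = p ^ i} = S \ S' := by
      ext w
      refine ⟨fun h => ⟨?_, fun h' => ?_⟩, fun h => ?_⟩
      · show (p ^ i) • w = 0
        rw [← (h : addOrderOf w = p ^ i)]; exact addOrderOf_nsmul_eq_zero w
      · have := Nat.le_of_dvd (pow_pos (Fact.out : p.Prime).pos _) (addOrderOf_dvd_iff_nsmul_eq_zero.2 h')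
        rw [(h : addOrderOf w = p ^ i)] at this
        have := (Nat.pow_le_pow_iff_right (Fact.out : p.Prime).one_lt).1 this
        omega
      · have := addOrderOf_eq_prime_pow (p := p) (n := i - 1) h.2 (by rw [show i - 1 + 1 = i by omega]; exact h.1)
        rwa [show i - 1 + 1 = i by omega] at this
    change Nat.card ↥{w : ZMod N × ZMod N | addOrderOf w = p ^ i} = _
    rw [heq, Nat.card_coe_set_eq, Set.ncard_sdiff hsub (Set.toFinite _), ← Nat.card_coe_set_eq,
      ← Nat.card_coe_set_eq]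
    rw [show Nat.card ↥S = _ from htor i hin, show Nat.card ↥S' = _ from htor (i - 1) (by omega), ← pow_add, ← pow_add]
    congr 2 <;> omega
  choose s hs using D.v_surjective hp
  rw [← hcount, ← Nat.card_prod]
  exact Nat.card_congr
    { toFun := fun g => (⟨(s (D.v g.1))⁻¹ * g.1, (D.v_eq_iff _ _).1 (hs _)⟩, ⟨D.v g.1, (hord g.1).symm.trans g.2⟩)
      invFun := fun x => ⟨s x.2.1 * x.1.1, by
        rw [hord, ← show D.v (s x.2.1) = D.v (s x.2.1 * x.1.1) from (D.v_eq_iff _ _).2 (by rw [inv_mul_cancel_left]; exact x.1.2), hs]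
        exact x.2.2⟩
      left_inv := fun g => Subtype.ext (mul_inv_cancel_left _ _)
      right_inv := fun x => by
        have e : D.v (s x.2.1 * x.1.1) = x.2.1 := by
          rw [← show D.v (s x.2.1) = D.v (s x.2.1 * x.1.1) from (D.v_eq_iff _ _).2 (by rw [inv_mul_cancel_left]; exact x.1.2), hs]
        refine Prod.ext (Subtype.ext ?_) (Subtype.ext e)
        show (s (D.v (s x.2.1 * x.1.1)))⁻¹ * (s x.2.1 * x.1.1) = x.1.1
        rw [e, inv_mul_cancel_left] }

end Cfsg.Agent.S3881
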