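import Cfsg.Statements.S3882
import Cfsg.Agent.Lib.PGroup.Metacyclic

set_option autoImplicit false
open Cfsg

namespace Cfsg.Agent.S3882

open CfsgLib.PGroup CfsgLib.PGroup.Metacyclic

/-- Let p be an odd prime and G a finite metacyclic p-group (G has a cyclic normal subgroup with cyclic quotient). Suppose |G'| = p^n and 0 ≤ s ≤ n. Then an element g lies in the subgroup generated by the p^s-th powers if and only if its conjugacy class has at most p^(n−s) elements; in particular the subgroup generated by the p^n-th powers is the center of G. -/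
theorem result {G : Type*} [Group G] [Finite G] {p : ℕ} [Fact p.Prime] (hp : p ≠ 2) (hG : IsPGroup p G) (hmc : Cfsg.IsMetacyclic G) (n : ℕ) (hGn : Nat.card ↥(commutator G) = p ^ n) (s : ℕ) (hs : s ≤ n) (g : G) :
    (g ∈ Subgroup.closure {x : G | ∃ y : G, y ^ p ^ s = x} ↔ (Subgroup.centralizer ({g} : Set G)).index ≤ p ^ (n - s)) ∧
      Subgroup.closure {x : G | ∃ y : G, y ^ p ^ n = x} = Subgroup.center G := by
  classical
  obtain ⟨D⟩ := exists_mdata hG hmc
  have hnn : D.n = n := Nat.pow_right_injective (Fact.out : p.Prime).two_le (D.card_commutator.symm.trans hGn)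
  subst hnn
  haveI := Plane.neZero_pow (p := p) (n := D.n)
  have key : ∀ (k : ℕ), k ≤ D.n → ∀ x : G, (x ∈ Subgroup.closure {x : G | ∃ y : G, y ^ p ^ k = x} ↔
      (p ^ (D.n - k)) • D.v x = 0) := by
    intro k hk x
    constructor
    · intro hx
      suffices Subgroup.closure {x : G | ∃ y : G, y ^ p ^ k = x} ≤
          D.pre (nsmulAddMonoidHom (α := ZMod (p ^ D.n) × ZMod (p ^ D.n)) (p ^ (D.n - k))).ker from this hx
      refine (Subgroup.closure_le _).2 ?_
      rintro _ ⟨y, rfl⟩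
      obtain ⟨R, hR, hpR, hpow⟩ := D.v_pow y
      show (p ^ (D.n - k)) • D.v (y ^ p ^ k) = 0
      obtain ⟨c, hc⟩ := (dvd_gsum_iff hp (p ^ k) hR hpR k).2 dvd_rfl
      rw [hpow, hc, ← Nat.cast_smul_eq_nsmul (ZMod (p ^ D.n)), smul_smul, ← Nat.cast_mul, ← mul_assoc,
        ← pow_add, Nat.sub_add_cancel hk, Nat.cast_mul, ZMod.natCast_self, zero_mul, zero_smul]
    · intro hx
      obtain ⟨j, i, rfl⟩ := D.gen x
      rw [D.v_form] at hx
      have h1 := congrArg Prod.fst hx
      have h2 := congrArg Prod.snd hx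
      simp only [nsmul_eq_mul, Prod.fst_mul, Prod.snd_mul, Prod.fst_natCast, Prod.snd_natCast, Prod.fst_zero, Prod.snd_zero, ← Nat.cast_mul,
        ZMod.natCast_eq_zero_iff] at h1 h2
      have e : p ^ D.n = p ^ (D.n - k) * p ^ k := by rw [← pow_add, Nat.sub_add_cancel hk]
      have h1' := Nat.dvd_of_mul_dvd_mul_left (pow_pos (Fact.out : p.Prime).pos _) ((dvd_of_eq e.symm).trans h1)
      have h2' := (dvd_gsum_iff hp i D.one_le D.dvd_r k).1
        (Nat.dvd_of_mul_dvd_mul_left (pow_pos (Fact.out : p.Prime).pos _) ((dvd_of_eq e.symm).trans h2))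
      obtain ⟨j', rfl⟩ := h1'
      obtain ⟨i', rfl⟩ := h2'
      refine mul_mem (Subgroup.subset_closure ⟨D.a ^ j', ?_⟩) (Subgroup.subset_closure ⟨D.b ^ i', ?_⟩) <;>
        rw [← pow_mul, mul_comm]
  refine ⟨?_, ?_⟩
  · rw [key s hs g]
    have hidx := D.index_centralizer hp g
    rw [hidx, ← addOrderOf_dvd_iff_nsmul_eq_zero]
    refine ⟨Nat.le_of_dvd (pow_pos (Fact.out : p.Prime).pos _), fun h => ?_⟩
    obtain ⟨k, -, hk⟩ := (Nat.dvd_prime_pow Fact.out).1 (addOrderOf_dvd_iff_nsmul_eq_zero.2 (Plane.pow_smul_eq_zero (D.v g)))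
    rw [hk] at h ⊢
    exact pow_dvd_pow p ((Nat.pow_le_pow_iff_right (Fact.out : p.Prime).one_lt).1 h)
  · ext x
    rw [key D.n le_rfl x, Nat.sub_self, pow_zero, one_smul, D.v_eq_zero_iff]

end Cfsg.Agent.S3882
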