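import Cfsg.Statements.S3883
import Cfsg.Agent.Lib.PGroup.Metacyclic

set_option autoImplicit false
open Cfsg

namespace Cfsg.Agent.S3883

open CfsgLib.PGroup CfsgLib.PGroup.Metacyclic

/-- Let p be an odd prime and G a finite metacyclic p-group (G has a cyclic normal subgroup with cyclic quotient). Suppose G is non-abelian. Then an element g of G lies outside the Frattini subgroup if and only if its centralizer C_G(g) is abelian. -/
theorem result {G : Type*} [Group G] [Finite G] {p : ℕ} [Fact p.Prime] (hp : p ≠ 2) (hG : IsPGroup p G) (hmc : Cfsg.IsMetacyclic G) (hna : ¬ IsMulCommutative G) (g : G) :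
    g ∉ frattini G ↔ IsMulCommutative ↥(Subgroup.centralizer ({g} : Set G)) := by
  obtain ⟨D⟩ := exists_mdata hG hmc
  haveI := Plane.neZero_pow (p := p) (n := D.n)
  have hpp : p.Prime := Fact.out
  have hn : D.n ≠ 0 := by
    intro h
    refine hna ⟨⟨fun x y => ((D.commute_iff x y).2 ?_).eq⟩⟩
    haveI : Subsingleton (ZMod (p ^ D.n)) := by rw [h, pow_zero]; infer_instance
    exact Subsingleton.elim _ _
  have hCimg : D.img hp (Subgroup.centralizer ({g} : Set G)) = Plane.perp (D.img hp (Subgroup.zpowers g)) := by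
    rw [← D.img_pre hp (Plane.perp _), ← D.centralizer_eq hp]
    congr 1
    rw [← Subgroup.centralizer_closure, Subgroup.zpowers_eq_closure]
  have himg : D.img hp (Subgroup.zpowers g) = AddSubgroup.zmultiples (D.v g) := by
    refine le_antisymm ?_ (AddSubgroup.zmultiples_le_of_mem ⟨g, Subgroup.mem_zpowers g, rfl⟩)
    rintro _ ⟨x, hx, rfl⟩
    obtain ⟨k, rfl⟩ := mem_powers_iff_mem_zpowers.2 hx
    obtain ⟨R, -, -, hpow⟩ := D.v_pow g
    rw [hpow]
    exact D.smul_mem _ (AddSubgroup.mem_zmultiples _)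
  rw [D.isMulCommutative_iff hp, hCimg, himg]
  have h2 := Plane.card_perp (AddSubgroup.zmultiples (D.v g))
  rw [Nat.card_zmultiples] at h2
  obtain ⟨d, hd, hord⟩ := (Nat.dvd_prime_pow hpp).1 (addOrderOf_dvd_iff_nsmul_eq_zero.2 (Plane.pow_smul_eq_zero (D.v g)))
  have hfr : g ∉ frattini G ↔ (p ^ (D.n - 1)) • D.v g ≠ 0 := by
    rw [ne_eq, not_iff_not]
    constructor
    · intro hg
      obtain ⟨j, i, rfl⟩ := D.gen g
      -- the two coordinate homomorphisms modulo p
      let cst : ZMod (p ^ D.n) →+* ZMod p := ZMod.castHom (dvd_pow_self p hn) (ZMod p)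
      let ψ₁ : G →* Multiplicative (ZMod p) := MonoidHom.mk' (fun x => Multiplicative.ofAdd (cst (D.v x).1)) fun x y => by
        obtain ⟨R, hR, hpR, hmul⟩ := D.v_mul x
        rw [← ofAdd_add, hmul, Prod.fst_add, Prod.smul_fst, smul_eq_mul, map_add, map_mul, map_natCast, natCast_eq_one hR hpR, one_mul]
      let ψ₂ : G →* Multiplicative (ZMod p) := MonoidHom.mk' (fun x => Multiplicative.ofAdd (cst (D.v x).2)) fun x y => by
        obtain ⟨R, hR, hpR, hmul⟩ := D.v_mul x
        rw [← ofAdd_add, hmul, Prod.snd_add, Prod.smul_snd, smul_eq_mul, map_add, map_mul, map_natCast, natCast_eq_one hR hpR, one_mul]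
      have hker : ∀ ψ : G →* Multiplicative (ZMod p), Function.Surjective ψ → frattini G ≤ ψ.ker := by
        intro ψ hψ
        refine frattini_le_coatom ?_
        have hi : ψ.ker.index = p := by
          rw [Subgroup.index_ker, MonoidHom.range_eq_top.2 hψ, Subgroup.card_top, Nat.card_congr Multiplicative.toAdd, Nat.card_zmod]
        refine ⟨fun h => hpp.ne_one (by rw [← hi, h, Subgroup.index_top]), fun K hK => ?_⟩
        have h := Subgroup.relIndex_mul_index hK.le
        rw [hi] at h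
        rcases (Nat.dvd_prime hpp).1 (h ▸ dvd_mul_left K.index _) with h' | h'
        · exact Subgroup.index_eq_one.1 h'
        · rw [h'] at h
          exact absurd (Subgroup.relIndex_eq_one.1 (Nat.eq_of_mul_eq_mul_right hpp.pos (h.trans (one_mul p).symm))) hK.not_ge
      have hsurj : ∀ c : ZMod (p ^ D.n) × ZMod (p ^ D.n), ∃ x, D.v x = c := D.v_surjective hp
      have h1 := hker ψ₁ (fun z => by
        obtain ⟨x, hx⟩ := hsurj ((z.toAdd.val : ZMod (p ^ D.n)), 0)
        exact ⟨x, by show Multiplicative.ofAdd (cst (D.v x).1) = z; rw [hx, map_natCast, ZMod.natCast_zmod_val, ofAdd_toAdd]⟩) hg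
      have h2 := hker ψ₂ (fun z => by
        obtain ⟨x, hx⟩ := hsurj (0, (z.toAdd.val : ZMod (p ^ D.n)))
        exact ⟨x, by show Multiplicative.ofAdd (cst (D.v x).2) = z; rw [hx, map_natCast, ZMod.natCast_zmod_val, ofAdd_toAdd]⟩) hg
      have h1' : cst (D.v (D.a ^ j * D.b ^ i)).1 = 0 := ofAdd_eq_one.1 h1
      have h2' : cst (D.v (D.a ^ j * D.b ^ i)).2 = 0 := ofAdd_eq_one.1 h2
      rw [D.v_form] at h1' h2' ⊢
      rw [map_natCast, ZMod.natCast_eq_zero_iff] at h1' h2'
      obtain ⟨c1, e1⟩ := h1'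
      obtain ⟨c2, e2⟩ := h2'
      have hN : ((p ^ (D.n - 1) * p : ℕ) : ZMod (p ^ D.n)) = 0 := by
        rw [← pow_succ, Nat.sub_add_cancel (Nat.pos_of_ne_zero hn), ZMod.natCast_self]
      simp only [nsmul_eq_mul]
      refine Prod.ext ?_ ?_ <;>
        simp only [Prod.fst_mul, Prod.snd_mul, Prod.fst_natCast, Prod.snd_natCast, Prod.fst_zero, Prod.snd_zero, e1, e2] <;>
        rw [← Nat.cast_mul, ← mul_assoc, Nat.cast_mul, hN, zero_mul]
    · intro hg
      obtain ⟨j, i, rfl⟩ := D.gen g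
      rw [D.v_form] at hg
      have h1 := congrArg Prod.fst hg
      have h2 := congrArg Prod.snd hg
      simp only [nsmul_eq_mul, Prod.fst_mul, Prod.snd_mul, Prod.fst_natCast, Prod.snd_natCast, Prod.fst_zero, Prod.snd_zero, ← Nat.cast_mul, ZMod.natCast_eq_zero_iff] at h1 h2
      have e : p ^ D.n = p ^ (D.n - 1) * p := by rw [← pow_succ, Nat.sub_add_cancel (Nat.pos_of_ne_zero hn)]
      have h1' := Nat.dvd_of_mul_dvd_mul_left (pow_pos hpp.pos _) ((dvd_of_eq e.symm).trans h1)
      have h2' := (dvd_gsum_iff hp i D.one_le D.dvd_r 1).1 (by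
        rw [pow_one]; exact Nat.dvd_of_mul_dvd_mul_left (pow_pos hpp.pos _) ((dvd_of_eq e.symm).trans h2))
      rw [pow_one] at h2'
      obtain ⟨j', rfl⟩ := h1'
      obtain ⟨i', rfl⟩ := h2'
      rw [mul_comm p j', mul_comm p i', pow_mul, pow_mul]
      exact mul_mem (pow_mem_frattini hG _) (pow_mem_frattini hG _)
  rw [hfr, ne_eq, ← addOrderOf_dvd_iff_nsmul_eq_zero, hord, Nat.pow_dvd_pow_iff_le_right hpp.one_lt]
  constructor
  · intro h
    have hdn : d = D.n := by omega
    rw [hord, hdn, sq] at h2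
    exact (Nat.eq_of_mul_eq_mul_right (pow_pos hpp.pos _) h2).le
  · intro h hle
    rw [hord] at h2
    have h3 : Nat.card (Plane.perp (AddSubgroup.zmultiples (D.v g))) * p ^ d ≤ p ^ D.n * p ^ d := Nat.mul_le_mul_right _ h
    rw [h2, sq, ← pow_add, ← pow_add, Nat.pow_le_pow_iff_right hpp.one_lt] at h3
    omega

end Cfsg.Agent.S3883
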