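import Cfsg.Statements.S3884
import Cfsg.Agent.Lib.PGroup.Metacyclic

set_option autoImplicit false
open Cfsg

namespace Cfsg.Agent.S3884

open CfsgLib.PGroup CfsgLib.PGroup.Metacyclic

/-- Let p be an odd prime and G a finite metacyclic p-group (G has a cyclic normal subgroup with cyclic quotient). Then G is the product of two cyclic subgroups with trivial intersection: there are cyclic subgroups A and B with A ∩ B = 1 and |A| · |B| = |G|. -/
theorem result {G : Type*} [Group G] [Finite G] {p : ℕ} [Fact p.Prime] (hp : p ≠ 2) (hG : IsPGroup p G) (hmc : Cfsg.IsMetacyclic G) : ∃ A B : Subgroup G, IsCyclic ↥A ∧ IsCyclic ↥B ∧ A ⊓ B = ⊥ ∧ Nat.card ↥A * Nat.card ↥B = Nat.card G := by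
  obtain ⟨D⟩ := exists_mdata hG hmc
  have hpp : p.Prime := Fact.out
  obtain ⟨c, hc⟩ : ∃ c : ℕ, D.b ^ p ^ D.t = D.a ^ c := by
    obtain ⟨c, hc⟩ := mem_powers_iff_mem_zpowers.2 ((D.mem_iff (p ^ D.t)).2 dvd_rfl)
    exact ⟨c, hc.symm⟩
  have hcard := D.cardG
  have hm := D.orderA
  -- c is divisible by p ^ n
  have hcn : p ^ D.n ∣ c := by
    rw [← D.pow_eq_one_iff]
    have h := D.conj_b_form c 0
    rw [pow_zero, mul_one, ← hc, show D.b ^ p ^ D.t * D.b * (D.b ^ p ^ D.t)⁻¹ * D.b⁻¹ = 1 by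
      rw [((Commute.refl D.b).pow_left _).eq]; group, mul_one] at h
    exact h
  have hnt : D.n ≤ D.t := by
    rw [← Nat.pow_dvd_pow_iff_le_right hpp.one_lt, ← ZMod.natCast_eq_zero_iff,
      ← gsum_cast_eq_zero_iff hp D.one_le D.dvd_r]
    have h := congrArg Prod.snd (congrArg D.v hc)
    rw [D.v_b, D.v_a] at h
    exact h
  have hrm : p ^ (D.m - D.n) ∣ D.r - 1 := by
    have h := (D.pow_eq_one_iff (p ^ D.n)).2 dvd_rfl
    rw [← orderOf_dvd_iff_pow_eq_one, hm] at h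
    rcases Nat.le_total D.n D.m with hle | hle
    · rw [show p ^ D.m = p ^ (D.m - D.n) * p ^ D.n by rw [← pow_add, Nat.sub_add_cancel hle]] at h
      exact Nat.dvd_of_mul_dvd_mul_right (pow_pos hpp.pos _) h
    · rw [Nat.sub_eq_zero_of_le hle, pow_zero]; exact one_dvd _
  have hdisj : ∀ (x : G) (A : Subgroup G) (o : ℕ), x ^ o = 1 → (∀ l : ℕ, x ^ l ∈ A → o ∣ l) →
      Subgroup.zpowers x ⊓ A = ⊥ ∧ orderOf x = o := by
    intro x A o ho hl
    refine ⟨?_, Nat.dvd_antisymm (orderOf_dvd_of_pow_eq_one ho) (hl _ (by rw [pow_orderOf_eq_one]; exact A.one_mem))⟩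
    rw [eq_bot_iff]
    rintro y ⟨hy, hyA⟩
    obtain ⟨l, rfl⟩ := mem_powers_iff_mem_zpowers.2 hy
    obtain ⟨k, rfl⟩ := hl l hyA
    show x ^ (o * k) ∈ (⊥ : Subgroup G)
    rw [pow_mul, ho, one_pow]
    exact Subgroup.one_mem _
  have hform : ∀ (j i l : ℕ), (D.a ^ j * D.b ^ i) ^ l = D.a ^ (j * gsum (D.r ^ i) l) * D.b ^ (i * l) := by
    intro j i l
    induction l with
    | zero => simp [gsum_zero]
    | succ l ih =>
      rw [pow_succ', ih, D.mul_form, add_comm l 1, gsum_add, gsum_one, pow_one, Nat.mul_add i 1 l, mul_one]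
      congr 2; ring
  have hN : p ^ D.m = orderOf D.a := hm.symm
  by_cases hct : p ^ D.t ∣ c
  · -- adjust b to have order p ^ t
    obtain ⟨c', rfl⟩ := hct
    obtain ⟨u, hu⟩ : ∃ u, gsum D.r (p ^ D.t) = p ^ D.t * u ∧ ¬ p ∣ u := by
      obtain ⟨u, hu⟩ := (dvd_gsum_iff hp (p ^ D.t) D.one_le D.dvd_r D.t).2 dvd_rfl
      refine ⟨u, hu, fun hd => ?_⟩
      have := (dvd_gsum_iff hp (p ^ D.t) D.one_le D.dvd_r (D.t + 1)).1 (by rw [hu, pow_succ]; exact Nat.mul_dvd_mul_left _ hd)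
      have := (Nat.pow_dvd_pow_iff_le_right hpp.one_lt).1 this
      omega
    obtain ⟨hu, hup⟩ := hu
    obtain ⟨j, hj⟩ : ∃ j : ℕ, p ^ D.m ∣ j * u + c' := by
      haveI := Plane.neZero_pow (p := p) (n := D.m)
      have hun : IsUnit (u : ZMod (p ^ D.m)) := by
        rw [ZMod.isUnit_iff_coprime]; exact ((hpp.coprime_iff_not_dvd.2 hup).symm).pow_right _
      refine ⟨(-(c' : ZMod (p ^ D.m)) * ↑hun.unit⁻¹).val, (ZMod.natCast_eq_zero_iff _ _).1 ?_⟩
      rw [Nat.cast_add, Nat.cast_mul, ZMod.natCast_zmod_val, mul_assoc, IsUnit.val_inv_mul, mul_one, neg_add_cancel]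
    set b' := D.a ^ j * D.b with hb'
    have hb : ∀ l, b' ^ l = D.a ^ (j * gsum D.r l) * D.b ^ l := fun l => by
      have := hform j 1 l; rwa [pow_one, pow_one, one_mul] at this
    obtain ⟨h1, h2⟩ := hdisj b' (Subgroup.zpowers D.a) (p ^ D.t) (by
      rw [hb, hc, ← pow_add, ← orderOf_dvd_iff_pow_eq_one, ← hN, hu, show j * (p ^ D.t * u) + p ^ D.t * c' = p ^ D.t * (j * u + c') by ring]
      exact Dvd.dvd.mul_left hj _) (fun l hl => by
      rw [hb, Subgroup.mul_mem_cancel_left _ (Subgroup.pow_mem _ (Subgroup.mem_zpowers _) _), D.mem_iff] at hl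
      exact hl)
    refine ⟨Subgroup.zpowers D.a, Subgroup.zpowers b', inferInstance, inferInstance, by rw [inf_comm]; exact h1, ?_⟩
    rw [Nat.card_zpowers, Nat.card_zpowers, hm, h2, hcard]
  · -- b has largest order; adjust a
    have hc0 : c ≠ 0 := fun h => hct (h ▸ dvd_zero _)
    obtain ⟨k, u, hup, rfl⟩ := Nat.exists_eq_pow_mul_and_not_dvd hc0 p hpp.ne_one
    have hkt : k < D.t := by
      by_contra hge
      exact hct ((pow_dvd_pow p (not_lt.1 hge)).trans (dvd_mul_right _ _))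
    have hnk : D.n ≤ k := by
      by_contra hlt
      obtain ⟨q, hq⟩ := (pow_dvd_pow p (show k + 1 ≤ D.n by omega)).trans hcn
      rw [pow_succ, mul_assoc] at hq
      exact hup ⟨q, Nat.eq_of_mul_eq_mul_left (pow_pos hpp.pos k) hq⟩
    have hkm : k < D.m ∨ D.m ≤ k := lt_or_ge k D.m
    rcases hkm with hkm | hkm
    swap
    · -- then b ^ q = 1
      have hb1 : D.b ^ p ^ D.t = 1 := by
        rw [hc, ← orderOf_dvd_iff_pow_eq_one, ← hN]
        exact (pow_dvd_pow p hkm).trans (dvd_mul_right _ _)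
      obtain ⟨h1, h2⟩ := hdisj D.b (Subgroup.zpowers D.a) (p ^ D.t) hb1 (fun l hl => (D.mem_iff l).1 hl)
      refine ⟨Subgroup.zpowers D.a, Subgroup.zpowers D.b, inferInstance, inferInstance, by rw [inf_comm]; exact h1, ?_⟩
      rw [Nat.card_zpowers, Nat.card_zpowers, hm, h2, hcard]
    obtain ⟨w, hw⟩ : ∃ w : ℕ, p ^ (D.m - k) ∣ 1 + u * w := by
      haveI := Plane.neZero_pow (p := p) (n := D.m - k)
      have hun : IsUnit (u : ZMod (p ^ (D.m - k))) := by
        rw [ZMod.isUnit_iff_coprime]; exact ((hpp.coprime_iff_not_dvd.2 hup).symm).pow_right _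
      refine ⟨(-(↑hun.unit⁻¹ : ZMod (p ^ (D.m - k)))).val, (ZMod.natCast_eq_zero_iff _ _).1 ?_⟩
      rw [Nat.cast_add, Nat.cast_one, Nat.cast_mul, ZMod.natCast_zmod_val, mul_neg, IsUnit.mul_val_inv, add_neg_cancel]
    set i := w * p ^ (D.t - k) with hi
    set a' := D.a * D.b ^ i with ha'
    have hpk : i * p ^ k = p ^ D.t * w := by
      rw [hi, mul_assoc, ← pow_add, Nat.sub_add_cancel hkt.le, mul_comm]
    have hσ : p ^ (D.m - D.n + (D.t - k)) ∣ D.r ^ i - 1 := by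
      rw [pow_eq_gsum D.one_le, Nat.add_sub_cancel, pow_add]
      refine Nat.mul_dvd_mul hrm ((dvd_gsum_iff hp i D.one_le D.dvd_r _).2 ?_)
      exact Dvd.intro_left w hi.symm
    obtain ⟨z, hz⟩ := gsum_prime_pow hp (one_le_pow' D.one_le i) hσ (by omega) k
    have ha : ∀ l, a' ^ l = D.a ^ gsum (D.r ^ i) l * D.b ^ (i * l) := fun l => by
      have := hform 1 i l; rwa [pow_one, one_mul] at this
    have ha'1 : a' ^ p ^ k = 1 := by
      have he : p ^ D.m ∣ p ^ (k + (D.m - D.n + (D.t - k))) := pow_dvd_pow p (by omega)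
      rw [ha, hpk, pow_mul D.b, hc, ← pow_mul, ← pow_add, ← orderOf_dvd_iff_pow_eq_one, ← hN, hz,
        show p ^ k + p ^ (k + (D.m - D.n + (D.t - k))) * z + p ^ k * u * w
          = p ^ k * (1 + u * w) + p ^ (k + (D.m - D.n + (D.t - k))) * z by ring]
      refine Nat.dvd_add ?_ (he.mul_right _)
      rw [show D.m = k + (D.m - k) by omega, pow_add]
      exact Nat.mul_dvd_mul_left _ hw
    obtain ⟨h1, h2⟩ := hdisj a' (Subgroup.zpowers D.b) (p ^ k) ha'1 (fun l hl => by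
      rw [ha, Subgroup.mul_mem_cancel_right _ (Subgroup.pow_mem _ (Subgroup.mem_zpowers _) _)] at hl
      obtain ⟨e, he⟩ := mem_powers_iff_mem_zpowers.2 hl
      have he' : D.b ^ e ∈ Subgroup.zpowers D.a := by
        have h0 : D.b ^ e = D.a ^ gsum (D.r ^ i) l := he
        rw [h0]; exact Subgroup.pow_mem _ (Subgroup.mem_zpowers _) _
      obtain ⟨e', rfl⟩ := (D.mem_iff e).1 he'
      have h3 : D.a ^ (p ^ k * u * e') = D.a ^ gsum (D.r ^ i) l := by
        rw [pow_mul, ← hc, ← pow_mul]; exact he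
      have h4 := pow_eq_pow_iff_modEq.1 h3
      rw [hm] at h4
      have h5 : p ^ k ∣ gsum (D.r ^ i) l :=
        ((h4.of_dvd (pow_dvd_pow p hkm.le)).dvd_iff dvd_rfl).1 ⟨u * e', by ring⟩
      exact (dvd_gsum_iff hp l (one_le_pow' D.one_le i) (dvd_pow_sub_one D.one_le D.dvd_r i) k).1 h5)
    have hbord : orderOf D.b = p ^ D.t * p ^ (D.m - k) := by
      refine Nat.dvd_antisymm (orderOf_dvd_of_pow_eq_one ?_) ?_
      · rw [pow_mul, hc, ← pow_mul, ← orderOf_dvd_iff_pow_eq_one, ← hN,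
          show p ^ k * u * p ^ (D.m - k) = p ^ k * p ^ (D.m - k) * u by ring, ← pow_add, Nat.add_sub_cancel' hkm.le]
        exact dvd_mul_right _ _
      · obtain ⟨e, he⟩ := (D.mem_iff (orderOf D.b)).1 (by rw [pow_orderOf_eq_one]; exact Subgroup.one_mem _)
        rw [he]
        refine Nat.mul_dvd_mul_left _ ?_
        have h3 : D.a ^ (p ^ k * u * e) = 1 := by rw [pow_mul, ← hc, ← pow_mul, ← he, pow_orderOf_eq_one]
        rw [← orderOf_dvd_iff_pow_eq_one, hm, show D.m = k + (D.m - k) by omega, pow_add, mul_assoc,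
          Nat.mul_dvd_mul_iff_left (pow_pos hpp.pos _)] at h3
        exact (Nat.Coprime.pow_left _ (hpp.coprime_iff_not_dvd.2 hup)).dvd_of_dvd_mul_left h3
    refine ⟨Subgroup.zpowers a', Subgroup.zpowers D.b, inferInstance, inferInstance, h1, ?_⟩
    rw [Nat.card_zpowers, Nat.card_zpowers, h2, hbord, hcard, ← mul_assoc, mul_comm (p ^ k), mul_assoc,
      ← pow_add, Nat.add_sub_cancel' hkm.le, mul_comm]

end Cfsg.Agent.S3884
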