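import Cfsg.Statements.S3886
import Cfsg.Agent.S3880
import Cfsg.Agent.Lib.PGroup.Metacyclic

set_option autoImplicit false
open Cfsg

namespace Cfsg.Agent.S3886

open CfsgLib.PGroup CfsgLib.PGroup.Metacyclic

/-- Let p be an odd prime and G a finite metacyclic p-group (G has a cyclic normal subgroup with cyclic quotient). Then the largest value of |R| · |Z(R)| over subgroups R of G is |G : G'|², and the subgroups attaining it (the centrally large subgroups) are exactly the non-abelian subgroups together with the maximal abelian subgroups of G. -/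
theorem result {G : Type*} [Group G] [Finite G] {p : ℕ} [Fact p.Prime] (hp : p ≠ 2) (hG : IsPGroup p G) (hmc : Cfsg.IsMetacyclic G) : Cfsg.maxCentralProduct G = (commutator G).index ^ 2 ∧
    ∀ R : Subgroup G, Cfsg.IsCentrallyLarge R ↔ (¬ IsMulCommutative ↥R ∨ Maximal (fun K : Subgroup G => IsMulCommutative ↥K) R) := by
  obtain ⟨D⟩ := exists_mdata hG hmc
  haveI := Plane.neZero_pow (p := p) (n := D.n)
  set I := (commutator G).index with hI
  have hIeq : I = Nat.card (Subgroup.center G) * p ^ D.n := D.index_commutator hp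
  have hab := fun L : Subgroup G => Cfsg.Agent.S3880.result hp hG hmc L
  have hcen : ∀ R : Subgroup G, Nat.card (Subgroup.center R) = Nat.card (R ⊓ Subgroup.centralizer (R : Set G) : Subgroup G) := by
    intro R
    rw [← Subgroup.card_map_of_injective R.subtype_injective]
    congr 2
    ext x
    constructor
    · rintro ⟨⟨y, hy⟩, hyc, rfl⟩
      exact ⟨hy, Subgroup.mem_centralizer_iff.2 fun z hz => congrArg Subtype.val (Subgroup.mem_center_iff.1 hyc ⟨z, hz⟩)⟩
    · rintro ⟨hx, hxc⟩
      exact ⟨⟨x, hx⟩, Subgroup.mem_center_iff.2 fun z => Subtype.ext (Subgroup.mem_centralizer_iff.1 hxc z z.2), rfl⟩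
  have habel : ∀ R : Subgroup G, IsMulCommutative R → Nat.card R * Nat.card (Subgroup.center R) = Nat.card R ^ 2 := by
    intro R hR
    rw [sq, Subgroup.center_eq_top, Subgroup.card_top]
  have hnab : ∀ R : Subgroup G, ¬ IsMulCommutative R → Nat.card R * Nat.card (Subgroup.center R) = I ^ 2 := by
    intro R hR
    have hZ := D.center_le_of_not_comm hp R hR
    set W := D.img hp R
    have hbig : p ^ D.n < Nat.card W := not_le.1 fun h => hR ((D.isMulCommutative_iff hp R).2 h)
    have hperp := Plane.card_perp W
    have hle : Nat.card (Plane.perp W) ≤ p ^ D.n := by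
      by_contra h
      have := Nat.mul_lt_mul'' (not_le.1 h) hbig
      rw [hperp, sq] at this
      omega
    have hPW : Plane.perp W ≤ W := by
      intro x hx
      rw [← Plane.perp_perp W]
      exact fun u hu => (Plane.isotropic_iff_card_le _).2 hle u hu x hx
    have hCR : Subgroup.centralizer (R : Set G) ≤ R := by
      rw [D.centralizer_eq hp R]
      intro x hx
      rw [D.eq_pre_img hp hZ]
      exact hPW hx
    rw [hcen, inf_eq_right.2 hCR, D.card_eq_mul hp R, inf_eq_right.2 hZ, D.centralizer_eq hp R, D.card_pre hp,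
      hIeq, mul_pow, ← hperp]
    ring
  have hle : ∀ R : Subgroup G, Nat.card R * Nat.card (Subgroup.center R) ≤ I ^ 2 := by
    intro R
    by_cases hR : IsMulCommutative R
    · rw [habel R hR]
      exact Nat.pow_le_pow_left ((hab R).1.1 hR) 2
    · exact (hnab R hR).le
  have hmax : Cfsg.maxCentralProduct G = I ^ 2 := by
    refine IsGreatest.csSup_eq ⟨⟨⊤, ?_⟩, ?_⟩
    · rw [hcen, top_inf_eq, Subgroup.coe_top, Subgroup.centralizer_univ, Subgroup.card_top, D.card_eq hp, hIeq]
      ring
    · rintro _ ⟨R, rfl⟩
      exact hle R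
  refine ⟨hmax, fun R => ?_⟩
  unfold Cfsg.IsCentrallyLarge
  rw [hmax]
  by_cases hR : IsMulCommutative R
  · rw [habel R hR, (hab R).2]
    exact ⟨fun h => Or.inr (Nat.pow_left_injective two_ne_zero h),
      fun h => h.elim (fun h' => absurd hR h') (fun h' => by rw [h'])⟩
  · exact iff_of_true (hnab R hR) (Or.inl hR)

end Cfsg.Agent.S3886
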