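import Cfsg.Statements.S3887
import Cfsg.Agent.Lib.PGroup.Metacyclic

set_option autoImplicit false
open Cfsg

namespace Cfsg.Agent.S3887

open CfsgLib.PGroup CfsgLib.PGroup.Metacyclic

/-- Let p be an odd prime and G a finite metacyclic p-group (G has a cyclic normal subgroup with cyclic quotient). Then a subgroup R of G maximizes |R| · |C_G(R)| over all subgroups of G if and only if R contains the center of G. -/
theorem result {G : Type*} [Group G] [Finite G] {p : ℕ} [Fact p.Prime] (hp : p ≠ 2) (hG : IsPGroup p G) (hmc : Cfsg.IsMetacyclic G) (R : Subgroup G) : Cfsg.IsCentralizerLarge R ↔ Subgroup.center G ≤ R := by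
  obtain ⟨D⟩ := exists_mdata hG hmc
  haveI := Plane.neZero_pow (p := p) (n := D.n)
  set Z := Subgroup.center G
  have key : ∀ R : Subgroup G, Nat.card R * Nat.card (Subgroup.centralizer (R : Set G)) =
      Nat.card (R ⊓ Z : Subgroup G) * (Nat.card Z * (p ^ D.n) ^ 2) := by
    intro R
    rw [D.card_eq_mul hp R, D.centralizer_eq hp R, D.card_pre hp, ← Plane.card_perp (D.img hp R)]
    ring
  have hpos : 0 < Nat.card Z * (p ^ D.n) ^ 2 := Nat.mul_pos Nat.card_pos (pow_pos (pow_pos (Fact.out : p.Prime).pos _) _)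
  have hmax : Cfsg.maxCentralizerProduct G = Nat.card Z * (Nat.card Z * (p ^ D.n) ^ 2) := by
    refine IsGreatest.csSup_eq ⟨⟨⊤, ?_⟩, ?_⟩
    · rw [key, top_inf_eq]
    · rintro _ ⟨S, rfl⟩
      rw [key]
      exact Nat.mul_le_mul_right _ (Subgroup.card_le_of_le inf_le_right)
  unfold Cfsg.IsCentralizerLarge
  rw [hmax, key]
  constructor
  · intro h
    exact inf_eq_right.1 (Subgroup.eq_of_le_of_card_ge inf_le_right (Nat.eq_of_mul_eq_mul_right hpos h).ge)
  · intro h
    rw [inf_eq_right.2 h]

end Cfsg.Agent.S3887
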