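import Cfsg.Statements.S3889

set_option autoImplicit false
open Cfsg

namespace Cfsg.Agent.S3889

/-- A finite abelian group that is the union of a family of proper subgroups any two of which intersect trivially is elementary abelian: its exponent is a prime. -/
theorem result {G : Type*} [CommGroup G] [Finite G] (𝓑 : Set (Subgroup G)) (hprop : ∀ B ∈ 𝓑, B ≠ ⊤)
    (hcov : ∀ g : G, ∃ B ∈ 𝓑, g ∈ B) (hdisj : ∀ B ∈ 𝓑, ∀ C ∈ 𝓑, B ≠ C → B ⊓ C = ⊥) :
    (Monoid.exponent G).Prime := by
  have uniq : ∀ g : G, g ≠ 1 → ∀ B ∈ 𝓑, ∀ C ∈ 𝓑, g ∈ B → g ∈ C → B = C := by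
    intro g hg B hB C hC hgB hgC
    by_contra hne
    have : g ∈ B ⊓ C := ⟨hgB, hgC⟩
    rw [hdisj B hB C hC hne, Subgroup.mem_bot] at this
    exact hg this
  have hE : 1 < Monoid.exponent G := by
    obtain ⟨B, hB, -⟩ := hcov 1
    have : Nontrivial G := by
      by_contra h
      rw [not_nontrivial_iff_subsingleton] at h
      exact hprop B hB (Subsingleton.elim _ _)
    exact Monoid.one_lt_exponent
  obtain ⟨p, hp, hpE⟩ := Nat.exists_prime_and_dvd hE.ne'
  suffices h : ∀ g : G, g ^ p = 1 by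
    rcases (Nat.dvd_prime hp).1 (Monoid.exponent_dvd_of_forall_pow_eq_one h) with h1 | h1
    · omega
    · rwa [h1]
  by_contra! hcon
  obtain ⟨b, hb⟩ := hcon
  obtain ⟨C, hC, hbC⟩ := hcov b
  -- everything of order dividing `p` lies in the member containing `b`
  have key : ∀ g : G, g ^ p = 1 → g ∈ C := by
    intro g hg
    rcases eq_or_ne g 1 with rfl | hg1
    · exact C.one_mem
    obtain ⟨B, hB, hgbB⟩ := hcov (g * b)
    have hbp : b ^ p ∈ B := by
      have := B.pow_mem hgbB p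
      rwa [mul_pow, hg, one_mul] at this
    have := uniq _ hb B hB C hC hbp (C.pow_mem hbC p)
    rw [this] at hgbB
    simpa using C.mul_mem hgbB (C.inv_mem hbC)
  -- an element of order `p` outside `C` cannot exist, so nothing lies outside `C`
  refine hprop C hC (eq_top_iff.2 fun x _ => ?_)
  by_contra hx
  have hE0 : Monoid.exponent G ≠ 0 := by omega
  haveI := Fact.mk hp
  obtain ⟨a, ha⟩ := exists_prime_orderOf_dvd_card' p (hpE.trans Group.exponent_dvd_nat_card)
  have ha1 : a ≠ 1 := fun h => hp.ne_one (by rw [← ha, h, orderOf_one])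
  have haC : a ∈ C := key a (by rw [← ha, pow_orderOf_eq_one])
  obtain ⟨D, hD, hxD⟩ := hcov x
  obtain ⟨E', hE', hxaE⟩ := hcov (x * a)
  have hxp : x ^ p ≠ 1 := fun h => hx (key x h)
  have h2 : (x * a) ^ p = x ^ p := by rw [mul_pow, show a ^ p = 1 by rw [← ha, pow_orderOf_eq_one], mul_one]
  have h3 := uniq _ hxp D hD E' hE' (D.pow_mem hxD p) (h2 ▸ E'.pow_mem hxaE p)
  rw [← h3] at hxaE
  have haD : a ∈ D := by simpa using D.mul_mem (D.inv_mem hxD) hxaE
  exact hx (uniq a ha1 C hC D hD haC haD ▸ hxD)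

end Cfsg.Agent.S3889
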