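import Cfsg.Statements.S3890
import Cfsg.Agent.Lib.PGroup.NilpotentCover

set_option autoImplicit false
open Cfsg

namespace Cfsg.Agent.S3890

/-- A cover of a group is a finite set of proper subgroups whose union is the whole group; it is minimal when no cover has fewer members, and nilpotent when all its members are nilpotent. Let G be a finite group with trivial center admitting a nilpotent minimal cover 𝓐, and let P be an abelian Sylow p-subgroup of G that is not normal. Then either P is elementary abelian of order greater than p, or P is a Sylow p-subgroup of some member A of 𝓐, the normalizer N of P is a maximal subgroup of G, N meets each of its conjugates by elements outside N in a subgroup of order prime to p, and the centralizer of P equals A. -/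
theorem result {G : Type*} [Group G] [Finite G] (hZ : Subgroup.center G = ⊥) (𝓐 : Finset (Subgroup G))
    (h𝓐 : ((∀ A ∈ 𝓐, A ≠ ⊤) ∧ (∀ g : G, ∃ A ∈ 𝓐, g ∈ A)) ∧ (∀ 𝓑 : Finset (Subgroup G), (∀ A ∈ 𝓑, A ≠ ⊤) ∧ (∀ g : G, ∃ A ∈ 𝓑, g ∈ A) → 𝓐.card ≤ 𝓑.card) ∧ (∀ A ∈ 𝓐, Group.IsNilpotent ↥A)) {p : ℕ} [Fact p.Prime] (P : Sylow p G) (hab : IsMulCommutative ↥(P : Subgroup G))
    (hnn : ¬ (P : Subgroup G).Normal) :
    (Cfsg.IsElementaryAbelian p (P : Subgroup G) ∧ p < Nat.card ↥(P : Subgroup G)) ∨
    (∃ A ∈ 𝓐, (P : Subgroup G) ≤ A ∧ ¬ p ∣ ((P : Subgroup G).subgroupOf A).index ∧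
      IsCoatom (Subgroup.normalizer ((P : Subgroup G) : Set G)) ∧
      (∀ g : G, g ∉ Subgroup.normalizer ((P : Subgroup G) : Set G) →
        ¬ p ∣ Nat.card ↥(Subgroup.normalizer ((P : Subgroup G) : Set G) ⊓
          (Subgroup.normalizer ((P : Subgroup G) : Set G)).map (MulAut.conj g).toMonoidHom)) ∧
      Subgroup.centralizer ((P : Subgroup G) : Set G) = A) := by
  classical
  by_cases h : Cfsg.IsElementaryAbelian p (P : Subgroup G) ∧ p < Nat.card ↥(P : Subgroup G)
  · exact Or.inl h
  right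
  have hp : p.Prime := Fact.out
  have hP : IsCyclic ↥(P : Subgroup G) ∨ ¬ Cfsg.IsElementaryAbelian p (P : Subgroup G) := by
    by_cases he : Cfsg.IsElementaryAbelian p (P : Subgroup G)
    · refine Or.inl ?_
      obtain ⟨k, hk⟩ := IsPGroup.iff_card.1 P.isPGroup'
      have hle : p ^ k ≤ p ^ 1 := by rw [pow_one, ← hk]; exact not_lt.1 fun hlt => h ⟨he, hlt⟩
      have hk1 := (Nat.pow_le_pow_iff_right hp.one_lt).1 hle
      rcases Nat.le_one_iff_eq_zero_or_eq_one.1 hk1 with rfl | rfl
      · exact @isCyclic_of_subsingleton _ _ (Nat.card_eq_one_iff_unique.1 (hk.trans (pow_zero p))).1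
      · exact isCyclic_of_prime_card (hk.trans (pow_one p))
    · exact Or.inr he
  obtain ⟨hA, hco, -, hTI⟩ := CfsgLib.PGroup.normalizer_of_cover h𝓐 hZ P hab hnn hP
  have hPC : (P : Subgroup G) ≤ Subgroup.centralizer ((P : Subgroup G) : Set G) := fun a ha =>
    Subgroup.mem_centralizer_iff.2 fun b hb =>
      congrArg Subtype.val (hab.is_comm.comm (⟨b, hb⟩ : (P : Subgroup G)) ⟨a, ha⟩)
  refine ⟨_, hA, hPC, fun hd => ?_, hco, hTI, rfl⟩
  exact P.not_dvd_index (hd.trans (Subgroup.relIndex_dvd_index_of_le hPC))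

end Cfsg.Agent.S3890
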