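import Cfsg.Statements.S3892
import Mathlib
import Cfsg.Agent.Lib.OddLocal.Basic

set_option autoImplicit false
set_option linter.style.haveILetI false
open Cfsg

namespace Cfsg.Agent.S3892

open Equiv Subgroup

/-- There is no nilpotent minimal cover. -/
def NoNilCover (G : Type*) [Group G] : Prop :=
  ¬ ∃ 𝓐 : Finset (Subgroup G), ((∀ A ∈ 𝓐, A ≠ ⊤) ∧ (∀ g : G, ∃ A ∈ 𝓐, g ∈ A)) ∧
    (∀ 𝓑 : Finset (Subgroup G), (∀ A ∈ 𝓑, A ≠ ⊤) ∧ (∀ g : G, ∃ A ∈ 𝓑, g ∈ A) → 𝓐.card ≤ 𝓑.card) ∧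
    (∀ A ∈ 𝓐, Group.IsNilpotent ↥A)

/-- Two members inside one proper subgroup can be merged. -/
theorem noNilCover_of_merge {G : Type*} [Group G] {u : G} {U : Set G} {M : Subgroup G} (hM : M ≠ ⊤)
    (hle : ∀ A : Subgroup G, Group.IsNilpotent ↥A → u ∈ A → A ≤ M)
    (hle' : ∀ A : Subgroup G, Group.IsNilpotent ↥A → ∀ u' ∈ U, u' ∈ A → A ≤ M)
    (hne : ∀ A : Subgroup G, Group.IsNilpotent ↥A → u ∈ A → ∃ u' ∈ U, u' ∉ A) : NoNilCover G := by
  classical
  rintro ⟨𝓐, ⟨hprop, hcov⟩, hmin, hnil⟩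
  obtain ⟨A, hA, huA⟩ := hcov u
  obtain ⟨u', hu', hu'A⟩ := hne A (hnil A hA) huA
  obtain ⟨A', hA', huA'⟩ := hcov u'
  have hAA : A ≠ A' := fun e => hu'A (e ▸ huA')
  let 𝓑 := insert M ((𝓐.erase A).erase A')
  have hlt := hmin 𝓑 ⟨fun B hB => ?_, fun g => ?_⟩
  · have h1 : ((𝓐.erase A).erase A').card = 𝓐.card - 2 := by
      rw [Finset.card_erase_of_mem (Finset.mem_erase.2 ⟨Ne.symm hAA, hA'⟩),
        Finset.card_erase_of_mem hA]
      omega
    have h2 := Finset.card_insert_le M ((𝓐.erase A).erase A')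
    have h3 : 2 ≤ 𝓐.card := Finset.one_lt_card.2 ⟨A, hA, A', hA', hAA⟩
    simp only [𝓑] at hlt
    omega
  · rcases Finset.mem_insert.1 hB with rfl | hB
    · exact hM
    · exact hprop B (Finset.mem_of_mem_erase (Finset.mem_of_mem_erase hB))
  · obtain ⟨B, hB, hgB⟩ := hcov g
    by_cases hBA : B = A
    · subst hBA
      exact ⟨M, Finset.mem_insert_self _ _, hle B (hnil B hB) huA hgB⟩
    by_cases hBA' : B = A'
    · subst hBA'
      exact ⟨M, Finset.mem_insert_self _ _, hle' B (hnil B hB) u' hu' huA' hgB⟩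
    exact ⟨B, Finset.mem_insert_of_mem (Finset.mem_erase.2 ⟨hBA', Finset.mem_erase.2 ⟨hBA, hB⟩⟩), hgB⟩

/-- The `p`-elements of a nilpotent subgroup form a normal `p`-subgroup. -/
theorem exists_pgroup {G : Type*} [Group G] [Finite G] (p : ℕ) [Fact p.Prime] {A : Subgroup G}
    (hA : Group.IsNilpotent ↥A) :
    ∃ P : Subgroup G, IsPGroup p P ∧ P ≤ A ∧ A ≤ normalizer (P : Set G) ∧
      ∀ u ∈ A, (∃ j, u ^ p ^ j = 1) → u ∈ P := by
  haveI := hA
  obtain ⟨S⟩ : Nonempty (Sylow p A) := inferInstance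
  haveI hSn : (S : Subgroup A).Normal := by
    have e := (Group.isNilpotent_of_finite_tfae (G := ↥A)).out 0 3 rfl rfl |>.mp ‹_›
    exact e p inferInstance S
  refine ⟨(S : Subgroup A).map A.subtype, S.2.map _, map_subtype_le _, ?_, ?_⟩
  · intro g hg
    rw [mem_normalizer_iff]
    intro d
    constructor
    · intro hd
      obtain ⟨s, hs, rfl⟩ := Subgroup.mem_map.1 hd
      exact ⟨⟨g, hg⟩ * s * ⟨g, hg⟩⁻¹, hSn.conj_mem s hs _, rfl⟩
    · intro hd
      obtain ⟨s, hs, hsd⟩ := Subgroup.mem_map.1 hd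
      refine ⟨⟨g, hg⟩⁻¹ * s * ⟨g, hg⟩, ?_, ?_⟩
      · have h1 := hSn.conj_mem s hs (⟨g, hg⟩ : A)⁻¹
        rwa [inv_inv] at h1
      · show g⁻¹ * (s : G) * g = d
        rw [show (s : G) = g * d * g⁻¹ from hsd]; group
  · intro u hu ⟨j, hj⟩
    have hR : IsPGroup p (zpowers (⟨u, hu⟩ : A)) := fun z => ⟨j, by
      obtain ⟨i, hi⟩ := z.2
      refine Subtype.ext ?_
      rw [Subgroup.coe_pow, Subgroup.coe_one, ← hi, ← zpow_natCast, ← zpow_mul, mul_comm, zpow_mul,
        zpow_natCast, show (⟨u, hu⟩ : A) ^ p ^ j = 1 from Subtype.ext hj, one_zpow]⟩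
    exact ⟨⟨u, hu⟩, (le_sup_right.trans (S.3 (S.2.to_sup_of_normal_left hR) le_sup_left).le)
      (mem_zpowers _), rfl⟩

/-- An element generating a Sylow subgroup is central in every nilpotent subgroup containing it. -/
theorem le_centralizer_of_prime {G : Type*} [Group G] [Finite G] (p : ℕ) [hp : Fact p.Prime]
    (hsq : ¬ p ^ 2 ∣ Nat.card G) {u : G} (hu : orderOf u = p) {A : Subgroup G}
    (hA : Group.IsNilpotent ↥A) (huA : u ∈ A) : A ≤ centralizer ({u} : Set G) := by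
  obtain ⟨P, hPp, hPA, hAP, hP⟩ := exists_pgroup p hA
  have huP : zpowers u ≤ P := zpowers_le.2 (hP u huA ⟨1, by rw [pow_one, ← hu, pow_orderOf_eq_one]⟩)
  obtain ⟨k, hk⟩ := IsPGroup.iff_card.1 hPp
  have hk1 : k ≤ 1 := by
    by_contra hk2
    exact hsq ((pow_dvd_pow p (by omega)).trans (hk ▸ card_subgroup_dvd_card P))
  have hPu : P = zpowers u := (eq_of_le_of_card_ge huP (by
    rw [Nat.card_zpowers, hu, hk]
    exact (Nat.pow_le_pow_right hp.out.pos hk1).trans (pow_one p).le)).symm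
  intro a ha
  refine mem_centralizer_singleton_iff.2 ?_
  -- the conjugation action on `P` has `p`-power order and order dividing `p - 1`
  haveI := hA
  obtain ⟨x, y, hx, hy, hxy⟩ : ∃ x y : A, (∃ j, x ^ p ^ j = 1) ∧ (orderOf y).Coprime p ∧ (⟨a, ha⟩ : A) = x * y := by
    set g : A := ⟨a, ha⟩ with hg
    obtain ⟨e, m, hm, he⟩ := Nat.exists_eq_pow_mul_and_not_dvd (orderOf_pos g).ne' p hp.out.ne_one
    have hcop : (p ^ e).Coprime m := Nat.Coprime.pow_left _ (hp.out.coprime_iff_not_dvd.2 hm)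
    obtain ⟨B, C, hBC⟩ : ∃ B C : ℤ, (p : ℤ) ^ e * B + (m : ℤ) * C = 1 := by
      refine ⟨Nat.gcdA (p ^ e) m, Nat.gcdB (p ^ e) m, ?_⟩
      have := Nat.gcd_eq_gcd_ab (p ^ e) m
      rw [hcop.gcd_eq_one] at this
      push_cast at this
      exact this.symm
    have hord : g ^ ((p : ℤ) ^ e * (m : ℤ)) = 1 := by
      rw [show (p : ℤ) ^ e * (m : ℤ) = ((orderOf g : ℕ) : ℤ) by rw [he]; push_cast; ring, zpow_natCast,
        pow_orderOf_eq_one]
    refine ⟨g ^ ((m : ℤ) * C), g ^ ((p : ℤ) ^ e * B), ⟨e, ?_⟩, ?_, ?_⟩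
    · rw [← zpow_natCast, ← zpow_mul,
        show (m : ℤ) * C * ((p ^ e : ℕ) : ℤ) = (p : ℤ) ^ e * m * C by push_cast; ring, zpow_mul, hord,
        one_zpow]
    · refine Nat.Coprime.coprime_dvd_left (orderOf_dvd_of_pow_eq_one (n := m) ?_)
        (hp.out.coprime_iff_not_dvd.2 hm).symm
      rw [← zpow_natCast, ← zpow_mul, show (p : ℤ) ^ e * B * (m : ℤ) = (p : ℤ) ^ e * m * B by ring,
        zpow_mul, hord, one_zpow]
    · rw [← zpow_add, add_comm, hBC, zpow_one]
  have hxu : (x : G) * u = u * x := by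
    obtain ⟨j, hj⟩ := hx
    obtain ⟨i, hi⟩ := hPu.le (hP x x.2 ⟨j, congrArg Subtype.val hj⟩)
    rw [← hi]
    exact ((Commute.refl u).zpow_left i).eq
  have hyu : (y : G) * u = u * y := congrArg Subtype.val
    (CfsgLib.OddLocal.commute_of_coprime_orderOf (N := ↥A) y ⟨u, huA⟩ (by
      rw [← Subgroup.orderOf_coe (⟨u, huA⟩ : A), hu]; exact hy))
  have hax : a = (x : G) * y := congrArg Subtype.val hxy
  rw [hax, mul_assoc, hyu, ← mul_assoc, hxu, mul_assoc]

theorem exists_perm (n : ℕ) (hn : 6 ≤ n) : ∃ (p : ℕ) (σ : Perm (Fin n)) (x : Fin n), p.Prime ∧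
    p ∣ n - 1 ∧ Perm.sign σ = 1 ∧ (∃ j, σ ^ p ^ j = 1) ∧ ∀ y, σ y = y ↔ y = x := by
  classical
  obtain ⟨p, hp, hd⟩ := Nat.exists_prime_and_dvd (n := n - 1) (by omega)
  obtain ⟨k, hk⟩ := hd
  obtain ⟨m, hsum, hge, hsgn, hdiv⟩ : ∃ m : Multiset ℕ, m.sum = n - 1 ∧ (∀ a ∈ m, 2 ≤ a) ∧
      Even (m.sum + Multiset.card m) ∧ ∀ a ∈ m, a ∣ p ^ 2 := by
    by_cases hodd : p = 2 ∧ Odd k
    · obtain ⟨rfl, c, rfl⟩ := hodd
      refine ⟨4 ::ₘ Multiset.replicate (2 * c - 1) 2, ?_, ?_, ?_, ?_⟩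
      · simp; omega
      · intro a ha
        rcases Multiset.mem_cons.1 ha with rfl | ha
        · norm_num
        · rw [Multiset.eq_of_mem_replicate ha]
      · simp
        rw [Nat.even_iff]
        omega
      · intro a ha
        rcases Multiset.mem_cons.1 ha with rfl | ha
        · norm_num
        · rw [Multiset.eq_of_mem_replicate ha]; norm_num
    · refine ⟨Multiset.replicate k p, ?_, ?_, ?_, ?_⟩
      · simp; rw [hk, mul_comm]
      · intro a ha; rw [Multiset.eq_of_mem_replicate ha]; exact hp.two_le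
      · simp only [Multiset.sum_replicate, smul_eq_mul, Multiset.card_replicate]
        rw [← Nat.mul_succ]
        rcases hp.eq_two_or_odd' with rfl | hpo
        · exact (Nat.not_odd_iff_even.1 fun h => hodd ⟨rfl, h⟩).mul_right _
        · exact (Nat.even_add_one.2 (Nat.not_even_iff_odd.2 hpo)).mul_left _
      · intro a ha; rw [Multiset.eq_of_mem_replicate ha]; exact dvd_pow_self p two_ne_zero
  obtain ⟨σ, hσ⟩ := (Perm.exists_with_cycleType_iff (Fin n) (m := m)).2
    ⟨by rw [Fintype.card_fin]; omega, hge⟩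
  have hcard : σ.supportᶜ.card = 1 := by
    rw [Finset.card_compl, ← Perm.sum_cycleType, hσ, hsum, Fintype.card_fin]; omega
  obtain ⟨x, hx⟩ := Finset.card_eq_one.1 hcard
  refine ⟨p, σ, x, hp, ⟨k, hk⟩, ?_, ⟨2, ?_⟩, fun y => ?_⟩
  · rw [Perm.sign_of_cycleType, hσ, hsgn.neg_one_pow]
  · rw [← orderOf_dvd_iff_pow_eq_one, ← Perm.lcm_cycleType, hσ]
    exact Multiset.lcm_dvd.2 hdiv
  · rw [← Perm.notMem_support, ← Finset.mem_compl, hx, Finset.mem_singleton]

theorem fixes_point {n p : ℕ} [hp : Fact p.Prime] (hdvd : p ∣ n - 1) (hn : 0 < n)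
    {P : Subgroup (Perm (Fin n))} (hP : IsPGroup p P) {σ : Perm (Fin n)} (hσ : σ ∈ P) {x : Fin n}
    (hx : ∀ y, σ y = y → y = x) : ∀ τ ∈ P, τ x = x := by
  letI : MulAction P (Fin n) := MulAction.compHom _ P.subtype
  have hmod := hP.card_modEq_card_fixedPoints (Fin n)
  rw [Nat.card_fin] at hmod
  have hne : Nat.card (MulAction.fixedPoints P (Fin n)) ≠ 0 := by
    intro h0
    rw [h0, Nat.modEq_zero_iff_dvd] at hmod
    have h1 := Nat.dvd_sub hmod hdvd
    rw [show n - (n - 1) = 1 by omega] at h1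
    exact hp.out.ne_one (Nat.dvd_one.1 h1)
  obtain ⟨⟨y, hy⟩⟩ := (Nat.card_ne_zero.1 hne).1
  intro τ hτ
  rw [← hx y (hy ⟨σ, hσ⟩)]
  exact hy ⟨τ, hτ⟩

/-- The case `n ≥ 6`. -/
theorem large_case {G : Type*} [Group G] [Finite G] (n : ℕ) (hn : 6 ≤ n) (ι : G →* Perm (Fin n))
    (hι : Function.Injective ι) (halt : alternatingGroup (Fin n) ≤ ι.range) : NoNilCover G := by
  classical
  obtain ⟨p, σ, x, hp, hdvd, hsgn, ⟨j, hj⟩, hfix⟩ := exists_perm n hn
  haveI := Fact.mk hp
  obtain ⟨u, hu⟩ := halt (Perm.mem_alternatingGroup.2 hsgn)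
  let M : Subgroup G := (MulAction.stabilizer (Perm (Fin n)) x).comap ι
  have hMtop : M ≠ ⊤ := by
    intro htop
    obtain ⟨y, hy⟩ : ∃ y : Fin n, y ≠ x := Fintype.exists_ne_of_one_lt_card (by rw [Fintype.card_fin]; omega) x
    haveI := alternatingGroup.isPretransitive_of_three_le_card (Fin n) (by rw [Nat.card_fin]; omega)
    obtain ⟨g, hg⟩ := MulAction.exists_smul_eq (alternatingGroup (Fin n)) x y
    obtain ⟨g', hg'⟩ := halt g.2
    have h1 : ι g' x = x := (show g' ∈ M by rw [htop]; exact mem_top _)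
    rw [hg'] at h1
    exact hy (hg.symm.trans h1)
  have key : ∀ A : Subgroup G, Group.IsNilpotent ↥A → ∀ w ∈ A, (∃ i, w ^ p ^ i = 1) →
      (∀ y, ι w y = y ↔ y = x) → A ≤ M := by
    intro A hA w hw hwp hwfix
    obtain ⟨P, hPp, -, hAP, hP⟩ := exists_pgroup p hA
    have hall := fixes_point hdvd (by omega) (hPp.map ι) ⟨w, hP w hw hwp, rfl⟩ fun y => (hwfix y).1
    intro a ha
    show ι a x = x
    have h1 : a⁻¹ * w * a ∈ P := by
      have := (mem_normalizer_iff.1 (hAP (A.inv_mem ha)) w).1 (hP w hw hwp)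
      rwa [inv_inv] at this
    have h2 := hall _ ⟨_, h1, rfl⟩
    rw [map_mul, map_mul, map_inv, Perm.mul_apply, Perm.mul_apply, Perm.inv_eq_iff_eq] at h2
    exact (hwfix _).1 h2
  have hup : u ^ p ^ j = 1 := hι (by rw [map_pow, hu, hj, map_one])
  have hux' : ι u x = x := by rw [hu]; exact (hfix x).2 rfl
  refine noNilCover_of_merge (u := u) (U := {z | ∃ g : G, ι g x = x ∧ z = g * u * g⁻¹}) hMtop
    (fun A hA h => key A hA u h ⟨j, hup⟩ (by rw [hu]; exact hfix))
    (fun A hA z hz h => ?_) (fun A hA huA => ?_)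
  · obtain ⟨g, hgx, rfl⟩ := hz
    refine key A hA _ h ⟨j, by rw [conj_pow, hup, mul_one, mul_inv_cancel]⟩ fun y => ?_
    rw [map_mul, map_mul, map_inv, hu, Perm.mul_apply, Perm.mul_apply, ← Perm.eq_inv_iff_eq, hfix,
      Perm.inv_eq_iff_eq, hgx]
  · by_contra hno
    push Not at hno
    obtain ⟨P, hPp, -, -, hPmem⟩ := exists_pgroup p hA
    have hP : ∀ g : G, ι g x = x → g * u * g⁻¹ ∈ P := fun g hg =>
      hPmem _ (hno _ ⟨g, hg, rfl⟩) ⟨j, by rw [conj_pow, hup, mul_one, mul_inv_cancel]⟩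
    let f : alternatingGroup {y : Fin n // y ≠ x} →* Perm (Fin n) :=
      (Perm.ofSubtype).comp (Subgroup.subtype _)
    have hfalt : ∀ g, f g ∈ alternatingGroup (Fin n) := fun g => by
      rw [Perm.mem_alternatingGroup]
      show Perm.sign (Perm.ofSubtype (g : Perm {y : Fin n // y ≠ x})) = 1
      rw [Perm.sign_ofSubtype]; exact g.2
    have hfx : ∀ g, f g x = x := fun g => Perm.ofSubtype_apply_of_not_mem _ (by simp)
    have hcard : Nat.card {y : Fin n // y ≠ x} = n - 1 := by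
      rw [Nat.card_eq_fintype_card, Fintype.card_subtype_compl, Fintype.card_subtype_eq, Fintype.card_fin]
    haveI := alternatingGroup.isSimpleGroup (α := {y : Fin n // y ≠ x}) (by rw [hcard]; omega)
    let N : Subgroup (alternatingGroup {y : Fin n // y ≠ x}) :=
      ((closure {z | ∃ g : G, ι g x = x ∧ z = g * u * g⁻¹}).map ι).comap f
    have hNn : N.Normal := by
      refine ⟨fun a ha g => ?_⟩
      obtain ⟨g', hg'⟩ := halt (hfalt g)
      have hg'x : ι g' x = x := by rw [hg']; exact hfx g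
      obtain ⟨a', ha', haa⟩ := ha
      refine ⟨g' * a' * g'⁻¹, ?_, ?_⟩
      · clear haa
        induction ha' using closure_induction with
        | mem z hz =>
          obtain ⟨h, hh, rfl⟩ := hz
          exact subset_closure ⟨g' * h, by rw [map_mul, Perm.mul_apply, hh, hg'x], by group⟩
        | one => simp
        | mul z w _ _ hz hw => rw [← conj_mul]; exact mul_mem hz hw
        | inv z _ hz => rw [← conj_inv]; exact Subgroup.inv_mem _ hz
      · rw [map_mul, map_mul, map_inv, hg', haa, map_mul, map_mul, map_inv]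
    have hfix' : ∀ y, σ y ≠ x ↔ y ≠ x := fun y => by
      rw [not_iff_not]
      exact ⟨fun h => σ.injective (h.trans ((hfix x).2 rfl).symm), fun h => h ▸ (hfix x).2 rfl⟩
    set σ' : Perm {y : Fin n // y ≠ x} := σ.subtypePerm hfix' with hσ'
    have hof : Perm.ofSubtype σ' = σ := Perm.ofSubtype_subtypePerm hfix' fun y hy h => hy ((hfix y).2 h)
    have hNtop : N = ⊤ := (hNn.eq_bot_or_eq_top).resolve_left fun h0 => by
      have hs : Perm.sign σ' = 1 := by rw [← Perm.sign_ofSubtype, hof, hsgn]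
      have hmem : (⟨σ', Perm.mem_alternatingGroup.2 hs⟩ : alternatingGroup {y : Fin n // y ≠ x}) ∈ N :=
        ⟨u, subset_closure ⟨1, by simp, by simp⟩, hu.trans hof.symm⟩
      rw [h0, mem_bot, Subtype.ext_iff] at hmem
      obtain ⟨y, hy⟩ : ∃ y : Fin n, y ≠ x := Fintype.exists_ne_of_one_lt_card (by rw [Fintype.card_fin]; omega) x
      refine hy ((hfix y).1 ?_)
      rw [← hof, show σ' = 1 from hmem, map_one, Perm.one_apply]
    have hle : f.range ≤ P.map ι := by
      rintro _ ⟨g, rfl⟩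
      obtain ⟨a, ha, hag⟩ : g ∈ N := hNtop ▸ mem_top g
      refine ⟨a, (closure_le _).2 ?_ ha, hag⟩
      rintro _ ⟨h, hh, rfl⟩
      exact hP h hh
    have hfinj : Function.Injective f := Perm.ofSubtype_injective.comp (Subgroup.subtype_injective _)
    obtain ⟨k, hk⟩ := IsPGroup.iff_card.1 ((hPp.map ι).to_le hle)
    have h2 : ∀ r : ℕ, r.Prime → r ≤ 3 → r = p := by
      intro r hr hr3
      haveI : Nontrivial {y : Fin n // y ≠ x} := Finite.one_lt_card_iff_nontrivial.1 (by rw [hcard]; omega)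
      have h1 := two_mul_nat_card_alternatingGroup (α := {y : Fin n // y ≠ x})
      rw [Nat.card_perm, hcard, Nat.card_congr (MonoidHom.ofInjective hfinj).toEquiv, hk] at h1
      have h5 : 2 * r ∣ (n - 1).factorial := by
        rcases (show r = 2 ∨ r = 3 by have := hr.two_le; omega) with rfl | rfl
        · exact Nat.dvd_factorial (by norm_num) (by omega)
        · exact (show 2 * 3 ∣ Nat.factorial 3 by decide).trans (Nat.factorial_dvd_factorial (by omega))
      rw [← h1] at h5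
      exact (Nat.prime_dvd_prime_iff_eq hr hp).1 (hr.dvd_of_dvd_pow (Nat.dvd_of_mul_dvd_mul_left two_pos h5))
    exact absurd ((h2 2 Nat.prime_two (by norm_num)).trans (h2 3 Nat.prime_three le_rfl).symm) (by norm_num)

set_option maxRecDepth 20000 in
set_option maxHeartbeats 2000000 in
theorem alt_five : NoNilCover ↥(alternatingGroup (Fin 5)) := by
  haveI := Fact.mk Nat.prime_three
  let u : alternatingGroup (Fin 5) :=
    ⟨swap 0 1 * swap 1 2, Perm.mem_alternatingGroup.2 (by decide)⟩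
  let v : alternatingGroup (Fin 5) :=
    ⟨swap 0 1 * swap 1 3, Perm.mem_alternatingGroup.2 (by decide)⟩
  have hsq : ¬ 3 ^ 2 ∣ Nat.card (alternatingGroup (Fin 5)) := by
    rw [nat_card_alternatingGroup, Nat.card_fin]; decide
  have hfix : ∀ a : alternatingGroup (Fin 5), (a * u = u * a → (a : Perm (Fin 5)) 4 = 4) ∧
      (a * v = v * a → (a : Perm (Fin 5)) 4 = 4) := by decide
  refine noNilCover_of_merge (u := u) (U := {v})
    (M := (MulAction.stabilizer (Perm (Fin 5)) (4 : Fin 5)).comap (alternatingGroup (Fin 5)).subtype)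
    ?_ (fun A hA hu a ha => ?_) (fun A hA w hw hwA a ha => ?_) (fun A hA hu => ⟨v, rfl, fun hv => ?_⟩)
  · intro htop
    have h1 : (⟨swap 4 3 * swap 0 1, Perm.mem_alternatingGroup.2 (by decide)⟩ : alternatingGroup (Fin 5))
        ∈ (⊤ : Subgroup (alternatingGroup (Fin 5))) := mem_top _
    rw [← htop] at h1
    have h2 : (swap 4 3 * swap 0 1 : Perm (Fin 5)) 4 = 4 := h1
    exact absurd h2 (by decide)
  · exact (hfix a).1 (mem_centralizer_singleton_iff.1
      (le_centralizer_of_prime 3 hsq (orderOf_eq_prime (by decide) (by decide)) hA hu ha))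
  · obtain rfl : w = v := hw
    exact (hfix a).2 (mem_centralizer_singleton_iff.1
      (le_centralizer_of_prime 3 hsq (orderOf_eq_prime (by decide) (by decide)) hA hwA ha))
  · exact absurd (mem_centralizer_singleton_iff.1
      (le_centralizer_of_prime 3 hsq (orderOf_eq_prime (by decide) (by decide)) hA hu hv)) (by decide)

theorem sym_prime_case {n : ℕ} (p : ℕ) [Fact p.Prime] (hn : 2 ≤ n)
    (hsq : ¬ p ^ 2 ∣ Nat.card (Perm (Fin n))) (u v : Perm (Fin n)) (hu : orderOf u = p) (hv : orderOf v = p)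
    (hfix : ∀ a : Perm (Fin n), (a * u = u * a → Perm.sign a = 1) ∧ (a * v = v * a → Perm.sign a = 1))
    (hne : v * u ≠ u * v) : NoNilCover (Perm (Fin n)) := by
  haveI : Nontrivial (Fin n) := Fin.nontrivial_iff_two_le.2 hn
  refine noNilCover_of_merge (u := u) (U := {v}) (M := alternatingGroup (Fin n))
    ?_ (fun A hA hA' a ha => ?_) (fun A hA w hw hwA a ha => ?_) (fun A hA huA => ⟨v, rfl, fun hvA => ?_⟩)
  · intro htop
    have h1 : swap (⟨0, by omega⟩ : Fin n) ⟨1, by omega⟩ ∈ alternatingGroup (Fin n) := htop ▸ mem_top _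
    rw [Perm.mem_alternatingGroup, Perm.sign_swap (by simp [Fin.ext_iff])] at h1
    exact absurd h1 (by decide)
  · exact Perm.mem_alternatingGroup.2 ((hfix a).1 (mem_centralizer_singleton_iff.1
      (le_centralizer_of_prime p hsq hu hA hA' ha)))
  · obtain rfl : w = v := hw
    exact Perm.mem_alternatingGroup.2 ((hfix a).2 (mem_centralizer_singleton_iff.1
      (le_centralizer_of_prime p hsq hv hA hwA ha)))
  · exact hne (mem_centralizer_singleton_iff.1 (le_centralizer_of_prime p hsq hu hA huA hvA))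

set_option maxRecDepth 20000 in
set_option maxHeartbeats 2000000 in
theorem sym_five : NoNilCover (Perm (Fin 5)) :=
  haveI := Fact.mk Nat.prime_five
  sym_prime_case 5 (by norm_num) (by rw [Nat.card_perm, Nat.card_fin]; decide)
    (swap 0 1 * swap 1 2 * swap 2 3 * swap 3 4) (swap 0 2 * swap 2 1 * swap 1 3 * swap 3 4)
    (orderOf_eq_prime (by decide) (by decide)) (orderOf_eq_prime (by decide) (by decide))
    (by decide) (by decide)

set_option maxRecDepth 20000 in
theorem sym_four : NoNilCover (Perm (Fin 4)) :=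
  haveI := Fact.mk Nat.prime_three
  sym_prime_case 3 (by norm_num) (by rw [Nat.card_perm, Nat.card_fin]; decide)
    (swap 0 1 * swap 1 2) (swap 0 1 * swap 1 3)
    (orderOf_eq_prime (by decide) (by decide)) (orderOf_eq_prime (by decide) (by decide))
    (by decide) (by decide)

/-- A cover of a group is a finite set of proper subgroups whose union is the whole group; it is minimal when no cover has fewer members, and nilpotent when all its members are nilpotent. The alternating groups of degree at least 5 and the symmetric groups of degree at least 4 have no nilpotent minimal cover. -/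
theorem result (n : ℕ) :
    (5 ≤ n → ¬ ∃ 𝓐 : Finset (Subgroup ↥(alternatingGroup (Fin n))), ((∀ A ∈ 𝓐, A ≠ ⊤) ∧ (∀ g : ↥(alternatingGroup (Fin n)), ∃ A ∈ 𝓐, g ∈ A)) ∧ (∀ 𝓑 : Finset (Subgroup ↥(alternatingGroup (Fin n))), (∀ A ∈ 𝓑, A ≠ ⊤) ∧ (∀ g : ↥(alternatingGroup (Fin n)), ∃ A ∈ 𝓑, g ∈ A) → 𝓐.card ≤ 𝓑.card) ∧ (∀ A ∈ 𝓐, Group.IsNilpotent ↥A)) ∧
    (4 ≤ n → ¬ ∃ 𝓐 : Finset (Subgroup (Equiv.Perm (Fin n))), ((∀ A ∈ 𝓐, A ≠ ⊤) ∧ (∀ g : (Equiv.Perm (Fin n)), ∃ A ∈ 𝓐, g ∈ A)) ∧ (∀ 𝓑 : Finset (Subgroup (Equiv.Perm (Fin n))), (∀ A ∈ 𝓑, A ≠ ⊤) ∧ (∀ g : (Equiv.Perm (Fin n)), ∃ A ∈ 𝓑, g ∈ A) → 𝓐.card ≤ 𝓑.card) ∧ (∀ A ∈ 𝓐, Group.IsNilpotent ↥A)) := by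
  refine ⟨fun h5 => ?_, fun h4 => ?_⟩
  · rcases Nat.lt_or_ge n 6 with h | h
    · obtain rfl : n = 5 := by omega
      exact alt_five
    · exact large_case n h (alternatingGroup (Fin n)).subtype (Subgroup.subtype_injective _)
        (Subgroup.range_subtype _).ge
  · rcases Nat.lt_or_ge n 6 with h | h
    · rcases (show n = 4 ∨ n = 5 by omega) with rfl | rfl
      · exact sym_four
      · exact sym_five
    · exact large_case n h (MonoidHom.id _) Function.injective_id (by rw [MonoidHom.range_eq_top.2 Function.surjective_id]; exact le_top)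

end Cfsg.Agent.S3892
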