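import Cfsg.Statements.S3894
import Mathlib
import Cfsg.Agent.Lib.OddLocal.Basic

set_option autoImplicit false
set_option linter.style.haveILetI false
open Cfsg

namespace Cfsg.Agent.S3894

open Subgroup Matrix

variable {F : Type*} [Field F] {n : ℕ}

/-- Stabiliser of the line through `v`. -/
def lineStab (v : Fin n → F) : Subgroup (GL (Fin n) F) where
  carrier := {g | ∃ c : F, c ≠ 0 ∧ (g : Matrix (Fin n) (Fin n) F) *ᵥ v = c • v}
  one_mem' := ⟨1, one_ne_zero, by rw [Units.val_one, one_mulVec, one_smul]⟩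
  mul_mem' := by
    rintro a b ⟨c, hc, ha⟩ ⟨d, hd, hb⟩
    exact ⟨d * c, mul_ne_zero hd hc, by
      rw [Units.val_mul, ← mulVec_mulVec, hb, mulVec_smul, ha, smul_smul]⟩
  inv_mem' := by
    rintro a ⟨c, hc, ha⟩
    refine ⟨c⁻¹, inv_ne_zero hc, ?_⟩
    calc ((a⁻¹ : GL (Fin n) F) : Matrix (Fin n) (Fin n) F) *ᵥ v
        = ((a⁻¹ : GL (Fin n) F) : Matrix (Fin n) (Fin n) F) *ᵥ
            (c⁻¹ • ((a : Matrix (Fin n) (Fin n) F) *ᵥ v)) := by
          rw [ha, smul_smul, inv_mul_cancel₀ hc, one_smul]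
      _ = c⁻¹ • v := by rw [mulVec_smul, mulVec_mulVec, Units.inv_mul, one_mulVec]

theorem mem_lineStab_iff [Nonempty (Fin n)] {v : Fin n → F} (hv : v ≠ 0) {g : GL (Fin n) F} :
    g ∈ lineStab v ↔ ∃ c : F, (g : Matrix (Fin n) (Fin n) F) *ᵥ v = c • v := by
  refine ⟨fun ⟨c, _, h⟩ => ⟨c, h⟩, fun ⟨c, h⟩ => ⟨c, fun hc => hv ?_, h⟩⟩
  have h1 := congrArg (fun w => ((g⁻¹ : GL (Fin n) F) : Matrix (Fin n) (Fin n) F) *ᵥ w) h
  simp only [mulVec_mulVec, Units.inv_mul, one_mulVec, hc, zero_smul, mulVec_zero] at h1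
  exact h1

theorem center_le_lineStab [Nonempty (Fin n)] {v : Fin n → F} (hv : v ≠ 0) :
    center (GL (Fin n) F) ≤ lineStab v := by
  intro g hg
  obtain ⟨a, ha⟩ := GeneralLinearGroup.mem_center_iff_val_mem_range_scalar.1 hg
  refine (mem_lineStab_iff hv).2 ⟨a, ?_⟩
  rw [← ha, scalar_apply]
  ext i
  simp [mulVec_diagonal]

local notation "π" => QuotientGroup.mk' (Subgroup.center (GL (Fin _) F))

variable (G : Subgroup (GL (Fin n) F ⧸ center (GL (Fin n) F)))

/-- The subgroup of `G` fixing the line through `v`. -/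
def stabIn (v : Fin n → F) : Subgroup ↥G :=
  ((lineStab v).map (QuotientGroup.mk' (center (GL (Fin n) F)))).subgroupOf G

/-- The preimage in `GL` of a subgroup of `G`. -/
def preim (A : Subgroup ↥G) : Subgroup (GL (Fin n) F) :=
  (A.map G.subtype).comap (QuotientGroup.mk' (center (GL (Fin n) F)))

variable {G}

theorem mem_preim {A : Subgroup ↥G} {g : GL (Fin n) F} (x : ↥G)
    (hx : QuotientGroup.mk' (center (GL (Fin n) F)) g = x) : g ∈ preim G A ↔ x ∈ A := by
  rw [preim, mem_comap, hx]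
  exact ⟨fun ⟨y, hy, hyx⟩ => by rwa [← Subtype.ext hyx], fun h => ⟨x, h, rfl⟩⟩

theorem mem_stabIn [Nonempty (Fin n)] {v : Fin n → F} (hv : v ≠ 0) {g : GL (Fin n) F} (x : ↥G)
    (hx : QuotientGroup.mk' (center (GL (Fin n) F)) g = x) : x ∈ stabIn G v ↔ g ∈ lineStab v := by
  rw [stabIn, mem_subgroupOf, ← hx, ← mem_comap, comap_map_eq, QuotientGroup.ker_mk',
    sup_eq_left.2 (center_le_lineStab hv)]

theorem le_stabIn [Nonempty (Fin n)] {v : Fin n → F} (hv : v ≠ 0) {A : Subgroup ↥G}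
    (h : preim G A ≤ lineStab v) : A ≤ stabIn G v := fun x hx => by
  obtain ⟨g, hg⟩ := QuotientGroup.mk'_surjective (center (GL (Fin n) F)) x
  exact (mem_stabIn hv x hg).2 (h ((mem_preim x hg).2 hx))

theorem isNilpotent_preim {A : Subgroup ↥G} (hA : Group.IsNilpotent ↥A) :
    Group.IsNilpotent ↥(preim G A) := by
  haveI := hA
  haveI : Group.IsNilpotent ↥(A.map G.subtype) :=
    Group.nilpotent_of_mulEquiv (A.equivMapOfInjective G.subtype G.subtype_injective)
  refine Subgroup.isNilpotent_of_ker_le_center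
    ((QuotientGroup.mk' (center (GL (Fin n) F))).subgroupComap (A.map G.subtype)) fun z hz => ?_
  have hzc : (z : GL (Fin n) F) ∈ center (GL (Fin n) F) :=
    (QuotientGroup.eq_one_iff _).1 (congrArg Subtype.val (MonoidHom.mem_ker.1 hz))
  exact mem_center_iff.2 fun w => Subtype.ext (mem_center_iff.1 hzc w)

variable [Fintype F] (p : ℕ) [hp : Fact p.Prime] [hch : CharP F p]

set_option maxHeartbeats 1000000

/-- A `p`-group has a fixed nonzero vector. -/
theorem exists_fixed (hn : 0 < n) {P : Type*} [Group P] [Finite P] (hP : IsPGroup p P)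
    (f : P → (Fin n → F) → (Fin n → F)) (h1 : ∀ w, f 1 w = w)
    (hm : ∀ a b w, f (a * b) w = f a (f b w)) (h0 : ∀ a, f a 0 = 0) :
    ∃ w : Fin n → F, w ≠ 0 ∧ ∀ a, f a w = w := by
  letI : MulAction P (Fin n → F) :=
    { smul := f
      one_smul := h1
      mul_smul := hm }
  obtain ⟨k, -, hk⟩ := FiniteField.card F p
  have hd : p ∣ Nat.card (Fin n → F) := by
    rw [Nat.card_fun, Nat.card_fin, Nat.card_eq_fintype_card, hk]
    exact dvd_pow (dvd_pow_self p k.pos.ne') hn.ne'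
  obtain ⟨w, hw, hne⟩ := hP.exists_fixed_point_of_prime_dvd_card_of_fixed_point (Fin n → F) hd
    (a := 0) (fun a => h0 a)
  exact ⟨w, Ne.symm hne, hw⟩

theorem exists_pgroup {A : Subgroup ↥G} (hA : Group.IsNilpotent ↥A) :
    ∃ P : Subgroup (GL (Fin n) F), IsPGroup p P ∧ P ≤ preim G A ∧
      preim G A ≤ normalizer (P : Set (GL (Fin n) F)) ∧
      ∀ u ∈ preim G A, (∃ j, u ^ p ^ j = 1) → u ∈ P := by
  haveI := isNilpotent_preim hA
  obtain ⟨S⟩ : Nonempty (Sylow p ↥(preim G A)) := inferInstance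
  haveI hSn : (S : Subgroup ↥(preim G A)).Normal := by
    have e := (Group.isNilpotent_of_finite_tfae (G := ↥(preim G A))).out 0 3 rfl rfl |>.mp ‹_›
    exact e p inferInstance S
  refine ⟨(S : Subgroup ↥(preim G A)).map (preim G A).subtype, S.2.map _, map_subtype_le _, ?_, ?_⟩
  · intro g hg
    rw [mem_normalizer_iff]
    intro d
    constructor
    · intro hd
      obtain ⟨s, hs, rfl⟩ := Subgroup.mem_map.1 hd
      exact ⟨⟨g, hg⟩ * s * ⟨g, hg⟩⁻¹, hSn.conj_mem s hs _, rfl⟩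
    · intro hd
      obtain ⟨s, hs, hsd⟩ := Subgroup.mem_map.1 hd
      refine ⟨⟨g, hg⟩⁻¹ * s * ⟨g, hg⟩, ?_, ?_⟩
      · have h1 := hSn.conj_mem s hs (⟨g, hg⟩ : ↥(preim G A))⁻¹
        rwa [inv_inv] at h1
      · show g⁻¹ * (s : GL (Fin n) F) * g = d
        rw [show (s : GL (Fin n) F) = g * d * g⁻¹ from hsd]; group
  · intro u hu ⟨j, hj⟩
    have hR : IsPGroup p (zpowers (⟨u, hu⟩ : ↥(preim G A))) := fun z => ⟨j, by
      obtain ⟨i, hi⟩ := z.2
      refine Subtype.ext ?_
      rw [Subgroup.coe_pow, Subgroup.coe_one, ← hi, ← zpow_natCast, ← _root_.zpow_mul, mul_comm, _root_.zpow_mul,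
        zpow_natCast, show (⟨u, hu⟩ : ↥(preim G A)) ^ p ^ j = 1 from Subtype.ext hj, _root_.one_zpow]⟩
    exact ⟨⟨u, hu⟩, (le_sup_right.trans (S.3 (S.2.to_sup_of_normal_left hR) le_sup_left).le)
      (mem_zpowers _), rfl⟩

/-- A member containing a unipotent with a unique fixed line fixes that line. -/
theorem preim_le_lineStab (hn : 0 < n) {A : Subgroup ↥G} (hA : Group.IsNilpotent ↥A)
    {u : GL (Fin n) F} (hu : u ∈ preim G A) (hup : ∃ j, u ^ p ^ j = 1) {v : Fin n → F}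
    (hfix : ∀ w, (u : Matrix (Fin n) (Fin n) F) *ᵥ w = w → ∃ c : F, w = c • v) :
    preim G A ≤ lineStab v := by
  haveI : Nonempty (Fin n) := ⟨⟨0, hn⟩⟩
  obtain ⟨P, hPp, hPA, hAP, hP⟩ := exists_pgroup p hA
  obtain ⟨w, hw, hwf⟩ := exists_fixed p hn hPp
    (fun a x => ((a : GL (Fin n) F) : Matrix (Fin n) (Fin n) F) *ᵥ x)
    (fun x => by simp) (fun a b x => by simp [mulVec_mulVec]) (fun a => mulVec_zero _)
  obtain ⟨c, rfl⟩ := hfix w (hwf ⟨u, hP u hu hup⟩)
  have hc : c ≠ 0 := fun hc => hw (by rw [hc, zero_smul])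
  have hv : v ≠ 0 := fun hv => hw (by rw [hv, smul_zero])
  intro g hg
  have h1 : (u : Matrix (Fin n) (Fin n) F) *ᵥ ((g : Matrix (Fin n) (Fin n) F) *ᵥ (c • v))
      = (g : Matrix (Fin n) (Fin n) F) *ᵥ (c • v) := by
    have hb : g⁻¹ * u * g ∈ P := by
      have := (mem_normalizer_iff.1 (hAP ((preim G A).inv_mem hg)) u).1 (hP u hu hup)
      rwa [inv_inv] at this
    have h2 : ((g⁻¹ * u * g : GL (Fin n) F) : Matrix (Fin n) (Fin n) F) *ᵥ (c • v) = c • v :=
      hwf ⟨_, hb⟩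
    conv_rhs => rw [← h2]
    rw [mulVec_mulVec, mulVec_mulVec, ← Units.val_mul, ← Units.val_mul]
    congr 2
    group
  obtain ⟨d, hd⟩ := hfix _ h1
  refine (mem_lineStab_iff hv).2 ⟨c⁻¹ * d, ?_⟩
  rw [← smul_smul, ← hd, mulVec_smul, smul_smul, inv_mul_cancel₀ hc, one_smul]

omit [Fintype F] hch in
/-- The elementary nilpotent matrix. -/
def shiftN (F : Type*) [Field F] (n : ℕ) : Matrix (Fin n) (Fin n) F :=
  Matrix.of fun i j => if (i : ℕ) + 1 = j then 1 else 0

omit [Fintype F] hch in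
theorem shiftN_apply (i j : Fin n) : shiftN F n i j = if (i : ℕ) + 1 = j then 1 else 0 := rfl

omit [Fintype F] hch in
theorem shiftN_pow (k : ℕ) (i j : Fin n) (h : (i : ℕ) + k ≠ j) : (shiftN F n ^ k) i j = 0 := by
  induction k generalizing j with
  | zero =>
    rw [pow_zero, one_apply_ne fun e => h (by rw [e]; simp)]
  | succ k ih =>
    rw [pow_succ, mul_apply]
    refine Finset.sum_eq_zero fun l _ => ?_
    by_cases hl : (i : ℕ) + k = l
    · rw [shiftN_apply, if_neg (by omega), mul_zero]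
    · rw [ih l hl, zero_mul]

omit [Fintype F] hch in
theorem shiftN_mulVec_eq_zero {w : Fin n → F} (h : shiftN F n *ᵥ w = 0) (j : Fin n) (hj : (j : ℕ) ≠ 0) :
    w j = 0 := by
  have h1 := congrFun h ⟨(j : ℕ) - 1, by omega⟩
  rw [mulVec, dotProduct, Finset.sum_eq_single j] at h1
  · rw [shiftN_apply, if_pos (by simp; omega), one_mul] at h1
    exact h1
  · intro b _ hb
    rw [shiftN_apply, if_neg (fun e => hb (Fin.ext (by simp at e; omega))), zero_mul]
  · intro hh; exact absurd (Finset.mem_univ j) hh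

omit [Fintype F] hch in
theorem shiftN_vecMul_eq_zero {w : Fin n → F} (h : w ᵥ* shiftN F n = 0) (j : Fin n)
    (hj : (j : ℕ) + 1 < n) : w j = 0 := by
  have h1 := congrFun h ⟨(j : ℕ) + 1, hj⟩
  rw [vecMul, dotProduct, Finset.sum_eq_single j] at h1
  · rw [shiftN_apply, if_pos (by simp), mul_one] at h1
    exact h1
  · intro b _ hb
    rw [shiftN_apply, if_neg (fun e => hb (Fin.ext (by simp at e; omega))), mul_zero]
  · intro hh; exact absurd (Finset.mem_univ j) hh

omit [Fintype F] in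
theorem exists_shift (hn : 0 < n) :
    ∃ U : GL (Fin n) F, (U : Matrix (Fin n) (Fin n) F) = 1 + shiftN F n ∧
      (U : Matrix (Fin n) (Fin n) F).det = 1 ∧ ∃ j, U ^ p ^ j = 1 := by
  haveI : Nonempty (Fin n) := ⟨⟨0, hn⟩⟩
  have hdet : (1 + shiftN F n).det = 1 := by
    rw [det_of_isUpperTriangular]
    · refine Finset.prod_eq_one fun i _ => ?_
      rw [Matrix.add_apply, one_apply_eq, shiftN_apply, if_neg (by omega), add_zero]
    · intro i j hij
      have hij' : (j : ℕ) < i := hij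
      rw [Matrix.add_apply, one_apply_ne (fun e => by rw [e] at hij'; omega), shiftN_apply, if_neg (by omega),
        add_zero]
  refine ⟨GeneralLinearGroup.mkOfDetNeZero (1 + shiftN F n) (by rw [hdet]; exact one_ne_zero), rfl,
    hdet, ?_⟩
  obtain ⟨j, hj⟩ : ∃ j, n ≤ p ^ j := ⟨n, (Nat.lt_pow_self hp.out.one_lt).le⟩
  refine ⟨j, Units.ext ?_⟩
  rw [Units.val_pow_eq_pow_val]
  show (1 + shiftN F n) ^ p ^ j = 1
  rw [add_pow_char_pow_of_commute (p := p) _ (Commute.one_left _), one_pow, add_eq_left]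
  ext a b
  exact shiftN_pow _ _ _ (by omega)

omit hch [Fintype F] in
theorem mk_mem_of_det_one
    (hG : ((Matrix.SpecialLinearGroup.toGL : Matrix.SpecialLinearGroup (Fin n) F →* GL (Fin n) F).range).map
      (QuotientGroup.mk' (center (GL (Fin n) F))) ≤ G) {g : GL (Fin n) F}
    (hg : (g : Matrix (Fin n) (Fin n) F).det = 1) :
    QuotientGroup.mk' (center (GL (Fin n) F)) g ∈ G :=
  hG ⟨g, ⟨⟨g, hg⟩, Units.ext rfl⟩, rfl⟩

omit hch [Fintype F] in
theorem stabIn_ne_top (hn : 2 ≤ n)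
    (hG : ((Matrix.SpecialLinearGroup.toGL : Matrix.SpecialLinearGroup (Fin n) F →* GL (Fin n) F).range).map
      (QuotientGroup.mk' (center (GL (Fin n) F))) ≤ G) {v : Fin n → F} (hv : v ≠ 0) :
    stabIn G v ≠ ⊤ := by
  haveI : Nonempty (Fin n) := ⟨⟨0, by omega⟩⟩
  intro htop
  obtain ⟨j, hj⟩ := Function.ne_iff.1 hv
  obtain ⟨i, hij⟩ : ∃ i : Fin n, i ≠ j := Fintype.exists_ne_of_one_lt_card (by rw [Fintype.card_fin]; omega) j
  have hT : (transvection i j (1 : F)).det = 1 := det_transvection_of_ne i j hij 1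
  have hmem := mk_mem_of_det_one hG
    (g := GeneralLinearGroup.mkOfDetNeZero (transvection i j (1 : F)) (by rw [hT]; exact one_ne_zero)) hT
  obtain ⟨c, -, hc⟩ := (mem_stabIn hv ⟨_, hmem⟩ rfl).1 (htop ▸ mem_top _)
  have hc' : (transvection i j (1 : F)) *ᵥ v = c • v := hc
  have h1 := congrFun hc' i
  have h2 := congrFun hc' j
  simp [transvection, add_mulVec, single_mulVec, Function.update_apply, hij, Ne.symm hij] at h1 h2
  have hc1 : c = 1 := by
    first
      | exact (mul_eq_right₀ hj).1 h2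
      | exact (mul_eq_right₀ hj).1 h2.symm
  rw [hc1, one_mul] at h1
  exact hj (add_eq_left.1 h1)

omit hch [Fintype F] in
theorem cover_mem {𝓐 : Finset (Subgroup ↥G)} (hcov : ∀ g : ↥G, ∃ A ∈ 𝓐, g ∈ A) {g : GL (Fin n) F}
    (hg : QuotientGroup.mk' (center (GL (Fin n) F)) g ∈ G) : ∃ A ∈ 𝓐, g ∈ preim G A := by
  obtain ⟨A, hA, hx⟩ := hcov ⟨_, hg⟩
  exact ⟨A, hA, (mem_preim ⟨_, hg⟩ rfl).2 hx⟩

include hp hch in
/-- The case `n ≥ 3`. -/
theorem large_case (hn : 3 ≤ n)
    (hG : ((Matrix.SpecialLinearGroup.toGL : Matrix.SpecialLinearGroup (Fin n) F →* GL (Fin n) F).range).map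
      (QuotientGroup.mk' (center (GL (Fin n) F))) ≤ G) (𝓐 : Finset (Subgroup ↥G))
    (hprop : ∀ A ∈ 𝓐, A ≠ ⊤) (hcov : ∀ g : ↥G, ∃ A ∈ 𝓐, g ∈ A)
    (hmin : ∀ 𝓑 : Finset (Subgroup ↥G), (∀ A ∈ 𝓑, A ≠ ⊤) ∧ (∀ g : ↥G, ∃ A ∈ 𝓑, g ∈ A) → 𝓐.card ≤ 𝓑.card)
    (hnil : ∀ A ∈ 𝓐, Group.IsNilpotent ↥A) : False := by
  classical
  haveI : Nonempty (Fin n) := ⟨⟨0, by omega⟩⟩
  obtain ⟨U, hU, hUdet, j, hj⟩ := exists_shift (F := F) p (show 0 < n by omega)
  set i0 : Fin n := ⟨0, by omega⟩ with hi0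
  set i1 : Fin n := ⟨1, by omega⟩ with hi1
  set il : Fin n := ⟨n - 1, by omega⟩ with hil
  set σ := Equiv.swap i1 il with hσ
  have hσ0 : σ i0 = i0 :=
    Equiv.swap_apply_of_ne_of_ne (fun e => by simp [i0, i1] at e)
      (fun e => by simp [i0, il, Fin.ext_iff] at e; omega)
  set M := (U : Matrix (Fin n) (Fin n) F).submatrix σ σ with hM
  have hMdet : M.det = 1 := by rw [hM, det_submatrix_equiv_self, hUdet]
  set U' := GeneralLinearGroup.mkOfDetNeZero M (by rw [hMdet]; exact one_ne_zero) with hU'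
  have hpow : ∀ k : ℕ, ((U' ^ k : GL (Fin n) F) : Matrix (Fin n) (Fin n) F)
      = ((U ^ k : GL (Fin n) F) : Matrix (Fin n) (Fin n) F).submatrix σ σ := by
    intro k
    induction k with
    | zero => simp
    | succ k ih =>
      rw [pow_succ, pow_succ, Units.val_mul, Units.val_mul, ih]
      exact submatrix_mul_equiv _ _ _ _ _
  have hj' : U' ^ p ^ j = 1 := Units.ext (by rw [hpow, hj]; simp)
  set e0 : Fin n → F := Pi.single i0 1 with he0
  have he0' : e0 ≠ 0 := fun e => by simpa [he0] using congrFun e i0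
  have hsupp : ∀ w : Fin n → F, (∀ i : Fin n, i ≠ i0 → w i = 0) → ∃ c : F, w = c • e0 := fun w hw =>
    ⟨w i0, funext fun i => by
      by_cases h : i = i0
      · subst h; simp [he0]
      · simp [he0, h, hw i h]⟩
  have hfixU : ∀ w, (U : Matrix (Fin n) (Fin n) F) *ᵥ w = w → ∃ c : F, w = c • e0 := by
    intro w hw
    rw [hU, add_mulVec, one_mulVec, add_eq_left] at hw
    exact hsupp w fun i hi => shiftN_mulVec_eq_zero hw i fun e => hi (Fin.ext e)
  have hfixU' : ∀ w, (U' : Matrix (Fin n) (Fin n) F) *ᵥ w = w → ∃ c : F, w = c • e0 := by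
    intro w hw
    have hw' : (U : Matrix (Fin n) (Fin n) F) *ᵥ (w ∘ σ.symm) = w ∘ σ.symm := by
      have h1 : ((U : Matrix (Fin n) (Fin n) F) *ᵥ (w ∘ σ.symm)) ∘ σ = w := by
        rw [← submatrix_mulVec_equiv]; exact hw
      funext i
      have := congrFun h1 (σ.symm i)
      simpa using this
    rw [hU, add_mulVec, one_mulVec, add_eq_left] at hw'
    refine hsupp w fun i hi => ?_
    have hne : σ i ≠ i0 := fun e => hi (σ.injective (by rw [e, hσ0]))
    have := shiftN_mulVec_eq_zero hw' (σ i) fun e => hne (Fin.ext e)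
    simpa using this
  obtain ⟨A, hA, hUA⟩ := cover_mem hcov (mk_mem_of_det_one hG hUdet)
  obtain ⟨A', hA', hUA'⟩ := cover_mem hcov (mk_mem_of_det_one hG (g := U') hMdet)
  have hne : A ≠ A' := by
    rintro rfl
    obtain ⟨P, hPp, -, -, hP⟩ := exists_pgroup p (hnil A hA)
    obtain ⟨w, hw, hwf⟩ := exists_fixed p (show 0 < n by omega) hPp
      (fun a x => x ᵥ* (((a⁻¹ : P) : GL (Fin n) F) : Matrix (Fin n) (Fin n) F))
      (fun x => by simp) (fun a b x => by simp [vecMul_vecMul]) (fun a => zero_vecMul _)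
    have hrow : ∀ g ∈ P, w ᵥ* (g : Matrix (Fin n) (Fin n) F) = w := fun g hg => by
      simpa using hwf (⟨g, hg⟩⁻¹ : P)
    have h1 := hrow U (hP U hUA ⟨j, hj⟩)
    have h2 : w ᵥ* M = w := hrow U' (hP U' hUA' ⟨j, hj'⟩)
    rw [hU, vecMul_add, vecMul_one, add_eq_left] at h1
    have h3 : (w ∘ σ.symm) ᵥ* shiftN F n = 0 := by
      rw [hM, submatrix_vecMul_equiv, hU, vecMul_add, vecMul_one] at h2
      funext i
      have := congrFun h2 (σ.symm i)
      simp at this ⊢
      exact this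
    refine hw (funext fun i => ?_)
    rcases eq_or_ne i il with rfl | hi
    · have := shiftN_vecMul_eq_zero h3 i1 (by simp [i1]; omega)
      simpa [hσ] using this
    · refine shiftN_vecMul_eq_zero h1 i ?_
      have h4 : (i : ℕ) ≠ n - 1 := fun e => hi (Fin.ext e)
      have := i.isLt
      omega
  let 𝓑 := insert (stabIn G e0) ((𝓐.erase A).erase A')
  have hle := hmin 𝓑 ⟨fun B hB => ?_, fun g => ?_⟩
  · have h1 : ((𝓐.erase A).erase A').card = 𝓐.card - 2 := by
      rw [Finset.card_erase_of_mem (Finset.mem_erase.2 ⟨Ne.symm hne, hA'⟩),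
        Finset.card_erase_of_mem hA]
      omega
    have h2 := Finset.card_insert_le (stabIn G e0) ((𝓐.erase A).erase A')
    have h3 : 2 ≤ 𝓐.card := Finset.one_lt_card.2 ⟨A, hA, A', hA', hne⟩
    simp only [𝓑] at hle
    omega
  · rcases Finset.mem_insert.1 hB with rfl | hB
    · exact stabIn_ne_top (by omega) hG he0'
    · exact hprop B (Finset.mem_of_mem_erase (Finset.mem_of_mem_erase hB))
  · obtain ⟨B, hB, hgB⟩ := hcov g
    by_cases hBA : B = A
    · subst hBA
      exact ⟨_, Finset.mem_insert_self _ _, le_stabIn he0'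
        (preim_le_lineStab p (by omega) (hnil B hB) hUA ⟨j, hj⟩ hfixU) hgB⟩
    by_cases hBA' : B = A'
    · subst hBA'
      exact ⟨_, Finset.mem_insert_self _ _, le_stabIn he0'
        (preim_le_lineStab p (by omega) (hnil B hB) hUA' ⟨j, hj'⟩ hfixU') hgB⟩
    exact ⟨B, Finset.mem_insert_of_mem (Finset.mem_erase.2 ⟨hBA', Finset.mem_erase.2 ⟨hBA, hB⟩⟩), hgB⟩

omit hch in
/-- Elements of coprime order modulo scalars in a common member commute up to a sign, so `z ^ 2`
commutes with `t`. -/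
theorem sq_commute {A : Subgroup ↥G} (hA : Group.IsNilpotent ↥A) (hn2 : n = 2) {z t : GL (Fin n) F}
    (hz : z ∈ preim G A) (ht : t ∈ preim G A) {a b : ℕ} (hab : a.Coprime b)
    (hza : z ^ a ∈ center (GL (Fin n) F)) (htb : t ^ b ∈ center (GL (Fin n) F)) :
    z ^ 2 * t = t * z ^ 2 := by
  subst hn2
  haveI := hA
  haveI : Group.IsNilpotent ↥(A.map G.subtype) :=
    Group.nilpotent_of_mulEquiv (A.equivMapOfInjective G.subtype G.subtype_injective)
  have h := CfsgLib.OddLocal.commute_of_coprime_orderOf (N := ↥(A.map G.subtype)) ⟨_, hz⟩ ⟨_, ht⟩ (by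
    refine Nat.Coprime.coprime_dvd_left (orderOf_dvd_of_pow_eq_one ?_)
      (Nat.Coprime.coprime_dvd_right (orderOf_dvd_of_pow_eq_one ?_) hab)
    · exact Subtype.ext (by
        rw [Subgroup.coe_pow, Subgroup.coe_one]
        show (QuotientGroup.mk' (center (GL (Fin 2) F)) z) ^ a = 1
        rw [← map_pow]; exact (QuotientGroup.eq_one_iff _).2 hza)
    · exact Subtype.ext (by
        rw [Subgroup.coe_pow, Subgroup.coe_one]
        show (QuotientGroup.mk' (center (GL (Fin 2) F)) t) ^ b = 1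
        rw [← map_pow]; exact (QuotientGroup.eq_one_iff _).2 htb))
  have h' : QuotientGroup.mk' (center (GL (Fin 2) F)) (z * t * z⁻¹ * t⁻¹) = 1 := by
    have h2 := congrArg Subtype.val h
    simp only [Subgroup.coe_mul] at h2
    rw [map_mul, map_mul, map_mul, map_inv, map_inv, h2, mul_inv_cancel_right, mul_inv_cancel]
  obtain ⟨s, hs⟩ := GeneralLinearGroup.mem_center_iff_val_mem_range_scalar.1
    ((QuotientGroup.eq_one_iff _).1 h')
  have hc := (QuotientGroup.eq_one_iff _).1 h'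
  set c := z * t * z⁻¹ * t⁻¹ with hcd
  have hs2 : c * c = 1 := by
    refine Units.ext ?_
    rw [Units.val_mul, Units.val_one, ← hs, scalar_apply, diagonal_mul_diagonal]
    have hdet : (GeneralLinearGroup.det c : F) = 1 := by
      have : GeneralLinearGroup.det c = 1 := by
        rw [hcd, map_mul, map_mul, map_mul, map_inv, map_inv, mul_comm (GeneralLinearGroup.det z),
          mul_inv_cancel_right, mul_inv_cancel]
      rw [this]; rfl
    have hdet' : (c : Matrix (Fin 2) (Fin 2) F).det = 1 := hdet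
    rw [← hs, scalar_apply, det_diagonal, Fin.prod_univ_two] at hdet'
    rw [← diagonal_one]
    congr 1
    funext i
    exact hdet'
  have h1 : z * t = c * (t * z) := by rw [hcd]; group
  clear_value c
  calc z ^ 2 * t = z * (z * t) := by rw [pow_two, mul_assoc]
    _ = z * c * (t * z) := by rw [h1, mul_assoc]
    _ = c * (z * t) * z := by rw [mem_center_iff.1 hc z]; group
    _ = (c * c) * (t * z) * z := by rw [h1]; group
    _ = t * z ^ 2 := by rw [hs2, one_mul, pow_two, mul_assoc]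

omit [Fintype F] hch in
/-- A vector outside the line through `v`. -/
theorem exists_base (v : Fin 2 → F) (hv : v ≠ 0) :
    ∃ g : GL (Fin 2) F, (g : Matrix (Fin 2) (Fin 2) F) *ᵥ ![1, 0] = v := by
  by_cases h0 : v 0 = 0
  · have h1 : v 1 ≠ 0 := fun h1 => hv (funext fun i => by fin_cases i <;> assumption)
    exact ⟨GeneralLinearGroup.mkOfDetNeZero !![v 0, 1; v 1, 0] (by simp [det_fin_two, h1]),
      funext fun i => by fin_cases i <;> simp [GeneralLinearGroup.mkOfDetNeZero, vecHead, vecTail]⟩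
  · exact ⟨GeneralLinearGroup.mkOfDetNeZero !![v 0, 0; v 1, 1] (by simp [det_fin_two, h0]),
      funext fun i => by fin_cases i <;> simp [GeneralLinearGroup.mkOfDetNeZero, vecHead, vecTail]⟩

omit hch in
/-- The cyclic torus through an element without eigenvectors. -/
theorem exists_torus (h4 : 4 ≤ Fintype.card F) (g : GL (Fin 2) F)
    (hg : ∀ v : Fin 2 → F, v ≠ 0 → ∀ c : F, (g : Matrix (Fin 2) (Fin 2) F) *ᵥ v ≠ c • v) :
    ∃ C : Subgroup (GL (Fin 2) F), IsCyclic C ∧ g ∈ C ∧ ∃ z ∈ C,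
      (z : Matrix (Fin 2) (Fin 2) F).det = 1 ∧
      (∀ c : F, ((z ^ 2 : GL (Fin 2) F) : Matrix (Fin 2) (Fin 2) F) *ᵥ ![1, 0] ≠ c • ![1, 0]) ∧
      ∃ a, z ^ a ∈ center (GL (Fin 2) F) ∧
        (a = Fintype.card F + 1 ∧ Fintype.card F % 2 = 0 ∨ 2 * a = Fintype.card F + 1) := by
  classical
  set M := (g : Matrix (Fin 2) (Fin 2) F) with hM
  set P := M.charpoly with hP
  have hdeg : P.natDegree = 2 := by rw [hP, charpoly_natDegree_eq_dim, Fintype.card_fin]
  have hirr : Irreducible P := by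
    refine Polynomial.irreducible_of_degree_le_three_of_not_isRoot (by rw [hdeg]; simp) fun x hx => ?_
    rw [Polynomial.IsRoot, hP, eval_charpoly] at hx
    obtain ⟨v, hv, hv'⟩ := exists_mulVec_eq_zero_iff.2 hx
    refine hg v hv x ?_
    rw [sub_mulVec, sub_eq_zero] at hv'
    rw [← hv', scalar_apply]
    ext i
    simp [mulVec_diagonal]
  haveI : Fact (Irreducible P) := ⟨hirr⟩
  let R := AdjoinRoot P
  let φ : R →+* Matrix (Fin 2) (Fin 2) F :=
    Ideal.Quotient.lift (Ideal.span {P}) (Polynomial.aeval M).toRingHom fun q hq => by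
      obtain ⟨r, rfl⟩ := Ideal.mem_span_singleton'.1 hq
      show Polynomial.aeval M (r * P) = 0
      rw [map_mul, hP, aeval_self_charpoly, mul_zero]
  have hφroot : φ (AdjoinRoot.root P) = M := by
    show Polynomial.aeval M Polynomial.X = M
    simp
  have hφof : ∀ c : F, φ (AdjoinRoot.of P c) = scalar (Fin 2) c := fun c => by
    show Polynomial.aeval M (Polynomial.C c) = _
    rw [Polynomial.aeval_C]
    ext i j
    simp [algebraMap_matrix_apply, scalar_apply, diagonal_apply]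
  have hφinj : Function.Injective φ := φ.injective
  have hP0 : P ≠ 0 := hirr.ne_zero
  haveI : Module.Finite F R := (AdjoinRoot.powerBasis hP0).finite
  haveI : Finite R := Module.finite_of_finite F
  haveI : Fintype R := Fintype.ofFinite R
  have hR : Fintype.card R = Fintype.card F ^ 2 := by
    rw [Module.card_eq_pow_finrank (K := F) (V := R), PowerBasis.finrank (AdjoinRoot.powerBasis hP0),
      AdjoinRoot.powerBasis_dim, hdeg]
  set q := Fintype.card F with hq
  obtain ⟨γ, hγ⟩ := IsCyclic.exists_generator (α := Rˣ)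
  have hγo : orderOf γ = (q - 1) * (q + 1) := by
    rw [orderOf_eq_card_of_forall_mem_zpowers hγ, Nat.card_units, Nat.card_eq_fintype_card, hR,
      mul_comm, ← Nat.sq_sub_sq, one_pow]
  let Φ : Rˣ →* GL (Fin 2) F := Units.map φ.toMonoidHom
  refine ⟨Φ.range, isCyclic_of_surjective Φ.rangeRestrict Φ.rangeRestrict_surjective, ?_,
    Φ (γ ^ (q - 1)), ⟨_, rfl⟩, ?_, ?_, ?_⟩
  · have hr : AdjoinRoot.root P ≠ 0 := fun e => g.ne_zero (by rw [← hM, ← hφroot, e, map_zero])
    exact ⟨Units.mk0 _ hr, Units.ext hφroot⟩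
  · rw [map_pow, Units.val_pow_eq_pow_val, det_pow]
    exact FiniteField.pow_card_sub_one_eq_one _ (by
      have := (GeneralLinearGroup.det (Φ γ)).ne_zero
      exact this)
  · intro c hc
    rw [← map_pow, ← pow_mul] at hc
    have h1 : ((γ ^ ((q - 1) * 2) : Rˣ) : R) = AdjoinRoot.of P c := by
      by_contra hne
      have hne' : ((γ ^ ((q - 1) * 2) : Rˣ) : R) - AdjoinRoot.of P c ≠ 0 := sub_ne_zero.2 hne
      have h2 : φ (((γ ^ ((q - 1) * 2) : Rˣ) : R) - AdjoinRoot.of P c) *ᵥ ![(1 : F), 0] = 0 := by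
        rw [map_sub, hφof, sub_mulVec, sub_eq_zero, scalar_apply]
        refine hc.trans (funext fun i => ?_)
        rw [mulVec_diagonal]; rfl
      have h3 := congrArg (fun w => φ ((((γ ^ ((q - 1) * 2) : Rˣ) : R) - AdjoinRoot.of P c)⁻¹) *ᵥ w) h2
      simp only [mulVec_mulVec, ← map_mul, inv_mul_cancel₀ hne', map_one, one_mulVec, mulVec_zero] at h3
      simpa using congrFun h3 0
    have hc0 : c ≠ 0 := fun e => by
      rw [e, map_zero] at h1
      exact (γ ^ ((q - 1) * 2)).ne_zero h1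
    have h2 : γ ^ ((q - 1) * 2 * (q - 1)) = 1 := by
      refine Units.ext ?_
      rw [pow_mul, Units.val_pow_eq_pow_val, h1, Units.val_one, ← map_pow, hq,
        FiniteField.pow_card_sub_one_eq_one c hc0, map_one]
    have h3 := orderOf_dvd_of_pow_eq_one h2
    rw [hγo, mul_assoc] at h3
    have h4 : q + 1 ∣ 2 * (q - 1) := Nat.dvd_of_mul_dvd_mul_left (by omega) h3
    have h5 : q + 1 ∣ 4 := by
      have : 4 = 2 * (q + 1) - 2 * (q - 1) := by omega
      rw [this]
      exact Nat.dvd_sub (dvd_mul_left _ _) h4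
    have := Nat.le_of_dvd (by norm_num) h5
    omega
  · rcases Nat.mod_two_eq_zero_or_one q with hev | hodd
    · refine ⟨q + 1, ?_, Or.inl ⟨rfl, hev⟩⟩
      rw [← map_pow, ← pow_mul, ← hγo, pow_orderOf_eq_one, map_one]
      exact one_mem _
    · refine ⟨(q + 1) / 2, ?_, Or.inr (by omega)⟩
      rw [← map_pow, ← pow_mul]
      set y := γ ^ ((q - 1) * ((q + 1) / 2)) with hy
      have hy2 : ((y : R)) * y = 1 := by
        rw [← Units.val_mul, hy, ← pow_add, ← two_mul, mul_comm 2, mul_assoc,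
          show (q + 1) / 2 * 2 = q + 1 by omega, ← hγo, pow_orderOf_eq_one, Units.val_one]
      refine GeneralLinearGroup.mem_center_iff_val_mem_range_scalar.2 ?_
      rcases mul_self_eq_one_iff.1 hy2 with h1 | h1
      · exact ⟨1, by show scalar (Fin 2) (1 : F) = φ (y : R); rw [h1, map_one, map_one]⟩
      · exact ⟨-1, by show scalar (Fin 2) (-1 : F) = φ (y : R); rw [h1, map_neg, map_one, map_neg, map_one]⟩

include hp hch in
/-- The case `n = 2`. -/
theorem small_case {G : Subgroup (GL (Fin 2) F ⧸ center (GL (Fin 2) F))} (h4 : 4 ≤ Fintype.card F)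
    (hG : ((Matrix.SpecialLinearGroup.toGL : Matrix.SpecialLinearGroup (Fin 2) F →* GL (Fin 2) F).range).map
      (QuotientGroup.mk' (center (GL (Fin 2) F))) ≤ G) (𝓐 : Finset (Subgroup ↥G))
    (hprop : ∀ A ∈ 𝓐, A ≠ ⊤) (hcov : ∀ g : ↥G, ∃ A ∈ 𝓐, g ∈ A)
    (hmin : ∀ 𝓑 : Finset (Subgroup ↥G), (∀ A ∈ 𝓑, A ≠ ⊤) ∧ (∀ g : ↥G, ∃ A ∈ 𝓑, g ∈ A) → 𝓐.card ≤ 𝓑.card)
    (hnil : ∀ A ∈ 𝓐, Group.IsNilpotent ↥A) : False := by
  classical
  set q := Fintype.card F with hq
  obtain ⟨U, hU, hUdet, j, hj⟩ := exists_shift (F := F) (n := 2) p two_pos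
  have hfixU : ∀ w, (U : Matrix (Fin 2) (Fin 2) F) *ᵥ w = w → ∃ c : F, w = c • ![1, 0] := by
    intro w hw
    rw [hU, add_mulVec, one_mulVec, add_eq_left] at hw
    exact ⟨w 0, funext fun i => by
      fin_cases i
      · simp
      · simpa using shiftN_mulVec_eq_zero hw 1 (by simp)⟩
  -- unipotents fixing a given line
  have hex : ∀ v : Fin 2 → F, v ≠ 0 → ∃ A ∈ 𝓐, ∃ u ∈ preim G A, (∃ i, u ^ p ^ i = 1) ∧
      (u : Matrix (Fin 2) (Fin 2) F) *ᵥ v = v ∧ u ≠ 1 ∧
      (∀ w, (u : Matrix (Fin 2) (Fin 2) F) *ᵥ w = w → ∃ c : F, w = c • v) := by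
    intro v hv
    obtain ⟨g, hg⟩ := exists_base v hv
    obtain ⟨A, hA, huA⟩ := cover_mem hcov (g := g * U * g⁻¹) (mk_mem_of_det_one hG (by
      rw [Units.val_mul, Units.val_mul, det_units_conj, hUdet]))
    have hUe : (U : Matrix (Fin 2) (Fin 2) F) *ᵥ ![1, 0] = ![1, 0] := by
      rw [hU]
      funext i
      fin_cases i <;> simp [shiftN, add_mulVec, mulVec, dotProduct]
    refine ⟨A, hA, _, huA, ⟨j, by rw [conj_pow, hj, mul_one, mul_inv_cancel]⟩, ?_, fun e => ?_, fun w hw => ?_⟩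
    · conv_lhs => rw [← hg]
      rw [mulVec_mulVec, ← Units.val_mul, inv_mul_cancel_right, Units.val_mul, ← mulVec_mulVec, hUe, hg]
    · rw [mul_inv_eq_one, mul_eq_left] at e
      obtain ⟨c, hc⟩ := hfixU ![0, 1] (by rw [e, Units.val_one, one_mulVec])
      simpa using congrFun hc 1
    · obtain ⟨c, hc⟩ := hfixU (((g⁻¹ : GL (Fin 2) F) : Matrix (Fin 2) (Fin 2) F) *ᵥ w) (by
        conv_rhs => rw [← hw]
        rw [mulVec_mulVec, mulVec_mulVec, ← Units.val_mul, ← Units.val_mul]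
        congr 2
        group)
      refine ⟨c, ?_⟩
      rw [← hg, ← mulVec_smul, ← hc, mulVec_mulVec, ← Units.val_mul, mul_inv_cancel, Units.val_one,
        one_mulVec]
  choose! a ha u hu hup huv hu1 hufix using hex
  have hle : ∀ v, v ≠ 0 → preim G (a v) ≤ lineStab v := fun v hv =>
    preim_le_lineStab p two_pos (hnil _ (ha v hv)) (hu v hv) (hup v hv) (hufix v hv)
  haveI : Nontrivial (Fin 2 → F) := inferInstance
  set Vs : Finset (Fin 2 → F) := Finset.univ.filter fun v => v ≠ 0 with hVs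
  have hVmem : ∀ v, v ∈ Vs ↔ v ≠ 0 := fun v => by simp [hVs]
  have hwd : ∀ v w, v ≠ 0 → w ≠ 0 → a v = a w → stabIn G v = stabIn G w := by
    intro v w hv hw e
    obtain ⟨c, hc, hcv⟩ := hle v hv (e ▸ hu w hw)
    obtain ⟨i, hi⟩ := hup w hw
    have hpw : ∀ k : ℕ, ((u w ^ k : GL (Fin 2) F) : Matrix (Fin 2) (Fin 2) F) *ᵥ v = c ^ k • v := by
      intro k
      induction k with
      | zero => simp
      | succ k ih => rw [pow_succ, Units.val_mul, ← mulVec_mulVec, hcv, mulVec_smul, ih, smul_smul, ← pow_succ']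
    have h1 := hpw (p ^ i)
    rw [hi, Units.val_one, one_mulVec] at h1
    have hc1 : c = 1 := by
      have h2 : c ^ p ^ i = 1 := by
        obtain ⟨k, hk⟩ := Function.ne_iff.1 hv
        have h3 := congrFun h1 k
        simp at h3
        exact (mul_eq_right₀ hk).1 h3.symm
      have h3 : (c - 1) ^ p ^ i = 0 := by rw [sub_pow_char_pow, h2, one_pow, sub_self]
      exact sub_eq_zero.1 (pow_eq_zero_iff (pow_pos hp.out.pos i).ne' |>.1 h3)
    rw [hc1, one_smul] at hcv
    obtain ⟨d, rfl⟩ := hufix w hw v hcv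
    have hd : d ≠ 0 := fun hd => hv (by rw [hd, zero_smul])
    have : lineStab (d • w) = lineStab w := by
      ext g
      rw [mem_lineStab_iff hv, mem_lineStab_iff hw]
      refine exists_congr fun c => ?_
      rw [mulVec_smul, smul_comm c d w]
      exact ⟨fun h => smul_right_injective _ hd h, fun h => by rw [h]⟩
    rw [stabIn, stabIn, this]
  set 𝓜 := Vs.image a with h𝓜
  set ST := Vs.image (stabIn G) with hST
  have hSTcard : ST.card ≤ 𝓜.card := by
    refine le_trans (Finset.card_le_card (t := 𝓜.image fun A =>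
      if h : ∃ v, v ≠ 0 ∧ a v = A then stabIn G h.choose else ⊥) fun S hS => ?_) Finset.card_image_le
    obtain ⟨v, hv, rfl⟩ := Finset.mem_image.1 hS
    rw [hVmem] at hv
    have hh : ∃ w, w ≠ 0 ∧ a w = a v := ⟨v, hv, rfl⟩
    refine Finset.mem_image.2 ⟨a v, Finset.mem_image_of_mem a ((hVmem v).2 hv), ?_⟩
    rw [dif_pos hh]
    exact hwd _ _ hh.choose_spec.1 hv hh.choose_spec.2
  -- the split element
  obtain ⟨α, hα⟩ := IsCyclic.exists_generator (α := Fˣ)
  have hαo : orderOf α = q - 1 := by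
    rw [orderOf_eq_card_of_forall_mem_zpowers hα, Nat.card_units, Nat.card_eq_fintype_card]
  have hα2 : ((α : F)) ≠ (α⁻¹ : Fˣ) := by
    intro e
    have h2 : α ^ 2 = 1 := by rw [pow_two]; nth_rewrite 2 [Units.ext e]; exact mul_inv_cancel α
    have := Nat.le_of_dvd two_pos (hαo ▸ orderOf_dvd_of_pow_eq_one h2)
    omega
  set t : GL (Fin 2) F := GeneralLinearGroup.mkOfDetNeZero (diagonal ![(α : F), ((α⁻¹ : Fˣ) : F)])
    (by simp) with htdef
  have htval : (t : Matrix (Fin 2) (Fin 2) F) = diagonal ![(α : F), ((α⁻¹ : Fˣ) : F)] := rfl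
  have htdet : (t : Matrix (Fin 2) (Fin 2) F).det = 1 := by simp [htval]
  have htpow : ∀ k : ℕ, ((t ^ k : GL (Fin 2) F) : Matrix (Fin 2) (Fin 2) F)
      = diagonal ![((α ^ k : Fˣ) : F), ((α⁻¹ ^ k : Fˣ) : F)] := fun k => by
    rw [Units.val_pow_eq_pow_val, htval, diagonal_pow]
    congr 1
    funext i
    fin_cases i <;> simp
  obtain ⟨b, hb, hbo⟩ : ∃ b, t ^ b ∈ center (GL (Fin 2) F) ∧
      (b = q - 1 ∧ q % 2 = 0 ∨ 2 * b = q - 1) := by
    rcases Nat.mod_two_eq_zero_or_one q with hev | hodd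
    · refine ⟨q - 1, GeneralLinearGroup.mem_center_iff_val_mem_range_scalar.2 ⟨1, ?_⟩, Or.inl ⟨rfl, hev⟩⟩
      rw [htpow, inv_pow, ← hαo, pow_orderOf_eq_one]
      simp [← diagonal_one]
    · refine ⟨(q - 1) / 2, GeneralLinearGroup.mem_center_iff_val_mem_range_scalar.2
        ⟨((α ^ ((q - 1) / 2) : Fˣ) : F), ?_⟩, Or.inr (by omega)⟩
      have h1 : (α ^ ((q - 1) / 2))⁻¹ = α ^ ((q - 1) / 2) := by
        refine inv_eq_of_mul_eq_one_left ?_
        rw [← pow_add, show (q - 1) / 2 + (q - 1) / 2 = q - 1 by omega, ← hαo, pow_orderOf_eq_one]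
      rw [htpow, inv_pow, h1, scalar_apply]
      congr 1
      funext i; fin_cases i <;> rfl
  obtain ⟨B, hB, htB⟩ := cover_mem hcov (mk_mem_of_det_one hG htdet)
  have hdiag : ∀ (X : GL (Fin 2) F), X * t = t * X →
      ((X : Matrix (Fin 2) (Fin 2) F) 1 0 = 0 ∧ (X : Matrix (Fin 2) (Fin 2) F) 0 1 = 0) := by
    intro X hX
    have h1 : (X : Matrix (Fin 2) (Fin 2) F) * t = t * X := congrArg Units.val hX
    rw [htval] at h1
    have e10 := congrFun (congrFun h1 1) 0
    have e01 := congrFun (congrFun h1 0) 1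
    rw [mul_diagonal, diagonal_mul] at e10 e01
    simp at e10 e01
    have hne : (α : F) - (α : F)⁻¹ ≠ 0 := sub_ne_zero.2 (by simpa using hα2)
    constructor
    · have h2 : (X : Matrix (Fin 2) (Fin 2) F) 1 0 * ((α : F) - (α : F)⁻¹) = 0 := by linear_combination e10
      exact (mul_eq_zero.1 h2).resolve_right hne
    · have h2 : (X : Matrix (Fin 2) (Fin 2) F) 0 1 * ((α : F) - (α : F)⁻¹) = 0 := by linear_combination -e01
      exact (mul_eq_zero.1 h2).resolve_right hne
  have hBM : B ∉ 𝓜 := by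
    intro hBM
    obtain ⟨v, hv, rfl⟩ := Finset.mem_image.1 hBM
    rw [hVmem] at hv
    obtain ⟨i, hi⟩ := hup v hv
    have hcop : (p ^ i).Coprime b := by
      refine Nat.Coprime.pow_left i (hp.out.coprime_iff_not_dvd.2 fun hd => ?_)
      have hbq : b ∣ q - 1 := by
        rcases hbo with ⟨rfl, -⟩ | h
        · exact dvd_rfl
        · exact ⟨2, by rw [← h, mul_comm]⟩
      have h1 : p ∣ q - 1 := hd.trans hbq
      obtain ⟨k, -, hk⟩ := FiniteField.card F p
      have h2 : p ∣ q := by rw [hq, hk]; exact dvd_pow_self p k.pos.ne'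
      have h3 := Nat.dvd_sub h2 h1
      rw [show q - (q - 1) = 1 by omega] at h3
      exact hp.out.ne_one (Nat.dvd_one.1 h3)
    have hcomm := sq_commute (hnil _ hB) rfl (hu v hv) htB hcop (by rw [hi]; exact one_mem _) hb
    obtain ⟨h10, h01⟩ := hdiag _ hcomm
    have hX : ∀ k : ℕ, ((((u v) ^ 2) ^ k : GL (Fin 2) F) : Matrix (Fin 2) (Fin 2) F)
        = diagonal fun l => (((u v) ^ 2 : GL (Fin 2) F) : Matrix (Fin 2) (Fin 2) F) l l ^ k := by
      intro k
      rw [Units.val_pow_eq_pow_val]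
      have : (((u v) ^ 2 : GL (Fin 2) F) : Matrix (Fin 2) (Fin 2) F)
          = diagonal fun l => (((u v) ^ 2 : GL (Fin 2) F) : Matrix (Fin 2) (Fin 2) F) l l := by
        ext r s
        fin_cases r <;> fin_cases s
        · simp
        · simpa using h01
        · simpa using h10
        · simp
      conv_lhs => rw [this]
      rw [diagonal_pow]; rfl
    have hsq : (u v) ^ 2 = 1 := by
      refine Units.ext ?_
      have h1 := hX 1
      rw [pow_one] at h1
      rw [h1, Units.val_one, ← diagonal_one]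
      congr 1
      funext l
      rw [pow_one]
      have h2 := congrFun (congrFun (hX (p ^ i)) l) l
      rw [← pow_mul, mul_comm, pow_mul, hi, one_pow, Units.val_one, one_apply_eq, diagonal_apply_eq] at h2
      have h3 : ((((u v) ^ 2 : GL (Fin 2) F) : Matrix (Fin 2) (Fin 2) F) l l - 1) ^ p ^ i = 0 := by
        rw [sub_pow_char_pow, ← h2, one_pow, sub_self]
      exact sub_eq_zero.1 (pow_eq_zero_iff (pow_pos hp.out.pos i).ne' |>.1 h3)
    have hne2 : p = 2 := by
      by_contra h2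
      refine hu1 v hv (orderOf_eq_one_iff.1 (Nat.eq_one_of_dvd_coprimes (a := 2) (b := p ^ i) ?_
        (orderOf_dvd_of_pow_eq_one hsq) (orderOf_dvd_of_pow_eq_one hi)))
      exact Nat.Coprime.pow_right i ((Nat.coprime_primes Nat.prime_two hp.out).2 (Ne.symm h2))
    subst hne2
    haveI : Group.IsNilpotent ↥(preim G (a v)) := isNilpotent_preim (hnil _ hB)
    have hev : q % 2 = 0 := by
      obtain ⟨k, -, hk⟩ := FiniteField.card F 2
      rw [hq, hk, Nat.pow_mod]; simp
    have hb1 : t ^ b = 1 := by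
      obtain ⟨rfl, -⟩ | h := hbo
      · refine Units.ext ?_
        rw [htpow, inv_pow, ← hαo, pow_orderOf_eq_one]
        simp [← diagonal_one]
      · omega
    have hc2 := CfsgLib.OddLocal.commute_of_coprime_orderOf (N := ↥(preim G (a v))) ⟨_, hu v hv⟩ ⟨_, htB⟩ (by
      rw [← Subgroup.orderOf_coe, ← Subgroup.orderOf_coe]
      exact Nat.Coprime.coprime_dvd_left (orderOf_dvd_of_pow_eq_one hi)
        (Nat.Coprime.coprime_dvd_right (orderOf_dvd_of_pow_eq_one hb1) hcop))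
    obtain ⟨k10, k01⟩ := hdiag (u v) (congrArg Subtype.val hc2)
    refine hu1 v hv (Units.ext ?_)
    ext r s
    have hsq' := congrArg Units.val hsq
    rw [pow_two, Units.val_mul, Units.val_one] at hsq'
    have hd : ∀ l, ((u v : GL (Fin 2) F) : Matrix (Fin 2) (Fin 2) F) l l = 1 := by
      intro l
      have h5 := congrFun (congrFun hsq' l) l
      rw [mul_apply, Fin.sum_univ_two] at h5
      have h6 : (((u v : GL (Fin 2) F) : Matrix (Fin 2) (Fin 2) F) l l - 1) ^ 2 ^ 1 = 0 := by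
        rw [sub_pow_char_pow, one_pow, sub_eq_zero, pow_one, pow_two]
        fin_cases l <;> simpa [k10, k01] using h5
      exact sub_eq_zero.1 (pow_eq_zero_iff (by norm_num) |>.1 h6)
    fin_cases r <;> fin_cases s <;> simp [k10, k01, hd]
  let 𝓑 := ST ∪ (𝓐 \ 𝓜).erase B
  have hlt := hmin 𝓑 ⟨fun S hS => ?_, fun g => ?_⟩
  · have h1 : 𝓜 ⊆ 𝓐 := fun S hS => by
      obtain ⟨v, hv, rfl⟩ := Finset.mem_image.1 hS
      exact ha v ((hVmem v).1 hv)
    have h2 : ((𝓐 \ 𝓜).erase B).card = (𝓐 \ 𝓜).card - 1 :=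
      Finset.card_erase_of_mem (Finset.mem_sdiff.2 ⟨hB, hBM⟩)
    have h3 : (𝓐 \ 𝓜).card = 𝓐.card - 𝓜.card := Finset.card_sdiff_of_subset h1
    have h4 := Finset.card_union_le ST ((𝓐 \ 𝓜).erase B)
    have h5 : 0 < (𝓐 \ 𝓜).card := Finset.card_pos.2 ⟨B, Finset.mem_sdiff.2 ⟨hB, hBM⟩⟩
    simp only [𝓑] at hlt
    omega
  · rcases Finset.mem_union.1 hS with hS | hS
    · obtain ⟨v, hv, rfl⟩ := Finset.mem_image.1 hS
      exact stabIn_ne_top le_rfl hG ((hVmem v).1 hv)
    · exact hprop S (Finset.mem_sdiff.1 (Finset.mem_of_mem_erase hS)).1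
  · obtain ⟨g0, hg0⟩ := QuotientGroup.mk'_surjective (center (GL (Fin 2) F)) g.1
    by_cases hfix : ∃ v : Fin 2 → F, v ≠ 0 ∧ g0 ∈ lineStab v
    · obtain ⟨v, hv, hgv⟩ := hfix
      exact ⟨_, Finset.mem_union_left _ (Finset.mem_image_of_mem (stabIn G) ((hVmem v).2 hv)),
        (mem_stabIn hv g hg0).2 hgv⟩
    · push Not at hfix
      obtain ⟨C, hC, hgC, z, hzC, hzdet, hz2, m, hm, hmo⟩ := exists_torus h4 g0
        (fun v hv c hc => hfix v hv ((mem_lineStab_iff hv).2 ⟨c, hc⟩))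
      set D := C ⊓ G.comap (QuotientGroup.mk' (center (GL (Fin 2) F))) with hD
      haveI : IsCyclic D := Subgroup.isCyclic_of_le (inf_le_left : D ≤ C)
      obtain ⟨d, hd⟩ := IsCyclic.exists_generator (α := D)
      obtain ⟨A, hA, hdA⟩ := cover_mem hcov (g := (d : GL (Fin 2) F)) d.2.2
      have hall : ∀ x ∈ D, x ∈ preim G A := fun x hx => by
        obtain ⟨i, hi⟩ := hd ⟨x, hx⟩
        have hi' : (d : GL (Fin 2) F) ^ i = x := by
          simpa using congrArg Subtype.val hi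
        rw [← hi']
        exact Subgroup.zpow_mem _ hdA i
      have hg0D : g0 ∈ D := ⟨hgC, mem_comap.2 (hg0 ▸ g.2)⟩
      have hgA : g ∈ A := (mem_preim g hg0).1 (hall g0 hg0D)
      have hAM : A ∉ 𝓜 := by
        intro hAM
        obtain ⟨v, hv, rfl⟩ := Finset.mem_image.1 hAM
        exact hfix v ((hVmem v).1 hv) (hle v ((hVmem v).1 hv) (hall g0 hg0D))
      refine ⟨A, Finset.mem_union_right _ (Finset.mem_erase.2 ⟨?_, Finset.mem_sdiff.2 ⟨hA, hAM⟩⟩), hgA⟩
      rintro rfl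
      have hzA := hall z ⟨hzC, mem_comap.2 (mk_mem_of_det_one hG hzdet)⟩
      have hcop : m.Coprime b := by
        have hd2 : ∀ d, d ∣ m → d ∣ b → d = 1 := fun d h1 h2 => by
          have hdvd : d ∣ 2 := by
            have e1 : d ∣ q + 1 := by
              rcases hmo with ⟨rfl, -⟩ | h
              · exact h1
              · exact h1.trans ⟨2, by rw [← h, mul_comm]⟩
            have e2 : d ∣ q - 1 := by
              rcases hbo with ⟨rfl, -⟩ | h
              · exact h2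
              · exact h2.trans ⟨2, by rw [← h, mul_comm]⟩
            have := Nat.dvd_sub e1 e2
            rwa [show q + 1 - (q - 1) = 2 by omega] at this
          rcases (Nat.dvd_prime Nat.prime_two).1 hdvd with h | rfl
          · exact h
          · rcases hmo with ⟨rfl, hev⟩ | hm2 <;> rcases hbo with ⟨rfl, hev'⟩ | hb2 <;> omega
        exact Nat.coprime_of_dvd' fun k hk h1 h2 => (hd2 k h1 h2) ▸ dvd_rfl
      obtain ⟨h10, h01⟩ := hdiag _ (sq_commute (hnil _ hB) rfl hzA htB hcop hm hb)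
      refine hz2 (((z ^ 2 : GL (Fin 2) F) : Matrix (Fin 2) (Fin 2) F) 0 0) (funext fun r => ?_)
      rw [Units.val_pow_eq_pow_val] at h10
      fin_cases r <;> simp [mulVec, dotProduct, h10]

/-- A cover of a group is a finite set of proper subgroups whose union is the whole group; it is minimal when no cover has fewer members, and nilpotent when all its members are nilpotent. Let F be a finite field with q elements and n ≥ 3, or n = 2 and q ≥ 4. Then no subgroup of PGL_n(F) = GL_n(F)/Z(GL_n(F)) containing the image of SL_n(F) has a nilpotent minimal cover. -/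
theorem result {F : Type*} [Field F] [Fintype F] (n : ℕ) (hn : 3 ≤ n ∨ (n = 2 ∧ 4 ≤ Fintype.card F))
    (G : Subgroup (GL (Fin n) F ⧸ Subgroup.center (GL (Fin n) F)))
    (hG : ((Matrix.SpecialLinearGroup.toGL : Matrix.SpecialLinearGroup (Fin n) F →* GL (Fin n) F).range).map
      (QuotientGroup.mk' (Subgroup.center (GL (Fin n) F))) ≤ G) :
    ¬ ∃ 𝓐 : Finset (Subgroup ↥G), ((∀ A ∈ 𝓐, A ≠ ⊤) ∧ (∀ g : ↥G, ∃ A ∈ 𝓐, g ∈ A)) ∧ (∀ 𝓑 : Finset (Subgroup ↥G), (∀ A ∈ 𝓑, A ≠ ⊤) ∧ (∀ g : ↥G, ∃ A ∈ 𝓑, g ∈ A) → 𝓐.card ≤ 𝓑.card) ∧ (∀ A ∈ 𝓐, Group.IsNilpotent ↥A) := by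
  rintro ⟨𝓐, ⟨hprop, hcov⟩, hmin, hnil⟩
  haveI := Fact.mk (CharP.char_is_prime F (ringChar F))
  rcases hn with hn | ⟨rfl, h4⟩
  · exact large_case (ringChar F) hn hG 𝓐 hprop hcov hmin hnil
  · exact small_case (ringChar F) h4 hG 𝓐 hprop hcov hmin hnil

end Cfsg.Agent.S3894
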