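import Cfsg.Statements.S3895
import Cfsg.Agent.Lib.Transfer.Frobenius
import Cfsg.Agent.Lib.LocalEven.CharP
import Cfsg.Agent.Lib.Solvable.CoprimeAction

set_option autoImplicit false
open Cfsg

namespace Cfsg.Agent.S3895

universe u

open scoped commutatorElement

theorem le_half_of_not_frobenius {G : Type u} [Group G] [Finite G]
    (h : ¬ CfsgLib.Transfer.FrobeniusCond 2 G) :
    ∃ P : Sylow 2 G, 2 * Nat.card {c : ConjClasses G // ∀ x ∈ c.carrier, ∃ k : ℕ, orderOf x = 2 ^ k} ≤
      Nat.card (P : Subgroup G) := by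
  classical
  haveI : Fact (Nat.Prime 2) := ⟨Nat.prime_two⟩
  rw [CfsgLib.Transfer.FrobeniusCond] at h
  push Not at h
  obtain ⟨Q, hQ, g, hgN, hgo, hgC⟩ := h
  set N := Subgroup.normalizer (Q : Set G) with hN
  set C := Subgroup.centralizer (Q : Set G) with hC
  set K := C.subgroupOf N with hKdef
  haveI hKn : K.Normal := by
    have : N ≤ Subgroup.normalizer (C : Set G) := CfsgLib.Solvable.normalizer_le_normalizer_centralizer Q
    exact (Subgroup.normal_subgroupOf_iff_le_normalizer (Subgroup.centralizer_le_normalizer _)).2 this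
  obtain ⟨TK⟩ : Nonempty (Sylow 2 K) := inferInstance
  obtain ⟨T, hT⟩ := (TK.2.map K.subtype).exists_le_sylow
  obtain ⟨P, hP⟩ := (T.2.map N.subtype).exists_le_sylow
  set D := ((TK : Subgroup K).map K.subtype).map N.subtype with hD
  have hDP : D ≤ (P : Subgroup G) := (Subgroup.map_mono hT).trans hP
  have hQN : Q ≤ N := Subgroup.le_normalizer
  have hQT : Q.subgroupOf N ≤ (T : Subgroup N) := by
    haveI : (Q.subgroupOf N).Normal :=
      (Subgroup.normal_subgroupOf_iff_le_normalizer hQN).2 le_rfl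
    exact (CfsgLib.Cores.le_pCore (hQ.of_equiv (Subgroup.subgroupOfEquivOfLe hQN).symm)).trans
      (CfsgLib.Cores.pCore_le_sylow T)
  have hQP : Q ≤ (P : Subgroup G) := fun x hx =>
    hP ⟨⟨x, hQN hx⟩, hQT hx, rfl⟩
  have hTeq : (P : Subgroup G).subgroupOf N = T :=
    T.3 (P.2.comap_of_injective N.subtype N.subtype_injective) (Subgroup.map_le_iff_le_comap.1 hP)
  have hZD : ∀ x ∈ (P : Subgroup G), (∀ y ∈ (P : Subgroup G), y * x = x * y) → x ∈ D := by
    intro x hx hxc
    have hxC : x ∈ C := Subgroup.mem_centralizer_iff.2 fun y hy => hxc y (hQP hy)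
    have hxN : x ∈ N := Subgroup.centralizer_le_normalizer _ hxC
    have hTK : (T : Subgroup N).subgroupOf K = TK :=
      TK.3 (T.2.comap_of_injective K.subtype K.subtype_injective) (Subgroup.map_le_iff_le_comap.1 hT)
    refine ⟨⟨x, hxN⟩, ⟨⟨⟨x, hxN⟩, hxC⟩, ?_, rfl⟩, rfl⟩
    show _ ∈ (TK : Subgroup K)
    rw [← hTK, Subgroup.mem_subgroupOf, ← hTeq]
    exact hx
  -- Frattini
  have hfr := Sylow.normalizer_sup_eq_top (N := K) TK
  obtain ⟨c, hc, u, hu, hgu⟩ := CfsgLib.Solvable.exists_mul_of_mem_sup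
    (K := K) (A := Subgroup.normalizer (((TK : Subgroup K).map K.subtype : Subgroup N) : Set N))
    Subgroup.le_normalizer_of_normal
    (show (⟨g, hgN⟩ : N) ∈ K ⊔ _ by rw [sup_comm, hfr]; exact Subgroup.mem_top _)
  obtain ⟨k, m, hm, hkm⟩ := Nat.exists_eq_two_pow_mul_odd (orderOf_pos (u : G)).ne'
  set v : G := (u : G) ^ (2 ^ k) with hv
  have hvo : (orderOf v).Coprime 2 := by
    rw [hv, orderOf_pow, hkm, Nat.gcd_mul_right_left, Nat.mul_div_cancel_left _ (by positivity)]
    exact Nat.coprime_two_right.2 hm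
  have hvN : v ∈ N := pow_mem u.2 _
  have hvC : v ∉ C := by
    intro hvC
    apply hgC
    have h1 : (⟨g, hgN⟩ : N) ^ (2 ^ k) ∈ K := by
      have h2 : QuotientGroup.mk' K ⟨g, hgN⟩ = QuotientGroup.mk' K u := by
        rw [hgu, map_mul, (show QuotientGroup.mk' K c = 1 from (QuotientGroup.eq_one_iff c).2 hc), one_mul]
      refine (QuotientGroup.eq_one_iff _).1 ?_
      show QuotientGroup.mk' K _ = 1
      rw [map_pow, h2, ← map_pow]
      exact (QuotientGroup.eq_one_iff (u ^ 2 ^ k)).2 hvC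
    have h1' : g ^ (2 ^ k) ∈ C := h1
    have h3 : (orderOf g).Coprime (2 ^ k) := hgo.pow_right k
    obtain ⟨j, hj⟩ := exists_pow_eq_self_of_coprime h3.symm
    rw [← hj]
    exact pow_mem h1' j
  have hvD : ∀ d ∈ D, v * d * v⁻¹ ∈ D := by
    rintro _ ⟨d, hd, rfl⟩
    exact ⟨u ^ (2 ^ k) * d * (u ^ (2 ^ k))⁻¹,
      (Subgroup.mem_normalizer_iff.1 (pow_mem hu _) d).1 hd, rfl⟩
  set R := Q ⊔ D with hR
  have hRP : R ≤ (P : Subgroup G) := sup_le hQP hDP
  have hR2 : IsPGroup 2 R := P.2.to_le hRP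
  have hvR : ∀ r ∈ R, v * r * v⁻¹ ∈ R := by
    intro r hr
    suffices R ≤ R.comap (MulAut.conj v).toMonoidHom from this hr
    exact sup_le (fun q hq => Subgroup.mem_sup_left ((Subgroup.mem_normalizer_iff.1 hvN q).1 hq))
      (fun d hd => Subgroup.mem_sup_right (hvD d hd))
  have hvRc : ¬ ∀ r ∈ R, v * r = r * v := fun hall =>
    hvC (Subgroup.mem_centralizer_iff.2 fun q hq => (hall q (Subgroup.mem_sup_left hq)).symm)
  set F := R ⊓ Subgroup.centralizer ({v} : Set G) with hF
  have hF4 : 4 * Nat.card F ≤ Nat.card R := by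
    obtain ⟨j, hj⟩ := hR2.index (F.subgroupOf R)
    have hcard : Nat.card R = F.relIndex R * Nat.card F := by
      rw [← Subgroup.card_mul_index (F.subgroupOf R), mul_comm,
        Nat.card_congr (Subgroup.subgroupOfEquivOfLe inf_le_left).toEquiv]
      rfl
    rcases Nat.lt_or_ge j 2 with hj2 | hj2
    · exfalso
      apply hvRc
      have hidx : (F.subgroupOf R).index ≤ 2 := by rw [hj]; interval_cases j <;> norm_num
      intro r hr
      set d := r⁻¹ * (v * r * v⁻¹) with hd
      have hdR : d ∈ R := mul_mem (inv_mem hr) (hvR r hr)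
      have hdF : d ∈ F := by
        by_cases hrF : r ∈ F
        · have : v * r * v⁻¹ = r := mul_inv_eq_iff_eq_mul.2
            (Subgroup.mem_centralizer_singleton_iff.1 hrF.2).symm
          rw [hd, this, inv_mul_cancel]; exact one_mem _
        · have hvr : v * r * v⁻¹ ∉ F := fun h => hrF ⟨hr, Subgroup.mem_centralizer_singleton_iff.2 (by
            have h1 : v * r * v⁻¹ * v = v * (v * r * v⁻¹) :=
              Subgroup.mem_centralizer_singleton_iff.1 h.2
            rw [inv_mul_cancel_right] at h1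
            calc r * v = v⁻¹ * (v * r) * v := by group
              _ = v⁻¹ * (v * (v * r * v⁻¹)) * v := by rw [← h1]
              _ = v * r := by group)⟩
          have hidx2 : (F.subgroupOf R).index = 2 := by
            refine le_antisymm hidx ?_
            have h0 := Subgroup.index_ne_zero_of_finite (H := F.subgroupOf R)
            have h1 : (F.subgroupOf R).index ≠ 1 := fun h1 => hrF (by
              have : (⟨r, hr⟩ : R) ∈ F.subgroupOf R := by rw [Subgroup.index_eq_one.1 h1]; trivial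
              exact this)
            omega
          have := (Subgroup.mul_mem_iff_of_index_two hidx2 (a := (⟨r, hr⟩ : R)⁻¹)
            (b := ⟨v * r * v⁻¹, hvR r hr⟩)).2 (iff_of_false (fun h => hrF (by
              have h2 := inv_mem h
              rwa [inv_inv] at h2)) hvr)
          exact this
      exact CfsgLib.LocalEven.commute_of_conj_eq_mul hR2 hdR hvo (by rw [hd]; group)
        (Subgroup.mem_centralizer_singleton_iff.1 hdF.2).symm
    · have : 4 ≤ 2 ^ j := le_trans (by norm_num) (Nat.pow_le_pow_right two_pos hj2)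
      rw [hcard, show F.relIndex R = 2 ^ j from hj]
      exact Nat.mul_le_mul_right _ this
  -- counting
  letI := Fintype.ofFinite ↥(P : Subgroup G)
  let cl : ↥(P : Subgroup G) → ConjClasses G := fun y => ConjClasses.mk (y : G)
  have hcount : Nat.card {c : ConjClasses G // ∀ x ∈ c.carrier, ∃ k : ℕ, orderOf x = 2 ^ k} ≤
      (Finset.univ.image cl).card := by
    rw [← Nat.card_eq_finsetCard]
    refine Nat.card_le_card_of_injective (fun c => ⟨c.1, ?_⟩) (fun a b hab => by
      exact Subtype.ext (congrArg (fun t => t.1) hab))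
    obtain ⟨x, hx⟩ := ConjClasses.exists_rep c.1
    obtain ⟨j, hj⟩ := c.2 x (by rw [← hx]; exact ConjClasses.mem_carrier_mk)
    obtain ⟨P', hP'⟩ := (IsPGroup.of_card (by rw [Nat.card_zpowers, hj]) :
      IsPGroup 2 (Subgroup.zpowers x)).exists_le_sylow
    obtain ⟨a, ha⟩ := MulAction.exists_smul_eq G P' P
    have hxa : a * x * a⁻¹ ∈ (P : Subgroup G) := by
      rw [← ha, Sylow.coe_subgroup_smul]
      exact ⟨x, hP' (Subgroup.mem_zpowers x), rfl⟩
    refine Finset.mem_image.2 ⟨⟨_, hxa⟩, Finset.mem_univ _, ?_⟩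
    rw [← hx]
    exact ConjClasses.mk_eq_mk_iff_isConj.2 (isConj_iff.2 ⟨a⁻¹, by group⟩)
  let S : Finset ↥(P : Subgroup G) := Finset.univ.filter fun y => ∀ z, cl z = cl y → z = y
  let M : Finset ↥(P : Subgroup G) := Finset.univ.filter fun y => (y : G) ∈ R ∧ (y : G) ∉ F
  have hSF : ∀ y ∈ S, (y : G) ∈ F := by
    intro y hy
    have hy' := (Finset.mem_filter.1 hy).2
    have hcomm : ∀ z ∈ (P : Subgroup G), z * (y : G) = y * z := by
      intro z hz
      have h1 := hy' ⟨z * y * z⁻¹, mul_mem (mul_mem hz y.2) (inv_mem hz)⟩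
        (ConjClasses.mk_eq_mk_iff_isConj.2 (isConj_iff.2 ⟨z⁻¹, by simp [mul_assoc]⟩))
      have h2 : z * (y : G) * z⁻¹ = y := congrArg Subtype.val h1
      exact mul_inv_eq_iff_eq_mul.1 h2
    have hyR : (y : G) ∈ R := Subgroup.mem_sup_right (hZD y y.2 hcomm)
    refine ⟨hyR, Subgroup.mem_centralizer_singleton_iff.2 ?_⟩
    have h1 := hy' ⟨v * y * v⁻¹, hRP (hvR y hyR)⟩
      (ConjClasses.mk_eq_mk_iff_isConj.2 (isConj_iff.2 ⟨v⁻¹, by simp [mul_assoc]⟩))
    exact (mul_inv_eq_iff_eq_mul.1 (congrArg Subtype.val h1 : v * (y : G) * v⁻¹ = y)).symm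
  have hM3 : ∀ y ∈ M, 3 ≤ (Finset.univ.filter fun z => cl z = cl y).card := by
    intro y hy
    obtain ⟨hyR, hyF⟩ := (Finset.mem_filter.1 hy).2
    have hne : v * (y : G) * v⁻¹ ≠ y := fun h => hyF ⟨hyR, Subgroup.mem_centralizer_singleton_iff.2
      (mul_inv_eq_iff_eq_mul.1 h).symm⟩
    have hne2 : v * (v * (y : G) * v⁻¹) * v⁻¹ ≠ y := fun h => hne (by
      obtain ⟨t, ht⟩ := Nat.coprime_two_right.1 hvo
      have h1 : Commute (v ^ 2) (y : G) := by
        refine mul_inv_eq_iff_eq_mul.1 (Eq.trans ?_ h)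
        rw [sq]; group
      have h2 : v = (v ^ 2) ^ (t + 1) := by
        rw [← pow_mul, show 2 * (t + 1) = orderOf v + 1 by omega, pow_succ, pow_orderOf_eq_one, one_mul]
      rw [mul_inv_eq_iff_eq_mul, h2]
      exact (h1.pow_left (t + 1)).eq)
    have h1R := hvR y hyR
    let y1 : ↥(P : Subgroup G) := ⟨_, hRP h1R⟩
    let y2 : ↥(P : Subgroup G) := ⟨_, hRP (hvR _ h1R)⟩
    have hsub : ({y, y1, y2} : Finset ↥(P : Subgroup G)) ⊆ Finset.univ.filter fun z => cl z = cl y := by
      intro z hz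
      simp only [Finset.mem_insert, Finset.mem_singleton] at hz
      refine Finset.mem_filter.2 ⟨Finset.mem_univ _, ?_⟩
      rcases hz with rfl | rfl | rfl
      · rfl
      · exact ConjClasses.mk_eq_mk_iff_isConj.2 (isConj_iff.2 ⟨v⁻¹, by simp [y1, mul_assoc]⟩)
      · exact ConjClasses.mk_eq_mk_iff_isConj.2 (isConj_iff.2 ⟨v⁻¹ * v⁻¹, by simp [y2, mul_assoc]⟩)
    refine le_trans (le_of_eq ?_) (Finset.card_le_card hsub)
    rw [Finset.card_insert_of_notMem, Finset.card_pair]
    · intro h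
      apply hne
      have h' : v * (y : G) * v⁻¹ = v * (v * (y : G) * v⁻¹) * v⁻¹ := congrArg Subtype.val h
      exact (mul_left_cancel (mul_right_cancel h')).symm
    · simp only [Finset.mem_insert, Finset.mem_singleton, not_or]
      exact ⟨fun h => hne (congrArg Subtype.val h).symm, fun h => hne2 (congrArg Subtype.val h).symm⟩
  let f : ↥(P : Subgroup G) → ℕ := fun y => if y ∈ S then 6 else if y ∈ M then 2 else 3
  have hfib : ∀ c ∈ Finset.univ.image cl, 6 ≤ ∑ y ∈ Finset.univ.filter (fun z => cl z = c), f y := by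
    intro c hc
    obtain ⟨y, -, rfl⟩ := Finset.mem_image.1 hc
    suffices ∀ A : Finset ↥(P : Subgroup G), (∀ z, z ∈ A ↔ cl z = cl y) → 6 ≤ ∑ z ∈ A, f z from
      this _ fun z => by simp
    intro A hAmem
    have hyA : y ∈ A := (hAmem y).2 rfl
    rcases Nat.lt_or_ge A.card 2 with h1 | h1
    · have hyS : y ∈ S := Finset.mem_filter.2 ⟨Finset.mem_univ _, fun z hz =>
        Finset.card_le_one.1 (by omega) z ((hAmem z).2 hz) y hyA⟩
      refine le_trans ?_ (Finset.single_le_sum (fun i _ => Nat.zero_le (f i)) hyA)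
      simp [f, hyS]
    · rcases Nat.lt_or_ge A.card 3 with h2 | h2
      · have h3 : ∀ z ∈ A, 3 ≤ f z := fun z hz => by
          have hzM : z ∉ M := fun hM => by
            have h4 := hM3 z hM
            rw [show (Finset.univ.filter fun w => cl w = cl z) = A from
              Finset.ext fun w => by simp [hAmem, (hAmem z).1 hz]] at h4
            omega
          simp only [f, if_neg hzM]
          split_ifs <;> norm_num
        refine le_trans ?_ (Finset.card_nsmul_le_sum A f 3 h3)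
        rw [smul_eq_mul]
        omega
      · have h3 : ∀ z ∈ A, 2 ≤ f z := fun z _ => by simp only [f]; split_ifs <;> norm_num
        refine le_trans ?_ (Finset.card_nsmul_le_sum A f 2 h3)
        rw [smul_eq_mul]
        omega
  have h6 : 6 * (Finset.univ.image cl).card ≤ ∑ y, f y := by
    rw [← Finset.sum_fiberwise_of_maps_to (g := cl) (t := Finset.univ.image cl)
      (fun y _ => Finset.mem_image_of_mem _ (Finset.mem_univ y))]
    have := Finset.card_nsmul_le_sum (Finset.univ.image cl) _ 6 hfib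
    rw [smul_eq_mul] at this
    omega
  have hSM : Disjoint S M := Finset.disjoint_left.2 fun y hy hy' =>
    (Finset.mem_filter.1 hy').2.2 (hSF y hy)
  have hsum : ∑ y, f y + M.card = 3 * Fintype.card ↥(P : Subgroup G) + 3 * S.card := by
    have : ∀ y, f y + (if y ∈ M then 1 else 0) = 3 + (if y ∈ S then 3 else 0) := fun y => by
      by_cases hyS : y ∈ S
      · simp [f, hyS, Finset.disjoint_left.1 hSM hyS]
      · by_cases hyM : y ∈ M <;> simp [f, hyS, hyM]
    have h := Finset.sum_congr (rfl : (Finset.univ : Finset ↥(P : Subgroup G)) = _) fun y _ => this y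
    rw [Finset.sum_add_distrib, Finset.sum_add_distrib, Finset.sum_boole, Finset.filter_univ_mem,
      Finset.sum_const, Finset.card_univ, ← Finset.sum_filter, Finset.filter_univ_mem,
      Finset.sum_const, smul_eq_mul, smul_eq_mul] at h
    simp only [Nat.cast_id] at h
    omega
  have hS3 : S.card ≤ Nat.card F := by
    rw [← Nat.card_eq_finsetCard]
    exact Nat.card_le_card_of_injective (fun y => (⟨(y.1 : G), hSF y.1 y.2⟩ : F))
      fun a b hab => Subtype.ext (Subtype.ext (congrArg (fun t : F => (t : G)) hab))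
  have hMcard : Nat.card R ≤ M.card + Nat.card F := by
    rw [← Nat.card_eq_finsetCard, ← Nat.card_sum]
    refine Nat.card_le_card_of_injective (fun r : R => if h : (r : G) ∈ F then Sum.inr (⟨r, h⟩ : F)
      else Sum.inl (⟨⟨r, hRP r.2⟩, Finset.mem_filter.2 ⟨Finset.mem_univ _, r.2, h⟩⟩ : M)) ?_
    intro a b hab
    dsimp only at hab
    split_ifs at hab with h1 h2 h2
    · exact Subtype.ext (congrArg Subtype.val (Sum.inr.inj hab) :)
    · exact Subtype.ext (congrArg (fun t : ↥(P : Subgroup G) => (t : G)) (congrArg Subtype.val (Sum.inl.inj hab)) :)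
  refine ⟨P, le_trans (Nat.mul_le_mul_left 2 hcount) ?_⟩
  rw [Nat.card_eq_fintype_card]
  omega

/-- Let G be a finite group with Sylow 2-subgroup P, and write k₂(G) for the number of conjugacy classes of G consisting of 2-elements (elements of 2-power order, the identity included). Then k₂(G) > |P|/2 if and only if G has a normal 2-complement and P has more than |P|/2 conjugacy classes. -/
theorem result {G : Type*} [Group G] [Finite G] (P : Sylow 2 G) :
    Nat.card ↥(P : Subgroup G) < 2 * Nat.card {c : ConjClasses G // ∀ x ∈ c.carrier, ∃ k : ℕ, orderOf x = 2 ^ k} ↔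
      Cfsg.HasNormalPComplement 2 G ∧ Nat.card ↥(P : Subgroup G) < 2 * Nat.card (ConjClasses ↥(P : Subgroup G)) := by
  classical
  haveI : Fact (Nat.Prime 2) := ⟨Nat.prime_two⟩
  let toG : ConjClasses ↥(P : Subgroup G) → {c : ConjClasses G // ∀ x ∈ c.carrier, ∃ k : ℕ, orderOf x = 2 ^ k} :=
    fun c => ⟨ConjClasses.map (P : Subgroup G).subtype c, by
      obtain ⟨y, rfl⟩ := ConjClasses.exists_rep c
      intro x hx
      obtain ⟨k, hk⟩ := IsPGroup.iff_orderOf.1 P.2 y
      obtain ⟨a, rfl⟩ := isConj_iff.1 (ConjClasses.mk_eq_mk_iff_isConj.1 (ConjClasses.mem_carrier_iff_mk_eq.1 hx).symm)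
      refine ⟨k, ?_⟩
      rw [show orderOf (a * (P : Subgroup G).subtype y * a⁻¹) = orderOf ((MulAut.conj a) (y : G)) from rfl,
        MulEquiv.orderOf_eq, Subgroup.orderOf_coe, hk]⟩
  have hsurj : Function.Surjective toG := by
    intro c
    obtain ⟨x, hx⟩ := ConjClasses.exists_rep c.1
    obtain ⟨k, hk⟩ := c.2 x (by rw [← hx]; exact ConjClasses.mem_carrier_mk)
    obtain ⟨P', hP'⟩ := (IsPGroup.of_card (by rw [Nat.card_zpowers, hk]) :
      IsPGroup 2 (Subgroup.zpowers x)).exists_le_sylow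
    obtain ⟨a, ha⟩ := MulAction.exists_smul_eq G P' P
    have hxa : a * x * a⁻¹ ∈ (P : Subgroup G) := by
      rw [← ha, Sylow.coe_subgroup_smul]
      exact ⟨x, hP' (Subgroup.mem_zpowers x), rfl⟩
    refine ⟨ConjClasses.mk ⟨_, hxa⟩, Subtype.ext ?_⟩
    show ConjClasses.map _ (ConjClasses.mk _) = c.1
    rw [← hx]
    exact ConjClasses.mk_eq_mk_iff_isConj.2 (isConj_iff.2 ⟨a⁻¹, by simp [mul_assoc]⟩)
  constructor
  · intro hlt
    refine ⟨?_, lt_of_lt_of_le hlt (Nat.mul_le_mul_left 2 (Nat.card_le_card_of_surjective toG hsurj))⟩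
    refine CfsgLib.Transfer.hasNormalPComplement_of_frobeniusCond ?_
    by_contra hcond
    obtain ⟨P', hP'⟩ := le_half_of_not_frobenius hcond
    have hcard : Nat.card (P' : Subgroup G) = Nat.card (P : Subgroup G) := by
      rw [P'.card_eq_multiplicity, P.card_eq_multiplicity]
    omega
  · rintro ⟨hN, hlt⟩
    refine lt_of_lt_of_le hlt (Nat.mul_le_mul_left 2 (Nat.card_le_card_of_injective toG ?_))
    obtain ⟨N, hNn, hNc⟩ := (CfsgLib.Transfer.hasNormalPComplement_iff_sylow P).1 hN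
    haveI := hNn
    intro c d hcd
    obtain ⟨y, rfl⟩ := ConjClasses.exists_rep c
    obtain ⟨z, rfl⟩ := ConjClasses.exists_rep d
    have h1 : ConjClasses.mk ((y : G)) = ConjClasses.mk ((z : G)) := congrArg Subtype.val hcd
    obtain ⟨a, ha⟩ := isConj_iff.1 (ConjClasses.mk_eq_mk_iff_isConj.1 h1)
    have hbij := hNc
    obtain ⟨⟨⟨n, hn⟩, ⟨b, hb⟩⟩, hab⟩ := hbij.2 a
    refine ConjClasses.mk_eq_mk_iff_isConj.2 (isConj_iff.2 ⟨⟨b, hb⟩, Subtype.ext ?_⟩)
    show b * (y : G) * b⁻¹ = z
    have hab' : n * b = a := hab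
    obtain ⟨w, hw⟩ : ∃ w, w = b * (y : G) * b⁻¹ := ⟨_, rfl⟩
    have hwP : w ∈ (P : Subgroup G) := hw ▸ mul_mem (mul_mem hb y.2) (inv_mem hb)
    have h2 : n * w * n⁻¹ = z := by rw [← ha, ← hab', hw]; group
    have h3 : (z : G) * w⁻¹ ∈ (N : Subgroup G) := by
      rw [← h2, show n * w * n⁻¹ * w⁻¹ = n * (w * n⁻¹ * w⁻¹) by group]
      exact mul_mem hn (hNn.conj_mem _ (inv_mem hn) w)
    have h4 : (z : G) * w⁻¹ ∈ N ⊓ (P : Subgroup G) := ⟨h3, Subgroup.mul_mem _ z.2 (Subgroup.inv_mem _ hwP)⟩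
    rw [hNc.disjoint.eq_bot, Subgroup.mem_bot, mul_inv_eq_one] at h4
    rw [← hw, h4]

end Cfsg.Agent.S3895
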