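import Cfsg.Statements.S3898
import Cfsg.Agent.S3895
import Cfsg.Agent.Lib.Transfer.Frobenius

set_option autoImplicit false
open Cfsg

namespace Cfsg.Agent.S3898

universe u

open scoped commutatorElement

def IsPi (σ : Finset ℕ) {G : Type u} [Group G] (x : G) : Prop :=
  ∀ r : ℕ, r.Prime → r ∣ orderOf x → r ∈ σ

noncomputable def kpi (σ : Finset ℕ) (G : Type u) [Group G] : ℕ :=
  Nat.card {c : ConjClasses G // ∀ x ∈ c.carrier, IsPi σ x}

theorem orderOf_conj' {G : Type u} [Group G] (a x : G) : orderOf (a * x * a⁻¹) = orderOf x :=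
  (MulAut.conj a).orderOf_eq x

theorem isPi_of_isConj {σ : Finset ℕ} {G : Type u} [Group G] {x : G} (h : IsPi σ x) :
    ∀ y ∈ (ConjClasses.mk x).carrier, IsPi σ y := by
  intro y hy
  obtain ⟨a, rfl⟩ := isConj_iff.1
    (ConjClasses.mk_eq_mk_iff_isConj.1 (ConjClasses.mem_carrier_iff_mk_eq.1 hy).symm)
  intro r hr hd
  rw [orderOf_conj'] at hd
  exact h r hr hd

theorem exists_pow_of_isPi {G : Type u} [Group G] [Finite G] {p : ℕ} {x : G} (h : IsPi {p} x) :
    ∃ k, orderOf x = p ^ k :=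
  ⟨_, Nat.eq_prime_pow_of_unique_prime_dvd (orderOf_pos x).ne'
    (fun {_} hr hd => Finset.mem_singleton.1 (h _ hr hd))⟩

theorem exists_parts {G : Type u} [Group G] [Finite G] {p : ℕ} (hp : p.Prime) {σ : Finset ℕ}
    {x : G} (h : IsPi (insert p σ) x) :
    ∃ a b : G, a * b = x ∧ a * b = b * a ∧ IsPi {p} a ∧ IsPi σ b := by
  obtain ⟨e, m, hm, hxm⟩ := Nat.exists_eq_pow_mul_and_not_dvd (orderOf_pos x).ne' p hp.ne_one
  have hcop : (p ^ e).Coprime m := ((hp.coprime_iff_not_dvd).2 hm).pow_left e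
  have hb : (1 : ℤ) = (p ^ e : ℕ) * Nat.gcdA (p ^ e) m + (m : ℤ) * Nat.gcdB (p ^ e) m := by
    rw [← Nat.gcd_eq_gcd_ab, hcop.gcd_eq_one]; rfl
  refine ⟨x ^ ((m : ℤ) * Nat.gcdB (p ^ e) m), x ^ (((p ^ e : ℕ) : ℤ) * Nat.gcdA (p ^ e) m),
    ?_, ?_, ?_, ?_⟩
  · rw [← zpow_add, add_comm, ← hb, zpow_one]
  · rw [← zpow_add, ← zpow_add, add_comm]
  · intro r hr hd
    have h1 : (x ^ ((m : ℤ) * Nat.gcdB (p ^ e) m)) ^ (p ^ e) = 1 := by
      rw [← zpow_natCast, ← zpow_mul,
        show (m : ℤ) * Nat.gcdB (p ^ e) m * ((p ^ e : ℕ) : ℤ) =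
          ((orderOf x : ℕ) : ℤ) * Nat.gcdB (p ^ e) m by rw [hxm]; push_cast; ring,
        zpow_mul, zpow_natCast, pow_orderOf_eq_one, one_zpow]
    exact Finset.mem_singleton.2 ((Nat.prime_dvd_prime_iff_eq hr hp).1
      (hr.dvd_of_dvd_pow (hd.trans (orderOf_dvd_of_pow_eq_one h1))))
  · intro r hr hd
    have h1 : (x ^ (((p ^ e : ℕ) : ℤ) * Nat.gcdA (p ^ e) m)) ^ m = 1 := by
      rw [← zpow_natCast, ← zpow_mul,
        show ((p ^ e : ℕ) : ℤ) * Nat.gcdA (p ^ e) m * (m : ℤ) =
          ((orderOf x : ℕ) : ℤ) * Nat.gcdA (p ^ e) m by rw [hxm]; push_cast; ring,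
        zpow_mul, zpow_natCast, pow_orderOf_eq_one, one_zpow]
    have hrm := hd.trans (orderOf_dvd_of_pow_eq_one h1)
    rcases Finset.mem_insert.1 (h r hr (hxm ▸ hrm.mul_left _)) with rfl | h2
    · exact absurd hrm hm
    · exact h2

theorem exists_conj_mem_sylow {G : Type u} [Group G] [Finite G] {p : ℕ} [Fact p.Prime]
    (P : Sylow p G) {x : G} (h : IsPi {p} x) : ∃ a, a * x * a⁻¹ ∈ (P : Subgroup G) := by
  obtain ⟨k, hk⟩ := exists_pow_of_isPi h
  obtain ⟨P', hP'⟩ := (IsPGroup.of_card (by rw [Nat.card_zpowers, hk]) :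
    IsPGroup p (Subgroup.zpowers x)).exists_le_sylow
  obtain ⟨a, ha⟩ := MulAction.exists_smul_eq G P' P
  refine ⟨a, ?_⟩
  rw [← ha, Sylow.coe_subgroup_smul]
  exact ⟨x, hP' (Subgroup.mem_zpowers x), rfl⟩

theorem kpi_singleton_le_image {G : Type u} [Group G] [Finite G] {p : ℕ} [Fact p.Prime]
    (P : Sylow p G) [Fintype ↥(P : Subgroup G)] [DecidableEq (ConjClasses G)] :
    kpi {p} G ≤ (Finset.univ.image fun y : ↥(P : Subgroup G) => ConjClasses.mk (y : G)).card := by
  rw [← Nat.card_eq_finsetCard]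
  refine Nat.card_le_card_of_injective (fun c => ⟨c.1, ?_⟩)
    (fun a b hab => Subtype.ext (congrArg Subtype.val hab :))
  obtain ⟨x, hx⟩ := ConjClasses.exists_rep c.1
  obtain ⟨a, ha⟩ := exists_conj_mem_sylow P (c.2 x (by rw [← hx]; exact ConjClasses.mem_carrier_mk))
  refine Finset.mem_image.2 ⟨⟨_, ha⟩, Finset.mem_univ _, ?_⟩
  rw [← hx]
  exact ConjClasses.mk_eq_mk_iff_isConj.2 (isConj_iff.2 ⟨a⁻¹, by group⟩)

theorem kpi_singleton_le {G : Type u} [Group G] [Finite G] {p : ℕ} [Fact p.Prime] (P : Sylow p G) :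
    kpi {p} G ≤ Nat.card ↥(P : Subgroup G) := by
  classical
  letI := Fintype.ofFinite ↥(P : Subgroup G)
  refine (kpi_singleton_le_image P).trans ?_
  rw [Nat.card_eq_fintype_card]
  exact Finset.card_image_le

theorem kpi_insert_le {G : Type u} [Group G] [Finite G] {p : ℕ} (hp : p.Prime) {σ : Finset ℕ} {B : ℕ}
    (hB : ∀ C : Subgroup G, kpi σ ↥C ≤ B) : kpi (insert p σ) G ≤ kpi {p} G * B := by
  classical
  let T := Σ c : {c : ConjClasses G // ∀ x ∈ c.carrier, IsPi {p} x},
    {d : ConjClasses ↥(Subgroup.centralizer ({c.1.out} : Set G)) // ∀ x ∈ d.carrier, IsPi σ x}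
  have hT : ∀ c : {c : ConjClasses G // ∀ x ∈ c.carrier, IsPi (insert p σ) x}, ∃ t : T,
      ConjClasses.mk (t.1.1.out * (t.2.1.out : G)) = c.1 := by
    intro c
    obtain ⟨x, hx⟩ := ConjClasses.exists_rep c.1
    obtain ⟨a, b, hab, hcomm, ha, hb⟩ :=
      exists_parts hp (c.2 x (by rw [← hx]; exact ConjClasses.mem_carrier_mk))
    obtain ⟨g, hg⟩ := isConj_iff.1 (ConjClasses.mk_eq_mk_iff_isConj.1
      (show ConjClasses.mk a = ConjClasses.mk (ConjClasses.mk a).out from (Quotient.out_eq (ConjClasses.mk a)).symm))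
    have hb' : g * b * g⁻¹ ∈ Subgroup.centralizer ({(ConjClasses.mk a).out} : Set G) := by
      rw [Subgroup.mem_centralizer_singleton_iff, ← hg,
        show g * b * g⁻¹ * (g * a * g⁻¹) = g * (b * a) * g⁻¹ by group,
        show g * a * g⁻¹ * (g * b * g⁻¹) = g * (a * b) * g⁻¹ by group, hcomm]
    have hbpi : IsPi σ (⟨_, hb'⟩ : ↥(Subgroup.centralizer ({(ConjClasses.mk a).out} : Set G))) := by
      intro r hr hd
      rw [Subgroup.orderOf_mk, orderOf_conj'] at hd
      exact hb r hr hd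
    let d : ↥(Subgroup.centralizer ({(ConjClasses.mk a).out} : Set G)) := ⟨_, hb'⟩
    refine ⟨⟨⟨ConjClasses.mk a, isPi_of_isConj ha⟩, ⟨ConjClasses.mk d, isPi_of_isConj hbpi⟩⟩, ?_⟩
    obtain ⟨k, hk⟩ := isConj_iff.1 (ConjClasses.mk_eq_mk_iff_isConj.1
      (show ConjClasses.mk d = ConjClasses.mk (ConjClasses.mk d).out from (Quotient.out_eq (ConjClasses.mk d)).symm))
    show ConjClasses.mk ((ConjClasses.mk a).out * ((ConjClasses.mk d).out : G)) = c.1
    rw [← hx, ← hab]
    refine ConjClasses.mk_eq_mk_iff_isConj.2 (IsConj.symm (isConj_iff.2 ⟨(k : G) * g, ?_⟩))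
    have hkc : (k : G) * (ConjClasses.mk a).out = (ConjClasses.mk a).out * k :=
      Subgroup.mem_centralizer_singleton_iff.1 k.2
    rw [← hk]
    show (k : G) * g * (a * b) * ((k : G) * g)⁻¹ =
      (ConjClasses.mk a).out * ((k : G) * (g * b * g⁻¹) * (k : G)⁻¹)
    rw [show (k : G) * g * (a * b) * ((k : G) * g)⁻¹ =
      (k : G) * (g * a * g⁻¹) * (g * b * g⁻¹) * (k : G)⁻¹ by group, hg, hkc]
    group
  choose φ hφ using hT
  haveI : Finite (ConjClasses G) := Finite.of_surjective _ ConjClasses.mk_surjective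
  haveI : ∀ C : Subgroup G, Finite (ConjClasses ↥C) := fun C =>
    Finite.of_surjective _ ConjClasses.mk_surjective
  letI := Fintype.ofFinite {c : ConjClasses G // ∀ x ∈ c.carrier, IsPi {p} x}
  refine (Nat.card_le_card_of_injective φ fun c c' h => Subtype.ext (by rw [← hφ c, h, hφ c'])).trans ?_
  rw [Nat.card_sigma, kpi, Nat.card_eq_fintype_card]
  exact (Finset.sum_le_card_nsmul _ _ B fun c _ => hB _).trans (le_of_eq (smul_eq_mul _ _))

theorem ordProj_le {G : Type u} [Group G] [Finite G] (C : Subgroup G) (r : ℕ) :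
    r ^ (Nat.card C).factorization r ≤ r ^ (Nat.card G).factorization r :=
  Nat.le_of_dvd (Nat.ordProj_pos _ _)
    (Nat.ordProj_dvd_ordProj_of_dvd Nat.card_pos.ne' (Subgroup.card_subgroup_dvd_card C) r)

theorem kpi_singleton_le_ordProj {G : Type u} [Group G] [Finite G] {p : ℕ} [Fact p.Prime] :
    kpi {p} G ≤ p ^ (Nat.card G).factorization p := by
  obtain ⟨P⟩ : Nonempty (Sylow p G) := inferInstance
  exact (kpi_singleton_le P).trans (le_of_eq P.card_eq_multiplicity)

theorem kpi_le : ∀ (σ : Finset ℕ), (∀ r ∈ σ, r.Prime) → ∀ (G : Type u) [Group G] [Finite G],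
    kpi σ G ≤ σ.prod (fun r => r ^ (Nat.card G).factorization r) := by
  intro σ
  induction σ using Finset.induction_on with
  | empty =>
    intro _ G _ _
    rw [Finset.prod_empty]
    haveI : Subsingleton {c : ConjClasses G // ∀ x ∈ c.carrier, IsPi ∅ x} := ⟨fun c d => by
      refine Subtype.ext ?_
      obtain ⟨x, hx⟩ := ConjClasses.exists_rep c.1
      obtain ⟨y, hy⟩ := ConjClasses.exists_rep d.1
      have h1 : ∀ z : G, IsPi ∅ z → z = 1 := fun z hz => orderOf_eq_one_iff.1
        (Nat.eq_one_iff_not_exists_prime_dvd.2 fun r hr hd => Finset.notMem_empty r (hz r hr hd))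
      rw [← hx, ← hy, h1 x (c.2 x (by rw [← hx]; exact ConjClasses.mem_carrier_mk)),
        h1 y (d.2 y (by rw [← hy]; exact ConjClasses.mem_carrier_mk))]⟩
    exact Finite.card_le_one_iff_subsingleton.2 inferInstance
  | insert p σ hpσ ih =>
    intro hπ G _ _
    haveI : Fact p.Prime := ⟨hπ p (Finset.mem_insert_self _ _)⟩
    rw [Finset.prod_insert hpσ]
    refine (kpi_insert_le Fact.out (B := σ.prod (fun r => r ^ (Nat.card G).factorization r))
      fun C => (ih (fun r hr => hπ r (Finset.mem_insert_of_mem hr)) ↥C).trans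
        (Finset.prod_le_prod' fun r _ => ordProj_le C r)).trans ?_
    exact Nat.mul_le_mul_right _ kpi_singleton_le_ordProj

theorem ordProj_lt_kpi {G : Type u} [Group G] [Finite G] {π : Finset ℕ} (hπ : ∀ r ∈ π, r.Prime)
    (hk : π.prod (fun r => r ^ (Nat.card G).factorization r) < 2 * kpi π G) {p : ℕ} (hp : p ∈ π) :
    p ^ (Nat.card G).factorization p < 2 * kpi {p} G := by
  have h1 := kpi_insert_le (G := G) (σ := π.erase p) (hπ p hp)
    (B := (π.erase p).prod (fun r => r ^ (Nat.card G).factorization r))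
    fun C => (kpi_le _ (fun r hr => hπ r (Finset.mem_of_mem_erase hr)) ↥C).trans
      (Finset.prod_le_prod' fun r _ => ordProj_le C r)
  rw [Finset.insert_erase hp] at h1
  rw [← Finset.mul_prod_erase π _ hp] at hk
  have := lt_of_lt_of_le hk (Nat.mul_le_mul_left 2 h1)
  rw [← mul_assoc] at this
  exact Nat.lt_of_mul_lt_mul_right this

theorem image_le {α β : Type*} [Fintype α] [DecidableEq β] (cl : α → β) (F : Finset α)
    (h : ∀ y ∉ F, 3 ≤ (Finset.univ.filter fun z => cl z = cl y).card) :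
    3 * (Finset.univ.image cl).card ≤ Fintype.card α + 2 * F.card := by
  classical
  let f : α → ℕ := fun y => if y ∈ F then 3 else 1
  have hfib : ∀ c ∈ Finset.univ.image cl, 3 ≤ ∑ y ∈ Finset.univ.filter (fun z => cl z = c), f y := by
    intro c hc
    obtain ⟨y, -, rfl⟩ := Finset.mem_image.1 hc
    by_cases hy : y ∈ F
    · refine le_trans ?_ (Finset.single_le_sum (fun i _ => Nat.zero_le (f i))
        (Finset.mem_filter.2 ⟨Finset.mem_univ y, rfl⟩))
      simp [f, hy]
    · refine (h y hy).trans ?_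
      rw [Finset.card_eq_sum_ones]
      exact Finset.sum_le_sum fun i _ => by simp only [f]; split_ifs <;> norm_num
  have h1 := Finset.card_nsmul_le_sum (Finset.univ.image cl) _ 3 hfib
  rw [smul_eq_mul, Finset.sum_fiberwise_of_maps_to (g := cl) (t := Finset.univ.image cl)
      (fun y _ => Finset.mem_image_of_mem _ (Finset.mem_univ y))] at h1
  have h2 : ∑ y, f y = Fintype.card α + 2 * F.card := by
    rw [show (f : α → ℕ) = fun y => 1 + (if y ∈ F then 2 else 0) from
      funext fun y => by simp only [f]; split_ifs <;> norm_num]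
    rw [Finset.sum_add_distrib, Finset.sum_const, Finset.card_univ, ← Finset.sum_filter,
      Finset.filter_univ_mem, Finset.sum_const, smul_eq_mul, smul_eq_mul]
    ring
  omega

theorem conj_ne {G : Type u} [Group G] {v y : G} (hv : Odd (orderOf v)) (hne : v * y * v⁻¹ ≠ y) :
    v * (v * y * v⁻¹) * v⁻¹ ≠ y ∧ v * (v * y * v⁻¹) * v⁻¹ ≠ v * y * v⁻¹ := by
  refine ⟨fun h => hne ?_, fun h => hne (mul_left_cancel (mul_right_cancel h))⟩
  obtain ⟨t, ht⟩ := hv
  have h1 : Commute (v ^ 2) y := by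
    refine mul_inv_eq_iff_eq_mul.1 (Eq.trans ?_ h)
    rw [sq]; group
  have h2 : v = (v ^ 2) ^ (t + 1) := by
    rw [← pow_mul, show 2 * (t + 1) = orderOf v + 1 by omega, pow_succ, pow_orderOf_eq_one, one_mul]
  rw [mul_inv_eq_iff_eq_mul, h2]
  exact (h1.pow_left (t + 1)).eq

theorem comm_of_many {P : Type u} [Group P] [Finite P] (hodd : Odd (Nat.card P))
    (h : Nat.card P < 2 * Nat.card (ConjClasses P)) : ∀ x y : P, x * y = y * x := by
  classical
  by_contra hne
  letI := Fintype.ofFinite P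
  haveI : Finite (ConjClasses P) := Finite.of_surjective _ ConjClasses.mk_surjective
  letI := Fintype.ofFinite (ConjClasses P)
  have h4 : 4 ≤ (Subgroup.center P).index := by
    have h0 := Subgroup.index_ne_zero_of_finite (H := Subgroup.center P)
    have hoddi : Odd (Subgroup.center P).index := hodd.of_dvd_nat (Subgroup.index_dvd_card _)
    have hcyc : ¬ IsCyclic (P ⧸ Subgroup.center P) := fun hcy => hne fun x y =>
      commutative_of_cyclic_center_quotient (QuotientGroup.mk' (Subgroup.center P)) (by simp) x y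
    by_contra hlt
    obtain ⟨t, ht⟩ := hoddi
    have h13 : (Subgroup.center P).index = 1 ∨ (Subgroup.center P).index = 3 := by omega
    apply hcyc
    rcases h13 with h1 | h3
    · haveI : Subsingleton (P ⧸ Subgroup.center P) := by
        rw [Subgroup.index_eq_card] at h1
        exact (Nat.card_eq_one_iff_unique.1 h1).1
      infer_instance
    · haveI : Fact (Nat.Prime 3) := ⟨Nat.prime_three⟩
      exact isCyclic_of_prime_card (p := 3) (by rw [← Subgroup.index_eq_card, h3])
  have hF : 4 * (Finset.univ.filter fun y : P => y ∈ Subgroup.center P).card ≤ Fintype.card P := by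
    rw [← Fintype.card_subtype, ← Nat.card_eq_fintype_card, ← Nat.card_eq_fintype_card]
    calc 4 * Nat.card {y // y ∈ Subgroup.center P}
        ≤ (Subgroup.center P).index * Nat.card (Subgroup.center P) := Nat.mul_le_mul_right _ h4
      _ = Nat.card P := by rw [mul_comm, Subgroup.card_mul_index]
  have := image_le (ConjClasses.mk : P → ConjClasses P)
    (Finset.univ.filter fun y => y ∈ Subgroup.center P) fun y hy => by
      simp only [Finset.mem_filter, Finset.mem_univ, true_and, Subgroup.mem_center_iff, not_forall] at hy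
      obtain ⟨v, hv⟩ := hy
      have hne1 : v * y * v⁻¹ ≠ y := fun h => hv (mul_inv_eq_iff_eq_mul.1 h)
      obtain ⟨h2, h3⟩ := conj_ne (hodd.of_dvd_nat (orderOf_dvd_natCard v)) hne1
      refine le_trans (le_of_eq ?_) (Finset.card_le_card
        (show ({y, v * y * v⁻¹, v * (v * y * v⁻¹) * v⁻¹} : Finset P) ⊆ _ from fun z hz => ?_))
      · rw [Finset.card_insert_of_notMem, Finset.card_pair h3.symm]
        simp only [Finset.mem_insert, Finset.mem_singleton, not_or]
        exact ⟨hne1.symm, h2.symm⟩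
      · simp only [Finset.mem_insert, Finset.mem_singleton] at hz
        refine Finset.mem_filter.2 ⟨Finset.mem_univ _, ?_⟩
        rcases hz with rfl | rfl | rfl
        · rfl
        · exact ConjClasses.mk_eq_mk_iff_isConj.2 (isConj_iff.2 ⟨v⁻¹, by group⟩)
        · exact ConjClasses.mk_eq_mk_iff_isConj.2 (isConj_iff.2 ⟨v⁻¹ * v⁻¹, by group⟩)
  rw [Finset.image_univ_of_surjective ConjClasses.mk_surjective, Finset.card_univ] at this
  simp only [Nat.card_eq_fintype_card] at h
  omega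

theorem odd_order_pComplement {O : Type u} [Group O] [Finite O] (hodd : Odd (Nat.card O))
    {p : ℕ} [Fact p.Prime] (P : Sylow p O) (h : Nat.card ↥(P : Subgroup O) < 2 * kpi {p} O) :
    IsMulCommutative ↥(P : Subgroup O) ∧ Cfsg.HasNormalPComplement p O := by
  classical
  letI := Fintype.ofFinite ↥(P : Subgroup O)
  haveI : Finite (ConjClasses ↥(P : Subgroup O)) := Finite.of_surjective _ ConjClasses.mk_surjective
  letI := Fintype.ofFinite (ConjClasses ↥(P : Subgroup O))
  have hPodd : Odd (Nat.card ↥(P : Subgroup O)) :=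
    hodd.of_dvd_nat (Subgroup.card_subgroup_dvd_card _)
  have hcl : Nat.card ↥(P : Subgroup O) < 2 * Nat.card (ConjClasses ↥(P : Subgroup O)) := by
    refine lt_of_lt_of_le h (Nat.mul_le_mul_left 2 ((kpi_singleton_le_image P).trans ?_))
    rw [Nat.card_eq_fintype_card]
    refine le_trans (Finset.card_le_card (t := Finset.univ.image
      (ConjClasses.map (P : Subgroup O).subtype)) ?_) Finset.card_image_le
    intro c hc
    obtain ⟨y, -, rfl⟩ := Finset.mem_image.1 hc
    exact Finset.mem_image.2 ⟨ConjClasses.mk y, Finset.mem_univ _, rfl⟩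
  have hab := comm_of_many hPodd hcl
  haveI hPc : IsMulCommutative ↥(P : Subgroup O) := ⟨⟨hab⟩⟩
  refine ⟨hPc, CfsgLib.Transfer.hasNormalPComplement_of_abelian_sylow P hPc ?_⟩
  intro g hg hgo
  by_contra hgc
  set F := ((P : Subgroup O) ⊓ Subgroup.centralizer ({g} : Set O)).subgroupOf (P : Subgroup O) with hF
  have hmemF : ∀ y : ↥(P : Subgroup O), y ∈ F ↔ g * (y : O) * g⁻¹ = y := fun y => by
    rw [hF, Subgroup.mem_subgroupOf]
    exact ⟨fun h => mul_inv_eq_iff_eq_mul.2 (Subgroup.mem_centralizer_singleton_iff.1 h.2).symm,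
      fun h => ⟨y.2, Subgroup.mem_centralizer_singleton_iff.2 (mul_inv_eq_iff_eq_mul.1 h).symm⟩⟩
  have hgodd : Odd (orderOf g) := hodd.of_dvd_nat (orderOf_dvd_natCard g)
  have h4 : 4 ≤ F.index := by
    have h0 := Subgroup.index_ne_zero_of_finite (H := F)
    obtain ⟨t, ht⟩ := hPodd.of_dvd_nat (Subgroup.index_dvd_card F)
    by_contra hlt
    have hne1 : F.index ≠ 1 := fun h1 => hgc (Subgroup.mem_centralizer_iff.2 fun y hy =>
      (mul_inv_eq_iff_eq_mul.1 ((hmemF ⟨y, hy⟩).1 (by rw [Subgroup.index_eq_one.1 h1]; trivial))).symm)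
    have h3 : F.index = 3 := by omega
    haveI : Fact (Nat.Prime 3) := ⟨Nat.prime_three⟩
    haveI hFn : F.Normal := ⟨fun n hn x => by rwa [hab x n, mul_inv_cancel_right]⟩
    have htop : F = ⊤ := by
      refine Subgroup.eq_top_iff' _ |>.2 fun r => ?_
      by_contra hr
      let φr : ↥(P : Subgroup O) := ⟨g * r * g⁻¹, (Subgroup.mem_normalizer_iff.1 hg r).1 r.2⟩
      have hφr : φr ∉ F := fun hm => hr ((hmemF r).2 (mul_left_cancel (mul_right_cancel ((hmemF φr).1 hm))))
      have hq : (φr : ↥(P : Subgroup O) ⧸ F) = (r : ↥(P : Subgroup O) ⧸ F) ∨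
          (φr : ↥(P : Subgroup O) ⧸ F) = (r : ↥(P : Subgroup O) ⧸ F)⁻¹ := by
        letI := Fintype.ofFinite (↥(P : Subgroup O) ⧸ F)
        set q : ↥(P : Subgroup O) ⧸ F := (r : ↥(P : Subgroup O) ⧸ F) with hq
        have hq1 : q ≠ 1 := fun h1 => hr ((QuotientGroup.eq_one_iff r).1 h1)
        have hq3 : q ^ 3 = 1 := by
          have := pow_card_eq_one' (x := q)
          rwa [← Subgroup.index_eq_card, h3] at this
        have hqq : q ≠ q⁻¹ := fun h1 => hq1 (by
          rw [eq_inv_iff_mul_eq_one] at h1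
          rwa [pow_succ, pow_succ, pow_one, h1, one_mul] at hq3)
        have hc : ({1, q, q⁻¹} : Finset (↥(P : Subgroup O) ⧸ F)) = Finset.univ := by
          refine Finset.eq_univ_of_card _ ?_
          rw [Finset.card_insert_of_notMem, Finset.card_pair hqq, ← Nat.card_eq_fintype_card,
            ← Subgroup.index_eq_card, h3]
          simp [hq1.symm, eq_comm (a := (1 : ↥(P : Subgroup O) ⧸ F)), hq1]
        have hm := Finset.mem_univ (φr : ↥(P : Subgroup O) ⧸ F)
        rw [← hc] at hm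
        simp only [Finset.mem_insert, Finset.mem_singleton] at hm
        exact hm.resolve_left fun h1 => hφr ((QuotientGroup.eq_one_iff φr).1 h1)
      apply hr
      rw [hmemF]
      rcases hq with hq | hq
      · have hd := (hmemF _).1 (QuotientGroup.eq.1 hq.symm)
        have hdc : g * ((r : O)⁻¹ * (g * r * g⁻¹)) * g⁻¹ = (r : O)⁻¹ * (g * r * g⁻¹) := hd
        exact mul_inv_eq_iff_eq_mul.2 (CfsgLib.LocalEven.commute_of_conj_eq_mul (x := g) (v := (r : O))
          (d := (r : O)⁻¹ * (g * r * g⁻¹)) P.2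
          (Subgroup.mul_mem _ (Subgroup.inv_mem _ r.2) φr.2) hgo (by group) (mul_inv_eq_iff_eq_mul.1 hdc))
      · have hd := (hmemF (r * φr)).1 ((QuotientGroup.eq_one_iff _).1 (by
          rw [QuotientGroup.mk_mul, hq, mul_inv_cancel]))
        by_contra hne
        refine (conj_ne hgodd hne).1 ?_
        have hd' : (g * r * g⁻¹) * (g * (g * r * g⁻¹) * g⁻¹) = (r : O) * (g * r * g⁻¹) := by
          rw [← show g * ((r : O) * (g * r * g⁻¹)) * g⁻¹ = (r : O) * (g * r * g⁻¹) from hd]; group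
        have hcm : (r : O) * (g * r * g⁻¹) = (g * r * g⁻¹) * r := congrArg Subtype.val (hab r φr)
        rw [hcm] at hd'
        exact mul_left_cancel hd'
    exact hne1 (by rw [htop, Subgroup.index_top])
  have hFc : 4 * (Finset.univ.filter fun y => y ∈ F).card ≤ Fintype.card ↥(P : Subgroup O) := by
    rw [← Fintype.card_subtype, ← Nat.card_eq_fintype_card, ← Nat.card_eq_fintype_card]
    calc 4 * Nat.card {y // y ∈ F}
        ≤ F.index * Nat.card F := Nat.mul_le_mul_right _ h4
      _ = Nat.card ↥(P : Subgroup O) := by rw [mul_comm, Subgroup.card_mul_index]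
  have := image_le (fun y : ↥(P : Subgroup O) => ConjClasses.mk (y : O))
    (Finset.univ.filter fun y => y ∈ F) fun y hy => by
      simp only [Finset.mem_filter, Finset.mem_univ, true_and] at hy
      have hne1 : g * (y : O) * g⁻¹ ≠ y := fun h => hy ((hmemF y).2 h)
      obtain ⟨h2, h3⟩ := conj_ne hgodd hne1
      let y1 : ↥(P : Subgroup O) := ⟨_, (Subgroup.mem_normalizer_iff.1 hg y).1 y.2⟩
      let y2 : ↥(P : Subgroup O) := ⟨_, (Subgroup.mem_normalizer_iff.1 hg y1).1 y1.2⟩
      refine le_trans (le_of_eq ?_) (Finset.card_le_card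
        (show ({y, y1, y2} : Finset ↥(P : Subgroup O)) ⊆ _ from fun z hz => ?_))
      · rw [Finset.card_insert_of_notMem, Finset.card_pair]
        · exact fun h => h3 (congrArg Subtype.val h).symm
        · simp only [Finset.mem_insert, Finset.mem_singleton, not_or]
          exact ⟨fun h => hne1 (congrArg Subtype.val h).symm, fun h => h2 (congrArg Subtype.val h).symm⟩
      · simp only [Finset.mem_insert, Finset.mem_singleton] at hz
        refine Finset.mem_filter.2 ⟨Finset.mem_univ _, ?_⟩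
        rcases hz with rfl | rfl | rfl
        · rfl
        · exact ConjClasses.mk_eq_mk_iff_isConj.2 (isConj_iff.2 ⟨g⁻¹, by simp [y1, mul_assoc]⟩)
        · exact ConjClasses.mk_eq_mk_iff_isConj.2 (isConj_iff.2 ⟨g⁻¹ * g⁻¹, by simp [y1, y2, mul_assoc]⟩)
  have hk := kpi_singleton_le_image P
  rw [Nat.card_eq_fintype_card] at h
  omega

theorem kpi_le_normal {G : Type u} [Group G] [Finite G] {p : ℕ} (O : Subgroup G)
    (hmem : ∀ x : G, IsPi {p} x → x ∈ O) : kpi {p} G ≤ kpi {p} ↥O := by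
  haveI : Finite (ConjClasses ↥O) := Finite.of_surjective _ ConjClasses.mk_surjective
  have hT : ∀ c : {c : ConjClasses G // ∀ x ∈ c.carrier, IsPi {p} x},
      ∃ d : {d : ConjClasses ↥O // ∀ x ∈ d.carrier, IsPi {p} x}, ConjClasses.map O.subtype d.1 = c.1 := by
    intro c
    obtain ⟨x, hx⟩ := ConjClasses.exists_rep c.1
    have hxp := c.2 x (by rw [← hx]; exact ConjClasses.mem_carrier_mk)
    refine ⟨⟨ConjClasses.mk ⟨x, hmem x hxp⟩, isPi_of_isConj ?_⟩, hx⟩
    intro r hr hd
    rw [Subgroup.orderOf_mk] at hd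
    exact hxp r hr hd
  choose φ hφ using hT
  exact Nat.card_le_card_of_injective φ fun c c' h => Subtype.ext (by rw [← hφ c, h, hφ c'])

/-- Let π be a finite set of primes containing 2 and G a finite group. Write k_π(G) for the number of conjugacy classes of G consisting of π-elements (elements all of whose order's prime divisors lie in π) and |G|_π for the π-part of the order of G. If k_π(G) > |G|_π/2, then G has a normal π-complement (a normal subgroup of order prime to π whose index is a π-number) and an abelian Hall subgroup for the set of odd primes in π. -/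
theorem result {G : Type*} [Group G] [Finite G] (π : Finset ℕ) (hπ : ∀ r ∈ π, r.Prime) (h2 : 2 ∈ π)
    (hk : π.prod (fun r => r ^ (Nat.card G).factorization r) < 2 * Nat.card {c : ConjClasses G // ∀ x ∈ c.carrier, ∀ r : ℕ, r.Prime → r ∣ orderOf x → r ∈ π}) :
    (∃ N : Subgroup G, N.Normal ∧ (∀ r : ℕ, r.Prime → r ∣ Nat.card ↥N → r ∉ π) ∧ ∀ r : ℕ, r.Prime → r ∣ N.index → r ∈ π) ∧ ∃ H : Subgroup G, Cfsg.IsPiHall ((↑π : Set ℕ) \ {2}) H ∧ IsMulCommutative ↥H := by
  classical
  haveI : Fact (Nat.Prime 2) := ⟨Nat.prime_two⟩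
  have hk' : π.prod (fun r => r ^ (Nat.card G).factorization r) < 2 * kpi π G := hk
  obtain ⟨S⟩ : Nonempty (Sylow 2 G) := inferInstance
  have hS : Nat.card ↥(S : Subgroup G) < 2 * Nat.card {c : ConjClasses G // ∀ x ∈ c.carrier, ∃ k : ℕ, orderOf x = 2 ^ k} := by
    rw [S.card_eq_multiplicity]
    refine lt_of_lt_of_le (ordProj_lt_kpi hπ hk' h2) (Nat.mul_le_mul_left 2 ?_)
    haveI : Finite (ConjClasses G) := Finite.of_surjective _ ConjClasses.mk_surjective
    exact Nat.card_le_card_of_injective (fun c => (⟨c.1, fun x hx => exists_pow_of_isPi (c.2 x hx)⟩ :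
      {c : ConjClasses G // ∀ x ∈ c.carrier, ∃ k : ℕ, orderOf x = 2 ^ k}))
      fun a b hab => Subtype.ext (congrArg (fun t : {c : ConjClasses G // ∀ x ∈ c.carrier, ∃ k : ℕ, orderOf x = 2 ^ k} => t.1) hab)
  obtain ⟨O, hOn, hOc⟩ := (CfsgLib.Transfer.hasNormalPComplement_iff_sylow S).1
    ((Cfsg.Agent.S3895.result S).1 hS).1
  haveI := hOn
  have hidx : O.index = 2 ^ (Nat.card G).factorization 2 := by rw [hOc.symm.index_eq_card, S.card_eq_multiplicity]
  have hodd : Odd (Nat.card ↥O) := by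
    rw [← Nat.not_even_iff_odd, even_iff_two_dvd]
    intro hd
    exact S.not_dvd_index (hOc.index_eq_card ▸ hd)
  have hmemO : ∀ p : ℕ, p.Prime → p ≠ 2 → ∀ x : G, IsPi {p} x → x ∈ O := by
    intro p hp hp2 x hx
    obtain ⟨k, hxk⟩ := exists_pow_of_isPi hx
    rw [← QuotientGroup.eq_one_iff, ← orderOf_eq_one_iff]
    have d1 : orderOf (x : G ⧸ O) ∣ p ^ k := hxk ▸ orderOf_map_dvd (QuotientGroup.mk' O) x
    have d2 : orderOf (x : G ⧸ O) ∣ 2 ^ (Nat.card G).factorization 2 := by
      rw [← hidx, Subgroup.index_eq_card]; exact orderOf_dvd_natCard _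
    exact Nat.eq_one_of_dvd_coprimes (((Nat.coprime_primes hp Nat.prime_two).2 hp2).pow _ _) d1 d2
  have hcomp : ∀ p : {p // p ∈ π.erase 2}, ∃ (P : Sylow p.1 ↥O) (N : Subgroup ↥O), N.Normal ∧
      N.IsComplement' (P : Subgroup ↥O) ∧ IsMulCommutative ↥(P : Subgroup ↥O) := by
    rintro ⟨p, hp⟩
    rw [Finset.mem_erase] at hp
    haveI : Fact p.Prime := ⟨hπ p hp.2⟩
    obtain ⟨P⟩ : Nonempty (Sylow p ↥O) := inferInstance
    have hlt : Nat.card ↥(P : Subgroup ↥O) < 2 * kpi {p} ↥O := by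
      refine lt_of_le_of_lt ?_ (lt_of_lt_of_le (ordProj_lt_kpi hπ hk' hp.2)
        (Nat.mul_le_mul_left 2 (kpi_le_normal O (hmemO p (hπ p hp.2) hp.1))))
      rw [P.card_eq_multiplicity]
      exact ordProj_le O p
    obtain ⟨hPc, hN⟩ := odd_order_pComplement hodd P hlt
    obtain ⟨N, hNn, hNc⟩ := (CfsgLib.Transfer.hasNormalPComplement_iff_sylow P).1 hN
    exact ⟨P, N, hNn, hNc, hPc⟩
  choose P K hKn hKc hPc using hcomp
  haveI := hKn
  have hprime : ∀ p : {p // p ∈ π.erase 2}, p.1.Prime := fun p => hπ p.1 (Finset.mem_of_mem_erase p.2)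
  have hKiff : ∀ p, ∀ x : ↥O, x ∈ K p ↔ ¬ p.1 ∣ orderOf x := by
    intro p x
    haveI : Fact p.1.Prime := ⟨hprime p⟩
    constructor
    · intro hx hd
      have := hd.trans ((Subgroup.orderOf_mk x hx).symm ▸ orderOf_dvd_natCard (⟨x, hx⟩ : K p))
      exact (P p).not_dvd_index ((hKc p).index_eq_card ▸ this)
    · intro hx
      rw [← QuotientGroup.eq_one_iff, ← orderOf_eq_one_iff]
      obtain ⟨n, hn⟩ := (P p).2.exists_card_eq
      have d2 : orderOf (x : ↥O ⧸ K p) ∣ p.1 ^ n := by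
        rw [← hn, ← (hKc p).symm.index_eq_card, Subgroup.index_eq_card]; exact orderOf_dvd_natCard _
      exact Nat.eq_one_of_dvd_coprimes (((hprime p).coprime_iff_not_dvd.2 hx).pow_left n) d2
        (orderOf_map_dvd (QuotientGroup.mk' (K p)) x)
  set M : Subgroup ↥O := ⨅ p, K p with hM
  haveI hMn : M.Normal := Subgroup.normal_iInf_normal hKn
  have hMiff : ∀ x : ↥O, x ∈ M ↔ ∀ p ∈ π.erase 2, ¬ p ∣ orderOf x := fun x => by
    rw [hM, Subgroup.mem_iInf]
    exact ⟨fun h p hp => (hKiff ⟨p, hp⟩ x).1 (h _), fun h p => (hKiff p x).2 (h p.1 p.2)⟩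
  have hMcard : ∀ r : ℕ, r.Prime → r ∣ Nat.card ↥M → r ∉ π := by
    intro r hr hd hrπ
    haveI : Fact r.Prime := ⟨hr⟩
    obtain ⟨x, hx⟩ := exists_prime_orderOf_dvd_card' r hd
    by_cases hr2 : r = 2
    · subst hr2
      have : 2 ∣ Nat.card ↥O := hd.trans (Subgroup.card_subgroup_dvd_card M)
      exact (Nat.not_even_iff_odd.2 hodd) (even_iff_two_dvd.2 this)
    · exact (hMiff x).1 x.2 r (Finset.mem_erase.2 ⟨hr2, hrπ⟩) (by rw [Subgroup.orderOf_coe, hx])
  have hMidx : ∀ r : ℕ, r.Prime → r ∣ M.index → r ∈ π.erase 2 := by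
    intro r hr hd
    by_contra hrπ
    haveI : Fact r.Prime := ⟨hr⟩
    rw [Subgroup.index_eq_card] at hd
    obtain ⟨y, hy⟩ := exists_prime_orderOf_dvd_card' r hd
    obtain ⟨x, rfl⟩ := QuotientGroup.mk'_surjective M y
    have hxM : x ∈ M := by
      rw [hM, Subgroup.mem_iInf]
      intro p
      haveI : Fact p.1.Prime := ⟨hprime p⟩
      rw [← QuotientGroup.eq_one_iff, ← orderOf_eq_one_iff]
      obtain ⟨n, hn⟩ := (P p).2.exists_card_eq
      have d2 : orderOf (x : ↥O ⧸ K p) ∣ p.1 ^ n := by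
        rw [← hn, ← (hKc p).symm.index_eq_card, Subgroup.index_eq_card]; exact orderOf_dvd_natCard _
      have d1 : orderOf (x : ↥O ⧸ K p) ∣ r := by
        refine orderOf_dvd_of_pow_eq_one ((QuotientGroup.eq_one_iff _).2 ?_)
        have h1 : (QuotientGroup.mk' M x) ^ r = 1 := hy ▸ pow_orderOf_eq_one _
        rw [← map_pow] at h1
        exact (iInf_le K p) ((QuotientGroup.eq_one_iff _).1 h1)
      exact Nat.eq_one_of_dvd_coprimes
        (((Nat.coprime_primes (hprime p) hr).2 fun h => hrπ (h ▸ p.2)).pow_left n) d2 d1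
    rw [show QuotientGroup.mk' M x = 1 from (QuotientGroup.eq_one_iff x).2 hxM, orderOf_one] at hy
    exact hr.ne_one hy.symm
  have hOidx : ∀ r : ℕ, r.Prime → r ∣ O.index → r = 2 := fun r hr hd =>
    (Nat.prime_dvd_prime_iff_eq hr Nat.prime_two).1 (hr.dvd_of_dvd_pow (hidx ▸ hd))
  constructor
  · refine ⟨M.map O.subtype, ⟨?_⟩, ?_, ?_⟩
    · rintro _ ⟨x, hx, rfl⟩ g
      refine ⟨⟨g * x * g⁻¹, hOn.conj_mem _ x.2 g⟩, ?_, rfl⟩
      refine (hMiff _).2 fun p hp => ?_
      rw [Subgroup.orderOf_mk, orderOf_conj', Subgroup.orderOf_coe]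
      exact (hMiff x).1 hx p hp
    · intro r hr hd
      rw [Subgroup.card_subtype] at hd
      exact hMcard r hr hd
    · intro r hr hd
      rw [Subgroup.index_map_subtype] at hd
      rcases (hr.dvd_mul).1 hd with h | h
      · exact Finset.mem_of_mem_erase (hMidx r hr h)
      · exact hOidx r hr h ▸ h2
  · have hcop : (Nat.card ↥M).Coprime M.index := Nat.coprime_of_dvd fun r hr h1 h3 =>
      hMcard r hr h1 (Finset.mem_of_mem_erase (hMidx r hr h3))
    obtain ⟨H, hH⟩ := Subgroup.exists_right_complement'_of_coprime hcop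
    refine ⟨H.map O.subtype, ⟨?_, ?_⟩, ?_⟩
    · intro r hr hd
      rw [Subgroup.card_subtype, ← hH.symm.index_eq_card] at hd
      have := Finset.mem_erase.1 (hMidx r hr hd)
      exact ⟨this.2, this.1⟩
    · intro r hr hrπ hd
      rw [Subgroup.index_map_subtype, hH.index_eq_card] at hd
      rcases (hr.dvd_mul).1 hd with h | h
      · exact hMcard r hr h hrπ.1
      · exact hrπ.2 (hOidx r hr h)
    · have hcomm : ∀ a ∈ H, ∀ b ∈ H, a * b = b * a := by
        intro a ha b hb
        rw [← commutatorElement_eq_one_iff_mul_comm]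
        have h1 : ⁅a, b⁆ ∈ M ⊓ H := by
          refine ⟨?_, Subgroup.mul_mem _ (Subgroup.mul_mem _ (Subgroup.mul_mem _ ha hb) (Subgroup.inv_mem _ ha)) (Subgroup.inv_mem _ hb)⟩
          rw [hM]
          refine Subgroup.mem_iInf.2 fun p => ?_
          rw [← QuotientGroup.eq_one_iff]
          let e := (hKc p).symm.QuotientMulEquiv
          show QuotientGroup.mk' (K p) ⁅a, b⁆ = 1
          rw [map_commutatorElement, commutatorElement_eq_one_iff_mul_comm]
          haveI := hPc p
          apply e.injective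
          rw [map_mul, map_mul, mul_comm']
        rw [hH.disjoint.eq_bot, Subgroup.mem_bot] at h1
        exact h1
      refine ⟨⟨?_⟩⟩
      rintro ⟨_, a, ha, rfl⟩ ⟨_, b, hb, rfl⟩
      exact Subtype.ext (congrArg (fun t : ↥O => (t : G)) (hcomm a ha b hb) :)

end Cfsg.Agent.S3898
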