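import Cfsg.Statements.S3897
import Cfsg.Agent.S3898

set_option autoImplicit false
open Cfsg

namespace Cfsg.Agent.S3897
theorem image_le_two {α β : Type*} [Fintype α] [DecidableEq β] (cl : α → β) (F : Finset α)
    (h : ∀ y ∉ F, 2 ≤ (Finset.univ.filter fun z => cl z = cl y).card) :
    2 * (Finset.univ.image cl).card ≤ Fintype.card α + F.card := by
  classical
  let f : α → ℕ := fun y => if y ∈ F then 2 else 1
  have hfib : ∀ c ∈ Finset.univ.image cl, 2 ≤ ∑ y ∈ Finset.univ.filter (fun z => cl z = c), f y := by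
    intro c hc
    obtain ⟨y, -, rfl⟩ := Finset.mem_image.1 hc
    by_cases hy : y ∈ F
    · refine le_trans ?_ (Finset.single_le_sum (fun i _ => Nat.zero_le (f i))
        (Finset.mem_filter.2 ⟨Finset.mem_univ y, rfl⟩))
      simp [f, hy]
    · refine (h y hy).trans ?_
      rw [Finset.card_eq_sum_ones]
      exact Finset.sum_le_sum fun i _ => by simp only [f]; split_ifs <;> norm_num
  have h1 := Finset.card_nsmul_le_sum (Finset.univ.image cl) _ 2 hfib
  rw [smul_eq_mul, Finset.sum_fiberwise_of_maps_to (g := cl) (t := Finset.univ.image cl)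
      (fun y _ => Finset.mem_image_of_mem _ (Finset.mem_univ y))] at h1
  have h2 : ∑ y, f y = Fintype.card α + F.card := by
    rw [show (f : α → ℕ) = fun y => 1 + (if y ∈ F then 1 else 0) from
      funext fun y => by simp only [f]; split_ifs <;> norm_num]
    rw [Finset.sum_add_distrib, Finset.sum_const, Finset.card_univ, ← Finset.sum_filter,
      Finset.filter_univ_mem, Finset.sum_const, smul_eq_mul, smul_eq_mul]
    ring
  omega

/-- Let p be an odd prime and G a finite group with Sylow p-subgroup P, and write k_p(G) for the number of conjugacy classes of G consisting of p-elements (elements of p-power order, the identity included). Then k_p(G) > (p + 1)|P|/(2p) if and only if G has a normal p-complement and P is abelian. -/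
theorem result {G : Type*} [Group G] [Finite G] {p : ℕ} [Fact p.Prime] (hp : p ≠ 2) (P : Sylow p G) :
    (p + 1) * Nat.card ↥(P : Subgroup G) < 2 * p * Nat.card {c : ConjClasses G // ∀ x ∈ c.carrier, ∃ k : ℕ, orderOf x = p ^ k} ↔
      Cfsg.HasNormalPComplement p G ∧ IsMulCommutative ↥(P : Subgroup G) := by
  classical
  set K := Nat.card {c : ConjClasses G // ∀ x ∈ c.carrier, ∃ k : ℕ, orderOf x = p ^ k} with hK
  haveI : Finite (ConjClasses G) := Finite.of_surjective _ ConjClasses.mk_surjective
  letI := Fintype.ofFinite ↥(P : Subgroup G)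
  haveI : Finite (ConjClasses ↥(P : Subgroup G)) := Finite.of_surjective _ ConjClasses.mk_surjective
  set I := Finset.univ.image fun y : ↥(P : Subgroup G) => ConjClasses.mk (y : G)
  have hKI : K = I.card := by
    rw [hK, ← Nat.card_eq_finsetCard]
    refine Nat.card_congr (Equiv.subtypeEquivRight fun c => ?_)
    constructor
    · intro hc
      obtain ⟨x, hx⟩ := ConjClasses.exists_rep c
      obtain ⟨k, hk⟩ := hc x (by rw [← hx]; exact ConjClasses.mem_carrier_mk)
      obtain ⟨a, ha⟩ := Cfsg.Agent.S3898.exists_conj_mem_sylow P (x := x) (fun r hr hd =>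
        Finset.mem_singleton.2 ((Nat.prime_dvd_prime_iff_eq hr Fact.out).1 (hr.dvd_of_dvd_pow (hk ▸ hd))))
      refine Finset.mem_image.2 ⟨⟨_, ha⟩, Finset.mem_univ _, ?_⟩
      rw [← hx]
      exact ConjClasses.mk_eq_mk_iff_isConj.2 (isConj_iff.2 ⟨a⁻¹, by group⟩)
    · intro hc x hx
      obtain ⟨y, -, rfl⟩ := Finset.mem_image.1 hc
      obtain ⟨k, hk⟩ := IsPGroup.iff_orderOf.1 P.2 y
      obtain ⟨a, rfl⟩ := isConj_iff.1 (ConjClasses.mk_eq_mk_iff_isConj.1 (ConjClasses.mem_carrier_iff_mk_eq.1 hx).symm)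
      exact ⟨k, by rw [Cfsg.Agent.S3898.orderOf_conj', Subgroup.orderOf_coe, hk]⟩
  have hpp := (Fact.out : p.Prime)
  have hp2 : 2 ≤ p := hpp.two_le
  have hPpos : 0 < Nat.card ↥(P : Subgroup G) := Nat.card_pos
  constructor
  · intro hlt
    rw [hKI] at hlt
    have hodd : Odd (Nat.card ↥(P : Subgroup G)) := by
      obtain ⟨n, hn⟩ := P.2.exists_card_eq
      rw [hn]; exact (hpp.odd_of_ne_two hp).pow
    have h2 : Nat.card ↥(P : Subgroup G) < 2 * I.card := by
      by_contra hle
      nlinarith
    have hle : I.card ≤ Nat.card (ConjClasses ↥(P : Subgroup G)) := by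
      haveI := Fintype.ofFinite (ConjClasses ↥(P : Subgroup G))
      rw [Nat.card_eq_fintype_card]
      refine le_trans (Finset.card_le_card (t := Finset.univ.image
        (ConjClasses.map (P : Subgroup G).subtype)) ?_) Finset.card_image_le
      intro c hc
      obtain ⟨y, -, rfl⟩ := Finset.mem_image.1 hc
      exact Finset.mem_image.2 ⟨ConjClasses.mk y, Finset.mem_univ _, rfl⟩
    have hab := Cfsg.Agent.S3898.comm_of_many hodd (lt_of_lt_of_le h2 (Nat.mul_le_mul_left 2 hle))
    haveI hPc : IsMulCommutative ↥(P : Subgroup G) := ⟨⟨hab⟩⟩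
    refine ⟨CfsgLib.Transfer.hasNormalPComplement_of_abelian_sylow P hPc fun g hg _ => ?_, hPc⟩
    by_contra hgc
    set F := (Subgroup.centralizer ({g} : Set G)).subgroupOf (P : Subgroup G) with hF
    have hmemF : ∀ y : ↥(P : Subgroup G), y ∈ F ↔ g * (y : G) * g⁻¹ = y := fun y => by
      rw [hF, Subgroup.mem_subgroupOf, Subgroup.mem_centralizer_singleton_iff, mul_inv_eq_iff_eq_mul]
      exact eq_comm
    have hFI : p ≤ F.index := by
      obtain ⟨n, hn⟩ := P.2.exists_card_eq
      obtain ⟨m, -, hm⟩ := (Nat.dvd_prime_pow hpp).1 (hn ▸ Subgroup.index_dvd_card F)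
      rcases Nat.eq_zero_or_pos m with rfl | hm0
      · refine absurd (Subgroup.mem_centralizer_iff.2 fun y hy => ?_) hgc
        exact (mul_inv_eq_iff_eq_mul.1 ((hmemF ⟨y, hy⟩).1 (by
          rw [Subgroup.index_eq_one.1 (hm.trans (pow_zero p))]; trivial))).symm
      · rw [hm]; exact Nat.le_self_pow hm0.ne' p
    have hFc : p * (Finset.univ.filter fun y => y ∈ F).card ≤ Fintype.card ↥(P : Subgroup G) := by
      rw [← Fintype.card_subtype, ← Nat.card_eq_fintype_card, ← Nat.card_eq_fintype_card]
      calc p * Nat.card {y // y ∈ F}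
          ≤ F.index * Nat.card F := Nat.mul_le_mul_right _ hFI
        _ = Nat.card ↥(P : Subgroup G) := by rw [mul_comm, Subgroup.card_mul_index]
    have h3 := image_le_two (fun y : ↥(P : Subgroup G) => ConjClasses.mk (y : G))
      (Finset.univ.filter fun y => y ∈ F) fun y hy => by
        simp only [Finset.mem_filter, Finset.mem_univ, true_and] at hy
        let y1 : ↥(P : Subgroup G) := ⟨_, (Subgroup.mem_normalizer_iff.1 hg y).1 y.2⟩
        refine le_trans (le_of_eq ?_) (Finset.card_le_card
          (show ({y, y1} : Finset ↥(P : Subgroup G)) ⊆ _ from fun z hz => ?_))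
        · rw [Finset.card_pair]
          exact fun h => hy ((hmemF y).2 (congrArg Subtype.val h).symm)
        · simp only [Finset.mem_insert, Finset.mem_singleton] at hz
          refine Finset.mem_filter.2 ⟨Finset.mem_univ _, ?_⟩
          rcases hz with rfl | rfl
          · rfl
          · exact ConjClasses.mk_eq_mk_iff_isConj.2 (isConj_iff.2 ⟨g⁻¹, by simp [y1, mul_assoc]⟩)
    rw [← Nat.card_eq_fintype_card] at hFc h3
    nlinarith
  · rintro ⟨hN, hPc⟩
    obtain ⟨N, hNn, hNc⟩ := (CfsgLib.Transfer.hasNormalPComplement_iff_sylow P).1 hN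
    have hI : I.card = Nat.card ↥(P : Subgroup G) := by
      rw [Nat.card_eq_fintype_card]
      refine Finset.card_image_of_injective _ fun y z hyz => ?_
      obtain ⟨a, ha⟩ := isConj_iff.1 (ConjClasses.mk_eq_mk_iff_isConj.1 hyz)
      obtain ⟨⟨⟨n, hn⟩, ⟨b, hb⟩⟩, hab⟩ := hNc.2 a
      have hab' : n * b = a := hab
      have hbc : b * (y : G) = (y : G) * b := congrArg Subtype.val (hPc.is_comm.comm ⟨b, hb⟩ y)
      have h2 : n * (y : G) * n⁻¹ = z := by
        rw [← ha, ← hab', show n * b * (y : G) * (n * b)⁻¹ = n * (b * y * b⁻¹) * n⁻¹ by group, hbc,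
          mul_inv_cancel_right]
      have h3 : (z : G) * (y : G)⁻¹ ∈ N := by
        rw [← h2, show n * (y : G) * n⁻¹ * (y : G)⁻¹ = n * ((y : G) * n⁻¹ * (y : G)⁻¹) by group]
        exact mul_mem hn (hNn.conj_mem _ (inv_mem hn) y)
      have h4 : (z : G) * (y : G)⁻¹ ∈ N ⊓ (P : Subgroup G) := ⟨h3, Subgroup.mul_mem _ z.2 (Subgroup.inv_mem _ y.2)⟩
      rw [hNc.disjoint.eq_bot, Subgroup.mem_bot, mul_inv_eq_one] at h4
      exact Subtype.ext h4.symm
    rw [hKI, hI]
    exact Nat.mul_lt_mul_of_pos_right (by omega) hPpos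

end Cfsg.Agent.S3897
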