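import Cfsg.Statements.S3899
import Cfsg.Agent.S3897
import Cfsg.Agent.S3898

set_option autoImplicit false
open Cfsg

namespace Cfsg.Agent.S3899
open Subgroup
open scoped commutatorElement

universe u

theorem abelian_complement {G : Type u} [Group G] [Finite G] {r : ℕ} [Fact r.Prime]
    (h : Cfsg.HasNormalPComplement r G) (P : Sylow r G) (hP : IsMulCommutative (P : Subgroup G)) :
    ∃ K : Subgroup G, K.Normal ∧ ¬ r ∣ Nat.card K ∧ (∀ s : ℕ, s.Prime → s ∣ K.index → s = r) ∧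
      ∀ a b : G, ⁅a, b⁆ ∈ K := by
  obtain ⟨K, hKn, hKc⟩ := (CfsgLib.Transfer.hasNormalPComplement_iff_sylow P).1 h
  haveI := hKn
  refine ⟨K, hKn, ?_, fun s hs hd => ?_, fun a b => ?_⟩
  · rw [← hKc.index_eq_card]
    exact P.not_dvd_index
  · obtain ⟨j, hj⟩ := P.2.exists_card_eq
    rw [hKc.symm.index_eq_card, hj] at hd
    exact (Nat.prime_dvd_prime_iff_eq hs Fact.out).1 (hs.dvd_of_dvd_pow hd)
  · set π' := QuotientGroup.mk' K
    have hrep : ∀ g : G, ∃ u : (P : Subgroup G), π' g = π' u := fun g => by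
      obtain ⟨⟨⟨n, hn⟩, u⟩, hnu⟩ := hKc.2 g
      refine ⟨u, ?_⟩
      rw [← show n * (u : G) = g from hnu, map_mul,
        show π' n = 1 from (QuotientGroup.eq_one_iff n).2 hn, one_mul]
    obtain ⟨u, hu⟩ := hrep a
    obtain ⟨v, hv⟩ := hrep b
    refine (QuotientGroup.eq_one_iff _).1 ?_
    show π' ⁅a, b⁆ = 1
    rw [map_commutatorElement, hu, hv, ← map_commutatorElement,
      commutatorElement_eq_one_iff_mul_comm.2 (congrArg Subtype.val (hP.is_comm.comm u v)), map_one]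

theorem exists_N {G : Type u} [Group G] [Finite G] (σ : Finset ℕ)
    (h : ∀ r ∈ σ, ∃ K : Subgroup G, K.Normal ∧ ¬ r ∣ Nat.card K ∧ (∀ s : ℕ, s.Prime → s ∣ K.index → s = r) ∧
      ∀ a b : G, ⁅a, b⁆ ∈ K) :
    ∃ N : Subgroup G, N.Normal ∧ (∀ r : ℕ, r.Prime → r ∣ Nat.card N → r ∉ σ) ∧
      (∀ s : ℕ, s.Prime → s ∣ N.index → s ∈ σ) ∧ ∀ a b : G, ⁅a, b⁆ ∈ N := by
  induction σ using Finset.induction_on with
  | empty => exact ⟨⊤, inferInstance, fun r _ _ => Finset.notMem_empty r,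
      fun s hs hd => by rw [index_top, Nat.dvd_one] at hd; exact absurd hd hs.ne_one, fun _ _ => mem_top _⟩
  | insert p σ hpσ ih =>
    obtain ⟨N, hNn, hNc, hNi, hNd⟩ := ih fun r hr => h r (Finset.mem_insert_of_mem hr)
    obtain ⟨K, hKn, hKc, hKi, hKd⟩ := h p (Finset.mem_insert_self _ _)
    haveI := hNn; haveI := hKn
    refine ⟨N ⊓ K, inferInstance, fun r hr hd => ?_, fun s hs hd => ?_, fun a b => ⟨hNd a b, hKd a b⟩⟩
    · intro hmem
      rcases Finset.mem_insert.1 hmem with rfl | hm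
      · exact hKc (hd.trans (card_dvd_of_le inf_le_right))
      · exact hNc r hr (hd.trans (card_dvd_of_le inf_le_left)) hm
    · rw [← relIndex_mul_index (inf_le_left : N ⊓ K ≤ N), inf_relIndex_left] at hd
      rcases hs.dvd_mul.1 hd with h1 | h1
      · exact Finset.mem_insert.2 (Or.inl (hKi s hs (h1.trans (relIndex_dvd_index_of_normal K N))))
      · exact Finset.mem_insert_of_mem (hNi s hs h1)

/-- Let π be a finite non-empty set of odd primes with smallest member p and G a finite group. Write k_π(G) for the number of conjugacy classes of G consisting of π-elements (elements all of whose order's prime divisors lie in π) and |G|_π for the π-part of the order of G. If k_π(G) > (p + 1)|G|_π/(2p), then G has a normal π-complement (a normal subgroup of order prime to π whose index is a π-number) and an abelian Hall π-subgroup. -/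
theorem result {G : Type*} [Group G] [Finite G] (π : Finset ℕ) (hπ : ∀ r ∈ π, r.Prime) (h2 : 2 ∉ π) (p : ℕ) (hp : p ∈ π)
    (hmin : ∀ r ∈ π, p ≤ r) (hk : (p + 1) * π.prod (fun r => r ^ (Nat.card G).factorization r) < 2 * p * Nat.card {c : ConjClasses G // ∀ x ∈ c.carrier, ∀ r : ℕ, r.Prime → r ∣ orderOf x → r ∈ π}) :
    (∃ N : Subgroup G, N.Normal ∧ (∀ r : ℕ, r.Prime → r ∣ Nat.card ↥N → r ∉ π) ∧ ∀ r : ℕ, r.Prime → r ∣ N.index → r ∈ π) ∧ ∃ H : Subgroup G, Cfsg.IsPiHall (↑π : Set ℕ) H ∧ IsMulCommutative ↥H := by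
  classical
  have hr : ∀ r ∈ π, ∃ K : Subgroup G, K.Normal ∧ ¬ r ∣ Nat.card K ∧ (∀ s : ℕ, s.Prime → s ∣ K.index → s = r) ∧
      ∀ a b : G, ⁅a, b⁆ ∈ K := by
    intro r hrπ
    haveI := Fact.mk (hπ r hrπ)
    obtain ⟨P⟩ : Nonempty (Sylow r G) := inferInstance
    have h1 := Cfsg.Agent.S3898.kpi_insert_le (G := G) (σ := π.erase r) (hπ r hrπ)
      (B := (π.erase r).prod (fun r => r ^ (Nat.card G).factorization r))
      fun C => (Cfsg.Agent.S3898.kpi_le _ (fun r hr => hπ r (Finset.mem_of_mem_erase hr)) ↥C).trans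
        (Finset.prod_le_prod' fun r _ => Cfsg.Agent.S3898.ordProj_le C r)
    rw [Finset.insert_erase hrπ] at h1
    rw [← Finset.mul_prod_erase π _ hrπ, ← P.card_eq_multiplicity] at hk
    set c := Nat.card (P : Subgroup G)
    set B := (π.erase r).prod (fun r => r ^ (Nat.card G).factorization r)
    have hpr := hmin r hrπ
    have hb2 : (p + 1) * c < 2 * p * Cfsg.Agent.S3898.kpi {r} G := by
      have h3 : (p + 1) * c * B < 2 * p * Cfsg.Agent.S3898.kpi {r} G * B := by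
        calc (p + 1) * c * B = (p + 1) * (c * B) := mul_assoc _ _ _
          _ < _ := hk
          _ ≤ 2 * p * (Cfsg.Agent.S3898.kpi {r} G * B) := Nat.mul_le_mul_left _ h1
          _ = _ := (mul_assoc _ _ _).symm
      exact Nat.lt_of_mul_lt_mul_right h3
    have h4 : (r + 1) * c < 2 * r * Cfsg.Agent.S3898.kpi {r} G := by
      refine Nat.lt_of_mul_lt_mul_left (a := p) ?_
      have e1 : p * ((r + 1) * c) ≤ r * ((p + 1) * c) := by nlinarith
      have e2 : r * ((p + 1) * c) < r * (2 * p * Cfsg.Agent.S3898.kpi {r} G) :=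
        Nat.mul_lt_mul_of_pos_left hb2 (hπ r hrπ).pos
      calc p * ((r + 1) * c) < r * (2 * p * Cfsg.Agent.S3898.kpi {r} G) := lt_of_le_of_lt e1 e2
        _ = _ := by ring
    have hr2 : r ≠ 2 := fun e => h2 (e ▸ hrπ)
    have e : Cfsg.Agent.S3898.kpi {r} G =
        Nat.card {c : ConjClasses G // ∀ x ∈ c.carrier, ∃ k : ℕ, orderOf x = r ^ k} := by
      refine Nat.card_congr (Equiv.subtypeEquivRight fun cl => ⟨fun h x hx =>
        Cfsg.Agent.S3898.exists_pow_of_isPi (h x hx), fun h x hx s hs hd => ?_⟩)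
      obtain ⟨k, hk'⟩ := h x hx
      exact Finset.mem_singleton.2 ((Nat.prime_dvd_prime_iff_eq hs (hπ r hrπ)).1 (hs.dvd_of_dvd_pow (hk' ▸ hd)))
    rw [e] at h4
    obtain ⟨hN, hPc⟩ := (Cfsg.Agent.S3897.result hr2 P).1 h4
    exact abelian_complement hN P hPc
  obtain ⟨N, hNn, hNc, hNi, hNd⟩ := exists_N π hr
  haveI := hNn
  refine ⟨⟨N, hNn, hNc, hNi⟩, ?_⟩
  obtain ⟨H, hH⟩ := Subgroup.exists_right_complement'_of_coprime (N := N)
    (Nat.coprime_of_dvd fun q hq h1 h2 => hNc q hq h1 (hNi q hq h2))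
  refine ⟨H, ⟨fun q hq hd => ?_, fun q hq hm hd => ?_⟩, ⟨⟨fun a b => ?_⟩⟩⟩
  · rw [← hH.symm.index_eq_card] at hd
    exact Finset.mem_coe.2 (hNi q hq hd)
  · rw [hH.index_eq_card] at hd
    exact hNc q hq hd (Finset.mem_coe.1 hm)
  · have h1 : ((⁅a, b⁆ : H) : G) ∈ N ⊓ H := ⟨hNd (a : G) b, SetLike.coe_mem _⟩
    rw [hH.disjoint.eq_bot, Subgroup.mem_bot] at h1
    exact commutatorElement_eq_one_iff_mul_comm.1 (Subtype.ext h1)

end Cfsg.Agent.S3899
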