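import Cfsg.Statements.S3901
import Mathlib
import Cfsg.Agent.S0204
import Cfsg.Agent.S0144
import Cfsg.Agent.Lib.FGS.ThompsonKernel
import Cfsg.Agent.Lib.OddLocal.Basic

set_option autoImplicit false
set_option linter.style.haveILetI false
open Cfsg

namespace Cfsg.Agent.S3901

open Subgroup

variable {G : Type*} [Group G] [Finite G] {Q : Type*} [Group Q] [Finite Q]

/-- An automorphism of order two without fixed points inverts every element. -/
theorem inv_of_involutive {W : Type*} [Group W] [Finite W] (σ : W →* W) (h2 : ∀ w, σ (σ w) = w)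
    (hf : ∀ w, σ w = w → w = 1) (z : W) : σ z = z⁻¹ := by
  have hinj : Function.Injective fun w => w⁻¹ * σ w := by
    intro a b hab
    have h1 : σ (b * a⁻¹) = b * a⁻¹ := by
      rw [map_mul, map_inv]
      have h : a⁻¹ * σ a = b⁻¹ * σ b := hab
      calc σ b * (σ a)⁻¹ = b * (b⁻¹ * σ b) * (σ a)⁻¹ := by group
        _ = b * (a⁻¹ * σ a) * (σ a)⁻¹ := by rw [h]
        _ = b * a⁻¹ := by group
    exact (mul_inv_eq_one.1 (hf _ h1)).symm
  obtain ⟨w, rfl⟩ := (Finite.injective_iff_surjective.1 hinj) z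
  show σ (w⁻¹ * σ w) = _
  rw [map_mul, map_inv, h2, mul_inv_rev, inv_inv]

theorem coprime_commute_eq_one (ψ : G →* Q) (h : ∀ x : G, ψ x ≠ 1 → IsPrimePow (orderOf x))
    {x y : G} (hx : ψ x ≠ 1) (hy : ψ y = 1) (hc : x * y = y * x)
    (hco : (orderOf x).Coprime (orderOf y)) : y = 1 := by
  by_contra hy1
  have hxy : ψ (x * y) ≠ 1 := by rwa [map_mul, hy, mul_one]
  obtain ⟨q, j, hq, -, hqj⟩ := h _ hxy
  rw [Commute.orderOf_mul_eq_mul_orderOf_of_coprime hc hco] at hqj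
  obtain ⟨i, -, hi⟩ := (Nat.dvd_prime_pow hq.nat_prime).1 (hqj ▸ dvd_mul_right (orderOf x) (orderOf y))
  obtain ⟨l, -, hl⟩ := (Nat.dvd_prime_pow hq.nat_prime).1 (hqj ▸ dvd_mul_left (orderOf y) (orderOf x))
  rcases i with _ | i
  · exact hx (by rw [orderOf_eq_one_iff.1 (hi.trans (pow_zero q)), map_one])
  rcases l with _ | l
  · exact hy1 (orderOf_eq_one_iff.1 (hl.trans (pow_zero q)))
  exact hq.nat_prime.ne_one (Nat.eq_one_of_dvd_coprimes hco (hi ▸ dvd_pow_self q (Nat.succ_ne_zero i))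
    (hl ▸ dvd_pow_self q (Nat.succ_ne_zero l)))

/-- A lifted four group cannot act on a group of coprime order. -/
theorem klein_fpf_bot (ψ : G →* Q) (h : ∀ x : G, ψ x ≠ 1 → IsPrimePow (orderOf x))
    {E : Subgroup Q} (hE : IsKleinFour E) {T W : Subgroup G} (hT : IsPGroup 2 T)
    (hTE : E ≤ T.map ψ) (hTE' : T.map ψ ≤ E) (hTW : T ≤ normalizer (W : Set G))
    (hker : ∀ t ∈ T, ψ t = 1 → ∀ w ∈ W, t * w = w * t) (hWk : ∀ w ∈ W, ψ w = 1)
    (hW : ∀ w ∈ W, (orderOf w).Coprime 2) : W = ⊥ := by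
  obtain ⟨a, b, ha, hb, hab⟩ : ∃ a b : E, a ≠ 1 ∧ b ≠ 1 ∧ a * b ≠ 1 := by
    haveI := Fintype.ofFinite E
    classical
    have hc : Fintype.card E = 4 := by rw [← Nat.card_eq_fintype_card]; exact hE.card_four
    haveI : Nontrivial E := Fintype.one_lt_card_iff_nontrivial.1 (by omega)
    obtain ⟨a, ha⟩ := exists_ne (1 : E)
    have h2 : ({1, a⁻¹} : Finset E).card < Fintype.card E :=
      lt_of_le_of_lt (Finset.card_le_two) (by omega)
    obtain ⟨b, hb⟩ := Finset.exists_mem_notMem_of_card_lt_card (s := ({1, a⁻¹} : Finset E)) (t := Finset.univ) h2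
    simp only [Finset.mem_univ, Finset.mem_insert, Finset.mem_singleton, not_or, true_and] at hb
    exact ⟨a, b, ha, hb.1, fun h => hb.2 (eq_inv_of_mul_eq_one_right h)⟩
  obtain ⟨s, hs, hsa⟩ := hTE a.2
  obtain ⟨t, ht, htb⟩ := hTE b.2
  have hinv : ∀ u ∈ T, ψ u ≠ 1 → ∀ w ∈ W, u * w * u⁻¹ = w⁻¹ := by
    intro u hu hu1 w hw
    let σ : W →* W :=
      { toFun := fun z => ⟨u * z * u⁻¹, (mem_normalizer_iff.1 (hTW hu) z).1 z.2⟩
        map_one' := Subtype.ext (by simp)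
        map_mul' := fun y z => Subtype.ext (by simp) }
    have hu2 : ψ (u * u) = 1 := by
      have h1 : (⟨ψ u, hTE' ⟨u, hu, rfl⟩⟩ : E) ^ 2 = 1 := by
        rw [← hE.exponent_two]; exact Monoid.pow_exponent_eq_one _
      rw [map_mul, ← pow_two]
      exact congrArg Subtype.val h1
    have h2 := inv_of_involutive σ (fun z => Subtype.ext ?_) (fun z hz => ?_) ⟨w, hw⟩
    · exact congrArg Subtype.val h2
    · show u * (u * z * u⁻¹) * u⁻¹ = z
      calc u * (u * (z : G) * u⁻¹) * u⁻¹ = (u * u) * z * (u * u)⁻¹ := by group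
        _ = z := by rw [hker _ (mul_mem hu hu) hu2 z z.2, mul_inv_cancel_right]
    · refine Subtype.ext (coprime_commute_eq_one ψ h hu1 (hWk _ z.2) ?_ ?_)
      · exact mul_inv_eq_iff_eq_mul.1 (congrArg Subtype.val hz)
      · obtain ⟨j, hj⟩ := hT ⟨u, hu⟩
        exact Nat.Coprime.coprime_dvd_left (orderOf_dvd_of_pow_eq_one (congrArg Subtype.val hj))
          (Nat.Coprime.pow_left j (hW _ z.2).symm)
  refine (eq_bot_iff_forall _).2 fun w hw => ?_
  have hs1 : ψ s ≠ 1 := by rw [hsa]; exact fun e => ha (Subtype.ext e)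
  have ht1 : ψ t ≠ 1 := by rw [htb]; exact fun e => hb (Subtype.ext e)
  have hst : ψ (s * t) ≠ 1 := by rw [map_mul, hsa, htb]; exact fun e => hab (Subtype.ext e)
  have h1 : s * t * w * (s * t)⁻¹ = w := by
    calc s * t * w * (s * t)⁻¹ = s * (t * w * t⁻¹) * s⁻¹ := by group
      _ = w := by rw [hinv t ht ht1 w hw, hinv s hs hs1 _ (W.inv_mem hw), inv_inv]
  refine coprime_commute_eq_one ψ h hst (hWk w hw) (mul_inv_eq_iff_eq_mul.1 h1) ?_
  obtain ⟨j, hj⟩ := hT ⟨s * t, mul_mem hs ht⟩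
  exact Nat.Coprime.coprime_dvd_left (orderOf_dvd_of_pow_eq_one (congrArg Subtype.val hj))
    (Nat.Coprime.pow_left j (hW w hw).symm)

/-- Frattini argument inside a supplement. -/
theorem frattini_cover {N H : Subgroup G} [N.Normal] (hH : H ⊔ N = ⊤) (p : ℕ) [Fact p.Prime] :
    ∃ P : Subgroup G, P ≤ H ⊓ N ∧ IsPGroup p P ∧
      (H ⊓ normalizer (P : Set G)) ⊔ N = ⊤ ∧
      ∀ R : Subgroup G, IsPGroup p R → R ≤ H ⊓ N → P ≤ R → R ≤ P := by
  set M := N.subgroupOf H with hM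
  obtain ⟨S⟩ : Nonempty (Sylow p M) := inferInstance
  refine ⟨((S : Subgroup M).map M.subtype).map H.subtype, ?_, (S.2.map _).map _, ?_, ?_⟩
  · rintro _ ⟨_, ⟨y, -, rfl⟩, rfl⟩
    exact ⟨(y : H).2, y.2⟩
  · rw [eq_top_iff, ← hH]
    refine sup_le ?_ le_sup_right
    intro g hg
    have h1 : (⟨g, hg⟩ : H) ∈ normalizer (((S : Subgroup M).map M.subtype : Subgroup H) : Set H) ⊔ M := by
      rw [Sylow.normalizer_sup_eq_top S]; exact mem_top _
    obtain ⟨a, ha, b, hb, hab⟩ := mem_sup_of_normal_right.1 h1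
    have hab' : (a : G) * b = g := congrArg Subtype.val hab
    rw [← hab']
    refine mul_mem (mem_sup_left ⟨a.2, ?_⟩) (mem_sup_right hb)
    exact le_normalizer_map H.subtype ⟨a, ha, rfl⟩
  · intro R hR hRle hPR y hy
    refine ⟨⟨y, (hRle hy).1⟩, ⟨⟨⟨y, (hRle hy).1⟩, (hRle hy).2⟩, ?_, rfl⟩, rfl⟩
    have hR' : IsPGroup p ((R.comap H.subtype).comap M.subtype) :=
      (hR.comap_of_injective _ H.subtype_injective).comap_of_injective _ M.subtype_injective
    have hE : (R.comap H.subtype).comap M.subtype = (S : Subgroup M) :=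
      S.3 hR' fun z hz => hPR ⟨_, ⟨z, hz, rfl⟩, rfl⟩
    show (⟨⟨y, (hRle hy).1⟩, (hRle hy).2⟩ : M) ∈ (S : Subgroup M)
    rw [← hE]
    exact hy

theorem core (ψ : G →* Q) (h : ∀ x : G, ψ x ≠ 1 → IsPrimePow (orderOf x))
    (hψ : Function.Surjective ψ) {l : ℕ} [hl : Fact l.Prime] (hl2 : l ≠ 2) (hlN : l ∣ Nat.card ψ.ker)
    {E : Subgroup Q} (hE : IsKleinFour E) {r : ℕ} [hr : Fact r.Prime] (hr2 : r ≠ 2) (hrl : r ≠ l)
    (hrQ : r ∣ Nat.card Q) : False := by
  classical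
  haveI : Fact (Nat.Prime 2) := ⟨Nat.prime_two⟩
  set N := ψ.ker with hN
  have hmemN : ∀ g, g ∈ N ↔ ψ g = 1 := fun g => MonoidHom.mem_ker
  obtain ⟨L, hLN, hLl, hH1, hLmax⟩ := frattini_cover (N := N) (H := ⊤) (by simp) l
  set H1 := (⊤ : Subgroup G) ⊓ normalizer (L : Set G) with hH1d
  have hLne : L ≠ ⊥ := by
    intro hL
    obtain ⟨y, hy⟩ := exists_prime_orderOf_dvd_card' l hlN
    have := hLmax (zpowers (y : G)) (IsPGroup.of_card (n := 1) (by
      rw [Nat.card_zpowers, Subgroup.orderOf_coe, hy, pow_one]))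
      (zpowers_le.2 ⟨mem_top _, y.2⟩) (by rw [hL]; exact bot_le) (mem_zpowers _)
    rw [hL, mem_bot] at this
    rw [show y = 1 from Subtype.ext this, orderOf_one] at hy
    exact hl.out.ne_one hy.symm
  obtain ⟨P, hPN, hP2, hH, hPmax⟩ := frattini_cover (N := N) hH1 2
  set H := H1 ⊓ normalizer (P : Set G) with hHd
  have hM2 : ∀ y ∈ H ⊓ N, (∃ j, y ^ 2 ^ j = 1) → y ∈ P := by
    intro y hy hyp
    obtain ⟨j, hj⟩ := hyp
    have hyg : IsPGroup 2 (zpowers y) := fun z => ⟨j, by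
      obtain ⟨i, hi⟩ := z.2
      refine Subtype.ext ?_
      rw [Subgroup.coe_pow, Subgroup.coe_one, ← hi, ← zpow_natCast, ← zpow_mul, mul_comm, zpow_mul,
        zpow_natCast, hj, one_zpow]⟩
    -- join with the normal `2`-subgroup `P` of `H ⊓ N`
    have hjoin : IsPGroup 2 (zpowers y ⊔ P : Subgroup G) :=
      hyg.to_sup_of_normal_right' hP2 (zpowers_le.2 hy.1.2)
    exact hPmax (zpowers y ⊔ P) hjoin (sup_le (zpowers_le.2 ⟨hy.1.1, hy.2⟩) hPN) le_sup_right
      (mem_sup_left (mem_zpowers y))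
  have hlift : ∀ K : Subgroup G, K ⊔ N = ⊤ → ∀ q : Q, ∃ k ∈ K, ψ k = q := by
    intro K hK q
    obtain ⟨g, rfl⟩ := hψ q
    obtain ⟨k, hk, n, hn, rfl⟩ := mem_sup_of_normal_right.1 (show g ∈ K ⊔ N by rw [hK]; exact mem_top _)
    exact ⟨k, hk, by rw [map_mul, (hmemN n).1 hn, mul_one]⟩
  have hliftE : ∀ K : Subgroup G, K ⊔ N = ⊤ →
      ∃ T : Subgroup G, IsPGroup 2 T ∧ T ≤ K ∧ E ≤ T.map ψ ∧ T.map ψ ≤ E := by
    intro K hK
    let K' : Subgroup G := K ⊓ E.comap ψ
    let f : K' →* E := (ψ.comp K'.subtype).codRestrict E fun k => k.2.2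
    have hf : Function.Surjective f := fun q => by
      obtain ⟨k, hk, hkq⟩ := hlift K hK q
      exact ⟨⟨k, hk, show ψ k ∈ E by rw [hkq]; exact q.2⟩, Subtype.ext hkq⟩
    obtain ⟨S⟩ : Nonempty (Sylow 2 K') := inferInstance
    have htop : ((S.mapSurjective hf : Sylow 2 E) : Subgroup E) = ⊤ :=
      ((S.mapSurjective hf).is_maximal' ((IsPGroup.of_card (p := 2) (n := 2) hE.card_four).to_subgroup ⊤)
        le_top).symm
    rw [Sylow.coe_mapSurjective] at htop
    refine ⟨(S : Subgroup K').map K'.subtype, S.2.map _, fun g hg => ?_, fun q hq => ?_, ?_⟩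
    · obtain ⟨k, -, rfl⟩ := hg; exact k.2.1
    · obtain ⟨s, hs, hsq⟩ : (⟨q, hq⟩ : E) ∈ (S : Subgroup K').map f := by rw [htop]; exact mem_top _
      exact ⟨s, ⟨s, hs, rfl⟩, congrArg Subtype.val hsq⟩
    · rintro _ ⟨_, ⟨s, -, rfl⟩, rfl⟩; exact s.2.2
  have hPnorm : ∀ g ∈ H, ∀ z ∈ P, g * z * g⁻¹ ∈ P := fun g hg z hz =>
    (mem_normalizer_iff.1 hg.2 z).1 hz
  -- `H ⊓ N` is a `2`-group
  have hM : ∀ (s : ℕ) [Fact s.Prime], s ≠ 2 → ¬ s ∣ Nat.card ↥(H ⊓ N) := by
    intro s _ hs2 hsd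
    obtain ⟨R, hRN, hRs, hH2, hRmax⟩ := frattini_cover (N := N) hH s
    obtain ⟨T, hT2, hTH, hTE, hTE'⟩ := hliftE _ hH2
    have hodd : ∀ w ∈ R, (orderOf w).Coprime 2 := fun w hw => by
      obtain ⟨j, hj⟩ := hRs ⟨w, hw⟩
      exact Nat.Coprime.coprime_dvd_left (orderOf_dvd_of_pow_eq_one (congrArg Subtype.val hj))
        (Nat.Coprime.pow_left j ((Nat.coprime_primes (Fact.out) Nat.prime_two).2 hs2))
    have hR : R = ⊥ := by
      refine klein_fpf_bot ψ h hE hT2 hTE hTE' (fun t ht => (hTH ht).2) (fun t ht ht1 w hw => ?_)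
        (fun w hw => (hmemN w).1 (hRN hw).2) hodd
      obtain ⟨j, hj⟩ := hT2 ⟨t, ht⟩
      have htP := hM2 t ⟨(hTH ht).1, (hmemN t).2 ht1⟩ ⟨j, congrArg Subtype.val hj⟩
      have hc : t * w * t⁻¹ * w⁻¹ = 1 := by
        have h1 : t * w * t⁻¹ * w⁻¹ ∈ R :=
          mul_mem ((mem_normalizer_iff.1 (hTH ht).2 w).1 hw) (R.inv_mem hw)
        have h2 : t * w * t⁻¹ * w⁻¹ ∈ P := by
          rw [mul_assoc, mul_assoc, ← mul_assoc w]
          exact mul_mem htP (hPnorm w (hRN hw).1 _ (P.inv_mem htP))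
        obtain ⟨i, hi⟩ := hP2 ⟨_, h2⟩
        exact orderOf_eq_one_iff.1 (Nat.eq_one_of_dvd_coprimes (Nat.Coprime.pow_right i (hodd _ h1))
          dvd_rfl (orderOf_dvd_of_pow_eq_one (congrArg Subtype.val hi)))
      rwa [mul_inv_eq_one, mul_inv_eq_iff_eq_mul] at hc
    obtain ⟨y, hy⟩ := exists_prime_orderOf_dvd_card' s hsd
    have := hRmax (zpowers (y : G)) (IsPGroup.of_card (n := 1) (by
      rw [Nat.card_zpowers, Subgroup.orderOf_coe, hy, pow_one]))
      (zpowers_le.2 y.2) (by rw [hR]; exact bot_le) (mem_zpowers _)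
    rw [hR, mem_bot] at this
    rw [show y = 1 from Subtype.ext this, orderOf_one] at hy
    exact (Fact.out : s.Prime).ne_one hy.symm
  -- an element of order `r`
  obtain ⟨q, hq⟩ := exists_prime_orderOf_dvd_card' r hrQ
  obtain ⟨g, hg, hgq⟩ := hlift H hH q
  obtain ⟨e, m, hm, he⟩ := Nat.exists_eq_pow_mul_and_not_dvd (orderOf_pos g).ne' r hr.out.ne_one
  set x := g ^ m with hx
  have hxH : x ∈ H := pow_mem hg m
  have hψx : ψ x ≠ 1 := by
    rw [map_pow, hgq]
    intro hc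
    exact hm (hq ▸ orderOf_dvd_of_pow_eq_one hc)
  have hxe : x ^ r ^ e = 1 := by rw [← pow_mul, mul_comm, ← he, pow_orderOf_eq_one]
  have hxr : x ^ r = 1 := by
    by_contra hne
    have hxN : x ^ r ∈ H ⊓ N := ⟨pow_mem hxH r, (hmemN _).2 (by
      rw [map_pow, map_pow, hgq, ← pow_mul, mul_comm, pow_mul, ← hq, pow_orderOf_eq_one, one_pow])⟩
    have hd : orderOf (x ^ r) ∣ r ^ e :=
      orderOf_dvd_of_pow_eq_one (by rw [← pow_mul, mul_comm, pow_mul, hxe, one_pow])
    obtain ⟨i, -, hi⟩ := (Nat.dvd_prime_pow hr.out).1 hd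
    rcases i with _ | i
    · exact hne (orderOf_eq_one_iff.1 (hi.trans (pow_zero r)))
    · refine hM r hr2 ((dvd_pow_self r (Nat.succ_ne_zero i)).trans (hi ▸ ?_))
      have := _root_.orderOf_dvd_natCard (⟨_, hxN⟩ : ↥(H ⊓ N))
      rwa [Subgroup.orderOf_mk] at this
  have hxord : orderOf x = r := orderOf_eq_prime hxr fun e => hψx (by rw [e, map_one])
  have hPL : P ≤ normalizer (L : Set G) := fun z hz => (hPN hz).1.2
  have hLo : ∀ w ∈ L, (orderOf w).Coprime 2 ∧ (orderOf w).Coprime r := fun w hw => by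
    obtain ⟨j, hj⟩ := hLl ⟨w, hw⟩
    have hd := orderOf_dvd_of_pow_eq_one (congrArg Subtype.val hj : w ^ l ^ j = 1)
    exact ⟨Nat.Coprime.coprime_dvd_left hd (Nat.Coprime.pow_left j ((Nat.coprime_primes hl.out Nat.prime_two).2 hl2)),
      Nat.Coprime.coprime_dvd_left hd (Nat.Coprime.pow_left j ((Nat.coprime_primes hl.out hr.out).2 (Ne.symm hrl)))⟩
  have hPo : ∀ z ∈ P, ∃ j, z ^ 2 ^ j = 1 := fun z hz => by
    obtain ⟨j, hj⟩ := hP2 ⟨z, hz⟩; exact ⟨j, congrArg Subtype.val hj⟩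
  set W := P ⊔ L with hW
  have hWmem : ∀ w ∈ W, ∃ z ∈ P, ∃ b ∈ L, w = z * b := by
    intro w hw
    rw [← SetLike.mem_coe, hW, coe_mul_of_left_le_normalizer_right P L hPL] at hw
    obtain ⟨z, hz, b, hb, rfl⟩ := hw
    exact ⟨z, hz, b, hb, rfl⟩
  have hxW : ∀ w ∈ W, MulAut.conj x w ∈ W := by
    intro w hw
    obtain ⟨z, hz, b, hb, rfl⟩ := hWmem w hw
    rw [map_mul]
    exact mul_mem (mem_sup_left (hPnorm x hxH z hz)) (mem_sup_right ((mem_normalizer_iff.1 hxH.1.2 b).1 hb))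
  obtain ⟨φ, hφ⟩ := CfsgLib.FGS.exists_restrict_mulAut (MulAut.conj x) hxW
  have hφ1 : ∀ w : W, ((φ w : W) : G) = x * w * x⁻¹ := fun w => by
    have := hφ 1 w
    rw [pow_one, pow_one] at this
    exact this
  haveI hnil : Group.IsNilpotent W := by
    refine CfsgLib.FGS.isNilpotent_of_fpf_prime hr.out φ (fun w hw => ?_) (MulEquiv.ext fun w => Subtype.ext ?_)
    · obtain ⟨z, hz, b, hb, hzb⟩ := hWmem w w.2
      have h1 : x * (z * b) * x⁻¹ = z * b := by rw [← hzb, ← hφ1, hw]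
      have hb' : x * b * x⁻¹ ∈ L := (mem_normalizer_iff.1 hxH.1.2 b).1 hb
      have h2 : z⁻¹ * (x * z * x⁻¹) = b * (x * b * x⁻¹)⁻¹ := by
        calc z⁻¹ * (x * z * x⁻¹) = z⁻¹ * (x * (z * b) * x⁻¹) * (x * b * x⁻¹)⁻¹ := by group
          _ = b * (x * b * x⁻¹)⁻¹ := by rw [h1]; group
      have hmemP : z⁻¹ * (x * z * x⁻¹) ∈ P := mul_mem (P.inv_mem hz) (hPnorm x hxH z hz)
      have h3 : z⁻¹ * (x * z * x⁻¹) = 1 := by
        obtain ⟨j, hj⟩ := hPo _ hmemP
        have := (hLo _ (h2 ▸ mul_mem hb (L.inv_mem hb'))).1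
        exact orderOf_eq_one_iff.1 (Nat.eq_one_of_dvd_coprimes (Nat.Coprime.pow_right j this) dvd_rfl
          (orderOf_dvd_of_pow_eq_one hj))
      have hxz : x * z = z * x := by
        rw [inv_mul_eq_one] at h3
        exact mul_inv_eq_iff_eq_mul.1 h3.symm
      have hxb : x * b = b * x := by
        rw [h3, eq_comm, mul_inv_eq_one] at h2
        exact mul_inv_eq_iff_eq_mul.1 h2.symm
      have hz1 : z = 1 := coprime_commute_eq_one ψ h hψx ((hmemN z).1 (hPN hz).2) hxz (by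
        obtain ⟨j, hj⟩ := hPo z hz
        rw [hxord]
        exact Nat.Coprime.coprime_dvd_right (orderOf_dvd_of_pow_eq_one hj)
          (Nat.Coprime.pow_right j ((Nat.coprime_primes hr.out Nat.prime_two).2 hr2)))
      have hb1 : b = 1 := coprime_commute_eq_one ψ h hψx ((hmemN b).1 (hLN hb).2) hxb
        (by rw [hxord]; exact (hLo b hb).2.symm)
      exact Subtype.ext (by rw [hzb, hz1, hb1, mul_one]; rfl)
    · have := hφ r w
      rw [this, ← map_pow, hxr, map_one, MulAut.one_apply]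
      rfl
  have hcomm : ∀ z ∈ P, ∀ b ∈ L, z * b = b * z := fun z hz b hb => congrArg Subtype.val
    (CfsgLib.OddLocal.commute_of_coprime_orderOf (N := ↥W) ⟨z, mem_sup_left hz⟩ ⟨b, mem_sup_right hb⟩ (by
      obtain ⟨j, hj⟩ := hPo z hz
      rw [← Subgroup.orderOf_coe, ← Subgroup.orderOf_coe]
      exact Nat.Coprime.coprime_dvd_left (orderOf_dvd_of_pow_eq_one hj)
        (Nat.Coprime.pow_left j (hLo b hb).1.symm)))
  obtain ⟨T, hT2, hTH, hTE, hTE'⟩ := hliftE _ hH
  refine hLne (klein_fpf_bot ψ h hE hT2 hTE hTE' (fun t ht => (hTH ht).1.2) (fun t ht ht1 w hw => ?_)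
    (fun w hw => (hmemN w).1 (hLN hw).2) fun w hw => (hLo w hw).1)
  obtain ⟨j, hj⟩ := hT2 ⟨t, ht⟩
  exact hcomm t (hM2 t ⟨hTH ht, (hmemN t).2 ht1⟩ ⟨j, congrArg Subtype.val hj⟩) w hw

/-- An odd prime divides the order of a nonsolvable group, and one different from a given one. -/
theorem exists_odd_prime {H : Type*} [Group H] [Finite H] (hns : ¬ Group.IsSolvable H) (l : ℕ) (hl : l.Prime) :
    ∃ r : ℕ, r.Prime ∧ r ≠ 2 ∧ r ≠ l ∧ r ∣ Nat.card H := by
  by_contra hno
  push Not at hno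
  rcases eq_or_ne l 2 with rfl | hl2
  · refine hns (Cfsg.Agent.S0144.result 2 3 ((Nat.card H).factorization 2) 0 Nat.prime_two Nat.prime_three ?_)
    rw [pow_zero, mul_one]
    refine Nat.eq_pow_of_factorization_eq_single Nat.card_pos.ne' ?_
    refine Finsupp.eq_single_iff.2 ⟨fun q hq => ?_, rfl⟩
    rw [Nat.support_factorization] at hq
    rw [Finset.mem_singleton]
    by_contra h2
    exact hno q (Nat.prime_of_mem_primeFactors hq) h2 h2 (Nat.dvd_of_mem_primeFactors hq)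
  refine hns (Cfsg.Agent.S0144.result 2 l ((Nat.card H).factorization 2) ((Nat.card H).factorization l)
    Nat.prime_two hl ?_)
  conv_lhs => rw [← Nat.prod_factorization_pow_eq_self (n := Nat.card H) Nat.card_pos.ne']
  rw [Finsupp.prod_of_support_subset _ (s := {2, l}) (fun q hq => by
    rw [Nat.support_factorization] at hq
    by_contra h2
    simp only [Finset.mem_insert, Finset.mem_singleton, not_or] at h2
    exact hno q (Nat.prime_of_mem_primeFactors hq) h2.1 h2.2 (Nat.dvd_of_mem_primeFactors hq))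
    _ (fun q _ => pow_zero q), Finset.prod_pair (Ne.symm hl2)]

/-- Let N be a non-trivial normal subgroup of the finite group G such that every element of G outside N has prime power order. If N is not solvable, then G/N is solvable. -/
theorem result {G : Type*} [Group G] [Finite G] (N : Subgroup G) [N.Normal] (hN : N ≠ ⊥) (hns : ¬ Group.IsSolvable ↥N)
    (h : ∀ x : G, x ∉ N → IsPrimePow (orderOf x)) : Group.IsSolvable (G ⧸ N) := by
  classical
  by_contra hQ
  obtain ⟨S, hSns, hSmin⟩ := (Set.toFinite {S : Subgroup (G ⧸ N) | ¬ Group.IsSolvable S}).exists_minimal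
    ⟨⊤, fun hs => hQ (Group.isSolvable_of_surjective (f := (⊤ : Subgroup (G ⧸ N)).subtype)
      (fun y => ⟨⟨y, mem_top y⟩, rfl⟩))⟩
  have hSnt : Nontrivial S := by
    by_contra hnt
    rw [not_nontrivial_iff_subsingleton] at hnt
    exact hSns inferInstance
  obtain ⟨R, ⟨hRn, hRtop⟩, hRmax⟩ := (Set.toFinite {R : Subgroup S | R.Normal ∧ R ≠ ⊤}).exists_maximal
    ⟨⊥, inferInstance, bot_ne_top⟩
  haveI := hRn
  have hRs : Group.IsSolvable R := by
    by_contra hRs
    refine hRtop (eq_top_iff.2 fun y _ => ?_)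
    obtain ⟨z, hz, hzy⟩ := hSmin (y := R.map S.subtype) (fun hs => hRs
      (haveI := hs; Group.isSolvable_of_isSolvable_injective
        (f := (R.equivMapOfInjective S.subtype S.subtype_injective).toMonoidHom) (MulEquiv.injective _)))
      (map_subtype_le R) y.2
    rwa [← Subtype.ext hzy]
  have hSRns : ¬ Group.IsSolvable (S ⧸ R) := fun hs => hSns (by
    haveI := hs; haveI := hRs
    exact Group.isSolvable_of_ker_le_range R.subtype (QuotientGroup.mk' R) (by simp))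
  haveI : Nontrivial (S ⧸ R) := by
    by_contra hnt
    rw [not_nontrivial_iff_subsingleton] at hnt
    exact hSRns inferInstance
  haveI : IsSimpleGroup (S ⧸ R) := ⟨fun M hM => by
    by_cases hMt : M = ⊤
    · exact Or.inr hMt
    refine Or.inl ?_
    have hle : R ≤ M.comap (QuotientGroup.mk' R) := fun y hy => by
      rw [mem_comap, QuotientGroup.mk'_apply, (QuotientGroup.eq_one_iff y).2 hy]; exact one_mem M
    have h1 := hRmax (y := M.comap (QuotientGroup.mk' R)) ⟨inferInstance, fun e => hMt (by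
      rw [← map_comap_eq_self_of_surjective (QuotientGroup.mk'_surjective R) M, e,
        map_top_of_surjective _ (QuotientGroup.mk'_surjective R)])⟩ hle
    rw [← map_comap_eq_self_of_surjective (QuotientGroup.mk'_surjective R) M, le_antisymm h1 hle,
      QuotientGroup.map_mk'_self]⟩
  have hncyc : ¬ IsCyclic (S ⧸ R) := fun hc => hSRns (by
    haveI := hc
    letI := IsCyclic.commGroup (α := S ⧸ R)
    infer_instance)
  obtain ⟨E, hE⟩ := Cfsg.Agent.S0204.result hncyc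
  let Kp : Subgroup G := S.comap (QuotientGroup.mk' N)
  let ψ : Kp →* S ⧸ R := (QuotientGroup.mk' R).comp ((QuotientGroup.mk' N).subgroupComap S)
  have hψ : Function.Surjective ψ := (QuotientGroup.mk'_surjective R).comp
    (MonoidHom.subgroupComap_surjective_of_surjective _ _ (QuotientGroup.mk'_surjective N))
  have hψN : ∀ x : Kp, (x : G) ∈ N → ψ x = 1 := fun x hx => by
    have h1 : (QuotientGroup.mk' N).subgroupComap S x = 1 := Subtype.ext ((QuotientGroup.eq_one_iff _).2 hx)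
    show QuotientGroup.mk' R _ = 1
    rw [h1, map_one]
  have hNK : N ≤ Kp := fun x hx => by
    show QuotientGroup.mk' N x ∈ S
    rw [QuotientGroup.mk'_apply, (QuotientGroup.eq_one_iff x).2 hx]; exact one_mem S
  have hkns : ¬ Group.IsSolvable ψ.ker := fun hs => hns (by
    haveI := hs
    exact Group.isSolvable_of_isSolvable_injective
      (f := ((Subgroup.inclusion hNK).codRestrict ψ.ker fun x => hψN _ x.2)) (fun a b hab =>
        Subgroup.inclusion_injective hNK (congrArg Subtype.val hab)))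
  obtain ⟨l, hl, hl2, -, hld⟩ := exists_odd_prime hkns 2 Nat.prime_two
  obtain ⟨r, hr, hr2, hrl, hrd⟩ := exists_odd_prime hSRns l hl
  haveI := Fact.mk hl
  haveI := Fact.mk hr
  exact core ψ (fun x hx => by
    rw [← Subgroup.orderOf_coe]
    exact h _ fun hxN => hx (hψN x hxN)) hψ hl2 hld hE hr2 hrl hrd

end Cfsg.Agent.S3901
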