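import Cfsg.Statements.S3903
import Mathlib
import Cfsg.Agent.Lib.Transfer.Frobenius
import Cfsg.Agent.Lib.FGS.ThompsonKernel

set_option autoImplicit false
set_option linter.style.haveILetI false
open Cfsg

namespace Cfsg.Agent.S3903

open Subgroup
open scoped commutatorElement

variable {G : Type*} [Group G] [Finite G]

theorem exists_split (p : ℕ) [hp : Fact p.Prime] (g : G) :
    ∃ u v : G, v ∈ zpowers g ∧ g = u * v ∧ (∃ j, u ^ p ^ j = 1) ∧ (orderOf v).Coprime p := by
  obtain ⟨a, m, hm, he⟩ := Nat.exists_eq_pow_mul_and_not_dvd (orderOf_pos g).ne' p hp.out.ne_one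
  have hcop : (p ^ a).Coprime m := Nat.Coprime.pow_left _ (hp.out.coprime_iff_not_dvd.2 hm)
  obtain ⟨A, B, hAB⟩ : ∃ A B : ℤ, (p : ℤ) ^ a * A + (m : ℤ) * B = 1 := by
    refine ⟨Nat.gcdA (p ^ a) m, Nat.gcdB (p ^ a) m, ?_⟩
    have := Nat.gcd_eq_gcd_ab (p ^ a) m
    rw [hcop.gcd_eq_one] at this
    push_cast at this
    exact this.symm
  have hord : g ^ ((p : ℤ) ^ a * (m : ℤ)) = 1 := by
    rw [show (p : ℤ) ^ a * (m : ℤ) = ((orderOf g : ℕ) : ℤ) by rw [he]; push_cast; ring, zpow_natCast,
      pow_orderOf_eq_one]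
  refine ⟨g ^ ((m : ℤ) * B), g ^ ((p : ℤ) ^ a * A), ⟨_, rfl⟩, ?_, ⟨a, ?_⟩, ?_⟩
  · rw [← zpow_add, add_comm, hAB, zpow_one]
  · rw [← zpow_natCast, ← zpow_mul,
      show (m : ℤ) * B * ((p ^ a : ℕ) : ℤ) = (p : ℤ) ^ a * m * B by push_cast; ring, zpow_mul, hord,
      one_zpow]
  · refine Nat.Coprime.coprime_dvd_left (orderOf_dvd_of_pow_eq_one (n := m) ?_)
      (hp.out.coprime_iff_not_dvd.2 hm).symm
    rw [← zpow_natCast, ← zpow_mul, show (p : ℤ) ^ a * A * (m : ℤ) = (p : ℤ) ^ a * m * A by ring,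
      zpow_mul, hord, one_zpow]

theorem not_isPrimePow_mul {a b : ℕ} (ha : a ≠ 1) (hb : b ≠ 1) (hab : a.Coprime b) :
    ¬ IsPrimePow (a * b) := by
  intro h
  obtain ⟨q, j, hq, -, hqj⟩ := h
  obtain ⟨i, -, rfl⟩ := (Nat.dvd_prime_pow hq.nat_prime).1 (hqj ▸ dvd_mul_right a b)
  obtain ⟨l, -, rfl⟩ := (Nat.dvd_prime_pow hq.nat_prime).1 (hqj ▸ dvd_mul_left b (q ^ i))
  rcases i with _ | i
  · exact ha (pow_zero q)
  rcases l with _ | l
  · exact hb (pow_zero q)
  exact hq.nat_prime.ne_one (Nat.eq_one_of_dvd_coprimes hab (dvd_pow_self q (Nat.succ_ne_zero i))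
    (dvd_pow_self q (Nat.succ_ne_zero l)))

theorem subsingleton_of_perfect_solvable {H : Type*} [Group H] (hperf : commutator H = ⊤)
    (hs : Group.IsSolvable H) : Subsingleton H := by
  obtain ⟨n, hn⟩ := (isSolvable_def H).1 hs
  have : ∀ k, derivedSeries H k = ⊤ := fun k => by
    induction k with
    | zero => exact derivedSeries_zero H
    | succ k ih => rw [derivedSeries_succ, ih, ← _root_.commutator_def, hperf]
  rw [this n] at hn
  exact Subgroup.subsingleton_iff.1 ⟨fun a b => by
    have h1 : ∀ c : Subgroup H, c = ⊥ := fun c => le_bot_iff.1 (hn ▸ le_top)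
    rw [h1 a, h1 b]⟩

/-- A perfect normal subgroup inside `N` is trivial. -/
theorem perfect_bot {N : Subgroup G} [hNn : N.Normal] (hN : N ≠ ⊤)
    (h : ∀ x : G, x ∉ N → IsPrimePow (orderOf x) ∧ IsCoatom (centralizer ({x} : Set G)))
    {M : Subgroup G} [hM : M.Normal] (hMN : M ≤ N) (hperf : commutator M = ⊤) :
    Group.IsSolvable M := by
  classical
  by_contra hns
  obtain ⟨g0, hg0⟩ : ∃ g, g ∉ N := by
    by_contra hall
    push Not at hall
    exact hN (eq_top_iff.2 fun g _ => hall g)
  obtain ⟨p, k, hp', hk0, hk⟩ := (h g0 hg0).1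
  haveI hp : Fact p.Prime := ⟨hp'.nat_prime⟩
  have hcos : ∀ m ∈ M, g0 * m ∉ N := fun m hm hc => hg0 (by
    have := mul_mem hc (N.inv_mem (hMN hm))
    rwa [mul_inv_cancel_right] at this)
  have hpel : ∀ m ∈ M, ∃ a, (g0 * m) ^ p ^ a = 1 := by
    intro m hm
    obtain ⟨q, a, hq, -, ha⟩ := (h _ (hcos m hm)).1
    have e : QuotientGroup.mk' M (g0 * m) = QuotientGroup.mk' M g0 := by
      rw [map_mul, show QuotientGroup.mk' M m = 1 from (QuotientGroup.eq_one_iff m).2 hm, mul_one]
    have h1 : orderOf (QuotientGroup.mk' M g0) ∣ p ^ k := hk ▸ orderOf_map_dvd _ g0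
    have h2 : orderOf (QuotientGroup.mk' M g0) ∣ q ^ a := ha ▸ e ▸ orderOf_map_dvd _ (g0 * m)
    have h3 : orderOf (QuotientGroup.mk' M g0) ≠ 1 := fun h1 =>
      hg0 (hMN ((QuotientGroup.eq_one_iff g0).1 (orderOf_eq_one_iff.1 h1)))
    refine ⟨a, ?_⟩
    rcases eq_or_ne q p with rfl | hqp
    · rw [ha]; exact pow_orderOf_eq_one _
    · exact absurd (Nat.eq_one_of_dvd_coprimes
        (Nat.Coprime.pow k a ((Nat.coprime_primes hp.out hq.nat_prime).2 (Ne.symm hqp))) h1 h2) h3
  -- centralisers of coset elements are Sylow subgroups of `M`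
  have hsyl : ∀ m ∈ M, ∃ P : Sylow p M,
      (P : Subgroup M) = (centralizer ({g0 * m} : Set G)).subgroupOf M ∧
      normalizer ((P : Subgroup M) : Set M) = P ∧ (P : Subgroup M) ≠ ⊥ := by
    intro m hm
    obtain ⟨hpp, hC⟩ := h _ (hcos m hm)
    obtain ⟨a, ha⟩ := hpel m hm
    set x := g0 * m with hx
    have hxN : x ∉ N := hcos m hm
    have hxo : orderOf x ∣ p ^ a := orderOf_dvd_of_pow_eq_one ha
    set Q := M ⊓ centralizer ({x} : Set G) with hQ
    have hQp : IsPGroup p Q := by
      rintro ⟨y, hy⟩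
      obtain ⟨u, v, hv, huv, ⟨j, hj⟩, hvp⟩ := exists_split p y
      have hvQ : v ∈ Q := zpowers_le.2 hy hv
      have hv1 : v = 1 := by
        by_contra hv1
        have hc : Commute x v := (mem_centralizer_singleton_iff.1 hvQ.2).symm
        have hco : (orderOf x).Coprime (orderOf v) :=
          Nat.Coprime.coprime_dvd_left hxo (Nat.Coprime.pow_left a hvp.symm)
        have hxv : x * v ∉ N := fun hc' => hxN (by
          have := mul_mem hc' (N.inv_mem (hMN hvQ.1))
          rwa [mul_inv_cancel_right] at this)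
        have h1 := (h _ hxv).1
        rw [hc.orderOf_mul_eq_mul_orderOf_of_coprime hco] at h1
        exact not_isPrimePow_mul (fun e => hxN (by rw [orderOf_eq_one_iff.1 e]; exact N.one_mem))
          (fun e => hv1 (orderOf_eq_one_iff.1 e)) hco h1
      exact ⟨j, Subtype.ext (show y ^ p ^ j = 1 by rw [huv, hv1, mul_one]; exact hj)⟩
    have hCQ : centralizer ({x} : Set G) ≤ normalizer (Q : Set G) :=
      (le_inf (le_top.trans (normalizer_eq_top_iff.2 hM).ge) le_normalizer).trans
        inf_normalizer_le_normalizer_inf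
    have hQnn : ¬ Q.Normal := by
      intro hQn
      let π := QuotientGroup.mk' Q
      let C : G → Subgroup G := fun y => (centralizer ({π y} : Set (G ⧸ Q))).comap π
      have hCy : ∀ y ∈ zpowers x, centralizer ({x} : Set G) ≤ C y := by
        rintro _ ⟨i, rfl⟩ g hg
        refine mem_comap.2 (mem_centralizer_singleton_iff.2 ?_)
        rw [← map_mul, ← map_mul]
        exact congrArg π (Commute.zpow_right (mem_centralizer_singleton_iff.1 hg) i).eq
      have hxQ : π x ≠ 1 := fun e => hxN (hMN ((QuotientGroup.eq_one_iff x).1 e).1)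
      have hCx : C x ≠ ⊤ := by
        intro htop
        have hnp : ¬ IsPGroup p M := fun hMp => hns (by
          haveI := hMp.isNilpotent; infer_instance)
        obtain ⟨y, hyM, hyp⟩ : ∃ y ∈ M, (orderOf y).Coprime p ∧ y ≠ 1 := by
          by_contra hno
          push Not at hno
          refine hnp fun ⟨y, hy⟩ => ?_
          obtain ⟨u, v, hv, huv, ⟨j, hj⟩, hvp⟩ := exists_split p y
          have hv1 : v = 1 := hno v (zpowers_le.2 hy hv) hvp
          exact ⟨j, Subtype.ext (show y ^ p ^ j = 1 by rw [huv, hv1, mul_one]; exact hj)⟩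
        obtain ⟨hyp, hy1⟩ := hyp
        have hπy : π y ≠ 1 := fun e => hy1 (by
          obtain ⟨j, hj⟩ := hQp ⟨y, (QuotientGroup.eq_one_iff y).1 e⟩
          exact orderOf_eq_one_iff.1 (Nat.eq_one_of_dvd_coprimes (Nat.Coprime.pow_right j hyp)
            dvd_rfl (orderOf_dvd_of_pow_eq_one (congrArg Subtype.val hj))))
        have hc : Commute (π x) (π y) :=
          (mem_centralizer_singleton_iff.1 (show y ∈ C x by rw [htop]; exact mem_top _)).symm
        have hco : (orderOf (π x)).Coprime (orderOf (π y)) :=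
          Nat.Coprime.coprime_dvd_left ((orderOf_map_dvd π x).trans hxo)
            (Nat.Coprime.coprime_dvd_right (orderOf_map_dvd π y) (Nat.Coprime.pow_left a hyp.symm))
        have hxy : x * y ∉ N := fun hc' => hxN (by
          have := mul_mem hc' (N.inv_mem (hMN hyM))
          rwa [mul_inv_cancel_right] at this)
        obtain ⟨q, i, hq, hi, hqi⟩ := (h _ hxy).1
        have h1 := orderOf_map_dvd π (x * y)
        rw [map_mul, hc.orderOf_mul_eq_mul_orderOf_of_coprime hco, ← hqi] at h1
        obtain ⟨l, -, hl⟩ := (Nat.dvd_prime_pow hq.nat_prime).1 h1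
        refine not_isPrimePow_mul (fun e => hxQ (orderOf_eq_one_iff.1 e))
          (fun e => hπy (orderOf_eq_one_iff.1 e)) hco ⟨q, l, hq, ?_, hl.symm⟩
        rcases l with _ | l
        · rw [pow_zero, mul_eq_one] at hl
          exact absurd (orderOf_eq_one_iff.1 hl.1) hxQ
        · exact Nat.succ_pos l
      have hex : ∃ b, C (x ^ p ^ b) = ⊤ := ⟨a, by
        refine eq_top_iff.2 fun g _ => mem_comap.2 (mem_centralizer_singleton_iff.2 ?_)
        rw [ha, map_one, mul_one, one_mul]⟩
      obtain ⟨b, hb⟩ : ∃ b, Nat.find hex = b + 1 := by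
        refine ⟨Nat.find hex - 1, ?_⟩
        have h0 : Nat.find hex ≠ 0 := fun h0 => hCx (by
          have := Nat.find_spec hex
          rwa [h0, pow_zero, pow_one] at this)
        omega
      set y := x ^ p ^ b with hy
      have hCyne : C y ≠ ⊤ := Nat.find_min hex (by omega)
      have hCyeq : C y = centralizer ({x} : Set G) :=
        (((hCy y (npow_mem_zpowers x _)).eq_or_lt).resolve_right fun hlt => hCyne (hC.2 _ hlt)).symm
      have hyp : C (y ^ p) = ⊤ := by
        rw [hy, ← pow_mul, ← pow_succ]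
        have := Nat.find_spec hex
        rwa [hb] at this
      haveI hMb : (M.map π).Normal := hM.map π (QuotientGroup.mk'_surjective Q)
      have hnil : Group.IsNilpotent (M.map π) := by
        refine CfsgLib.FGS.isNilpotent_of_fpf_prime hp.out (MulAut.conjNormal (π y)) (fun z hz => ?_) ?_
        · obtain ⟨n, hn, hnz⟩ := z.2
          have h1 := congrArg Subtype.val hz
          rw [MulAut.conjNormal_apply, ← hnz, mul_inv_eq_iff_eq_mul] at h1
          have h2 : n ∈ C y := mem_comap.2 (mem_centralizer_singleton_iff.2 h1.symm)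
          rw [hCyeq] at h2
          refine Subtype.ext ?_
          rw [← hnz]
          exact (QuotientGroup.eq_one_iff n).2 ⟨hn, h2⟩
        · rw [← map_pow, ← map_pow]
          refine MulEquiv.ext fun z => Subtype.ext ?_
          rw [MulAut.conjNormal_apply, MulAut.one_apply]
          obtain ⟨g, hg⟩ := QuotientGroup.mk'_surjective Q z.1
          have h2 : π g * π (y ^ p) = π (y ^ p) * π g :=
            mem_centralizer_singleton_iff.1 (show g ∈ C (y ^ p) by rw [hyp]; exact mem_top _)
          rw [← hg]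
          show π (y ^ p) * π g * (π (y ^ p))⁻¹ = π g
          rw [← h2, mul_inv_cancel_right]
      refine hns ?_
      haveI := hnil
      haveI := hQp.isNilpotent
      haveI : Group.IsSolvable (Q.subgroupOf M) :=
        Group.isSolvable_of_isSolvable_injective (f := ((M.subtype.comp (Q.subgroupOf M).subtype).codRestrict Q
          fun z => z.2)) (fun a b hab => by
            have := congrArg Subtype.val hab
            exact Subtype.ext (Subtype.ext this))
      refine Group.isSolvable_of_ker_le_range (Q.subgroupOf M).subtype (π.subgroupMap M) ?_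
      intro z hz
      rw [Subgroup.range_subtype]
      rw [MonoidHom.mem_ker, Subtype.ext_iff] at hz
      exact (QuotientGroup.eq_one_iff (z : G)).1 hz
    have hnorm : normalizer (Q : Set G) = centralizer ({x} : Set G) :=
      ((hCQ.eq_or_lt).resolve_right fun hlt => hQnn (normalizer_eq_top_iff.1 (hC.2 _ hlt))).symm
    set R := (centralizer ({x} : Set G)).subgroupOf M with hR
    have hRp : IsPGroup p R := by
      rintro ⟨y, hy⟩
      obtain ⟨j, hj⟩ := hQp ⟨y.1, ⟨y.2, hy⟩⟩
      have hj' : (y : G) ^ p ^ j = 1 := congrArg Subtype.val hj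
      exact ⟨j, Subtype.ext (Subtype.ext hj')⟩
    have hNR : normalizer (R : Set M) ≤ R := by
      intro y hy
      refine mem_subgroupOf.2 (hnorm.le (mem_normalizer_iff.2 fun d => ?_))
      constructor
      · intro hd
        exact ⟨hM.conj_mem d hd.1 y, (mem_normalizer_iff.1 hy ⟨d, hd.1⟩).1 hd.2⟩
      · intro hd
        have hdM : d ∈ M := by
          simpa [mul_assoc] using hM.conj_mem _ hd.1 (y : G)⁻¹
        exact ⟨hdM, (mem_normalizer_iff.1 hy ⟨d, hdM⟩).2 hd.2⟩
    obtain ⟨P, hP⟩ := hRp.exists_le_sylow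
    have hPR : (P : Subgroup M) = R := by
      refine le_antisymm ?_ hP
      haveI := P.2.isNilpotent
      by_contra hne
      have hlt : R.subgroupOf (P : Subgroup M) < ⊤ := lt_top_iff_ne_top.2 fun e =>
        hne (subgroupOf_eq_top.1 e)
      obtain ⟨z, hz, hz'⟩ := SetLike.exists_of_lt
        (Group.normalizerCondition_of_isNilpotent (G := (P : Subgroup M)) _ hlt)
      refine hz' (hNR (mem_normalizer_iff.2 fun d => ⟨fun hd => ?_, fun hd => ?_⟩))
      · exact (mem_normalizer_iff.1 hz ⟨d, hP hd⟩).1 hd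
      · have hdP : d ∈ (P : Subgroup M) := by
          simpa [mul_assoc] using mul_mem (mul_mem ((P : Subgroup M).inv_mem z.2) (hP hd)) z.2
        exact (mem_normalizer_iff.1 hz ⟨d, hdP⟩).2 hd
    refine ⟨P, hPR, ?_, fun e => hQnn ?_⟩
    · rw [hPR]; exact le_antisymm hNR le_normalizer
    · have : Q = ⊥ := (eq_bot_iff_forall _).2 fun y hy => by
        have h1 : (⟨y, hy.1⟩ : M) ∈ R := hy.2
        rw [← hPR, e, mem_bot] at h1
        exact congrArg Subtype.val h1
      rw [this]; infer_instance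
  -- count the coset
  obtain ⟨P0, hP0, hN0, hP0ne⟩ := hsyl 1 M.one_mem
  rw [mul_one] at hP0
  set Z := (P0 : Subgroup M) ⊓ centralizer ((P0 : Subgroup M) : Set M) with hZ
  have hcentP : ∀ q ∈ (P0 : Subgroup M), (q : G) * g0 = g0 * q := fun q hq => by
    rw [hP0] at hq
    exact mem_centralizer_singleton_iff.1 (mem_subgroupOf.1 hq)
  let f : (M ⧸ (P0 : Subgroup M)) × Z → M := fun cz =>
    ⟨g0⁻¹ * ((cz.1.out : G) * (g0 * ((cz.2 : M) : G)) * (cz.1.out : G)⁻¹), by
      have e : g0⁻¹ * ((cz.1.out : G) * (g0 * ((cz.2 : M) : G)) * (cz.1.out : G)⁻¹)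
          = (g0⁻¹ * (cz.1.out : G) * g0) * ((cz.2 : M) : G) * (cz.1.out : G)⁻¹ := by group
      rw [e]
      refine mul_mem (mul_mem ?_ (cz.2 : M).2) (M.inv_mem cz.1.out.2)
      simpa using hM.conj_mem _ cz.1.out.2 g0⁻¹⟩
  have hf : Function.Surjective f := by
    intro w
    obtain ⟨P, hP, -, -⟩ := hsyl w w.2
    obtain ⟨n, hn⟩ := MulAction.exists_smul_eq M P0 P
    have hn' : ∀ q ∈ (P0 : Subgroup M), n * q * n⁻¹ ∈ (P : Subgroup M) := fun q hq => by
      rw [← hn, Sylow.coe_subgroup_smul]
      exact ⟨q, hq, rfl⟩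
    set z : M := ⟨g0⁻¹ * ((n : G)⁻¹ * (g0 * (w : G)) * (n : G)), by
      have e : g0⁻¹ * ((n : G)⁻¹ * (g0 * (w : G)) * (n : G))
          = (g0⁻¹ * (n : G)⁻¹ * g0) * (w : G) * (n : G) := by group
      rw [e]
      refine mul_mem (mul_mem ?_ w.2) n.2
      simpa using hM.conj_mem _ (M.inv_mem n.2) g0⁻¹⟩ with hz
    have hzc : z ∈ centralizer ((P0 : Subgroup M) : Set M) := by
      refine mem_centralizer_iff.2 fun q hq => Subtype.ext ?_
      have h1 := hn' q hq
      rw [hP] at h1
      have h2 : ((n : G) * q * (n : G)⁻¹) * (g0 * w) = (g0 * w) * ((n : G) * q * (n : G)⁻¹) :=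
        mem_centralizer_singleton_iff.1 (mem_subgroupOf.1 h1)
      show (q : G) * (g0⁻¹ * ((n : G)⁻¹ * (g0 * (w : G)) * (n : G)))
        = g0⁻¹ * ((n : G)⁻¹ * (g0 * (w : G)) * (n : G)) * q
      have h3 : (q : G) * g0⁻¹ = g0⁻¹ * q := by
        calc (q : G) * g0⁻¹ = g0⁻¹ * (g0 * q) * g0⁻¹ := by group
          _ = g0⁻¹ * q := by rw [← hcentP q hq]; group
      rw [← mul_assoc, h3]
      calc g0⁻¹ * (q : G) * ((n : G)⁻¹ * (g0 * (w : G)) * (n : G))
          = g0⁻¹ * (n : G)⁻¹ * (((n : G) * q * (n : G)⁻¹) * (g0 * w)) * n := by group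
        _ = g0⁻¹ * (n : G)⁻¹ * ((g0 * w) * ((n : G) * q * (n : G)⁻¹)) * n := by rw [h2]
        _ = _ := by group
    have hzP : z ∈ (P0 : Subgroup M) := by
      refine hN0.le (mem_normalizer_iff.2 fun q => ⟨fun hq => ?_, fun hq => ?_⟩)
      · rwa [← mem_centralizer_iff.1 hzc q hq, mul_inv_cancel_right]
      · have h1 := mem_centralizer_iff.1 hzc _ hq
        have h2 : z * q * z⁻¹ = q := mul_left_cancel (a := z) (by rw [← h1]; group)
        rwa [h2] at hq
    obtain ⟨r, hr⟩ := QuotientGroup.mk_out_eq_mul (P0 : Subgroup M) n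
    refine ⟨(QuotientGroup.mk n, ⟨z, hzP, hzc⟩), Subtype.ext ?_⟩
    show g0⁻¹ * (((QuotientGroup.mk n : M ⧸ (P0 : Subgroup M)).out : G) * (g0 * (z : G))
      * ((QuotientGroup.mk n : M ⧸ (P0 : Subgroup M)).out : G)⁻¹) = w
    rw [hr, Subgroup.coe_mul]
    have h4 : (((r : M) : G)) * (g0 * (z : G)) = (g0 * (z : G)) * ((r : M) : G) := by
      have h5 : ((r : M) : G) * (z : G) = (z : G) * ((r : M) : G) :=
        congrArg Subtype.val (mem_centralizer_iff.1 hzc _ r.2)
      rw [← mul_assoc, hcentP _ r.2, mul_assoc, h5, ← mul_assoc]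
    calc g0⁻¹ * ((n : G) * ((r : M) : G) * (g0 * (z : G)) * ((n : G) * ((r : M) : G))⁻¹)
        = g0⁻¹ * ((n : G) * (((r : M) : G) * (g0 * (z : G))) * ((r : M) : G)⁻¹ * (n : G)⁻¹) := by group
      _ = g0⁻¹ * ((n : G) * (g0 * (z : G)) * (n : G)⁻¹) := by rw [h4]; group
      _ = w := by rw [hz]; group
  have hcard := Nat.card_le_card_of_surjective f hf
  rw [Nat.card_prod, ← Subgroup.index, ← (P0 : Subgroup M).card_mul_index, mul_comm (P0 : Subgroup M).index] at hcard
  have hPZ : Nat.card (P0 : Subgroup M) ≤ Nat.card Z :=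
    Nat.le_of_mul_le_mul_right hcard (Nat.pos_of_ne_zero index_ne_zero_of_finite)
  have hab : (P0 : Subgroup M) ≤ centralizer ((P0 : Subgroup M) : Set M) :=
    (eq_of_le_of_card_ge inf_le_left hPZ).ge.trans inf_le_right
  obtain ⟨S, K, hK, hcompl⟩ := CfsgLib.Transfer.hasNormalPComplement_of_normalizer_le_centralizer P0
    (hN0.le.trans hab)
  haveI := hK
  have hq : IsPGroup p (M ⧸ K) := by
    obtain ⟨j, hj⟩ := IsPGroup.iff_card.1 S.2
    exact IsPGroup.of_card (n := j) (by rw [← Subgroup.index_eq_card, hcompl.symm.index_eq_card, hj])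
  have hsub : Subsingleton (M ⧸ K) := by
    haveI := hq.isNilpotent
    refine subsingleton_of_perfect_solvable ?_ inferInstance
    rw [_root_.commutator_def, ← map_top_of_surjective _ (QuotientGroup.mk'_surjective K),
      ← map_commutator, ← _root_.commutator_def, hperf]
  have hKtop : K = ⊤ := QuotientGroup.subgroup_eq_top_of_subsingleton K hsub
  refine hP0ne ?_
  have h1 : Nat.card (P0 : Subgroup M) = 1 := by
    rw [P0.card_eq_multiplicity, ← S.card_eq_multiplicity, ← hcompl.symm.index_eq_card, hKtop, index_top]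
  exact eq_bot_of_card_eq _ h1

/-- Let N be a proper normal subgroup of the finite group G such that every element x of G outside N has prime power order and has centralizer C_G(x) a maximal subgroup of G. Then N is solvable. -/
theorem result {G : Type*} [Group G] [Finite G] (N : Subgroup G) [N.Normal] (hN : N ≠ ⊤)
    (h : ∀ x : G, x ∉ N → IsPrimePow (orderOf x) ∧ IsCoatom (Subgroup.centralizer ({x} : Set G))) : Group.IsSolvable ↥N := by
  classical
  by_contra hns
  obtain ⟨M, ⟨hMn, hMN, hMs⟩, hmin⟩ := (Set.toFinite {M : Subgroup G | M.Normal ∧ M ≤ N ∧ ¬ Group.IsSolvable M}).exists_minimal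
    ⟨N, inferInstance, le_rfl, hns⟩
  haveI := hMn
  have hperf : commutator M = ⊤ := by
    by_contra hne
    have hDn : ((commutator M).map M.subtype).Normal := by
      rw [_root_.commutator_def, Subgroup.map_commutator, ← MonoidHom.range_eq_map, Subgroup.range_subtype]
      infer_instance
    have hDs : Group.IsSolvable ((commutator M).map M.subtype) := by
      by_contra hDs
      refine hne (eq_top_iff.2 fun x _ => ?_)
      obtain ⟨y, hy, hyx⟩ := hmin ⟨hDn, (map_subtype_le _).trans hMN, hDs⟩ (map_subtype_le _) x.2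
      rwa [show x = y from Subtype.ext hyx.symm]
    refine hMs ?_
    haveI := hDs
    haveI : Group.IsSolvable (commutator M) :=
      Group.isSolvable_of_isSolvable_injective (f := ((commutator M).equivMapOfInjective M.subtype M.subtype_injective).toMonoidHom)
        (MulEquiv.injective _)
    haveI : Group.IsSolvable (M ⧸ commutator M) :=
      Group.isSolvable_of_comm (G := M ⧸ commutator M) fun a b => by
        obtain ⟨a, rfl⟩ := QuotientGroup.mk'_surjective _ a
        obtain ⟨b, rfl⟩ := QuotientGroup.mk'_surjective _ b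
        rw [← commutatorElement_eq_one_iff_mul_comm, ← map_commutatorElement]
        exact (QuotientGroup.eq_one_iff _).2 (commutator_mem_commutator (mem_top a) (mem_top b))
    exact Group.isSolvable_of_ker_le_range (commutator M).subtype (QuotientGroup.mk' (commutator M)) (by simp)
  exact hMs (perfect_bot hN h hMN hperf)

end Cfsg.Agent.S3903
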