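import Cfsg.Statements.S4262
import Cfsg.Agent.S0108
import Cfsg.Agent.Lib.Solvable.CoprimeAction
import Cfsg.Agent.Lib.Cores.Basic
import Cfsg.Agent.Lib.Transfer.Thompson
import Cfsg.Agent.Lib.Transfer.Frobenius

set_option autoImplicit false
open Cfsg

namespace Cfsg.Agent.S4262

open CfsgLib
open scoped Pointwise

theorem isSolvable_of_normal_of_index_prime {G : Type*} [Group G] [Finite G] (M : Subgroup G) [M.Normal]
    (hM : Group.IsSolvable M) (hq : M.index.Prime) : Group.IsSolvable G := by
  have := Fact.mk hq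
  have : IsCyclic (G ⧸ M) := isCyclic_of_prime_card (p := M.index) rfl
  have hQ : Group.IsSolvable (G ⧸ M) :=
    Group.isSolvable_of_comm fun a b => this.isMulCommutative.is_comm.comm a b
  refine Group.isSolvable_of_ker_le_range M.subtype (QuotientGroup.mk' M) ?_
  rw [QuotientGroup.ker_mk', Subgroup.range_subtype]

theorem index_prime_of_normal_coatom {G : Type*} [Group G] [Finite G] (M : Subgroup G) [M.Normal]
    (hM : IsCoatom M) : M.index.Prime := by
  have h1 : M.index ≠ 1 := fun e => hM.1 (Subgroup.index_eq_one.1 e)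
  obtain ⟨q, hq, hqd⟩ := Nat.exists_prime_and_dvd h1
  have := Fact.mk hq
  obtain ⟨x, hx⟩ := exists_prime_orderOf_dvd_card' (G := G ⧸ M) q hqd
  have hne : Subgroup.zpowers x ≠ ⊥ := by
    rw [Ne, Subgroup.zpowers_eq_bot]
    rintro rfl
    rw [orderOf_one] at hx
    exact hq.one_lt.ne hx
  have htop : Subgroup.zpowers x = ⊤ := by
    have hle : M ≤ (Subgroup.zpowers x).comap (QuotientGroup.mk' M) :=
      (QuotientGroup.ker_mk' M).ge.trans (Subgroup.ker_le_comap _ _)
    rcases hle.lt_or_eq with h | h
    · rw [← Subgroup.map_comap_eq_self_of_surjective (QuotientGroup.mk'_surjective M) (Subgroup.zpowers x),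
        hM.2 _ h, Subgroup.map_top_of_surjective _ (QuotientGroup.mk'_surjective M)]
    · exfalso
      apply hne
      rw [← Subgroup.map_comap_eq_self_of_surjective (QuotientGroup.mk'_surjective M) (Subgroup.zpowers x), ← h,
        QuotientGroup.map_mk'_self]
  have : M.index = q := by rw [Subgroup.index, ← hx, ← Nat.card_zpowers, htop, Subgroup.card_top]
  rwa [this]

/-- A complement-normalised normal subgroup of coprime order, maximal complement: it is a prime power group. -/
theorem isSolvable_of_complement {G : Type*} [Group G] [Finite G] (M K : Subgroup G) [K.Normal]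
    (hM : IsCoatom M) (hMs : Group.IsSolvable M) (hc : K.IsComplement' M)
    (hcop : (Nat.card M).Coprime (Nat.card K)) : Group.IsSolvable G := by
  have hKne : K ≠ ⊥ := by
    rintro rfl
    exact hM.1 (Subgroup.isComplement'_bot_left.1 hc)
  obtain ⟨r, hr, hrK⟩ := Nat.exists_prime_and_dvd (fun e => hKne (Subgroup.eq_bot_of_card_eq _ e) : Nat.card K ≠ 1)
  have := Fact.mk hr
  have hMK : M ≤ Subgroup.normalizer (K : Set G) := by rw [Subgroup.normalizer_eq_top]; exact le_top
  obtain ⟨R, hR⟩ := Solvable.exists_invariant_sylow M K hMK hcop (Or.inl hMs) r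
  set R' := (R : Subgroup K).map K.subtype with hR'
  have hR'K : R' ≤ K := Subgroup.map_subtype_le _
  have hR'ne : R' ≠ ⊥ := by
    rw [Ne, hR', Subgroup.map_eq_bot_iff_of_injective _ K.subtype_injective]
    exact R.ne_bot_of_dvd_card hrK
  have hsup : R' ⊔ M = ⊤ := by
    refine hM.2 _ (lt_of_le_of_ne le_sup_right fun e => hR'ne ?_)
    have hle : R' ≤ K ⊓ M := le_inf hR'K (le_sup_left.trans e.ge)
    exact le_bot_iff.1 (hle.trans (Subgroup.disjoint_of_coprime_natCard hcop).symm.eq_bot.le)
  have hKR : K ≤ R' := by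
    intro k hk
    have hk' : k ∈ R' ⊔ M := hsup ▸ Subgroup.mem_top k
    rw [← SetLike.mem_coe, Subgroup.coe_mul_of_right_le_normalizer_left R' M hR] at hk'
    obtain ⟨a, ha, m, hm, rfl⟩ := hk'
    have hmK : m ∈ K ⊓ M := ⟨by simpa using mul_mem (inv_mem (hR'K ha)) hk, hm⟩
    rw [(Subgroup.disjoint_of_coprime_natCard hcop).symm.eq_bot, Subgroup.mem_bot] at hmK
    simpa [hmK] using ha
  have hKp : IsPGroup r K := (R.2.map K.subtype).to_le hKR
  have hKs : Group.IsSolvable K := by have := hKp.isNilpotent; infer_instance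
  have hQ : Group.IsSolvable (G ⧸ K) := by
    refine Group.isSolvable_of_surjective (f := (QuotientGroup.mk' K).comp M.subtype) fun x => ?_
    induction x using QuotientGroup.induction_on with | H g => ?_
    obtain ⟨⟨k, m⟩, rfl⟩ := hc.2 g
    refine ⟨m, QuotientGroup.eq.2 ?_⟩
    have := (inferInstance : K.Normal).conj_mem k k.2 (m : G)⁻¹
    simpa [mul_assoc] using this
  refine Group.isSolvable_of_ker_le_range K.subtype (QuotientGroup.mk' K) ?_
  rw [QuotientGroup.ker_mk', Subgroup.range_subtype]

/-- Thompson: a finite group with a maximal subgroup that is a `p`-group, `p` odd, is solvable. -/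
theorem isSolvable_of_pGroup_coatom.{u} {p : ℕ} [hp : Fact p.Prime] (hp2 : p ≠ 2) :
    ∀ (n : ℕ) (G : Type u) [Group G] [Finite G], Nat.card G = n →
      ∀ P : Subgroup G, IsCoatom P → IsPGroup p P → Group.IsSolvable G := by
  intro n
  induction n using Nat.strong_induction_on with
  | _ n ih =>
  intro G _ _ hn P hP hPp
  have hPs : Group.IsSolvable P := by have := hPp.isNilpotent; infer_instance
  by_cases hPn : P.Normal
  · exact isSolvable_of_normal_of_index_prime P hPs (index_prime_of_normal_coatom P hP)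
  have hNP : Subgroup.normalizer (P : Set G) = P :=
    (eq_or_lt_of_le Subgroup.le_normalizer).elim Eq.symm fun h =>
      absurd (Subgroup.normalizer_eq_top_iff.1 (hP.2 _ h)) hPn
  obtain ⟨S, hPS⟩ := hPp.exists_le_sylow
  have hSP : (S : Subgroup G) = P := by
    by_contra hne
    have hlt : P < (S : Subgroup G) := lt_of_le_of_ne hPS (Ne.symm hne)
    have := hP.2 _ hlt
    have hG : IsPGroup p G := (IsPGroup.of_equiv (this ▸ S.2 : IsPGroup p (⊤ : Subgroup G)) Subgroup.topEquiv)
    have : Group.IsNilpotent G := hG.isNilpotent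
    exact hPn (Subgroup.NormalizerCondition.normal_of_coatom P Group.normalizerCondition_of_isNilpotent hP)
  by_cases hO : Cfsg.pCore p G = ⊥
  · have hPne : P ≠ ⊥ := fun e => hPn (e ▸ inferInstance)
    have hmax : ∀ B : Subgroup G, P ≤ B → B ≠ ⊤ → B = P := fun B hB hne =>
      (eq_or_lt_of_le hB).elim Eq.symm fun h => absurd (hP.2 _ h) hne
    have hnorm : ∀ J : Subgroup G, J ≤ P → J ≠ ⊥ → P ≤ Subgroup.normalizer (J : Set G) →
        Subgroup.normalizer (J : Set G) = P := by
      intro J hJ hJne hJn
      refine hmax _ hJn fun e => hJne ?_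
      have : J.Normal := Subgroup.normalizer_eq_top_iff.1 e
      exact le_bot_iff.1 (hO ▸ Cores.le_pCore (hPp.to_le hJ))
    have hJ : Subgroup.normalizer (Cfsg.thompsonSubgroupOf p (S : Subgroup G) : Set G) = P := by
      rw [hSP]
      refine hnorm _ (Transfer.thompsonSubgroupOf_le p P) ?_ ?_
      · rw [Cfsg.thompsonSubgroupOf, Ne, Subgroup.map_eq_bot_iff_of_injective _ P.subtype_injective]
        intro hb
        obtain ⟨A, hA⟩ := Transfer.maxEA_nonempty (G := P) p
        have hAb : A = ⊥ := le_bot_iff.1 ((Transfer.le_thompsonSubgroup hA).trans hb.le)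
        obtain ⟨m, hm⟩ := IsPGroup.iff_card.1 hPp
        have hdvd : p ∣ Nat.card P := by
          rcases m with _ | m
          · exact absurd (Subgroup.eq_bot_of_card_eq _ (hm.trans (pow_zero p))) hPne
          · rw [hm]; exact dvd_pow_self p (by omega)
        obtain ⟨x, hx⟩ := exists_prime_orderOf_dvd_card' p hdvd
        have hel : Cfsg.IsElementaryAbelian p (Subgroup.zpowers x) := by
          refine ⟨inferInstance, fun a ha => ?_⟩
          obtain ⟨k, rfl⟩ := Subgroup.mem_zpowers_iff.1 ha
          rw [← zpow_natCast, ← zpow_mul, mul_comm, zpow_mul, zpow_natCast, ← hx, pow_orderOf_eq_one, one_zpow]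
        have := hA.2 _ hel
        rw [hAb, Subgroup.card_bot, Nat.card_zpowers, hx] at this
        exact absurd this (not_le.2 hp.out.one_lt)
      · have hch := Transfer.thompsonSubgroup_characteristic (G := P) p
        rw [Cfsg.thompsonSubgroupOf]
        intro g hg
        rw [Subgroup.mem_normalizer_iff_map_conj_eq, Subgroup.map_map]
        have hg' := (Subgroup.characteristic_iff_map_eq.1 hch) (MulAut.conj (⟨g, hg⟩ : P))
        conv_rhs => rw [← hg']
        rw [Subgroup.map_map]
        rfl
    have hZ : Subgroup.centralizer (((S : Subgroup G) ⊓ Subgroup.centralizer ((S : Subgroup G) : Set G) : Subgroup G) : Set G) = P := by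
      rw [hSP]
      refine hmax _ ?_ fun e => ?_
      · intro g hg
        rw [Subgroup.mem_centralizer_iff]
        intro z hz
        exact (Subgroup.mem_centralizer_iff.1 hz.2 g hg).symm
      · have : Nontrivial P := (Subgroup.nontrivial_iff_ne_bot P).2 hPne
        obtain ⟨⟨z, hz⟩, hzne⟩ := (nontrivial_iff_exists_ne (1 : Subgroup.center P)).1 hPp.center_nontrivial
        have hzc : (z : G) ∈ P ⊓ Subgroup.centralizer (P : Set G) := by
          refine ⟨z.2, Subgroup.mem_centralizer_iff.2 fun y hy => ?_⟩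
          exact congrArg Subtype.val (Subgroup.mem_center_iff.1 hz ⟨y, hy⟩)
        have hZG : P ⊓ Subgroup.centralizer (P : Set G) ≤ Subgroup.center G := by
          intro y hy
          rw [Subgroup.mem_center_iff]
          intro g
          exact (Subgroup.mem_centralizer_iff.1 (e ▸ Subgroup.mem_top g : g ∈ Subgroup.centralizer
            ((P ⊓ Subgroup.centralizer (P : Set G) : Subgroup G) : Set G)) y hy).symm
        have hn' : (P ⊓ Subgroup.centralizer (P : Set G)).Normal := ⟨fun y hy g => by
          rw [(Subgroup.mem_center_iff.1 (hZG hy) g), mul_inv_cancel_right]; exact hy⟩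
        have : P ⊓ Subgroup.centralizer (P : Set G) ≤ ⊥ := hO ▸ Cores.le_pCore (hPp.to_le inf_le_left)
        exact hzne (Subtype.ext (Subtype.ext (Subgroup.mem_bot.1 (this hzc))))
    have hPc : ∀ B : Subgroup G, B = P → Cfsg.HasNormalPComplement p B := by
      rintro B rfl
      obtain ⟨T⟩ : Nonempty (Sylow p B) := inferInstance
      refine ⟨T, ⊥, inferInstance, ?_⟩
      rw [Subgroup.isComplement'_bot_left]
      exact (T.3 (hPp.to_subgroup ⊤) le_top).symm
    obtain ⟨T, K, hK, hKT⟩ := (Cfsg.Agent.S0108.result hp2 S).2 ⟨hPc _ hJ, hPc _ hZ⟩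
    obtain ⟨g, hg⟩ := MulAction.exists_smul_eq G T S
    have hTc : IsCoatom (T : Subgroup G) := by
      have e : MulAut.conj g • (T : Subgroup G) = P := by rw [← Sylow.coe_subgroup_smul, hg, hSP]
      refine ⟨fun h => ?_, fun B hB => ?_⟩
      · apply hP.1
        rw [← e, h]
        exact Subgroup.map_top_of_surjective _ (MulAut.conj g).surjective
      · have : P < MulAut.conj g • B := by
          rw [← e]
          exact lt_of_le_of_ne (Subgroup.map_mono hB.le) fun h => hB.ne (Subgroup.map_injective (MulAut.conj g).injective h)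
        have h := hP.2 _ this
        exact Subgroup.map_injective (MulAut.conj g).injective
          (h.trans (Subgroup.map_top_of_surjective _ (MulAut.conj g).surjective).symm)
    have hTs : Group.IsSolvable (T : Subgroup G) := by have := T.2.isNilpotent; infer_instance
    refine isSolvable_of_complement (T : Subgroup G) K hTc hTs hKT ?_
    have hidx := hKT.symm.index_eq_card
    obtain ⟨m, hm⟩ := IsPGroup.iff_card.1 T.2
    rw [hm]
    exact Nat.Coprime.pow_left _ (hp.out.coprime_iff_not_dvd.2 (fun h => T.not_dvd_index (h.trans (dvd_of_eq hKT.index_eq_card.symm))))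
  · have hOle : Cfsg.pCore p G ≤ P := hSP ▸ Cores.pCore_le_sylow S
    set N := Cfsg.pCore p G with hN
    have hNn : N.Normal := by
      have := Cores.pCore_characteristic (G := G) p
      infer_instance
    have hlt : Nat.card (G ⧸ N) < n := by
      rw [← hn, Subgroup.card_eq_card_quotient_mul_card_subgroup N]
      exact lt_mul_of_one_lt_right Nat.card_pos ((Subgroup.one_lt_card_iff_ne_bot _).2 hO)
    have hcm : (P.map (QuotientGroup.mk' N)).comap (QuotientGroup.mk' N) = P := by
      rw [Subgroup.comap_map_eq, QuotientGroup.ker_mk', sup_eq_left.2 hOle]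
    have hco : IsCoatom (P.map (QuotientGroup.mk' N)) := by
      refine ⟨fun h => hP.1 (by rw [← hcm, h, Subgroup.comap_top]), fun B hB => ?_⟩
      have h1 := (Subgroup.comap_lt_comap_of_surjective (QuotientGroup.mk'_surjective N)).2 hB
      rw [hcm] at h1
      rw [← Subgroup.map_comap_eq_self_of_surjective (QuotientGroup.mk'_surjective N) B, hP.2 _ h1,
        Subgroup.map_top_of_surjective _ (QuotientGroup.mk'_surjective N)]
    have hQ := ih _ hlt (G ⧸ N) rfl _ hco (hPp.map _)
    have hNs : Group.IsSolvable N := by have := (hPp.to_le hOle).isNilpotent; infer_instance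
    refine Group.isSolvable_of_ker_le_range N.subtype (QuotientGroup.mk' N) ?_
    rw [QuotientGroup.ker_mk', Subgroup.range_subtype]


theorem index_iInf_dvd {G ι : Type*} [Group G] [Fintype ι] (f : ι → Subgroup G) (hf : ∀ i, (f i).Normal) :
    (⨅ i, f i).index ∣ ∏ i, (f i).index := by
  have := hf
  let φ : G →* ∀ i, G ⧸ f i := MonoidHom.pi fun i => QuotientGroup.mk' (f i)
  have hk : φ.ker = ⨅ i, f i := by
    ext x
    simp only [φ, MonoidHom.mem_ker, funext_iff, Subgroup.mem_iInf]
    exact forall_congr' fun i => QuotientGroup.eq_one_iff x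
  rw [← hk, Subgroup.index_ker]
  refine (Subgroup.card_subgroup_dvd_card φ.range).trans (dvd_of_eq ?_)
  rw [Nat.card_pi]
  rfl


/-- Let G be a finite group in which the centralizer of every non-central element is a maximal subgroup of G. Then G is solvable. -/
theorem result {G : Type*} [Group G] [Finite G]
    (h : ∀ g : G, g ∉ Subgroup.center G → IsCoatom (Subgroup.centralizer ({g} : Set G))) :
    Group.IsSolvable G := by
  classical
  set Z := Subgroup.center G with hZdef
  set π := QuotientGroup.mk' Z with hπ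
  have hπs : Function.Surjective π := QuotientGroup.mk'_surjective Z
  have hker : π.ker = Z := QuotientGroup.ker_mk' Z
  have hsolv_of : Group.IsSolvable (G ⧸ Z) → Group.IsSolvable G := fun hQ => by
    have : Group.IsSolvable Z := Group.isSolvable_of_comm fun a b => Subtype.ext (Subgroup.mem_center_iff.1 b.2 a)
    refine Group.isSolvable_of_ker_le_range Z.subtype π ?_
    rw [hker, Subgroup.range_subtype]
  -- centralisers commute
  have hcent : ∀ x y : G, x ∉ Z → y ∈ Subgroup.centralizer ({x} : Set G) → (orderOf x).Coprime (orderOf y) →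
      y ∈ Z ∨ Subgroup.centralizer ({y} : Set G) = Subgroup.centralizer ({x} : Set G) := by
    intro x y hx hy hco
    by_cases hyZ : y ∈ Z
    · exact Or.inl hyZ
    right
    have hc : Commute x y := (Subgroup.mem_centralizer_singleton_iff.1 hy).symm
    have hxy : x * y ∉ Z := by
      intro hmem
      apply hx
      obtain ⟨k, hk⟩ := exists_pow_eq_self_of_coprime hco.symm
      have h1 : (x * y) ^ (orderOf y) = x ^ orderOf y := by rw [hc.mul_pow, pow_orderOf_eq_one, mul_one]
      rw [← hk, ← h1]
      exact Subgroup.pow_mem _ (Subgroup.pow_mem _ hmem _) _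
    have hle : ∀ z, z ∈ Subgroup.centralizer ({x * y} : Set G) →
        z ∈ Subgroup.centralizer ({x} : Set G) ∧ z ∈ Subgroup.centralizer ({y} : Set G) := by
      intro z hz
      rw [Subgroup.mem_centralizer_singleton_iff] at hz
      have hzc : Commute z (x * y) := hz
      constructor
      · rw [Subgroup.mem_centralizer_singleton_iff]
        obtain ⟨k, hk⟩ := exists_pow_eq_self_of_coprime hco.symm
        have h1 : (x * y) ^ (orderOf y) = x ^ orderOf y := by rw [hc.mul_pow, pow_orderOf_eq_one, mul_one]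
        have := (hzc.pow_right (orderOf y)).pow_right k
        rwa [h1, hk] at this
      · rw [Subgroup.mem_centralizer_singleton_iff]
        obtain ⟨k, hk⟩ := exists_pow_eq_self_of_coprime hco
        have h1 : (x * y) ^ (orderOf x) = y ^ orderOf x := by rw [hc.mul_pow, pow_orderOf_eq_one, one_mul]
        have := (hzc.pow_right (orderOf x)).pow_right k
        rwa [h1, hk] at this
    have e1 : Subgroup.centralizer ({x * y} : Set G) = Subgroup.centralizer ({x} : Set G) :=
      (eq_or_lt_of_le (fun z hz => (hle z hz).1 : Subgroup.centralizer ({x * y} : Set G) ≤ _)).elim id fun hlt =>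
        absurd ((h _ hxy).2 _ hlt) (h x hx).1
    have e2 : Subgroup.centralizer ({x * y} : Set G) = Subgroup.centralizer ({y} : Set G) :=
      (eq_or_lt_of_le (fun z hz => (hle z hz).2 : Subgroup.centralizer ({x * y} : Set G) ≤ _)).elim id fun hlt =>
        absurd ((h _ hxy).2 _ hlt) (h y hyZ).1
    rw [← e2, e1]
  -- a non-central element of odd prime power order
  by_cases hodd : ∀ q : ℕ, q.Prime → q ≠ 2 → ∀ x : G, (∃ k, orderOf x = q ^ k) → x ∈ Z
  · refine hsolv_of ?_
    have h2 : IsPGroup 2 (G ⧸ Z) := by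
      intro g
      induction g using QuotientGroup.induction_on with | H g => ?_
      refine ⟨(orderOf g).factorization 2, ?_⟩
      rw [← QuotientGroup.mk_pow, QuotientGroup.eq_one_iff]
      have hmodd : ¬ 2 ∣ orderOf (g ^ 2 ^ (orderOf g).factorization 2) := by
        rw [orderOf_pow_of_dvd (pow_ne_zero _ (by norm_num)) (Nat.ordProj_dvd _ _)]
        exact Nat.not_dvd_ordCompl Nat.prime_two (orderOf_pos g).ne'
      suffices H : ∀ m : ℕ, ∀ w : G, orderOf w = m → ¬ 2 ∣ m → w ∈ Z from H _ _ rfl hmodd
      intro m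
      induction m using Nat.recOnPosPrimePosCoprime with
      | prime_pow q k hq hk =>
        intro w hw h2
        refine hodd q hq (fun e => h2 ?_) w ⟨k, hw⟩
        rw [e]; exact dvd_pow_self 2 hk.ne'
      | zero => intro w hw; exact absurd hw (orderOf_pos w).ne'
      | one => intro w hw _; rw [orderOf_eq_one_iff.1 hw]; exact one_mem _
      | coprime a b ha hb hab iha ihb =>
        intro w hw h2
        have h1 : w ^ b ∈ Z := by
          refine iha _ ?_ (fun h => h2 (h.mul_right b))
          rw [orderOf_pow_of_dvd (by omega) (hw ▸ dvd_mul_left b a), hw]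
          exact Nat.mul_div_cancel _ (by omega)
        have h1' : w ^ a ∈ Z := by
          refine ihb _ ?_ (fun h => h2 (h.mul_left a))
          rw [orderOf_pow_of_dvd (by omega) (hw ▸ dvd_mul_right a b), hw]
          exact Nat.mul_div_cancel_left _ (by omega)
        have h3 : w = (w ^ a) ^ Nat.gcdA a b * (w ^ b) ^ Nat.gcdB a b := by
          rw [← zpow_natCast w a, ← zpow_natCast w b, ← zpow_mul, ← zpow_mul, ← zpow_add,
            ← Nat.gcd_eq_gcd_ab a b, hab]
          simp
        rw [h3]
        exact mul_mem (Subgroup.zpow_mem _ h1' _) (Subgroup.zpow_mem _ h1 _)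
    have := h2.isNilpotent
    infer_instance
  push Not at hodd
  obtain ⟨q, hq, hq2, x, ⟨a, ha⟩, hxZ⟩ := hodd
  have := Fact.mk hq
  set M := Subgroup.centralizer ({x} : Set G) with hMdef
  have hM : IsCoatom M := h x hxZ
  have hxM : x ∈ M := Subgroup.mem_centralizer_singleton_iff.2 rfl
  have hZM : Z ≤ M := fun z hz => Subgroup.mem_centralizer_singleton_iff.2 (Subgroup.mem_center_iff.1 hz x).symm
  have hq' : ∀ y ∈ M, ¬ q ∣ orderOf y → y ∈ Subgroup.centralizer (M : Set G) := by
    intro y hy hqy
    have hco : (orderOf x).Coprime (orderOf y) := ha ▸ (Nat.Coprime.pow_left a (hq.coprime_iff_not_dvd.2 hqy))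
    rw [Subgroup.mem_centralizer_iff]
    intro m hm
    rcases hcent x y hxZ hy hco with hyz | e
    · exact Subgroup.mem_center_iff.1 hyz m
    · exact Subgroup.mem_centralizer_singleton_iff.1 (e.ge hm)
  have hqpart : ∀ y ∈ M, ∃ k, y ^ q ^ k ∈ Subgroup.centralizer (M : Set G) ∧
      ¬ q ∣ orderOf (y ^ q ^ k) := by
    intro y hy
    refine ⟨(orderOf y).factorization q, ?_⟩
    have hnd : ¬ q ∣ orderOf (y ^ q ^ (orderOf y).factorization q) := by
      rw [orderOf_pow_of_dvd (pow_ne_zero _ hq.ne_zero) (Nat.ordProj_dvd _ _)]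
      exact Nat.not_dvd_ordCompl hq (orderOf_pos y).ne'
    exact ⟨hq' _ (pow_mem hy _) hnd, hnd⟩
  have hMZ : IsPGroup q (M ⧸ Subgroup.center M) := by
    intro y
    induction y using QuotientGroup.induction_on with | H y => ?_
    obtain ⟨k, hk, -⟩ := hqpart y y.2
    refine ⟨k, ?_⟩
    rw [← QuotientGroup.mk_pow, QuotientGroup.eq_one_iff, Subgroup.mem_center_iff]
    intro z
    exact Subtype.ext (Subgroup.mem_centralizer_iff.1 hk z z.2)
  have hMn : Group.IsNilpotent M := Group.of_quotient_center_nilpotent hMZ.isNilpotent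
  have hMs : Group.IsSolvable M := inferInstance
  by_cases hMnormal : M.Normal
  · exact isSolvable_of_normal_of_index_prime M hMs (index_prime_of_normal_coatom M hM)
  have hcm : (M.map π).comap π = M := by rw [Subgroup.comap_map_eq, hker, sup_eq_left.2 hZM]
  have hco : IsCoatom (M.map π) := by
    refine ⟨fun h' => hM.1 (by rw [← hcm, h', Subgroup.comap_top]), fun B hB => ?_⟩
    have h1 := (Subgroup.comap_lt_comap_of_surjective hπs).2 hB
    rw [hcm] at h1
    rw [← Subgroup.map_comap_eq_self_of_surjective hπs B, hM.2 _ h1, Subgroup.map_top_of_surjective _ hπs]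
  refine hsolv_of ?_
  by_cases hcase : ∀ y ∈ M, ¬ q ∣ orderOf y → y ∈ Z
  · refine isSolvable_of_pGroup_coatom hq2 _ (G ⧸ Z) rfl (M.map π) hco ?_
    rintro ⟨_, y, hy, rfl⟩
    obtain ⟨k, -, hk⟩ := hqpart y hy
    refine ⟨k, Subtype.ext ?_⟩
    rw [Subgroup.coe_pow, Subgroup.coe_one, ← map_pow]
    exact (QuotientGroup.eq_one_iff _).2 (hcase _ (pow_mem hy _) hk)
  push Not at hcase
  obtain ⟨y, hyM, hyq, hyZ⟩ := hcase
  -- now `M` is abelian
  have hco' : (orderOf x).Coprime (orderOf y) := ha ▸ (Nat.Coprime.pow_left a (hq.coprime_iff_not_dvd.2 hyq))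
  have hCy : Subgroup.centralizer ({y} : Set G) = M := (hcent x y hxZ hyM hco').resolve_left hyZ
  have hab : ∀ u ∈ M, ∀ v ∈ M, u * v = v * u := by
    suffices H : ∀ u ∈ M, u ∈ Subgroup.centralizer (M : Set G) from
      fun u hu v hv => (Subgroup.mem_centralizer_iff.1 (H u hu) v hv).symm
    suffices H : ∀ n : ℕ, ∀ u ∈ M, orderOf u = n → u ∈ Subgroup.centralizer (M : Set G) from
      fun u hu => H _ u hu rfl
    intro n
    induction n using Nat.recOnPosPrimePosCoprime with
    | prime_pow r k hr hk =>
      intro u hu hn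
      by_cases hrq : r = q
      · subst hrq
        rw [Subgroup.mem_centralizer_iff]
        intro v hv
        have hu' : u ∈ Subgroup.centralizer ({y} : Set G) := hCy ▸ hu
        rcases hcent y u hyZ hu' (hn ▸ ((hq.coprime_iff_not_dvd.2 hyq).symm.pow_right k)) with huz | e
        · exact Subgroup.mem_center_iff.1 huz v
        · exact Subgroup.mem_centralizer_singleton_iff.1 ((e.trans hCy).ge hv)
      · exact hq' u hu (fun hd => hrq ((Nat.prime_dvd_prime_iff_eq hq hr).1 (hq.dvd_of_dvd_pow (hn ▸ hd))).symm)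
    | zero => intro u _ hn; exact absurd hn (orderOf_pos u).ne'
    | one => intro u _ hn; rw [orderOf_eq_one_iff.1 hn]; exact one_mem _
    | coprime a' b ha' hb hab' iha ihb =>
      intro u hu hn
      have h1 : u ^ b ∈ Subgroup.centralizer (M : Set G) := by
        refine iha _ (pow_mem hu _) ?_
        rw [orderOf_pow_of_dvd (by omega) (hn ▸ dvd_mul_left b a'), hn]
        exact Nat.mul_div_cancel _ (by omega)
      have h1' : u ^ a' ∈ Subgroup.centralizer (M : Set G) := by
        refine ihb _ (pow_mem hu _) ?_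
        rw [orderOf_pow_of_dvd (by omega) (hn ▸ dvd_mul_right a' b), hn]
        exact Nat.mul_div_cancel_left _ (by omega)
      have h3 : u = (u ^ a') ^ Nat.gcdA a' b * (u ^ b) ^ Nat.gcdB a' b := by
        rw [← zpow_natCast u a', ← zpow_natCast u b, ← zpow_mul, ← zpow_mul, ← zpow_add,
          ← Nat.gcd_eq_gcd_ab a' b, hab']
        simp
      rw [h3]
      exact mul_mem (Subgroup.zpow_mem _ h1' _) (Subgroup.zpow_mem _ h1 _)
  set A := M.map π with hA
  have hAab : ∀ u ∈ A, ∀ v ∈ A, u * v = v * u := by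
    rintro _ ⟨u, hu, rfl⟩ _ ⟨v, hv, rfl⟩
    rw [← map_mul, hab u hu v hv, map_mul]
  have hNA : ∀ B : Subgroup (G ⧸ Z), B ≤ A → B ≠ ⊥ → Subgroup.normalizer (B : Set (G ⧸ Z)) = A := by
    intro B hB hBne
    have hle : A ≤ Subgroup.normalizer (B : Set (G ⧸ Z)) := by
      intro u hu
      rw [Subgroup.mem_normalizer_iff]
      intro v
      constructor
      · intro hv
        rwa [hAab u hu v (hB hv), mul_inv_cancel_right]
      · intro hv
        have h2 := hB hv
        have hvA : v ∈ A := by simpa [mul_assoc] using mul_mem (mul_mem (inv_mem hu) h2) hu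
        rwa [hAab u hu v hvA, mul_inv_cancel_right] at hv
    refine (eq_or_lt_of_le hle).elim Eq.symm fun hlt => ?_
    exfalso
    have htop := hco.2 _ hlt
    have hBn : B.Normal := Subgroup.normalizer_eq_top_iff.1 htop
    have hB' : B.comap π ≤ M := (Subgroup.comap_mono hB).trans hcm.le
    have hBn' : (B.comap π).Normal := hBn.comap π
    obtain ⟨b, hb, hbZ⟩ : ∃ b ∈ B.comap π, b ∉ Z := by
      by_contra hc
      push Not at hc
      apply hBne
      rw [← Subgroup.map_comap_eq_self_of_surjective hπs B, eq_bot_iff]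
      refine (Subgroup.map_mono (show B.comap π ≤ Z from hc)).trans ?_
      rw [hπ, QuotientGroup.map_mk'_self]
    have hC : Subgroup.centralizer ((B.comap π : Subgroup G) : Set G) = M := by
      have hMC : M ≤ Subgroup.centralizer ((B.comap π : Subgroup G) : Set G) := fun u hu =>
        Subgroup.mem_centralizer_iff.2 fun v hv => hab v (hB' hv) u hu
      refine (eq_or_lt_of_le hMC).elim Eq.symm fun hlt2 => ?_
      exfalso
      apply hbZ
      have := hM.2 _ hlt2
      rw [hZdef, Subgroup.mem_center_iff]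
      intro g
      exact (Subgroup.mem_centralizer_iff.1 (this ▸ Subgroup.mem_top g :
        g ∈ Subgroup.centralizer ((B.comap π : Subgroup G) : Set G)) b hb).symm
    exact hMnormal (hC ▸ inferInstance)
  have hAne : A ≠ ⊥ := by
    intro e
    have : π y ∈ A := ⟨y, hyM, rfl⟩
    rw [e, Subgroup.mem_bot] at this
    exact hyZ ((QuotientGroup.eq_one_iff y).1 this)
  have hAN := hNA A le_rfl hAne
  have hsyl : ∀ (r : ℕ) [Fact r.Prime], r ∣ Nat.card A → ∃ R : Sylow r (G ⧸ Z), (R : Subgroup (G ⧸ Z)) ≤ A ∧
      Subgroup.normalizer ((R : Subgroup (G ⧸ Z)) : Set (G ⧸ Z)) ≤ Subgroup.centralizer ((R : Subgroup (G ⧸ Z)) : Set (G ⧸ Z)) := by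
    intro r _ hr
    obtain ⟨R₀⟩ : Nonempty (Sylow r A) := inferInstance
    set R₁ := (R₀ : Subgroup A).map A.subtype with hR₁
    have hR₁ne : R₁ ≠ ⊥ := by
      rw [Ne, hR₁, Subgroup.map_eq_bot_iff_of_injective _ A.subtype_injective]
      exact R₀.ne_bot_of_dvd_card hr
    obtain ⟨R, hR⟩ := (R₀.2.map A.subtype).exists_le_sylow
    have hN1 := hNA R₁ (Subgroup.map_subtype_le _) hR₁ne
    have hinf : (R : Subgroup (G ⧸ Z)) ⊓ Subgroup.normalizer (R₁ : Set (G ⧸ Z)) ≤ R₁ := by
      rw [hN1]
      intro u hu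
      have hsub : (R₀ : Subgroup A) ≤ (R : Subgroup (G ⧸ Z)).subgroupOf A := fun v hv => hR ⟨v, hv, rfl⟩
      have := R₀.3 (IsPGroup.comap_subtype R.2) hsub
      exact ⟨⟨u, hu.2⟩, this ▸ (show (⟨u, hu.2⟩ : A) ∈ (R : Subgroup (G ⧸ Z)).subgroupOf A from hu.1), rfl⟩
    have hReq : R₁ = (R : Subgroup (G ⧸ Z)) := by
      by_contra hne
      have hlt : R₁.subgroupOf (R : Subgroup (G ⧸ Z)) < ⊤ :=
        lt_top_iff_ne_top.2 fun e => hne (le_antisymm hR (Subgroup.subgroupOf_eq_top.1 e))
      have := R.2.isNilpotent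
      have h3 := Group.normalizerCondition_of_isNilpotent _ hlt
      obtain ⟨u, hu, hu'⟩ := SetLike.exists_of_lt h3
      apply hu'
      rw [Subgroup.mem_subgroupOf]
      refine hinf ⟨u.2, ?_⟩
      change (u : G ⧸ Z) ∈ Subgroup.normalizer (R₁ : Set (G ⧸ Z))
      rw [Subgroup.mem_normalizer_iff] at hu ⊢
      intro v
      constructor
      · intro hv
        simpa [Subgroup.mem_subgroupOf] using (hu ⟨v, hR hv⟩).1 hv
      · intro hv
        have h4 := hR hv
        have hvR : v ∈ (R : Subgroup (G ⧸ Z)) := by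
          simpa [mul_assoc] using mul_mem (mul_mem (inv_mem u.2) h4) u.2
        simpa [Subgroup.mem_subgroupOf] using (hu ⟨v, hvR⟩).2 hv
    refine ⟨R, hReq ▸ Subgroup.map_subtype_le _, ?_⟩
    rw [← hReq, hN1]
    exact fun u hu => Subgroup.mem_centralizer_iff.2 fun v hv => hAab v (Subgroup.map_subtype_le _ hv) u hu
  let D : Subgroup (G ⧸ Z) := ⨅ (r : (Nat.card A).primeFactors), Cfsg.pResidual r (G ⧸ Z)
  have hprime : ∀ r : (Nat.card A).primeFactors, Fact (r : ℕ).Prime := fun r => ⟨Nat.prime_of_mem_primeFactors r.2⟩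
  have hDn : D.Normal := Subgroup.normal_iInf_normal fun r => by
    have := Transfer.pResidual_characteristic (G := G ⧸ Z) (p := (r : ℕ))
    infer_instance
  have hcompl : ∀ r : (Nat.card A).primeFactors, ∃ R : Sylow (r : ℕ) (G ⧸ Z), (R : Subgroup (G ⧸ Z)) ≤ A ∧
      (Cfsg.pResidual r (G ⧸ Z)).IsComplement' R := by
    intro r
    obtain ⟨R, hRA, hRN⟩ := hsyl r (Nat.dvd_of_mem_primeFactors r.2)
    refine ⟨R, hRA, ?_⟩
    have hh := (Transfer.hasNormalPComplement_iff_pResidual).1
      (Transfer.hasNormalPComplement_of_normalizer_le_centralizer R hRN)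
    obtain ⟨k, hk⟩ := Transfer.index_pResidual (G := G ⧸ Z) (p := (r : ℕ))
    exact Transfer.isComplement'_sylow R hh hk
  have hDA : (Nat.card A).Coprime (Nat.card D) := by
    rw [Nat.coprime_iff_gcd_eq_one]
    by_contra hg
    obtain ⟨r, hr, hrd⟩ := Nat.exists_prime_and_dvd hg
    have hrA := hrd.trans (Nat.gcd_dvd_left _ _)
    obtain ⟨R, -, hR⟩ := hcompl ⟨r, Nat.mem_primeFactors.2 ⟨hr, hrA, Nat.card_pos.ne'⟩⟩
    have := hR.symm.index_eq_card
    have := Fact.mk hr
    exact R.not_dvd_index (((hrd.trans (Nat.gcd_dvd_right _ _)).trans (Subgroup.card_dvd_of_le (iInf_le _ _))).trans (dvd_of_eq hR.index_eq_card.symm))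
  have hidx : D.index ∣ Nat.card A := by
    have hD : D.index ∣ ∏ r : (Nat.card A).primeFactors, (Cfsg.pResidual r (G ⧸ Z)).index :=
      index_iInf_dvd _ fun r => by
        have := Transfer.pResidual_characteristic (G := G ⧸ Z) (p := (r : ℕ))
        infer_instance
    refine hD.trans ?_
    refine Fintype.prod_dvd_of_isRelPrime ?_ fun r => ?_
    · intro r s hrs
      obtain ⟨R, -, hR⟩ := hcompl r
      obtain ⟨S, -, hS⟩ := hcompl s
      simp only [Function.onFun]
      rw [hR.symm.index_eq_card, hS.symm.index_eq_card]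
      obtain ⟨i, hi⟩ := IsPGroup.iff_card.1 R.2
      obtain ⟨j, hj⟩ := IsPGroup.iff_card.1 S.2
      rw [hi, hj]
      exact Nat.coprime_iff_isRelPrime.1 (Nat.Coprime.pow i j ((Nat.coprime_primes (hprime r).out (hprime s).out).2 fun e => hrs (Subtype.ext e)))
    · obtain ⟨R, hRA, hR⟩ := hcompl r
      rw [hR.symm.index_eq_card]
      exact Subgroup.card_dvd_of_le hRA
  have hcompl' : D.IsComplement' A := by
    refine Subgroup.isComplement'_of_coprime ?_ hDA.symm
    refine le_antisymm ?_ ?_
    · exact Nat.le_of_dvd Nat.card_pos (hDA.symm.mul_dvd_of_dvd_of_dvd D.card_subgroup_dvd_card A.card_subgroup_dvd_card)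
    · rw [← D.card_mul_index]
      exact Nat.mul_le_mul_left _ (Nat.le_of_dvd Nat.card_pos hidx)
  have hAs : Group.IsSolvable A := Group.isSolvable_of_comm fun u v => Subtype.ext (hAab u u.2 v v.2)
  exact isSolvable_of_complement A D hco hAs hcompl' hDA

end Cfsg.Agent.S4262
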