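import Cfsg.Statements.S3904
import Cfsg.Agent.S4262
import Cfsg.Agent.Lib.Solvable.Fitting
import Cfsg.Agent.Lib.LocalEven.CharP
import Cfsg.Agent.Lib.PGroup.Basic

set_option autoImplicit false
open Cfsg

namespace Cfsg.Agent.S3904

universe u

open scoped commutatorElement

variable {G : Type u} [Group G] [Finite G]

theorem mem_zpowers_pow_of_coprime' (x : G) {n : ℕ} (h : (orderOf x).Coprime n) :
    ∃ k : ℕ, (x ^ n) ^ k = x :=
  exists_pow_eq_self_of_coprime h.symm

theorem mem_center_of_pow (x : G) {n : ℕ} (h : (orderOf x).Coprime n)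
    (hn : x ^ n ∈ Subgroup.center G) : x ∈ Subgroup.center G := by
  obtain ⟨k, hk⟩ := mem_zpowers_pow_of_coprime' x h
  rw [← hk]
  exact pow_mem hn k

/-- Commuting non-central elements of coprime orders have the same centralizer. -/
theorem centralizer_eq_of_coprime
    (h : ∀ x : G, x ∉ Subgroup.center G → IsCoatom (Subgroup.centralizer ({x} : Set G)))
    {a b : G} (hc : Commute a b) (hab : (orderOf a).Coprime (orderOf b))
    (ha : a ∉ Subgroup.center G) (hb : b ∉ Subgroup.center G) :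
    Subgroup.centralizer ({a} : Set G) = Subgroup.centralizer ({b} : Set G) := by
  have hpa : ∃ i : ℕ, (a * b) ^ i = a := by
    obtain ⟨k, hk⟩ := mem_zpowers_pow_of_coprime' a hab
    refine ⟨orderOf b * k, ?_⟩
    rw [pow_mul, hc.mul_pow, pow_orderOf_eq_one b, mul_one, hk]
  have hpb : ∃ i : ℕ, (a * b) ^ i = b := by
    obtain ⟨k, hk⟩ := mem_zpowers_pow_of_coprime' b hab.symm
    refine ⟨orderOf a * k, ?_⟩
    rw [pow_mul, hc.mul_pow, pow_orderOf_eq_one a, one_mul, hk]
  have hle : ∀ y : G, (∃ i : ℕ, (a * b) ^ i = y) →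
      Subgroup.centralizer ({a * b} : Set G) ≤ Subgroup.centralizer ({y} : Set G) := by
    rintro y ⟨i, rfl⟩ t ht
    rw [Subgroup.mem_centralizer_singleton_iff] at ht ⊢
    exact (show Commute t (a * b) from ht).pow_right i
  have hab' : a * b ∉ Subgroup.center G := fun hz => ha (by
    obtain ⟨i, hi⟩ := hpa
    rw [← hi]; exact pow_mem hz i)
  have hne : ∀ y : G, y ∉ Subgroup.center G → Subgroup.centralizer ({y} : Set G) ≠ ⊤ :=
    fun y hy => (h y hy).1
  have e : ∀ y : G, y ∉ Subgroup.center G → (∃ i : ℕ, (a * b) ^ i = y) →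
      Subgroup.centralizer ({a * b} : Set G) = Subgroup.centralizer ({y} : Set G) := fun y hy hi =>
    ((h _ hab').le_iff_eq (hne y hy)).1 (hle y hi) |>.symm
  rw [← e a ha hpa, e b hb hpb]

theorem orderOf_pow_prime {p : ℕ} [Fact p.Prime] {P : Subgroup G} (hP : IsPGroup p P) {v : G} (hv : v ∈ P) :
    ∃ k, orderOf v = p ^ k := by
  obtain ⟨k, hk⟩ := IsPGroup.iff_orderOf.1 hP ⟨v, hv⟩
  exact ⟨k, by rw [← hk, Subgroup.orderOf_mk]⟩

theorem coprime_of_pow {p : ℕ} {g v : G} (hgp : (orderOf g).Coprime p) (hv : ∃ k, orderOf v = p ^ k) :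
    (orderOf v).Coprime (orderOf g) := by
  obtain ⟨k, hk⟩ := hv
  rw [hk]
  exact hgp.symm.pow_left k

/-- `p`-part and `p'`-part of an element. -/
theorem exists_parts' {p : ℕ} [hp : Fact p.Prime] (x : G) :
    ∃ a b : G, a * b = x ∧ (∃ i : ℕ, x ^ i = a) ∧ (∃ i : ℕ, x ^ i = b) ∧
      (∃ k, orderOf a = p ^ k) ∧ (orderOf b).Coprime p := by
  obtain ⟨e, m, hm, hxm⟩ := Nat.exists_eq_pow_mul_and_not_dvd (orderOf_pos x).ne' p hp.out.ne_one
  have hcop : (p ^ e).Coprime m := ((hp.out.coprime_iff_not_dvd).2 hm).pow_left e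
  obtain ⟨i, hi1, hi2⟩ := Nat.chineseRemainder hcop 1 0
  obtain ⟨j, hj1, hj2⟩ := Nat.chineseRemainder hcop 0 1
  refine ⟨x ^ i, x ^ j, ?_, ⟨i, rfl⟩, ⟨j, rfl⟩, ?_, ?_⟩
  · rw [← pow_add]
    conv_rhs => rw [← pow_one x]
    rw [pow_eq_pow_iff_modEq, hxm]
    exact (Nat.modEq_and_modEq_iff_modEq_mul hcop).1
      ⟨by simpa using hi1.add hj1, by simpa using hi2.add hj2⟩
  · have h1 : (x ^ i) ^ (p ^ e) = 1 := by
      rw [← pow_mul, ← orderOf_dvd_iff_pow_eq_one, hxm, mul_comm i]
      exact Nat.mul_dvd_mul_left _ ((Nat.modEq_zero_iff_dvd).1 hi2)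
    obtain ⟨k, -, hk⟩ := (Nat.dvd_prime_pow hp.out).1 (orderOf_dvd_of_pow_eq_one h1)
    exact ⟨k, hk⟩
  · have h1 : (x ^ j) ^ m = 1 := by
      rw [← pow_mul, ← orderOf_dvd_iff_pow_eq_one, hxm]
      exact Nat.mul_dvd_mul_right ((Nat.modEq_zero_iff_dvd).1 hj1) _
    exact ((hp.out.coprime_iff_not_dvd).2 fun hd => hm (hd.trans (orderOf_dvd_of_pow_eq_one h1))).symm

/-- A non-central `p`-element cannot centralise a `p'`-element moving `P`. -/
theorem central_of_moves
    (h : ∀ x : G, x ∉ Subgroup.center G → IsCoatom (Subgroup.centralizer ({x} : Set G)))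
    {p : ℕ} [hp : Fact p.Prime] (P : Subgroup G) [hPn : P.Normal] (hP : IsPGroup p P)
    {g : G} (hgp : (orderOf g).Coprime p) (hne : ∃ v ∈ P, g * v ≠ v * g) :
    ∀ x ∈ Subgroup.centralizer ({g} : Set G), (∃ k, orderOf x = p ^ k) → x ∈ Subgroup.center G := by
  classical
  obtain ⟨v0, hv0, hv0g⟩ := hne
  have hgZ : g ∉ Subgroup.center G := fun hz => hv0g (Subgroup.mem_center_iff.1 hz v0).symm
  set M := Subgroup.centralizer ({g} : Set G) with hMdef
  have hMco : IsCoatom M := h g hgZ
  have hv0M : v0 ∉ M := fun hm => hv0g (Subgroup.mem_centralizer_singleton_iff.1 hm).symm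
  have hPM : P ⊔ M = ⊤ := hMco.2 _ (lt_of_le_of_ne le_sup_right fun e => hv0M (by
    rw [e]; exact Subgroup.mem_sup_left hv0))
  have hcomm : ∀ d ∈ M, g * d = d * g := fun d hd => (Subgroup.mem_centralizer_singleton_iff.1 hd).symm
  have hMn : ¬ M.Normal := by
    intro hn
    have hgM : g ∈ M := Subgroup.mem_centralizer_singleton_iff.2 rfl
    have hdP : v0⁻¹ * (g * v0 * g⁻¹) ∈ P := mul_mem (inv_mem hv0) (hPn.conj_mem v0 hv0 g)
    refine hv0g (CfsgLib.LocalEven.commute_of_conj_eq_mul hP hdP hgp (by group) (hcomm _ ?_))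
    have h1 := mul_mem (hn.conj_mem g hgM v0⁻¹) (inv_mem hgM)
    rwa [inv_inv, show v0⁻¹ * g * v0 * g⁻¹ = v0⁻¹ * (g * v0 * g⁻¹) by group] at h1
  have hNM : Subgroup.normalizer (M : Set G) = M :=
    ((hMco.le_iff).1 Subgroup.le_normalizer).resolve_left fun e =>
      hMn (Subgroup.normalizer_eq_top_iff.1 e)
  -- no non-central p-element centralises g
  have hpM : ∀ x ∈ M, (∃ k, orderOf x = p ^ k) → x ∈ Subgroup.center G := by
    intro x hx hxk
    by_contra hxZ
    set S := P ⊔ Subgroup.zpowers x with hS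
    have hS2 : IsPGroup p S := by
      obtain ⟨k, hk⟩ := hxk
      exact hP.to_sup_of_normal_left (IsPGroup.of_card (by rw [Nat.card_zpowers, hk]))
    have hlt : (M ⊓ S).subgroupOf S < ⊤ := by
      refine lt_of_le_of_ne le_top fun e => hv0M ?_
      have h1 : (⟨v0, Subgroup.mem_sup_left hv0⟩ : S) ∈ (M ⊓ S).subgroupOf S := by rw [e]; trivial
      exact (Subgroup.mem_subgroupOf.1 h1).1
    haveI := hS2.isNilpotent
    obtain ⟨n, hn, hnM⟩ := SetLike.exists_of_lt (Group.normalizerCondition_of_isNilpotent _ hlt)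
    have hxV : (⟨x, Subgroup.mem_sup_right (Subgroup.mem_zpowers x)⟩ : S) ∈ (M ⊓ S).subgroupOf S :=
      Subgroup.mem_subgroupOf.2 ⟨hx, Subgroup.mem_sup_right (Subgroup.mem_zpowers x)⟩
    have hy := Subgroup.mem_subgroupOf.1 ((Subgroup.mem_normalizer_iff.1 hn _).1 hxV)
    have hyM : (n : G) * x * (n : G)⁻¹ ∈ M := hy.1
    set y := (n : G) * x * (n : G)⁻¹ with hydef
    have hyZ : y ∉ Subgroup.center G := fun hz => hxZ (by
      have h1 := (inferInstance : (Subgroup.center G).Normal).conj_mem _ hz (n : G)⁻¹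
      rwa [hydef, inv_inv, show (n : G)⁻¹ * ((n : G) * x * (n : G)⁻¹) * (n : G) = x by group] at h1)
    have hyo : ∃ k, orderOf y = p ^ k := by
      obtain ⟨k, hk⟩ := hxk
      exact ⟨k, by rw [← hk]; exact (MulAut.conj (n : G)).orderOf_eq x⟩
    have e1 : Subgroup.centralizer ({x} : Set G) = M :=
      centralizer_eq_of_coprime h (Subgroup.mem_centralizer_singleton_iff.1 hx).symm.symm
        (coprime_of_pow hgp hxk) hxZ hgZ
    have e2 : Subgroup.centralizer ({y} : Set G) = M :=
      centralizer_eq_of_coprime h (Subgroup.mem_centralizer_singleton_iff.1 hyM).symm.symm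
        (coprime_of_pow hgp hyo) hyZ hgZ
    have hnN : (n : G) ∈ Subgroup.normalizer (M : Set G) := by
      refine Subgroup.mem_normalizer_iff.2 fun t => ?_
      rw [show (t ∈ M) ↔ t ∈ Subgroup.centralizer ({x} : Set G) by rw [e1],
        show ((n : G) * t * (n : G)⁻¹ ∈ M) ↔ (n : G) * t * (n : G)⁻¹ ∈ Subgroup.centralizer ({y} : Set G) by rw [e2],
        Subgroup.mem_centralizer_singleton_iff, Subgroup.mem_centralizer_singleton_iff, hydef]
      constructor
      · intro ht
        calc (n : G) * t * (n : G)⁻¹ * ((n : G) * x * (n : G)⁻¹) = (n : G) * (t * x) * (n : G)⁻¹ := by group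
          _ = (n : G) * (x * t) * (n : G)⁻¹ := by rw [ht]
          _ = _ := by group
      · intro ht
        calc t * x = (n : G)⁻¹ * ((n : G) * t * (n : G)⁻¹ * ((n : G) * x * (n : G)⁻¹)) * (n : G) := by group
          _ = (n : G)⁻¹ * ((n : G) * x * (n : G)⁻¹ * ((n : G) * t * (n : G)⁻¹)) * (n : G) := by rw [ht]
          _ = _ := by group
    rw [hNM] at hnN
    exact hnM (Subgroup.mem_subgroupOf.2 ⟨hnN, n.2⟩)
  exact hpM

/-- The main case. -/
theorem main_case
    (h : ∀ x : G, x ∉ Subgroup.center G → IsCoatom (Subgroup.centralizer ({x} : Set G)))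
    {p : ℕ} [hp : Fact p.Prime] (P : Subgroup G) [hPn : P.Normal] (hP : IsPGroup p P)
    {g : G} (hgp : (orderOf g).Coprime p) (hne : ∃ v ∈ P, g * v ≠ v * g) :
    ¬ IsMulCommutative (G ⧸ Subgroup.center G) ∧
      (∀ H : Subgroup (G ⧸ Subgroup.center G), H ≠ ⊤ → IsMulCommutative ↥H) ∧
      ∃ p q a : ℕ, p.Prime ∧ q.Prime ∧ p ≠ q ∧ Nat.card (G ⧸ Subgroup.center G) = p ^ a * q ∧
        ∀ P : Subgroup (G ⧸ Subgroup.center G), Nat.card ↥P = p ^ a → P.Normal := by
  classical
  obtain ⟨v0, hv0, hv0g⟩ := hne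
  have hgZ : g ∉ Subgroup.center G := fun hz => hv0g (Subgroup.mem_center_iff.1 hz v0).symm
  set M := Subgroup.centralizer ({g} : Set G) with hMdef
  have hMco : IsCoatom M := h g hgZ
  have hv0M : v0 ∉ M := fun hm => hv0g (Subgroup.mem_centralizer_singleton_iff.1 hm).symm
  have hPM : P ⊔ M = ⊤ := hMco.2 _ (lt_of_le_of_ne le_sup_right fun e => hv0M (by
    rw [e]; exact Subgroup.mem_sup_left hv0))
  have hcomm : ∀ d ∈ M, g * d = d * g := fun d hd => (Subgroup.mem_centralizer_singleton_iff.1 hd).symm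
  have hpM := central_of_moves h P hP hgp ⟨v0, hv0, hv0g⟩
  have hW : ∀ v ∈ P, v ∈ M → v ∈ Subgroup.center G := fun v hv hvM =>
    hpM v hvM (orderOf_pow_prime hP hv)
  -- non-central p'-elements of M
  have hMab : ∀ x ∈ M, (orderOf x).Coprime p → x ∉ Subgroup.center G →
      Subgroup.centralizer ({x} : Set G) = M ∧ ¬ P ≤ Subgroup.centralizer ({x} : Set G) := by
    intro x hx hxp hxZ
    have hnot : ¬ P ≤ Subgroup.centralizer ({x} : Set G) := by
      intro hle
      have hv0Z : v0 ∉ Subgroup.center G := fun hz => hv0g (Subgroup.mem_center_iff.1 hz g)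
      have e := centralizer_eq_of_coprime h (Subgroup.mem_centralizer_singleton_iff.1 (hle hv0))
        (coprime_of_pow hxp (orderOf_pow_prime hP hv0)) hv0Z hxZ
      have hgx : g ∈ Subgroup.centralizer ({x} : Set G) :=
        Subgroup.mem_centralizer_singleton_iff.2 (hcomm x hx)
      rw [← e, Subgroup.mem_centralizer_singleton_iff] at hgx
      exact hv0g hgx
    refine ⟨((hMco.le_iff).1 ?_).resolve_left (h x hxZ).1, hnot⟩
    intro t ht
    have htop : P ⊔ Subgroup.centralizer ({x} : Set G) = ⊤ :=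
      (h x hxZ).2 _ (lt_of_le_of_ne le_sup_right fun e => hnot (le_sup_left.trans e.ge))
    obtain ⟨v, hv, c, hc, rfl⟩ := CfsgLib.Solvable.exists_mul_of_mem_sup
      (K := P) (A := Subgroup.centralizer ({x} : Set G)) Subgroup.le_normalizer_of_normal
      (show t ∈ P ⊔ Subgroup.centralizer ({x} : Set G) by rw [htop]; trivial)
    set w := x⁻¹ * (v * x * v⁻¹) with hw
    have hwP : w ∈ P := by
      rw [hw, show x⁻¹ * (v * x * v⁻¹) = (x⁻¹ * v * x⁻¹⁻¹) * v⁻¹ by group]
      exact mul_mem (hPn.conj_mem v hv _) (inv_mem hv)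
    have hcx : c * x = x * c := Subgroup.mem_centralizer_singleton_iff.1 hc
    have e : v * c * x * (v * c)⁻¹ = v * x * v⁻¹ := by
      calc v * c * x * (v * c)⁻¹ = v * (c * x) * c⁻¹ * v⁻¹ := by group
        _ = v * (x * c) * c⁻¹ * v⁻¹ := by rw [hcx]
        _ = _ := by group
    have hwM : w ∈ M := by
      rw [hw, ← e]
      exact Subgroup.mul_mem _ (Subgroup.inv_mem _ hx)
        (Subgroup.mul_mem _ (Subgroup.mul_mem _ ht hx) (Subgroup.inv_mem _ ht))
    have hwc : Commute x w := Subgroup.mem_center_iff.1 (hW w hwP hwM) x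
    have h1 : v * x * v⁻¹ = x * w := by rw [hw]; group
    have hw1 : w = 1 := by
      have h2 : (v * x * v⁻¹) ^ orderOf x = 1 := by
        rw [conj_pow, pow_orderOf_eq_one, mul_one, mul_inv_cancel]
      rw [h1, hwc.mul_pow, pow_orderOf_eq_one, one_mul] at h2
      exact orderOf_eq_one_iff.1 (Nat.eq_one_of_dvd_coprimes
        (coprime_of_pow hxp (orderOf_pow_prime hP hwP)) dvd_rfl (orderOf_dvd_of_pow_eq_one h2))
    rw [hw1, mul_one] at h1
    exact Subgroup.mem_centralizer_singleton_iff.2 (mul_inv_eq_iff_eq_mul.1 (e.trans h1))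
  have hWP : ∃ v ∈ P, v ∉ Subgroup.center G := ⟨v0, hv0, fun hz => hv0g (Subgroup.mem_center_iff.1 hz g)⟩
  -- p'-elements centralising a non-central element of P are central
  have hcross : ∀ v ∈ P, v ∉ Subgroup.center G → ∀ b : G, (orderOf b).Coprime p → b * v = v * b →
      b ∈ Subgroup.center G := by
    intro v hv hvZ b hb hbv
    by_contra hbZ
    have hPb : P ≤ Subgroup.centralizer ({b} : Set G) := by
      intro t ht
      rw [Subgroup.mem_centralizer_singleton_iff]
      by_contra hne'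
      exact hvZ (central_of_moves h P hP hb ⟨t, ht, fun e => hne' e.symm⟩ v
        (Subgroup.mem_centralizer_singleton_iff.2 hbv.symm) (orderOf_pow_prime hP hv))
    have hPab : ∀ u ∈ P, ∀ t ∈ P, t * u = u * t := by
      intro u hu t ht
      by_cases huZ : u ∈ Subgroup.center G
      · exact Subgroup.mem_center_iff.1 huZ t
      · have e := centralizer_eq_of_coprime h (Subgroup.mem_centralizer_singleton_iff.1 (hPb hu))
          (coprime_of_pow hb (orderOf_pow_prime hP hu)) huZ hbZ
        exact Subgroup.mem_centralizer_singleton_iff.1 (e.ge (hPb ht))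
    obtain ⟨v', hv', m, hm, e⟩ := CfsgLib.Solvable.exists_mul_of_mem_sup
      (K := P) (A := M) Subgroup.le_normalizer_of_normal
      (show b ∈ P ⊔ M by rw [hPM]; trivial)
    have hmP : ∀ t ∈ P, Commute t m := fun t ht => by
      have h1 : Commute t b := Subgroup.mem_centralizer_singleton_iff.1 (hPb ht)
      have h2 : Commute t v' := hPab v' hv' t ht
      have h3 : m = v'⁻¹ * b := by rw [e]; group
      rw [h3]
      exact h2.inv_right.mul_right h1
    obtain ⟨a1, b1, hab1, ⟨i1, hi1⟩, ⟨i2, hi2⟩, ha1, hb1⟩ := exists_parts' (p := p) m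
    have hb1Z : b1 ∈ Subgroup.center G := by
      by_contra hb1Z
      refine (hMab b1 (hi2 ▸ pow_mem hm i2) hb1 hb1Z).2 fun t ht => ?_
      rw [Subgroup.mem_centralizer_singleton_iff, ← hi2]
      exact ((hmP t ht).pow_right i2).eq
    have hmZ : m ∈ Subgroup.center G :=
      hab1 ▸ mul_mem (hpM a1 (hi1 ▸ pow_mem hm i1) ha1) hb1Z
    obtain ⟨k, hk⟩ := orderOf_pow_prime hP hv'
    apply hbZ
    refine mem_center_of_pow b (n := p ^ k) (hb.pow_right k) ?_
    rw [e, (show Commute v' m from hmP v' hv').mul_pow, ← hk, pow_orderOf_eq_one, one_mul]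
    exact pow_mem hmZ _
  -- centralisers of non-central elements of P are equal to P Z
  set F := P ⊔ Subgroup.center G with hF
  haveI hFn : F.Normal := inferInstance
  have hgF : g ∉ F := by
    intro hgF
    obtain ⟨v, hv, z, hz, e⟩ := CfsgLib.Solvable.exists_mul_of_mem_sup
      (K := P) (A := Subgroup.center G) Subgroup.le_normalizer_of_normal hgF
    obtain ⟨k, hk⟩ := orderOf_pow_prime hP hv
    refine hgZ (mem_center_of_pow g (n := p ^ k) (hgp.pow_right k) ?_)
    rw [e, (show Commute v z from Subgroup.mem_center_iff.1 hz v).mul_pow, ← hk, pow_orderOf_eq_one, one_mul]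
    exact pow_mem hz _
  have hCu : ∀ u ∈ P, u ∉ Subgroup.center G → Subgroup.centralizer ({u} : Set G) = F := by
    intro u hu huZ
    refine ((((h u huZ).le_iff).1 ?_).resolve_left (fun e => hgF (by rw [e]; exact Subgroup.mem_top g))).symm
    intro x hx
    obtain ⟨a1, b1, hab1, ⟨i1, hi1⟩, ⟨i2, hi2⟩, ha1, hb1⟩ := exists_parts' (p := p) x
    have hb1Z : b1 ∈ Subgroup.center G := hcross u hu huZ b1 hb1
      (Subgroup.mem_centralizer_singleton_iff.1 (hi2 ▸ pow_mem hx i2))
    rw [← hab1]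
    refine mul_mem ?_ (Subgroup.mem_sup_right hb1Z)
    obtain ⟨v, hv, m, hm, e⟩ := CfsgLib.Solvable.exists_mul_of_mem_sup
      (K := P) (A := M) Subgroup.le_normalizer_of_normal (show a1 ∈ P ⊔ M by rw [hPM]; trivial)
    rw [e]
    refine mul_mem (Subgroup.mem_sup_left hv) (Subgroup.mem_sup_right ?_)
    obtain ⟨a2, b2, hab2, ⟨j1, hj1⟩, ⟨j2, hj2⟩, ha2, hb2⟩ := exists_parts' (p := p) m
    rw [← hab2]
    refine mul_mem (hpM a2 (hj1 ▸ pow_mem hm j1) ha2) ?_
    obtain ⟨k, hk⟩ := ha1
    have h1 : (QuotientGroup.mk' P m) ^ (p ^ k) = 1 := by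
      have h2 : QuotientGroup.mk' P a1 = QuotientGroup.mk' P m := by
        rw [e, map_mul, (show QuotientGroup.mk' P v = 1 from (QuotientGroup.eq_one_iff v).2 hv), one_mul]
      rw [← h2, ← map_pow, ← hk, pow_orderOf_eq_one, map_one]
    have h3 : m ^ (p ^ k) ∈ P := by
      rw [← map_pow] at h1
      exact (QuotientGroup.eq_one_iff _).1 h1
    have h4 : m ^ (p ^ k) ∈ Subgroup.center G := hW _ h3 (pow_mem hm _)
    refine mem_center_of_pow b2 (n := p ^ k) (hb2.pow_right k) ?_
    rw [← hj2, ← pow_mul, mul_comm, pow_mul]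
    exact pow_mem h4 _
  have hFco : IsCoatom F := by
    obtain ⟨u, hu, huZ⟩ := hWP
    exact hCu u hu huZ ▸ h u huZ
  have hFab : ∀ x ∈ F, ∀ y ∈ F, x * y = y * x := by
    have hPab : ∀ u ∈ P, ∀ t ∈ P, t * u = u * t := by
      intro u hu t ht
      by_cases huZ : u ∈ Subgroup.center G
      · exact Subgroup.mem_center_iff.1 huZ t
      · exact Subgroup.mem_centralizer_singleton_iff.1 ((hCu u hu huZ).ge (Subgroup.mem_sup_left ht))
    intro x hx y hy
    obtain ⟨v, hv, z, hz, rfl⟩ := CfsgLib.Solvable.exists_mul_of_mem_sup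
      (K := P) (A := Subgroup.center G) Subgroup.le_normalizer_of_normal hx
    obtain ⟨v', hv', z', hz', rfl⟩ := CfsgLib.Solvable.exists_mul_of_mem_sup
      (K := P) (A := Subgroup.center G) Subgroup.le_normalizer_of_normal hy
    exact (((show Commute v v' from hPab v' hv' v hv).mul_right (Subgroup.mem_center_iff.1 hz' v)).mul_left
      (show Commute z (v' * z') from (Subgroup.mem_center_iff.1 hz _).symm)).eq
  have hq : F.index.Prime := Cfsg.Agent.S4262.index_prime_of_normal_coatom F hFco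
  have hqp : p ≠ F.index := by
    intro e
    apply hgF
    rw [← QuotientGroup.eq_one_iff, ← orderOf_eq_one_iff]
    refine Nat.eq_one_of_dvd_coprimes hgp (orderOf_map_dvd (QuotientGroup.mk' F) g) ?_
    rw [e, Subgroup.index_eq_card]
    exact orderOf_dvd_natCard _
  let π := QuotientGroup.mk' (Subgroup.center G)
  have hπ : Function.Surjective π := QuotientGroup.mk'_surjective _
  have hker : π.ker = Subgroup.center G := QuotientGroup.ker_mk' _
  set F' := F.map π with hF'
  haveI hF'n : F'.Normal := hFn.map π hπ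
  have hidx : F'.index = F.index :=
    Subgroup.index_map_eq F hπ (by rw [hker]; exact le_sup_right)
  have hF'p : IsPGroup p F' := by
    rintro ⟨_, x, hx, rfl⟩
    obtain ⟨v, hv, z, hz, rfl⟩ := CfsgLib.Solvable.exists_mul_of_mem_sup
      (K := P) (A := Subgroup.center G) Subgroup.le_normalizer_of_normal hx
    obtain ⟨k, hk⟩ := orderOf_pow_prime hP hv
    refine ⟨k, Subtype.ext ?_⟩
    show π (v * z) ^ (p ^ k) = 1
    rw [map_mul, (show π z = 1 from (QuotientGroup.eq_one_iff z).2 hz), mul_one, ← map_pow, ← hk,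
      pow_orderOf_eq_one, map_one]
  obtain ⟨a, ha⟩ := hF'p.exists_card_eq
  refine ⟨?_, ?_, p, F.index, a, hp.out, hq, hqp, ?_, ?_⟩
  · intro hQ
    refine hv0g ?_
    have h1 : π (v0⁻¹ * (g * v0 * g⁻¹)) = 1 := by
      rw [map_mul, map_mul, map_mul, map_inv, map_inv, mul_comm' (π g) (π v0)]
      group
    exact CfsgLib.LocalEven.commute_of_conj_eq_mul hP (mul_mem (inv_mem hv0) (hPn.conj_mem v0 hv0 g)) hgp
      (by group) (Subgroup.mem_center_iff.1 ((QuotientGroup.eq_one_iff _).1 h1) g)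
  · intro H hH
    set K := H.comap π with hK
    have hZK : Subgroup.center G ≤ K := hker ▸ Subgroup.ker_le_comap π H
    have hKtop : K ≠ ⊤ := fun e => hH (by
      rw [← Subgroup.map_comap_eq_self_of_surjective hπ H, ← hK, e, Subgroup.map_top_of_surjective π hπ])
    have hHK : K.map π = H := Subgroup.map_comap_eq_self_of_surjective hπ H
    suffices hs : ∀ x ∈ K, ∀ y ∈ K, π x * π y = π y * π x by
      refine ⟨⟨fun x y => Subtype.ext ?_⟩⟩
      obtain ⟨x', hx', ex⟩ := hHK.ge x.2
      obtain ⟨y', hy', ey⟩ := hHK.ge y.2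
      show (x : G ⧸ Subgroup.center G) * y = y * x
      rw [← ex, ← ey]
      exact hs x' hx' y' hy'
    by_cases hKF : K ≤ F
    · intro x hx y hy
      rw [← map_mul, ← map_mul, hFab x (hKF hx) y (hKF hy)]
    have hKF' : F ⊔ K = ⊤ := hFco.2 _ (lt_of_le_of_ne le_sup_left fun e => hKF (le_sup_right.trans e.ge))
    set X := P ⊓ K with hX
    by_cases hXZ : X ≤ Subgroup.center G
    · have hinj : ∀ x ∈ K, x ∈ F → x ∈ Subgroup.center G := by
        intro x hx hxF
        obtain ⟨v, hv, z, hz, rfl⟩ := CfsgLib.Solvable.exists_mul_of_mem_sup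
          (K := P) (A := Subgroup.center G) Subgroup.le_normalizer_of_normal hxF
        refine mul_mem (hXZ ⟨hv, ?_⟩) hz
        have := mul_mem hx (inv_mem (hZK hz))
        rwa [mul_inv_cancel_right] at this
      haveI : Fact F.index.Prime := ⟨hq⟩
      haveI hcy : IsCyclic (G ⧸ F) := isCyclic_of_prime_card (p := F.index) rfl
      intro x hx y hy
      rw [← commutatorElement_eq_one_iff_mul_comm, ← map_commutatorElement]
      refine (QuotientGroup.eq_one_iff _).2 (hinj _ ?_ ?_)
      · exact mul_mem (mul_mem (mul_mem hx hy) (inv_mem hx)) (inv_mem hy)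
      · rw [← QuotientGroup.eq_one_iff]
        show QuotientGroup.mk' F ⁅x, y⁆ = 1
        rw [map_commutatorElement, commutatorElement_eq_one_iff_mul_comm]
        haveI := hcy.isMulCommutative
        exact mul_comm' _ _
    · exfalso
      obtain ⟨u, huX, huZ⟩ := SetLike.not_le_iff_exists.1 hXZ
      haveI hXn : X.Normal := by
        rw [← Subgroup.normalizer_eq_top_iff, eq_top_iff, ← hKF']
        refine sup_le (fun t ht => Subgroup.mem_normalizer_iff.2 fun y => ?_) ?_
        · have e : ∀ y ∈ F, t * y * t⁻¹ = y := fun y hy => by rw [hFab t ht y hy, mul_inv_cancel_right]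
          constructor
          · intro hy
            rw [e y (Subgroup.mem_sup_left hy.1)]; exact hy
          · intro hy
            have hyP : y ∈ P := by
              have := hPn.conj_mem _ hy.1 t⁻¹
              rwa [inv_inv, show t⁻¹ * (t * y * t⁻¹) * t = y by group] at this
            rwa [e y (Subgroup.mem_sup_left hyP)] at hy
        · exact CfsgLib.Solvable.le_normalizer_of_conj_mem fun t ht y hy =>
            ⟨hPn.conj_mem y hy.1 t, Subgroup.mul_mem _ (Subgroup.mul_mem _ ht hy.2) (Subgroup.inv_mem _ ht)⟩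
      have hXM : X ⊔ M = ⊤ := hMco.2 _ (lt_of_le_of_ne le_sup_right fun e =>
        huZ (hW u huX.1 (e.ge (Subgroup.mem_sup_left huX))))
      have hPK : P ≤ K := by
        intro v hv
        obtain ⟨y, hy, m, hm, e⟩ := CfsgLib.Solvable.exists_mul_of_mem_sup
          (K := X) (A := M) Subgroup.le_normalizer_of_normal (show v ∈ X ⊔ M by rw [hXM]; trivial)
        rw [e]
        refine mul_mem hy.2 (hZK (hW m ?_ hm))
        have := Subgroup.mul_mem _ (Subgroup.inv_mem _ hy.1) hv
        rwa [e, inv_mul_cancel_left] at this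
      exact hKtop (top_le_iff.1 (hKF'.ge.trans (sup_le (sup_le hPK hZK) le_rfl)))
  · rw [← Subgroup.card_mul_index F', hidx, ha]
  · intro H hH
    have hle : H ≤ F' := by
      intro x hx
      rw [← QuotientGroup.eq_one_iff, ← orderOf_eq_one_iff]
      have d1 : orderOf (x : (G ⧸ Subgroup.center G) ⧸ F') ∣ p ^ a :=
        (orderOf_map_dvd (QuotientGroup.mk' F') x).trans (hH ▸ Subgroup.orderOf_dvd_natCard _ hx)
      have d2 : orderOf (x : (G ⧸ Subgroup.center G) ⧸ F') ∣ F.index := by
        rw [← hidx, Subgroup.index_eq_card]; exact orderOf_dvd_natCard _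
      exact Nat.eq_one_of_dvd_coprimes (((Nat.coprime_primes hp.out hq).2 hqp).pow_left a) d1 d2
    rw [Subgroup.eq_of_le_of_card_ge hle (le_of_eq (by rw [ha, hH]))]
    exact hF'n

/-- Let G be a non-abelian finite group in which the centralizer of every non-central element is a maximal subgroup. Then G/Z(G) is either an elementary abelian p-group for some prime p, or a minimal non-abelian group (non-abelian with all proper subgroups abelian) of order p^a · q for distinct primes p, q with a normal Sylow p-subgroup. -/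
theorem result {G : Type*} [Group G] [Finite G] (hna : ¬ IsMulCommutative G)
    (h : ∀ x : G, x ∉ Subgroup.center G → IsCoatom (Subgroup.centralizer ({x} : Set G))) :
    (∃ p : ℕ, p.Prime ∧ Cfsg.IsElementaryAbelian p (⊤ : Subgroup (G ⧸ Subgroup.center G))) ∨
    (¬ IsMulCommutative (G ⧸ Subgroup.center G) ∧ (∀ H : Subgroup (G ⧸ Subgroup.center G), H ≠ ⊤ → IsMulCommutative ↥H) ∧
      ∃ p q a : ℕ, p.Prime ∧ q.Prime ∧ p ≠ q ∧ Nat.card (G ⧸ Subgroup.center G) = p ^ a * q ∧
        ∀ P : Subgroup (G ⧸ Subgroup.center G), Nat.card ↥P = p ^ a → P.Normal) := by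
  classical
  by_cases hcase : ∃ (p : ℕ) (_ : Fact p.Prime) (P : Subgroup G) (_ : P.Normal) (g : G),
      IsPGroup p P ∧ (orderOf g).Coprime p ∧ ∃ v ∈ P, g * v ≠ v * g
  · obtain ⟨p, hp, P, hPn, g, hP, hg, hne⟩ := hcase
    exact Or.inr (main_case h P hP hg hne)
  left
  push Not at hcase
  haveI : Group.IsSolvable G := Cfsg.Agent.S4262.result h
  have hZtop : Subgroup.center G ≠ ⊤ := fun e => hna ⟨⟨fun x y =>
    Subgroup.mem_center_iff.1 (e ▸ Subgroup.mem_top y) x⟩⟩
  have hFZ : ¬ Cfsg.fittingSubgroup G ≤ Subgroup.center G := by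
    intro hle
    apply hZtop
    refine top_le_iff.1 (le_trans (fun x _ => ?_) hle)
    exact CfsgLib.Solvable.centralizer_fittingSubgroup_le
      (Subgroup.mem_centralizer_iff.2 fun y hy => (Subgroup.mem_center_iff.1 (hle hy) x).symm)
  rw [CfsgLib.Cores.fittingSubgroup_eq_iSup_pCore] at hFZ
  obtain ⟨⟨p, hpm⟩, hPZ⟩ := not_forall.1 fun hall => hFZ (iSup_le hall)
  haveI hpf : Fact p.Prime := ⟨Nat.prime_of_mem_primeFactors hpm⟩
  have hp : p.Prime := hpf.out
  haveI : (Cfsg.pCore p G).Normal := Subgroup.sSup_normal _ fun N hN => hN.1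
  have hPp : IsPGroup p (Cfsg.pCore p G) := CfsgLib.Cores.isPGroup_pCore p
  obtain ⟨u, hu, huZ⟩ := SetLike.not_le_iff_exists.1 hPZ
  have hCg : ∀ g : G, (orderOf g).Coprime p → g ∉ Subgroup.center G →
      Subgroup.centralizer ({g} : Set G) = Subgroup.centralizer ({u} : Set G) := fun g hg hgZ =>
    centralizer_eq_of_coprime h (show Commute g u from hcase p hpf (Cfsg.pCore p G) inferInstance g hPp hg u hu)
      (coprime_of_pow hg (orderOf_pow_prime hPp hu)).symm hgZ huZ
  have hp' : ∀ g : G, (orderOf g).Coprime p → g ∈ Subgroup.center G := by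
    intro g hg
    by_contra hgZ
    obtain ⟨q, hq, hqd⟩ := Nat.exists_prime_and_dvd
      (show orderOf (g : G ⧸ Subgroup.center G) ≠ 1 from fun e =>
        hgZ ((QuotientGroup.eq_one_iff g).1 (orderOf_eq_one_iff.1 e)))
    haveI hqf : Fact q.Prime := ⟨hq⟩
    have hqp : q.Coprime p := hg.coprime_dvd_left (hqd.trans (orderOf_map_dvd (QuotientGroup.mk' _) g))
    obtain ⟨a, b, hab, -, ⟨i, hi⟩, ⟨k, hk⟩, hb⟩ := exists_parts' (p := q) g
    have haZ : a ∉ Subgroup.center G := fun haz => by
      have h1 : (g : G ⧸ Subgroup.center G) = (b : G ⧸ Subgroup.center G) := by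
        rw [← hab, QuotientGroup.mk_mul, (QuotientGroup.eq_one_iff a).2 haz, one_mul]
      rw [h1] at hqd
      exact hq.ne_one (Nat.eq_one_of_dvd_coprimes hb.symm dvd_rfl
        (hqd.trans (orderOf_map_dvd (QuotientGroup.mk' _) b)))
    have hap : ∀ c : G, (orderOf (c * a * c⁻¹)).Coprime p ∧ (c * a * c⁻¹) ^ (q ^ k) = 1 := fun c => by
      have e : orderOf (c * a * c⁻¹) = q ^ k := ((MulAut.conj c).orderOf_eq a).trans hk
      exact ⟨e ▸ hqp.pow_left k, e ▸ pow_orderOf_eq_one _⟩
    have hconjZ : ∀ c : G, c * a * c⁻¹ ∉ Subgroup.center G := fun c hz => haZ (by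
      have := (inferInstance : (Subgroup.center G).Normal).conj_mem _ hz c⁻¹
      rwa [inv_inv, show c⁻¹ * (c * a * c⁻¹) * c = a by group] at this)
    set Q := Subgroup.normalClosure ({a} : Set G) with hQ
    have hQgen : ∀ x ∈ Group.conjugatesOfSet ({a} : Set G), ∃ c : G, c * a * c⁻¹ = x := by
      intro x hx
      obtain ⟨y, hy, hyx⟩ := Group.mem_conjugatesOfSet_iff.1 hx
      rw [Set.mem_singleton_iff] at hy
      exact isConj_iff.1 (hy ▸ hyx)
    have hQu : Q ≤ Subgroup.centralizer (Q : Set G) := by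
      rw [hQ]
      refine (Subgroup.closure_le _).2 fun x hx => ?_
      rw [SetLike.mem_coe, Subgroup.mem_centralizer_iff]
      intro y hy
      have hsub : Subgroup.normalClosure ({a} : Set G) ≤ Subgroup.centralizer ({x} : Set G) := by
        refine (Subgroup.closure_le _).2 fun z hz => ?_
        obtain ⟨c, rfl⟩ := hQgen x hx
        obtain ⟨d, rfl⟩ := hQgen z hz
        rw [SetLike.mem_coe, hCg _ (hap c).1 (hconjZ c), ← hCg _ (hap d).1 (hconjZ d)]
        exact Subgroup.mem_centralizer_singleton_iff.2 rfl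
      exact Subgroup.mem_centralizer_singleton_iff.1 (hsub hy)
    have hQq : IsPGroup q Q := by
      intro x
      refine ⟨k, Subtype.ext ?_⟩
      show (x : G) ^ (q ^ k) = 1
      have hx := x.2
      refine (Subgroup.closure_induction (p := fun z hz => z ^ (q ^ k) = 1) ?_ (one_pow _) ?_ ?_ hx :)
      · intro z hz
        obtain ⟨c, rfl⟩ := hQgen z hz
        exact (hap c).2
      · intro z w hz hw h1 h2
        have hzw : Commute w z := Subgroup.mem_centralizer_iff.1 (hQu hz) w hw
        rw [hzw.symm.mul_pow, h1, h2, one_mul]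
      · intro z _ h1
        rw [inv_pow, h1, inv_one]
    refine (h a haZ).1 (Subgroup.eq_top_iff' _ |>.2 fun t => ?_)
    obtain ⟨a', b', hab', -, -, ⟨k', hk'⟩, hb'⟩ := exists_parts' (p := q) t
    rw [← hab']
    have haQ : a ∈ Q := Subgroup.subset_normalClosure rfl
    refine mul_mem ?_ (Subgroup.mem_centralizer_singleton_iff.2
      (hcase q hqf Q Subgroup.normalClosure_normal b' hQq hb' a haQ))
    have ha'p : (orderOf a').Coprime p := hk' ▸ hqp.pow_left k'
    by_cases ha'Z : a' ∈ Subgroup.center G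
    · exact Subgroup.center_le_centralizer _ ha'Z
    · have hmem : a' ∈ Subgroup.centralizer ({a'} : Set G) := Subgroup.mem_centralizer_singleton_iff.2 rfl
      have hap1 : (orderOf a).Coprime p := hk ▸ hqp.pow_left k
      rw [hCg a hap1 haZ, ← hCg a' ha'p ha'Z]
      exact hmem
  refine ⟨p, hp, ?_⟩
  set Q := G ⧸ Subgroup.center G
  have hQp : IsPGroup p Q := by
    intro x
    obtain ⟨x, rfl⟩ := QuotientGroup.mk'_surjective _ x
    obtain ⟨a, b, hab, -, -, ⟨k, hk⟩, hb⟩ := exists_parts' (p := p) x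
    refine ⟨k, ?_⟩
    rw [← hab, map_mul, (show QuotientGroup.mk' (Subgroup.center G) b = 1 from (QuotientGroup.eq_one_iff b).2 (hp' b hb)),
      mul_one, ← map_pow, ← hk, pow_orderOf_eq_one, map_one]
  have hker : (QuotientGroup.mk' (Subgroup.center G)).ker = Subgroup.center G := QuotientGroup.ker_mk' _
  have hco : ∀ w : G, w ∉ Subgroup.center G →
      IsCoatom ((Subgroup.centralizer ({w} : Set G)).map (QuotientGroup.mk' (Subgroup.center G))) := by
    intro w hw
    have hle : Subgroup.center G ≤ Subgroup.centralizer ({w} : Set G) := Subgroup.center_le_centralizer _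
    have hback : ((Subgroup.centralizer ({w} : Set G)).map (QuotientGroup.mk' (Subgroup.center G))).comap
        (QuotientGroup.mk' (Subgroup.center G)) = Subgroup.centralizer ({w} : Set G) :=
      Subgroup.comap_map_eq_self (hker.symm ▸ hle)
    refine ⟨fun e => (h w hw).1 (by rw [← hback, e, Subgroup.comap_top]), fun B hB => ?_⟩
    have h1 := (h w hw).2 (B.comap (QuotientGroup.mk' (Subgroup.center G))) (hback ▸
      (Subgroup.comap_lt_comap_of_surjective (QuotientGroup.mk'_surjective _)).2 hB)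
    rw [← Subgroup.map_comap_eq_self_of_surjective (QuotientGroup.mk'_surjective _) B, h1,
      Subgroup.map_top_of_surjective _ (QuotientGroup.mk'_surjective _)]
  have key : ∀ z : Q, (∀ M : Subgroup Q, IsCoatom M → z ∈ M) → z = 1 := by
    intro z hz
    obtain ⟨z, rfl⟩ := QuotientGroup.mk'_surjective _ z
    refine (QuotientGroup.eq_one_iff z).2 (Subgroup.mem_center_iff.2 fun w => ?_)
    by_cases hw : w ∈ Subgroup.center G
    · exact (Subgroup.mem_center_iff.1 hw z).symm
    · have h2 := hz _ (hco w hw)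
      have h3 : z ∈ Subgroup.centralizer ({w} : Set G) := by
        rw [← Subgroup.comap_map_eq_self (hker.symm ▸ Subgroup.center_le_centralizer _ :
          (QuotientGroup.mk' (Subgroup.center G)).ker ≤ Subgroup.centralizer ({w} : Set G))]
        exact h2
      exact (Subgroup.mem_centralizer_singleton_iff.1 h3).symm
  refine ⟨⟨⟨fun x y => Subtype.ext ?_⟩⟩, fun x _ => key _ fun M hM => CfsgLib.PGroup.pow_mem_of_isCoatom hQp hM x⟩
  show (x : Q) * y = y * x
  rw [← commutatorElement_eq_one_iff_mul_comm]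
  exact key _ fun M hM => CfsgLib.PGroup.commutator_le_of_isCoatom hQp hM
    (Subgroup.commutator_mem_commutator (Subgroup.mem_top _) (Subgroup.mem_top _))

end Cfsg.Agent.S3904
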