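import Cfsg.Statements.S3905
import Mathlib
import Cfsg.Agent.Lib.Transfer.Frobenius
import Cfsg.Agent.Lib.PStab.Complement
import Cfsg.Agent.Lib.PGroup.OneInvolutionClass
import Cfsg.Agent.Lib.Solvable.Frobenius

set_option autoImplicit false
set_option linter.style.haveILetI false
open Cfsg

namespace Cfsg.Agent.S3905

open Subgroup
open scoped commutatorElement

universe u

section
variable {G : Type u} [Group G] [Finite G]

/-- Elements of prime power order generate. -/
theorem eq_top_of_primePow_mem {H : Subgroup G}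
    (h : ∀ p : ℕ, p.Prime → ∀ x : G, (∃ j, x ^ p ^ j = 1) → x ∈ H) : H = ⊤ := by
  refine eq_top_of_card_eq H (Nat.dvd_antisymm (card_subgroup_dvd_card H) ?_)
  rw [← Nat.factorization_le_iff_dvd Nat.card_pos.ne' Nat.card_pos.ne', Finsupp.le_iff]
  intro p hp
  haveI := Fact.mk (Nat.prime_of_mem_primeFactors hp)
  obtain ⟨P⟩ : Nonempty (Sylow p G) := inferInstance
  have hle : (P : Subgroup G) ≤ H := fun x hx => by
    obtain ⟨j, hj⟩ := P.2 ⟨x, hx⟩
    exact h p Fact.out x ⟨j, congrArg Subtype.val hj⟩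
  have h1 := card_dvd_of_le hle
  rw [P.card_eq_multiplicity] at h1
  exact ((Nat.Prime.pow_dvd_iff_le_factorization Fact.out Nat.card_pos.ne').1 h1)

/-- Splitting into the `p`-part and the `p'`-part. -/
theorem exists_split (p : ℕ) [hp : Fact p.Prime] (g : G) :
    ∃ u v : G, u ∈ zpowers g ∧ v ∈ zpowers g ∧ g = u * v ∧ (∃ j, u ^ p ^ j = 1) ∧ (orderOf v).Coprime p := by
  obtain ⟨a, m, hm, he⟩ := Nat.exists_eq_pow_mul_and_not_dvd (orderOf_pos g).ne' p hp.out.ne_one
  have hcop : (p ^ a).Coprime m := Nat.Coprime.pow_left _ (hp.out.coprime_iff_not_dvd.2 hm)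
  obtain ⟨A, B, hAB⟩ : ∃ A B : ℤ, (p : ℤ) ^ a * A + (m : ℤ) * B = 1 := by
    refine ⟨Nat.gcdA (p ^ a) m, Nat.gcdB (p ^ a) m, ?_⟩
    have := Nat.gcd_eq_gcd_ab (p ^ a) m
    rw [hcop.gcd_eq_one] at this
    push_cast at this
    exact this.symm
  have hord : g ^ ((p : ℤ) ^ a * (m : ℤ)) = 1 := by
    rw [show (p : ℤ) ^ a * (m : ℤ) = ((orderOf g : ℕ) : ℤ) by rw [he]; push_cast; ring, zpow_natCast,
      pow_orderOf_eq_one]
  refine ⟨g ^ ((m : ℤ) * B), g ^ ((p : ℤ) ^ a * A), ⟨_, rfl⟩, ⟨_, rfl⟩, ?_, ⟨a, ?_⟩, ?_⟩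
  · rw [← zpow_add, add_comm, hAB, zpow_one]
  · rw [← zpow_natCast, ← zpow_mul,
      show (m : ℤ) * B * ((p ^ a : ℕ) : ℤ) = (p : ℤ) ^ a * m * B by push_cast; ring, zpow_mul, hord,
      one_zpow]
  · refine Nat.Coprime.coprime_dvd_left (orderOf_dvd_of_pow_eq_one (n := m) ?_)
      (hp.out.coprime_iff_not_dvd.2 hm).symm
    rw [← zpow_natCast, ← zpow_mul, show (p : ℤ) ^ a * A * (m : ℤ) = (p : ℤ) ^ a * m * A by ring,
      zpow_mul, hord, one_zpow]

theorem coprime_of_pow_eq_one {p : ℕ} {x y : G} (hx : ∃ j, x ^ p ^ j = 1)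
    (hy : (orderOf y).Coprime p) : (orderOf x).Coprime (orderOf y) := by
  obtain ⟨j, hj⟩ := hx
  exact Nat.Coprime.coprime_dvd_left (orderOf_dvd_of_pow_eq_one hj) (Nat.Coprime.pow_left _ hy.symm)

theorem eq_one_of_pow_coprime {p : ℕ} {x : G} (hx : ∃ j, x ^ p ^ j = 1) {m : ℕ} (hm : m.Coprime p)
    (h : x ^ m = 1) : x = 1 := by
  obtain ⟨j, hj⟩ := hx
  exact orderOf_eq_one_iff.1 (Nat.eq_one_of_dvd_coprimes (Nat.Coprime.pow_right j hm)
    (orderOf_dvd_of_pow_eq_one h) (orderOf_dvd_of_pow_eq_one hj))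

theorem mem_of_pow_coprime {p : ℕ} {x : G} (hx : (orderOf x).Coprime p) {H : Subgroup G} (j : ℕ)
    (h : x ^ p ^ j ∈ H) : x ∈ H :=
  zpowers_le.2 h (mem_zpowers_pow_iff.2 (Nat.Coprime.pow_left j hx.symm))

theorem mem_centralizer_singleton {x y : G} : y ∈ centralizer ({x} : Set G) ↔ y * x = x * y :=
  mem_centralizer_singleton_iff

/-- A coatom stabilised by an element outside it is normal. -/
theorem normal_of_isCoatom_of_mem {H : Subgroup G} (hH : IsCoatom H) {y : G} (hy : y ∉ H)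
    (hyn : y ∈ normalizer (H : Set G)) : H.Normal :=
  normalizer_eq_top_iff.1 (hH.2 _ (lt_of_le_of_ne le_normalizer fun h => hy (h ▸ hyn)))

variable (N : Subgroup G)

/-- The hypothesis of the theorem. -/
def MaxCent : Prop :=
  ∀ x : G, x ∈ N → x ∉ centralizer (N : Set G) → IsCoatom (centralizer ({x} : Set G))

variable {N}

theorem centralizer_eq_of_coprime (h : MaxCent N) {x y : G} (hx : x ∈ N) (hy : y ∈ N)
    (hxn : x ∉ centralizer (N : Set G)) (hyn : y ∉ centralizer (N : Set G)) (hc : x * y = y * x)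
    (hcop : (orderOf x).Coprime (orderOf y)) : centralizer ({x} : Set G) = centralizer {y} := by
  have key : ∀ a b : G, a * b = b * a → (orderOf a).Coprime (orderOf b) → a ∈ zpowers (a * b) := by
    intro a b hab hc
    have h1 : a ^ orderOf b ∈ zpowers (a * b) :=
      ⟨(orderOf b : ℤ), by
        show (a * b) ^ (orderOf b : ℤ) = _
        rw [zpow_natCast, Commute.mul_pow hab, pow_orderOf_eq_one, mul_one]⟩
    exact zpowers_le.2 h1 (mem_zpowers_pow_iff.2 hc.symm)
  have hle : ∀ {a : G}, a ∈ zpowers (x * y) → centralizer ({x * y} : Set G) ≤ centralizer {a} := by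
    intro a ha g hg
    obtain ⟨i, rfl⟩ := ha
    exact mem_centralizer_singleton.2 (Commute.zpow_right (mem_centralizer_singleton.1 hg) i).eq
  have hxy := key x y hc hcop
  have hyx : y ∈ zpowers (x * y) := by rw [hc]; exact key y x hc.symm hcop.symm
  have hn : x * y ∉ centralizer (N : Set G) := fun hz => hxn (zpowers_le.2 hz hxy)
  have hM := h _ (mul_mem hx hy) hn
  have e : ∀ {a : G}, a ∈ zpowers (x * y) → a ∈ N → a ∉ centralizer (N : Set G) →
      centralizer ({x * y} : Set G) = centralizer {a} := fun ha haN han =>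
    ((hle ha).eq_or_lt).resolve_right fun hlt => (h _ haN han).1 (hM.2 _ hlt)
  rw [← e hxy hx hxn, ← e hyx hy hyn]

/-- The Sylow subgroup of the centraliser of a noncentral `p`-element is normal there. -/
theorem exists_sylow_centralizer [hN : N.Normal] (h : MaxCent N) {p : ℕ} [hp : Fact p.Prime] {x : G}
    (hx : x ∈ N) (hxn : x ∉ centralizer (N : Set G)) (hxp : ∃ j, x ^ p ^ j = 1) :
    ∃ T : Subgroup G, IsPGroup p T ∧ x ∈ T ∧ T ≤ N ⊓ centralizer {x} ∧
      centralizer ({x} : Set G) ≤ normalizer (T : Set G) ∧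
      (∀ R : Subgroup G, IsPGroup p R → R ≤ N ⊓ centralizer {x} → R ≤ T) ∧
      HasNormalPComplement p ↥(N ⊓ centralizer ({x} : Set G)) := by
  classical
  set C := N ⊓ centralizer ({x} : Set G) with hC
  have hcx : ∀ c : C, (c : G) * x = x * c := fun c => mem_centralizer_singleton.1 c.2.2
  obtain ⟨S⟩ : Nonempty (Sylow p C) := inferInstance
  have hcase : (∀ v : C, (orderOf v).Coprime p → (v : G) ∈ centralizer (N : Set G)) ∨
      (∀ y : C, (∃ j, y ^ p ^ j = 1) → y ∈ center C) := by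
    by_cases hi : ∀ v : C, (orderOf v).Coprime p → (v : G) ∈ centralizer (N : Set G)
    · exact Or.inl hi
    · push Not at hi
      obtain ⟨a, hap, han⟩ := hi
      refine Or.inr fun y hy => mem_center_iff.2 fun c => Subtype.ext ?_
      have hap' : (orderOf (a : G)).Coprime p := by rwa [Subgroup.orderOf_coe]
      have e1 := centralizer_eq_of_coprime h hx a.2.1 hxn han (hcx a).symm (coprime_of_pow_eq_one hxp hap')
      by_cases hyn : (y : G) ∈ centralizer (N : Set G)
      · exact mem_centralizer_iff.1 hyn c c.2.1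
      have hya : (y : G) * a = a * y := by
        have h1 : (y : G) ∈ centralizer ({(a : G)} : Set G) := e1 ▸ y.2.2
        exact mem_centralizer_singleton.1 h1
      obtain ⟨j, hj⟩ := hy
      have e2 := centralizer_eq_of_coprime h y.2.1 a.2.1 hyn han hya
        (coprime_of_pow_eq_one ⟨j, congrArg Subtype.val hj⟩ hap')
      have h2 : (c : G) ∈ centralizer ({(y : G)} : Set G) := by rw [e2, ← e1]; exact c.2.2
      exact mem_centralizer_singleton.1 h2
  have hcent : ∀ v : C, (orderOf v).Coprime p → v ∈ centralizer ((S : Subgroup C) : Set C) := by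
    intro v hv
    refine mem_centralizer_iff.2 fun s hs => ?_
    rcases hcase with hi | hii
    · exact Subtype.ext (mem_centralizer_iff.1 (hi v hv) s s.2.1)
    · obtain ⟨j, hj⟩ := S.2 ⟨s, hs⟩
      exact (mem_center_iff.1 (hii s ⟨j, congrArg Subtype.val hj⟩) v).symm
  have hres : pResidual p C ≤ centralizer ((S : Subgroup C) : Set C) := by
    rw [pResidual, closure_le]
    exact hcent
  haveI hSn : (S : Subgroup C).Normal := by
    refine normalizer_eq_top_iff.1 (top_le_iff.1 ?_)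
    rw [← CfsgLib.Transfer.pResidual_sup_sylow S]
    refine sup_le (hres.trans fun g hg => ?_) le_normalizer
    refine mem_normalizer_iff.2 fun s => ⟨fun hs => ?_, fun hs => ?_⟩
    · rwa [← mem_centralizer_iff.1 hg s hs, mul_inv_cancel_right]
    · have h1 := mem_centralizer_iff.1 hg _ hs
      have h2 : g * s * g⁻¹ = s :=
        mul_left_cancel (a := g) (by rw [← h1]; group)
      rwa [h2] at hs
  have hmax : ∀ R : Subgroup C, IsPGroup p R → R ≤ (S : Subgroup C) := fun R hR =>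
    le_sup_right.trans (S.3 (S.2.to_sup_of_normal_left hR) le_sup_left).le
  have hmaxG : ∀ R : Subgroup G, IsPGroup p R → R ≤ C → R ≤ (S : Subgroup C).map C.subtype := by
    intro R hR hRC g hg
    exact ⟨⟨g, hRC hg⟩, hmax _ (hR.comap_of_injective C.subtype C.subtype_injective)
      (show (⟨g, hRC hg⟩ : C) ∈ R.comap C.subtype from hg), rfl⟩
  have hxC : x ∈ C := ⟨hx, mem_centralizer_singleton.2 rfl⟩
  refine ⟨(S : Subgroup C).map C.subtype, S.2.map _, hmaxG (zpowers x) ?_ (zpowers_le.2 hxC)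
    (mem_zpowers x), map_subtype_le _, fun g hg => ?_, hmaxG, ?_⟩
  · obtain ⟨j, hj⟩ := hxp
    intro z
    obtain ⟨i, hi⟩ := z.2
    refine ⟨j, Subtype.ext ?_⟩
    rw [Subgroup.coe_pow, Subgroup.coe_one, ← hi, ← zpow_natCast, ← zpow_mul, mul_comm, zpow_mul,
      zpow_natCast, hj, one_zpow]
  · rw [mem_normalizer_iff_map_conj_eq]
    refine eq_of_le_of_card_ge (hmaxG _ ((S.2.map _).map _) ?_)
      (card_map_of_injective (MulAut.conj g).injective).ge
    rintro _ ⟨_, ⟨c, -, rfl⟩, rfl⟩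
    refine ⟨hN.conj_mem _ c.2.1 g, mem_centralizer_singleton.2 ?_⟩
    have e1 := mem_centralizer_singleton.1 hg
    have e2 := hcx c
    show g * (c : G) * g⁻¹ * x = x * (g * (c : G) * g⁻¹)
    have e3 : g⁻¹ * x = x * g⁻¹ := by
      calc g⁻¹ * x = g⁻¹ * (x * g) * g⁻¹ := by group
        _ = x * g⁻¹ := by rw [← e1]; group
    calc g * (c : G) * g⁻¹ * x = g * ((c : G) * x) * g⁻¹ := by rw [mul_assoc _ g⁻¹, e3]; group
      _ = x * (g * (c : G) * g⁻¹) := by rw [e2, ← mul_assoc g x, e1]; group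
  · rcases hcase with hi | hii
    · have hle : pResidual p C ≤ center C := by
        rw [pResidual, closure_le]
        exact fun v hv => mem_center_iff.2 fun c => Subtype.ext (mem_centralizer_iff.1 (hi v hv) c c.2.1)
      rw [CfsgLib.Transfer.hasNormalPComplement_iff_inf_sylow S, eq_bot_iff]
      intro g hg
      rw [mem_bot]
      obtain ⟨j, hj⟩ := S.2 ⟨g, hg.1⟩
      have hex : ∀ v ∈ pResidual p C, ∃ m : ℕ, m.Coprime p ∧ v ^ m = 1 := by
        intro v hv
        rw [pResidual] at hv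
        induction hv using closure_induction with
        | mem v hv => exact ⟨orderOf v, hv, pow_orderOf_eq_one v⟩
        | one => exact ⟨1, Nat.coprime_one_left p, one_pow 1⟩
        | mul v w hv hw iv iw =>
          obtain ⟨m, hm, hvm⟩ := iv
          obtain ⟨l, hl, hwl⟩ := iw
          refine ⟨m * l, hm.mul_left hl, ?_⟩
          have hc : Commute v w := (mem_center_iff.1 (hle hv) w).symm
          rw [hc.mul_pow, pow_mul, hvm, one_pow, one_mul, mul_comm m, pow_mul, hwl, one_pow]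
        | inv v hv iv =>
          obtain ⟨m, hm, hvm⟩ := iv
          exact ⟨m, hm, by rw [inv_pow, hvm, inv_one]⟩
      obtain ⟨m, hm, hgm⟩ := hex g hg.2
      exact eq_one_of_pow_coprime ⟨j, congrArg Subtype.val hj⟩ hm hgm
    · refine CfsgLib.Transfer.hasNormalPComplement_of_normalizer_le_centralizer S fun g _ => ?_
      refine mem_centralizer_iff.2 fun s hs => ?_
      obtain ⟨j, hj⟩ := S.2 ⟨s, hs⟩
      exact (mem_center_iff.1 (hii s ⟨j, congrArg Subtype.val hj⟩) g).symm

/-- With all `p'`-elements central, `N/Z(N)` is elementary. -/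
theorem elementary_case [hN : N.Normal] (h : MaxCent N) {p : ℕ} [hp : Fact p.Prime]
    (hp' : ∀ v ∈ N, (orderOf v).Coprime p → v ∈ centralizer (N : Set G)) :
    (∀ g ∈ N, g ^ p ∈ centralizer (N : Set G)) ∧ ∀ a ∈ N, ∀ b ∈ N, ⁅a, b⁆ ∈ centralizer (N : Set G) := by
  classical
  obtain ⟨S⟩ : Nonempty (Sylow p N) := inferInstance
  have hres : pResidual p N ≤ center N := by
    rw [pResidual, closure_le]
    exact fun v hv => mem_center_iff.2 fun c => Subtype.ext
      (mem_centralizer_iff.1 (hp' v v.2 (by rw [Subgroup.orderOf_coe]; exact hv)) c c.2)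
  haveI hSn : (S : Subgroup N).Normal := by
    refine normalizer_eq_top_iff.1 (top_le_iff.1 ?_)
    rw [← CfsgLib.Transfer.pResidual_sup_sylow S]
    exact sup_le (hres.trans (center_le_normalizer _)) le_normalizer
  haveI : (S : Subgroup N).Characteristic := S.characteristic_of_normal hSn
  set P := (S : Subgroup N).map N.subtype with hP
  haveI hPn : P.Normal := ConjAct.normal_of_characteristic_of_normal
  have hPp : IsPGroup p P := S.2.map _
  have hsplit : ∀ g ∈ N, ∃ u ∈ P, ∃ z, z ∈ N ∧ z ∈ centralizer (N : Set G) ∧ g = u * z := by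
    intro g hg
    have hg' : (⟨g, hg⟩ : N) ∈ pResidual p N ⊔ (S : Subgroup N) := by
      rw [CfsgLib.Transfer.pResidual_sup_sylow S]; exact mem_top _
    obtain ⟨z, hz, u, hu, hzu⟩ := mem_sup_of_normal_right.1 hg'
    refine ⟨u, ⟨u, hu, rfl⟩, z, z.2,
      mem_centralizer_iff.2 fun c hc => congrArg Subtype.val (mem_center_iff.1 (hres hz) ⟨c, hc⟩), ?_⟩
    have hzu' : (z : G) * u = g := congrArg Subtype.val hzu
    show g = (u : G) * (z : G)
    rw [← hzu']
    exact (congrArg Subtype.val (mem_center_iff.1 (hres hz) u)).symm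
  let Φ : Subgroup G := (frattini P).map P.subtype
  haveI : Φ.Normal := ConjAct.normal_of_characteristic_of_normal
  have hΦP : Φ ≤ P := map_subtype_le _
  have hPN : P ≤ N := map_subtype_le _
  have hΦ : ∀ x ∈ P, x ∉ centralizer (N : Set G) → Φ ≤ centralizer {x} := by
    intro x hx hxn
    have hPx : ¬ P ≤ centralizer ({x} : Set G) := by
      intro hle
      refine hxn (mem_centralizer_iff.2 fun g hg => ?_)
      obtain ⟨u, hu, z, -, hz, rfl⟩ := hsplit g hg
      have h1 : u * x = x * u := mem_centralizer_singleton.1 (hle hu)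
      have h2 : x * z = z * x := mem_centralizer_iff.1 hz x (hPN hx)
      rw [mul_assoc, ← h2, ← mul_assoc, h1, mul_assoc]
    by_contra hΦx
    have htop : centralizer ({x} : Set G) ⊔ Φ = ⊤ :=
      (h x (hPN hx) hxn).2 _ (lt_of_le_of_ne le_sup_left fun e => hΦx (e ▸ le_sup_right))
    refine hPx fun y hy => ?_
    have hfr : (centralizer ({x} : Set G)).subgroupOf P = ⊤ := by
      refine CfsgLib.PGroup.eq_top_of_sup_frattini (eq_top_iff.2 fun b _ => ?_)
      obtain ⟨c, hc, f, hf, hcf⟩ := mem_sup_of_normal_right.1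
        (show (b : G) ∈ centralizer ({x} : Set G) ⊔ Φ by rw [htop]; exact mem_top _)
      have hcP : c ∈ P := by
        rw [eq_mul_inv_of_mul_eq hcf]; exact mul_mem b.2 (P.inv_mem (hΦP hf))
      obtain ⟨f', hf', rfl⟩ := hf
      rw [show b = (⟨c, hcP⟩ : P) * f' from Subtype.ext hcf.symm]
      exact mul_mem (mem_sup_left hc) (mem_sup_right hf')
    exact (subgroupOf_eq_top.1 hfr) hy
  have hΦZ : Φ ≤ centralizer (N : Set G) := fun f hf => mem_centralizer_iff.2 fun g hg => by
    obtain ⟨u, hu, z, -, hz, rfl⟩ := hsplit g hg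
    have h2 : f * z = z * f := mem_centralizer_iff.1 hz f (hPN (hΦP hf))
    have h1 : f * u = u * f := by
      by_cases hun : u ∈ centralizer (N : Set G)
      · exact mem_centralizer_iff.1 hun f (hPN (hΦP hf))
      · exact mem_centralizer_singleton.1 (hΦ u hu hun hf)
    rw [mul_assoc, ← h2, ← mul_assoc, ← h1, mul_assoc]
  refine ⟨fun g hg => ?_, fun a ha b hb => ?_⟩
  · obtain ⟨u, hu, z, -, hz, rfl⟩ := hsplit g hg
    have hc : Commute u z := mem_centralizer_iff.1 hz u (hPN hu)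
    rw [hc.mul_pow]
    exact mul_mem (hΦZ ⟨(⟨u, hu⟩ : P) ^ p, CfsgLib.PGroup.pow_mem_frattini hPp _, rfl⟩) (pow_mem hz p)
  · obtain ⟨u, hu, z, hzN, hz, rfl⟩ := hsplit a ha
    obtain ⟨u', hu', z', hzN', hz', rfl⟩ := hsplit b hb
    have key : ⁅u * z, u' * z'⁆ = ⁅u, u'⁆ := by
      have f1 : z * u' = u' * z := (mem_centralizer_iff.1 hz u' (hPN hu')).symm
      have f2 : z * z' = z' * z := mem_centralizer_iff.1 hz' z hzN
      have f3 : z' * u⁻¹ = u⁻¹ * z' := (mem_centralizer_iff.1 hz' u⁻¹ (N.inv_mem (hPN hu))).symm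
      simp only [commutatorElement_def]
      calc u * z * (u' * z') * (u * z)⁻¹ * (u' * z')⁻¹
          = u * ((z * u') * z') * z⁻¹ * u⁻¹ * z'⁻¹ * u'⁻¹ := by group
        _ = u * (u' * (z * z')) * z⁻¹ * u⁻¹ * z'⁻¹ * u'⁻¹ := by rw [f1]; group
        _ = u * u' * (z' * u⁻¹) * z'⁻¹ * u'⁻¹ := by rw [f2]; group
        _ = u * u' * u⁻¹ * u'⁻¹ := by rw [f3]; group
    rw [key]
    refine hΦZ ⟨⁅(⟨u, hu⟩ : P), ⟨u', hu'⟩⁆, CfsgLib.PGroup.commutator_le_frattini hPp
      (commutator_mem_commutator (mem_top _) (mem_top _)), map_commutatorElement P.subtype _ _⟩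

/-- A normal `p`-subgroup not centralised by one of its noncentral elements forces all `p'`-elements
to be central. -/
theorem central_of_nonabelian_core [hN : N.Normal] (h : MaxCent N) {p : ℕ} [hp : Fact p.Prime]
    {K : Subgroup G} [hK : K.Normal] (hKp : IsPGroup p K) (hKN : K ≤ N) {k : G} (hk : k ∈ K)
    (hkn : k ∉ centralizer (N : Set G)) (hKk : ¬ K ≤ centralizer ({k} : Set G)) :
    ∀ v ∈ N, (orderOf v).Coprime p → v ∈ centralizer (N : Set G) := by
  classical
  have hM := h k (hKN hk) hkn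
  set M := centralizer ({k} : Set G) with hMdef
  have htop : M ⊔ K = ⊤ := hM.2 _ (lt_of_le_of_ne le_sup_left fun e => hKk (e ▸ le_sup_right))
  set D := K ⊓ M with hD
  have hMD : M ≤ normalizer (D : Set G) := fun g hg => mem_normalizer_iff.2 fun d =>
    ⟨fun hd => ⟨hK.conj_mem d hd.1 g, mul_mem (mul_mem hg hd.2) (M.inv_mem hg)⟩,
      fun hd => ⟨by simpa [mul_assoc] using hK.conj_mem _ hd.1 g⁻¹,
        by simpa [mul_assoc] using mul_mem (mul_mem (M.inv_mem hg) hd.2) hg⟩⟩
  haveI hDn : D.Normal := by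
    obtain ⟨y, hy, hyn, hyM⟩ : ∃ y ∈ K, y ∈ normalizer (D : Set G) ∧ y ∉ M := by
      haveI := hKp.isNilpotent
      have hlt : D.subgroupOf K < ⊤ := lt_top_iff_ne_top.2 fun e =>
        hKk fun g hg => (subgroupOf_eq_top.1 e hg).2
      obtain ⟨y, hy, hy'⟩ := SetLike.exists_of_lt
        (Group.normalizerCondition_of_isNilpotent (G := K) _ hlt)
      refine ⟨y, y.2, mem_normalizer_iff.2 fun d => ⟨fun hd => ?_, fun hd => ?_⟩,
        fun hyM => hy' ⟨y.2, hyM⟩⟩
      · exact ((mem_normalizer_iff.1 hy ⟨d, hd.1⟩).1 hd)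
      · have hdK : d ∈ K := by simpa [mul_assoc] using mul_mem (mul_mem (K.inv_mem y.2) hd.1) y.2
        exact ((mem_normalizer_iff.1 hy ⟨d, hdK⟩).2 hd)
    exact normalizer_eq_top_iff.1 (hM.2 _ (lt_of_le_of_ne hMD fun e => hyM (e ▸ hyn)))
  have hkD : k ∈ D := ⟨hk, mem_centralizer_singleton.2 rfl⟩
  obtain ⟨i, hi⟩ := hKp ⟨k, hk⟩
  have hkp : ∃ j, k ^ p ^ j = 1 := ⟨i, congrArg Subtype.val hi⟩
  have hcM : ∀ a ∈ N, a ∈ M → (orderOf a).Coprime p → a ∈ centralizer (N : Set G) := by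
    intro a haN haM hap
    by_contra han
    have e1 := centralizer_eq_of_coprime h (hKN hk) haN hkn han
      (mem_centralizer_singleton.1 haM).symm (coprime_of_pow_eq_one hkp hap)
    have haD : ∀ d ∈ D, a * d = d * a := fun d hd => by
      have h1 : d ∈ centralizer ({a} : Set G) := e1 ▸ hd.2
      exact (mem_centralizer_singleton.1 h1).symm
    obtain ⟨y, hy, hyM⟩ := SetLike.not_le_iff_exists.1 hKk
    have hMn : M.Normal := by
      refine normal_of_isCoatom_of_mem hM hyM (mem_normalizer_iff_map_conj_eq.2 ?_)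
      set a' := y * a * y⁻¹ with ha'
      have ha'k : k * a' = a' * k := by
        have h1 := haD (y⁻¹ * k * y) (by simpa using hDn.conj_mem k hkD y⁻¹)
        calc k * a' = y * ((y⁻¹ * k * y) * a) * y⁻¹ := by rw [ha']; group
          _ = a' * k := by rw [← h1, ha']; group
      have ha'n : a' ∉ centralizer (N : Set G) := fun hz => han (by
        simpa [ha', mul_assoc] using (inferInstance : (centralizer (N : Set G)).Normal).conj_mem _ hz y⁻¹)
      have e2 := centralizer_eq_of_coprime h (hKN hk) (hN.conj_mem a haN y) hkn ha'n ha'k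
        (coprime_of_pow_eq_one hkp (by
          rw [← MulAut.conj_apply, MulEquiv.orderOf_eq]; exact hap))
      refine eq_of_le_of_card_ge ?_ (card_map_of_injective (MulAut.conj y).injective).ge
      rintro _ ⟨g, hg, rfl⟩
      have hga : g ∈ centralizer ({a} : Set G) := e1 ▸ hg
      have h2 := mem_centralizer_singleton.1 hga
      have h3 : y * g * y⁻¹ ∈ centralizer ({a'} : Set G) := mem_centralizer_singleton.2 (by
        calc y * g * y⁻¹ * a' = y * (g * a) * y⁻¹ := by rw [ha']; group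
          _ = a' * (y * g * y⁻¹) := by rw [h2, ha']; group)
      show y * g * y⁻¹ ∈ M
      rw [hMdef, e2]; exact h3
    have hq : y⁻¹ * (a * y * a⁻¹) ∈ D := by
      refine ⟨mul_mem (K.inv_mem hy) (hK.conj_mem y hy a), ?_⟩
      rw [show y⁻¹ * (a * y * a⁻¹) = (y⁻¹ * a * y) * a⁻¹ by group]
      exact mul_mem (by simpa using hMn.conj_mem a haM y⁻¹) (M.inv_mem haM)
    have h1 := CfsgLib.PGroup.OneClass.pow_eq_one_of_step (h := a) (x := y) (q := y⁻¹ * (a * y * a⁻¹))
      (by group) (by rw [haD _ hq, mul_inv_cancel_right])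
    obtain ⟨l, hl⟩ := hKp ⟨_, hq.1⟩
    have h2 := eq_one_of_pow_coprime ⟨l, congrArg Subtype.val hl⟩ hap h1
    rw [inv_mul_eq_one] at h2
    refine hyM ?_
    have h3 : y ∈ centralizer ({a} : Set G) := mem_centralizer_singleton.2 (by
      calc y * a = a * y * a⁻¹ * a := by rw [← h2]
        _ = a * y := by group)
    rw [hMdef, e1]; exact h3
  intro v hv hvp
  set W := K ⊔ N ⊓ centralizer (N : Set G) with hW
  have hvW : v ∈ W := by
    obtain ⟨c, hc, y, hy, rfl⟩ := mem_sup_of_normal_right.1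
      (show v ∈ M ⊔ K by rw [htop]; exact mem_top _)
    have hcN : c ∈ N := by
      have := mul_mem hv (N.inv_mem (hKN hy))
      rwa [mul_inv_cancel_right] at this
    obtain ⟨u, w, hu, hw, huw, ⟨j, huj⟩, hwp⟩ := exists_split p c
    have hwW : w ∈ W := mem_sup_right ⟨zpowers_le.2 hcN hw,
      hcM w (zpowers_le.2 hcN hw) (zpowers_le.2 hc hw) hwp⟩
    refine mem_of_pow_coprime hvp j ((QuotientGroup.eq_one_iff _).1 ?_)
    rw [QuotientGroup.mk_pow, QuotientGroup.mk_mul, huw, QuotientGroup.mk_mul,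
      (QuotientGroup.eq_one_iff w).2 hwW, (QuotientGroup.eq_one_iff y).2 (mem_sup_left hy),
      mul_one, mul_one, ← QuotientGroup.mk_pow, huj, QuotientGroup.mk_one]
  obtain ⟨y, hy, z, hz, rfl⟩ := mem_sup_of_normal_left.1 hvW
  obtain ⟨j, hj⟩ := hKp ⟨y, hy⟩
  refine mem_of_pow_coprime hvp j ?_
  have hc : Commute y z := mem_centralizer_iff.1 hz.2 y (hKN hy)
  rw [hc.mul_pow, show y ^ p ^ j = 1 from congrArg Subtype.val hj, one_mul]
  exact pow_mem hz.2 _

set_option maxHeartbeats 1000000 in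
/-- Some normal subgroup of prime power order inside `N` is not central in `N`. -/
theorem exists_core [hN : N.Normal] (h : MaxCent N) (hna : ¬ N ≤ centralizer (N : Set G)) :
    ∃ (p : ℕ) (_ : Fact p.Prime) (K : Subgroup G), K.Normal ∧ IsPGroup p K ∧ K ≤ N ∧
      ¬ K ≤ centralizer (N : Set G) := by
  classical
  by_contra hno
  push Not at hno
  have hodd : ∀ p : ℕ, p.Prime → p ≠ 2 → HasNormalPComplement p N := by
    intro p hp hp2
    haveI := Fact.mk hp
    by_cases hall : ∀ x ∈ N, (∃ j, x ^ p ^ j = 1) → x ∈ centralizer (N : Set G)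
    · obtain ⟨S⟩ : Nonempty (Sylow p N) := inferInstance
      refine CfsgLib.Transfer.hasNormalPComplement_of_normalizer_le_centralizer S fun g _ => ?_
      refine mem_centralizer_iff.2 fun s hs => Subtype.ext ?_
      obtain ⟨j, hj⟩ := S.2 ⟨s, hs⟩
      exact (mem_centralizer_iff.1 (hall s s.2 ⟨j, by
        have := congrArg (fun y : (S : Subgroup N) => ((y : N) : G)) hj
        simpa using this⟩) g g.2).symm
    · push Not at hall
      obtain ⟨x, hx, hxp, hxn⟩ := hall
      obtain ⟨T, hTp, hxT, hTC, hMT, hTmax, hCnil⟩ := exists_sylow_centralizer h hx hxn hxp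
      have hM := h x hx hxn
      have hnorm : ∀ R : Subgroup G, IsPGroup p R → R ≤ N → x ∈ R →
          centralizer ({x} : Set G) ≤ normalizer (R : Set G) →
          normalizer (R : Set G) = centralizer ({x} : Set G) := by
        intro R hR hRN hxR hle
        rcases hle.eq_or_lt with e | e
        · exact e.symm
        · exact absurd (hno p inferInstance R (normalizer_eq_top_iff.1 (hM.2 _ e)) hR hRN hxR) hxn
      have hTN : T ≤ N := hTC.trans inf_le_left
      have hNT := hnorm T hTp hTN hxT hMT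
      -- `T` is a Sylow subgroup of `N`
      obtain ⟨S, hS⟩ := (hTp.comap_of_injective N.subtype N.subtype_injective).exists_le_sylow
      have hST : (S : Subgroup N).map N.subtype = T := by
        have hTS : T ≤ (S : Subgroup N).map N.subtype := fun g hg =>
          ⟨⟨g, hTN hg⟩, hS (show (⟨g, hTN hg⟩ : N) ∈ T.comap N.subtype from hg), rfl⟩
        by_contra hne
        haveI := S.2.isNilpotent
        have hlt : (T.subgroupOf N).subgroupOf (S : Subgroup N) < ⊤ := lt_top_iff_ne_top.2 fun e =>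
          hne (le_antisymm (by
            rintro _ ⟨s, hs, rfl⟩
            exact subgroupOf_eq_top.1 e hs) hTS)
        obtain ⟨y, hy, hy'⟩ := SetLike.exists_of_lt
          (Group.normalizerCondition_of_isNilpotent (G := (S : Subgroup N)) _ hlt)
        refine hy' ?_
        have hyN : ((y : N) : G) ∈ normalizer (T : Set G) := by
          rw [mem_normalizer_iff]
          intro d
          constructor
          · intro hd
            obtain ⟨s, hs, rfl⟩ := hTS hd
            exact (mem_normalizer_iff.1 hy ⟨s, hs⟩).1 hd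
          · intro hd
            obtain ⟨s, hs, hsd⟩ := hTS hd
            have hdS : y⁻¹ * ⟨s, hs⟩ * y ∈ (⊤ : Subgroup (S : Subgroup N)) := mem_top _
            have h1 := (mem_normalizer_iff.1 hy (y⁻¹ * ⟨s, hs⟩ * y)).2 (by
              rw [show y * (y⁻¹ * ⟨s, hs⟩ * y) * y⁻¹ = ⟨s, hs⟩ by group]
              show (s : G) ∈ T
              have h3 : (s : G) = ((y : N) : G) * d * ((y : N) : G)⁻¹ := hsd
              rw [h3]; exact hd)
            have h2 : ((y : N) : G)⁻¹ * (s : G) * ((y : N) : G) ∈ T := h1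
            rw [show (s : G) = ((y : N) : G) * d * ((y : N) : G)⁻¹ from hsd] at h2
            simpa [mul_assoc] using h2
        rw [hNT] at hyN
        have hyC : ((y : N) : G) ∈ N ⊓ centralizer ({x} : Set G) := ⟨(y : N).2, hyN⟩
        refine hTmax (zpowers ((y : N) : G)) ?_ (zpowers_le.2 hyC) (mem_zpowers _)
        have := (S.2.map N.subtype).to_le (H := zpowers ((y : N) : G))
          (zpowers_le.2 ⟨y, y.2, rfl⟩)
        exact this
      -- the centre of the Thompson subgroup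
      set Z := CfsgLib.PStab.zjGen 0 T with hZ
      have hxc : ∀ t ∈ T, x * t = t * x := fun t ht => (mem_centralizer_singleton.1 (hTC ht).2).symm
      have hxZ : x ∈ Z := by
        have hall : ∀ A ∈ CfsgLib.PStab.maxAdm 0 T, x ∈ A := fun A hA =>
          CfsgLib.PStab.mem_of_commute_maxAdm (p := orderOf x) (Or.inl rfl) hA hxT
            (pow_orderOf_eq_one x) fun a ha => hxc a (hA.1 ha)
        obtain ⟨A, hA⟩ := CfsgLib.PStab.maxAdm_nonempty 0 T
        exact ⟨CfsgLib.PStab.le_jGen hA (hall A hA),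
          mem_centralizer_iff.2 fun t ht => (hxc t (CfsgLib.PStab.jGen_le 0 T ht)).symm⟩
      have hMZ : centralizer ({x} : Set G) ≤ normalizer (Z : Set G) := fun g hg =>
        mem_normalizer_iff.2 fun z => ⟨CfsgLib.PStab.conj_mem_zjGen (hMT hg), fun hz => by
          simpa [mul_assoc] using CfsgLib.PStab.conj_mem_zjGen (Subgroup.inv_mem _ (hMT hg)) hz⟩
      have hNZ := hnorm Z (hTp.to_le (CfsgLib.PStab.zjGen_le 0 T))
        ((CfsgLib.PStab.zjGen_le 0 T).trans hTN) hxZ hMZ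
      refine CfsgLib.PStab.hasNormalPComplement_of_normalizer_zjGen hp2 (Or.inl rfl) S
        (D := (S : Subgroup N)) ⟨le_rfl, fun _ _ _ hz => hz⟩ ?_
      have hmapZ : (CfsgLib.PStab.zjGen 0 (S : Subgroup N)).map N.subtype = Z := by
        rw [← CfsgLib.PStab.zjGen_map N.subtype_injective, hST]
      have hle : ∀ g : N, g ∈ normalizer (CfsgLib.PStab.zjGen 0 (S : Subgroup N) : Set N) →
          (g : G) ∈ N ⊓ centralizer ({x} : Set G) := by
        intro g hg
        refine ⟨g.2, hNZ.le (mem_normalizer_iff_map_conj_eq.2 ?_)⟩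
        rw [← hmapZ]
        rw [mem_normalizer_iff_map_conj_eq] at hg
        conv_rhs => rw [← hg]
        rw [map_map, map_map]
        rfl
      exact CfsgLib.Transfer.hasNormalPComplement_of_injective
        ((N.subtype.comp (normalizer (CfsgLib.PStab.zjGen 0 (S : Subgroup N) : Set N)).subtype).codRestrict
          (N ⊓ centralizer ({x} : Set G)) fun g => hle g g.2)
        (fun a b hab => by
          have := congrArg Subtype.val hab
          exact Subtype.ext (Subtype.ext this)) hCnil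
  -- `2`-elements are central
  have hres : ∀ p : ℕ, p.Prime → p ≠ 2 → (Nat.card (pResidual p N)).Coprime p := fun p hp hp2 => by
    haveI := Fact.mk hp
    exact CfsgLib.Transfer.hasNormalPComplement_iff_pResidual.1 (hodd p hp hp2)
  have hmemres : ∀ (q : ℕ), q.Prime → ∀ x : N, (∃ j, x ^ q ^ j = 1) → ∀ p : ℕ, p.Prime → p ≠ q →
      x ∈ pResidual p N := fun q hq x ⟨j, hj⟩ p hp hpq => subset_closure
    (Nat.Coprime.coprime_dvd_left (orderOf_dvd_of_pow_eq_one hj)
      (Nat.Coprime.pow_left j ((Nat.coprime_primes hq hp).2 hpq.symm)))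
  let Dq : ℕ → Subgroup N := fun q => ⨅ p : {p : ℕ // p.Prime ∧ p ≠ 2 ∧ p ≠ q}, pResidual p N
  haveI hDchar : ∀ q, (Dq q).Characteristic := fun q => characteristic_iff_map_le.2 fun φ => by
    refine le_iInf fun p => (map_mono (iInf_le _ p)).trans ?_
    rw [pResidual, MonoidHom.map_closure]
    refine closure_mono ?_
    rintro _ ⟨g, hg, rfl⟩
    show (orderOf (φ g)).Coprime (p : ℕ)
    rw [MulEquiv.orderOf_eq]; exact hg
  have hprimes : ∀ q r : ℕ, r.Prime → r ∣ Nat.card (Dq q) → r = 2 ∨ r = q := by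
    intro q r hr hd
    by_contra hne
    push Not at hne
    have h1 : Dq q ≤ pResidual r N :=
      iInf_le (fun p : {p : ℕ // p.Prime ∧ p ≠ 2 ∧ p ≠ q} => pResidual (p : ℕ) N) ⟨r, hr, hne.1, hne.2⟩
    have h2 : Nat.card (Dq q) ∣ Nat.card (pResidual r N) := card_dvd_of_le h1
    exact hr.coprime_iff_not_dvd.1 (hres r hr hne.1).symm (hd.trans h2)
  have hcent : ∀ q : ℕ, q.Prime → (q = 2 ∨ ∀ x ∈ N, (∃ j, x ^ 2 ^ j = 1) → x ∈ centralizer (N : Set G)) →
      ∀ x ∈ N, (∃ j, x ^ q ^ j = 1) → x ∈ centralizer (N : Set G) := by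
    intro q hq hprev x hx ⟨j, hj⟩
    haveI := Fact.mk hq
    have hxD : (⟨x, hx⟩ : N) ∈ Dq q := mem_iInf.2 fun p =>
      hmemres q hq _ ⟨j, Subtype.ext hj⟩ p p.2.1 p.2.2.2
    haveI hDn : ((Dq q).map N.subtype).Normal := ConjAct.normal_of_characteristic_of_normal
    set D := (Dq q).map N.subtype with hD
    have hDN : D ≤ N := map_subtype_le _
    have hcard : Nat.card D = Nat.card (Dq q) := card_map_of_injective N.subtype_injective
    obtain ⟨S⟩ : Nonempty (Sylow q D) := inferInstance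
    have hresD : pResidual q D ≤ center D := by
      rw [pResidual, closure_le]
      intro v hv
      have hv2 : ∃ i, (v : G) ^ 2 ^ i = 1 := by
        refine ⟨(orderOf v).factorization 2, orderOf_dvd_iff_pow_eq_one.1 ?_⟩
        rw [Subgroup.orderOf_coe]
        refine (Nat.dvd_iff_prime_pow_dvd_dvd _ _).2 fun r l hr hl => ?_
        rcases Nat.eq_zero_or_pos l with rfl | hl0
        · simp
        have hrd : r ∣ orderOf v := (dvd_pow_self r hl0.ne').trans hl
        rcases hprimes q r hr (hrd.trans ((_root_.orderOf_dvd_natCard v).trans hcard.dvd)) with rfl | rfl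
        · exact pow_dvd_pow 2 ((hr.pow_dvd_iff_le_factorization (orderOf_pos v).ne').1 hl)
        · exact absurd hrd (hr.coprime_iff_not_dvd.1 hv.symm)
      refine mem_center_iff.2 fun c => Subtype.ext ?_
      rcases hprev with h2 | h2
      · subst h2
        obtain ⟨i, hi⟩ := hv2
        have hv1 : (v : G) = 1 := eq_one_of_pow_coprime (p := 2) ⟨i, hi⟩
          (show (orderOf v).Coprime 2 from hv) (by rw [← Subgroup.coe_pow, pow_orderOf_eq_one, Subgroup.coe_one])
        simp [hv1]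
      · exact mem_centralizer_iff.1 (h2 v (hDN v.2) hv2) c (hDN c.2)
    haveI hSn : (S : Subgroup D).Normal := by
      refine normalizer_eq_top_iff.1 (top_le_iff.1 ?_)
      rw [← CfsgLib.Transfer.pResidual_sup_sylow S]
      exact sup_le (hresD.trans (center_le_normalizer _)) le_normalizer
    haveI : (S : Subgroup D).Characteristic := S.characteristic_of_normal hSn
    haveI : ((S : Subgroup D).map D.subtype).Normal := ConjAct.normal_of_characteristic_of_normal
    refine hno q inferInstance _ inferInstance (S.2.map D.subtype) ((map_subtype_le _).trans hDN) ?_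
    have hxD' : x ∈ D := ⟨⟨x, hx⟩, hxD, rfl⟩
    refine ⟨⟨x, hxD'⟩, ?_, rfl⟩
    have hR : IsPGroup q (zpowers (⟨x, hxD'⟩ : D)) := fun z => ⟨j, by
      obtain ⟨i, hi⟩ := z.2
      refine Subtype.ext ?_
      rw [Subgroup.coe_pow, Subgroup.coe_one, ← hi, ← zpow_natCast, ← zpow_mul, mul_comm, zpow_mul,
        zpow_natCast, show (⟨x, hxD'⟩ : D) ^ q ^ j = 1 from Subtype.ext hj, one_zpow]⟩
    exact (le_sup_right.trans (S.3 (S.2.to_sup_of_normal_left hR) le_sup_left).le) (mem_zpowers _)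
  have h2 := hcent 2 Nat.prime_two (Or.inl rfl)
  refine hna fun g hg => ?_
  have htop : (centralizer (N : Set G)).subgroupOf N = ⊤ := by
    refine eq_top_of_primePow_mem fun p hp y hy => ?_
    obtain ⟨j, hj⟩ := hy
    exact hcent p hp (Or.inr h2) y y.2 ⟨j, congrArg Subtype.val hj⟩
  exact subgroupOf_eq_top.1 htop hg

theorem isPGroup_zpowers {p : ℕ} {x : G} (hx : ∃ j, x ^ p ^ j = 1) : IsPGroup p (zpowers x) := by
  obtain ⟨j, hj⟩ := hx
  intro z
  obtain ⟨i, hi⟩ := z.2
  refine ⟨j, Subtype.ext ?_⟩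
  rw [Subgroup.coe_pow, Subgroup.coe_one, ← hi, ← zpow_natCast, ← zpow_mul, mul_comm, zpow_mul,
    zpow_natCast, hj, one_zpow]

/-- A coprime automorphism centralising `N/Z(N)` at an element of exponent `p` fixes it. -/
theorem commute_of_coprime {p : ℕ} {f g : G} (hf : f ∈ N) (hg : g ∈ N)
    (hfp : f ^ p ∈ centralizer (N : Set G)) (hgp : (orderOf g).Coprime p)
    (hz : g * f * g⁻¹ * f⁻¹ ∈ centralizer (N : Set G)) : g * f = f * g := by
  set z := g * f * g⁻¹ * f⁻¹ with hzd
  have hzf : Commute z f := ((mem_centralizer_iff.1 hz) f hf).symm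
  have hzg : Commute z g := ((mem_centralizer_iff.1 hz) g hg).symm
  have hfp' : g * f ^ p * g⁻¹ = f ^ p := by
    rw [← (mem_centralizer_iff.1 hfp g hg).symm, mul_inv_cancel_right]
  have h1 : z ^ p = 1 := by
    have h2 : g * f * g⁻¹ = z * f := by rw [hzd]; group
    have h3 : (g * f * g⁻¹) ^ p = g * f ^ p * g⁻¹ := by rw [conj_pow]
    rw [h2, hzf.mul_pow, hfp'] at h3
    exact mul_eq_right.1 h3
  have h4 : ∀ n : ℕ, g ^ n * f * (g ^ n)⁻¹ = z ^ n * f := by
    intro n
    induction n with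
    | zero => simp
    | succ n ih =>
      calc g ^ (n + 1) * f * (g ^ (n + 1))⁻¹ = g * (g ^ n * f * (g ^ n)⁻¹) * g⁻¹ := by
            rw [pow_succ']; group
        _ = g * z ^ n * f * g⁻¹ := by rw [ih]; group
        _ = z ^ n * (g * f * g⁻¹) := by rw [← (hzg.pow_left n).eq]; group
        _ = z ^ (n + 1) * f := by rw [pow_succ, hzd]; group
  have h5 : z ^ orderOf g = 1 := by
    have := h4 (orderOf g)
    rw [pow_orderOf_eq_one, one_mul, inv_one, mul_one] at this
    exact mul_eq_right.1 this.symm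
  have h6 : z = 1 := orderOf_eq_one_iff.1 (Nat.eq_one_of_dvd_coprimes hgp
    (orderOf_dvd_of_pow_eq_one h5) (orderOf_dvd_of_pow_eq_one h1))
  calc g * f = g * f * g⁻¹ * f⁻¹ * (f * g) := by group
    _ = f * g := by rw [← hzd, h6, one_mul]

/-- The Frobenius case. -/
theorem frobenius_data [hN : N.Normal] (h : MaxCent N) {p : ℕ} [hp : Fact p.Prime]
    {K : Subgroup G} [hK : K.Normal] (hKp : IsPGroup p K) (hKN : K ≤ N)
    (hKn : ¬ K ≤ centralizer (N : Set G))
    (hab : ∀ L : Subgroup G, L.Normal → IsPGroup p L → L ≤ N → ∀ l ∈ L,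
      l ∉ centralizer (N : Set G) → L ≤ centralizer ({l} : Set G))
    (hnp : ∃ a ∈ N, (orderOf a).Coprime p ∧ a ∉ centralizer (N : Set G)) :
    ∃ (F : Subgroup G) (v : G), F.Normal ∧ F ≤ N ∧ ¬ F ≤ centralizer (N : Set G) ∧
      v ∈ N ∧ v ∉ F ∧ N ⊓ centralizer (N : Set G) ≤ F ∧
      (∀ a ∈ F, ∀ b ∈ F, a * b = b * a) ∧ (∀ f ∈ F, f ^ p ∈ centralizer (N : Set G)) ∧
      centralizer ({v} : Set G) ⊔ F = ⊤ ∧
      (∀ g ∈ N, g ∉ F → F ⊓ centralizer ({g} : Set G) ≤ centralizer (N : Set G)) ∧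
      (∀ g ∈ N, g ∉ F → N ≤ F ⊔ zpowers g) ∧
      (∀ g ∈ N, g ∉ F → ∃ g' ∈ zpowers g, g' ∉ F ∧ (orderOf g').Coprime p) := by
  classical
  set Zn := centralizer (N : Set G) with hZn
  have hcomm : ∀ L : Subgroup G, L.Normal → IsPGroup p L → L ≤ N →
      ∀ a ∈ L, ∀ b ∈ L, a * b = b * a := by
    intro L hL hLp hLN a ha b hb
    by_cases han : a ∈ Zn
    · exact (mem_centralizer_iff.1 han b (hLN hb)).symm
    · exact (mem_centralizer_singleton.1 (hab L hL hLp hLN a ha han hb)).symm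
  obtain ⟨k0, hk0, hk0n⟩ := SetLike.not_le_iff_exists.1 hKn
  have hkp : ∀ k ∈ K, ∃ j, k ^ p ^ j = 1 := fun k hk => by
    obtain ⟨j, hj⟩ := hKp ⟨k, hk⟩; exact ⟨j, congrArg Subtype.val hj⟩
  set F := N ⊓ centralizer (K : Set G) with hF
  haveI hFn : F.Normal := normal_inf_normal _ _
  have hFN : F ≤ N := inf_le_left
  have hKF : K ≤ F := fun k hk => ⟨hKN hk, mem_centralizer_iff.2 fun b hb =>
    (hcomm K hK hKp hKN k hk b hb).symm⟩
  have hFk : ∀ f ∈ F, ∀ k ∈ K, k * f = f * k := fun f hf k hk => mem_centralizer_iff.1 hf.2 k hk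
  obtain ⟨T, hTp, -, hTC, -, hTmax, -⟩ := exists_sylow_centralizer h (hKN hk0) hk0n (hkp k0 hk0)
  set L := T ⊓ F with hL
  have hFC : F ≤ N ⊓ centralizer ({k0} : Set G) := fun f hf =>
    ⟨hf.1, mem_centralizer_singleton.2 (hFk f hf k0 hk0).symm⟩
  have hLmem : ∀ u ∈ F, (∃ j, u ^ p ^ j = 1) → u ∈ L := fun u hu hup =>
    ⟨hTmax _ (isPGroup_zpowers hup) (zpowers_le.2 (hFC hu)) (mem_zpowers u), hu⟩
  have hLp : IsPGroup p L := hTp.to_le inf_le_left
  haveI hLn : L.Normal := ⟨fun l hl g => hLmem _ (hFn.conj_mem l hl.2 g) (by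
    obtain ⟨j, hj⟩ := hLp ⟨l, hl⟩
    have hj' : l ^ p ^ j = 1 := congrArg Subtype.val hj
    exact ⟨j, by rw [conj_pow, hj', mul_one, mul_inv_cancel]⟩)⟩
  have hLab := hcomm L hLn hLp (inf_le_right.trans hFN)
  -- a `p'`-element of `F` outside the centre detects `F`
  have hCv : ∀ v ∈ F, (orderOf v).Coprime p → v ∉ Zn → ∀ g ∈ N, g * v = v * g → g ∈ F := by
    intro v hv hvp hvn g hg hgv
    refine ⟨hg, mem_centralizer_iff.2 fun k hk => ?_⟩
    by_cases hkn : k ∈ Zn
    · exact (mem_centralizer_iff.1 hkn g hg).symm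
    have e := centralizer_eq_of_coprime h (hKN hk) (hFN hv) hkn hvn (hFk v hv k hk)
      (coprime_of_pow_eq_one (hkp k hk) hvp)
    have h1 : g ∈ centralizer ({k} : Set G) := by rw [e]; exact mem_centralizer_singleton.2 hgv
    exact (mem_centralizer_singleton.1 h1).symm
  have hFab : ∀ a ∈ F, ∀ b ∈ F, a * b = b * a := by
    have hpp' : ∀ u ∈ F, ∀ v ∈ F, (∃ j, u ^ p ^ j = 1) → (orderOf v).Coprime p → u * v = v * u := by
      intro u hu v hv hup hvp
      by_cases hvn : v ∈ Zn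
      · exact mem_centralizer_iff.1 hvn u (hFN hu)
      have e := centralizer_eq_of_coprime h (hKN hk0) (hFN hv) hk0n hvn (hFk v hv k0 hk0)
        (coprime_of_pow_eq_one (hkp k0 hk0) hvp)
      have h1 : u ∈ centralizer ({v} : Set G) := by rw [← e]; exact (hFC hu).2
      exact mem_centralizer_singleton.1 h1
    have hp'p' : ∀ v ∈ F, ∀ w ∈ F, (orderOf v).Coprime p → v * w = w * v := by
      intro v hv w hw hvp
      by_cases hvn : v ∈ Zn
      · exact (mem_centralizer_iff.1 hvn w (hFN hw)).symm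
      have e := centralizer_eq_of_coprime h (hKN hk0) (hFN hv) hk0n hvn (hFk v hv k0 hk0)
        (coprime_of_pow_eq_one (hkp k0 hk0) hvp)
      have h1 : w ∈ centralizer ({v} : Set G) := by rw [← e]; exact (hFC hw).2
      exact (mem_centralizer_singleton.1 h1).symm
    intro a ha b hb
    obtain ⟨u, v, hu, hv, rfl, hup, hvp⟩ := exists_split p a
    obtain ⟨u', v', hu', hv', rfl, hup', hvp'⟩ := exists_split p b
    have huF := zpowers_le.2 ha hu
    have hvF := zpowers_le.2 ha hv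
    have huF' := zpowers_le.2 hb hu'
    have hvF' := zpowers_le.2 hb hv'
    have c1 : Commute u u' := hLab u (hLmem u huF hup) u' (hLmem u' huF' hup')
    have c2 : Commute u v' := hpp' u huF v' hvF' hup hvp'
    have c3 : Commute v u' := (hpp' u' huF' v hvF hup' hvp).symm
    have c4 : Commute v v' := hp'p' v hvF v' hvF' hvp
    exact ((c1.mul_right c2).mul_left (c3.mul_right c4)).eq
  have hKg : ∀ g ∈ N, g ∉ F → ¬ F ≤ centralizer ({g} : Set G) := fun g hg hgF hle =>
    hgF ⟨hg, mem_centralizer_iff.2 fun k hk => mem_centralizer_singleton.1 (hle (hKF hk))⟩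
  have hZF : N ⊓ Zn ≤ F := fun z hz => ⟨hz.1, mem_centralizer_iff.2 fun k hk =>
    mem_centralizer_iff.1 hz.2 k (hKN hk)⟩
  have hFn' : ¬ F ≤ Zn := fun hle => hk0n (hle (hKF hk0))
  have hG : ∀ g ∈ N, g ∉ F → centralizer ({g} : Set G) ⊔ F = ⊤ := fun g hg hgF => by
    have hgn : g ∉ Zn := fun hz => hgF (hZF ⟨hg, hz⟩)
    exact (h g hg hgn).2 _ (lt_of_le_of_ne le_sup_left fun e => hKg g hg hgF (e ▸ le_sup_right))
  have hnormal : ∀ g ∈ N, g ∉ F → ∀ E : Subgroup G, centralizer ({g} : Set G) ≤ normalizer (E : Set G) →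
      F ≤ normalizer (E : Set G) → E.Normal := fun g hg hgF E h1 h2 =>
    normalizer_eq_top_iff.1 (top_le_iff.1 ((hG g hg hgF).ge.trans (sup_le h1 h2)))
  have hFnorm : ∀ E : Subgroup G, E ≤ F → F ≤ normalizer (E : Set G) := fun E hE f hf =>
    mem_normalizer_iff.2 fun e => ⟨fun he => by
      rwa [hFab f hf e (hE he), mul_inv_cancel_right], fun he => by
      have h1 : f * e * f⁻¹ ∈ F := hE he
      have h2 : e ∈ F := by simpa [mul_assoc] using mul_mem (mul_mem (F.inv_mem hf) h1) hf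
      rwa [hFab f hf e h2, mul_inv_cancel_right] at he⟩
  -- chief factor
  have hchief : ∀ g ∈ N, g ∉ F → F ⊓ centralizer ({g} : Set G) ≤ Zn → ∀ E : Subgroup G, E.Normal →
      E ≤ F → ¬ E ≤ Zn → N ⊓ Zn ≤ E → F ≤ E := by
    intro g hg hgF hgood E hE hEF hEn hZE f hf
    have hgn : g ∉ Zn := fun hz => hgF (hZF ⟨hg, hz⟩)
    have htop : centralizer ({g} : Set G) ⊔ E = ⊤ :=
      (h g hg hgn).2 _ (lt_of_le_of_ne le_sup_left fun e =>
        hEn fun x hx => hgood ⟨hEF hx, e ▸ mem_sup_right hx⟩)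
    obtain ⟨c, hc, e, he, rfl⟩ := mem_sup_of_normal_right.1
      (show f ∈ centralizer ({g} : Set G) ⊔ E by rw [htop]; exact mem_top _)
    have hcF : c ∈ F := by
      have := mul_mem hf (F.inv_mem (hEF he))
      rwa [mul_inv_cancel_right] at this
    exact mul_mem (hZE ⟨hFN hcF, hgood ⟨hcF, hc⟩⟩) he
  have helem : ∀ g ∈ N, g ∉ F → F ⊓ centralizer ({g} : Set G) ≤ Zn → ∀ f ∈ F, f ^ p ∈ Zn := by
    intro g hg hgF hgood
    let E : Subgroup G :=
      { carrier := {f | f ∈ F ∧ f ^ p ∈ Zn}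
        one_mem' := ⟨one_mem F, by rw [one_pow]; exact one_mem Zn⟩
        mul_mem' := fun {a b} ha hb => ⟨mul_mem ha.1 hb.1, by
          rw [Commute.mul_pow (hFab a ha.1 b hb.1)]; exact mul_mem ha.2 hb.2⟩
        inv_mem' := fun {a} ha => ⟨F.inv_mem ha.1, by rw [inv_pow]; exact Zn.inv_mem ha.2⟩ }
    have hEn : E.Normal := ⟨fun a ha x => ⟨hFn.conj_mem a ha.1 x, by
      rw [conj_pow]; exact (inferInstance : Zn.Normal).conj_mem _ ha.2 x⟩⟩
    have key : ∀ j, ∀ k ∈ K, k ^ p ^ j ∈ Zn → k ∈ Zn ∨ ¬ E ≤ Zn := by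
      intro j
      induction j with
      | zero => intro k _ hk; exact Or.inl (by simpa using hk)
      | succ j ih =>
        intro k hk hkj
        rw [pow_succ', pow_mul] at hkj
        rcases ih (k ^ p) (pow_mem hk p) hkj with h1 | h1
        · by_cases hkn : k ∈ Zn
          · exact Or.inl hkn
          · exact Or.inr fun hle => hkn (hle ⟨hKF hk, h1⟩)
        · exact Or.inr h1
    obtain ⟨j, hj⟩ := hkp k0 hk0
    have hEnot : ¬ E ≤ Zn :=
      (key j k0 hk0 (by rw [hj]; exact one_mem Zn)).resolve_left hk0n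
    have hle := hchief g hg hgF hgood E hEn (fun f hf => hf.1) hEnot fun z hz =>
      ⟨hZF hz, pow_mem hz.2 p⟩
    exact fun f hf => (hle hf).2
  -- `p'`-elements of `F` are central
  have hpF : ∀ a ∈ F, (orderOf a).Coprime p → a ∈ Zn := by
    intro a ha hap
    by_contra han
    obtain ⟨g, hg, hgF⟩ := SetLike.not_le_iff_exists.1 (show ¬ N ≤ F from fun hle => hk0n
      (mem_centralizer_iff.2 fun x hx => hFab x (hle hx) k0 (hKF hk0)))
    have hgood : F ⊓ centralizer ({g} : Set G) ≤ Zn := by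
      rintro f ⟨hf, hfg⟩
      by_contra hfn
      obtain ⟨u, v, hu, hv, huv, hup, hvp⟩ := exists_split p f
      have huF := zpowers_le.2 hf hu
      have hvF := zpowers_le.2 hf hv
      have hug : g * u = u * g := (mem_centralizer_singleton.1 (zpowers_le.2 hfg hu)).symm
      have hvg : g * v = v * g := (mem_centralizer_singleton.1 (zpowers_le.2 hfg hv)).symm
      by_cases hvn : v ∈ Zn
      · have hun : u ∉ Zn := fun hz => hfn (by rw [huv]; exact mul_mem hz hvn)
        have e := centralizer_eq_of_coprime h (hFN huF) (hFN ha) hun han (hFab u huF a ha)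
          (coprime_of_pow_eq_one hup hap)
        have h1 : g ∈ centralizer ({a} : Set G) := by rw [← e]; exact mem_centralizer_singleton.2 hug
        exact hgF (hCv a ha hap han g hg (mem_centralizer_singleton.1 h1))
      · exact hgF (hCv v hvF hvp hvn g hg hvg)
    exact han (mem_of_pow_coprime hap 1 (by rw [pow_one]; exact helem g hg hgF hgood a ha))
  obtain ⟨v0, hv0, hv0p, hv0n⟩ := hnp
  have hv0F : v0 ∉ F := fun hc => hv0n (hpF v0 hc hv0p)
  have hgoodp' : ∀ g ∈ N, g ∉ F → (orderOf g).Coprime p → F ⊓ centralizer ({g} : Set G) ≤ Zn := by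
    rintro g hg hgF hgp f ⟨hf, hfg⟩
    by_contra hfn
    obtain ⟨u, v, hu, hv, huv, hup, hvp⟩ := exists_split p f
    have huF := zpowers_le.2 hf hu
    have hun : u ∉ Zn := fun hz =>
      hfn (by rw [huv]; exact mul_mem hz (hpF v (zpowers_le.2 hf hv) hvp))
    have hgn : g ∉ Zn := fun hz => hgF (hZF ⟨hg, hz⟩)
    have e := centralizer_eq_of_coprime h (hFN huF) hg hun hgn
      (mem_centralizer_singleton.1 (zpowers_le.2 hfg hu)) (coprime_of_pow_eq_one hup hgp)
    exact hKg g hg hgF fun x hx => e ▸ mem_centralizer_singleton.2 (hFab x hx u huF)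
  have hgood0 := hgoodp' v0 hv0 hv0F hv0p
  have hel := helem v0 hv0 hv0F hgood0
  -- every `p`-element of `N` lies in `F`
  have hpel : ∀ u ∈ N, (∃ j, u ^ p ^ j = 1) → u ∈ F := by
    intro u hu hup
    by_contra huF
    have hgu : F ⊓ centralizer ({u} : Set G) ≤ Zn := by
      by_contra hnot
      have hn : (F ⊓ centralizer ({u} : Set G)).Normal :=
        hnormal u hu huF _ (fun g hg => mem_normalizer_iff.2 fun x =>
          ⟨fun hx => ⟨hFn.conj_mem x hx.1 g,
              mul_mem (mul_mem hg hx.2) ((centralizer ({u} : Set G)).inv_mem hg)⟩,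
            fun hx => ⟨by simpa [mul_assoc] using hFn.conj_mem _ hx.1 g⁻¹, by
              simpa [mul_assoc] using
                mul_mem (mul_mem ((centralizer ({u} : Set G)).inv_mem hg) hx.2) hg⟩⟩)
          (hFnorm _ inf_le_left)
      exact hKg u hu huF fun x hx => (hchief v0 hv0 hv0F hgood0 _ hn inf_le_left hnot
        (fun z hz => ⟨hZF hz, mem_centralizer_singleton.2 ((mem_centralizer_iff.1 hz.2 u hu).symm)⟩) hx).2
    let π := QuotientGroup.mk' Zn
    set E := F ⊓ (centralizer ({π u} : Set (G ⧸ Zn))).comap π with hE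
    have hmemE : ∀ x ∈ F, x * u * x⁻¹ * u⁻¹ ∈ Zn → x ∈ E := by
      intro x hx hz
      refine ⟨hx, mem_comap.2 (mem_centralizer_singleton.2 ?_)⟩
      have h1 : π (x * u * x⁻¹ * u⁻¹) = 1 := (QuotientGroup.eq_one_iff _).2 hz
      rw [map_mul, map_mul, map_mul, map_inv, map_inv, mul_inv_eq_one, mul_inv_eq_iff_eq_mul] at h1
      exact h1
    have hofE : ∀ x ∈ E, x * u * x⁻¹ * u⁻¹ ∈ Zn := by
      intro x hx
      have h1 : π x * π u = π u * π x := mem_centralizer_singleton.1 hx.2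
      refine (QuotientGroup.eq_one_iff _).1 (show π (x * u * x⁻¹ * u⁻¹) = 1 from ?_)
      rw [map_mul, map_mul, map_mul, map_inv, map_inv, h1, mul_inv_cancel_right, mul_inv_cancel]
    have hEn : E.Normal := by
      refine hnormal u hu huF E (fun g hg => mem_normalizer_iff.2 fun x => ?_) (hFnorm _ inf_le_left)
      have hg' : π g ∈ centralizer ({π u} : Set (G ⧸ Zn)) := mem_centralizer_singleton.2 (by
        rw [← map_mul, ← map_mul, mem_centralizer_singleton.1 hg])
      refine ⟨fun hx => ⟨hFn.conj_mem x hx.1 g, mem_comap.2 ?_⟩,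
        fun hx => ⟨by simpa [mul_assoc] using hFn.conj_mem _ hx.1 g⁻¹, mem_comap.2 ?_⟩⟩
      · rw [map_mul, map_mul, map_inv]
        exact mul_mem (mul_mem hg' hx.2) (Subgroup.inv_mem _ hg')
      · have := mul_mem (mul_mem (Subgroup.inv_mem _ hg') (mem_comap.1 hx.2)) hg'
        simpa [mul_assoc] using this
    have hEnot : ¬ E ≤ Zn := by
      intro hle
      set R := zpowers u ⊔ L with hR
      haveI := ((isPGroup_zpowers hup).to_sup_of_normal_right hLp).isNilpotent
      have key : ∀ n, ∀ l : R, (l : G) ∈ L → l ∈ Subgroup.upperCentralSeries R n → (l : G) ∈ Zn := by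
        intro n
        induction n with
        | zero =>
          intro l _ hl
          rw [Subgroup.upperCentralSeries_zero, mem_bot] at hl
          rw [hl]; exact one_mem Zn
        | succ n ih =>
          intro l hlL hl
          refine hle (hmemE l hlL.2 (ih ⁅l, ⟨u, mem_sup_left (mem_zpowers u)⟩⁆ ?_
            (Subgroup.mem_upperCentralSeries_succ_iff.1 hl _)))
          show (l : G) * u * (l : G)⁻¹ * u⁻¹ ∈ L
          have h1 := mul_mem hlL (hLn.conj_mem _ (L.inv_mem hlL) u)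
          simpa [mul_assoc] using h1
      refine hk0n (key (Group.nilpotencyClass R) ⟨k0, mem_sup_right (hLmem k0 (hKF hk0) (hkp k0 hk0))⟩
        (hLmem k0 (hKF hk0) (hkp k0 hk0)) ?_)
      rw [Subgroup.upperCentralSeries_nilpotencyClass]; exact mem_top _
    have hFE : F ≤ E := hchief v0 hv0 hv0F hgood0 E hEn inf_le_left hEnot fun z hz =>
      hmemE z (hZF hz) (by
        rw [← mem_centralizer_iff.1 hz.2 u hu, mul_inv_cancel_right, mul_inv_cancel]; exact one_mem Zn)
    refine hFn' fun f hf => hgood0 ⟨hf, mem_centralizer_singleton.2 ?_⟩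
    refine (commute_of_coprime (hFN hf) hv0 (hel f hf) hv0p ?_).symm
    obtain ⟨c, hc, m, hm, hcm⟩ := mem_sup_of_normal_right.1
      (show u ∈ centralizer ({v0} : Set G) ⊔ F by rw [hG v0 hv0 hv0F]; exact mem_top _)
    set m' := m⁻¹ * (v0 * m * v0⁻¹) with hm'd
    have hm' : m' ∈ F := mul_mem (F.inv_mem hm) (hFn.conj_mem m hm v0)
    have hvu : v0 * u * v0⁻¹ = u * m' := by
      rw [hm'd, ← hcm]
      calc v0 * (c * m) * v0⁻¹ = (v0 * c) * m * v0⁻¹ := by group
        _ = (c * v0) * m * v0⁻¹ := by rw [mem_centralizer_singleton.1 hc]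
        _ = c * m * (m⁻¹ * (v0 * m * v0⁻¹)) := by group
    set f' := v0 * f * v0⁻¹ with hf'd
    have hf' : f' ∈ F := hFn.conj_mem f hf v0
    have hz := hofE f (hFE hf)
    have h1 : v0 * (f * u * f⁻¹ * u⁻¹) * v0⁻¹ = f * u * f⁻¹ * u⁻¹ := by
      rw [← (mem_centralizer_iff.1 hz v0 hv0).symm, mul_inv_cancel_right]
    have hcm2 : m' * f'⁻¹ = f'⁻¹ * m' := hFab m' hm' f'⁻¹ (F.inv_mem hf')
    have h2 : f' * u * f'⁻¹ * u⁻¹ = f * u * f⁻¹ * u⁻¹ := by
      rw [← h1]
      calc f' * u * f'⁻¹ * u⁻¹ = f' * u * (f'⁻¹ * m') * (u * m')⁻¹ := by group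
        _ = f' * u * (m' * f'⁻¹) * (u * m')⁻¹ := by rw [hcm2]
        _ = f' * (v0 * u * v0⁻¹) * f'⁻¹ * (v0 * u * v0⁻¹)⁻¹ := by rw [hvu]; group
        _ = v0 * (f * u * f⁻¹ * u⁻¹) * v0⁻¹ := by rw [hf'd]; group
    have h2' : f' * u * f'⁻¹ = f * u * f⁻¹ := mul_right_cancel h2
    have h3 : f'⁻¹ * f ∈ Zn := hgu ⟨mul_mem (F.inv_mem hf') hf, mem_centralizer_singleton.2 (by
      calc f'⁻¹ * f * u = f'⁻¹ * (f * u * f⁻¹) * f := by group
        _ = u * (f'⁻¹ * f) := by rw [← h2']; group)⟩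
    have h4 := (inferInstance : Zn.Normal).conj_mem _ (Zn.inv_mem h3) f
    have h5 : f * (f'⁻¹ * f)⁻¹ * f⁻¹ = f' * f⁻¹ := by
      calc f * (f'⁻¹ * f)⁻¹ * f⁻¹ = f * (f⁻¹ * f') * f⁻¹ := by group
        _ = f' * f⁻¹ := by group
    rw [h5] at h4
    exact h4
  have hpart : ∀ g ∈ N, g ∉ F → ∃ g' ∈ zpowers g, g' ∉ F ∧ (orderOf g').Coprime p := by
    intro g hg hgF
    obtain ⟨u, v, hu, hv, huv, hup, hvp⟩ := exists_split p g
    exact ⟨v, hv, fun hvF => hgF (by
      rw [huv]; exact mul_mem (hpel u (zpowers_le.2 hg hu) hup) hvF), hvp⟩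
  have hgood : ∀ g ∈ N, g ∉ F → F ⊓ centralizer ({g} : Set G) ≤ Zn := by
    rintro g hg hgF f ⟨hf, hfg⟩
    obtain ⟨g', hg', hg'F, hg'p⟩ := hpart g hg hgF
    refine hgoodp' g' (zpowers_le.2 hg hg') hg'F hg'p ⟨hf, ?_⟩
    have h1 : g' ∈ centralizer ({f} : Set G) :=
      zpowers_le.2 (mem_centralizer_singleton.2 (mem_centralizer_singleton.1 hfg).symm) hg'
    exact mem_centralizer_singleton.2 (mem_centralizer_singleton.1 h1).symm
  refine ⟨F, v0, hFn, hFN, hFn', hv0, hv0F, hZF, hFab, hel, hG v0 hv0 hv0F, hgood,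
    fun g hg hgF => ?_, hpart⟩
  have hk0c : ∀ c ∈ N, c ∈ centralizer ({k0} : Set G) → c ∈ F := fun c hc hck => by
    by_contra hcF
    exact hk0n (hgood c hc hcF ⟨hKF hk0,
      mem_centralizer_singleton.2 (mem_centralizer_singleton.1 hck).symm⟩)
  set M := F ⊔ zpowers g with hM
  haveI hMn : M.Normal := by
    refine hnormal g hg hgF M (fun x hx => ?_) ((le_sup_left).trans le_normalizer)
    rw [mem_normalizer_iff_map_conj_eq, Subgroup.map_sup]
    congr 1
    · exact mem_normalizer_iff_map_conj_eq.1 (by rw [normalizer_eq_top]; exact mem_top _)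
    · rw [MonoidHom.map_zpowers]
      congr 1
      show x * g * x⁻¹ = g
      rw [mem_centralizer_singleton.1 hx, mul_inv_cancel_right]
  have hMN : M ≤ N := sup_le hFN (zpowers_le.2 hg)
  have htop : centralizer ({k0} : Set G) ⊔ M = ⊤ := (h k0 (hKN hk0) hk0n).2 _
    (lt_of_le_of_ne le_sup_left fun e => hgF (hk0c g hg (e ▸ mem_sup_right (mem_sup_right (mem_zpowers g)))))
  intro x hx
  obtain ⟨c, hc, m, hm, rfl⟩ := mem_sup_of_normal_right.1
    (show x ∈ centralizer ({k0} : Set G) ⊔ M by rw [htop]; exact mem_top _)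
  have hcN : c ∈ N := by
    have := mul_mem hx (N.inv_mem (hMN hm))
    rwa [mul_inv_cancel_right] at this
  exact mul_mem (mem_sup_left (hk0c c hcN hc)) hm

theorem card_prime_of_forall_zpowers {A : Subgroup G} (hA : A ≠ ⊥)
    (hgen : ∀ a ∈ A, a ≠ 1 → A ≤ zpowers a) : (Nat.card A).Prime := by
  obtain ⟨r, hr, hrd⟩ := Nat.exists_prime_and_dvd (n := Nat.card A)
    (fun h1 => hA (card_eq_one.1 h1))
  haveI := Fact.mk hr
  obtain ⟨a, ha⟩ := exists_prime_orderOf_dvd_card' r hrd
  have ha1 : (a : G) ≠ 1 := fun h1 => hr.ne_one (by rw [← ha, ← Subgroup.orderOf_coe, h1, orderOf_one])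
  have e : A = zpowers (a : G) := le_antisymm (hgen a a.2 ha1) (zpowers_le.2 a.2)
  rwa [e, Nat.card_zpowers, Subgroup.orderOf_coe, ha]

end

/-- Let N be a normal subgroup of the finite group G such that for every element x of N outside the center of N the centralizer C_G(x) is a maximal subgroup of G. Then N/Z(N) is either an elementary abelian p-group for some prime p, or a Frobenius group whose kernel is an elementary abelian normal subgroup and whose complement has prime order. -/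
theorem result {G : Type*} [Group G] [Finite G] (N : Subgroup G) [N.Normal]
    (h : ∀ x : G, x ∈ N → x ∉ Subgroup.centralizer (N : Set G) → IsCoatom (Subgroup.centralizer ({x} : Set G))) :
    (∃ p : ℕ, p.Prime ∧ Cfsg.IsElementaryAbelian p (⊤ : Subgroup (↥N ⧸ Subgroup.center ↥N))) ∨
    (∃ (Q K : Subgroup (↥N ⧸ Subgroup.center ↥N)) (p : ℕ), p.Prime ∧ Cfsg.IsFrobeniusComplement Q ∧ (Nat.card ↥Q).Prime ∧
      K.Normal ∧ (K : Set (↥N ⧸ Subgroup.center ↥N)) = Cfsg.frobeniusKernel Q ∧ Cfsg.IsElementaryAbelian p K) := by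
  classical
  set Zn := centralizer (N : Set G) with hZn
  let π := QuotientGroup.mk' (center N)
  have hπ : ∀ x : N, π x = 1 ↔ (x : G) ∈ Zn := fun x => by
    rw [QuotientGroup.mk'_apply, QuotientGroup.eq_one_iff, mem_center_iff]
    exact ⟨fun hx => mem_centralizer_iff.2 fun g hg => congrArg Subtype.val (hx ⟨g, hg⟩),
      fun hx g => Subtype.ext (mem_centralizer_iff.1 hx g g.2)⟩
  have hπs : Function.Surjective π := QuotientGroup.mk'_surjective _
  by_cases hna : N ≤ Zn
  · refine Or.inl ⟨2, Nat.prime_two, ⟨⟨fun a b => ?_⟩⟩, fun a _ => ?_⟩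
    · obtain ⟨x, hx⟩ := hπs a
      obtain ⟨y, hy⟩ := hπs b
      refine Subtype.ext ?_
      rw [Subgroup.coe_mul, Subgroup.coe_mul, ← hx, ← hy, (hπ x).2 (hna x.2), (hπ y).2 (hna y.2)]
    · obtain ⟨x, rfl⟩ := hπs a
      rw [(hπ x).2 (hna x.2), one_pow]
  obtain ⟨p, hp, K, hK, hKp, hKN, hKn⟩ := exists_core h hna
  by_cases hall : ∀ v ∈ N, (orderOf v).Coprime p → v ∈ Zn
  · obtain ⟨h1, h2⟩ := elementary_case h hall
    refine Or.inl ⟨p, hp.out, ⟨⟨fun a b => ?_⟩⟩, fun a _ => ?_⟩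
    · obtain ⟨x, hx⟩ := hπs a
      obtain ⟨y, hy⟩ := hπs b
      refine Subtype.ext ?_
      rw [Subgroup.coe_mul, Subgroup.coe_mul, ← hx, ← hy, ← commutatorElement_eq_one_iff_mul_comm,
        ← map_commutatorElement, hπ]
      exact h2 x x.2 y y.2
    · obtain ⟨x, rfl⟩ := hπs a
      rw [← map_pow, hπ]
      exact h1 x x.2
  push Not at hall
  obtain ⟨F, v, hFn, hFN, hFne, hv, hvF, hZF, hFab, hel, htop, hgood, hgen, hpart⟩ :=
    frobenius_data h hKp hKN hKn
      (fun L hL hLp hLN l hl hln => by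
        by_contra hLl
        obtain ⟨a, ha, hap, han⟩ := hall
        exact han (central_of_nonabelian_core h hLp hLN hl hln hLl a ha hap))
      hall
  haveI := hFn
  refine Or.inr ⟨((centralizer ({v} : Set G)).subgroupOf N).map π, (F.subgroupOf N).map π, p, hp.out, ?_⟩
  set Q := ((centralizer ({v} : Set G)).subgroupOf N).map π with hQ
  set Kb := (F.subgroupOf N).map π with hKb
  haveI hKbn : Kb.Normal := (hFn.subgroupOf N).map π hπs
  have hzero : ∀ x y : N, π x = π y → (x : G) ∈ F → (y : G) ∈ F := by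
    intro x y e hx
    have h1 : ((x⁻¹ * y : N) : G) ∈ Zn := (hπ _).1 (by rw [map_mul, map_inv, e, inv_mul_cancel])
    have h2 := mul_mem hx (hZF ⟨(x⁻¹ * y : N).2, h1⟩)
    simpa using h2
  have hQ1 : Q ≠ ⊥ := fun e => hvF (hzero 1 ⟨v, hv⟩ (by
    rw [map_one]; symm; rw [← mem_bot, ← e]
    exact ⟨⟨v, hv⟩, mem_centralizer_singleton.2 rfl, rfl⟩) (one_mem F))
  have hK1 : Kb ≠ ⊥ := fun e => hFne fun f hf => (hπ ⟨f, hFN hf⟩).1 (by
    rw [← mem_bot, ← e]; exact ⟨⟨f, hFN hf⟩, hf, rfl⟩)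
  have hsplit : ∀ x : N, ∃ f c : N, (f : G) ∈ F ∧ (c : G) ∈ centralizer ({v} : Set G) ∧ x = f * c := by
    intro x
    obtain ⟨f, hf, c, hc, hfc⟩ := mem_sup_of_normal_left.1
      (show (x : G) ∈ F ⊔ centralizer ({v} : Set G) by rw [sup_comm, htop]; exact mem_top _)
    have hcN : c ∈ N := by
      rw [eq_inv_mul_of_mul_eq hfc]; exact mul_mem (N.inv_mem (hFN hf)) x.2
    exact ⟨⟨f, hFN hf⟩, ⟨c, hcN⟩, hf, hc, Subtype.ext hfc.symm⟩
  have hcompl : IsComplement' Kb Q := by
    refine isComplement'_of_disjoint_and_mul_eq_univ (disjoint_iff.2 ?_) ?_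
    · refine (eq_bot_iff_forall _).2 ?_
      rintro _ ⟨⟨f, hf, rfl⟩, c, hc, hcf⟩
      rw [← hcf, hπ]
      exact hgood v hv hvF ⟨hzero f c hcf.symm hf, hc⟩
    · refine Set.eq_univ_iff_forall.2 fun a => ?_
      obtain ⟨x, rfl⟩ := hπs a
      obtain ⟨f, c, hf, hc, rfl⟩ := hsplit x
      exact ⟨π f, ⟨f, hf, rfl⟩, π c, ⟨c, hc, rfl⟩, (map_mul π f c).symm⟩
  have hQF : Cfsg.IsFrobeniusComplement Q := by
    rw [CfsgLib.Solvable.isFrobeniusComplement_iff_fpf hcompl hK1 hQ1]
    rintro _ ⟨c, hc, rfl⟩ hc1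
    refine (eq_bot_iff_forall _).2 ?_
    rintro _ ⟨⟨f, hf, rfl⟩, hfc⟩
    have hcF : (c : G) ∉ F := fun hcF => hc1 ((hπ c).2 (hgood v hv hvF ⟨hcF, hc⟩))
    obtain ⟨g', ⟨i, hi⟩, hg'F, hg'p⟩ := hpart c c.2 hcF
    rw [hπ]
    refine hgood g' (hi ▸ N.zpow_mem c.2 i) hg'F ⟨hf, mem_centralizer_singleton.2 ?_⟩
    refine (commute_of_coprime f.2 (hi ▸ N.zpow_mem c.2 i) (hel f hf) hg'p ?_).symm
    have h1 : Commute (π (c ^ i)) (π f) := by
      rw [map_zpow]
      exact Commute.zpow_left (mem_centralizer_singleton.1 hfc).symm i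
    have h2 : π (c ^ i * f * (c ^ i)⁻¹ * f⁻¹) = 1 := by
      rw [map_mul, map_mul, map_mul, map_inv, map_inv, h1.eq, mul_inv_cancel_right, mul_inv_cancel]
    rw [← hi]
    exact (hπ _).1 h2
  refine ⟨hQF, ?_, hKbn, ?_, ⟨⟨fun a b => ?_⟩⟩, ?_⟩
  · refine card_prime_of_forall_zpowers hQ1 ?_
    rintro _ ⟨c, hc, rfl⟩ hc1 _ ⟨d, hd, rfl⟩
    have hcF : (c : G) ∉ F := fun hcF => hc1 ((hπ c).2 (hgood v hv hvF ⟨hcF, hc⟩))
    obtain ⟨f, hf, w, ⟨i, hi⟩, hfw⟩ := mem_sup_of_normal_left.1 (hgen c c.2 hcF d.2)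
    have hfC : f ∈ centralizer ({v} : Set G) := by
      rw [eq_mul_inv_of_mul_eq hfw, ← hi]
      exact mul_mem hd (Subgroup.inv_mem _ (Subgroup.zpow_mem _ hc i))
    refine ⟨i, ?_⟩
    have e : d = (⟨f, hFN hf⟩ : N) * c ^ i := Subtype.ext (by rw [← hfw, ← hi]; simp)
    show (π c) ^ i = π d
    rw [e, map_mul, map_zpow, (hπ ⟨f, hFN hf⟩).2 (hgood v hv hvF ⟨hf, hfC⟩), one_mul]
  · refine Set.eq_of_subset_of_ncard_le ?_ (le_of_eq ?_)
    · intro a ha
      rw [CfsgLib.Solvable.mem_frobeniusKernel_iff]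
      refine or_iff_not_imp_left.2 fun ha1 g hg => ha1 ?_
      have h1 : g⁻¹ * a * g ∈ Kb ⊓ Q := ⟨by simpa using hKbn.conj_mem a ha g⁻¹, hg⟩
      rw [hcompl.disjoint.eq_bot, mem_bot] at h1
      calc a = g * (g⁻¹ * a * g) * g⁻¹ := by group
        _ = 1 := by rw [h1]; group
    · rw [← Nat.card_coe_set_eq, ← Nat.card_coe_set_eq, CfsgLib.Solvable.card_frobeniusKernel hQF,
        hcompl.index_eq_card]
      rfl
  · obtain ⟨x, hx, hxa⟩ := a.2
    obtain ⟨y, hy, hyb⟩ := b.2
    refine Subtype.ext ?_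
    rw [Subgroup.coe_mul, Subgroup.coe_mul, ← hxa, ← hyb, ← map_mul, ← map_mul]
    exact congrArg π (Subtype.ext (hFab x hx y hy))
  · rintro _ ⟨f, hf, rfl⟩
    rw [← map_pow, hπ]
    exact hel f hf

end Cfsg.Agent.S3905
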