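import Cfsg.Statements.S3906
import Cfsg.Agent.Lib.CoprimeClass.DerivedMain

set_option autoImplicit false
open Cfsg

namespace Cfsg.Agent.S3906

theorem derivedSeries_eq_dser {G : Type*} [Group G] : ∀ j, derivedSeries G j = CfsgLib.CoprimeClass.dser (⊤ : Subgroup G) j := by
  intro j
  induction j with
  | zero => rfl
  | succ j ih => rw [derivedSeries_succ, ih]; rfl

open Subgroup in
theorem bound_semidirect {p k c d : ℕ} (hp : p.Prime) (hd : 2 ^ d + 2 ≤ k) (G : Type) [Group G] [Finite G]
    (hcop : (Nat.card G).Coprime p) (A : Subgroup (MulAut G)) (hA : Cfsg.IsElementaryAbelian p A)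
    (hcard : Nat.card ↥A = p ^ k)
    (hcls : ∀ a ∈ A, a ≠ 1 → (derivedSeries ↥((a : MulAut G).toMonoidHom.eqLocus (MonoidHom.id G)) d).lowerCentralSeries c = ⊥) :
    (derivedSeries G d).lowerCentralSeries (CfsgLib.CoprimeClass.clsBound p k c) = ⊥ := by
  haveI : Fact p.Prime := ⟨hp⟩
  haveI : Finite (G ⋊[A.subtype] ↥A) := Finite.of_equiv (G × ↥A) SemidirectProduct.equivProd.symm
  let iG : G →* G ⋊[A.subtype] ↥A := SemidirectProduct.inl
  let iA : ↥A →* G ⋊[A.subtype] ↥A := SemidirectProduct.inr
  have hiG : Function.Injective iG := SemidirectProduct.inl_injective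
  have hiA : Function.Injective iA := SemidirectProduct.inr_injective
  have hnorm : (iG.range).Normal := by
    rw [show iG.range = (SemidirectProduct.rightHom : G ⋊[A.subtype] ↥A →* ↥A).ker from
      SemidirectProduct.range_inl_eq_ker_rightHom]
    infer_instance
  have hEl : Cfsg.IsElementaryAbelian p iA.range := by
    refine ⟨⟨⟨?_⟩⟩, ?_⟩
    · rintro ⟨_, a, rfl⟩ ⟨_, b, rfl⟩
      have h := hA.1.1.1 a b
      exact Subtype.ext (show iA a * iA b = iA b * iA a by rw [← map_mul, ← map_mul, h])
    · rintro _ ⟨a, rfl⟩
      rw [← map_pow, show a ^ p = 1 from Subtype.ext (by rw [SubgroupClass.coe_pow]; exact hA.2 a a.2), map_one]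
  have hcA : Nat.card iA.range = p ^ k := by
    rw [← Nat.card_congr (MonoidHom.ofInjective hiA).toEquiv, hcard]
  have hcG : Nat.card iG.range = Nat.card G := (Nat.card_congr (MonoidHom.ofInjective hiG).toEquiv).symm
  have hAct : CfsgLib.CoprimeClass.CopAct p iA.range iG.range :=
    ⟨hEl, hnorm, by rw [hcG]; exact hp.coprime_iff_not_dvd.1 hcop.symm⟩
  have hC : CfsgLib.CoprimeClass.ClsHypD d c iA.range iG.range := by
    rintro _ ⟨a, rfl⟩ ha
    have ha' : (a : MulAut G) ≠ 1 := fun h => ha (by rw [show a = 1 from Subtype.ext h, map_one])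
    set E := (a : MulAut G).toMonoidHom.eqLocus (MonoidHom.id G) with hE
    have key : CfsgLib.CoprimeClass.fixH iG.range (zpowers (iA a)) = E.map iG := by
      rw [CfsgLib.CoprimeClass.fixH, zpowers_eq_closure, centralizer_closure]
      ext x
      constructor
      · rintro ⟨⟨g, rfl⟩, hx⟩
        refine ⟨g, ?_, rfl⟩
        have h1 := Subgroup.mem_centralizer_singleton_iff.1 hx
        refine hiG ?_
        show iG ((A.subtype a) g) = iG g
        rw [SemidirectProduct.inl_aut]
        show iA a * iG g * iA a⁻¹ = iG g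
        rw [← h1, map_inv, mul_inv_cancel_right]
      · rintro ⟨g, hg, rfl⟩
        refine ⟨⟨g, rfl⟩, Subgroup.mem_centralizer_singleton_iff.2 ?_⟩
        have h1 := SemidirectProduct.inl_aut (φ := A.subtype) a g
        rw [show (A.subtype a) g = g from hg] at h1
        show iG g * iA a = iA a * iG g
        have h3 : iG g = iA a * iG g * iA a⁻¹ := h1
        conv_lhs => rw [h3, map_inv, inv_mul_cancel_right]
    have h := congrArg (fun S => (S.map E.subtype).map iG) (hcls a a.2 ha')
    simp only [map_lowerCentralSeries, Subgroup.map_bot] at h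
    rw [CfsgLib.CoprimeClass.map_subtype_derivedSeries, CfsgLib.CoprimeClass.map_dser] at h
    rw [key]
    exact h
  have hmain := CfsgLib.CoprimeClass.dser_class_bound (m := d) (c := c) hd hAct hcA hC
  rw [MonoidHom.range_eq_map iG, ← CfsgLib.CoprimeClass.map_dser, ← map_lowerCentralSeries,
    map_eq_bot_iff_of_injective _ hiG] at hmain
  rw [derivedSeries_eq_dser]
  exact hmain


/-- Let p be a prime and let k ≥ 3, c ≥ 0 and d ≥ 0 be integers with 2^d + 2 ≤ k. There is a bound B depending only on p, k, c and d such that the following holds for every finite group G of order prime to p and every elementary abelian subgroup A of order p^k of the automorphism group of G: if, for every non-identity a ∈ A, the d-th derived subgroup of the fixed-point subgroup C_G(a) (the 0-th derived subgroup of a group being the group itself) is nilpotent of class at most c, then the d-th derived subgroup of G is nilpotent of class at most B. -/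
theorem result (p k c d : ℕ) (hp : p.Prime) (hk : 3 ≤ k) (hd : 2 ^ d + 2 ≤ k) :
    ∃ B : ℕ, ∀ (G : Type) [Group G] [Finite G], (Nat.card G).Coprime p →
      ∀ A : Subgroup (MulAut G), Cfsg.IsElementaryAbelian p A → Nat.card ↥A = p ^ k →
        (∀ a ∈ A, a ≠ 1 → (derivedSeries ↥((a : MulAut G).toMonoidHom.eqLocus (MonoidHom.id G)) d).lowerCentralSeries c = ⊥) →
        (derivedSeries G d).lowerCentralSeries B = ⊥ := by
  exact ⟨CfsgLib.CoprimeClass.clsBound p k c, fun G _ _ hcop A hA hcard hcls =>
    bound_semidirect hp hd G hcop A hA hcard hcls⟩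

end Cfsg.Agent.S3906
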