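import Cfsg.Statements.S3909
import Mathlib

set_option autoImplicit false
open Cfsg

namespace Cfsg.Agent.S3909

/-- Let G be a finite group in which any two abelian subgroups of the same order are conjugate. Let M be a normal subgroup of G. If M contains an element of the same order as a ∈ G, then a ∈ M; and if M is elementary abelian of order p^t with p prime and t ≥ 2, then M is the unique Sylow p-subgroup of G. -/
theorem result {G : Type*} [Group G] [Finite G] (hB : ∀ A B : Subgroup G, IsMulCommutative ↥A → IsMulCommutative ↥B → Nat.card ↥A = Nat.card ↥B → ∃ g : G, B = A.map (MulAut.conj g).toMonoidHom) (M : Subgroup G) [M.Normal] :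
    (∀ a : G, (∃ m ∈ M, orderOf m = orderOf a) → a ∈ M) ∧
    ∀ (p t : ℕ) [Fact p.Prime], 2 ≤ t → Nat.card ↥M = p ^ t → Cfsg.IsElementaryAbelian p M → ∀ P : Sylow p G, (P : Subgroup G) = M := by
  have hzc : ∀ x : G, IsMulCommutative (Subgroup.zpowers x) := fun x => inferInstance
  have hfirst : ∀ a : G, (∃ m ∈ M, orderOf m = orderOf a) → a ∈ M := by
    rintro a ⟨m, hm, hma⟩
    obtain ⟨g, hg⟩ := hB (Subgroup.zpowers m) (Subgroup.zpowers a) (hzc m) (hzc a)
      (by rw [Nat.card_zpowers, Nat.card_zpowers, hma])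
    have ha : a ∈ Subgroup.zpowers a := Subgroup.mem_zpowers a
    rw [hg] at ha
    obtain ⟨y, hy, rfl⟩ := ha
    exact ‹M.Normal›.conj_mem y (Subgroup.zpowers_le.2 hm hy) g
  refine ⟨hfirst, fun p t hp ht hcard hM P => ?_⟩
  have hpp : p.Prime := hp.out
  have hMp : IsPGroup p M := IsPGroup.of_card hcard
  have hMP : M ≤ (P : Subgroup G) := hMp.le_sylow_of_normal P
  refine le_antisymm (fun x hx => ?_) hMP
  obtain ⟨m, hm⟩ := exists_prime_orderOf_dvd_card' (G := M) p
    (by rw [hcard]; exact dvd_pow_self p (by omega))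
  have hone : ∀ y : G, y ^ p = 1 → y ∈ M := by
    intro y hy
    rcases eq_or_ne y 1 with rfl | hy1
    · exact M.one_mem
    · exact hfirst y ⟨m, m.2, by rw [Subgroup.orderOf_coe, hm, orderOf_eq_prime hy hy1]⟩
  by_contra hxM
  obtain ⟨k, hk⟩ := IsPGroup.iff_orderOf.1 P.isPGroup' ⟨x, hx⟩
  rw [← Subgroup.orderOf_coe] at hk
  have hk2 : 2 ≤ k := by
    by_contra hk2
    exact hxM (hone x (orderOf_dvd_iff_pow_eq_one.1
      (hk ▸ (pow_dvd_pow p (by omega : k ≤ 1)).trans (pow_one p).dvd)))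
  obtain ⟨K, hKM, hK⟩ : ∃ K : Subgroup G, K ≤ M ∧ Nat.card K = p ^ 2 := by
    obtain ⟨K, hK⟩ := Sylow.exists_subgroup_card_pow_prime (G := M) p (n := 2)
      (hcard ▸ pow_dvd_pow p ht)
    exact ⟨K.map M.subtype, Subgroup.map_subtype_le _,
      by rw [Subgroup.card_map_of_injective M.subtype_injective, hK]⟩
  set u := x ^ p ^ (k - 2) with hu
  have huord : orderOf u = p ^ 2 := by
    rw [hu, orderOf_pow' _ (pow_ne_zero _ hpp.ne_zero), hk,
      Nat.gcd_eq_right (pow_dvd_pow p (by omega)), Nat.pow_div (by omega) hpp.pos]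
    congr 1; omega
  haveI := hM.1
  obtain ⟨g, hg⟩ := hB K (Subgroup.zpowers u)
    ⟨⟨fun a b => Subtype.ext (congrArg Subtype.val
      (hM.1.is_comm.comm (⟨a, hKM a.2⟩ : M) ⟨b, hKM b.2⟩) :)⟩⟩
    (hzc u) (by rw [hK, Nat.card_zpowers, huord])
  have hu' : u ∈ Subgroup.zpowers u := Subgroup.mem_zpowers u
  rw [hg] at hu'
  obtain ⟨y, hy, hyu⟩ := hu'
  have hup : u ^ p = 1 := by rw [← hyu, ← map_pow, hM.2 y (hKM hy), map_one]
  have := Nat.le_of_dvd hpp.pos (huord ▸ orderOf_dvd_of_pow_eq_one hup)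
  nlinarith [hpp.two_le]

end Cfsg.Agent.S3909
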