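import Cfsg.Statements.S3910
import Mathlib
import Cfsg.Agent.Lib.PGroup.Basic
import Cfsg.Agent.Lib.Cores.Coprime
import Cfsg.Agent.Lib.OddLocal.Basic

set_option autoImplicit false
open Cfsg

namespace Cfsg.Agent.S3910

/-- A finite nilpotent group in which any two abelian subgroups of the same order are conjugate is cyclic. -/
theorem result {G : Type*} [Group G] [Finite G] (hB : ∀ A B : Subgroup G, IsMulCommutative ↥A → IsMulCommutative ↥B → Nat.card ↥A = Nat.card ↥B → ∃ g : G, B = A.map (MulAut.conj g).toMonoidHom) (hnil : Group.IsNilpotent G) : IsCyclic G := by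
  haveI := hnil
  suffices IsZGroup G by infer_instance
  refine ⟨fun p hp P => ?_⟩
  haveI := Fact.mk hp
  have hPn : (P : Subgroup G).Normal :=
    Sylow.normal_of_normalizerCondition Group.normalizerCondition_of_isNilpotent P
  by_contra hcyc
  set Φ := frattini (P : Subgroup G)
  -- conjugation by `G` is trivial on the Frattini quotient of `P`
  have hconj : ∀ (g : G) (x : (P : Subgroup G)), ∃ f ∈ Φ,
      g * x * g⁻¹ = ((x * f : (P : Subgroup G)) : G) := by
    intro g x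
    obtain ⟨a, b, hab, ⟨k, hk⟩, hb⟩ : ∃ a b : G, a * b = g ∧ (∃ k, orderOf a = p ^ k) ∧
        ¬ p ∣ orderOf b := by
      obtain ⟨k, m, hm, hkm⟩ := Nat.exists_eq_pow_mul_and_not_dvd (orderOf_pos g).ne' p hp.ne_one
      have hcop : IsCoprime (m : ℤ) ((p ^ k : ℕ) : ℤ) :=
        Nat.Coprime.isCoprime ((hp.coprime_iff_not_dvd.2 hm).pow_left k).symm
      obtain ⟨u, v, huv⟩ := hcop
      refine ⟨g ^ (u * m), g ^ (v * ((p ^ k : ℕ) : ℤ)), by rw [← zpow_add, huv, zpow_one], ?_, ?_⟩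
      · have : orderOf (g ^ (u * m)) ∣ p ^ k := by
          rw [orderOf_dvd_iff_pow_eq_one, ← zpow_natCast, ← zpow_mul, ← orderOf_dvd_iff_zpow_eq_one,
            hkm]
          push_cast
          exact ⟨u, by ring⟩
        obtain ⟨i, -, hi⟩ := (Nat.dvd_prime_pow hp).1 this
        exact ⟨i, hi⟩
      · intro h
        refine hm (h.trans ?_)
        rw [orderOf_dvd_iff_pow_eq_one, ← zpow_natCast, ← zpow_mul, ← orderOf_dvd_iff_zpow_eq_one,
          hkm]
        push_cast
        exact ⟨v, by ring⟩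
    have haP : a ∈ (P : Subgroup G) := by
      have hz : IsPGroup p (Subgroup.zpowers a) := IsPGroup.of_card (by rw [Nat.card_zpowers, hk])
      obtain ⟨Q, hQ⟩ := hz.exists_le_sylow
      haveI := Sylow.unique_of_normal P hPn
      exact Subsingleton.elim Q P ▸ hQ (Subgroup.mem_zpowers a)
    obtain ⟨i, hi⟩ := IsPGroup.iff_orderOf.1 P.isPGroup' x
    have hbx : b * x = (x : G) * b := CfsgLib.OddLocal.commute_of_coprime_orderOf b (x : G) (by
      rw [Subgroup.orderOf_coe, hi]; exact ((hp.coprime_iff_not_dvd.2 hb).pow_left i).symm)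
    refine ⟨x⁻¹ * (⟨a, haP⟩ * x * ⟨a, haP⟩⁻¹), ?_, ?_⟩
    · refine (QuotientGroup.eq_one_iff _).1 ?_
      simp only [QuotientGroup.mk_mul, QuotientGroup.mk_inv]
      rw [CfsgLib.PGroup.quotient_frattini_comm P.isPGroup' ((⟨a, haP⟩ : (P : Subgroup G)) : _ ⧸ Φ) (x : _ ⧸ Φ)]
      group
    · simp only [Subgroup.coe_mul, Subgroup.coe_inv]
      rw [← hab]
      calc a * b * (x : G) * (a * b)⁻¹ = a * (b * (x : G)) * b⁻¹ * a⁻¹ := by group
        _ = _ := by rw [hbx]; group
  have hmem : ∀ {A : Subgroup (P : Subgroup G)}, Φ ≤ A → ∀ (g : G) (x z : (P : Subgroup G)),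
      x ∈ A → (z : G) = g * x * g⁻¹ → z ∈ A := by
    intro A hA g x z hx hz
    obtain ⟨f, hf, hgf⟩ := hconj g x
    rw [Subtype.ext (hz.trans hgf)]
    exact A.mul_mem hx (hA hf)
  -- two cyclic subgroups of the same order agree modulo `Φ`
  have key : ∀ x y : (P : Subgroup G), orderOf x = orderOf y →
      x ∈ Subgroup.zpowers y ⊔ Φ := by
    intro x y h
    obtain ⟨g, hg⟩ := hB (Subgroup.zpowers (y : G)) (Subgroup.zpowers (x : G)) inferInstance
      inferInstance (by rw [Nat.card_zpowers, Nat.card_zpowers, Subgroup.orderOf_coe, Subgroup.orderOf_coe, h])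
    have hx : (x : G) ∈ Subgroup.zpowers (x : G) := Subgroup.mem_zpowers _
    rw [hg] at hx
    obtain ⟨_, ⟨i, rfl⟩, hi⟩ := hx
    refine hmem le_sup_right g (y ^ i) x (Subgroup.mem_sup_left ⟨i, rfl⟩) ?_
    rw [← hi, Subgroup.coe_zpow]; rfl
  -- an element outside `Φ` of least order
  have hne : ∃ x : (P : Subgroup G), x ∉ Φ := by
    by_contra! h
    haveI : Nontrivial (P : Subgroup G) := by
      by_contra h'
      rw [not_nontrivial_iff_subsingleton] at h'
      exact hcyc inferInstance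
    exact CfsgLib.PGroup.frattini_ne_top P.isPGroup' (eq_top_iff.2 fun x _ => h x)
  obtain ⟨x₀, hx₀⟩ := hne
  obtain ⟨x, hxΦ, hmin⟩ := Set.exists_min_image {x : (P : Subgroup G) | x ∉ Φ} orderOf
    (Set.toFinite _) ⟨x₀, hx₀⟩
  refine hcyc (CfsgLib.PGroup.isCyclic_of_frattini_quotient ?_)
  refine ⟨⟨(x : _ ⧸ Φ), fun q => ?_⟩⟩
  obtain ⟨y, rfl⟩ := QuotientGroup.mk_surjective q
  have hconv : ∀ z : (P : Subgroup G), z ∈ Subgroup.zpowers x ⊔ Φ →
      (z : _ ⧸ Φ) ∈ Subgroup.zpowers (x : _ ⧸ Φ) := by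
    intro z hz
    have hle : Subgroup.zpowers x ⊔ Φ ≤ (Subgroup.zpowers (x : _ ⧸ Φ)).comap (QuotientGroup.mk' Φ) :=
      sup_le (Subgroup.zpowers_le.2 (Subgroup.mem_zpowers _))
        (fun f hf => by
          rw [Subgroup.mem_comap, show QuotientGroup.mk' Φ f = 1 from (QuotientGroup.eq_one_iff f).2 hf]
          exact Subgroup.one_mem _)
    exact hle hz
  by_cases hy : y ∈ Φ
  · exact hconv y (Subgroup.mem_sup_right hy)
  obtain ⟨k, hk⟩ := IsPGroup.iff_orderOf.1 P.isPGroup' x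
  obtain ⟨l, hl⟩ := IsPGroup.iff_orderOf.1 P.isPGroup' y
  have hkl : k ≤ l := by
    have := hmin y hy
    rw [hk, hl] at this
    exact (Nat.pow_le_pow_iff_right hp.one_lt).1 this
  rcases hkl.eq_or_lt with rfl | hlt
  · exact hconv y (key y x (by rw [hk, hl]))
  · exfalso
    apply hxΦ
    have hpow : y ^ p ^ (l - k) ∈ Φ := by
      obtain ⟨j, hj⟩ := Nat.exists_eq_add_of_lt hlt
      rw [show l - k = j + 1 by omega, pow_succ, pow_mul]
      exact CfsgLib.PGroup.pow_mem_frattini P.isPGroup' _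
    have hord : orderOf (y ^ p ^ (l - k)) = p ^ k := by
      rw [orderOf_pow' _ (pow_ne_zero _ hp.ne_zero), hl,
        Nat.gcd_eq_right (pow_dvd_pow p (by omega)), Nat.pow_div (by omega) hp.pos]
      congr 1; omega
    exact (sup_le (Subgroup.zpowers_le.2 hpow) le_rfl : Subgroup.zpowers (y ^ p ^ (l - k)) ⊔ Φ ≤ Φ)
      (key x _ (by rw [hk, hord]))

end Cfsg.Agent.S3910
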