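import Cfsg.Statements.S3911
import Cfsg.Agent.Lib.PGroup.AbelianConj
import Cfsg.Agent.Lib.Solvable.MinimalNonNilpotent
import Cfsg.Agent.Lib.Transfer.Basic
import Cfsg.Agent.Lib.Transfer.Frobenius
import Cfsg.Agent.Lib.Solvable.FrobeniusComplement

set_option autoImplicit false
open Cfsg

namespace Cfsg.Agent.S3911

theorem factorization_card_of_normal {G : Type*} [Group G] [Finite G] {M : Subgroup G} [M.Normal]
    {p : ℕ} [Fact p.Prime] (P : Sylow p G) :
    Nat.card ↥((P : Subgroup G) ⊓ M) = p ^ (Nat.card M).factorization p := by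
  obtain ⟨m, hm⟩ := IsPGroup.iff_card.1 (P.2.to_le (inf_le_left : (P : Subgroup G) ⊓ M ≤ _))
  have hle : m ≤ (Nat.card M).factorization p :=
    ((Fact.out : p.Prime).pow_dvd_iff_le_factorization Nat.card_pos.ne').1
      (hm ▸ Subgroup.card_dvd_of_le inf_le_right)
  obtain ⟨Q⟩ := (inferInstance : Nonempty (Sylow p M))
  obtain ⟨R, hR⟩ := (Q.2.map M.subtype).exists_le_sylow
  obtain ⟨g, rfl⟩ := MulAction.exists_smul_eq G R P
  have h1 : ((Q : Subgroup M).map M.subtype).map (MulAut.conj g).toMonoidHom ≤
      ((g • R : Sylow p G) : Subgroup G) ⊓ M := by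
    rintro _ ⟨x, hx, rfl⟩
    refine ⟨?_, ?_⟩
    · rw [SetLike.mem_coe, Sylow.coe_subgroup_smul]
      exact Subgroup.smul_mem_pointwise_smul _ (MulAut.conj g) _ (hR hx)
    · obtain ⟨y, -, rfl⟩ := hx
      exact Subgroup.Normal.conj_mem inferInstance _ y.2 g
  have h2 := Subgroup.card_dvd_of_le h1
  rw [Subgroup.card_map_of_injective (MulAut.conj g).injective,
    Subgroup.card_map_of_injective M.subtype_injective, Q.card_eq_multiplicity, hm] at h2
  rw [hm, le_antisymm hle ((Nat.pow_dvd_pow_iff_le_right (Fact.out : p.Prime).one_lt).1 h2)]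

theorem mem_zpowers_of_orderOf_dvd {C : Type*} [Group C] [Finite C] [IsCyclic C] {a b : C}
    (h : orderOf a ∣ orderOf b) : a ∈ Subgroup.zpowers b := by
  obtain ⟨k, hk⟩ := h
  have hk0 : k ≠ 0 := by
    rintro rfl
    exact (orderOf_pos b).ne' (by rw [hk, mul_zero])
  refine Subgroup.zpowers_le.2 (pow_mem (Subgroup.mem_zpowers b) k)
    (CfsgLib.Solvable.mem_zpowers_of_isCyclic (x := a) (y := b ^ k) ?_)
  rw [orderOf_pow' b hk0, hk, Nat.gcd_mul_left_left, Nat.mul_div_cancel _ (Nat.pos_of_ne_zero hk0)]

theorem exists_lift {G : Type*} [Group G] [Finite G]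
    (hB : ∀ A B : Subgroup G, IsMulCommutative ↥A → IsMulCommutative ↥B →
      Nat.card ↥A = Nat.card ↥B → ∃ g : G, B = A.map (MulAut.conj g).toMonoidHom)
    (M : Subgroup G) [M.Normal] (hM : Odd (Nat.card ↥M)) (A : Subgroup (G ⧸ M))
    (hA : IsMulCommutative ↥A) :
    ∃ D : Subgroup G, IsMulCommutative ↥D ∧ D.map (QuotientGroup.mk' M) = A ∧
      ∀ p : ℕ, p.Prime → (Nat.card D).factorization p =
        if p ∣ Nat.card A then (Nat.card A).factorization p + (Nat.card M).factorization p else 0 := by
  classical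
  obtain ⟨D, hD, hmin⟩ := WellFounded.has_min (wellFounded_lt (α := Subgroup G))
    {D | D.map (QuotientGroup.mk' M) = A}
    ⟨A.comap (QuotientGroup.mk' M), Subgroup.map_comap_eq_self_of_surjective
      (QuotientGroup.mk'_surjective M) A⟩
  simp only [Set.mem_setOf_eq] at hD
  let φ : D →* A := (((QuotientGroup.mk' M).comp D.subtype).codRestrict A fun x =>
    hD ▸ Subgroup.mem_map_of_mem _ x.2)
  have hφ : Function.Surjective φ := by
    rintro ⟨a, ha⟩
    rw [← hD] at ha
    obtain ⟨d, hd, rfl⟩ := ha
    exact ⟨⟨d, hd⟩, rfl⟩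
  have hker : ∀ d : D, φ d = 1 ↔ (d : G) ∈ M := fun d => by
    rw [← QuotientGroup.eq_one_iff (N := M) (d : G)]
    exact ⟨fun h => congrArg Subtype.val h, fun h => Subtype.ext h⟩
  have hK : ∀ K : Subgroup D, K.map φ = ⊤ → K = ⊤ := by
    intro K hK
    have hle : K.map D.subtype ≤ D := Subgroup.map_subtype_le K
    rcases hle.lt_or_eq with h | h
    · refine absurd h (hmin _ ?_)
      refine le_antisymm ?_ fun a ha => ?_
      · rintro _ ⟨x, hx, rfl⟩
        exact hD ▸ Subgroup.mem_map_of_mem _ (hle hx)
      · obtain ⟨k, hk, hka⟩ := hK.ge (Subgroup.mem_top (⟨a, ha⟩ : A))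
        exact ⟨k, ⟨k, hk, rfl⟩, congrArg Subtype.val hka⟩
    · refine Subgroup.map_injective D.subtype_injective (h.trans ?_)
      rw [← MonoidHom.range_eq_map, Subgroup.range_subtype]
  have hnil : Group.IsNilpotent D := by
    refine ((Group.isNilpotent_of_finite_tfae (G := D)).out 0 2).mpr fun K hKc => ?_
    have hker' : φ.ker ≤ K := by
      by_contra h
      have htop : K ⊔ φ.ker = ⊤ := hKc.2 _ (left_lt_sup.2 h)
      refine hKc.1 (hK K ?_)
      rw [← Subgroup.map_top_of_surjective φ hφ, ← htop, Subgroup.map_sup,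
        (Subgroup.map_eq_bot_iff _).2 le_rfl, sup_bot_eq]
    constructor
    intro k hk d
    have : k⁻¹ * (d * k * d⁻¹) ∈ φ.ker := by
      rw [MonoidHom.mem_ker, map_mul, map_mul, map_mul, map_inv, map_inv, hA.is_comm.comm (φ d)]
      group
    simpa [mul_assoc] using K.mul_mem hk (hker' this)
  haveI := hnil
  have hcards : Nat.card φ.ker * Nat.card A = Nat.card D := by
    rw [← Nat.card_congr (QuotientGroup.quotientKerEquivOfSurjective φ hφ).toEquiv, mul_comm,
      ← Subgroup.card_eq_card_quotient_mul_card_subgroup]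
  have hkM : Nat.card φ.ker ∣ Nat.card M := by
    rw [← Subgroup.card_map_of_injective D.subtype_injective]
    refine Subgroup.card_dvd_of_le ?_
    rintro _ ⟨x, hx, rfl⟩
    exact (hker x).1 hx
  have hfk : ∀ p : ℕ, (Nat.card D).factorization p =
      (Nat.card φ.ker).factorization p + (Nat.card A).factorization p := fun p => by
    rw [← hcards, Nat.factorization_mul Nat.card_pos.ne' Nat.card_pos.ne', Finsupp.add_apply]
  have main : ∀ p : ℕ, p.Prime → (∀ S : Sylow p D, IsMulCommutative (S : Subgroup D)) ∧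
      (Nat.card D).factorization p =
        if p ∣ Nat.card A then (Nat.card A).factorization p + (Nat.card M).factorization p else 0 := by
    intro p hp
    haveI : Fact p.Prime := ⟨hp⟩
    by_cases hpM : p ∣ Nat.card M
    swap
    · have hk0 : (Nat.card φ.ker).factorization p = 0 :=
        Nat.factorization_eq_zero_of_not_dvd fun h => hpM (h.trans hkM)
      refine ⟨fun S => ⟨⟨fun a b => ?_⟩⟩, ?_⟩
      · have hc : φ ((a : D) * b * (a : D)⁻¹ * (b : D)⁻¹) = 1 := by
          rw [map_mul, map_mul, map_mul, map_inv, map_inv, hA.is_comm.comm (φ a)]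
          group
        have hbot : (S : Subgroup D) ⊓ φ.ker = ⊥ := by
          refine Subgroup.eq_bot_of_card_eq _ ?_
          obtain ⟨m, hm⟩ := IsPGroup.iff_card.1 (S.2.to_le (inf_le_left : (S : Subgroup D) ⊓ φ.ker ≤ _))
          rw [hm]
          rcases Nat.eq_zero_or_pos m with rfl | hm0
          · rw [pow_zero]
          · exact absurd (((dvd_pow_self p hm0.ne').trans (hm ▸ Subgroup.card_dvd_of_le inf_le_right)).trans hkM) hpM
        have hmem : (a : D) * b * (a : D)⁻¹ * (b : D)⁻¹ ∈ (S : Subgroup D) ⊓ φ.ker :=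
          ⟨S.mul_mem (S.mul_mem (S.mul_mem a.2 b.2) (S.inv_mem a.2)) (S.inv_mem b.2), hc⟩
        rw [hbot, Subgroup.mem_bot, mul_inv_eq_one, mul_inv_eq_iff_eq_mul] at hmem
        exact Subtype.ext hmem
      · rw [hfk, hk0, Nat.factorization_eq_zero_of_not_dvd hpM, zero_add, add_zero]
        split_ifs with h
        · rfl
        · exact Nat.factorization_eq_zero_of_not_dvd h
    have hp2 : p ≠ 2 := by
      rintro rfl
      exact Nat.not_even_iff_odd.2 hM (even_iff_two_dvd.2 hpM)
    by_cases hpA : p ∣ Nat.card A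
    swap
    · rw [if_neg hpA]
      have hR : Cfsg.pResidual p D = ⊤ := by
        refine hK _ ?_
        rw [CfsgLib.Transfer.map_pResidual_of_surjective φ hφ, eq_top_iff]
        intro a _
        exact CfsgLib.Transfer.mem_pResidual_of_coprime (CfsgLib.Transfer.coprime_of_not_dvd
          fun h => hpA (h.trans (orderOf_dvd_natCard a)))
      have h0 : ¬ p ∣ Nat.card D := by
        intro h
        obtain ⟨S⟩ := (inferInstance : Nonempty (Sylow p D))
        have hle : Cfsg.pResidual p D ≤ Subgroup.centralizer ((S : Subgroup D) : Set D) := by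
          rw [Cfsg.pResidual, Subgroup.closure_le]
          intro g hg
          rw [SetLike.mem_coe, Subgroup.mem_centralizer_iff]
          intro x hx
          refine CfsgLib.OddLocal.commute_of_coprime_orderOf x g ?_
          obtain ⟨j, hj⟩ := IsPGroup.iff_orderOf.1 S.2 ⟨x, hx⟩
          rw [← Subgroup.orderOf_coe] at hj
          rw [show orderOf x = p ^ j from hj]
          exact (Nat.Coprime.pow_left _ hg.symm)
        have hnpc : Cfsg.HasNormalPComplement p D :=
          CfsgLib.Transfer.hasNormalPComplement_of_normalizer_le_centralizer S fun g _ =>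
            hle (hR ▸ Subgroup.mem_top g)
        have h2 := CfsgLib.Transfer.hasNormalPComplement_iff_pResidual.1 hnpc
        rw [hR, Subgroup.card_top] at h2
        exact (hp.coprime_iff_not_dvd.1 h2.symm) h
      refine ⟨fun S => ⟨⟨fun a b => ?_⟩⟩, Nat.factorization_eq_zero_of_not_dvd h0⟩
      have hS : Nat.card (S : Subgroup D) = 1 := by
        rw [S.card_eq_multiplicity, Nat.factorization_eq_zero_of_not_dvd h0, pow_zero]
      haveI := (Nat.card_eq_one_iff_unique.1 hS).1
      exact Subsingleton.elim _ _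
    · rw [if_pos hpA]
      have hcases : ∀ S : Sylow p D, IsMulCommutative (S : Subgroup D) ∧
          (Nat.card φ.ker).factorization p = (Nat.card M).factorization p := by
        intro S
        obtain ⟨P, hP⟩ := (S.2.map D.subtype).exists_le_sylow
        obtain ⟨a, ha⟩ := exists_prime_orderOf_dvd_card' (G := A) p hpA
        obtain ⟨d, rfl⟩ := hφ a
        have hnot : ¬ (S : Subgroup D) ≤ φ.ker := by
          intro h
          have h1 := Subgroup.card_dvd_of_le h
          rw [S.card_eq_multiplicity] at h1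
          have h2 := (hp.pow_dvd_iff_le_factorization Nat.card_pos.ne').1 h1
          have h3 := hfk p
          have h4 : 0 < (Nat.card A).factorization p :=
            hp.factorization_pos_of_dvd Nat.card_pos.ne' hpA
          omega
        rcases CfsgLib.PGroup.sylow_cases_of_abelian_conj hB P with hc | hc | ⟨h2, -⟩
        · refine ⟨?_, ?_⟩
          · constructor; constructor
            intro x y
            haveI := hc
            have h9 := congrArg Subtype.val
              ((IsCyclic.commGroup (α := (P : Subgroup G))).mul_comm ⟨((x : D) : G), hP ⟨x, x.2, rfl⟩⟩ ⟨((y : D) : G), hP ⟨y, y.2, rfl⟩⟩)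
            exact Subtype.ext (Subtype.ext h9)
          · refine le_antisymm ((Nat.factorization_le_iff_dvd Nat.card_pos.ne' Nat.card_pos.ne').2 hkM p) ?_
            obtain ⟨x, hxS, hxk⟩ := SetLike.not_le_iff_exists.1 hnot
            haveI := hc
            have hle : (P : Subgroup G) ⊓ M ≤ Subgroup.zpowers (x : G) := by
              intro y hy
              obtain ⟨u, hu⟩ := IsCyclic.exists_generator (α := (P : Subgroup G))
              obtain ⟨i, hi⟩ := IsPGroup.iff_orderOf.1 P.2 ⟨y, hy.1⟩
              obtain ⟨j, hj⟩ := IsPGroup.iff_orderOf.1 P.2 ⟨(x : G), hP ⟨x, hxS, rfl⟩⟩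
              rcases le_total i j with hij | hij
              · obtain ⟨k, hk⟩ := mem_zpowers_of_orderOf_dvd
                  (a := (⟨y, hy.1⟩ : (P : Subgroup G))) (b := ⟨(x : G), hP ⟨x, hxS, rfl⟩⟩) (hi ▸ hj ▸ pow_dvd_pow p hij)
                exact ⟨k, by simpa using congrArg Subtype.val hk⟩
              · obtain ⟨k, hk⟩ := mem_zpowers_of_orderOf_dvd
                  (b := (⟨y, hy.1⟩ : (P : Subgroup G))) (a := ⟨(x : G), hP ⟨x, hxS, rfl⟩⟩) (hi ▸ hj ▸ pow_dvd_pow p hij)
                refine absurd ((hker x).2 ?_) hxk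
                have := M.zpow_mem hy.2 k
                rwa [show y ^ k = (x : G) by simpa using congrArg Subtype.val hk] at this
            have h5 : Nat.card ↥((P : Subgroup G) ⊓ M) ∣ Nat.card φ.ker := by
              rw [← (Subgroup.card_map_of_injective D.subtype_injective : Nat.card (φ.ker.map D.subtype) = Nat.card φ.ker)]
              refine Subgroup.card_dvd_of_le fun y hy => ?_
              obtain ⟨k, hk⟩ := hle hy
              have hyD : y ∈ D := hk ▸ D.zpow_mem x.2 k
              exact ⟨⟨y, hyD⟩, (hker _).2 hy.2, rfl⟩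
            rw [factorization_card_of_normal P] at h5
            exact (hp.pow_dvd_iff_le_factorization Nat.card_pos.ne').1 h5
        · exfalso
          obtain ⟨x, hxS, hxk⟩ := SetLike.not_le_iff_exists.1 hnot
          obtain ⟨m, hm⟩ := exists_prime_orderOf_dvd_card' (G := M) p hpM
          have hx1 : (x : G) ≠ 1 := fun h => hxk ((hker x).2 (h ▸ M.one_mem))
          have hxo : orderOf (x : G) = p := orderOf_eq_prime (hc _ (hP ⟨x, hxS, rfl⟩)) hx1
          obtain ⟨g, hg⟩ := hB (Subgroup.zpowers (m : G)) (Subgroup.zpowers (x : G)) inferInstance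
            inferInstance (by rw [Nat.card_zpowers, Nat.card_zpowers, hxo, Subgroup.orderOf_coe, hm])
          obtain ⟨y, hy, hyx⟩ := hg ▸ Subgroup.mem_zpowers (x : G)
          exact hxk ((hker x).2 (hyx ▸ Subgroup.Normal.conj_mem inferInstance y
            (Subgroup.zpowers_le.2 m.2 hy) g))
        · exact absurd h2 hp2
      refine ⟨fun S => (hcases S).1, ?_⟩
      rw [hfk, (hcases default).2, add_comm]
  exact ⟨D, CfsgLib.Solvable.isMulCommutative_of_nilpotent hnil fun p hp => (main p hp).1, hD,
    fun p hp => (main p hp).2⟩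

/-- Let G be a finite group in which any two abelian subgroups of the same order are conjugate. If M is a normal subgroup of G of odd order, then any two abelian subgroups of G/M of the same order are conjugate in G/M. -/
theorem result {G : Type*} [Group G] [Finite G] (hB : ∀ A B : Subgroup G, IsMulCommutative ↥A → IsMulCommutative ↥B → Nat.card ↥A = Nat.card ↥B → ∃ g : G, B = A.map (MulAut.conj g).toMonoidHom) (M : Subgroup G) [M.Normal] (hM : Odd (Nat.card ↥M)) :
    ∀ A B : Subgroup (G ⧸ M), IsMulCommutative ↥A → IsMulCommutative ↥B → Nat.card ↥A = Nat.card ↥B →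
      ∃ g : G ⧸ M, B = A.map (MulAut.conj g).toMonoidHom := by
  intro A B hA hB' hcard
  obtain ⟨A', hA1, hA2, hA3⟩ := exists_lift hB M hM A hA
  obtain ⟨B', hB1, hB2, hB3⟩ := exists_lift hB M hM B hB'
  have hc : Nat.card A' = Nat.card B' := by
    refine Nat.eq_of_factorization_eq Nat.card_pos.ne' Nat.card_pos.ne' fun p => ?_
    by_cases hp : p.Prime
    · rw [hA3 p hp, hB3 p hp, hcard]
    · rw [Nat.factorization_eq_zero_of_not_prime _ hp, Nat.factorization_eq_zero_of_not_prime _ hp]
  obtain ⟨g, hg⟩ := hB A' B' hA1 hB1 hc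
  refine ⟨QuotientGroup.mk' M g, ?_⟩
  rw [← hA2, ← hB2, hg, Subgroup.map_map, Subgroup.map_map]
  congr 1

end Cfsg.Agent.S3911
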