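import Cfsg.Statements.S3913
import Mathlib
import Cfsg.Agent.Lib.PGroup.CyclicOrEightConj

set_option autoImplicit false
open Cfsg

namespace Cfsg.Agent.S3913

open Subgroup Cfsg CfsgLib.PGroup.ConjAb
open scoped commutatorElement

section
variable {G : Type*} [Group G] [Finite G]

theorem exists_between {p : ℕ} (hp : p.Prime) {N : Subgroup G}
    (hNc : ∀ a ∈ N, ∀ b ∈ N, a * b = b * a) (hNexp : ∀ a ∈ N, a ^ p = 1) {m : ℕ}
    (hm : Nat.card N = p ^ m) {v v' : G} (hv : v ∈ N) (hv' : v' ∈ N) (hvv' : v' ∉ zpowers v)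
    (hv1 : v ≠ 1) : ∀ k, 1 ≤ k → k < m → ∃ V ≤ N, v ∈ V ∧ v' ∉ V ∧ Nat.card V = p ^ k := by
  haveI := Fact.mk hp
  intro k hk
  induction k, hk using Nat.le_induction with
  | base =>
    intro _
    exact ⟨zpowers v, zpowers_le.2 hv, mem_zpowers v, hvv', by
      rw [Nat.card_zpowers, orderOf_eq_prime (hNexp v hv) hv1, pow_one]⟩
  | succ k hk ih =>
    intro hkm
    obtain ⟨V, hVN, hvV, hv'V, hVc⟩ := ih (by omega)
    have hsup : ∀ (V : Subgroup G) (y : G), V ≤ N → y ∈ N → y ∉ V →
        Nat.card ↥(V ⊔ zpowers y) = Nat.card V * p := by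
      intro V y hV hy hyV
      let f : V × zpowers y →* G := V.subtype.noncommCoprod (zpowers y).subtype
        fun a b => hNc _ (hV a.2) _ (zpowers_le.2 hy b.2)
      have hd : Disjoint V (zpowers y) := by
        rw [disjoint_iff, eq_bot_iff]
        intro z hz
        rw [mem_bot]
        by_contra hz1
        refine hyV (zpowers_le.1 ?_)
        have : zpowers z = zpowers y := eq_of_le_of_card_ge (zpowers_le.2 hz.2) (by
          rw [Nat.card_zpowers, Nat.card_zpowers, orderOf_eq_prime (hNexp z (hV hz.1)) hz1,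
            orderOf_eq_prime (hNexp y hy) fun h => hyV (h ▸ one_mem V)])
        exact this ▸ zpowers_le.2 hz.1
      have hinj : Function.Injective f := (MonoidHom.noncommCoprod_injective _ _ _).2
        ⟨V.subtype_injective, (zpowers y).subtype_injective, by rwa [range_subtype, range_subtype]⟩
      have hr : f.range = V ⊔ zpowers y := by
        exact (MonoidHom.noncommCoprod_range _ _ _).trans (by rw [range_subtype, range_subtype])
      rw [← hr, ← Nat.card_congr (MonoidHom.ofInjective hinj).toEquiv, Nat.card_prod,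
        Nat.card_zpowers, orderOf_eq_prime (hNexp y hy) fun h => hyV (h ▸ one_mem V)]
    obtain ⟨y, hyN, hy⟩ : ∃ y ∈ N, y ∉ V ⊔ zpowers v' := by
      refine SetLike.not_le_iff_exists.1 fun hle => ?_
      have := card_le_of_le hle
      rw [hm, hsup V v' hVN hv' hv'V, hVc, ← pow_succ] at this
      have := (Nat.pow_le_pow_iff_right hp.one_lt).1 this
      omega
    have hyV : y ∉ V := fun h => hy (mem_sup_left h)
    refine ⟨V ⊔ zpowers y, sup_le hVN (zpowers_le.2 hyN), mem_sup_left hvV, fun h => hy ?_, by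
      rw [hsup V y hVN hyN hyV, hVc, pow_succ]⟩
    have hxx : zpowers y ≤ normalizer (V : Set G) := zpowers_le.2 (mem_normalizer_iff.2 fun z => by
      constructor
      · intro hz; rwa [hNc y hyN z (hVN hz), mul_inv_cancel_right]
      · intro hz
        have hcomm := hNc y hyN _ (hVN hz)
        have : y * z * y⁻¹ = z := by
          have h' : y * (y * z * y⁻¹) = y * z := by rw [hcomm, inv_mul_cancel_right]
          exact mul_left_cancel h'
        rwa [this] at hz)
    rw [← SetLike.mem_coe, coe_mul_of_right_le_normalizer_left _ _ hxx, Set.mem_mul] at h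
    obtain ⟨a, ha, _, ⟨i, rfl⟩, he⟩ := h
    change a * y ^ i = v' at he
    have hi : ¬ (p : ℤ) ∣ i := by
      rintro ⟨j, rfl⟩
      rw [zpow_mul, zpow_natCast, hNexp y hyN, one_zpow, mul_one] at he
      exact hv'V (he ▸ ha)
    obtain ⟨s, t, hst⟩ := ((Nat.prime_iff_prime_int.1 hp).coprime_iff_not_dvd.2 hi)
    rw [show y = (y ^ (p : ℤ)) ^ s * (y ^ i) ^ t by
      rw [← zpow_mul, ← zpow_mul, ← zpow_add, mul_comm _ s, mul_comm i t, hst, zpow_one]]
    refine mul_mem ?_ (Subgroup.zpow_mem _ ?_ t)
    · rw [zpow_natCast, hNexp y hyN, one_zpow]; exact one_mem _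
    · rw [show y ^ i = a⁻¹ * v' by rw [← he, inv_mul_cancel_left]]
      exact mul_mem (mem_sup_left (V.inv_mem ha)) (mem_sup_right (mem_zpowers v'))

/-- A noncyclic 2-subgroup normalising a proper nontrivial subgroup of an elementary abelian
normal Sylow subgroup centralises the latter. -/
theorem eight_centralizes (hB : AbConj G) [Group.IsSolvable G] (h2 : ¬ HasPlane 2 G) {p : ℕ}
    (hp : p.Prime) (hpl : HasPlane p G) {W : Subgroup G} (hW : W ≤ pCore p G) (hW1 : W ≠ ⊥)
    (hWN : W ≠ pCore p G) {Q : Subgroup G} (hQ : IsPGroup 2 Q) (hnc : ¬ IsCyclic Q)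
    (hQW : Q ≤ normalizer (W : Set G)) : Q ≤ centralizer (pCore p G : Set G) := by
  classical
  haveI := Fact.mk hp
  haveI : Fact (Nat.Prime 2) := ⟨Nat.prime_two⟩
  obtain ⟨-, hNc, hNexp⟩ := normal_sylow_of_hasPlane hB hp hpl
  set N := pCore p G with hN
  have hNb : N ≠ ⊥ := fun h => hW1 (le_bot_iff.1 (h ▸ hW))
  set K := centralizer (N : Set G) with hK
  set π := QuotientGroup.mk' K with hπdef
  have hπ : Function.Surjective π := QuotientGroup.mk'_surjective _
  haveI : Group.IsSolvable (G ⧸ K) := Group.isSolvable_of_surjective hπ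
  have hY : ∀ A : Subgroup (G ⧸ K), A.Normal → (∀ a ∈ A, ∀ b ∈ A, a * b = b * a) → IsCyclic A :=
    fun A hA hAc => by
      haveI := hA
      exact isCyclic_of_abelian_action hB hp hNc hNexp hNb A hAc
  obtain ⟨⟨x₀, hx₀, hx₀o⟩, hout, hex⟩ := exists_pair_of_eight hB h2 hQ hnc
  have hgen : ∀ D : Subgroup G, (∀ x ∈ Q, orderOf x = 4 → x ∈ D) → Q ≤ D := fun D hD y hy => by
    by_cases hy' : y ∈ zpowers x₀
    · exact zpowers_le.2 (hD x₀ hx₀ hx₀o) hy'
    · exact hD y hy (hout x₀ hx₀ hx₀o y hy hy')
  have hkill : ∀ (M : Subgroup G), M.Normal → ∀ x ∈ Q, orderOf x = 4 → (∀ g : G, ⁅g, x⁆ ∈ M) →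
      x ∈ M := by
    intro M hM x hx hxo hc
    obtain ⟨y, hy, hyx⟩ := hex x hx hxo
    refine mem_of_central_mod hB hM (y := y) hc ((hout x hx hxo y hy hyx).trans hxo.symm) fun m => ?_
    refine (hout x hx hxo _ (Q.mul_mem (Subgroup.zpow_mem _ hx m) hy) fun h => hyx ?_).trans hxo.symm
    simpa using mul_mem (inv_mem (Subgroup.zpow_mem (zpowers x) (mem_zpowers x) m)) h
  -- the image of `Q` is the 2-core of the quotient
  obtain ⟨S, hQS⟩ := hQ.exists_le_sylow
  have hQS' : Q = (S : Subgroup G) := eq_of_le_of_card_ge hQS (by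
    have hSnc : ¬ IsCyclic (S : Subgroup G) := fun h => by
      haveI := h
      exact hnc (isCyclic_of_injective _ (Subgroup.inclusion_injective hQS))
    rw [card_le_eight hB h2 S.2 hSnc, card_le_eight hB h2 hQ hnc])
  have hOQ : pCore 2 (G ⧸ K) ≤ Q.map π := by
    rw [hQS']
    exact CfsgLib.Cores.pCore_le_sylow (S.mapSurjective hπ)
  have hQO : Q.map π = pCore 2 (G ⧸ K) := by
    refine le_antisymm ?_ hOQ
    by_cases h8 : Nat.card (pCore 2 (G ⧸ K)) = 8
    · refine (eq_of_le_of_card_ge hOQ ?_).ge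
      rw [h8, ← card_le_eight hB h2 hQ hnc]
      exact Nat.card_le_card_of_surjective _ (π.subgroupMap_surjective Q)
    rw [map_le_iff_le_comap]
    refine hgen _ fun x hx hxo => ?_
    have hxF : π x ∈ centralizer (fittingSubgroup (G ⧸ K) : Set (G ⧸ K)) := by
      refine le_centralizer_fitting fun s hs => ?_
      rcases core_small hB hπ hY hs with hc | ⟨rfl, h, -, -⟩
      · exact hkill ((centralizer (pCore s (G ⧸ K) : Set (G ⧸ K))).comap π) inferInstance x hx hxo
          (fun g => comm_mem_comap_centralizer π inferInstance hc g x)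
      · exact absurd h h8
    obtain ⟨j, -, hj⟩ := (Nat.dvd_prime_pow Nat.prime_two).1
      (show orderOf (π x) ∣ 2 ^ 2 by
        rw [show (2 : ℕ) ^ 2 = orderOf x by rw [hxo]; norm_num]; exact orderOf_map_dvd π x)
    exact mem_pCore_of_mem_fitting Nat.prime_two
      (CfsgLib.Solvable.centralizer_fittingSubgroup_le hxF) hj
  -- `Q` normalises every subgroup of the order of `W`
  obtain ⟨m, hm⟩ := IsPGroup.iff_card.1 (CfsgLib.Cores.isPGroup_pCore (G := G) p)
  obtain ⟨k, hk, hWc⟩ := (Nat.dvd_prime_pow hp).1 (hm ▸ card_dvd_of_le hW)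
  have hk1 : 1 ≤ k := by
    rcases Nat.eq_zero_or_pos k with rfl | h
    · exact absurd (eq_bot_of_card_eq W (by simpa using hWc)) hW1
    · exact h
  have hkm : k < m := lt_of_le_of_ne hk fun h => hWN (eq_of_le_of_card_ge hW (by
    rw [hWc, h]; exact hm.le))
  have hnorm : ∀ V ≤ N, Nat.card V = p ^ k → ∀ x ∈ Q, ∀ v ∈ V, x * v * x⁻¹ ∈ V := by
    intro V hV hVc x hx v hv
    obtain ⟨g, hg⟩ := hB W V ⟨⟨fun a b => Subtype.ext (hNc _ (hW a.2) _ (hW b.2))⟩⟩
      ⟨⟨fun a b => Subtype.ext (hNc _ (hV a.2) _ (hV b.2))⟩⟩ (hWc.trans hVc.symm)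
    have hxO : π (g⁻¹ * x * g) ∈ Q.map π := by
      rw [hQO, map_mul, map_mul, map_inv]
      have := (inferInstance : (pCore 2 (G ⧸ K)).Normal).conj_mem (π x)
        (hQO ▸ mem_map_of_mem π hx) (π g)⁻¹
      rwa [inv_inv] at this
    obtain ⟨x', hx', he⟩ := hxO
    have hk' : (g⁻¹ * x * g) * x'⁻¹ ∈ K := by
      rw [← QuotientGroup.eq_one_iff]
      show π _ = 1
      rw [map_mul, map_inv, he, mul_inv_cancel]
    rw [hg, conj_eq_map] at hv ⊢
    set w := g⁻¹ * v * g with hw
    have h1 : x' * w * x'⁻¹ ∈ W := (mem_normalizer_iff.1 (hQW hx') w).1 hv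
    have h2 : Commute ((g⁻¹ * x * g) * x'⁻¹) (x' * w * x'⁻¹) :=
      (mem_centralizer_iff.1 hk' _ (hW h1)).symm
    have h3 : (g⁻¹ * x * g) * w * (g⁻¹ * x * g)⁻¹ = x' * w * x'⁻¹ := by
      calc (g⁻¹ * x * g) * w * (g⁻¹ * x * g)⁻¹
          = ((g⁻¹ * x * g) * x'⁻¹) * (x' * w * x'⁻¹) * ((g⁻¹ * x * g) * x'⁻¹)⁻¹ := by group
        _ = _ := by rw [h2.eq, mul_inv_cancel_right]
    rw [show g⁻¹ * (x * v * x⁻¹) * g = (g⁻¹ * x * g) * w * (g⁻¹ * x * g)⁻¹ by rw [hw]; group, h3]
    exact h1
  have hscal : ∀ x ∈ Q, ∀ v ∈ N, x * v * x⁻¹ ∈ zpowers v := by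
    intro x hx v hv
    by_cases hv1 : v = 1
    · simp [hv1]
    by_contra hnot
    obtain ⟨V, hVN, hvV, hv'V, hVc⟩ := exists_between hp hNc hNexp hm hv
      ((inferInstance : N.Normal).conj_mem v hv x) hnot hv1 k hk1 hkm
    exact hv'V (hnorm V hVN hVc x hx v hvV)
  refine hgen K fun x hx hxo => hkill K inferInstance x hx hxo fun g => ?_
  -- `x` commutes with `g` on `N`
  refine mem_centralizer_iff.2 fun u hu => ?_
  set v := (x * g)⁻¹ * u * (x * g) with hv
  have hvN : v ∈ N := by
    have := (inferInstance : N.Normal).conj_mem u hu (x * g)⁻¹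
    rwa [inv_inv] at this
  set w := g * v * g⁻¹ with hw
  have hwN : w ∈ N := (inferInstance : N.Normal).conj_mem v hvN g
  obtain ⟨c, hc⟩ := hscal x hx v hvN
  change v ^ c = x * v * x⁻¹ at hc
  have hc' : w ^ c = x * w * x⁻¹ := by
    by_cases hwv : w ∈ zpowers v
    · obtain ⟨i, hi⟩ := hwv
      change v ^ i = w at hi
      rw [← hi, ← zpow_mul, mul_comm, zpow_mul, hc, conj_zpow]
    · obtain ⟨c', hc'⟩ := hscal x hx w hwN
      change w ^ c' = x * w * x⁻¹ at hc'
      obtain ⟨d, hd⟩ := hscal x hx (v * w) (N.mul_mem hvN hwN)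
      change (v * w) ^ d = x * (v * w) * x⁻¹ at hd
      have h1 : v ^ d * w ^ d = v ^ c * w ^ c' := by
        rw [← (show Commute v w from hNc v hvN w hwN).mul_zpow, hd, hc, hc']; group
      have h2 : w ^ (d - c') = v ^ (c - d) := by
        calc w ^ (d - c') = (v ^ d)⁻¹ * (v ^ d * w ^ d) * (w ^ c')⁻¹ := by rw [zpow_sub]; group
          _ = (v ^ d)⁻¹ * (v ^ c * w ^ c') * (w ^ c')⁻¹ := by rw [h1]
          _ = v ^ (c - d) := by rw [← zpow_neg, sub_eq_neg_add, zpow_add]; group
      have h3 : (p : ℤ) ∣ d - c' := by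
        by_contra h
        obtain ⟨s, t, hst⟩ := ((Nat.prime_iff_prime_int.1 hp).coprime_iff_not_dvd.2 h)
        refine hwv ?_
        rw [show w = (w ^ (p : ℤ)) ^ s * (w ^ (d - c')) ^ t by
          rw [← zpow_mul, ← zpow_mul, ← zpow_add, mul_comm _ s, mul_comm (d - c') t, hst, zpow_one],
          h2, zpow_natCast, hNexp w hwN, one_zpow, one_mul]
        exact Subgroup.zpow_mem _ (Subgroup.zpow_mem _ (mem_zpowers v) _) t
      have hwo : ∀ i : ℤ, (p : ℤ) ∣ i → w ^ i = 1 := by
        rintro i ⟨j, rfl⟩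
        rw [zpow_mul, zpow_natCast, hNexp w hwN, one_zpow]
      have hvo : ∀ i : ℤ, (p : ℤ) ∣ i → v ^ i = 1 := by
        rintro i ⟨j, rfl⟩
        rw [zpow_mul, zpow_natCast, hNexp v hvN, one_zpow]
      have hv1 : v ≠ 1 := fun h => by
        apply hwv
        rw [hw, h]; simp
      have h4 : (p : ℤ) ∣ c - d := by
        have hvv : v ^ (c - d) = 1 := by rw [← h2, hwo _ h3]
        have := orderOf_dvd_iff_zpow_eq_one.2 hvv
        rwa [orderOf_eq_prime (hNexp v hvN) hv1] at this
      calc w ^ c = w ^ c' * w ^ (c - d + (d - c')) := by rw [← zpow_add]; congr 1; ring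
        _ = x * w * x⁻¹ := by rw [hwo _ (dvd_add h4 h3), mul_one, hc']
  have e1 : (x * g) * v * (x * g)⁻¹ = u := by rw [hv]; group
  have e2 : (g * x) * v * (g * x)⁻¹ = u := by
    rw [show (g * x) * v * (g * x)⁻¹ = g * (x * v * x⁻¹) * g⁻¹ by group, ← hc, ← conj_zpow, ← hw,
      hc', hw, ← e1]
    group
  show u * ⁅g, x⁆ = ⁅g, x⁆ * u
  calc u * ⁅g, x⁆ = ((g * x) * v * (g * x)⁻¹) * ⁅g, x⁆ := by rw [e2]
    _ = ⁅g, x⁆ * ((x * g) * v * (x * g)⁻¹) := by simp only [commutatorElement_def]; group
    _ = _ := by rw [e1]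

/-- The product of the elementary abelian normal Sylow subgroups for primes satisfying `P`. -/
def fSub (G : Type*) [Group G] (P : ℕ → Prop) : Subgroup G :=
  sSup {N : Subgroup G | ∃ p : ℕ, p.Prime ∧ HasPlane p G ∧ P p ∧ N = pCore p G}

variable (hB : AbConj G) [Group.IsSolvable G] (P : ℕ → Prop)

omit [Finite G] in
instance fSub_normal : (fSub G P).Normal :=
  Subgroup.sSup_normal _ fun N ⟨_, _, _, _, h⟩ => h ▸ inferInstance

omit [Group.IsSolvable G] in
theorem pCore_le_fSub {p : ℕ} (hp : p.Prime) (hpl : HasPlane p G) (hP : P p) :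
    pCore p G ≤ fSub G P :=
  le_sSup ⟨p, hp, hpl, hP, rfl⟩

omit [Group.IsSolvable G] in
theorem fSub_primes {r : ℕ} (hr : r.Prime) (hd : r ∣ Nat.card (fSub G P)) :
    HasPlane r G ∧ P r := by
  refine CfsgLib.Cores.sSup_normal_induction
    (fun N => ∀ r : ℕ, r.Prime → r ∣ Nat.card N → HasPlane r G ∧ P r) ?_ ?_
    {N : Subgroup G | ∃ p : ℕ, p.Prime ∧ HasPlane p G ∧ P p ∧ N = pCore p G} ?_ r hr hd
  · intro r hr h
    rw [card_bot] at h
    exact absurd h hr.not_dvd_one
  · intro N M hN hM hPN hPM r hr h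
    haveI := hN
    rcases hr.dvd_mul.1 (h.trans (CfsgLib.Cores.card_sup_dvd_mul N M)) with h | h
    exacts [hPN r hr h, hPM r hr h]
  · rintro N ⟨p, hp, hpl, hPp, rfl⟩
    refine ⟨inferInstance, fun r hr h => ?_⟩
    haveI := Fact.mk hp
    obtain ⟨n, hn⟩ := CfsgLib.Cores.card_pCore_eq_pow (G := G) p
    rw [hn] at h
    rw [(Nat.prime_dvd_prime_iff_eq hr hp).1 (hr.dvd_of_dvd_pow h)]
    exact ⟨hpl, hPp⟩

include hB in
theorem fSub_comm : ∀ a ∈ fSub G P, ∀ b ∈ fSub G P, a * b = b * a := by
  have h : fSub G P ≤ centralizer (fSub G P : Set G) := by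
    refine sSup_le fun N ⟨p, hp, hpl, _, hN⟩ => ?_
    subst hN
    intro a ha
    have hle : fSub G P ≤ centralizer ({a} : Set G) := by
      refine sSup_le fun M ⟨q, hq, _, _, hM⟩ => ?_
      subst hM
      intro b hb
      refine mem_centralizer_singleton_iff.2 ?_
      by_cases hpq : p = q
      · subst hpq
        exact (normal_sylow_of_hasPlane hB hp hpl).2.1 b hb a ha
      · haveI := Fact.mk hp
        haveI := Fact.mk hq
        exact (CfsgLib.Cores.commute_pCore_of_ne hpq ha hb).eq.symm
    exact mem_centralizer_iff.2 fun y hy => mem_centralizer_singleton_iff.1 (hle hy)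
  exact fun a ha b hb => mem_centralizer_iff.1 (h hb) a ha

include hB in
theorem fSub_hall : (Nat.card (fSub G P)).Coprime (fSub G P).index := by
  refine Nat.coprime_of_dvd fun r hr hd hi => ?_
  haveI := Fact.mk hr
  obtain ⟨hpl, hP⟩ := fSub_primes P hr hd
  obtain ⟨S⟩ : Nonempty (Sylow r G) := inferInstance
  have hS : (S : Subgroup G) ≤ fSub G P := by
    intro x hx
    obtain ⟨n, hn⟩ := IsPGroup.iff_orderOf.1 S.2 ⟨x, hx⟩
    rw [Subgroup.orderOf_mk] at hn
    exact pCore_le_fSub P hr hpl hP ((normal_sylow_of_hasPlane hB hr hpl).1 x n hn)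
  exact S.not_dvd_index (hi.trans (index_dvd_of_le hS))

include hB in
theorem card_inf_fSub (A : Subgroup G) :
    Nat.card ↥(fSub G P ⊓ A) = Nat.gcd (Nat.card A) (Nat.card (fSub G P)) := by
  refine Nat.dvd_antisymm (Nat.dvd_gcd (card_dvd_of_le inf_le_right) (card_dvd_of_le inf_le_left)) ?_
  have h1 : Nat.card ↥(fSub G P ⊓ A) * (fSub G P ⊓ A).relIndex A = Nat.card A := by
    rw [← Nat.card_congr (subgroupOfEquivOfLe (inf_le_right : fSub G P ⊓ A ≤ A)).toEquiv]
    exact card_mul_index _
  have h2 : (fSub G P ⊓ A).relIndex A ∣ (fSub G P).index := by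
    rw [inf_relIndex_right]; exact relIndex_dvd_index_of_normal _ _
  have h3 : (Nat.gcd (Nat.card A) (Nat.card (fSub G P))).Coprime ((fSub G P ⊓ A).relIndex A) :=
    ((fSub_hall hB P).coprime_dvd_left (Nat.gcd_dvd_right _ _)).coprime_dvd_right h2
  exact h3.dvd_of_dvd_mul_right (h1.symm ▸ Nat.gcd_dvd_left _ _)

omit [Finite G] [Group.IsSolvable G] in
theorem conj_mem_inf_iff {F E : Subgroup G} (hF : F.Normal) {a : G} (ha : a ∈ E) (z : G) :
    z ∈ F ⊓ E ↔ a * z * a⁻¹ ∈ F ⊓ E := by
  constructor
  · exact fun hz => ⟨hF.conj_mem z hz.1 a, E.mul_mem (E.mul_mem ha hz.2) (E.inv_mem ha)⟩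
  · intro hz
    refine ⟨?_, ?_⟩
    · simpa [mul_assoc] using hF.conj_mem _ hz.1 a⁻¹
    · simpa [mul_assoc] using E.mul_mem (E.mul_mem (E.inv_mem ha) hz.2) ha

theorem le_of_prime_powers {U V : Subgroup G}
    (h : ∀ x ∈ U, ∀ p n : ℕ, p.Prime → orderOf x = p ^ n → x ∈ V) : U ≤ V := by
  suffices ∀ d : ℕ, ∀ x ∈ U, orderOf x = d → x ∈ V from fun x hx => this _ x hx rfl
  intro d
  induction d using Nat.recOnPrimeCoprime with
  | zero => intro x _ hx; exact absurd hx (orderOf_pos x).ne'
  | prime_pow p n hp => intro x hx ho; exact h x hx p n hp ho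
  | coprime a b ha hb hab iha ihb =>
    intro x hx ho
    have h1 : x ^ b ∈ V := iha _ (U.pow_mem hx b) (by
      rw [orderOf_pow_of_dvd (by omega) (ho ▸ dvd_mul_left b a), ho, Nat.mul_div_cancel _ (by omega)])
    have h2 : x ^ a ∈ V := ihb _ (U.pow_mem hx a) (by
      rw [orderOf_pow_of_dvd (by omega) (ho ▸ dvd_mul_right a b), ho,
        Nat.mul_div_cancel_left _ (by omega)])
    obtain ⟨s, t, hst⟩ := (Nat.isCoprime_iff_coprime.2 hab)
    rw [show x = (x ^ b) ^ t * (x ^ a) ^ s by
      rw [← zpow_natCast, ← zpow_natCast, ← zpow_mul, ← zpow_mul, ← zpow_add,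
        show (b : ℤ) * t + a * s = 1 by linear_combination hst, zpow_one]]
    exact mul_mem (Subgroup.zpow_mem _ h1 t) (Subgroup.zpow_mem _ h2 s)

include hB in
theorem key (A B : Subgroup G) (h : Nat.card A = Nat.card B) :
    ∃ g : G, B = A.map (MulAut.conj g).toMonoidHom := by
  classical
  haveI : Fact (Nat.Prime 2) := ⟨Nat.prime_two⟩
  set F := fSub G (fun _ => True) with hF
  have hFn : F.Normal := inferInstance
  have hFc := fSub_comm hB (fun _ => True)
  set W := F ⊓ B with hW
  set Lw := normalizer (W : Set G) with hLw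
  have hFL : F ≤ Lw := fun y hy => mem_normalizer_iff.2 fun z => by
    constructor
    · intro hz
      rwa [hFc y hy z hz.1, mul_inv_cancel_right]
    · intro hz
      have hzF : z ∈ F := by
        have := hFn.conj_mem _ hz.1 y⁻¹
        simpa [mul_assoc] using this
      rwa [hFc y hy z hzF, mul_inv_cancel_right] at hz
  have hBW : B ≤ Lw := fun b hb => mem_normalizer_iff.2 fun z => conj_mem_inf_iff hFn hb z
  set π := QuotientGroup.mk' F with hπdef
  have hπ : Function.Surjective π := QuotientGroup.mk'_surjective F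
  set M := Lw.map π with hM
  have hGQ : CyclicOrEight (G ⧸ F) := by
    intro r hr R hR
    haveI := Fact.mk hr
    obtain ⟨S, hS⟩ := hR.exists_le_sylow
    obtain ⟨S₀, rfl⟩ := Sylow.mapSurjective_surjective hπ r S
    change R ≤ (S₀ : Subgroup G).map π at hS
    by_cases hpl : HasPlane r G
    · left
      have : R = ⊥ := by
        refine le_bot_iff.1 (hS.trans ?_)
        rintro _ ⟨x, hx, rfl⟩
        obtain ⟨n, hn⟩ := IsPGroup.iff_orderOf.1 S₀.2 ⟨x, hx⟩
        rw [Subgroup.orderOf_mk] at hn
        exact mem_bot.2 ((QuotientGroup.eq_one_iff x).2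
          (pCore_le_fSub _ hr hpl trivial ((normal_sylow_of_hasPlane hB hr hpl).1 x n hn)))
      rw [this]; infer_instance
    · have hinj : Function.Injective (π.subgroupMap (S₀ : Subgroup G)) := by
        refine (injective_iff_map_eq_one _).2 fun x hx => ?_
        have hxF : (x : G) ∈ F := (QuotientGroup.eq_one_iff _).1 (congrArg Subtype.val hx)
        obtain ⟨n, hn⟩ := IsPGroup.iff_orderOf.1 S₀.2 x
        rcases Nat.eq_zero_or_pos n with rfl | hn0
        · exact orderOf_eq_one_iff.1 (by rw [hn, pow_zero])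
        · refine absurd (fSub_primes (fun _ => True) hr ((dvd_pow_self r hn0.ne').trans ?_)).1 hpl
          rw [← hn, ← Subgroup.orderOf_coe, ← Subgroup.orderOf_mk _ hxF]
          exact _root_.orderOf_dvd_natCard _
      let e := MulEquiv.ofBijective _ ⟨hinj, π.subgroupMap_surjective (S₀ : Subgroup G)⟩
      by_cases hc : IsCyclic R
      · exact Or.inl hc
      rcases small_of_not_hasPlane hB hr hpl S₀.2 with hc' | ⟨h2, h8⟩
      · haveI : IsCyclic ((S₀ : Subgroup G).map π) := e.isCyclic.1 hc'
        exact Or.inl (isCyclic_of_injective _ (Subgroup.inclusion_injective hS))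
      · right
        refine ⟨h2, ?_⟩
        set R' := R.comap π ⊓ (S₀ : Subgroup G) with hR'
        have hR'm : R'.map π = R := by
          refine le_antisymm ((map_mono inf_le_left).trans (map_comap_le _ _)) fun y hy => ?_
          obtain ⟨x, hx, rfl⟩ := hS hy
          exact ⟨x, ⟨hy, hx⟩, rfl⟩
        have hbij : Function.Bijective (π.subgroupMap R') := by
          refine ⟨fun a b hab => ?_, π.subgroupMap_surjective R'⟩
          have hab' : π (a : G) = π b := congrArg Subtype.val hab
          have h' : (⟨a, a.2.2⟩ : (S₀ : Subgroup G)) = ⟨b, b.2.2⟩ := hinj (Subtype.ext hab')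
          exact Subtype.ext (congrArg (fun v : (S₀ : Subgroup G) => (v : G)) h')
        let e' := MulEquiv.ofBijective _ hbij
        have hR'c : ¬ IsCyclic R' := fun hh => hc (hR'm ▸ e'.isCyclic.1 hh)
        have := (small_of_not_hasPlane hB hr hpl (S₀.2.to_le (inf_le_right : R' ≤ _))).resolve_left hR'c
        rw [← hR'm, ← Nat.card_congr e'.toEquiv]
        exact this.2
  have hM2 : CyclicOrEight M := hGQ.subgroup M
  set U := F ⊓ A with hU
  have hUW : Nat.card U = Nat.card W := by rw [hU, hW, card_inf_fSub hB, card_inf_fSub hB, h]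
  -- the first conjugation
  obtain ⟨g, hgUW, hgm⟩ : ∃ g : G, U.map (MulAut.conj g).toMonoidHom = W ∧
      TwoMatch (((A.map (MulAut.conj g).toMonoidHom).map π).subgroupOf M) ((B.map π).subgroupOf M) := by
    by_cases hcase : (∃ Q : Subgroup G, Q ≤ Lw ∧ IsPGroup 2 Q ∧ ¬ IsCyclic Q) ∧ ¬ HasPlane 2 G ∧
        4 ∣ Nat.card A ∧ ¬ 8 ∣ Nat.card A
    · obtain ⟨⟨Q, hQL, hQ, hQc⟩, h2, h4, h8⟩ := hcase
      set Z : ℕ → Prop := fun p => Q ≤ centralizer (pCore p G : Set G) with hZ
      set D := fSub G Z with hD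
      have hDF : D ≤ F := sSup_le fun N ⟨p, hp, hpl, _, hN⟩ => hN ▸ pCore_le_fSub _ hp hpl trivial
      obtain ⟨S, hQS⟩ := hQ.exists_le_sylow
      have hQS' : Q = (S : Subgroup G) := eq_of_le_of_card_ge hQS (by
        have hSnc : ¬ IsCyclic (S : Subgroup G) := fun hh => by
          haveI := hh
          exact hQc (isCyclic_of_injective _ (Subgroup.inclusion_injective hQS))
        rw [card_le_eight hB h2 S.2 hSnc, card_le_eight hB h2 hQ hQc])
      -- Sylow 2-subgroups of order 4
      have hsyl : ∀ E : Subgroup G, Nat.card E = Nat.card A → ∃ T : Subgroup G,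
          T ≤ E ∧ Nat.card T = 4 ∧ IsPGroup 2 T ∧ (∀ a ∈ T, ∀ b ∈ T, a * b = b * a) ∧
            ∀ t ∈ T, ∀ d ∈ D, t * d = d * t := by
        intro E hE
        obtain ⟨T, hT⟩ := Sylow.exists_subgroup_card_pow_prime (G := E) 2 (n := 2)
          (by rw [hE]; simpa using h4)
        have hT4 : Nat.card (T.map E.subtype) = 4 := by
          rw [card_map_of_injective E.subtype_injective, hT]; norm_num
        have hT2 : IsPGroup 2 (T.map E.subtype) :=
          IsPGroup.of_card (n := 2) (by rw [hT4]; norm_num)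
        refine ⟨T.map E.subtype, map_subtype_le _, hT4, hT2, ?_, ?_⟩
        · letI := IsPGroup.commGroupOfCardEqPrimeSq (p := 2) (G := T.map E.subtype)
            (by rw [hT4]; norm_num)
          exact fun a ha b hb => congrArg Subtype.val
            (mul_comm (⟨a, ha⟩ : T.map E.subtype) ⟨b, hb⟩)
        · intro t ht d hd
          obtain ⟨S', hTS'⟩ := hT2.exists_le_sylow
          obtain ⟨y, hy⟩ := MulAction.exists_smul_eq G S S'
          have hyS : (S' : Subgroup G) = Q.map (MulAut.conj y).toMonoidHom := by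
            rw [hQS']; exact (congrArg Sylow.toSubgroup hy).symm
          have ht' : t ∈ Q.map (MulAut.conj y).toMonoidHom := hyS ▸ hTS' ht
          have hle : D ≤ centralizer ({t} : Set G) := sSup_le fun N ⟨p, hp, hpl, hZp, hN⟩ => by
            subst hN
            intro v hv
            have : Q.map (MulAut.conj y).toMonoidHom ≤ centralizer (pCore p G : Set G) := by
              rintro _ ⟨q, hq, rfl⟩
              exact (inferInstance : (centralizer (pCore p G : Set G)).Normal).conj_mem q (hZp hq) y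
            exact mem_centralizer_singleton_iff.2 (mem_centralizer_iff.1 (this ht') v hv)
          exact (mem_centralizer_singleton_iff.1 (hle hd)).symm
      obtain ⟨T, hTA, hT4, hT2, hTc, hTD⟩ := hsyl A rfl
      obtain ⟨T', hTB, hT4', hT2', hTc', hTD'⟩ := hsyl B h.symm
      -- two abelian subgroups
      have habel : ∀ (X T : Subgroup G), X ≤ D → (∀ a ∈ T, ∀ b ∈ T, a * b = b * a) →
          (∀ t ∈ T, ∀ d ∈ D, t * d = d * t) → IsPGroup 2 T → Nat.card T = 4 →
          IsMulCommutative ↥(X ⊔ T) ∧ Nat.card ↥(X ⊔ T) = Nat.card X * 4 ∧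
          ∀ y ∈ X ⊔ T, (y ∈ D → y ∈ X) ∧ (∀ j : ℕ, y ^ 2 ^ j = 1 → y ∈ T) := by
        intro X T hX hTc hTD hT2 hT4
        have hodd : ¬ 2 ∣ Nat.card D := fun hd => h2 (fSub_primes Z Nat.prime_two hd).1
        have hdisj : ∀ z, z ∈ D → z ∈ T → z = 1 := by
          intro z hzD hzT
          obtain ⟨j, hj⟩ := IsPGroup.iff_orderOf.1 hT2 ⟨z, hzT⟩
          rw [Subgroup.orderOf_mk] at hj
          refine orderOf_eq_one_iff.1 (Nat.eq_one_of_dvd_coprimes (k := orderOf z)
            (Nat.Coprime.pow_left j ((Nat.prime_two.coprime_iff_not_dvd).2 hodd)) hj.dvd ?_)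
          rw [← Subgroup.orderOf_mk z hzD]; exact _root_.orderOf_dvd_natCard _
        let f : X × T →* G := X.subtype.noncommCoprod T.subtype fun a b => (hTD b b.2 a (hX a.2)).symm
        have hinj : Function.Injective f := (MonoidHom.noncommCoprod_injective _ _ _).2
          ⟨X.subtype_injective, T.subtype_injective, by
            rw [range_subtype, range_subtype, disjoint_iff, eq_bot_iff]
            exact fun z hz => mem_bot.2 (hdisj z (hX hz.1) hz.2)⟩
        have hr : f.range = X ⊔ T := by
          exact (MonoidHom.noncommCoprod_range _ _ _).trans (by rw [range_subtype, range_subtype])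
        have hmem : ∀ y ∈ X ⊔ T, ∃ a ∈ X, ∃ b ∈ T, y = a * b := by
          intro y hy
          rw [← hr] at hy
          obtain ⟨⟨a, b⟩, rfl⟩ := hy
          exact ⟨a, a.2, b, b.2, rfl⟩
        refine ⟨⟨⟨fun y z => Subtype.ext ?_⟩⟩, ?_, fun y hy => ⟨fun hyD => ?_, fun j hj => ?_⟩⟩
        · obtain ⟨a, ha, b, hb, he⟩ := hmem y y.2
          obtain ⟨a', ha', b', hb', he'⟩ := hmem z z.2
          show (y : G) * z = z * y
          rw [he, he']
          exact ((show Commute a a' from fSub_comm hB Z a (hX ha) a' (hX ha')).mul_right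
            (show Commute b' a from hTD b' hb' a (hX ha)).symm).mul_left
            ((show Commute b a' from hTD b hb a' (hX ha')).mul_right (hTc b hb b' hb'))
        · rw [← hr, ← Nat.card_congr (MonoidHom.ofInjective hinj).toEquiv, Nat.card_prod, hT4]
        · obtain ⟨a, ha, b, hb, rfl⟩ := hmem y hy
          have : b = 1 := hdisj b (by
            have := mul_mem (inv_mem (hX ha)) hyD
            rwa [inv_mul_cancel_left] at this) hb
          rwa [this, mul_one]
        · obtain ⟨a, ha, b, hb, rfl⟩ := hmem y hy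
          rw [(show Commute b a from hTD b hb a (hX ha)).symm.mul_pow] at hj
          have ha1 : a ^ 2 ^ j = 1 := hdisj _ (pow_mem (hX ha) _) (by
            rw [eq_inv_of_mul_eq_one_left hj]; exact T.inv_mem (pow_mem hb _))
          have : a = 1 := by
            refine orderOf_eq_one_iff.1 (Nat.eq_one_of_dvd_coprimes (k := orderOf a)
              (Nat.Coprime.pow_left j ((Nat.prime_two.coprime_iff_not_dvd).2 hodd))
              (orderOf_dvd_of_pow_eq_one ha1) ?_)
            rw [← Subgroup.orderOf_mk a (hX ha)]; exact _root_.orderOf_dvd_natCard _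
          rwa [this, one_mul]
      obtain ⟨hc1, hn1, hs1⟩ := habel (D ⊓ A) T inf_le_left hTc hTD hT2 hT4
      obtain ⟨hc2, hn2, hs2⟩ := habel (D ⊓ B) T' inf_le_left hTc' hTD' hT2' hT4'
      obtain ⟨g, hg⟩ := hB _ _ hc1 hc2 (by rw [hn1, hn2, card_inf_fSub hB, card_inf_fSub hB, h])
      have hDn : D.Normal := inferInstance
      have hUg : U.map (MulAut.conj g).toMonoidHom = W := by
        refine eq_of_le_of_card_ge ?_ (by rw [card_map_conj, hUW])
        rw [map_le_iff_le_comap]
        refine le_of_prime_powers fun x hx p n hp ho => ?_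
        rw [mem_comap]
        show g * x * g⁻¹ ∈ W
        refine ⟨hFn.conj_mem x hx.1 g, ?_⟩
        rcases Nat.eq_zero_or_pos n with rfl | hn0
        · have hx1 : x = 1 := orderOf_eq_one_iff.1 (by rw [ho, pow_zero])
          simp [hx1]
        have hpl : HasPlane p G := (fSub_primes _ hp ((dvd_pow_self p hn0.ne').trans (by
          rw [← ho, ← Subgroup.orderOf_mk x hx.1]; exact _root_.orderOf_dvd_natCard _))).1
        have hxp : x ∈ pCore p G := (normal_sylow_of_hasPlane hB hp hpl).1 x n ho
        haveI := Fact.mk hp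
        by_cases hZp : Z p
        · have hxD : x ∈ D := pCore_le_fSub Z hp hpl hZp hxp
          have : g * x * g⁻¹ ∈ D ⊓ B ⊔ T' := hg ▸ mem_map_of_mem _ (mem_sup_left ⟨hxD, hx.2⟩)
          exact ((hs2 _ this).1 (hDn.conj_mem x hxD g)).2
        · have hNeq : fSub G (fun q => q = p) = pCore p G := le_antisymm
            (sSup_le fun N ⟨q, _, _, hq, hN⟩ => by subst hq; exact hN.le)
            (pCore_le_fSub _ hp hpl rfl)
          have hWp : pCore p G ⊓ B = ⊥ ∨ pCore p G ⊓ B = pCore p G := by
            by_contra hcon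
            push Not at hcon
            refine hZp (eight_centralizes hB h2 hp hpl inf_le_left hcon.1 hcon.2 hQ hQc fun q hq => ?_)
            have hFp : pCore p G ≤ F := pCore_le_fSub _ hp hpl trivial
            refine mem_normalizer_iff.2 fun z => ⟨fun hz => ⟨?_, ?_⟩, fun hz => ⟨?_, ?_⟩⟩
            · exact (inferInstance : (pCore p G).Normal).conj_mem z hz.1 q
            · exact ((mem_normalizer_iff.1 (hQL hq) z).1 ⟨hFp hz.1, hz.2⟩).2
            · simpa [mul_assoc] using (inferInstance : (pCore p G).Normal).conj_mem _ hz.1 q⁻¹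
            · exact ((mem_normalizer_iff.1 (hQL hq) z).2 ⟨hFp hz.1, hz.2⟩).2
          have hc : Nat.card ↥(pCore p G ⊓ A) = Nat.card ↥(pCore p G ⊓ B) := by
            rw [← hNeq, card_inf_fSub hB, card_inf_fSub hB, h]
          rcases hWp with hb | hb
          · have : pCore p G ⊓ A = ⊥ := eq_bot_of_card_eq _ (by rw [hc, hb, card_bot])
            have hx1 : x ∈ pCore p G ⊓ A := ⟨hxp, hx.2⟩
            rw [this, mem_bot] at hx1
            simp [hx1]
          · exact (hb.ge ((inferInstance : (pCore p G).Normal).conj_mem x hxp g)).2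
      refine ⟨g, hUg, ?_⟩
      have hTg : T.map (MulAut.conj g).toMonoidHom = T' := by
        refine eq_of_le_of_card_ge ?_ (by rw [card_map_conj, hT4, hT4'])
        rintro _ ⟨t, ht, rfl⟩
        refine (hs2 _ (hg ▸ mem_map_of_mem _ (mem_sup_right ht))).2 2 ?_
        rw [← map_pow]
        have : t ^ 2 ^ 2 = 1 := by
          rw [show (2 : ℕ) ^ 2 = Nat.card T by rw [hT4]; norm_num]
          exact congrArg Subtype.val (pow_card_eq_one' (x := (⟨t, ht⟩ : T)))
        rw [this, map_one]
      have hTL : T' ≤ Lw := hTB.trans hBW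
      refine ⟨1, (T'.map π).subgroupOf M, (hT2'.map π).comap_of_injective _ M.subtype_injective, ?_, ?_, ?_⟩
      · refine comap_mono (map_mono ?_)
        rw [← hTg]; exact map_mono hTA
      · rw [map_one]
        refine le_trans (le_of_eq ?_) (comap_mono (map_mono hTB))
        exact Subgroup.map_id _
      · intro j hj
        have hA₁L : Nat.card (((A.map (MulAut.conj g).toMonoidHom).map π).subgroupOf M) ∣ Nat.card A :=
          ((card_comap_dvd_of_injective _ M.subtype M.subtype_injective).trans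
            (card_map_dvd _ _)).trans (card_map_conj A g).dvd
        have hj2 : j ≤ 2 := by
          by_contra hj3
          exact h8 ((show 2 ^ 3 ∣ 2 ^ j from pow_dvd_pow 2 (not_le.1 hj3)).trans (hj.trans hA₁L))
        have hT'c : Nat.card ((T'.map π).subgroupOf M) = 4 := by
          rw [Nat.card_congr (subgroupOfEquivOfLe (map_mono hTL)).toEquiv, ← hT4']
          refine (Nat.card_congr (Equiv.ofBijective _
            ⟨(injective_iff_map_eq_one _).2 fun x hx => ?_, π.subgroupMap_surjective T'⟩)).symm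
          have hxF : (x : G) ∈ F := (QuotientGroup.eq_one_iff _).1 (congrArg Subtype.val hx)
          have hodd : ¬ 2 ∣ Nat.card F := fun hd => h2 (fSub_primes _ Nat.prime_two hd).1
          obtain ⟨i, hi⟩ := IsPGroup.iff_orderOf.1 hT2' x
          refine orderOf_eq_one_iff.1 (Nat.eq_one_of_dvd_coprimes (k := orderOf x)
            (Nat.Coprime.pow_left i ((Nat.prime_two.coprime_iff_not_dvd).2 hodd)) hi.dvd ?_)
          rw [← Subgroup.orderOf_coe, ← Subgroup.orderOf_mk _ hxF]
          exact _root_.orderOf_dvd_natCard _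
        rw [hT'c]
        exact (pow_dvd_pow 2 hj2).trans (by norm_num)
    · obtain ⟨g, hg⟩ := hB U W ⟨⟨fun a b => Subtype.ext (hFc _ a.2.1 _ b.2.1)⟩⟩
        ⟨⟨fun a b => Subtype.ext (hFc _ a.2.1 _ b.2.1)⟩⟩ hUW
      refine ⟨g, hg.symm, ?_⟩
      set A' := ((A.map (MulAut.conj g).toMonoidHom).map π).subgroupOf M
      set B' := (B.map π).subgroupOf M
      obtain ⟨S₁⟩ : Nonempty (Sylow 2 A') := inferInstance
      obtain ⟨S₂⟩ : Nonempty (Sylow 2 B') := inferInstance
      set X := (S₁ : Subgroup A').map A'.subtype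
      set X' := (S₂ : Subgroup B').map B'.subtype
      have hAB : Nat.card A' = Nat.card B' := by
        have hcm : ∀ E : Subgroup G, E ≤ Lw → Nat.card ((E.map π).subgroupOf M) * Nat.card ↥(F ⊓ E) =
            Nat.card E := by
          intro E hE
          rw [Nat.card_congr (subgroupOfEquivOfLe (map_mono hE)).toEquiv]
          set f := π.comp E.subtype
          have hk : f.ker = F.subgroupOf E := by
            ext y
            rw [MonoidHom.mem_ker, mem_subgroupOf]
            exact QuotientGroup.eq_one_iff _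
          have h1 := f.ker.card_mul_index
          rw [index_ker, hk, show f.range = E.map π by rw [MonoidHom.range_comp, range_subtype],
            ← inf_subgroupOf_right, Nat.card_congr (subgroupOfEquivOfLe inf_le_right).toEquiv] at h1
          rw [mul_comm, h1]
        have hA₁L : A.map (MulAut.conj g).toMonoidHom ≤ Lw := by
          rintro _ ⟨a, ha, rfl⟩
          rw [hLw, hg]
          refine mem_normalizer_iff.2 fun z => ?_
          rw [conj_eq_map, conj_eq_map, MulEquiv.coe_toMonoidHom, MulAut.conj_apply,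
            show g⁻¹ * (g * a * g⁻¹ * z * (g * a * g⁻¹)⁻¹) * g = a * (g⁻¹ * z * g) * a⁻¹ by group]
          exact conj_mem_inf_iff hFn ha _
        have h1 := hcm _ hA₁L
        have h2 := hcm B hBW
        rw [card_inf_fSub hB, card_map_conj] at h1
        rw [card_inf_fSub hB, ← h] at h2
        exact Nat.eq_of_mul_eq_mul_right (Nat.gcd_pos_of_pos_left _ Nat.card_pos) (h1.trans h2.symm)
      have hXX : Nat.card X = Nat.card X' := by
        rw [card_map_of_injective A'.subtype_injective, card_map_of_injective B'.subtype_injective,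
          Sylow.card_eq_multiplicity, Sylow.card_eq_multiplicity, hAB]
      have hXp : IsPGroup 2 X := S₁.2.map _
      obtain ⟨P₁, hP₁⟩ := hXp.exists_le_sylow
      obtain ⟨P₂, hP₂⟩ := (S₂.2.map B'.subtype : IsPGroup 2 X').exists_le_sylow
      obtain ⟨l, hl⟩ := MulAction.exists_smul_eq M P₁ P₂
      have hlX : X.map (MulAut.conj l).toMonoidHom ≤ (P₂ : Subgroup M) := by
        refine (map_mono hP₁).trans (le_of_eq ?_)
        exact congrArg Sylow.toSubgroup hl
      have heq : X.map (MulAut.conj l).toMonoidHom = X' := by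
        refine hM2.eq_of_le P₂.2 hlX hP₂ (by rw [card_map_conj, hXX]) ?_
        rw [card_map_conj]
        by_cases hc : IsCyclic (P₂ : Subgroup M)
        · exact Or.inl hc
        right
        intro hX4
        have h2pl : ¬ HasPlane 2 G := fun hpl => by
          refine hc ?_
          have : IsPGroup 2 ((P₂ : Subgroup M).map M.subtype) := P₂.2.map _
          rcases hGQ 2 Nat.prime_two _ this with hh | ⟨-, h8⟩
          · exact (equivMapOfInjective _ _ M.subtype_injective).isCyclic.2 hh
          · exfalso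
            have hdvd : (2 : ℕ) ∣ Nat.card (G ⧸ F) :=
              (show (2 : ℕ) ∣ Nat.card ((P₂ : Subgroup M).map M.subtype) by rw [h8]; norm_num).trans
                (card_subgroup_dvd_card _)
            obtain ⟨S⟩ : Nonempty (Sylow 2 G) := inferInstance
            refine S.not_dvd_index (hdvd.trans (index_eq_card F ▸ index_dvd_of_le fun x hx => ?_))
            obtain ⟨n, hn⟩ := IsPGroup.iff_orderOf.1 S.2 ⟨x, hx⟩
            rw [Subgroup.orderOf_mk] at hn
            exact pCore_le_fSub _ Nat.prime_two hpl trivial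
              ((normal_sylow_of_hasPlane hB Nat.prime_two hpl).1 x n hn)
        refine hcase ⟨?_, h2pl, ?_, ?_⟩
        · -- lift the Sylow subgroup
          let f : Lw →* M := π.subgroupMap Lw
          have hf : Function.Surjective f := π.subgroupMap_surjective Lw
          obtain ⟨Q, hQ⟩ := Sylow.mapSurjective_surjective hf 2 P₂
          refine ⟨(Q : Subgroup Lw).map Lw.subtype, map_subtype_le _, Q.2.map _, fun hh => hc ?_⟩
          haveI := (equivMapOfInjective _ _ Lw.subtype_injective).isCyclic.2 hh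
          rw [← hQ]
          exact isCyclic_of_surjective _ (f.subgroupMap_surjective (Q : Subgroup Lw))
        · have : (2 : ℕ) ^ 2 ∣ Nat.card A := by
            refine dvd_trans ?_ (((card_comap_dvd_of_injective ((A.map (MulAut.conj g).toMonoidHom).map π)
              M.subtype M.subtype_injective).trans (card_map_dvd _ _)).trans (card_map_conj A g).dvd)
            rw [show (2 : ℕ) ^ 2 = Nat.card X by rw [hX4]; norm_num,
              card_map_of_injective A'.subtype_injective]
            exact card_subgroup_dvd_card _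
          simpa using this
        · intro h8
          have hF2 : ¬ 2 ∣ Nat.card ↥(F ⊓ A) := fun hd =>
            h2pl (fSub_primes _ Nat.prime_two (hd.trans (card_dvd_of_le inf_le_left))).1
          set f := π.comp (A.map (MulAut.conj g).toMonoidHom).subtype
          have hk : f.ker = F.subgroupOf (A.map (MulAut.conj g).toMonoidHom) := by
            ext y
            rw [MonoidHom.mem_ker, mem_subgroupOf]
            exact QuotientGroup.eq_one_iff _
          have h1 := f.ker.card_mul_index
          rw [index_ker, hk, show f.range = (A.map (MulAut.conj g).toMonoidHom).map π by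
            rw [MonoidHom.range_comp, range_subtype], ← inf_subgroupOf_right,
            Nat.card_congr (subgroupOfEquivOfLe inf_le_right).toEquiv, card_map_conj,
            card_inf_fSub hB, card_map_conj, ← card_inf_fSub hB] at h1
          have h8' : 2 ^ 3 ∣ Nat.card ((A.map (MulAut.conj g).toMonoidHom).map π) :=
            (Nat.Coprime.pow_left 3 ((Nat.prime_two.coprime_iff_not_dvd).2 hF2)).dvd_of_dvd_mul_left
              (by rw [h1]; simpa using h8)
          have hle : (A.map (MulAut.conj g).toMonoidHom).map π ≤ M := by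
            refine map_mono ?_
            rintro _ ⟨a, ha, rfl⟩
            rw [hLw, hg]
            refine mem_normalizer_iff.2 fun z => ?_
            rw [conj_eq_map, conj_eq_map, MulEquiv.coe_toMonoidHom, MulAut.conj_apply,
              show g⁻¹ * (g * a * g⁻¹ * z * (g * a * g⁻¹)⁻¹) * g = a * (g⁻¹ * z * g) * a⁻¹ by group]
            exact conj_mem_inf_iff hFn ha _
          rw [← Nat.card_congr (subgroupOfEquivOfLe hle).toEquiv] at h8'
          have := S₁.pow_dvd_card_of_pow_dvd_card h8'
          rw [card_map_of_injective A'.subtype_injective] at hX4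
          rw [hX4] at this
          norm_num at this
      refine ⟨l, X, hXp, map_subtype_le _, heq ▸ map_subtype_le _, fun j hj => ?_⟩
      rw [card_map_of_injective A'.subtype_injective]
      exact S₁.pow_dvd_card_of_pow_dvd_card hj
  -- the second conjugation
  set A₁ := A.map (MulAut.conj g).toMonoidHom with hA₁
  have hFA₁ : F ⊓ A₁ = W := by
    rw [← hgUW, hU, map_inf F A _ (MulEquiv.injective _)]
    congr 1
    ext y
    rw [conj_eq_map]
    exact ⟨fun h => by simpa using hFn.conj_mem y h g⁻¹,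
      fun h => by simpa [mul_assoc] using hFn.conj_mem _ h g⟩
  have hA₁L : A₁ ≤ Lw := fun a ha => mem_normalizer_iff.2 fun z => by
    rw [← hFA₁]
    exact conj_mem_inf_iff hFn ha _
  have hcm : ∀ E : Subgroup G, E ≤ Lw → Nat.card ((E.map π).subgroupOf M) * Nat.card ↥(F ⊓ E) =
      Nat.card E := by
    intro E hE
    rw [Nat.card_congr (subgroupOfEquivOfLe (map_mono hE)).toEquiv]
    set f := π.comp E.subtype
    have hk : f.ker = F.subgroupOf E := by
      ext y
      rw [MonoidHom.mem_ker, mem_subgroupOf]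
      exact QuotientGroup.eq_one_iff _
    have h1 := f.ker.card_mul_index
    rw [index_ker, hk, show f.range = E.map π by rw [MonoidHom.range_comp, range_subtype],
      ← inf_subgroupOf_right, Nat.card_congr (subgroupOfEquivOfLe inf_le_right).toEquiv] at h1
    rw [mul_comm, h1]
  have hcAB : Nat.card ((A₁.map π).subgroupOf M) = Nat.card ((B.map π).subgroupOf M) := by
    have h1 := hcm _ hA₁L
    have h2 := hcm B hBW
    rw [hFA₁, hA₁, card_map_conj, h] at h1
    exact Nat.eq_of_mul_eq_mul_right Nat.card_pos (h1.trans h2.symm)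
  obtain ⟨⟨_, l, hl, rfl⟩, hconj⟩ := exists_conj_of_twoMatch hM2 _ _ hcAB hgm
  set A₂ := A₁.map (MulAut.conj l).toMonoidHom with hA₂
  have hmap : A₂.map π = B.map π := by
    have e := congrArg (fun E : Subgroup M => E.map M.subtype) hconj
    rw [map_map, subgroupOf_map_subtype, inf_eq_left.2 (map_mono hBW)] at e
    rw [e, hA₂, map_map]
    conv_rhs => rw [show (M.subtype.comp (MulAut.conj (⟨π l, l, hl, rfl⟩ : M)).toMonoidHom) =
      (MulAut.conj (π l)).toMonoidHom.comp M.subtype from by ext y; simp]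
    rw [← Subgroup.map_map (g := (MulAut.conj (π l)).toMonoidHom) (f := M.subtype), subgroupOf_map_subtype, inf_eq_left.2 (map_mono hA₁L), map_map, hA₁]
    simp only [map_map]
    congr 1
  have hlW : W.map (MulAut.conj l).toMonoidHom = W := by
    ext y
    rw [conj_eq_map, mem_normalizer_iff.1 hl]
    rw [show l * (l⁻¹ * y * l) * l⁻¹ = y by group]
  have hA₂W : A₂ ≤ Lw := by
    rintro _ ⟨a, ha, rfl⟩
    exact mul_mem (mul_mem hl (hA₁L ha)) (inv_mem hl)
  have hWA₂ : W ≤ A₂ := by
    rw [← hlW]; exact map_mono (hFA₁ ▸ inf_le_right)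
  have hsup : A₂ ≤ B ⊔ F := by
    rw [← QuotientGroup.ker_mk' F, ← comap_map_eq, ← hmap]
    exact le_comap_map _ _
  have hcop : (Nat.card F).Coprime (W.relIndex A₂) := by
    refine (fSub_hall hB (fun _ => True)).coprime_dvd_right ?_
    have hFA₂ : F ⊓ A₂ = W := by
      rw [← hlW, ← hFA₁, map_inf F A₁ _ (MulEquiv.injective _), ← hA₂]
      congr 1
      ext y
      rw [conj_eq_map]
      exact ⟨fun h => by simpa using hFn.conj_mem y h l⁻¹,
        fun h => by simpa [mul_assoc] using hFn.conj_mem _ h l⟩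
    rw [← hFA₂, inf_relIndex_right]
    exact relIndex_dvd_index_of_normal _ _
  obtain ⟨t, htF, ht⟩ := CfsgLib.Solvable.exists_conj_mem_of_abelian_section F W inf_le_left hFL
    (fun a ha b hb => by
      rw [commutatorElement_eq_one_iff_mul_comm.2 (hFc a ha b hb)]; exact one_mem _)
    A₂ B W (normalizer_eq_top F ▸ le_top) hA₂W inf_le_right le_rfl
    (fun x hx => by
      have hx' := hsup hx
      rw [sup_comm, ← SetLike.mem_coe, normal_mul, Set.mem_mul] at hx'
      obtain ⟨f, hf, b, hb, rfl⟩ := hx'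
      exact ⟨f⁻¹, inv_mem hf, by rw [inv_mul_cancel_left]; exact hb⟩)
    hWA₂ inf_le_right hcop
  refine ⟨t * l * g, (eq_of_le_of_card_ge ?_ (by rw [card_map_conj, h])).symm⟩
  rintro _ ⟨a, ha, rfl⟩
  have := ht (l * (g * a * g⁻¹) * l⁻¹) ⟨g * a * g⁻¹, ⟨a, ha, rfl⟩, rfl⟩
  show t * l * g * a * (t * l * g)⁻¹ ∈ B
  rw [show t * l * g * a * (t * l * g)⁻¹ = t * (l * (g * a * g⁻¹) * l⁻¹) * t⁻¹ by group]
  exact this

end

/-- If G is a finite solvable group in which any two abelian subgroups of the same order are conjugate, then any two subgroups of G of the same order are conjugate. -/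
theorem result {G : Type*} [Group G] [Finite G] (hB : ∀ A B : Subgroup G, IsMulCommutative ↥A → IsMulCommutative ↥B → Nat.card ↥A = Nat.card ↥B → ∃ g : G, B = A.map (MulAut.conj g).toMonoidHom) (hsol : Group.IsSolvable G) (A B : Subgroup G)
    (h : Nat.card ↥A = Nat.card ↥B) : ∃ g : G, B = A.map (MulAut.conj g).toMonoidHom := by
  haveI := hsol
  exact key hB A B h

end Cfsg.Agent.S3913
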