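import Cfsg.Statements.S3912
import Cfsg.Agent.S3913

set_option autoImplicit false
open Cfsg

namespace Cfsg.Agent.S3912

open Subgroup

/-- Let G be a finite solvable group in which any two abelian subgroups of the same order are conjugate. Then every quotient of G has the same property: any two abelian subgroups of the quotient of the same order are conjugate. -/
theorem result {G : Type*} [Group G] [Finite G] (hB : ∀ A B : Subgroup G, IsMulCommutative ↥A → IsMulCommutative ↥B → Nat.card ↥A = Nat.card ↥B → ∃ g : G, B = A.map (MulAut.conj g).toMonoidHom) (hsol : Group.IsSolvable G) (M : Subgroup G) [M.Normal] :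
    ∀ A B : Subgroup (G ⧸ M), IsMulCommutative ↥A → IsMulCommutative ↥B → Nat.card ↥A = Nat.card ↥B →
      ∃ g : G ⧸ M, B = A.map (MulAut.conj g).toMonoidHom := by
  intro A B _ _ hAB
  set π := QuotientGroup.mk' M
  have hs : Function.Surjective π := QuotientGroup.mk'_surjective M
  have hcard : ∀ D : Subgroup (G ⧸ M), Nat.card (D.comap π) = Nat.card M * Nat.card D := by
    intro D
    have hle : M ≤ D.comap π := fun m hm => by
      rw [mem_comap, show π m = 1 from (QuotientGroup.eq_one_iff m).2 hm]
      exact one_mem D
    have h1 := (D.comap π).card_mul_index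
    have h2 := D.card_mul_index
    rw [index_comap_of_surjective D hs] at h1
    rw [← index_eq_card M] at h2
    have h3 := M.card_mul_index
    rw [← h2, ← mul_assoc] at h3
    exact Nat.eq_of_mul_eq_mul_right (Nat.pos_of_ne_zero index_ne_zero_of_finite) (h1.trans h3.symm)
  obtain ⟨g, hg⟩ := Cfsg.Agent.S3913.result hB hsol (A.comap π) (B.comap π) (by rw [hcard, hcard, hAB])
  refine ⟨π g, ?_⟩
  have h1 := congrArg (fun D : Subgroup G => D.map π) hg
  simp only [map_comap_eq_self_of_surjective hs, map_map] at h1
  rw [h1]
  conv_rhs => rw [← map_comap_eq_self_of_surjective hs A, map_map]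
  congr 1

end Cfsg.Agent.S3912
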