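import Cfsg.Statements.S3915
import Mathlib
import Cfsg.Agent.S0205
import Cfsg.Agent.Lib.Cores.Layer

set_option autoImplicit false
set_option linter.style.haveILetI false
open Cfsg

namespace Cfsg.Agent.S3915

open Subgroup CfsgLib.Cores
open scoped commutatorElement

variable {G : Type*} [Group G] [Finite G]

theorem mem_of_sq_mem {Z : Subgroup G} {v : G} (hv : (orderOf v).Coprime 2) (h : v ^ 2 ∈ Z) : v ∈ Z :=
  zpowers_le.2 h (mem_zpowers_pow_iff.2 hv.symm)

/-- An involution modulo `Z` is represented by a 2-element. -/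
theorem exists_two_rep {Z : Subgroup G} {a : G} (ha : a ∉ Z) (ha2 : a ^ 2 ∈ Z) :
    ∃ u : G, u ^ 2 ∈ Z ∧ u ∉ Z ∧ u⁻¹ * a ∈ Z ∧ ∃ A, orderOf u = 2 ^ (A + 1) := by
  obtain ⟨e, m, hm, he⟩ := Nat.exists_eq_pow_mul_and_not_dvd (orderOf_pos a).ne' 2 (by norm_num)
  obtain ⟨k, rfl⟩ : ∃ k, m = 2 * k + 1 := ⟨m / 2, by omega⟩
  have ha2' : ∀ i : ℕ, a ^ (2 * i) ∈ Z := fun i => by rw [pow_mul]; exact pow_mem ha2 i
  have hua : (a ^ (2 * k + 1))⁻¹ * a ∈ Z := by
    rw [pow_succ, mul_inv_rev]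
    have h1 : a⁻¹ * (a ^ (2 * k))⁻¹ * a = (a ^ (2 * k))⁻¹ := by group
    rw [h1]; exact Z.inv_mem (ha2' k)
  have hu : a ^ (2 * k + 1) ∉ Z := fun hu => ha (by
    have := mul_mem hu hua
    rwa [mul_inv_cancel_left] at this)
  have hdvd : orderOf (a ^ (2 * k + 1)) ∣ 2 ^ e := by
    refine orderOf_dvd_of_pow_eq_one ?_
    rw [← pow_mul, mul_comm, ← he, pow_orderOf_eq_one]
  obtain ⟨A, -, hA⟩ := (Nat.dvd_prime_pow Nat.prime_two).1 hdvd
  refine ⟨_, by rw [← pow_mul, mul_comm]; exact ha2' _, hu, hua, A - 1, ?_⟩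
  rcases A with _ | A
  · rw [pow_zero, orderOf_eq_one_iff] at hA
    exact absurd (hA ▸ Z.one_mem) hu
  · simpa using hA

/-- Involutions modulo a normal subgroup are conjugate modulo it. -/
theorem conj_mod (hP : ∀ (p : ℕ), p.Prime → ∀ A B : Subgroup G, IsCyclic ↥A → IsCyclic ↥B →
      IsPGroup p ↥A → Nat.card ↥A = Nat.card ↥B → ∃ g : G, B = A.map (MulAut.conj g).toMonoidHom)
    {Z : Subgroup G} [Z.Normal] {a b : G} (ha : a ∉ Z) (ha2 : a ^ 2 ∈ Z) (hb : b ∉ Z) (hb2 : b ^ 2 ∈ Z) :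
    ∃ g : G, b⁻¹ * (g * a * g⁻¹) ∈ Z := by
  obtain ⟨u, hu2, hu, hua, A, hA⟩ := exists_two_rep ha ha2
  obtain ⟨w, hw2, hw, hwb, B, hB⟩ := exists_two_rep hb hb2
  have hconj : ∀ (x y : G) (n : ℕ), orderOf x = 2 ^ n → orderOf y = 2 ^ n →
      ∃ (g : G) (i : ℤ), g * x * g⁻¹ = y ^ i := by
    intro x y n hx hy
    obtain ⟨g, hg⟩ := hP 2 Nat.prime_two (zpowers x) (zpowers y) inferInstance inferInstance
      (IsPGroup.of_card (n := n) (by rw [Nat.card_zpowers, hx]))
      (by rw [Nat.card_zpowers, Nat.card_zpowers, hx, hy])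
    have : g * x * g⁻¹ ∈ zpowers y := hg ▸ ⟨x, mem_zpowers x, rfl⟩
    obtain ⟨i, hi⟩ := this
    exact ⟨g, i, hi.symm⟩
  -- the two orders agree
  have hlow : ∀ (x y : G) (m n : ℕ), orderOf x = 2 ^ (m + 1) → orderOf y = 2 ^ (n + 1) →
      x ^ 2 ∈ Z → y ∉ Z → m ≤ n := by
    intro x y m n hx hy hx2 hyZ
    by_contra hlt
    push Not at hlt
    have hx' : orderOf (x ^ 2 ^ (m - n)) = 2 ^ (n + 1) := by
      rw [orderOf_pow_of_dvd (by positivity) (hx ▸ pow_dvd_pow 2 (by omega)), hx,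
        Nat.pow_div (by omega) two_pos]
      congr 1; omega
    obtain ⟨g, i, hi⟩ := hconj y _ (n + 1) hy hx'
    refine hyZ ?_
    have h1 : g * y * g⁻¹ ∈ Z := by
      rw [hi, show 2 ^ (m - n) = 2 * 2 ^ (m - n - 1) by rw [← pow_succ']; congr 1; omega, pow_mul]
      exact zpow_mem (pow_mem hx2 _) i
    simpa [mul_assoc] using (inferInstance : Z.Normal).conj_mem _ h1 g⁻¹
  obtain rfl : A = B := le_antisymm (hlow u w A B hA hB hu2 hw) (hlow w u B A hB hA hw2 hu)
  obtain ⟨g, i, hi⟩ := hconj u w (A + 1) hA hB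
  refine ⟨g, ?_⟩
  have hi' : w⁻¹ * (g * u * g⁻¹) ∈ Z := by
    rcases Int.even_or_odd' i with ⟨j, rfl | rfl⟩
    · refine absurd ?_ hu
      have h1 : g * u * g⁻¹ ∈ Z := by
        rw [hi, zpow_mul, zpow_two, ← pow_two]; exact Subgroup.zpow_mem _ hw2 j
      simpa [mul_assoc] using (inferInstance : Z.Normal).conj_mem _ h1 g⁻¹
    · rw [hi, add_comm, zpow_add, zpow_one, inv_mul_cancel_left, zpow_mul, zpow_two, ← pow_two]
      exact Subgroup.zpow_mem _ hw2 j
  rw [← QuotientGroup.eq_one_iff] at hua hwb hi' ⊢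
  simp only [QuotientGroup.mk_mul, QuotientGroup.mk_inv] at hua hwb hi' ⊢
  rw [inv_mul_eq_one] at hua hwb hi' ⊢
  rw [← hua, ← hwb]
  exact hi'

theorem isMulCommutative_quotient_false {L : Subgroup G} (hL : IsQuasisimple L) :
    ¬ IsMulCommutative (↥L ⧸ center ↥L) := by
  intro hc
  haveI := hL.2
  have h1 : commutator L ≤ center L := by
    rw [_root_.commutator_def, commutator_le]
    intro a _ b _
    rw [← QuotientGroup.eq_one_iff]
    show QuotientGroup.mk' (center L) ⁅a, b⁆ = 1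
    rw [map_commutatorElement, commutatorElement_eq_one_iff_mul_comm]
    exact hc.is_comm.comm _ _
  refine center_ne_top_of_isQuasisimple hL (top_le_iff.1 ?_)
  haveI := hL.1
  rwa [Group.IsPerfect.commutator_eq_top] at h1

/-- A component has an element which is an involution modulo its centre. -/
theorem exists_invol {L : Subgroup G} (hL : IsComponent L) :
    ∃ x ∈ L, x ∉ centralizer (L : Set G) ∧ x ^ 2 ∈ centralizer (L : Set G) := by
  haveI := hL.2.2
  have heven : 2 ∣ Nat.card (↥L ⧸ center ↥L) := by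
    by_contra h2
    haveI := Cfsg.Agent.S0205.result (G := ↥L ⧸ center ↥L) (Nat.odd_iff.2 (by omega))
    exact isMulCommutative_quotient_false hL.2
      ⟨⟨IsSimpleGroup.comm_iff_isSolvable.2 inferInstance⟩⟩
  haveI : Fact (Nat.Prime 2) := ⟨Nat.prime_two⟩
  obtain ⟨q, hq⟩ := exists_prime_orderOf_dvd_card' 2 heven
  obtain ⟨y, rfl⟩ := QuotientGroup.mk'_surjective (center ↥L) q
  have hc : ∀ z : L, (z : G) ∈ centralizer (L : Set G) ↔ z ∈ center ↥L := fun z =>
    ⟨fun h => mem_center_iff.2 fun k => Subtype.ext (mem_centralizer_iff.1 h k k.2),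
      fun h => mem_centralizer_iff.2 fun k hk => congrArg Subtype.val (mem_center_iff.1 h ⟨k, hk⟩)⟩
  refine ⟨y, y.2, fun h => ?_, ?_⟩
  · rw [show QuotientGroup.mk' (center ↥L) y = 1 from
      (QuotientGroup.eq_one_iff y).2 ((hc y).1 h), orderOf_one] at hq
    norm_num at hq
  · rw [← Subgroup.coe_pow, hc, ← QuotientGroup.eq_one_iff, QuotientGroup.mk_pow]
    exact orderOf_dvd_iff_pow_eq_one.1 hq.dvd

theorem layer_quasisimple (hP : ∀ (p : ℕ), p.Prime → ∀ A B : Subgroup G, IsCyclic ↥A → IsCyclic ↥B →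
      IsPGroup p ↥A → Nat.card ↥A = Nat.card ↥B → ∃ g : G, B = A.map (MulAut.conj g).toMonoidHom)
    (hE : layer G ≠ ⊥) : IsComponent (layer G) := by
  obtain ⟨L1, hL1⟩ : ∃ L : Subgroup G, IsComponent L := by
    by_contra hno
    push Not at hno
    exact hE (layer_eq_bot_iff.2 hno)
  by_cases huniq : ∀ L, IsComponent L → L = L1
  · have : layer G = L1 := le_antisymm (layer_le_iff.2 fun L hL => (huniq L hL).le) (component_le_layer hL1)
    rwa [this]
  exfalso
  push Not at huniq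
  obtain ⟨L2, hL2, hne⟩ := huniq
  haveI := layer_normal (G := G)
  set Z := layer G ⊓ centralizer (layer G : Set G) with hZ
  haveI : Z.Normal := normal_inf_normal _ _
  have hcomm : ∀ {K M : Subgroup G}, IsComponent K → IsComponent M → K ≠ M → K ≤ centralizer (M : Set G) :=
    fun hK hM h => commutator_eq_bot_iff_le_centralizer.1 (commutator_components_eq_bot hK hM h)
  have hZc : ∀ {L : Subgroup G}, IsComponent L → Z ≤ centralizer (L : Set G) := fun hL =>
    inf_le_right.trans (centralizer_le (component_le_layer hL))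
  have hcZ : ∀ {L : Subgroup G}, IsComponent L → L ⊓ centralizer (L : Set G) ≤ Z := fun hL =>
    componentCenters_le_center_layer hL
  obtain ⟨x, hx, hxn, hx2⟩ := exists_invol hL1
  obtain ⟨y, hy, hyn, hy2⟩ := exists_invol hL2
  have h12 : L2 ≤ centralizer (L1 : Set G) := hcomm hL2 hL1 hne
  have h21 : L1 ≤ centralizer (L2 : Set G) := hcomm hL1 hL2 (Ne.symm hne)
  have hxy : Commute x y := (mem_centralizer_iff.1 (h12 hy) x hx)
  have hb : x * y ∉ Z := fun h => hxn (by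
    have := mul_mem (hZc hL1 h) ((centralizer (L1 : Set G)).inv_mem (h12 hy))
    rwa [mul_inv_cancel_right] at this)
  have hb2 : (x * y) ^ 2 ∈ Z := by
    rw [hxy.mul_pow]
    exact mul_mem (hcZ hL1 ⟨pow_mem hx 2, hx2⟩) (hcZ hL2 ⟨pow_mem hy 2, hy2⟩)
  obtain ⟨g, hg⟩ := conj_mod hP (fun h => hxn (hZc hL1 h)) (hcZ hL1 ⟨pow_mem hx 2, hx2⟩) hb hb2
  have hM := isComponent_map_equiv (MulAut.conj g) hL1
  have hgx : g * x * g⁻¹ ∈ L1.map (MulAut.conj g).toMonoidHom := ⟨x, hx, rfl⟩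
  by_cases hM1 : L1.map (MulAut.conj g).toMonoidHom = L1
  · rw [hM1] at hgx
    refine hyn ?_
    have e : y = x⁻¹ * (g * x * g⁻¹) * ((x * y)⁻¹ * (g * x * g⁻¹))⁻¹ := by group
    rw [e]
    exact mul_mem (mul_mem ((centralizer (L2 : Set G)).inv_mem (h21 hx)) (h21 hgx))
      ((centralizer (L2 : Set G)).inv_mem (hZc hL2 hg))
  · refine hxn ?_
    have e : x = (g * x * g⁻¹) * ((x * y)⁻¹ * (g * x * g⁻¹))⁻¹ * y⁻¹ := by group
    rw [e]
    exact mul_mem (mul_mem (hcomm hM hL1 hM1 hgx) ((centralizer (L1 : Set G)).inv_mem (hZc hL1 hg)))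
      ((centralizer (L1 : Set G)).inv_mem (h12 hy))

/-- Let G be a finite group in which, for every prime p, any two cyclic p-subgroups of the same order are conjugate. If the layer E(G), the subgroup generated by the components of G, is non-trivial, then E(G)/Z(E(G)) is a non-abelian simple group. -/
theorem result {G : Type*} [Group G] [Finite G] (hP : ∀ (p : ℕ), p.Prime → ∀ A B : Subgroup G, IsCyclic ↥A → IsCyclic ↥B → IsPGroup p ↥A → Nat.card ↥A = Nat.card ↥B → ∃ g : G, B = A.map (MulAut.conj g).toMonoidHom) (hE : Cfsg.layer G ≠ ⊥) :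
    IsSimpleGroup (↥(Cfsg.layer G) ⧸ Subgroup.center ↥(Cfsg.layer G)) ∧ ¬ IsMulCommutative (↥(Cfsg.layer G) ⧸ Subgroup.center ↥(Cfsg.layer G)) :=
  have hL := layer_quasisimple hP hE
  ⟨hL.2.2, isMulCommutative_quotient_false hL.2⟩

end Cfsg.Agent.S3915
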