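import Cfsg.Statements.S3917
import Mathlib
import Cfsg.Agent.Lib.PGroup.Basic
import Cfsg.Agent.Lib.PGroup.ElemAbelian

set_option autoImplicit false
open Cfsg

namespace Cfsg.Agent.S3917

/-- Say that a group has self-centralizing non-cyclic subgroups when every non-cyclic subgroup H satisfies C_G(H) ≤ H. A finite abelian group with self-centralizing non-cyclic subgroups is cyclic or elementary abelian of order p² for a prime p. -/
theorem result {G : Type*} [CommGroup G] [Finite G] (hX : (∀ H : Subgroup G, ¬ IsCyclic ↥H → Subgroup.centralizer (H : Set G) ≤ H)) :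
    IsCyclic G ∨ ∃ p : ℕ, p.Prime ∧ Nat.card G = p ^ 2 ∧ Monoid.exponent G = p := by
  by_cases hG : IsCyclic G
  · exact Or.inl hG
  right
  have htop : ∀ H : Subgroup G, ¬ IsCyclic H → H = ⊤ := fun H hH => top_le_iff.1
    (le_trans (fun x _ => Subgroup.mem_centralizer_iff.2 fun y _ => mul_comm y x) (hX H hH))
  obtain ⟨p, hp, P, hP⟩ : ∃ p, p.Prime ∧ ∃ P : Sylow p G, ¬ IsCyclic P := by
    by_contra! h
    exact hG (by haveI : IsZGroup G := ⟨fun p hp P => h p hp P⟩; infer_instance)
  haveI := Fact.mk hp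
  have hpG : IsPGroup p G := by
    have := P.isPGroup'
    rw [htop _ hP] at this
    exact this.of_equiv Subgroup.topEquiv
  -- an element of maximal order and one of order `p` outside its cyclic subgroup
  obtain ⟨a, ha⟩ := Finite.exists_max (fun g : G => orderOf g)
  have hne : Subgroup.zpowers a ≠ ⊤ := fun h => hG ⟨⟨a, fun x => by
    have hx : x ∈ Subgroup.zpowers a := h ▸ Subgroup.mem_top x
    exact hx⟩⟩
  obtain ⟨b, hbp, hb⟩ : ∃ b : G, b ^ p = 1 ∧ b ∉ Subgroup.zpowers a := by
    obtain ⟨c, hc⟩ : ∃ c : G, c ∉ Subgroup.zpowers a := by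
      by_contra! h
      exact hne (eq_top_iff.2 fun x _ => h x)
    obtain ⟨k, hk⟩ := hpG c
    have hex : ∃ j, c ^ p ^ j ∈ Subgroup.zpowers a := ⟨k, by rw [hk]; exact one_mem _⟩
    classical
    obtain ⟨j, hj⟩ : ∃ j, Nat.find hex = j + 1 := ⟨Nat.find hex - 1, by
      have : Nat.find hex ≠ 0 := fun h0 => hc (by
        have := Nat.find_spec hex
        rwa [h0, pow_zero, pow_one] at this)
      omega⟩
    have hdA : c ^ p ^ j ∉ Subgroup.zpowers a := Nat.find_min hex (by omega)
    have hdp : (c ^ p ^ j) ^ p ∈ Subgroup.zpowers a := by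
      rw [← pow_mul, ← pow_succ, ← hj]; exact Nat.find_spec hex
    set d := c ^ p ^ j
    obtain ⟨i, hi'⟩ := hdp
    have hi : a ^ i = d ^ p := hi'
    obtain ⟨n, hn⟩ := IsPGroup.iff_orderOf.1 hpG a
    obtain ⟨m, hm⟩ := IsPGroup.iff_orderOf.1 hpG d
    have hmn : m ≤ n := by
      have := ha d
      simp only [hn, hm] at this
      exact (Nat.pow_le_pow_iff_right hp.one_lt).1 this
    have hm1 : 1 ≤ m := by
      rcases Nat.eq_zero_or_pos m with h | h
      · rw [h, pow_zero, orderOf_eq_one_iff] at hm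
        exact absurd (hm ▸ one_mem _) hdA
      · exact h
    have hdiv : (p : ℤ) ∣ i := by
      have h1 : a ^ (i * (p : ℤ) ^ (n - 1)) = 1 := by
        rw [zpow_mul, hi, ← Nat.cast_pow, zpow_natCast, ← pow_mul, ← pow_succ']
        exact orderOf_dvd_iff_pow_eq_one.1 (hm ▸ pow_dvd_pow p (by omega))
      rw [← orderOf_dvd_iff_zpow_eq_one, hn] at h1
      push_cast at h1
      rw [show (p : ℤ) ^ n = (p : ℤ) * (p : ℤ) ^ (n - 1) by
        rw [← pow_succ']; congr 1; omega] at h1
      exact (mul_dvd_mul_iff_right (pow_ne_zero _ (by exact_mod_cast hp.ne_zero))).1 h1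
    obtain ⟨t, rfl⟩ := hdiv
    refine ⟨d * (a ^ t)⁻¹, ?_, fun h => hdA ?_⟩
    · rw [mul_pow, inv_pow, ← zpow_natCast (a ^ t) p, ← zpow_mul, mul_comm t, hi, mul_inv_cancel]
    · simpa using Subgroup.mul_mem _ h (Subgroup.zpow_mem _ (Subgroup.mem_zpowers a) t)
  set K : Subgroup G := MonoidHom.ker (powMonoidHom p : G →* G)
  have hK : ∀ x, x ∈ K ↔ x ^ p = 1 := fun x => Iff.rfl
  obtain ⟨n, hn⟩ := IsPGroup.iff_orderOf.1 hpG a
  have hn1 : 1 ≤ n := by
    rcases Nat.eq_zero_or_pos n with h | h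
    · exfalso
      rw [h, pow_zero] at hn
      refine hb ?_
      have := ha b
      simp only [hn] at this
      have : b = 1 := orderOf_eq_one_iff.1 (le_antisymm this (orderOf_pos b))
      exact this ▸ one_mem _
    · exact h
  set u := a ^ p ^ (n - 1) with hu
  have huord : orderOf u = p := by
    rw [hu, orderOf_pow' _ (pow_ne_zero _ hp.ne_zero), hn,
      Nat.gcd_eq_right (pow_dvd_pow p (Nat.sub_le n 1)), Nat.pow_div (Nat.sub_le n 1) hp.pos,
      show n - (n - 1) = 1 by omega, pow_one]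
  have hKnc : ¬ IsCyclic K := by
    intro hc
    obtain ⟨g, hg⟩ := hc.exists_generator
    have hgo : orderOf g ∣ p := orderOf_dvd_of_pow_eq_one (Subtype.ext g.2)
    have hcard : Nat.card K ≤ p := by
      rw [← orderOf_eq_card_of_forall_mem_zpowers hg]; exact Nat.le_of_dvd hp.pos hgo
    have hsub : Subgroup.zpowers u ≤ K :=
      Subgroup.zpowers_le.2 ((hK u).2 (by rw [← huord, pow_orderOf_eq_one]))
    have heq := Subgroup.eq_of_le_of_card_ge hsub (by rw [Nat.card_zpowers, huord]; exact hcard)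
    have hbK : b ∈ K := (hK b).2 hbp
    rw [← heq] at hbK
    exact hb (Subgroup.zpowers_le.2 (Subgroup.pow_mem _ (Subgroup.mem_zpowers a) _) hbK)
  have hexp : ∀ x : G, x ^ p = 1 := fun x => (hK x).1 (htop K hKnc ▸ Subgroup.mem_top x)
  have hp2 : p ^ 2 ∣ Nat.card G := by
    obtain ⟨m, hm⟩ := IsPGroup.iff_card.1 hpG
    rw [hm]
    refine pow_dvd_pow p ?_
    by_contra hm2
    interval_cases m
    · exact hG (@isCyclic_of_subsingleton G _ (Nat.card_eq_one_iff_unique.1 (by rw [hm, pow_zero])).1)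
    · exact hG (isCyclic_of_prime_card (p := p) (by rw [hm, pow_one]))
  obtain ⟨L, hL⟩ := Sylow.exists_subgroup_card_pow_prime (G := G) p hp2
  have hLnc : ¬ IsCyclic L := by
    intro hc
    obtain ⟨g, hg⟩ := hc.exists_generator
    have h1 : orderOf g ∣ p := orderOf_dvd_of_pow_eq_one (Subtype.ext (hexp g))
    have h2 := orderOf_eq_card_of_forall_mem_zpowers hg
    rw [hL] at h2
    have h3 := Nat.le_of_dvd hp.pos (h2 ▸ h1)
    nlinarith [hp.two_le]
  refine ⟨p, hp, ?_, ?_⟩
  · rw [← Subgroup.card_top, ← htop L hLnc, hL]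
  · refine ((Nat.dvd_prime hp).1 (Monoid.exponent_dvd_of_forall_pow_eq_one hexp)).resolve_left
      fun h => hG ?_
    have : ∀ x : G, x = 1 := fun x => by
      rw [← pow_one x]
      have := Monoid.pow_exponent_eq_one x
      rwa [h] at this
    exact ⟨⟨1, fun x => ⟨0, by simp [this x]⟩⟩⟩

end Cfsg.Agent.S3917
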