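import Cfsg.Statements.S3918
import Cfsg.Agent.Lib.PGroup.PrimeIndex
import Cfsg.Agent.Lib.PGroup.Extraspecial
import Cfsg.Agent.Lib.Transfer.CyclicMaximal

set_option autoImplicit false
open Cfsg

namespace Cfsg.Agent.S3918

open scoped commutatorElement

/-- Say that a group has self-centralizing non-cyclic subgroups when every non-cyclic subgroup H satisfies C_G(H) ≤ H. For an odd prime p, a finite non-abelian p-group has self-centralizing non-cyclic subgroups if and only if it has order p³. -/
theorem result {G : Type*} [Group G] [Finite G] {p : ℕ} [Fact p.Prime] (hp : p ≠ 2) (hG : IsPGroup p G) (hna : ¬ IsMulCommutative G) :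
    (∀ H : Subgroup G, ¬ IsCyclic ↥H → Subgroup.centralizer (H : Set G) ≤ H) ↔ Nat.card G = p ^ 3 := by
  classical
  have hpp : p.Prime := Fact.out
  have hnc : ¬ IsCyclic G := fun h => hna ⟨⟨fun a b => by
    obtain ⟨g, hg⟩ := h.exists_generator
    obtain ⟨i, rfl⟩ := hg a
    obtain ⟨j, rfl⟩ := hg b
    exact (Commute.zpow_zpow (Commute.refl g) i j).eq⟩⟩
  constructor
  · intro h
    have htopnc : ¬ IsCyclic (⊤ : Subgroup G) := fun hc =>
      hnc (isCyclic_of_surjective _ (Subgroup.topEquiv (G := G)).surjective)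
    obtain ⟨A, -, hAn, hAe, hAc⟩ := CfsgLib.Transfer.exists_normal_elemAb_sq hG hp htopnc
    have hAnc : ¬ IsCyclic A := by
      intro hc
      obtain ⟨g, hg⟩ := hc.exists_generator
      have h1 : orderOf g ∣ p := orderOf_dvd_of_pow_eq_one (Subtype.ext (hAe.2 g g.2))
      have h2 := Nat.le_of_dvd hpp.pos h1
      rw [orderOf_eq_card_of_forall_mem_zpowers hg, hAc] at h2
      nlinarith [hpp.two_le]
    have hCA := h A hAnc
    have hA1 : A ≠ ⊥ := fun e => by
      rw [e, Subgroup.card_bot] at hAc
      nlinarith [hpp.two_le]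
    set Z0 := A ⊓ Subgroup.center G with hZ0
    have hZA : ¬ A ≤ Subgroup.center G := fun hle => hna ⟨⟨fun a b =>
      congrArg Subtype.val (hAe.1.is_comm.comm
        (⟨a, hCA (Subgroup.mem_centralizer_iff.2 fun x hx => (Subgroup.mem_center_iff.1 (hle hx) a).symm)⟩ : A)
        ⟨b, hCA (Subgroup.mem_centralizer_iff.2 fun x hx => (Subgroup.mem_center_iff.1 (hle hx) b).symm)⟩)⟩⟩
    have hZ0c : Nat.card Z0 = p := by
      obtain ⟨k, hk, hk'⟩ := (Nat.dvd_prime_pow hpp).1
        (hAc ▸ Subgroup.card_dvd_of_le (inf_le_left : Z0 ≤ A))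
      have h0 : k ≠ 0 := by
        rintro rfl
        exact CfsgLib.PGroup.inf_center_ne_bot hG A hA1 (Subgroup.eq_bot_of_card_eq _ (by simpa using hk'))
      have h2 : k ≠ 2 := by
        rintro rfl
        exact hZA (inf_eq_left.1 (Subgroup.eq_of_le_of_card_ge inf_le_left (by rw [hAc, hk'])))
      rw [hk', show k = 1 by omega, pow_one]
    obtain ⟨e, heA, heZ⟩ := SetLike.not_le_iff_exists.1 hZA
    have hcomm : ∀ g ∈ (⊤ : Subgroup G), ⁅g, e⁆ ∈ Z0 := by
      intro g _
      haveI := hAn
      by_contra hng
      -- the image of `A` in `G / Z0` has order `p`, so it is central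
      haveI : Z0.Normal := by rw [hZ0]; infer_instance
      set f := QuotientGroup.mk' Z0
      haveI : (A.map f).Normal := Subgroup.Normal.map hAn f (QuotientGroup.mk'_surjective _)
      have hle : Z0 ≤ A := inf_le_left
      have hcardmap : Nat.card (A.map f) = p := by
        have h1 := Subgroup.index_map_eq A (QuotientGroup.mk'_surjective Z0) (by rw [QuotientGroup.ker_mk']; exact hle)
        have h2 := (A.map f).card_mul_index
        rw [h1, ← Subgroup.index_eq_card] at h2
        have h3 := Z0.card_mul_index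
        rw [hZ0c, ← h2] at h3
        have h4 := A.card_mul_index
        rw [hAc, ← Z0.card_mul_index, hZ0c, ← h2, sq, mul_assoc] at h4
        exact (Nat.eq_of_mul_eq_mul_right (Nat.pos_of_ne_zero Subgroup.index_ne_zero_of_finite)
          (Nat.eq_of_mul_eq_mul_left hpp.pos h4)).symm
      have hcen := CfsgLib.PGroup.le_center_of_card_eq (hG.to_quotient Z0) (A.map f) hcardmap
      refine hng ((QuotientGroup.eq_one_iff _).1 ?_)
      show f ⁅g, e⁆ = 1
      rw [map_commutatorElement]
      exact commutatorElement_eq_one_iff_mul_comm.2 (Subgroup.mem_center_iff.1 (hcen ⟨e, heA, rfl⟩) _)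
    have hC := CfsgLib.PGroup.card_inf_centralizer_mul (inf_le_right : Z0 ≤ _) hZ0c hcomm
      (fun hle => heZ (Subgroup.mem_center_iff.2 fun g =>
        Subgroup.mem_centralizer_singleton_iff.1 (hle (Subgroup.mem_top g))))
    rw [top_inf_eq, Subgroup.card_top] at hC
    have hCe : Subgroup.centralizer ({e} : Set G) = A := by
      refine le_antisymm (fun x hx => hCA (Subgroup.mem_centralizer_iff.2 fun a ha => ?_)) fun a ha =>
        Subgroup.mem_centralizer_singleton_iff.2
          (congrArg Subtype.val (hAe.1.is_comm.comm (⟨a, ha⟩ : A) ⟨e, heA⟩))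
      -- `A = Z0 ⊔ ⟨e⟩`
      have hA : A ≤ Subgroup.centralizer ({x} : Set G) := by
        have h1 : Z0 ⊔ Subgroup.zpowers e = A := by
          refine Subgroup.eq_of_le_of_card_ge (sup_le inf_le_left (Subgroup.zpowers_le.2 heA)) ?_
          obtain ⟨k, hk, hk'⟩ := (Nat.dvd_prime_pow hpp).1 (hAc ▸ Subgroup.card_dvd_of_le
            (sup_le inf_le_left (Subgroup.zpowers_le.2 heA) : Z0 ⊔ Subgroup.zpowers e ≤ A))
          rw [hAc, hk']
          refine Nat.pow_le_pow_right hpp.pos ?_
          by_contra hk2
          have hlt : p < Nat.card ↥(Z0 ⊔ Subgroup.zpowers e) := by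
            rw [← hZ0c]
            refine lt_of_le_of_ne (Subgroup.card_le_of_le le_sup_left) fun heq => heZ ?_
            have := Subgroup.eq_of_le_of_card_ge (le_sup_left : Z0 ≤ _) heq.ge
            exact (this.symm ▸ Subgroup.mem_sup_right (Subgroup.mem_zpowers e) : e ∈ Z0).2
          rw [hk'] at hlt
          exact absurd hlt (not_lt.2 (le_trans (Nat.pow_le_pow_right hpp.pos (by omega : k ≤ 1)) (pow_one p).le))
        rw [← h1]
        exact sup_le (fun z hz => Subgroup.mem_centralizer_singleton_iff.2 (Subgroup.mem_center_iff.1 hz.2 x).symm)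
          (Subgroup.zpowers_le.2 (Subgroup.mem_centralizer_singleton_iff.2
            (Subgroup.mem_centralizer_singleton_iff.1 hx).symm))
      exact Subgroup.mem_centralizer_singleton_iff.1 (hA ha)
    rw [hCe, hAc] at hC
    rw [← hC]; ring
  · intro h3 H hH
    obtain ⟨k, hk, hk'⟩ := (Nat.dvd_prime_pow hpp).1 (h3 ▸ Subgroup.card_subgroup_dvd_card H)
    have hk2 : 2 ≤ k := by
      by_contra hk2
      refine hH ?_
      interval_cases k
      · exact @isCyclic_of_subsingleton _ _ (Nat.card_eq_one_iff_unique.1 (by rw [hk', pow_zero])).1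
      · exact isCyclic_of_prime_card (p := p) (by rw [hk', pow_one])
    rcases eq_or_lt_of_le hk with rfl | hk3
    · intro x _
      rw [Subgroup.eq_top_of_card_eq H (hk'.trans h3.symm)]
      exact Subgroup.mem_top x
    · obtain rfl : k = 2 := by omega
      have hHc : IsMulCommutative ↥H :=
        ⟨⟨fun a b => IsPGroup.commutative_of_card_eq_prime_sq hk' a b⟩⟩
      have hHi : H.index = p := by
        have h := H.card_mul_index
        rw [hk', h3, pow_succ p 2] at h
        exact Nat.eq_of_mul_eq_mul_left (pow_pos hpp.pos 2) h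
      have hH1 : IsCoatom H := CfsgLib.PGroup.isCoatom_of_index_prime (hHi ▸ hpp)
      have hle : H ≤ Subgroup.centralizer (H : Set G) := fun a ha => Subgroup.mem_centralizer_iff.2
        fun b hb => congrArg Subtype.val (hHc.is_comm.comm (⟨b, hb⟩ : H) ⟨a, ha⟩)
      rcases hH1.le_iff.1 hle with htop | heq
      · exfalso
        have hHcen : H ≤ Subgroup.center G := fun a ha => Subgroup.mem_center_iff.2 fun g => by
          have hg : g ∈ Subgroup.centralizer (H : Set G) := htop.symm ▸ Subgroup.mem_top g
          exact (Subgroup.mem_centralizer_iff.1 hg a ha).symm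
        haveI : IsCyclic (G ⧸ Subgroup.center G) := by
          rcases (Nat.dvd_prime hpp).1 (hHi ▸ Subgroup.index_dvd_of_le hHcen) with h | h
          · rw [Subgroup.index_eq_card] at h
            exact @isCyclic_of_subsingleton _ _ (Nat.card_eq_one_iff_unique.1 h).1
          · rw [Subgroup.index_eq_card] at h
            exact isCyclic_of_prime_card h
        exact hna ⟨⟨commutative_of_cyclic_center_quotient (QuotientGroup.mk' (Subgroup.center G))
          (by rw [QuotientGroup.ker_mk'])⟩⟩
      · exact heq.le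

end Cfsg.Agent.S3918
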