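import Cfsg.Statements.S3920
import Mathlib

set_option autoImplicit false
open Cfsg

namespace Cfsg.Agent.S3920

/-- Say that a group has self-centralizing non-cyclic subgroups when every non-cyclic subgroup H satisfies C_G(H) ≤ H. For n ≥ 3, the dihedral group of order 2n has self-centralizing non-cyclic subgroups if and only if n is odd or a power of 2. -/
theorem result (n : ℕ) (hn : 3 ≤ n) : (∀ H : Subgroup (DihedralGroup n), ¬ IsCyclic ↥H → Subgroup.centralizer (H : Set (DihedralGroup n)) ≤ H) ↔ (Odd n ∨ ∃ k : ℕ, n = 2 ^ k) := by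
  haveI : NeZero n := ⟨by omega⟩
  constructor
  · intro h
    by_contra hcon
    push Not at hcon
    obtain ⟨hev, hpow⟩ := hcon
    have h2n : 2 ∣ n := even_iff_two_dvd.1 (Nat.not_odd_iff_even.1 hev)
    obtain ⟨k, m, hm, hnm⟩ := Nat.exists_eq_two_pow_mul_odd (by omega : n ≠ 0)
    obtain ⟨q, hq, hqm⟩ := Nat.exists_prime_and_dvd (show m ≠ 1 from fun h1 => hpow k (by rw [hnm, h1, mul_one]))
    have hqodd : Odd q := hm.of_dvd_nat hqm
    have hqn : q ∣ n := hqm.trans (hnm ▸ dvd_mul_left m _)
    let S : Set (DihedralGroup n) := {g | match g with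
      | DihedralGroup.r j => (q : ZMod n) * j = 0
      | DihedralGroup.sr j => (q : ZMod n) * j = 0}
    let H : Subgroup (DihedralGroup n) :=
      { carrier := S
        one_mem' := by show (q : ZMod n) * 0 = 0; rw [mul_zero]
        mul_mem' := fun {a b} ha hb => by
          rcases a with i | i <;> rcases b with j | j <;>
            simp only [DihedralGroup.r_mul_r, DihedralGroup.r_mul_sr, DihedralGroup.sr_mul_r,
              DihedralGroup.sr_mul_sr, S, Set.mem_ofPred_eq] at ha hb ⊢ <;>
            simp [mul_add, mul_sub, ha, hb]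
        inv_mem' := fun {a} ha => by
          rcases a with i | i <;>
            simp only [DihedralGroup.inv_r, DihedralGroup.inv_sr, S, Set.mem_ofPred_eq] at ha ⊢ <;>
            simp [ha] }
    have hd : (q : ZMod n) * ((n / q : ℕ) : ZMod n) = 0 := by
      rw [← Nat.cast_mul, Nat.mul_div_cancel' hqn, ZMod.natCast_self]
    have hdne : ((n / q : ℕ) : ZMod n) + ((n / q : ℕ) : ZMod n) ≠ 0 := by
      rw [← Nat.cast_add, Ne, ZMod.natCast_eq_zero_iff]
      intro hdvd
      obtain ⟨c, hc⟩ := hdvd
      have h1 : n / q * q = n := Nat.div_mul_cancel hqn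
      have h2 : q * c = 2 := by
        have : n / q * (q * c) = n / q * 2 := by rw [← mul_assoc, h1, ← hc]; ring
        exact Nat.eq_of_mul_eq_mul_left (Nat.pos_of_ne_zero fun h0 => by simp [h0] at h1; omega) this
      have : q ∣ 2 := ⟨c, h2.symm⟩
      rcases (Nat.dvd_prime Nat.prime_two).1 this with h3 | h3
      · exact hq.ne_one h3
      · rw [h3] at hqodd; exact absurd hqodd (by decide)
    have hnc : ¬ IsCyclic H := by
      intro hc
      obtain ⟨g, hg⟩ := hc.exists_generator
      obtain ⟨i, hi⟩ := hg ⟨DihedralGroup.r ((n / q : ℕ) : ZMod n), hd⟩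
      obtain ⟨j, hj⟩ := hg ⟨DihedralGroup.sr 0, mul_zero _⟩
      have := (Commute.zpow_zpow (Commute.refl g) i j).eq
      simp only [hi, hj] at this
      have h2 := congrArg Subtype.val this
      simp only [Subgroup.coe_mul, DihedralGroup.r_mul_sr, DihedralGroup.sr_mul_r,
        DihedralGroup.sr.injEq, zero_sub, zero_add] at h2
      exact hdne (by linear_combination -h2)
    have hz : DihedralGroup.r ((n / 2 : ℕ) : ZMod n) ∈ Subgroup.centralizer (H : Set (DihedralGroup n)) := by
      have h2 : ((n / 2 : ℕ) : ZMod n) + ((n / 2 : ℕ) : ZMod n) = 0 := by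
        rw [← Nat.cast_add, ← two_mul, Nat.mul_div_cancel' h2n, ZMod.natCast_self]
      refine Subgroup.mem_centralizer_iff.2 fun g _ => ?_
      rcases g with i | i <;> simp only [DihedralGroup.r_mul_r, DihedralGroup.r_mul_sr,
        DihedralGroup.sr_mul_r, DihedralGroup.r.injEq, DihedralGroup.sr.injEq]
      · ring
      · linear_combination h2
    have := h H hnc hz
    have h3 : ((q * (n / 2) : ℕ) : ZMod n) = 0 := by push_cast; exact this
    rw [ZMod.natCast_eq_zero_iff] at h3
    obtain ⟨c, hc⟩ := h3
    obtain ⟨t, rfl⟩ := h2n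
    rw [Nat.mul_div_cancel_left t two_pos] at hc
    have : q = 2 * c := Nat.eq_of_mul_eq_mul_right (by omega : 0 < t) (by rw [hc]; ring)
    exact absurd ⟨c, by omega⟩ (Nat.not_even_iff_odd.2 hqodd)
  · intro hn' H hH
    -- `H` contains a reflection and a nontrivial rotation
    obtain ⟨i, hi⟩ : ∃ i, DihedralGroup.sr i ∈ H := by
      by_contra! hno
      have hle : H ≤ Subgroup.zpowers (DihedralGroup.r 1 : DihedralGroup n) := ?_
      · exact hH (isCyclic_of_injective (Subgroup.inclusion hle) (Subgroup.inclusion_injective hle))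
      intro x hx
      rcases x with j | j
      · exact Subgroup.mem_zpowers_iff.2 ⟨(j.cast : ℤ), by rw [DihedralGroup.r_one_zpow, ZMod.intCast_zmod_cast]⟩
      · exact absurd hx (hno j)
    obtain ⟨j, hj0, hj⟩ : ∃ j, j ≠ 0 ∧ DihedralGroup.r j ∈ H := by
      by_contra! hno
      refine hH ⟨⟨⟨DihedralGroup.sr i, hi⟩, fun x => ?_⟩⟩
      obtain ⟨x, hx⟩ := x
      rcases x with l | l
      · rcases eq_or_ne l 0 with rfl | hl
        · exact ⟨0, Subtype.ext rfl⟩
        · exact absurd hx (hno l hl)
      · refine ⟨1, Subtype.ext ?_⟩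
        show DihedralGroup.sr i ^ (1 : ℤ) = _
        rw [zpow_one]
        have h1 := H.mul_mem hi hx
        rw [DihedralGroup.sr_mul_sr] at h1
        by_contra hne
        exact hno (l - i) (fun h0 => hne (congrArg DihedralGroup.sr (sub_eq_zero.1 h0).symm)) h1
    intro c hc
    have hcr := Subgroup.mem_centralizer_iff.1 hc _ hj
    have hcs := Subgroup.mem_centralizer_iff.1 hc _ hi
    rcases hn' with hodd | ⟨k, hk⟩
    · have htwo : ∀ x : ZMod n, x + x = 0 → x = 0 := by
        intro x hx
        rw [← ZMod.natCast_zmod_val x, ← Nat.cast_add, ZMod.natCast_eq_zero_iff, ← two_mul] at hx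
        rw [← ZMod.natCast_zmod_val x, ZMod.natCast_eq_zero_iff]
        exact (Nat.coprime_two_left.2 hodd).symm.dvd_of_dvd_mul_left hx
      rcases c with l | l
      · simp only [DihedralGroup.sr_mul_r, DihedralGroup.r_mul_sr, DihedralGroup.sr.injEq] at hcs
        rw [htwo l (by linear_combination hcs), ← DihedralGroup.one_def]
        exact H.one_mem
      · simp only [DihedralGroup.r_mul_sr, DihedralGroup.sr_mul_r, DihedralGroup.sr.injEq] at hcr
        exact absurd (htwo j (by linear_combination -hcr)) hj0
    · obtain ⟨e, he⟩ : ∃ e, n = 2 * e := by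
        rcases k with _ | k
        · simp at hk; omega
        · exact ⟨2 ^ k, by rw [hk, pow_succ]; ring⟩
      have htwo : ∀ x : ZMod n, x + x = 0 → x = 0 ∨ x = (e : ZMod n) := by
        intro x hx
        rw [← ZMod.natCast_zmod_val x, ← Nat.cast_add, ZMod.natCast_eq_zero_iff] at hx
        have hlt := ZMod.val_lt x
        obtain ⟨d, hd⟩ := hx
        have : d < 2 := by
          by_contra hd2
          have : n * 2 ≤ n * d := Nat.mul_le_mul_left n (by omega)
          omega
        interval_cases d
        · left; rw [← ZMod.natCast_zmod_val x, show x.val = 0 by omega, Nat.cast_zero]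
        · right; rw [← ZMod.natCast_zmod_val x, show x.val = e by omega]
      have hre : DihedralGroup.r (e : ZMod n) ∈ H := by
        have hord : orderOf (DihedralGroup.r j : DihedralGroup n) ∣ 2 ^ k := by
          rw [← hk, orderOf_dvd_iff_pow_eq_one, DihedralGroup.r_pow, ZMod.natCast_self, mul_zero,
            DihedralGroup.one_def]
        obtain ⟨l, -, hl⟩ := (Nat.dvd_prime_pow Nat.prime_two).1 hord
        rcases l with _ | l
        · rw [pow_zero, orderOf_eq_one_iff, DihedralGroup.one_def, DihedralGroup.r.injEq] at hl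
          exact absurd hl hj0
        · have h1 := H.pow_mem hj (2 ^ l)
          rw [DihedralGroup.r_pow] at h1
          have h2 : (j * (2 ^ l : ℕ) : ZMod n) + j * (2 ^ l : ℕ) = 0 := by
            have h3 := pow_orderOf_eq_one (DihedralGroup.r j : DihedralGroup n)
            rw [hl, DihedralGroup.r_pow, DihedralGroup.one_def, DihedralGroup.r.injEq, pow_succ,
              Nat.cast_mul] at h3
            push_cast at h3 ⊢
            linear_combination h3
          rcases htwo _ h2 with h3 | h3
          · exfalso
            have : orderOf (DihedralGroup.r j : DihedralGroup n) ∣ 2 ^ l := by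
              rw [orderOf_dvd_iff_pow_eq_one, DihedralGroup.r_pow, h3, DihedralGroup.one_def]
            rw [hl] at this
            exact absurd ((Nat.pow_dvd_pow_iff_le_right (by omega)).1 this) (by omega)
          · exact h3 ▸ h1
      rcases c with l | l
      · simp only [DihedralGroup.sr_mul_r, DihedralGroup.r_mul_sr, DihedralGroup.sr.injEq] at hcs
        rcases htwo l (by linear_combination hcs) with h3 | h3
        · rw [h3, ← DihedralGroup.one_def]; exact H.one_mem
        · rw [h3]; exact hre
      · simp only [DihedralGroup.sr_mul_sr, DihedralGroup.r.injEq] at hcs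
        rcases htwo (l - i) (by linear_combination hcs) with h3 | h3
        · rw [sub_eq_zero.1 h3]; exact hi
        · rw [show l = i + e by rw [← h3]; ring, ← DihedralGroup.sr_mul_r]
          exact H.mul_mem hi hre

end Cfsg.Agent.S3920
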