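import Cfsg.Statements.S3921
import Cfsg.Agent.S0252
import Cfsg.Agent.S0253
import Cfsg.Agent.S3919
import Cfsg.Agent.Lib.PGroup.SelfCentSimple.Recognise
import Cfsg.Agent.Lib.PGroup.SelfCentSimple.PSL

set_option autoImplicit false
open Cfsg CfsgLib.PGroup.SelfCentSimple

namespace Cfsg.Agent.S3921

theorem two_pow_eq_of_dvd {n a r : ℕ} (h : 2 ^ n = a * (2 * r + 1)) : a = 2 ^ n := by
  have hd : 2 * r + 1 ∣ 2 ^ n := h ▸ dvd_mul_left _ _
  have h1 : 2 * r + 1 = 1 := Nat.eq_one_of_dvd_coprimes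
    ((Nat.coprime_two_left.2 ⟨r, rfl⟩).pow_left n) hd dvd_rfl
  rw [h, h1, mul_one]

theorem prime_or_nine {p f n : ℕ} (hp : p.Prime) (hp2 : p ≠ 2) (hf : 0 < f)
    (h : p ^ f + 1 = 2 ^ n ∨ p ^ f = 2 ^ n + 1) :
    p ^ f = 9 ∨ (p ^ f).Prime := by
  obtain ⟨j, hj⟩ := hp.odd_of_ne_two hp2
  have hp3 : 3 ≤ p := by have := hp.two_le; omega
  obtain ⟨g, rfl | rfl⟩ := Nat.even_or_odd' f
  · have hg : 0 < g := by omega
    rcases h with h | h
    · exfalso
      obtain ⟨i, hi⟩ : Odd (p ^ g) := (hp.odd_of_ne_two hp2).pow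
      rw [mul_comm 2 g, pow_mul, hi] at h
      have e : (2 * i + 1) ^ 2 + 1 = 2 * (2 * (i * i + i) + 1) := by ring
      rw [e] at h
      have h2 := two_pow_eq_of_dvd h.symm
      have : 3 ≤ p ^ g := hp3.trans (Nat.le_self_pow hg.ne' p)
      nlinarith
    · left
      rw [mul_comm 2 g, pow_mul] at h ⊢
      obtain ⟨i, hi⟩ : Odd (p ^ g) := (hp.odd_of_ne_two hp2).pow
      have hi1 : 1 ≤ i := by have := hp3.trans (Nat.le_self_pow hg.ne' p); omega
      rw [hi] at h ⊢
      have e : 2 ^ n = (4 * i) * (i + 1) := by nlinarith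
      rcases Nat.eq_or_lt_of_le hi1 with rfl | hlt
      · norm_num
      · exfalso
        rcases Nat.even_or_odd' i with ⟨r, rfl | rfl⟩
        · have := two_pow_eq_of_dvd (a := 4 * (2 * r)) e
          nlinarith
        · have := two_pow_eq_of_dvd (a := 4 * (2 * r + 1 + 1)) (r := r) (by rw [e]; ring)
          nlinarith
  · rcases Nat.eq_zero_or_pos g with rfl | hg
    · right; simpa using hp
    exfalso
    obtain ⟨w, hw⟩ : p ^ 2 - 1 ∣ p ^ (2 * g) - 1 := by
      rw [pow_mul]; simpa using Nat.sub_dvd_pow_sub_pow (p ^ 2) 1 g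
    obtain ⟨s, hs⟩ : ∃ s, p ^ (2 * g) = 1 + s := ⟨p ^ (2 * g) - 1, by
      have := Nat.one_le_pow (2 * g) p hp.pos; omega⟩
    rw [show p ^ 2 - 1 = 4 * (j * (j + 1)) by
      rw [hj]; exact Nat.sub_eq_of_eq_add (by ring), show p ^ (2 * g) - 1 = s by omega] at hw
    have hlt : p < p ^ (2 * g + 1) := by
      calc p = p ^ 1 := (pow_one p).symm
        _ < _ := Nat.pow_lt_pow_right (by omega) (by omega)
    rw [pow_succ, hs] at hlt
    rw [pow_succ, hs, hw, hj] at h
    rcases h with h | h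
    · have h2 := two_pow_eq_of_dvd (n := n) (a := 2 * (j + 1)) (r := j * w * (2 * j + 1))
        (by rw [← h]; ring)
      nlinarith
    · have h2 := two_pow_eq_of_dvd (n := n) (a := 2 * j) (r := (j + 1) * w * (2 * j + 1))
        (by nlinarith)
      nlinarith

theorem field_of_dihedral {G : Type*} [Group G] [Finite G] [IsSimpleGroup G]
    (hna : ¬ IsMulCommutative G) {S : Sylow 2 G} {c t v : G} (X : Ctx S c t v)
    (hSC : SelfCentNoncyclic G) :
    ∃ (F : Type) (_ : Field F) (_ : Fintype F), (2 : F) ≠ 0 ∧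
      Nonempty (G ≃* Matrix.ProjectiveSpecialLinearGroup (Fin 2) F) := by
  have hA := X.dihedral hSC hna
  have hcent := X.cent_eq hSC
  have hcS : Subgroup.zpowers c ≤ (S : Subgroup G) := X.zpowers_le
  obtain ⟨Q, D, hG, hC, -, hD, hQD, hN, -⟩ := Cfsg.Agent.S3282.result t X.ot (Subgroup.zpowers c)
    inferInstance (hcS.trans hcent.ge) X.tc v X.ov (hcent.symm ▸ X.vS) X.vc
    (by
      refine le_antisymm (sup_le (hcS.trans hcent.ge) (Subgroup.zpowers_le.2 (hcent.symm ▸ X.vS)))
        fun x hx => ?_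
      rcases X.split x (hcent ▸ hx) with h | h
      · exact Subgroup.mem_sup_left h
      · rw [show x = x * v⁻¹ * v by group]
        exact mul_mem (Subgroup.mem_sup_left h) (Subgroup.mem_sup_right (Subgroup.mem_zpowers v)))
    (by
      ext x
      constructor
      · intro hx
        obtain ⟨h1, h2⟩ := Subgroup.mem_inf.1 hx
        rcases X.fix hSC h1 (Subgroup.mem_centralizer_singleton_iff.1 h2) with rfl | rfl
        · exact one_mem _
        · exact Subgroup.mem_zpowers _
      · rintro ⟨i, rfl⟩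
        refine zpow_mem (Subgroup.mem_inf.2 ⟨X.tc, Subgroup.mem_centralizer_singleton_iff.2 ?_⟩) i
        exact (X.t_comm X.vS).symm)
    (fun x hx => by
      obtain ⟨i, rfl⟩ := hx
      show v * c ^ i * v⁻¹ = _
      rw [← conj_zpow, hA, inv_zpow])
    (fun g hg => by
      rw [Subgroup.eq_bot_iff_forall]
      intro x hx
      obtain ⟨h1, h2⟩ := Subgroup.mem_inf.1 hx
      obtain ⟨k, hk, rfl⟩ := Subgroup.mem_map.1 h2
      by_contra hne
      have hk1 : k ≠ 1 := fun e => hne (by rw [e, map_one])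
      haveI : Fact (Nat.Prime 2) := ⟨Nat.prime_two⟩
      obtain ⟨n, hn⟩ := IsPGroup.iff_orderOf.1 S.2 ⟨k, hcS hk⟩
      rw [Subgroup.orderOf_mk] at hn
      obtain ⟨m, rfl⟩ : ∃ m, n = m + 1 := ⟨n - 1, by
        rcases Nat.eq_zero_or_pos n with rfl | h
        · rw [pow_zero, orderOf_eq_one_iff] at hn; exact absurd hn hk1
        · omega⟩
      have hord : orderOf (k ^ 2 ^ m) = 2 := by
        rw [orderOf_pow_of_dvd (by positivity) ⟨2, by rw [hn, pow_succ]⟩, hn, pow_succ']
        exact Nat.mul_div_cancel _ (by positivity)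
      have e1 : k ^ 2 ^ m = t := X.invol_eq (pow_mem hk _) hord
      have e2 : ((MulAut.conj g).toMonoidHom k) ^ 2 ^ m = t := by
        refine X.invol_eq (pow_mem h1 _) ?_
        rw [← map_pow, MulEquiv.coe_toMonoidHom, MulAut.conj_apply, CfsgLib.Invol.orderOf_conj_eq,
          hord]
      rw [← map_pow, e1, MulEquiv.coe_toMonoidHom, MulAut.conj_apply] at e2
      exact hg (Subgroup.mem_centralizer_singleton_iff.2 (mul_inv_eq_iff_eq_mul.1 e2)))
    (fun x y hx hy => by
      obtain ⟨g, hg⟩ := X.inv_conj_t hna hx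
      obtain ⟨k, hk⟩ := X.inv_conj_t hna hy
      exact (isConj_iff.2 ⟨g, hg⟩).trans (isConj_iff.2 ⟨k, hk⟩).symm)
  obtain ⟨K, iK, iF, hK, he⟩ := psl_of_self_cent_kernel hna Q D hG hC hD hQD hN
  exact ⟨K, iK, iF, fun h2 => hK (CharP.ringChar_of_prime_eq_zero Nat.prime_two (by exact_mod_cast h2)), he⟩

theorem odd_two_pow {q k : ℕ} (hq : 5 ≤ q) (h : q = 2 ^ k + 1 ∨ q = 2 ^ k - 1) :
    ∃ n, (if q % 4 = 3 then q + 1 else q - 1) = 2 ^ n ∧ 2 ≤ n := by
  obtain ⟨m, rfl⟩ : ∃ m, k = m + 2 := ⟨k - 2, by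
    by_contra hk
    rcases (show k = 0 ∨ k = 1 by omega) with rfl | rfl <;> norm_num at h <;> omega⟩
  refine ⟨m + 2, ?_, by omega⟩
  rw [pow_add] at h ⊢
  norm_num at h ⊢
  rcases h with rfl | rfl
  · rw [if_neg (by omega)]; omega
  · rw [if_pos (by omega)]; omega

theorem sc_psl {F : Type*} [Field F] [Fintype F] (h2 : (2 : F) ≠ 0)
    [IsSimpleGroup (Matrix.ProjectiveSpecialLinearGroup (Fin 2) F)]
    (hnc : ¬ IsCyclic (Matrix.ProjectiveSpecialLinearGroup (Fin 2) F))
    {n : ℕ} (hn : 2 ≤ n)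
    (hpow : (if Fintype.card F % 4 = 3 then Fintype.card F + 1 else Fintype.card F - 1) = 2 ^ n)
    (hq : (Fintype.card F).Prime ∨ Fintype.card F = 9) :
    SelfCentNoncyclic (Matrix.ProjectiveSpecialLinearGroup (Fin 2) F) := by
  haveI : Fact (Nat.Prime 2) := ⟨Nat.prime_two⟩
  set P := Matrix.ProjectiveSpecialLinearGroup (Fin 2) F
  intro H hH c hc
  by_cases hc1 : c = 1
  · subst hc1; exact one_mem _
  have hHc : H ≤ Subgroup.centralizer ({c} : Set P) := fun x hx =>
    Subgroup.mem_centralizer_singleton_iff.2 (Subgroup.mem_centralizer_iff.1 hc x hx)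
  by_cases hodd : Odd (Nat.card (Subgroup.centralizer ({c} : Set P)))
  · rcases cyclic_or_card_eq h2 hc1 hodd with hcy | hcard
    · haveI := hcy
      exact absurd (Subgroup.isCyclic_of_le hHc) hH
    · rcases hq with hq | hq
      · haveI : Fact (Fintype.card F).Prime := ⟨hq⟩
        haveI := isCyclic_of_prime_card hcard
        exact absurd (Subgroup.isCyclic_of_le hHc) hH
      · have hd : Nat.card H ∣ 3 ^ 2 := by
          rw [show 3 ^ 2 = Fintype.card F by rw [hq]; norm_num, ← hcard]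
          exact Subgroup.card_dvd_of_le hHc
        obtain ⟨i, hi, he⟩ := (Nat.dvd_prime_pow Nat.prime_three).1 hd
        have hi2 : i = 2 := by
          by_contra hne
          haveI : Fact (Nat.Prime 3) := ⟨Nat.prime_three⟩
          rcases (show i = 0 ∨ i = 1 by omega) with rfl | rfl
          · rw [pow_zero, Subgroup.card_eq_one] at he
            exact hH (he ▸ inferInstance)
          · exact hH (isCyclic_of_prime_card (he.trans (pow_one 3)))
        have heq := Subgroup.eq_of_le_of_card_ge hHc (by rw [hcard, he, hi2, hq]; norm_num)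
        rw [heq]
        exact Subgroup.mem_centralizer_singleton_iff.2 rfl
  · rw [Nat.not_odd_iff_even, even_iff_two_dvd] at hodd
    obtain ⟨⟨z, hz⟩, hz2⟩ := exists_prime_orderOf_dvd_card' 2 hodd
    rw [Subgroup.orderOf_mk] at hz2
    have hzc : c ∈ Subgroup.centralizer ({z} : Set P) :=
      Subgroup.mem_centralizer_singleton_iff.2 (Subgroup.mem_centralizer_singleton_iff.1 hz).symm
    have hT : ∀ x : P, orderOf x = 2 → Nat.card (Subgroup.centralizer ({x} : Set P)) = 2 ^ n :=
      fun x hx => (card_centralizer_invol h2 hx).trans hpow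
    obtain ⟨m, -, hm⟩ := (Nat.dvd_prime_pow Nat.prime_two).1
      ((hT z hz2) ▸ (Subgroup.orderOf_mk c hzc ▸ orderOf_dvd_natCard (⟨c, hzc⟩ : Subgroup.centralizer ({z} : Set P))))
    obtain ⟨l, rfl⟩ : ∃ l, m = l + 1 := ⟨m - 1, by
      rcases Nat.eq_zero_or_pos m with rfl | h
      · rw [pow_zero, orderOf_eq_one_iff] at hm; exact absurd hm hc1
      · omega⟩
    set w := c ^ 2 ^ l with hw
    have hw2 : orderOf w = 2 := by
      rw [hw, orderOf_pow_of_dvd (by positivity) ⟨2, by rw [hm, pow_succ]⟩, hm, pow_succ']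
      exact Nat.mul_div_cancel _ (by positivity)
    set T := Subgroup.centralizer ({w} : Set P)
    have hTc : Nat.card T = 2 ^ n := hT w hw2
    have hHT : H ≤ T := fun x hx => Subgroup.mem_centralizer_singleton_iff.2 (by
      exact Commute.pow_right (Subgroup.mem_centralizer_singleton_iff.1 (hHc hx)) _)
    have hcT : c ∈ T := Subgroup.mem_centralizer_singleton_iff.2 (Commute.pow_right rfl _)
    rcases eq_or_lt_of_le hn with rfl | hn3
    · -- `T` has order four
      have hd : Nat.card H ∣ 2 ^ 2 := hTc ▸ Subgroup.card_dvd_of_le hHT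
      obtain ⟨i, hi, he⟩ := (Nat.dvd_prime_pow Nat.prime_two).1 hd
      have hi2 : i = 2 := by
        by_contra hne
        rcases (show i = 0 ∨ i = 1 by omega) with rfl | rfl
        · rw [pow_zero, Subgroup.card_eq_one] at he
          exact hH (he ▸ inferInstance)
        · exact hH (isCyclic_of_prime_card (he.trans (pow_one 2)))
      rwa [Subgroup.eq_of_le_of_card_ge hHT (by rw [hTc, he, hi2])]
    · -- a four-group in `T`
      obtain ⟨E, hE⟩ := Cfsg.Agent.S0204.result hnc
      obtain ⟨a, haE, ha1⟩ := (Subgroup.bot_or_exists_ne_one E).resolve_left (fun e => by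
        have := hE.card_four
        rw [e, Subgroup.card_bot] at this
        omega)
      have ha2 : orderOf a = 2 := CfsgLib.Classical.SL2Q.klein_orderOf hE haE ha1
      obtain ⟨g₁, hg₁⟩ := CfsgLib.Classical.SL2Q.involution_conj h2 ha2
      obtain ⟨g₂, hg₂⟩ := CfsgLib.Classical.SL2Q.involution_conj h2 hw2
      have hga : g₂ * g₁⁻¹ * a * (g₂ * g₁⁻¹)⁻¹ = w := by rw [← hg₁, ← hg₂]; group
      set V := E.map (MulAut.conj (g₂ * g₁⁻¹)).toMonoidHom with hV
      have hVk : IsKleinFour V := CfsgLib.Classical.SL2Q.isKleinFour_map hE _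
      have hwV : w ∈ V := Subgroup.mem_map.2 ⟨a, haE, by rw [← hga]; rfl⟩
      haveI := hVk
      have hVcomm : ∀ x ∈ V, ∀ y ∈ V, x * y = y * x := fun x hx y hy =>
        congrArg Subtype.val ((IsKleinFour.isMulCommutative (G := V)).is_comm.comm (⟨x, hx⟩ : V) ⟨y, hy⟩)
      have hVT : V ≤ T := fun x hx => Subgroup.mem_centralizer_singleton_iff.2 (hVcomm x hx w hwV)
      have hcl : Group.nilpotencyClass T = n - 1 := by
        refine CfsgLib.Transfer.nilpotencyClass_of_self_centralizing hTc (V.subgroupOf T) ?_ ?_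
        · rw [Nat.card_congr (Subgroup.subgroupOfEquivOfLe hVT).toEquiv, hVk.card_four]; rfl
        · refine le_antisymm (fun x hx => ?_) fun x hx => Subgroup.mem_centralizer_iff.2 fun y hy =>
            Subtype.ext (hVcomm y hy x hx)
          exact CfsgLib.Classical.SL2Q.klein_self_centralizing h2 hVk x fun y hy =>
            congrArg Subtype.val (Subgroup.mem_centralizer_iff.1 hx ⟨y, hVT hy⟩ hy)
      have h1 := Cfsg.Agent.S3919.sc_of_maximalClass hn3 hTc hcl (H.subgroupOf T) (fun h => hH (by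
        haveI := h
        exact isCyclic_of_surjective _ (Subgroup.subgroupOfEquivOfLe hHT).surjective))
      exact h1 (show (⟨c, hcT⟩ : T) ∈ Subgroup.centralizer (H.subgroupOf T : Set T) from
        Subgroup.mem_centralizer_iff.2 fun y hy => Subtype.ext (Subgroup.mem_centralizer_iff.1 hc y hy))

theorem sc_of_equiv {G K : Type*} [Group G] [Group K] (e : G ≃* K) (h : SelfCentNoncyclic K) :
    SelfCentNoncyclic G := by
  intro H hH x hx
  have h1 := h (H.map e.toMonoidHom) (fun hc => hH (by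
    haveI := hc
    exact isCyclic_of_surjective _ (H.equivMapOfInjective e.toMonoidHom e.injective).symm.surjective))
    (show e x ∈ Subgroup.centralizer ((H.map e.toMonoidHom : Subgroup K) : Set K) from
      Subgroup.mem_centralizer_iff.2 fun y hy => by
        obtain ⟨y, hy', rfl⟩ := Subgroup.mem_map.1 hy
        show e y * e x = e x * e y
        rw [← map_mul, ← map_mul, Subgroup.mem_centralizer_iff.1 hx y hy'])
  obtain ⟨y, hy, he⟩ := Subgroup.mem_map.1 h1
  exact e.injective he ▸ hy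

theorem backward {G : Type*} [Group G] [Finite G] [IsSimpleGroup G] (hna : ¬ IsMulCommutative G)
    {F : Type} [Field F] [Fintype F] (hodd : Fintype.card F % 2 = 1)
    (hF : Fintype.card F = 9 ∨ ((Fintype.card F).Prime ∧
      ∃ k : ℕ, Fintype.card F = 2 ^ k + 1 ∨ Fintype.card F = 2 ^ k - 1))
    (e : G ≃* Matrix.ProjectiveSpecialLinearGroup (Fin 2) F) : SelfCentNoncyclic G := by
  have h2 : (2 : F) ≠ 0 := fun h => by
    haveI : CharP F 2 := CharTwo.of_one_ne_zero_of_two_eq_zero one_ne_zero h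
    obtain ⟨n, -, hn⟩ := FiniteField.card F 2
    have : 2 ∣ Fintype.card F := hn ▸ dvd_pow_self 2 n.pos.ne'
    omega
  have h5 : 5 ≤ Fintype.card F := by
    by_contra hlt
    have h3 : Fintype.card F = 3 := by have : 1 < Fintype.card F := Fintype.one_lt_card; omega
    have hcard := two_card_psl h2
    rw [h3, ← Nat.card_congr e.toEquiv] at hcard
    have hs := CfsgLib.InvolChar.A8Normalizer.isSolvable_of_card_lt_sixty (G := G) (by omega)
    exact hna ⟨⟨IsSimpleGroup.comm_iff_isSolvable.2 hs⟩⟩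
  haveI : Nontrivial (Matrix.ProjectiveSpecialLinearGroup (Fin 2) F) := e.symm.toEquiv.nontrivial
  haveI : IsSimpleGroup (Matrix.ProjectiveSpecialLinearGroup (Fin 2) F) := e.symm.isSimpleGroup
  have hnc : ¬ IsCyclic (Matrix.ProjectiveSpecialLinearGroup (Fin 2) F) := fun hc => by
    haveI := hc
    haveI := isCyclic_of_surjective e.symm e.symm.surjective
    exact hna ⟨⟨(IsCyclic.commGroup (α := G)).mul_comm⟩⟩
  obtain ⟨n, hn, hn2⟩ : ∃ n, (if Fintype.card F % 4 = 3 then Fintype.card F + 1 else Fintype.card F - 1) =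
      2 ^ n ∧ 2 ≤ n := by
    rcases hF with h | ⟨-, k, hk⟩
    · exact ⟨3, by rw [h]; norm_num, by norm_num⟩
    · exact odd_two_pow h5 hk
  refine sc_of_equiv e (sc_psl h2 hnc hn2 hn ?_)
  rcases hF with h | ⟨h, -⟩
  · exact Or.inr h
  · exact Or.inl h

/-- Say that a group has self-centralizing non-cyclic subgroups when every non-cyclic subgroup H satisfies C_G(H) ≤ H. A non-abelian finite simple group has self-centralizing non-cyclic subgroups if and only if it is isomorphic to PSL₂(q) with q = 4, q = 9, or q a prime of the form 2^k + 1 or 2^k − 1. -/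
theorem result {G : Type*} [Group G] [Finite G] [IsSimpleGroup G] (hna : ¬ IsMulCommutative G) :
    (∀ H : Subgroup G, ¬ IsCyclic ↥H → Subgroup.centralizer (H : Set G) ≤ H) ↔ ∃ (F : Type) (_ : Field F) (_ : Fintype F),
      (Fintype.card F = 4 ∨ Fintype.card F = 9 ∨ ((Fintype.card F).Prime ∧ ∃ k : ℕ, Fintype.card F = 2 ^ k + 1 ∨ Fintype.card F = 2 ^ k - 1)) ∧
      Nonempty (G ≃* Matrix.ProjectiveSpecialLinearGroup (Fin 2) F) := by
  constructor
  · intro hSC
    have hcyc : ¬ IsCyclic G := fun hc => by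
      haveI := hc
      exact hna ⟨⟨(IsCyclic.commGroup (α := G)).mul_comm⟩⟩
    obtain ⟨E, hE⟩ := Cfsg.Agent.S0204.result hcyc
    obtain ⟨S, c, t, v, X⟩ := exists_ctx hSC E hE
    obtain ⟨F, iF, iFF, h2, ⟨e⟩⟩ := field_of_dihedral hna X hSC
    refine ⟨F, iF, iFF, ?_, ⟨e⟩⟩
    have hx : orderOf (e t) = 2 := (e.orderOf_eq t).trans X.ot
    have hcard : Nat.card (Subgroup.centralizer ({e t} : Set (Matrix.ProjectiveSpecialLinearGroup (Fin 2) F))) =
        Nat.card (Subgroup.centralizer ({t} : Set G)) := by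
      refine (Nat.card_congr (e.toEquiv.subtypeEquiv fun y => ?_)).symm
      simp only [Subgroup.mem_centralizer_singleton_iff, MulEquiv.toEquiv_eq_coe, EquivLike.coe_coe]
      rw [← map_mul, ← map_mul, e.injective.eq_iff]
    haveI : Fact (Nat.Prime 2) := ⟨Nat.prime_two⟩
    obtain ⟨n, hn⟩ := IsPGroup.iff_card.1 S.2
    rw [card_centralizer_invol h2 hx, X.cent_eq hSC, hn] at hcard
    obtain ⟨p, hp⟩ := CharP.exists F
    haveI : Fact p.Prime := ⟨CharP.char_is_prime F p⟩
    obtain ⟨f, -, hf⟩ := FiniteField.card F p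
    have hp2 : p ≠ 2 := by
      rintro rfl
      exact h2 (CharP.cast_eq_zero F 2)
    have hq1 : 1 < Fintype.card F := Fintype.one_lt_card
    have hor : p ^ (f : ℕ) + 1 = 2 ^ n ∨ p ^ (f : ℕ) = 2 ^ n + 1 := by
      rw [← hf]
      split_ifs at hcard with h4
      · exact Or.inl hcard
      · exact Or.inr (by omega)
    rcases prime_or_nine Fact.out hp2 f.pos hor with h | h
    · exact Or.inr (Or.inl (hf.trans h))
    · refine Or.inr (Or.inr ⟨hf ▸ h, n, ?_⟩)
      rw [hf]
      rcases hor with h' | h'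
      · exact Or.inr (by omega)
      · exact Or.inl h'
  · rintro ⟨F, iF, iFF, hF, ⟨e⟩⟩
    rcases hF with h4 | hF
    · obtain ⟨e1⟩ := Cfsg.Agent.S0252.result (F := F) h4
      haveI : Fact (Nat.Prime 5) := ⟨by norm_num⟩
      have h5 : Fintype.card (ZMod 5) = 5 := ZMod.card 5
      obtain ⟨e2⟩ := Cfsg.Agent.S0253.result (F := ZMod 5) h5
      exact backward hna (F := ZMod 5) (by rw [h5])
        (Or.inr ⟨by rw [h5]; norm_num, 2, Or.inl (by rw [h5]; norm_num)⟩)
        (e.trans (e1.trans e2.symm))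
    · refine backward hna ?_ hF e
      rcases hF with h | ⟨hp, -⟩
      · rw [h]
      · rcases hp.eq_two_or_odd with h | h
        · exfalso
          have hcard := CfsgLib.Classical.Dickson.card_psl_le (F := F) h
          rw [← Nat.card_congr e.toEquiv] at hcard
          have hs := CfsgLib.InvolChar.A8Normalizer.isSolvable_of_card_lt_sixty (G := G) (by omega)
          exact hna ⟨⟨IsSimpleGroup.comm_iff_isSolvable.2 hs⟩⟩
        · exact h

end Cfsg.Agent.S3921
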