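import Cfsg.Statements.S3933
import Mathlib
import Cfsg.Agent.Lib.SylowNumbers.Product
import Cfsg.Agent.Lib.Char.Burnside
import Cfsg.Agent.Lib.Solvable.Hall
import Cfsg.Agent.Lib.Solvable.Product

set_option autoImplicit false
set_option linter.style.haveILetI false
open Cfsg

namespace Cfsg.Agent.S3933

open Subgroup
open scoped Pointwise

universe u

/-- Every Sylow number is a prime power or one. -/
def SylowPP (G : Type u) [Group G] : Prop :=
  ∀ (r : ℕ) [Fact r.Prime], Nat.card (Sylow r G) = 1 ∨ IsPrimePow (Nat.card (Sylow r G))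

theorem one_or_primePow_of_dvd {a b : ℕ} (hb : b = 1 ∨ IsPrimePow b) (h : a ∣ b) :
    a = 1 ∨ IsPrimePow a := by
  rcases hb with rfl | hb
  · exact Or.inl (Nat.dvd_one.1 h)
  · rcases eq_or_ne a 1 with ha | ha
    · exact Or.inl ha
    · exact Or.inr (hb.dvd h ha)

theorem sylowPP_quotient {G : Type u} [Group G] [Finite G] (h : SylowPP G) (N : Subgroup G)
    [N.Normal] : SylowPP (G ⧸ N) := by
  intro r _
  obtain ⟨P⟩ : Nonempty (Sylow r G) := inferInstance
  refine one_or_primePow_of_dvd (h r) ?_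
  rw [CfsgLib.SylowNumbers.card_sylow_quotient N P, CfsgLib.SylowNumbers.card_eq_index P]
  refine index_dvd_of_le fun g hg => ?_
  rw [mem_normalizer_iff_map_conj_eq] at hg ⊢
  rw [Subgroup.map_sup, hg]
  congr 1
  refine le_antisymm (map_le_iff_le_comap.2 fun n hn => ?_) fun n hn => ?_
  · exact (inferInstance : N.Normal).conj_mem n hn g
  · exact ⟨g⁻¹ * n * g, by simpa using (inferInstance : N.Normal).conj_mem n hn g⁻¹,
      by simp [mul_assoc]⟩

theorem sylowPP_normal {G : Type u} [Group G] [Finite G] (h : SylowPP G) (N : Subgroup G)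
    [N.Normal] : SylowPP N := by
  intro r _
  obtain ⟨P⟩ : Nonempty (Sylow r N) := inferInstance
  obtain ⟨Q, hQ⟩ := (P.2.map N.subtype).exists_le_sylow
  refine one_or_primePow_of_dvd (h r) ?_
  have heq : (Q : Subgroup G) ⊓ N = (P : Subgroup N).map N.subtype := by
    refine le_antisymm ?_ (le_inf hQ (map_subtype_le _))
    have h1 : (Q : Subgroup G).subgroupOf N = P :=
      P.3 (Q.2.comap_of_injective N.subtype N.subtype_injective) fun x hx => hQ ⟨x, hx, rfl⟩
    rw [← h1, subgroupOf_map_subtype]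
  set M := normalizer (((Q : Subgroup G) ⊓ N : Subgroup G) : Set G) with hM
  have hNQ : normalizer ((Q : Subgroup G) : Set G) ≤ M := by
    intro g hg
    rw [hM, mem_normalizer_iff_map_conj_eq]
    rw [mem_normalizer_iff_map_conj_eq] at hg
    refine eq_of_le_of_card_ge ?_ (card_map_of_injective (MulAut.conj g).injective).ge
    rintro _ ⟨x, ⟨hxQ, hxN⟩, rfl⟩
    exact ⟨hg.le ⟨x, hxQ, rfl⟩, (inferInstance : N.Normal).conj_mem x hxN g⟩
  have hP : (normalizer ((P : Subgroup N) : Set N)) = M.subgroupOf N := by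
    rw [hM, heq]
    ext x
    rw [mem_subgroupOf, mem_normalizer_iff, mem_normalizer_iff]
    constructor
    · intro hx y
      constructor
      · rintro ⟨y, hy, rfl⟩
        exact ⟨x * y * x⁻¹, (hx y).1 hy, by simp⟩
      · rintro ⟨z, hz, hzy⟩
        refine ⟨x⁻¹ * z * x, (hx _).2 (by simpa [mul_assoc] using (show z ∈ (P : Subgroup N) from hz)), ?_⟩
        have hzy' : (z : G) = (x : G) * y * (x : G)⁻¹ := hzy
        simp [hzy', mul_assoc]
    · intro hx y
      have hiff : ∀ z : N, z ∈ (P : Subgroup N) ↔ (z : G) ∈ (P : Subgroup N).map N.subtype :=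
        fun z => ⟨fun hz => ⟨z, hz, rfl⟩, fun ⟨w, hw, hwz⟩ => N.subtype_injective hwz ▸ hw⟩
      rw [hiff, hiff, hx (y : G)]
      rfl
  rw [CfsgLib.SylowNumbers.card_eq_index P, hP, CfsgLib.SylowNumbers.card_eq_index Q]
  exact (CfsgLib.Solvable.relIndex_dvd_index_of_normal_left N M).trans (index_dvd_of_le hNQ)

/-- The simple case. -/
theorem comm_of_simple {G : Type u} [Group G] [Finite G] [IsSimpleGroup G] (h : SylowPP G) :
    ∀ a b : G, a * b = b * a := by
  classical
  by_contra hna
  have hnp : ¬ (Nat.card G).Prime := fun hp => hna (fun a b => by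
    haveI := Fact.mk hp
    haveI := isCyclic_of_prime_card (α := G) rfl
    letI := IsCyclic.commGroup (α := G)
    exact mul_comm a b)
  have hcenter : ∀ (R : Subgroup G), R ≠ ⊥ → normalizer (R : Set G) ≠ ⊤ ∨ R = ⊤ := by
    intro R hR
    by_cases hn : normalizer (R : Set G) = ⊤
    · exact Or.inr (((normalizer_eq_top_iff.1 hn).eq_bot_or_eq_top).resolve_left hR)
    · exact Or.inl hn
  have hnotp : ∀ r : ℕ, r.Prime → ¬ IsPGroup r G := by
    intro r hr hp
    haveI := Fact.mk hr
    haveI := hp.isNilpotent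
    rcases Subgroup.Normal.eq_bot_or_eq_top (inferInstance : (center G).Normal) with hc | hc
    · haveI := hp.center_nontrivial
      exact (Subgroup.nontrivial_iff_ne_bot _).1 inferInstance hc
    · exact hna fun a b => (mem_center_iff.1 (hc ▸ mem_top b) a)
  -- one prime for each Sylow number
  have hq : ∀ r : ℕ, r.Prime → r ∣ Nat.card G → ∀ R : Sylow r G, ∃ q b : ℕ, q.Prime ∧ q ≠ r ∧
      (normalizer ((R : Subgroup G) : Set G)).index = q ^ b ∧ 0 < b := by
    intro r hr hdvd R
    haveI := Fact.mk hr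
    have hne : (R : Subgroup G) ≠ ⊥ := R.ne_bot_of_dvd_card hdvd
    have hne1 : (normalizer ((R : Subgroup G) : Set G)).index ≠ 1 := fun h1 => by
      rcases hcenter _ hne with h' | h'
      · exact h' (index_eq_one.1 h1)
      · exact hnotp r hr (fun g => by
          obtain ⟨k, hk⟩ := R.2 ⟨g, h' ▸ mem_top g⟩
          exact ⟨k, congrArg Subtype.val hk⟩)
    have h1 := (h r).resolve_left (by rwa [CfsgLib.SylowNumbers.card_eq_index R])
    rw [CfsgLib.SylowNumbers.card_eq_index R, isPrimePow_nat_iff] at h1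
    obtain ⟨q, b, hq, hb, hqb⟩ := h1
    refine ⟨q, b, hq, fun hqr => ?_, hqb.symm, hb⟩
    have h2 : ¬ r ∣ (normalizer ((R : Subgroup G) : Set G)).index :=
      fun hd => R.not_dvd_index (hd.trans (index_dvd_of_le le_normalizer))
    exact h2 (by rw [← hqb, hqr]; exact dvd_pow_self r hb.ne')
  -- Sylow subgroups inside subgroups of prime power index
  have hsyl : ∀ (M : Subgroup G) (u : ℕ) [Fact u.Prime], ¬ u ∣ M.index →
      ∃ U : Sylow u G, (U : Subgroup G) ≤ M := by
    intro M u _ hu
    obtain ⟨U⟩ : Nonempty (Sylow u M) := inferInstance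
    obtain ⟨V, hV⟩ := (U.2.map M.subtype).exists_le_sylow
    refine ⟨V, ?_⟩
    have hle : (U : Subgroup M).map M.subtype = (V : Subgroup G) := by
      refine eq_of_le_of_card_ge hV ?_
      rw [card_map_of_injective M.subtype_injective, V.card_eq_multiplicity, U.card_eq_multiplicity,
        ← M.card_mul_index, Nat.factorization_mul Nat.card_pos.ne' index_ne_zero_of_finite,
        Finsupp.add_apply, Nat.factorization_eq_zero_of_not_dvd hu, add_zero]
    exact hle ▸ map_subtype_le _
  -- conjugating into a subgroup of coprime index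
  have hin : ∀ (r : ℕ) [Fact r.Prime] (R : Sylow r G) (K : Subgroup G), ¬ r ∣ K.index →
      K.index.Coprime (normalizer ((R : Subgroup G) : Set G)).index →
      (R : Subgroup G) ≤ K ∧ ∀ x ∈ (R : Subgroup G), ∀ c : G, c * x * c⁻¹ ∈ K := by
    intro r _ R K hndvd hc
    have hmul : ∀ x : G, ∃ y ∈ K, ∃ m ∈ normalizer ((R : Subgroup G) : Set G), x = y * m := by
      intro x
      exact CfsgLib.Solvable.mul_of_coprime_index hc x
    obtain ⟨R', hR'⟩ := hsyl K r hndvd
    obtain ⟨g, hg⟩ := MulAction.exists_smul_eq G R R'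
    obtain ⟨y, hy, m, hm, rfl⟩ := hmul g
    have hRK : (R : Subgroup G) ≤ K := by
      intro x hx
      have h1 : y * x * y⁻¹ ∈ K := by
        refine hR' ?_
        rw [← hg, Sylow.coe_subgroup_smul]
        refine ⟨m⁻¹ * x * m, ?_, by simp [mul_assoc]⟩
        have := ((mem_normalizer_iff.1 (Subgroup.inv_mem _ hm)) x).1 hx
        show m⁻¹ * x * m ∈ (R : Subgroup G)
        simpa using this
      simpa [mul_assoc] using mul_mem (mul_mem (Subgroup.inv_mem _ hy) h1) hy
    refine ⟨hRK, fun x hx c => ?_⟩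
    obtain ⟨y', hy', m', hm', rfl⟩ := hmul c
    have h1 : y' * (m' * x * m'⁻¹) * y'⁻¹ ∈ K :=
      mul_mem (mul_mem hy' (hRK ((mem_normalizer_iff.1 hm' x).1 hx))) (Subgroup.inv_mem _ hy')
    convert h1 using 1
    group
  -- the pairing
  have hpair : ∀ (r : ℕ) [Fact r.Prime] (R : Sylow r G), r ∣ Nat.card G →
      ∀ (q b : ℕ) [Fact q.Prime], q ≠ r → (normalizer ((R : Subgroup G) : Set G)).index = q ^ b →
      0 < b → ∀ (Q : Sylow q G) (r' b' : ℕ), r'.Prime →
      (normalizer ((Q : Subgroup G) : Set G)).index = r' ^ b' → r' = r := by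
    intro r _ R hrdvd q b _ hqr hidx hb Q r' b' hr' hidx'
    by_contra hne
    have hqd : q ∣ Nat.card G :=
      (hidx ▸ dvd_pow_self q hb.ne' : q ∣ (normalizer ((R : Subgroup G) : Set G)).index).trans
        (index_dvd_card _)
    have hqn : ¬ q ∣ (normalizer ((Q : Subgroup G) : Set G)).index :=
      fun hd => Q.not_dvd_index (hd.trans (index_dvd_of_le le_normalizer))
    have hndvd : ¬ r ∣ (normalizer ((Q : Subgroup G) : Set G)).index := by
      rw [hidx']
      exact fun hd => hne ((Nat.prime_dvd_prime_iff_eq (Fact.out : r.Prime) hr').1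
        ((Fact.out : r.Prime).dvd_of_dvd_pow hd)).symm
    have hc : (normalizer ((Q : Subgroup G) : Set G)).index.Coprime
        (normalizer ((R : Subgroup G) : Set G)).index := by
      rw [hidx]
      exact (Nat.Coprime.pow_left _ ((Fact.out : q.Prime).coprime_iff_not_dvd.2 hqn)).symm
    obtain ⟨-, hall⟩ := hin r R _ hndvd hc
    have htop : normalClosure ((R : Subgroup G) : Set G) = ⊤ :=
      (normalClosure_normal.eq_bot_or_eq_top).resolve_left fun h0 =>
        R.ne_bot_of_dvd_card hrdvd (eq_bot_iff.2 (le_normalClosure.trans h0.le))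
    have hle : normalClosure ((R : Subgroup G) : Set G) ≤ normalizer ((Q : Subgroup G) : Set G) := by
      rw [normalClosure, closure_le]
      intro x hx
      obtain ⟨z, hz, hzx⟩ := Group.mem_conjugatesOfSet_iff.1 hx
      obtain ⟨c, rfl⟩ := isConj_iff.1 hzx
      exact hall z hz c
    rw [htop, top_le_iff] at hle
    rcases hcenter _ (Q.ne_bot_of_dvd_card hqd) with h' | h'
    · exact h' hle
    · exact hnotp q Fact.out (fun x => by
        obtain ⟨k, hk⟩ := Q.2 ⟨x, h' ▸ mem_top x⟩
        exact ⟨k, congrArg Subtype.val hk⟩)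
  obtain ⟨r, hr, hrdvd⟩ := Nat.exists_prime_and_dvd (n := Nat.card G) (fun h1 => hna fun a b => by
    haveI : Subsingleton G := Finite.card_le_one_iff_subsingleton.1 h1.le
    exact Subsingleton.elim _ _)
  haveI := Fact.mk hr
  obtain ⟨R⟩ : Nonempty (Sylow r G) := inferInstance
  obtain ⟨q, b, hqp, hqr, hidx, hb⟩ := hq r hr hrdvd R
  haveI := Fact.mk hqp
  have hqdvd : q ∣ Nat.card G :=
    (hidx ▸ dvd_pow_self q hb.ne' : q ∣ (normalizer ((R : Subgroup G) : Set G)).index).trans
      (index_dvd_card _)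
  obtain ⟨Q⟩ : Nonempty (Sylow q G) := inferInstance
  obtain ⟨r', b', hr', -, hidx', hb'⟩ := hq q hqp hqdvd Q
  rw [hpair r R hrdvd q b hqr hidx hb Q r' b' hr' hidx'] at hidx'
  -- an element in the centre of `R` has a class of `q`-power size
  obtain ⟨z, hz1, hzR, hzc⟩ : ∃ z : G, z ≠ 1 ∧ z ∈ (R : Subgroup G) ∧
      ∀ x ∈ (R : Subgroup G), x * z = z * x := by
    haveI : Nontrivial (R : Subgroup G) :=
      (Subgroup.nontrivial_iff_ne_bot _).2 (R.ne_bot_of_dvd_card hrdvd)
    haveI := R.2.center_nontrivial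
    obtain ⟨z, hz⟩ := exists_ne (1 : center (R : Subgroup G))
    exact ⟨((z : (R : Subgroup G)) : G), fun h1 => hz (Subtype.ext (Subtype.ext h1)),
      (z : (R : Subgroup G)).2, fun x hx => congrArg Subtype.val (mem_center_iff.1 z.2 ⟨x, hx⟩)⟩
  have hcl : ∀ u : ℕ, u.Prime → u ∣ (centralizer ({z} : Set G)).index → u = q := by
    intro u hu hudvd
    by_contra huq
    haveI := Fact.mk hu
    have hur : u ≠ r := by
      rintro rfl
      refine R.not_dvd_index (hudvd.trans (index_dvd_of_le fun x hx => ?_))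
      exact mem_centralizer_singleton_iff.2 (hzc x hx)
    have hudvdG : u ∣ Nat.card G := hudvd.trans (index_dvd_card _)
    obtain ⟨U, hU⟩ := hsyl (normalizer ((R : Subgroup G) : Set G)) u (by
      rw [hidx]
      exact fun hd => huq ((Nat.prime_dvd_prime_iff_eq hu hqp).1 (hu.dvd_of_dvd_pow hd)))
    obtain ⟨t, d, ht, htu, htidx, hd⟩ := hq u hu hudvdG U
    haveI := Fact.mk ht
    have htr : t ≠ r := by
      intro htr
      subst htr
      exact huq (hpair u U hudvdG t d htu htidx hd R q b hqp hidx).symm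
    have htq : t ≠ q := by
      intro htq
      subst htq
      exact hur (hpair u U hudvdG t d htu htidx hd Q r b' hr hidx').symm
    have hRU : (R : Subgroup G) ≤ normalizer ((U : Subgroup G) : Set G) := by
      refine (hin r R _ ?_ ?_).1
      · rw [htidx]
        exact fun hd' => htr ((Nat.prime_dvd_prime_iff_eq hr ht).1 (hr.dvd_of_dvd_pow hd')).symm
      · rw [htidx, hidx]
        exact Nat.Coprime.pow _ _ ((Nat.coprime_primes ht hqp).2 htq)
    have hdisj : (R : Subgroup G) ⊓ (U : Subgroup G) = ⊥ :=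
      (IsPGroup.disjoint_of_ne r u hur.symm _ _ R.2 U.2).eq_bot
    refine U.not_dvd_index (hudvd.trans (index_dvd_of_le fun x hx => ?_))
    have h1 : z * x * z⁻¹ * x⁻¹ ∈ (U : Subgroup G) :=
      mul_mem ((mem_normalizer_iff.1 (hRU hzR) x).1 hx) (Subgroup.inv_mem _ hx)
    have h2 : z * x * z⁻¹ * x⁻¹ ∈ (R : Subgroup G) := by
      have h3 := (mem_normalizer_iff.1 (hU hx) z⁻¹).1 (Subgroup.inv_mem _ hzR)
      simpa [mul_assoc] using mul_mem hzR h3
    have h4 : z * x * z⁻¹ * x⁻¹ = 1 := by rw [← mem_bot, ← hdisj]; exact ⟨h2, h1⟩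
    refine mem_centralizer_singleton_iff.2 ?_
    calc x * z = (z * x * z⁻¹ * x⁻¹)⁻¹ * (z * x) := by group
      _ = z * x := by rw [h4, inv_one, one_mul]
  haveI := Fintype.ofFinite G
  refine hnp (CfsgLib.Char.prime_card_of_class_primePow q
    ((centralizer ({z} : Set G)).index.primeFactorsList.length) hqp z hz1 ?_)
  exact Nat.eq_prime_pow_of_unique_prime_dvd index_ne_zero_of_finite fun {u} hu hd => hcl u hu hd

theorem solvable_of_sylowPP : ∀ (n : ℕ) (G : Type u) [Group G] [Finite G], Nat.card G = n →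
    SylowPP G → Group.IsSolvable G := by
  intro n
  induction n using Nat.strong_induction_on with
  | _ n ih =>
    intro G _ _ hn h
    subst hn
    rcases subsingleton_or_nontrivial G with hs | hnt
    · exact Group.isSolvable_of_comm fun a b => Subsingleton.elim _ _
    by_cases hsimple : IsSimpleGroup G
    · exact Group.isSolvable_of_comm (comm_of_simple h)
    obtain ⟨N, hN, hbot, htop⟩ : ∃ N : Subgroup G, N.Normal ∧ N ≠ ⊥ ∧ N ≠ ⊤ := by
      by_contra hno
      push Not at hno
      exact hsimple ⟨fun N hN => or_iff_not_imp_left.2 (hno N hN)⟩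
    have h1 : Group.IsSolvable N :=
      ih _ (lt_of_le_of_ne (Subgroup.card_le_card_group N) fun h' => htop ((card_eq_iff_eq_top N).1 h')) N rfl
        (sylowPP_normal h N)
    have h2 : Group.IsSolvable (G ⧸ N) :=
      ih _ (CfsgLib.Solvable.card_quotient_lt N hbot) (G ⧸ N) rfl (sylowPP_quotient h N)
    exact Group.isSolvable_of_ker_le_range N.subtype (QuotientGroup.mk' N)
      (by rw [QuotientGroup.ker_mk', range_subtype])

/-- If for every prime r the number of Sylow r-subgroups of the finite group G is a prime power or 1, then G is solvable. -/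
theorem result {G : Type*} [Group G] [Finite G] (h : ∀ (r : ℕ) [Fact r.Prime], Nat.card (Sylow r G) = 1 ∨ IsPrimePow (Nat.card (Sylow r G))) :
    Group.IsSolvable G := by
  exact solvable_of_sylowPP _ G rfl h

end Cfsg.Agent.S3933
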