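import Cfsg.Statements.S3937
import Cfsg.Agent.Lib.Solvable.Subnormal
import Cfsg.Agent.Lib.Cores.Fitting

set_option autoImplicit false
open Cfsg

namespace Cfsg.Agent.S3937

open scoped Pointwise commutatorElement

theorem foldl_replicate_comm {G : Type*} [Group G] (g : G) : ∀ (n : ℕ) (x : G),
    (List.replicate n g).foldl (fun a b => a * b * a⁻¹ * b⁻¹) x = (fun a => ⁅a, g⁆)^[n] x := by
  intro n
  induction n with
  | zero => intro x; rfl
  | succ n ih =>
    intro x
    rw [List.replicate_succ, List.foldl_cons, ih, Function.iterate_succ_apply]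
    rfl

universe u in
theorem isSubnormal_of_engel : ∀ (n : ℕ) (G : Type u) [Group G] [Finite G], Nat.card G = n →
    ∀ g : G, (∀ x : G, ∃ k, (fun a => ⁅a, g⁆)^[k] x = 1) → (Subgroup.zpowers g).IsSubnormal := by
  intro n
  induction n using Nat.strong_induction_on with
  | _ n ih =>
  intro G _ _ hn g hg
  set A := Subgroup.zpowers g with hA
  have hgA : g ∈ A := Subgroup.mem_zpowers g
  have hsn : ∀ L : Subgroup G, L ≠ ⊤ → A ≤ L → (A.subgroupOf L).IsSubnormal := by
    intro L hL hAL
    have hlt : Nat.card L < n := hn ▸ lt_of_le_of_ne (Subgroup.card_le_card_group _)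
      (fun e => hL ((Subgroup.card_eq_iff_eq_top L).1 e))
    have h1 := ih _ hlt L rfl ⟨g, hAL hgA⟩ (fun x => by
      obtain ⟨k, hk⟩ := hg x
      refine ⟨k, Subtype.ext ?_⟩
      have e : ∀ (k : ℕ) (y : L), (((fun a => ⁅a, (⟨g, hAL hgA⟩ : L)⁆)^[k] y : L) : G) =
          (fun a => ⁅a, g⁆)^[k] (y : G) := by
        intro k
        induction k with
        | zero => intro y; rfl
        | succ k ihk => intro y; rw [Function.iterate_succ_apply, Function.iterate_succ_apply, ihk]; rfl
      rw [e, hk]; rfl)
    convert h1 using 1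
    ext y
    rw [Subgroup.mem_subgroupOf, hA, Subgroup.mem_zpowers_iff, Subgroup.mem_zpowers_iff]
    exact exists_congr fun z => by rw [Subtype.ext_iff, SubgroupClass.coe_zpow]
  by_contra hns
  obtain ⟨M, hM, hAM⟩ := (eq_top_or_exists_le_coatom A).resolve_left
    (fun e => hns (by rw [e]; exact Subgroup.IsSubnormal.top))
  have huniq := fun K hK hAK => CfsgLib.Solvable.zipper A.index A rfl hsn hns K M hK hM hAK hAM
  have hMn : ¬ M.Normal := fun h => hns (Subgroup.IsSubnormal.trans hAM (hsn M hM.1 hAM) h.isSubnormal)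
  have hstep : ∀ x : G, x ∉ M → ⁅x, g⁆ ∉ M := by
    intro x hx hmem
    have h1 : x * g * x⁻¹ ∈ M := by
      have := mul_mem hmem (hAM hgA)
      rwa [commutatorElement_def, inv_mul_cancel_right] at this
    set M' := MulAut.conj x⁻¹ • M with hM'
    have hgM' : g ∈ M' := CfsgLib.Solvable.mem_conj_smul_iff.2 (by simpa using h1)
    have hne : M' ≠ ⊤ := fun e => hM.1 ((Subgroup.card_eq_iff_eq_top M).1 (by
      rw [← CfsgLib.Solvable.card_conj_smul x⁻¹ M, ← hM', e, Subgroup.card_top]))
    obtain ⟨K, hK, hK'⟩ := (eq_top_or_exists_le_coatom M').resolve_left hne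
    have hKM : K = M := huniq K hK ((Subgroup.zpowers_le).2 (hK' hgM'))
    have heq : MulAut.conj x⁻¹ • M = M := CfsgLib.Solvable.conj_smul_eq_of_le (hK'.trans hKM.le) le_rfl
    have hxN : x⁻¹ ∈ Subgroup.normalizer (M : Set G) := CfsgLib.Solvable.mem_normalizer_iff_conj_smul.2 heq
    rcases eq_or_lt_of_le (Subgroup.le_normalizer : M ≤ _) with e | e
    · exact hx (by rw [← e] at hxN; exact inv_inv x ▸ M.inv_mem hxN)
    · exact hMn (Subgroup.normalizer_eq_top_iff.1 (hM.2 _ e))
  obtain ⟨x, hx⟩ : ∃ x, x ∉ M := by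
    by_contra h
    push Not at h
    exact hM.1 ((Subgroup.eq_top_iff' M).2 h)
  obtain ⟨k, hk⟩ := hg x
  have : ∀ j, (fun a => ⁅a, g⁆)^[j] x ∉ M := by
    intro j
    induction j with
    | zero => exact hx
    | succ j ihj => rw [Function.iterate_succ_apply']; exact hstep _ ihj
  exact this k (hk ▸ M.one_mem)

/-- Baer's characterization of the Fitting subgroup: in a finite group G, an element g lies in the Fitting subgroup if and only if g is a left Engel element, that is, for every x there is n with [x, g, g, …, g] = 1 (n entries g, [a, b] = aba⁻¹b⁻¹). -/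
theorem result {G : Type*} [Group G] [Finite G] (g : G) :
    g ∈ Cfsg.fittingSubgroup G ↔ ∀ x : G, ∃ n : ℕ, (List.replicate n g).foldl (fun a b => a * b * a⁻¹ * b⁻¹) x = 1 := by
  simp only [foldl_replicate_comm]
  constructor
  · intro hg x
    have hF : Group.IsNilpotent (Cfsg.fittingSubgroup G) := CfsgLib.Cores.isNilpotent_fittingSubgroup
    haveI := CfsgLib.Cores.fittingSubgroup_normal (G := G)
    set F := Cfsg.fittingSubgroup G
    have key : ∀ j, (fun a => ⁅a, g⁆)^[j + 1] x ∈ F.lowerCentralSeries j := by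
      intro j
      induction j with
      | zero =>
        rw [Subgroup.lowerCentralSeries_zero]
        show ⁅x, g⁆ ∈ F
        rw [commutatorElement_def]
        exact F.mul_mem (Subgroup.Normal.conj_mem ‹_› g hg x) (F.inv_mem hg)
      | succ j ihj =>
        rw [Function.iterate_succ_apply', Subgroup.lowerCentralSeries_succ]
        exact Subgroup.commutator_mem_commutator ihj hg
    refine ⟨Group.nilpotencyClass F + 1, ?_⟩
    have h := key (Group.nilpotencyClass F)
    rw [Subgroup.lowerCentralSeries_eq_bot_of_nilpotencyClass_le le_rfl, Subgroup.mem_bot] at h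
    exact h
  · intro h
    haveI : Group.IsNilpotent (Subgroup.zpowers g) := by
      letI : CommGroup (Subgroup.zpowers g) := IsCyclic.commGroup
      infer_instance
    exact CfsgLib.Cores.le_fittingSubgroup_of_isSubnormal (isSubnormal_of_engel _ G rfl g h) ‹_›
      (Subgroup.mem_zpowers g)

end Cfsg.Agent.S3937
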