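import Cfsg.Statements.S3939
import Cfsg.Agent.Lib.PGroup.NilpotentCover

set_option autoImplicit false
open Cfsg

namespace Cfsg.Agent.S3939

open scoped commutatorElement
/-- In a finite nilpotent group elements of coprime prime-power and prime-to-it orders commute. -/
theorem nilpotent_commute {H : Type*} [Group H] [Finite H] [Group.IsNilpotent H] {q : ℕ} [hq : Fact q.Prime]
    {h x : H} {k : ℕ} (hh : h ^ q ^ k = 1) (hx : Nat.Coprime (orderOf x) q) : h * x = x * h := by
  classical
  have hn : ∀ (r : ℕ) [Fact r.Prime] (R : Sylow r H), (R : Subgroup H).Normal :=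
    fun r _ R => ((Group.isNilpotent_of_finite_tfae (G := H)).out 0 3 rfl rfl).mp ‹_› r inferInstance R
  have hzp : ∀ (r : ℕ) [Fact r.Prime] (u : H) (j : ℕ), u ^ r ^ j = 1 → ∀ R : Sylow r H, u ∈ (R : Subgroup H) := by
    intro r _ u j hu R
    haveI := hn r R
    have hp : IsPGroup r (Subgroup.zpowers u) := by
      rintro ⟨y, hy⟩
      obtain ⟨i, rfl⟩ := Subgroup.mem_zpowers_iff.1 hy
      refine ⟨j, Subtype.ext ?_⟩
      show (u ^ i) ^ r ^ j = 1
      rw [← zpow_natCast, ← zpow_mul, mul_comm, zpow_mul, zpow_natCast, hu, one_zpow]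
    obtain ⟨R', hR'⟩ := hp.exists_le_sylow
    have := Sylow.unique_of_normal R (hn r R)
    have hRR : R' = R := Subsingleton.elim R' R
    exact hRR ▸ hR' (Subgroup.mem_zpowers u)
  obtain ⟨Q⟩ := Sylow.nonempty (p := q) (G := H)
  have hQ := hzp q h k hh Q
  have key : (Subgroup.centralizer ({h} : Set H)).subgroupOf (Subgroup.zpowers x) = ⊤ := by
    refine CfsgLib.PGroup.eq_top_of_forall_sylow_le fun r hr => ?_
    obtain ⟨R0⟩ := Sylow.nonempty (p := r) (G := Subgroup.zpowers x)
    refine ⟨R0, fun u hu => ?_⟩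
    obtain ⟨j, hj⟩ := R0.isPGroup' ⟨u, hu⟩
    have hj' : (u : H) ^ r ^ j = 1 :=
      congrArg (fun w : (R0 : Subgroup (Subgroup.zpowers x)) => ((w : Subgroup.zpowers x) : H)) hj
    show (u : H) ∈ Subgroup.centralizer ({h} : Set H)
    by_cases hrq : r = q
    · subst hrq
      have hu1 : (u : H) = 1 := by
        rw [← orderOf_eq_one_iff]
        have h1 : orderOf (u : H) ∣ r ^ j := orderOf_dvd_of_pow_eq_one hj'
        obtain ⟨i, hi⟩ := Subgroup.mem_zpowers_iff.1 u.2
        have h2 : orderOf (u : H) ∣ orderOf x := orderOf_dvd_of_pow_eq_one (by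
          rw [← hi, ← zpow_natCast, ← zpow_mul, mul_comm, zpow_mul, zpow_natCast, pow_orderOf_eq_one, one_zpow])
        exact Nat.eq_one_of_dvd_coprimes (hx.pow_right j) h2 h1
      rw [hu1]
      exact Subgroup.one_mem _
    · obtain ⟨R⟩ := Sylow.nonempty (p := r) (G := H)
      exact Subgroup.mem_centralizer_singleton_iff.2 (Subgroup.commute_of_normal_of_disjoint _ _ (hn r R) (hn q Q)
        (IsPGroup.disjoint_of_ne r q hrq _ _ R.isPGroup' Q.isPGroup') _ _ (hzp r _ j hj' R) hQ)
  exact (Subgroup.mem_centralizer_singleton_iff.1 (Subgroup.subgroupOf_eq_top.1 key (Subgroup.mem_zpowers x))).symm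

/-- In a finite group G the set of elements g such that the subgroup generated by g and x is nilpotent for every x ∈ G is exactly the hypercenter of G (the last term of the upper central series). -/
theorem result {G : Type*} [Group G] [Finite G] (g : G) :
    (∀ x : G, Group.IsNilpotent ↥(Subgroup.closure ({x, g} : Set G))) ↔ g ∈ ⨆ n : ℕ, Subgroup.upperCentralSeries G n := by
  classical
  have hmono : Monotone (fun n => Subgroup.upperCentralSeries G n) := Subgroup.upperCentralSeries_mono (G := G)
  constructor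
  · intro hg
    set Z := ⨆ n : ℕ, Subgroup.upperCentralSeries G n with hZ
    suffices hs : Z.subgroupOf (Subgroup.zpowers g) = ⊤ from Subgroup.subgroupOf_eq_top.1 hs (Subgroup.mem_zpowers g)
    refine CfsgLib.PGroup.eq_top_of_forall_sylow_le fun q hq => ?_
    obtain ⟨R0⟩ := Sylow.nonempty (p := q) (G := Subgroup.zpowers g)
    refine ⟨R0, fun u hu => ?_⟩
    obtain ⟨k, hk'⟩ := R0.isPGroup' ⟨u, hu⟩
    have hk : (u : G) ^ q ^ k = 1 :=
      congrArg (fun w : (R0 : Subgroup (Subgroup.zpowers g)) => ((w : Subgroup.zpowers g) : G)) hk'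
    -- `u` commutes with the elements of order prime to `q`
    have hC : ∀ x : G, Nat.Coprime (orderOf x) q → (u : G) * x = x * u := by
      intro x hx
      haveI := hg x
      have hle : Subgroup.zpowers g ≤ Subgroup.closure ({x, g} : Set G) :=
        Subgroup.zpowers_le.2 (Subgroup.subset_closure (Or.inr rfl))
      have h := nilpotent_commute (H := Subgroup.closure ({x, g} : Set G)) (q := q)
        (h := ⟨u, hle u.2⟩) (x := ⟨x, Subgroup.subset_closure (Or.inl rfl)⟩) (k := k)
        (Subtype.ext hk) (by rw [← Subgroup.orderOf_coe]; exact hx)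
      exact congrArg Subtype.val h
    have hup : IsPGroup q (Subgroup.zpowers (u : G)) := by
      rintro ⟨y, hy⟩
      obtain ⟨i, rfl⟩ := Subgroup.mem_zpowers_iff.1 hy
      refine ⟨k, Subtype.ext ?_⟩
      show ((u : G) ^ i) ^ q ^ k = 1
      rw [← zpow_natCast, ← zpow_mul, mul_comm, zpow_mul, zpow_natCast, hk, one_zpow]
    obtain ⟨S, hS⟩ := hup.exists_le_sylow
    have huS : (u : G) ∈ (S : Subgroup G) := hS (Subgroup.mem_zpowers _)
    -- the key induction
    have key : ∀ (n : ℕ) (t : (S : Subgroup G)), t ∈ Subgroup.upperCentralSeries (S : Subgroup G) n →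
        (∀ x : G, Nat.Coprime (orderOf x) q → (t : G) * x = x * t) →
        (t : G) ∈ Subgroup.upperCentralSeries G n := by
      intro n
      induction n with
      | zero =>
        intro t ht _
        rw [Subgroup.upperCentralSeries_zero, Subgroup.mem_bot] at ht
        rw [ht]
        exact Subgroup.one_mem _
      | succ n ih =>
        intro t ht htc
        rw [Subgroup.mem_upperCentralSeries_succ_iff] at ht ⊢
        set N := Subgroup.upperCentralSeries G n with hN
        let M : Subgroup G :=
          (Subgroup.centralizer ({(QuotientGroup.mk' N (t : G))} : Set (G ⧸ N))).comap (QuotientGroup.mk' N)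
        have hM : M = ⊤ := by
          refine CfsgLib.PGroup.eq_top_of_forall_sylow_le fun r hr => ?_
          by_cases hrq : r = q
          · subst hrq
            refine ⟨S, fun y hy => Subgroup.mem_centralizer_singleton_iff.2 ?_⟩
            rw [eq_comm, ← commutatorElement_eq_one_iff_mul_comm, ← map_commutatorElement, QuotientGroup.mk'_apply,
              QuotientGroup.eq_one_iff]
            refine ih ⟨_, Subgroup.mul_mem _ (Subgroup.mul_mem _ (Subgroup.mul_mem _ t.2 hy)
              (Subgroup.inv_mem _ t.2)) (Subgroup.inv_mem _ hy)⟩ (ht ⟨y, hy⟩) fun x hx => ?_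
            have h1 : y * (t : G)⁻¹ * y⁻¹ * x = x * (y * (t : G)⁻¹ * y⁻¹) := by
              have hx' : Nat.Coprime (orderOf (y⁻¹ * x * y)) r := by
                have : orderOf (y⁻¹ * x * y) = orderOf x := by
                  have := (MulAut.conj y⁻¹).orderOf_eq x
                  simpa using this
                rw [this]; exact hx
              have h2 := htc _ hx'
              calc y * (t : G)⁻¹ * y⁻¹ * x = y * ((t : G)⁻¹ * ((y⁻¹ * x * y) * t)) * (t : G)⁻¹ * y⁻¹ := by group
                _ = y * ((t : G)⁻¹ * ((t : G) * (y⁻¹ * x * y))) * (t : G)⁻¹ * y⁻¹ := by rw [← h2]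
                _ = _ := by group
            calc (t : G) * y * (t : G)⁻¹ * y⁻¹ * x = (t : G) * (y * (t : G)⁻¹ * y⁻¹ * x) := by group
              _ = (t : G) * (x * (y * (t : G)⁻¹ * y⁻¹)) := by rw [h1]
              _ = ((t : G) * x) * (y * (t : G)⁻¹ * y⁻¹) := by group
              _ = (x * t) * (y * (t : G)⁻¹ * y⁻¹) := by rw [htc x hx]
              _ = _ := by group
          · obtain ⟨R⟩ := Sylow.nonempty (p := r) (G := G)
            refine ⟨R, fun y hy => Subgroup.mem_centralizer_singleton_iff.2 ?_⟩
            obtain ⟨j, hj⟩ := R.isPGroup' ⟨y, hy⟩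
            rw [← map_mul, ← map_mul, htc y (Nat.Coprime.coprime_dvd_left
              (orderOf_dvd_of_pow_eq_one (congrArg Subtype.val hj))
              (((Nat.coprime_primes hr.out hq.out).2 hrq).pow_left j))]
        intro y
        rw [← QuotientGroup.eq_one_iff]
        show QuotientGroup.mk' N ⁅(t : G), y⁆ = 1
        rw [map_commutatorElement, commutatorElement_eq_one_iff_mul_comm]
        exact (Subgroup.mem_centralizer_singleton_iff.1 (hM.ge (Subgroup.mem_top y))).symm
    haveI : Group.IsNilpotent (S : Subgroup G) := S.isPGroup'.isNilpotent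
    obtain ⟨n, hn⟩ := Group.IsNilpotent.nilpotent (G := (S : Subgroup G))
    show (u : G) ∈ Z
    exact Subgroup.mem_iSup_of_mem n (key n ⟨u, huS⟩ (hn ▸ Subgroup.mem_top _) hC)
  · intro hg x
    obtain ⟨n, hn⟩ := (Subgroup.mem_iSup_of_directed hmono.directed_le).1 hg
    set H := Subgroup.closure ({x, g} : Set G)
    have key : ∀ (m : ℕ) (a : H), (a : G) ∈ Subgroup.upperCentralSeries G m → a ∈ Subgroup.upperCentralSeries H m := by
      intro m
      induction m with
      | zero =>
        intro a ha
        rw [Subgroup.upperCentralSeries_zero, Subgroup.mem_bot] at ha ⊢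
        exact Subtype.ext ha
      | succ m ih =>
        intro a ha
        rw [Subgroup.mem_upperCentralSeries_succ_iff] at ha ⊢
        exact fun y => ih _ (ha y)
    set N := Subgroup.upperCentralSeries H n
    have hgN : (⟨g, Subgroup.subset_closure (Or.inr rfl)⟩ : H) ∈ N := key n _ hn
    refine ⟨⟨n + 1, eq_top_iff.2 fun a _ => Subgroup.mem_upperCentralSeries_succ_iff.2 fun b => ?_⟩⟩
    rw [← QuotientGroup.eq_one_iff]
    show QuotientGroup.mk' N ⁅a, b⁆ = 1
    rw [map_commutatorElement, commutatorElement_eq_one_iff_mul_comm]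
    have hall : ∀ c : H, QuotientGroup.mk' N c ∈ Subgroup.zpowers (QuotientGroup.mk' N ⟨x, Subgroup.subset_closure (Or.inl rfl)⟩) := by
      rintro ⟨c, hc⟩
      induction hc using Subgroup.closure_induction with
      | mem c hc =>
        rcases hc with rfl | rfl
        · exact Subgroup.mem_zpowers _
        · rw [show QuotientGroup.mk' N ⟨c, _⟩ = 1 from (QuotientGroup.eq_one_iff _).2 hgN]
          exact Subgroup.one_mem _
      | one => exact (map_one (QuotientGroup.mk' N)).symm ▸ Subgroup.one_mem _
      | mul c d hc hd ihc ihd =>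
        rw [show (⟨c * d, Subgroup.mul_mem _ hc hd⟩ : H) = ⟨c, hc⟩ * ⟨d, hd⟩ from rfl, map_mul]
        exact Subgroup.mul_mem _ ihc ihd
      | inv c hc ihc =>
        rw [show (⟨c⁻¹, Subgroup.inv_mem _ hc⟩ : H) = (⟨c, hc⟩ : H)⁻¹ from rfl, map_inv]
        exact Subgroup.inv_mem _ ihc
    obtain ⟨i, hi⟩ := Subgroup.mem_zpowers_iff.1 (hall a)
    obtain ⟨j, hj⟩ := Subgroup.mem_zpowers_iff.1 (hall b)
    rw [← hi, ← hj]
    exact (Commute.zpow_zpow (Commute.refl _) i j).eq

end Cfsg.Agent.S3939
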