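import Cfsg.Statements.S3941
import Mathlib

set_option autoImplicit false
open Cfsg

namespace Cfsg.Agent.S3941

theorem a4_pair : ∃ s t : ↥(alternatingGroup (Fin 4)),
    s ≠ 1 ∧ s ^ 3 = 1 ∧ (t ≠ 1 ∧ t ^ 3 = 1) ∧ (s * t ≠ 1 ∧ (s * t) ^ 2 = 1) :=
  ⟨⟨Equiv.swap 0 1 * Equiv.swap 1 2, by rw [Equiv.Perm.mem_alternatingGroup]; decide⟩,
    ⟨Equiv.swap 0 1 * Equiv.swap 1 3, by rw [Equiv.Perm.mem_alternatingGroup]; decide⟩,
    by decide⟩

/-- Let n ≥ 5 and p an odd prime with p ≤ n, and suppose that every proper subgroup of the alternating group of degree n whose order is divisible by p has a normal Sylow p-subgroup. Then n = p. -/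
theorem result (n p : ℕ) (hn : 5 ≤ n) [Fact p.Prime] (hp : p ≠ 2) (hpn : p ≤ n)
    (h : ∀ H : Subgroup ↥(alternatingGroup (Fin n)), H ≠ ⊤ → p ∣ Nat.card ↥H → Cfsg.IsPClosed p ↥H) : n = p := by
  classical
  have hpp : p.Prime := Fact.out
  by_contra hne
  set m := max p 4 with hm
  have hmn : m < n := by omega
  have hsign : ∀ σ : Equiv.Perm (Fin m), Equiv.Perm.sign (Equiv.Perm.extendDomainHom
      (Fin.castLEOrderIso (le_of_lt hmn)).toEquiv σ) = Equiv.Perm.sign σ :=
    fun σ => Equiv.Perm.sign_extendDomain σ _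
  let f : ↥(alternatingGroup (Fin m)) →* ↥(alternatingGroup (Fin n)) :=
    ((Equiv.Perm.extendDomainHom (Fin.castLEOrderIso (le_of_lt hmn)).toEquiv).comp
      (alternatingGroup (Fin m)).subtype).codRestrict _ (fun σ => by
        rw [Equiv.Perm.mem_alternatingGroup]
        exact (hsign _).trans (Equiv.Perm.mem_alternatingGroup.1 σ.2))
  have hf : Function.Injective f := fun a b hab => Subtype.ext
    (Equiv.Perm.extendDomainHom_injective _ (congrArg Subtype.val hab))
  have hcard : ∀ k, 2 ≤ k → Nat.card ↥(alternatingGroup (Fin k)) * 2 = k.factorial := by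
    intro k hk
    haveI : Nontrivial (Fin k) := Fin.nontrivial_iff_two_le.2 hk
    rw [mul_comm, two_mul_nat_card_alternatingGroup, Nat.card_perm, Nat.card_fin]
  have hcR : Nat.card f.range = Nat.card ↥(alternatingGroup (Fin m)) :=
    (Nat.card_congr (MonoidHom.ofInjective hf).toEquiv).symm
  have hHne : f.range ≠ ⊤ := by
    intro htop
    rw [htop, Subgroup.card_top] at hcR
    have h1 := hcard m (by omega)
    have h2 := hcard n (by omega)
    rw [hcR, h1] at h2
    exact absurd h2 (Nat.factorial_lt (by omega) |>.2 hmn).ne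
  have hdvd : p ∣ Nat.card ↥(alternatingGroup (Fin m)) := by
    have h1 := hcard m (by omega)
    have h2 : p ∣ m.factorial := Nat.dvd_factorial hpp.pos (le_max_left _ _)
    rw [← h1] at h2
    exact (hpp.dvd_mul.1 h2).resolve_right fun h => hp ((Nat.prime_dvd_prime_iff_eq hpp Nat.prime_two).1 h)
  have hc := h f.range hHne (hcR.symm ▸ hdvd)
  -- transport `p`-closedness to `A_m`
  have hcm : ∀ P : Sylow p ↥(alternatingGroup (Fin m)),
      (P : Subgroup ↥(alternatingGroup (Fin m))).Normal := by
    intro P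
    let e := MonoidHom.ofInjective hf
    have hP := hc (P.mapSurjective e.surjective)
    have hP' : ((P : Subgroup ↥(alternatingGroup (Fin m))).map e.toMonoidHom).Normal := hP
    have h1 := hP'.comap e.toMonoidHom
    rwa [Subgroup.comap_map_eq_self_of_injective (f := e.toMonoidHom) e.injective] at h1
  obtain ⟨P⟩ := Sylow.nonempty (p := p) (G := ↥(alternatingGroup (Fin m)))
  have hP := hcm P
  haveI := Sylow.unique_of_normal P hP
  have hall : ∀ x, orderOf x = p → x ∈ (P : Subgroup ↥(alternatingGroup (Fin m))) := by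
    intro x hx
    have hz : IsPGroup p (Subgroup.zpowers x) := IsPGroup.of_card (n := 1) (by rw [Nat.card_zpowers, hx, pow_one])
    obtain ⟨Q, hQ⟩ := hz.exists_le_sylow
    exact Subsingleton.elim Q P ▸ hQ (Subgroup.mem_zpowers x)
  by_cases hp3 : p = 3
  · subst hp3
    have hm4 : m = 4 := by omega
    clear_value m
    subst hm4
    obtain ⟨s, t, hs, ht, hst⟩ := a4_pair
    have hs3 := hall s (orderOf_eq_prime ht hs)
    have ht3 := hall t (orderOf_eq_prime hst.1.2 hst.1.1)
    obtain ⟨k, hk⟩ := IsPGroup.iff_orderOf.1 P.isPGroup' ⟨s * t, Subgroup.mul_mem _ hs3 ht3⟩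
    rw [← Subgroup.orderOf_coe, orderOf_eq_prime hst.2.2 hst.2.1] at hk
    rcases k with _ | k
    · simp at hk
    · have : 3 ∣ 2 := hk ▸ dvd_pow_self 3 (by omega)
      omega
  · have hp5 : 5 ≤ p := by
      have := hpp.two_le
      by_contra h5
      interval_cases p <;> first | omega | exact absurd hpp (by norm_num)
    haveI := alternatingGroup.isSimpleGroup (α := Fin m) (by rw [Nat.card_fin]; omega)
    rcases hP.eq_bot_or_eq_top with h1 | h1
    · exact P.ne_bot_of_dvd_card hdvd h1
    · have h3 : 3 ∣ Nat.card ↥(alternatingGroup (Fin m)) := by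
        have h2 := hcard m (by omega)
        have : 3 ∣ m.factorial := Nat.dvd_factorial (by norm_num) (by omega)
        rw [← h2] at this
        omega
      obtain ⟨k, hk⟩ := IsPGroup.iff_card.1 P.isPGroup'
      rw [h1, Subgroup.card_top] at hk
      rw [hk] at h3
      exact hp3 ((Nat.prime_dvd_prime_iff_eq Nat.prime_three hpp).1 (Nat.prime_three.dvd_of_dvd_pow h3)).symm

end Cfsg.Agent.S3941
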