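import Cfsg.Statements.S3946
import Cfsg.Agent.S0108
import Cfsg.Agent.Lib.FGS.ThompsonKernel
import Cfsg.Agent.Lib.OddLocal.Basic
import Cfsg.Agent.Lib.PGroup.Basic

set_option autoImplicit false
open Cfsg

namespace Cfsg.Agent.S3946

universe u

open Subgroup
open scoped commutatorElement Pointwise

/-- `x · α(x) ⋯ α^(n-1)(x)`. -/
def sp {G : Type u} [Group G] (α : MulAut G) (x : G) : ℕ → G
  | 0 => 1
  | n + 1 => sp α x n * (α ^ n) x

theorem sp_eq_prod {G : Type u} [Group G] (α : MulAut G) (x : G) (n : ℕ) :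
    ((List.range n).map (fun i : ℕ => (α ^ i) x)).prod = sp α x n := by
  induction n with
  | zero => rfl
  | succ n ih => rw [List.range_succ, List.map_append, List.prod_append, ih]; simp [sp]

theorem sp_left {G : Type u} [Group G] (α : MulAut G) (x : G) (n : ℕ) :
    x * α (sp α x n) = sp α x (n + 1) := by
  induction n with
  | zero => simp [sp]
  | succ n ih =>
    calc x * α (sp α x (n + 1)) = x * α (sp α x n) * α ((α ^ n) x) := by
          rw [sp, map_mul, mul_assoc]
      _ = sp α x (n + 1) * (α ^ (n + 1)) x := by rw [ih, pow_succ', MulAut.mul_apply]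
      _ = sp α x (n + 1 + 1) := rfl

theorem sp_fixed {G : Type u} [Group G] (α : MulAut G) {x : G} (hx : α x = x) :
    ∀ n, sp α x n = x ^ n ∧ (α ^ n) x = x := by
  intro n
  induction n with
  | zero => exact ⟨(pow_zero x).symm, by simp⟩
  | succ n ih => exact ⟨by rw [sp, ih.1, ih.2, pow_succ], by rw [pow_succ, MulAut.mul_apply, hx, ih.2]⟩

theorem sp_map {G H : Type u} [Group G] [Group H] (f : G →* H) (α : MulAut G) (β : MulAut H)
    (h : ∀ x, β (f x) = f (α x)) (x : G) : ∀ n, sp β (f x) n = f (sp α x n) := by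
  have hp : ∀ n (y : G), (β ^ n) (f y) = f ((α ^ n) y) := by
    intro n
    induction n with
    | zero => intro y; simp
    | succ n ih => intro y; rw [pow_succ, MulAut.mul_apply, h, ih, pow_succ, MulAut.mul_apply]
  intro n
  induction n with
  | zero => exact (map_one f).symm
  | succ n ih => rw [sp, sp, map_mul, ih, hp]

theorem pow_map {G H : Type u} [Group G] [Group H] (f : G →* H) (α : MulAut G) (β : MulAut H)
    (h : ∀ x, β (f x) = f (α x)) : ∀ n (x : G), (β ^ n) (f x) = f ((α ^ n) x) := by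
  intro n
  induction n with
  | zero => intro y; simp
  | succ n ih => intro y; rw [pow_succ, MulAut.mul_apply, h, ih, pow_succ, MulAut.mul_apply]

theorem exists_restrict {G : Type u} [Group G] [Finite G] (α : MulAut G) (H : Subgroup G)
    (hH : ∀ x ∈ H, α x ∈ H) : ∃ β : MulAut ↥H, ∀ x : ↥H, α (H.subtype x) = H.subtype (β x) := by
  let f : ↥H →* ↥H := (α.toMonoidHom.comp H.subtype).codRestrict H fun x => hH x x.2
  have hf : Function.Injective f := fun a b h =>
    Subtype.ext (α.injective (congrArg Subtype.val h :))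
  exact ⟨MulEquiv.ofBijective f (Finite.injective_iff_bijective.1 hf), fun x => rfl⟩

theorem coprime_mem {G : Type u} [Group G] [Finite G] {p : ℕ} [Fact p.Prime] (P : Sylow p G) {K : Subgroup G}
    [K.Normal] (hK : K.IsComplement' (P : Subgroup G)) (x : G) : x ∈ K ↔ (orderOf x).Coprime p := by
  obtain ⟨n, hn⟩ := P.2.exists_card_eq
  have hidx : K.index = p ^ n := by rw [hK.symm.index_eq_card, hn]
  constructor
  · intro hx
    refine ((Fact.out : p.Prime).coprime_iff_not_dvd.2 fun hd => ?_).symm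
    exact P.not_dvd_index (hK.index_eq_card ▸ hd.trans (Subgroup.orderOf_dvd_natCard _ hx))
  · intro hx
    rw [← QuotientGroup.eq_one_iff, ← orderOf_eq_one_iff]
    refine Nat.eq_one_of_dvd_coprimes (hx.pow_right n) (orderOf_map_dvd (QuotientGroup.mk' K) x) ?_
    rw [← hidx, Subgroup.index_eq_card]
    exact orderOf_dvd_natCard _

/-- The averaging trick. -/
theorem trick {K : Type u} [Group K] [Finite K] {V : Type u} [CommGroup V] [Finite V] {p : ℕ} [Fact p.Prime]
    (hcop : (Nat.card K).Coprime (Nat.card V)) (ψ : K →* MulAut V) (β : MulAut V) (σ : MulAut K)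
    (hσ : ∀ k, β * ψ k = ψ (σ k) * β) (hbij : ∀ i, 0 < i → i < p → Function.Bijective fun k => sp σ k i)
    (hprod : ∀ k : K, ∀ v : V, ∏ i ∈ Finset.range p, ((ψ k * β) ^ i) v = 1) :
    ∀ k v, ψ k v = v := by
  classical
  letI := Fintype.ofFinite K
  have hpow : ∀ k i, (ψ k * β) ^ i = ψ (sp σ k i) * β ^ i := by
    intro k i
    have hc : ∀ (i : ℕ) (y : K), β ^ i * ψ y = ψ ((σ ^ i) y) * β ^ i := by
      intro i
      induction i with
      | zero => intro y; simp
      | succ i ih =>
        intro y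
        rw [pow_succ, mul_assoc, hσ, ← mul_assoc, ih, mul_assoc, pow_succ σ, MulAut.mul_apply]
    induction i with
    | zero => simp [sp]
    | succ i ih =>
      rw [pow_succ, ih, sp, map_mul, pow_succ β, mul_assoc, ← mul_assoc (β ^ i), hc]
      simp only [mul_assoc]
  let S : V → V := fun v => ∏ k : K, ψ k v
  have hSmul : ∀ v w, S (v * w) = S v * S w := fun v w => by
    simp only [S, map_mul, Finset.prod_mul_distrib]
  have hS1 : S 1 = 1 := by simp [S]
  intro k₀ v
  let Shom : V →* V := { toFun := S, map_one' := hS1, map_mul' := hSmul }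
  have key : v ^ Nat.card K = S v := by
    obtain ⟨m, hm⟩ : ∃ m, p = m + 1 := ⟨p - 1, by have := (Fact.out : p.Prime).pos; omega⟩
    have h1 : ∏ k : K, ∏ i ∈ Finset.range (m + 1), ((ψ k * β) ^ i) v = 1 :=
      Finset.prod_eq_one fun k _ => hm ▸ hprod k v
    rw [Finset.prod_comm, Finset.prod_range_succ'] at h1
    have h2 : ∀ i ∈ Finset.range m, ∏ k : K, ((ψ k * β) ^ (i + 1)) v = Shom ((β ^ (i + 1)) v) := by
      intro i hi
      rw [Finset.mem_range] at hi
      refine Eq.trans (Finset.prod_congr rfl fun k _ => ?_)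
        (Fintype.prod_bijective (fun k => sp σ k (i + 1)) (hbij (i + 1) (by omega) (by omega))
          (fun k => ψ (sp σ k (i + 1)) ((β ^ (i + 1)) v)) (fun k => ψ k ((β ^ (i + 1)) v)) fun k => rfl)
      rw [hpow, MulAut.mul_apply]
    rw [Finset.prod_congr rfl h2, ← map_prod] at h1
    have h3 : ∏ i ∈ Finset.range m, (β ^ (i + 1)) v = v⁻¹ := by
      have := hm ▸ hprod 1 v
      rw [Finset.prod_range_succ', map_one, one_mul] at this
      simp only [pow_zero, MulAut.one_apply] at this
      exact mul_eq_one_iff_eq_inv.1 this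
    rw [h3, map_inv] at h1
    simp only [pow_zero, MulAut.one_apply, Finset.prod_const, Finset.card_univ] at h1
    rw [Nat.card_eq_fintype_card]
    exact (inv_mul_eq_one.1 h1).symm
  have hfix : ψ k₀ (S v) = S v := by
    simp only [S, map_prod]
    exact Fintype.prod_bijective (fun k => k₀ * k) (Group.mulLeft_bijective k₀) _ _ fun k => by
      rw [map_mul, MulAut.mul_apply]
  rw [← key, map_pow] at hfix
  exact (powCoprime hcop.symm).injective hfix

theorem twisted_prod {G : Type u} [Group G] (α : MulAut G) (V : Subgroup G) [V.Normal] [IsMulCommutative V]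
    (γ : MulAut ↥V) (hγ : ∀ v : ↥V, α (V.subtype v) = V.subtype (γ v)) {p : ℕ}
    (hsp : ∀ x : G, sp α x p = 1) (g : G) :
    ∀ v : ↥V, ((List.range p).map fun i => ((((MulAut.conjNormal g * γ) : MulAut ↥V) ^ i) v : ↥V)).prod = 1 := by
  intro v
  set f : MulAut ↥V := MulAut.conjNormal g * γ with hf
  have hc : ∀ j, ∀ v : ↥V, (((f ^ j) v : ↥V) : G) = sp α g j * (α ^ j) (v : G) * (sp α g j)⁻¹ := by
    intro j
    induction j with
    | zero => intro v; simp [sp]
    | succ j ih =>
      intro v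
      have h0 : (f v : G) = g * α (v : G) * g⁻¹ := by
        rw [hf, MulAut.mul_apply, MulAut.conjNormal_apply]
        exact congrArg (fun t => g * t * g⁻¹) (hγ v).symm
      rw [pow_succ, MulAut.mul_apply, ih, h0, map_mul, map_mul, map_inv, pow_succ α, MulAut.mul_apply, sp]
      group
  have hexp : ∀ i, sp α ((v : G) * g) i = (((List.range i).map fun j => (f ^ j) v).prod : ↥V) * sp α g i := by
    intro i
    induction i with
    | zero => simp [sp]
    | succ i ih =>
      rw [sp, ih, List.range_succ, List.map_append, List.prod_append, List.map_singleton, List.prod_singleton,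
        Subgroup.coe_mul, hc, map_mul, sp]
      group
  have := hexp p
  rw [hsp, hsp, mul_one] at this
  exact Subtype.ext this.symm

theorem kegel_aux {p : ℕ} [Fact p.Prime] (hp2 : p ≠ 2) : ∀ (n : ℕ) (G : Type u) [Group G] [Finite G],
    Nat.card G = n → ∀ α : MulAut G, α ^ p = 1 → (∀ x : G, sp α x p = 1) → Group.IsNilpotent G := by
  intro n
  induction n using Nat.strong_induction_on with
  | _ n IH =>
  intro G _ _ hn α hαp hsp
  classical
  have hp : p.Prime := Fact.out
  have hfixp : ∀ x : G, α x = x → x ^ p = 1 := fun x hx => (sp_fixed α hx p).1 ▸ hsp x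
  by_cases hpG : ¬ p ∣ Nat.card G
  · refine CfsgLib.FGS.isNilpotent_of_fpf_prime hp α (fun x hx => ?_) hαp
    exact orderOf_eq_one_iff.1 (Nat.eq_one_of_dvd_coprimes (hp.coprime_iff_not_dvd.2 hpG)
      (orderOf_dvd_of_pow_eq_one (hfixp x hx)) (orderOf_dvd_natCard x))
  rw [not_not] at hpG
  have hsub : ∀ H : Subgroup G, (∀ x ∈ H, α x ∈ H) → H ≠ ⊤ → Group.IsNilpotent ↥H := by
    intro H hH hne
    obtain ⟨β, hβ⟩ := exists_restrict α H hH
    have hlt : Nat.card H < n := hn ▸ lt_of_le_of_ne (Subgroup.card_le_card_group H) fun e =>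
      hne (Subgroup.eq_top_of_card_eq H e)
    have hm := pow_map H.subtype β α hβ
    refine IH _ hlt ↥H rfl β (MulEquiv.ext fun x => Subtype.ext ?_) fun x => Subtype.ext ?_
    · show H.subtype ((β ^ p) x) = _
      rw [← hm, hαp]
      rfl
    · show H.subtype (sp β x p) = _
      rw [← sp_map H.subtype β α hβ, hsp]
      rfl
  have hquot : ∀ (N : Subgroup G) [N.Normal], N ≠ ⊥ → (∀ x ∈ N, α x ∈ N) →
      Group.IsNilpotent (G ⧸ N) ∧ ∃ β : MulAut (G ⧸ N), β ^ p = 1 ∧ (∀ y, sp β y p = 1) ∧
        ∀ x, β (QuotientGroup.mk' N x) = QuotientGroup.mk' N (α x) := by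
    intro N _ hne hN
    have hmap : N.map α.toMonoidHom = N := by
      refine Subgroup.eq_of_le_of_card_ge ?_ (le_of_eq (Subgroup.card_map_of_injective α.injective).symm)
      rintro _ ⟨x, hx, rfl⟩
      exact hN x hx
    let β : MulAut (G ⧸ N) := QuotientGroup.congr N N α hmap
    have hβ : ∀ x, β (QuotientGroup.mk' N x) = QuotientGroup.mk' N (α x) := fun x => rfl
    have hm := pow_map (QuotientGroup.mk' N) α β hβ
    have h1 : β ^ p = 1 := MulEquiv.ext fun y => by
      obtain ⟨x, rfl⟩ := QuotientGroup.mk'_surjective N y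
      rw [hm, hαp]; rfl
    have h2 : ∀ y, sp β y p = 1 := fun y => by
      obtain ⟨x, rfl⟩ := QuotientGroup.mk'_surjective N y
      rw [sp_map (QuotientGroup.mk' N) α β hβ, hsp, map_one]
    have hlt : Nat.card (G ⧸ N) < n := by
      rw [← hn, Subgroup.card_eq_card_quotient_mul_card_subgroup N]
      exact lt_mul_of_one_lt_right Nat.card_pos ((Subgroup.one_lt_card_iff_ne_bot N).2 hne)
    exact ⟨IH _ hlt (G ⧸ N) rfl β h1 h2, β, h1, h2, hβ⟩
  have hbijfpf : ∀ (K : Type u) [Group K] [Finite K] (σ : MulAut K), (∀ k, σ k = k → k = 1) → σ ^ p = 1 →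
      ∀ i, 0 < i → i < p → Function.Bijective fun k => sp σ k i := by
    intro K _ _ σ hfix hσ i hi hip
    have hfi : ∀ k, (σ ^ i) k = k → k = 1 := by
      intro k hk
      refine hfix k ?_
      have hco : (orderOf σ).Coprime i := by
        refine Nat.Coprime.coprime_dvd_left (orderOf_dvd_of_pow_eq_one hσ) (hp.coprime_iff_not_dvd.2 fun hd => ?_)
        exact absurd (Nat.le_of_dvd hi hd) (by omega)
      obtain ⟨j, hj⟩ := exists_pow_eq_self_of_coprime hco.symm
      have h2 : ∀ j : ℕ, ((σ ^ i) ^ j) k = k := by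
        intro j
        induction j with
        | zero => simp
        | succ j ih => rw [pow_succ, MulAut.mul_apply, hk, ih]
      rw [← hj]; exact h2 j
    have hθ : Function.Bijective fun u : K => u⁻¹ * σ u := by
      refine Finite.injective_iff_bijective.1 fun a b h => ?_
      have h1 : σ (b * a⁻¹) = b * a⁻¹ := by
        rw [map_mul, map_inv, show σ a = a * (a⁻¹ * σ a) by group, show a⁻¹ * σ a = b⁻¹ * σ b from h]
        group
      exact (mul_inv_eq_one.1 (hfix _ h1)).symm
    have hsp' : ∀ u j, sp σ (u⁻¹ * σ u) j = u⁻¹ * (σ ^ j) u := by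
      intro u j
      induction j with
      | zero => simp [sp]
      | succ j ih => rw [sp, ih, map_mul, map_inv, pow_succ, MulAut.mul_apply]; group
    have hinj : Function.Injective fun k => sp σ k i := by
      intro x y hxy
      obtain ⟨a, rfl⟩ := hθ.2 x
      obtain ⟨b, rfl⟩ := hθ.2 y
      simp only [hsp'] at hxy
      have h1 : (σ ^ i) (b * a⁻¹) = b * a⁻¹ := by
        rw [map_mul, map_inv, show (σ ^ i) a = a * (a⁻¹ * (σ ^ i) a) by group, hxy]
        group
      rw [(mul_inv_eq_one.1 (hfi _ h1)).symm]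
    exact Finite.injective_iff_bijective.1 hinj
  set R := Cfsg.pCore p G with hRdef
  haveI hRn : R.Normal := Subgroup.sSup_normal _ fun N hN => hN.1
  have hRp : IsPGroup p R := CfsgLib.Cores.isPGroup_pCore p
  have hRα : ∀ x ∈ R, α x ∈ R := fun x hx => by
    have := CfsgLib.Cores.map_pCore_equiv (p := p) α
    rw [hRdef, ← this]; exact ⟨x, hx, rfl⟩
  have hcenα : ∀ z ∈ center G, α z ∈ center G := fun z hz => mem_center_iff.2 fun y => by
    rw [← α.apply_symm_apply y, ← map_mul, ← map_mul, mem_center_iff.1 hz]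
  by_cases hR : R ≠ ⊥
  · -- a central element in `O_p(G)`
    let V : Subgroup G :=
      { carrier := {x | x ∈ R ∧ (∀ y ∈ R, y * x = x * y) ∧ x ^ p = 1}
        one_mem' := ⟨one_mem R, by simp, one_pow p⟩
        mul_mem' := fun {a b} ha hb => ⟨mul_mem ha.1 hb.1, fun y hy =>
          ((show Commute y a from ha.2.1 y hy).mul_right (hb.2.1 y hy)).eq, by
            rw [(show Commute a b from hb.2.1 a ha.1).mul_pow, ha.2.2, hb.2.2, one_mul]⟩
        inv_mem' := fun {a} ha => ⟨inv_mem ha.1, fun y hy => (show Commute y a from ha.2.1 y hy).inv_right.eq,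
          by rw [inv_pow, ha.2.2, inv_one]⟩ }
    haveI hVn : V.Normal := ⟨fun x hx g => ⟨hRn.conj_mem x hx.1 g, fun y hy => by
      have h1 := hx.2.1 _ (hRn.conj_mem y hy g⁻¹)
      rw [inv_inv] at h1
      calc y * (g * x * g⁻¹) = g * ((g⁻¹ * y * g) * x) * g⁻¹ := by group
        _ = g * (x * (g⁻¹ * y * g)) * g⁻¹ := by rw [h1]
        _ = g * x * g⁻¹ * y := by group, by rw [conj_pow, hx.2.2, mul_one, mul_inv_cancel]⟩⟩
    have hVα : ∀ x ∈ V, α x ∈ V := fun x hx => ⟨hRα x hx.1, fun y hy => by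
      have hy' : α.symm y ∈ R := by
        have := CfsgLib.Cores.map_pCore_equiv (p := p) α.symm
        rw [hRdef, ← this]; exact ⟨y, hy, rfl⟩
      rw [← α.apply_symm_apply y, ← map_mul, ← map_mul, hx.2.1 _ hy'], by rw [← map_pow, hx.2.2, map_one]⟩
    have hVne : V ≠ ⊥ := by
      haveI : Nontrivial ↥R := (Subgroup.nontrivial_iff_ne_bot R).2 hR
      haveI := hRp.center_nontrivial
      obtain ⟨z, hz, hzo⟩ := CfsgLib.PGroup.exists_orderOf_eq hRp
        ((Subgroup.nontrivial_iff_ne_bot (center ↥R)).1 inferInstance)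
      intro h0
      have h1 : (z : G) ∈ V := ⟨z.2, fun y hy => congrArg Subtype.val (mem_center_iff.1 hz ⟨y, hy⟩), by
        rw [← SubmonoidClass.coe_pow, ← hzo, pow_orderOf_eq_one, OneMemClass.coe_one]⟩
      rw [h0, mem_bot] at h1
      rw [show z = 1 from Subtype.ext h1, orderOf_one] at hzo
      exact hp.ne_one hzo.symm
    haveI hVc : IsMulCommutative ↥V := ⟨⟨fun a b => Subtype.ext (b.2.2.1 a a.2.1)⟩⟩
    have hVp : IsPGroup p V := hRp.to_le fun x hx => hx.1
    obtain ⟨hQnil, β, hβp, hβsp, hβ⟩ := hquot V hVne hVα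
    haveI := hQnil
    obtain ⟨PQ⟩ : Nonempty (Sylow p (G ⧸ V)) := inferInstance
    obtain ⟨KQ, hKQn, hKQc⟩ := (CfsgLib.Transfer.hasNormalPComplement_iff_sylow PQ).1
      (CfsgLib.FGS.hasNormalPComplement_of_isNilpotent (p := p) (G ⧸ V))
    haveI := hKQn
    have hKQβ : ∀ y ∈ KQ, β y ∈ KQ := fun y hy => by
      rw [coprime_mem PQ hKQc, MulEquiv.orderOf_eq]; exact (coprime_mem PQ hKQc y).1 hy
    obtain ⟨σ, hσ⟩ := exists_restrict β KQ hKQβ
    obtain ⟨γ, hγ⟩ := exists_restrict α V hVα
    let ψ₀ : G ⧸ V →* MulAut ↥V := QuotientGroup.lift V MulAut.conjNormal fun v hv => by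
      ext w
      rw [MulAut.conjNormal_apply, MulAut.one_apply, ← (show (w : G) * v = v * w from
        hv.2.1 w w.2.1), mul_inv_cancel_right]
    letI : CommGroup ↥V := { (inferInstance : Group ↥V) with mul_comm := fun a b => mul_comm' a b }
    have hfix : ∀ y : ↥KQ, σ y = y → y = 1 := by
      intro y hy
      have h1 : β (y : G ⧸ V) = y := by
        have := hσ y
        rw [hy] at this
        exact this
      have h2 : (y : G ⧸ V) ^ p = 1 := by rw [← (sp_fixed β h1 p).1]; exact hβsp _
      refine Subtype.ext (orderOf_eq_one_iff.1 (Nat.eq_one_of_dvd_coprimes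
        ((coprime_mem PQ hKQc _).1 y.2) dvd_rfl (orderOf_dvd_of_pow_eq_one h2)))
    have hσp : σ ^ p = 1 := MulEquiv.ext fun y => Subtype.ext (by
      show KQ.subtype ((σ ^ p) y) = _
      rw [← pow_map KQ.subtype σ β hσ, hβp]; rfl)
    have hcop : (Nat.card ↥KQ).Coprime (Nat.card ↥V) := by
      obtain ⟨k, hk⟩ := hVp.exists_card_eq
      rw [hk]
      refine (hp.coprime_iff_not_dvd.2 fun hd => ?_).symm.pow_right k
      exact PQ.not_dvd_index (hKQc.index_eq_card ▸ hd)
    have htriv := trick (p := p) hcop (ψ₀.comp KQ.subtype) γ σ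
      (by
        intro y
        obtain ⟨g, hg⟩ := QuotientGroup.mk'_surjective V (y : G ⧸ V)
        have h1 : ((σ y : ↥KQ) : G ⧸ V) = QuotientGroup.mk' V (α g) := by
          rw [← hβ, hg]; exact (hσ y).symm
        refine MulEquiv.ext fun v => Subtype.ext ?_
        show ((γ (ψ₀ (y : G ⧸ V) v) : ↥V) : G) = ((ψ₀ ((σ y : ↥KQ) : G ⧸ V)) (γ v) : ↥V)
        rw [h1, ← hg]
        show V.subtype (γ (MulAut.conjNormal g v)) = ((MulAut.conjNormal (α g)) (γ v) : ↥V)
        rw [← hγ, MulAut.conjNormal_apply]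
        show α ((MulAut.conjNormal g v : ↥V) : G) = _
        rw [MulAut.conjNormal_apply, map_mul, map_mul, map_inv]
        exact congrArg (fun t => α g * t * (α g)⁻¹) (hγ v))
      (hbijfpf ↥KQ σ hfix hσp)
      (by
        intro y v
        obtain ⟨g, hg⟩ := QuotientGroup.mk'_surjective V (y : G ⧸ V)
        have h1 : (ψ₀.comp KQ.subtype) y = MulAut.conjNormal g := by
          show ψ₀ (y : G ⧸ V) = _
          rw [← hg]; rfl
        rw [h1]
        exact twisted_prod α V γ hγ hsp g v)
    -- central elements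
    have hcent : ∀ g : G, (orderOf g).Coprime p → ∀ v ∈ V, g * v = v * g := by
      intro g hg v hv
      have hmem : QuotientGroup.mk' V g ∈ KQ :=
        (coprime_mem PQ hKQc _).2 (hg.coprime_dvd_left (orderOf_map_dvd _ g))
      have h1 := congrArg Subtype.val (htriv ⟨_, hmem⟩ ⟨v, hv⟩)
      change ((MulAut.conjNormal g ⟨v, hv⟩ : ↥V) : G) = v at h1
      rw [MulAut.conjNormal_apply] at h1
      exact mul_inv_eq_iff_eq_mul.1 h1
    obtain ⟨P⟩ : Nonempty (Sylow p G) := inferInstance
    have hVP : V ≤ (P : Subgroup G) := fun x hx => CfsgLib.Cores.pCore_le_sylow P hx.1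
    haveI : (V.subgroupOf (P : Subgroup G)).Normal := inferInstance
    have hne' : V.subgroupOf (P : Subgroup G) ≠ ⊥ := fun h0 => hVne (by
      rw [← map_subgroupOf_eq_of_le hVP, h0, Subgroup.map_bot])
    obtain ⟨z, hz, hzo⟩ := CfsgLib.PGroup.exists_orderOf_eq P.2
      (CfsgLib.PGroup.inf_center_ne_bot P.2 (V.subgroupOf (P : Subgroup G)) hne')
    have hzV : (z : G) ∈ V := hz.1
    have hzZ : (z : G) ∈ center G := by
      have hC : centralizer ({(z : G)} : Set G) = ⊤ := by
        have hPC : (P : Subgroup G) ≤ centralizer ({(z : G)} : Set G) := fun y hy =>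
          mem_centralizer_singleton_iff.2 (congrArg Subtype.val (mem_center_iff.1 hz.2 ⟨y, hy⟩))
        rw [← Subgroup.index_eq_one]
        refine Nat.eq_one_iff_not_exists_prime_dvd.2 fun r hr hd => ?_
        haveI : Fact r.Prime := ⟨hr⟩
        by_cases hrp : r = p
        · subst hrp
          exact P.not_dvd_index (hd.trans (Subgroup.index_dvd_of_le hPC))
        · obtain ⟨S⟩ : Nonempty (Sylow r G) := inferInstance
          refine S.not_dvd_index (hd.trans (Subgroup.index_dvd_of_le fun y hy => ?_))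
          refine mem_centralizer_singleton_iff.2 (hcent y ?_ _ hzV)
          obtain ⟨k, hk⟩ := IsPGroup.iff_orderOf.1 S.2 ⟨y, hy⟩
          rw [Subgroup.orderOf_mk] at hk
          rw [hk]
          exact ((Nat.coprime_primes hr hp).2 hrp).pow_left k
      exact mem_center_iff.2 fun y => mem_centralizer_singleton_iff.1 (hC ▸ mem_top y)
    set W := V ⊓ center G with hW
    have hWne : W ≠ ⊥ := fun h0 => by
      have h1 : (z : G) ∈ W := ⟨hzV, hzZ⟩
      rw [h0, mem_bot] at h1
      rw [show z = 1 from Subtype.ext h1, orderOf_one] at hzo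
      exact hp.ne_one hzo.symm
    obtain ⟨hnilW, -⟩ := hquot W hWne fun x hx => ⟨hVα x hx.1, hcenα x hx.2⟩
    refine Group.of_quotient_center_nilpotent ?_
    haveI := hnilW
    exact Group.nilpotent_of_surjective (QuotientGroup.map W (center G) (MonoidHom.id G) inf_le_right)
      (QuotientGroup.map_surjective_of_surjective W (center G) (MonoidHom.id G) (by
        intro y; obtain ⟨x, rfl⟩ := QuotientGroup.mk'_surjective _ y; exact ⟨x, rfl⟩) inf_le_right)
  exfalso
  push Not at hR
  -- an invariant Sylow subgroup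
  have hA : IsPGroup p ↥(zpowers α) := by
    intro a
    refine ⟨1, Subtype.ext ?_⟩
    obtain ⟨i, hi⟩ := mem_zpowers_iff.1 a.2
    show (a : MulAut G) ^ p ^ 1 = 1
    rw [pow_one, ← hi, ← zpow_natCast, ← zpow_mul, mul_comm, zpow_mul, zpow_natCast, hαp, one_zpow]
  obtain ⟨P, hPfix⟩ := hA.nonempty_fixed_point_of_prime_not_dvd_card (Sylow p G) (not_dvd_card_sylow p G)
  have hPmap : (P : Subgroup G).map α.toMonoidHom = P :=
    congrArg (fun Q : Sylow p G => (Q : Subgroup G)) (hPfix ⟨α, mem_zpowers α⟩)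
  have hPα : ∀ x ∈ (P : Subgroup G), α x ∈ (P : Subgroup G) := fun x hx => hPmap ▸ ⟨x, hx, rfl⟩
  have hPne : (P : Subgroup G) ≠ ⊥ := fun h0 => by
    have := P.dvd_card_of_dvd_card hpG
    rw [h0, Subgroup.card_bot] at this
    exact hp.ne_one (Nat.dvd_one.1 this)
  have hnorm : ∀ X : Subgroup G, X.map α.toMonoidHom = X → ∀ x ∈ normalizer (X : Set G), α x ∈ normalizer (X : Set G) := by
    intro X hX x hx
    have h1 := le_normalizer_map (H := X) α.toMonoidHom (mem_map_of_mem α.toMonoidHom hx)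
    rwa [hX] at h1
  set J := Cfsg.thompsonSubgroupOf p (P : Subgroup G) with hJ
  have hJmap : J.map α.toMonoidHom = J := by
    rw [hJ, CfsgLib.PStab.thompsonSubgroupOf_eq_jGen, ← CfsgLib.PStab.jGen_map (f := α.toMonoidHom) (show Function.Injective α.toMonoidHom from α.injective), hPmap]
  have hJne : J ≠ ⊥ := by
    rw [hJ, CfsgLib.PStab.thompsonSubgroupOf_eq_jGen]
    exact CfsgLib.PStab.jGen_ne_bot (Or.inr rfl) P.2 hPne
  have hJp : IsPGroup p J := P.2.to_le (map_subtype_le _)
  set Z := (P : Subgroup G) ⊓ centralizer (P : Set G) with hZ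
  have hZα : ∀ x ∈ Z, α x ∈ Z := by
    intro x hx
    refine ⟨hPα x hx.1, mem_centralizer_iff.2 fun y hy => ?_⟩
    obtain ⟨w, hw, hwy⟩ := hPmap.ge hy
    rw [← hwy, MulEquiv.coe_toMonoidHom, ← map_mul, ← map_mul, mem_centralizer_iff.1 hx.2 w hw]
  haveI : Nontrivial ↥(P : Subgroup G) := (Subgroup.nontrivial_iff_ne_bot _).2 hPne
  haveI := P.2.center_nontrivial
  obtain ⟨z₀, hz₀, hz₀o⟩ := CfsgLib.PGroup.exists_orderOf_eq P.2
    ((Subgroup.nontrivial_iff_ne_bot (center ↥(P : Subgroup G))).1 inferInstance)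
  have hz₀Z : (z₀ : G) ∈ Z := ⟨z₀.2, mem_centralizer_iff.2 fun y hy =>
    congrArg Subtype.val (mem_center_iff.1 hz₀ ⟨y, hy⟩)⟩
  have hnilcomp : ∀ H : Subgroup G, (∀ x ∈ H, α x ∈ H) → H ≠ ⊤ → Cfsg.HasNormalPComplement p ↥H := by
    intro H h1 h2
    haveI := hsub H h1 h2
    exact CfsgLib.FGS.hasNormalPComplement_of_isNilpotent (p := p) ↥H
  have hNJ : normalizer (J : Set G) ≠ ⊤ := fun h0 => hJne (le_bot_iff.1 (hR ▸ by
    haveI : J.Normal := normalizer_eq_top_iff.1 h0
    exact CfsgLib.Cores.le_pCore hJp))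
  have hCZ : centralizer (Z : Set G) ≠ ⊤ := fun h0 => by
    have h1 : (zpowers (z₀ : G)).Normal := ⟨fun y hy g => by
      have hyZ : y ∈ Z := zpowers_le.2 hz₀Z hy
      rw [← mem_centralizer_iff.1 (h0.ge (mem_top g)) y hyZ, mul_inv_cancel_right]; exact hy⟩
    have h2 : zpowers (z₀ : G) ≤ R := @CfsgLib.Cores.le_pCore _ _ _ _ h1 (P.2.to_le (zpowers_le.2 z₀.2))
    rw [hR] at h2
    have := mem_bot.1 (h2 (mem_zpowers _))
    rw [← Subgroup.orderOf_coe, this, orderOf_one] at hz₀o
    exact hp.ne_one hz₀o.symm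
  have hCZα : ∀ x ∈ centralizer (Z : Set G), α x ∈ centralizer (Z : Set G) := by
    intro x hx
    refine mem_centralizer_iff.2 fun y hy => ?_
    have hsymm : α.symm y ∈ Z := by
      have e : Z.map α.toMonoidHom = Z := Subgroup.eq_of_le_of_card_ge
        (by rintro _ ⟨w, hw, rfl⟩; exact hZα w hw) (le_of_eq (Subgroup.card_map_of_injective α.injective).symm)
      obtain ⟨w, hw, hwy⟩ := e.ge hy
      rw [← hwy]
      show α.symm (α w) ∈ Z
      rw [α.symm_apply_apply]; exact hw
    rw [← α.apply_symm_apply y, ← map_mul, ← map_mul, mem_centralizer_iff.1 hx _ hsymm]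
  obtain ⟨K, hKn, hKc⟩ := (CfsgLib.Transfer.hasNormalPComplement_iff_sylow P).1
    ((Cfsg.Agent.S0108.result hp2 P).2 ⟨hnilcomp _ (hnorm J hJmap) hNJ, hnilcomp _ hCZα hCZ⟩)
  haveI := hKn
  have hKα : ∀ x ∈ K, α x ∈ K := fun x hx => by
    rw [coprime_mem P hKc, MulEquiv.orderOf_eq]; exact (coprime_mem P hKc x).1 hx
  have hKtop : K ≠ ⊤ := fun h0 => by
    obtain ⟨t, ht⟩ := exists_prime_orderOf_dvd_card' p hpG
    have := (coprime_mem P hKc t).1 (h0 ▸ mem_top t)
    rw [ht] at this
    exact hp.ne_one ((Nat.coprime_self p).1 this)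
  -- a fixed element of order `p` in `Z(P)`
  let Z1 := {x : G // x ∈ Z ∧ x ^ p = 1}
  letI := Fintype.ofFinite Z1
  have hZmap : ∀ x : Z1, α x.1 ∈ Z ∧ (α x.1) ^ p = 1 := fun x =>
    ⟨hZα _ x.2.1, by rw [← map_pow, x.2.2, map_one]⟩
  let π : Equiv.Perm Z1 := Equiv.ofBijective (fun x => ⟨α x.1, hZmap x⟩)
    (Finite.injective_iff_bijective.1 fun a b h => Subtype.ext (α.injective (congrArg Subtype.val h :)))
  have hπ : ∀ (i : ℕ) (x : Z1), ((π ^ i) x).1 = (α ^ i) x.1 := by
    intro i
    induction i with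
    | zero => intro x; simp
    | succ i ih => intro x; rw [pow_succ, Equiv.Perm.mul_apply, ih, pow_succ, MulAut.mul_apply]; rfl
  have hπp : π ^ p ^ 1 = 1 := Equiv.ext fun x => Subtype.ext (by rw [pow_one, hπ, hαp]; rfl)
  have hdvd : p ∣ Fintype.card Z1 := by
    rw [← Nat.card_eq_fintype_card]
    let ΩZ : Subgroup G :=
      { carrier := {x | x ∈ Z ∧ x ^ p = 1}
        one_mem' := ⟨one_mem Z, one_pow p⟩
        mul_mem' := fun {a b} ha hb => ⟨mul_mem ha.1 hb.1, by
          rw [(show Commute a b from mem_centralizer_iff.1 hb.1.2 a ha.1.1).mul_pow, ha.2, hb.2, one_mul]⟩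
        inv_mem' := fun {a} ha => ⟨inv_mem ha.1, by rw [inv_pow, ha.2, inv_one]⟩ }
    have h1 : (z₀ : G) ∈ ΩZ := ⟨hz₀Z, by
      rw [← SubmonoidClass.coe_pow, show z₀ ^ p = 1 from by have := pow_orderOf_eq_one z₀; rwa [hz₀o] at this, OneMemClass.coe_one]⟩
    have h2 := Subgroup.orderOf_dvd_natCard ΩZ h1
    rw [Subgroup.orderOf_coe, hz₀o] at h2
    exact h2
  obtain ⟨⟨z, hzZ, hzp⟩, hzfix, hzne⟩ := Equiv.Perm.exists_fixed_point_of_prime' hdvd hπp
    (a := ⟨1, one_mem Z, one_pow p⟩) (Subtype.ext (map_one α))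
  have hz1 : z ≠ 1 := fun h => hzne (Subtype.ext h)
  have hzα : α z = z := congrArg Subtype.val hzfix
  haveI hKnil := hsub K hKα hKtop
  have hzK : ∀ k ∈ K, z * k = k * z := by
    set H := K ⊔ zpowers z with hH
    have hHα : ∀ x ∈ H, α x ∈ H := fun x hx => by
      have : H.map α.toMonoidHom ≤ H := by
        rw [hH, Subgroup.map_sup]
        refine sup_le_sup ?_ ?_
        · rintro _ ⟨y, hy, rfl⟩; exact hKα y hy
        · rw [MonoidHom.map_zpowers, MulEquiv.coe_toMonoidHom, hzα]
      exact this ⟨x, hx, rfl⟩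
    have hzo : orderOf z = p := orderOf_eq_prime hzp hz1
    by_cases hHtop : H = ⊤
    · intro k hk
      -- `Z(K)` is centralised, and so is `K / Z(K)`
      set W := K ⊓ centralizer (K : Set G) with hW
      haveI hWn : W.Normal := inferInstance
      have hWα : ∀ x ∈ W, α x ∈ W := fun x hx => ⟨hKα x hx.1, mem_centralizer_iff.2 fun y hy => by
        have e : K.map α.toMonoidHom = K := Subgroup.eq_of_le_of_card_ge
          (by rintro _ ⟨w, hw, rfl⟩; exact hKα w hw) (le_of_eq (Subgroup.card_map_of_injective α.injective).symm)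
        obtain ⟨w, hw, rfl⟩ := e.ge hy
        rw [MulEquiv.coe_toMonoidHom, ← map_mul, ← map_mul, mem_centralizer_iff.1 hx.2 w hw]⟩
      haveI hWc : IsMulCommutative ↥W := ⟨⟨fun a b => Subtype.ext (mem_centralizer_iff.1 b.2.2 a a.2.1)⟩⟩
      by_cases hK1 : K = ⊥
      · rw [hK1, mem_bot] at hk; rw [hk, mul_one, one_mul]
      have hWne : W ≠ ⊥ := by
        intro h0
        haveI : Nontrivial ↥K := (Subgroup.nontrivial_iff_ne_bot K).2 hK1
        have h3 := (Group.IsNilpotent.center_ne_bot (G := ↥K))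
        obtain ⟨w, hw, hw1⟩ := SetLike.exists_of_lt (bot_lt_iff_ne_bot.2 h3)
        have : (w : G) ∈ W := ⟨w.2, mem_centralizer_iff.2 fun y hy =>
          congrArg Subtype.val (mem_center_iff.1 hw ⟨y, hy⟩)⟩
        rw [h0, mem_bot] at this
        exact hw1 (mem_bot.2 (Subtype.ext this))
      obtain ⟨hnilW, -⟩ := hquot W hWne hWα
      obtain ⟨γ, hγ⟩ := exists_restrict α W hWα
      letI : CommGroup ↥W := { (inferInstance : Group ↥W) with mul_comm := fun a b => mul_comm' a b }
      have hWcop : (Nat.card ↥W).Coprime p := by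
        refine ((hp.coprime_iff_not_dvd).2 fun hd => ?_).symm
        exact P.not_dvd_index (hKc.index_eq_card ▸ hd.trans (Subgroup.card_dvd_of_le inf_le_left))
      have hbij : ∀ i, 0 < i → i < p → Function.Bijective fun y : ↥(zpowers z) => sp (1 : MulAut ↥(zpowers z)) y i := by
        intro i hi hip
        have e : (fun y : ↥(zpowers z) => sp (1 : MulAut ↥(zpowers z)) y i) = fun y => y ^ i :=
          funext fun y => (sp_fixed (1 : MulAut ↥(zpowers z)) (x := y) rfl i).1
        rw [e]
        refine (powCoprime ?_).bijective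
        rw [Nat.card_zpowers, hzo]
        exact hp.coprime_iff_not_dvd.2 fun hd => absurd (Nat.le_of_dvd hi hd) (by omega)
      have htriv := trick (p := p) (K := ↥(zpowers z))
        (by rw [Nat.card_zpowers, hzo]; exact hWcop.symm)
        ((MulAut.conjNormal (H := W)).comp (zpowers z).subtype) γ 1
        (by
          intro y
          have hyfix : α (y : G) = y := by
            obtain ⟨i, hi⟩ := mem_zpowers_iff.1 y.2
            rw [← hi, map_zpow, hzα]
          refine MulEquiv.ext fun v => Subtype.ext ?_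
          show W.subtype (γ (MulAut.conjNormal (y : G) v)) = ((MulAut.conjNormal (y : G)) (γ v) : ↥W)
          rw [← hγ, MulAut.conjNormal_apply]
          show α ((MulAut.conjNormal (y : G) v : ↥W) : G) = _
          rw [MulAut.conjNormal_apply, map_mul, map_mul, map_inv, hyfix]
          exact congrArg (fun t => (y : G) * t * (y : G)⁻¹) (hγ v))
        hbij
        (fun y v => twisted_prod α W γ hγ hsp (y : G) v)
      have hzW : ∀ w ∈ W, z * w = w * z := fun w hw => by
        have h1 := congrArg Subtype.val (htriv ⟨z, mem_zpowers z⟩ ⟨w, hw⟩)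
        change ((MulAut.conjNormal z ⟨w, hw⟩ : ↥W) : G) = w at h1
        rw [MulAut.conjNormal_apply] at h1
        exact mul_inv_eq_iff_eq_mul.1 h1
      have hzk : k⁻¹ * (z * k * z⁻¹) ∈ W := by
        haveI := hnilW
        rw [← QuotientGroup.eq_one_iff]
        show QuotientGroup.mk' W (k⁻¹ * (z * k * z⁻¹)) = 1
        have hc : Commute (QuotientGroup.mk' W z) (QuotientGroup.mk' W k) := by
          refine CfsgLib.OddLocal.commute_of_coprime_orderOf _ _ ?_
          refine Nat.Coprime.coprime_dvd_left (orderOf_map_dvd _ z) (Nat.Coprime.coprime_dvd_right (orderOf_map_dvd _ k) ?_)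
          rw [hzo]
          exact ((coprime_mem P hKc k).1 hk).symm
        rw [map_mul, map_mul, map_mul, map_inv, map_inv, hc.eq]
        group
      set w := k⁻¹ * (z * k * z⁻¹) with hw
      have hpow : ∀ j : ℕ, z ^ j * k * (z ^ j)⁻¹ = k * w ^ j := by
        intro j
        induction j with
        | zero => simp
        | succ j ih =>
          have hzw : z * w ^ j * z⁻¹ = w ^ j := by
            rw [((show Commute z w from hzW w hzk).pow_right j).eq, mul_inv_cancel_right]
          calc z ^ (j + 1) * k * (z ^ (j + 1))⁻¹ = z * (z ^ j * k * (z ^ j)⁻¹) * z⁻¹ := by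
                rw [pow_succ']; group
            _ = (z * k * z⁻¹) * (z * w ^ j * z⁻¹) := by rw [ih]; group
            _ = k * w * w ^ j := by rw [hzw, hw]; group
            _ = k * w ^ (j + 1) := by rw [pow_succ', mul_assoc]
      have h5 := hpow p
      rw [hzp, one_mul, inv_one, mul_one, eq_comm, mul_eq_left] at h5
      have hw1 : w = 1 := orderOf_eq_one_iff.1 (Nat.eq_one_of_dvd_coprimes
        ((coprime_mem P hKc w).1 hzk.1).symm (orderOf_dvd_of_pow_eq_one h5) dvd_rfl)
      rw [hw, inv_mul_eq_one, eq_comm] at hw1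
      exact mul_inv_eq_iff_eq_mul.1 hw1
    · intro k hk
      haveI := hsub H hHα hHtop
      have h1 := CfsgLib.OddLocal.commute_of_coprime_orderOf
        (⟨z, mem_sup_right (mem_zpowers z)⟩ : ↥H) ⟨k, mem_sup_left hk⟩ (by
          rw [Subgroup.orderOf_mk, Subgroup.orderOf_mk, hzo]
          exact ((coprime_mem P hKc k).1 hk).symm)
      exact congrArg Subtype.val h1
  have hzc : z ∈ center G := by
    have hle : K ⊔ (P : Subgroup G) ≤ centralizer ({z} : Set G) :=
      sup_le (fun k hk => mem_centralizer_singleton_iff.2 (hzK k hk).symm)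
        (fun y hy => mem_centralizer_singleton_iff.2 (mem_centralizer_iff.1 hzZ.2 y hy))
    rw [hKc.sup_eq_top] at hle
    exact mem_center_iff.2 fun y => mem_centralizer_singleton_iff.1 (hle (mem_top y))
  have hn' : (zpowers z).Normal := ⟨fun y hy g => by
    rw [mem_center_iff.1 (zpowers_le.2 hzc hy) g, mul_inv_cancel_right]; exact hy⟩
  have h2 : zpowers z ≤ R := @CfsgLib.Cores.le_pCore _ _ _ _ hn' (P.2.to_le (zpowers_le.2 hzZ.1))
  rw [hR] at h2
  exact hz1 (mem_bot.1 (h2 (mem_zpowers z)))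

/-- Call an automorphism α of order n of a group G splitting when x · α(x) · α²(x) ⋯ α^(n−1)(x) = 1 for every x ∈ G. A finite group admitting a splitting automorphism of prime order is nilpotent (this contains the case of a fixed-point-free automorphism of prime order). -/
theorem result {G : Type*} [Group G] [Finite G] (α : MulAut G) (hp : (orderOf α).Prime)
    (hsplit : ∀ x : G, (((List.range (orderOf α)).map (fun i : ℕ => (α ^ i) x)).prod = 1)) : Group.IsNilpotent G := by
  haveI := Fact.mk hp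
  have hsp : ∀ x : G, sp α x (orderOf α) = 1 := fun x => by rw [← sp_eq_prod]; exact hsplit x
  by_cases h2 : orderOf α = 2
  · have hc : ∀ x : G, α x = x⁻¹ := fun x => by
      have := hsp x
      rw [h2] at this
      simp [sp] at this
      exact (inv_eq_of_mul_eq_one_right this).symm
    have hcomm : ∀ a b : G, a * b = b * a := fun a b => by
      have h := map_mul α a b
      rw [hc, hc, hc, mul_inv_rev] at h
      calc a * b = ((b⁻¹ * a⁻¹))⁻¹ := by group
        _ = (a⁻¹ * b⁻¹)⁻¹ := by rw [h]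
        _ = b * a := by group
    letI : CommGroup G := { (inferInstance : Group G) with mul_comm := hcomm }
    exact CommGroup.isNilpotent
  · exact kegel_aux h2 _ G rfl α (pow_orderOf_eq_one α) hsp

end Cfsg.Agent.S3946
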