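import Cfsg.Statements.S3949

set_option autoImplicit false
open Cfsg

namespace Cfsg.Agent.S3949

/-- Let G be a finite group and α an automorphism of G of order 2 such that the elements g·α(g)⁻¹ generate G. Let j be a positive integer such that 2^j divides the order of no element inverted by α. Then the set of values of the j-th iterate of the map c ↦ c·α(c)⁻¹ is exactly the set of elements of odd order inverted by α. -/
theorem result {G : Type*} [Group G] [Finite G] (α : MulAut G) (hα : orderOf α = 2) (hG : Subgroup.closure (Set.range (fun c : G => c * (α c)⁻¹)) = ⊤)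
    (j : ℕ) (hj : ∀ g : G, α g = g⁻¹ → ¬ 2 ^ j ∣ orderOf g) :
    Set.range ((fun c : G => c * (α c)⁻¹)^[j]) = {g : G | Odd (orderOf g) ∧ α g = g⁻¹} := by
  have hinv : ∀ c : G, α (c * (α c)⁻¹) = (c * (α c)⁻¹)⁻¹ := by
    intro c
    have h2 : α (α c) = c := by
      rw [← MulAut.mul_apply, ← sq, ← hα, pow_orderOf_eq_one, MulAut.one_apply]
    rw [map_mul, map_inv, h2, mul_inv_rev, inv_inv]
  have hfix : ∀ g : G, α g = g⁻¹ → ∀ m, (fun c : G => c * (α c)⁻¹)^[m] g = g ^ 2 ^ m := by
    intro g hg m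
    induction m with
    | zero => simp
    | succ m ih =>
      rw [Function.iterate_succ_apply', ih]
      show g ^ 2 ^ m * (α (g ^ 2 ^ m))⁻¹ = g ^ 2 ^ (m + 1)
      rw [map_pow, hg, inv_pow, inv_inv, ← pow_add, ← two_mul, pow_succ, mul_comm]
  obtain ⟨j, rfl⟩ : ∃ k, j = k + 1 := ⟨j - 1, by
    have := hj 1 (by simp)
    rw [orderOf_one] at this
    rcases j with _ | j
    · exact absurd (by simp) this
    · rfl⟩
  ext g
  constructor
  · rintro ⟨c, rfl⟩
    rw [Function.iterate_succ_apply, hfix _ (hinv c)]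
    set u := c * (α c)⁻¹ with hu
    refine ⟨?_, by rw [map_pow, hinv c, inv_pow]⟩
    obtain ⟨k, m, hm, hkm⟩ := Nat.exists_eq_two_pow_mul_odd (orderOf_pos u).ne'
    have hkj : k ≤ j := by
      by_contra hkj
      exact hj u (hinv c) ((pow_dvd_pow 2 (not_le.1 hkj)).trans (hkm ▸ dvd_mul_right _ _))
    have : orderOf (u ^ 2 ^ j) ∣ m := by
      rw [orderOf_dvd_iff_pow_eq_one, ← pow_mul, ← orderOf_dvd_iff_pow_eq_one, hkm]
      exact mul_dvd_mul_right (pow_dvd_pow 2 hkj) m
    exact hm.of_dvd_nat this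
  · rintro ⟨hodd, hg⟩
    obtain ⟨r, hr⟩ := exists_pow_eq_self_of_coprime
      (Nat.Coprime.pow_left (j + 1) (Nat.coprime_two_left.2 hodd))
    refine ⟨g ^ r, ?_⟩
    rw [hfix _ (by rw [map_pow, hg, inv_pow]), ← pow_mul, mul_comm, pow_mul, hr]

end Cfsg.Agent.S3949
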