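import Cfsg.Statements.S3950
import Cfsg.Agent.Lib.PGroup.BilExt
import Cfsg.Agent.Lib.Transfer.CyclicMaximal

set_option autoImplicit false
open Cfsg

namespace Cfsg.Agent.S3950

/-- Two dual pairs in a group of exponent `p` of order at least `p ^ 2`. -/
theorem exists_two_functionals_aux {p : ℕ} [hp : Fact p.Prime] {M : Type*} [AddCommGroup M] [Finite M]
    [Module (ZMod p) M] (hc : p ^ 2 ≤ Nat.card M) :
    ∃ (f g : M →+ ZMod p) (x y : M), f x = 1 ∧ g x = 0 ∧ f y = 0 ∧ g y = 1 := by
  let b := Module.finBasis (ZMod p) M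
  have h2 : 2 ≤ Module.finrank (ZMod p) M := by
    have h := Module.natCard_eq_pow_finrank (K := ZMod p) (V := M)
    rw [Nat.card_zmod] at h
    rw [h] at hc
    exact (Nat.pow_le_pow_iff_right hp.out.one_lt).1 hc
  refine ⟨(b.coord ⟨0, by omega⟩).toAddMonoidHom, (b.coord ⟨1, by omega⟩).toAddMonoidHom,
    b ⟨0, by omega⟩, b ⟨1, by omega⟩, ?_, ?_, ?_, ?_⟩ <;> simp

theorem exists_two_functionals {p : ℕ} [Fact p.Prime] {M : Type*} [AddCommGroup M] [Finite M]
    (he : ∀ x : M, p • x = 0) (hc : p ^ 2 ≤ Nat.card M) :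
    ∃ (f g : M →+ ZMod p) (x y : M), f x = 1 ∧ g x = 0 ∧ f y = 0 ∧ g y = 1 :=
  let _inst : Module (ZMod p) M := AddCommGroup.zmodModule (n := p) (G := M) he
  exists_two_functionals_aux hc

/-- A finite abelian group has trivial Schur multiplier if and only if it is cyclic. -/
theorem result {G : Type*} [CommGroup G] [Finite G] : Cfsg.HasCyclicSchurMultiplier G 1 ↔ IsCyclic G := by
  classical
  constructor
  · rintro ⟨-, huniv⟩
    by_contra hnc
    -- a prime with noncyclic Sylow subgroup
    obtain ⟨p, hp, P, hP⟩ : ∃ p : ℕ, p.Prime ∧ ∃ P : Sylow p G, ¬ IsCyclic P := by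
      by_contra! h
      haveI : IsZGroup G := ⟨fun p hp P => h p hp P⟩
      haveI : Group.IsNilpotent G := CommGroup.isNilpotent
      exact hnc inferInstance
    haveI := Fact.mk hp
    set R : Subgroup G := (powMonoidHom p : G →* G).range
    set Ω : Subgroup G := (powMonoidHom p : G →* G).ker
    have hΩ : p ^ 2 ≤ Nat.card Ω := by
      obtain ⟨k, hk⟩ := IsPGroup.iff_card.1
        (show IsPGroup p Ω from fun x => ⟨1, Subtype.ext (by rw [pow_one, Subgroup.coe_pow, Subgroup.coe_one]; exact x.2)⟩)
      have hk2 : 2 ≤ k := by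
        by_contra hk2
        refine hP ?_
        haveI := CfsgLib.Transfer.isCyclic_of_omega_le (p := p) (G := (P : Subgroup G)) P.isPGroup'
          (A := ⊤) (fun a _ b _ => mul_comm a b) ?_
        · exact isCyclic_of_surjective _ (Subgroup.topEquiv (G := (P : Subgroup G))).surjective
        · refine le_trans ?_ ((le_of_eq hk).trans ((Nat.pow_le_pow_right hp.pos (by omega : k ≤ 1)).trans (pow_one p).le))
          have hle : (Cfsg.omegaOne p (⊤ : Subgroup (P : Subgroup G))).map (P : Subgroup G).subtype ≤ Ω := by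
            rw [Subgroup.map_le_iff_le_comap]
            refine (Subgroup.closure_le _).2 fun x hx => ?_
            show ((x : (P : Subgroup G)) : G) ^ p = 1
            exact congrArg Subtype.val hx.2
          rw [← Subgroup.card_map_of_injective (P : Subgroup G).subtype_injective]
          exact Subgroup.card_le_of_le hle
      rw [hk]
      exact Nat.pow_le_pow_right hp.pos hk2
    have hQ : Nat.card (G ⧸ R) = Nat.card Ω := by
      rw [← Subgroup.index_eq_card]
      have h1 := R.card_mul_index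
      rw [← Subgroup.card_mul_index Ω, Subgroup.index_ker, mul_comm (Nat.card Ω)] at h1
      exact Nat.eq_of_mul_eq_mul_left Nat.card_pos h1
    obtain ⟨f0, g0, x0, y0, hfx, hgx, hfy, hgy⟩ := exists_two_functionals (p := p) (M := Additive (G ⧸ R))
      (fun x => by
        obtain ⟨v, hv⟩ := QuotientGroup.mk_surjective (Additive.toMul x)
        apply Additive.toMul.injective
        rw [toMul_nsmul, toMul_zero, ← hv]
        exact (QuotientGroup.eq_one_iff _).2 ⟨v, rfl⟩)
      (by rw [← Nat.card_congr (Additive.ofMul (α := G ⧸ R)), hQ]; exact hΩ)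
    let coord : (Additive (G ⧸ R) →+ ZMod p) → G →* Multiplicative (ZMod p) := fun f =>
      MonoidHom.mk' (fun x => Multiplicative.ofAdd (f (Additive.ofMul (x : G ⧸ R))))
        (fun x y => by simp [ofMul_mul])
    obtain ⟨x, hx⟩ := QuotientGroup.mk_surjective (s := R) x0.toMul
    obtain ⟨y, hy⟩ := QuotientGroup.mk_surjective (s := R) y0.toMul
    haveI : NeZero p := ⟨hp.ne_zero⟩
    obtain ⟨Γ, iΓ, fΓ, σ, hσ, ⟨e⟩⟩ := CfsgLib.PGroup.exists_stem_bilExt p (coord f0) (coord g0)
      x y (by simp [coord, hx, hfx]) (by simp [coord, hx, hgx]) (by simp [coord, hy, hfy]) (by simp [coord, hy, hgy])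
    obtain ⟨π, hπ⟩ := huniv Γ σ hσ
    have hle := Nat.card_le_card_of_surjective π hπ
    rw [Nat.card_congr e.toEquiv, Nat.card_congr Multiplicative.toAdd, Nat.card_zmod,
      Nat.card_congr Multiplicative.toAdd, Nat.card_zmod] at hle
    exact absurd hle (not_le.2 hp.one_lt)
  · intro hc
    refine ⟨⟨G, inferInstance, inferInstance, MonoidHom.id _, ⟨fun x => ⟨x, rfl⟩, by simp, by simp⟩, ⟨?_⟩⟩, ?_⟩
    · have hs : Subsingleton (MonoidHom.id G).ker := ⟨fun u v => Subtype.ext (by
        have hu : (u : G) = 1 := u.2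
        have hv : (v : G) = 1 := v.2
        rw [hu, hv])⟩
      exact { toFun := fun _ => 1, invFun := fun _ => 1, left_inv := fun _ => Subsingleton.elim _ _,
              right_inv := fun _ => Subsingleton.elim _ _, map_mul' := fun _ _ => (one_mul _).symm }
    intro Γ _ _ σ hσ
    obtain ⟨a, ha⟩ := hc.exists_generator
    exact CfsgLib.PGroup.exists_surjective_ker_of_pair σ hσ a 1
      (fun x => by obtain ⟨i, hi⟩ := ha x; exact ⟨i, 0, by simpa using hi.symm⟩) 1 (by simp)

end Cfsg.Agent.S3950
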