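import Cfsg.Statements.S3951
import Cfsg.Agent.Lib.PGroup.BilExt

set_option autoImplicit false
open Cfsg

namespace Cfsg.Agent.S3951

/-- For positive integers `m` and `n` with `n` dividing `m`, the Schur multiplier of the abelian group `ZMod m × ZMod n` (written multiplicatively) is cyclic of order `n`. In particular the elementary abelian group of order `p ^ 2` has multiplier of order `p`. -/
theorem result (m n : ℕ) [NeZero m] [NeZero n] (hnm : n ∣ m) : Cfsg.HasCyclicSchurMultiplier (Multiplicative (ZMod m × ZMod n)) n := by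
  let f : Multiplicative (ZMod m × ZMod n) →* Multiplicative (ZMod n) :=
    ((ZMod.castHom hnm (ZMod n)).toAddMonoidHom.comp (AddMonoidHom.fst (ZMod m) (ZMod n))).toMultiplicative
  let g : Multiplicative (ZMod m × ZMod n) →* Multiplicative (ZMod n) :=
    (AddMonoidHom.snd (ZMod m) (ZMod n)).toMultiplicative
  refine ⟨CfsgLib.PGroup.exists_stem_bilExt n f g (Multiplicative.ofAdd (1, 0)) (Multiplicative.ofAdd (0, 1))
    ?_ ?_ ?_ ?_, fun Γ _ _ σ hσ => ?_⟩
  · simp [f, ZMod.cast_one hnm]
  · simp [g]
  · simp [f]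
  · simp [g]
  · refine CfsgLib.PGroup.exists_surjective_ker_of_pair σ hσ (Multiplicative.ofAdd (1, 0))
      (Multiplicative.ofAdd (0, 1)) (fun a => ⟨(a.toAdd.1.val : ℤ), (a.toAdd.2.val : ℤ), ?_⟩) n ?_
    · apply Multiplicative.toAdd.injective
      refine Prod.ext ?_ ?_ <;> simp
    · apply Multiplicative.toAdd.injective
      refine Prod.ext ?_ ?_ <;> simp

end Cfsg.Agent.S3951
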