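import Cfsg.Statements.S3952
import Cfsg.Agent.Lib.Char.Ito
import Cfsg.Agent.Lib.Char.ProjExt
import Cfsg.Agent.Lib.Char.Regular

set_option autoImplicit false
open Cfsg

namespace Cfsg.Agent.S3952

open scoped commutatorElement

theorem scalar_of_central {Γ : Type*} [Group Γ] {n : ℕ} (ρ : Representation ℂ Γ (Fin n → ℂ))
    [ρ.IsIrreducible] (k : Γ) (hk : ∀ g : Γ, g * k = k * g) :
    ∃ c : ℂˣ, ρ k = (c : ℂ) • LinearMap.id := by
  obtain ⟨c, hc⟩ := CfsgLib.Char.exists_eq_smul_id ρ (ρ k) fun g => by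
    rw [← Module.End.mul_eq_comp, ← Module.End.mul_eq_comp, ← map_mul, ← map_mul, hk]
  refine ⟨Units.mk0 c fun h0 => ?_, hc⟩
  have h1 : ρ k * ρ k⁻¹ = 1 := by rw [← map_mul, mul_inv_cancel, map_one]
  rw [hc, h0, zero_smul, zero_mul] at h1
  have hn := CfsgLib.Char.finrank_pos_of_irreducible ρ
  simp only [Module.finrank_pi, Fintype.card_fin] at hn
  have := congrArg (fun T : Module.End ℂ (Fin n → ℂ) => T (fun _ => (1 : ℂ)) ⟨0, hn⟩) h1
  simp at this

theorem exponent_sq_dvd_index {Γ : Type*} [Group Γ] [Finite Γ] (K : Subgroup Γ)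
    (hc : K ≤ Subgroup.center Γ) (hd : K ≤ commutator Γ) : Monoid.exponent K ^ 2 ∣ K.index := by
  classical
  haveI := Fintype.ofFinite Γ
  haveI := Fintype.ofFinite K
  have hKc : ∀ k ∈ K, ∀ g : Γ, g * k = k * g := fun k hk g => Subgroup.mem_center_iff.1 (hc hk) g
  letI : CommGroup K := { (inferInstance : Group K) with
    mul_comm := fun a b => Subtype.ext (hKc b b.2 a) }
  obtain ⟨z, hz⟩ := Monoid.exists_orderOf_eq_exponent (G := K) Monoid.ExponentExists.of_finite
  set e := Monoid.exponent K with he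
  have he0 : e ≠ 0 := Monoid.exponent_ne_zero_of_finite
  have hζ := Complex.isPrimitiveRoot_exp e he0
  set ζ : ℂˣ := hζ.toRootsOfUnity.1 with hζdef
  have hζval : (ζ : ℂ) = Complex.exp (2 * Real.pi * Complex.I / e) := rfl
  have hζord : orderOf ζ = e := by
    rw [← orderOf_units, hζval]; exact hζ.eq_orderOf.symm
  let μ : Subgroup.zpowers z →* ℂˣ :=
    monoidHomOfForallMemZpowers (g := (⟨z, Subgroup.mem_zpowers z⟩ : Subgroup.zpowers z))
      (fun x => by
        obtain ⟨j, hj⟩ := Subgroup.mem_zpowers_iff.1 x.2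
        exact Subgroup.mem_zpowers_iff.2 ⟨j, Subtype.ext hj⟩)
      (g' := ζ) (by rw [Subgroup.orderOf_mk, hz, hζord])
  obtain ⟨lam, hlam⟩ := MonoidHom.domRestrict_surjective (G := K) (M := ℂ) (Subgroup.zpowers z) μ
  have hlz : lam z = ζ := by
    have := DFunLike.congr_fun hlam ⟨z, Subgroup.mem_zpowers z⟩
    simpa [μ, monoidHomOfForallMemZpowers_apply_gen] using this
  let Lies : Cfsg.IrrCharacter Γ → Prop := fun χ => ∀ k : K, χ.1 k = χ.1 1 * (lam k : ℂ)
  have hinner : ∀ χ : Cfsg.IrrCharacter Γ, (∑ k : K, ((lam k : ℂ))⁻¹ * (χ.1 1 * χ.1 k)) =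
      if Lies χ then (Nat.card K : ℂ) * χ.1 1 ^ 2 else 0 := by
    intro χ
    split_ifs with h
    · rw [Finset.sum_congr rfl fun k _ => show (lam k : ℂ)⁻¹ * (χ.1 1 * χ.1 k) = χ.1 1 ^ 2 by
          rw [h k, ← mul_assoc (χ.1 1), ← sq, mul_comm (χ.1 1 ^ 2), ← mul_assoc, inv_mul_cancel₀ (lam k).ne_zero, one_mul],
        Finset.sum_const, Finset.card_univ, ← Nat.card_eq_fintype_card, nsmul_eq_mul]
    · obtain ⟨n, ρ, hρ, hχ⟩ := χ.2
      haveI := hρ
      have hsc : ∀ k : K, ∃ c : ℂˣ, ρ (k : Γ) = (c : ℂ) • LinearMap.id := fun k =>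
        scalar_of_central ρ (k : Γ) (hKc k k.2)
      choose c hc' using hsc
      have hn : n ≠ 0 := by
        have := CfsgLib.Char.finrank_pos_of_irreducible ρ
        simp only [Module.finrank_pi, Fintype.card_fin] at this
        omega
      have hχk : ∀ k : K, χ.1 k = (n : ℂ) * (c k : ℂ) := fun k => by
        rw [← hχ, Representation.character, hc', map_smul, LinearMap.trace_id, Module.finrank_pi, Fintype.card_fin, smul_eq_mul, mul_comm]
      have hχ1 : χ.1 1 = n := by rw [← hχ, Representation.char_one, Module.finrank_pi, Fintype.card_fin]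
      let C : K →* ℂˣ := MonoidHom.mk' c fun a b => Units.ext (by
        have h0 := hχk (a * b)
        have hprod : ρ ((a * b : K) : Γ) = ((c a : ℂ) * c b) • LinearMap.id := by
          rw [Subgroup.coe_mul, map_mul, hc', hc', Module.End.mul_eq_comp, LinearMap.smul_comp, LinearMap.id_comp, smul_smul]
        have h1 : χ.1 ((a * b : K) : Γ) = (n : ℂ) * ((c a : ℂ) * c b) := by
          rw [← hχ, Representation.character, hprod, map_smul, LinearMap.trace_id, Module.finrank_pi, Fintype.card_fin, smul_eq_mul, mul_comm]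
        exact mul_left_cancel₀ (Nat.cast_ne_zero.2 hn) (h0.symm.trans h1))
      have hne : (lam⁻¹ * C : K →* ℂˣ) ≠ 1 := fun hh => h fun k => by
        rw [hχk, hχ1]
        congr 1
        exact congrArg Units.val (inv_mul_eq_one.1 (DFunLike.congr_fun hh k)).symm
      have hsum := sum_hom_units_eq_zero ((Units.coeHom ℂ).comp (lam⁻¹ * C)) (fun hh => hne (MonoidHom.ext fun k => Units.ext (DFunLike.congr_fun hh k)))
      rw [Finset.sum_congr rfl fun k _ => show (lam k : ℂ)⁻¹ * (χ.1 1 * χ.1 k) =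
        (n : ℂ) ^ 2 * (((Units.coeHom ℂ).comp (lam⁻¹ * C)) k) by
          rw [hχ1, hχk]; simp [C]; ring, ← Finset.mul_sum, hsum, mul_zero]
  have htot : ∑ χ : Cfsg.IrrCharacter Γ, (if Lies χ then (Nat.card K : ℂ) * χ.1 1 ^ 2 else 0) = (Nat.card Γ : ℂ) := by
    rw [← Finset.sum_congr rfl fun χ _ => hinner χ, Finset.sum_comm]
    simp only [← Finset.mul_sum, CfsgLib.Char.sum_degree_mul_apply]
    rw [Finset.sum_eq_single (1 : K)]
    · simp
    · intro k _ hk
      rw [if_neg (fun h => hk (Subtype.ext (by simpa using h))), mul_zero]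
    · simp
  have hdeg : ∀ χ : Cfsg.IrrCharacter Γ, Lies χ → ∃ m : ℕ, χ.1 1 = ((e * m : ℕ) : ℂ) := by
    intro χ h
    obtain ⟨n, ρ, hρ, hχ⟩ := χ.2
    haveI := hρ
    have hχ1 : χ.1 1 = n := by rw [← hχ, Representation.char_one, Module.finrank_pi, Fintype.card_fin]
    obtain ⟨c, hρz⟩ := scalar_of_central ρ (z : Γ) (hKc z z.2)
    have hn : n ≠ 0 := by
      have := CfsgLib.Char.finrank_pos_of_irreducible ρ
      simp only [Module.finrank_pi, Fintype.card_fin] at this
      omega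
    have hcz : (c : ℂ) = (ζ : ℂ) := by
      have h1 := h z
      rw [hlz, hχ1, ← hχ, Representation.character, hρz, map_smul, LinearMap.trace_id, Module.finrank_pi, Fintype.card_fin, smul_eq_mul, mul_comm] at h1
      exact mul_left_cancel₀ (Nat.cast_ne_zero.2 hn) h1
    let δ : Γ →* ℂˣ := (Units.map (LinearMap.det : Module.End ℂ (Fin n → ℂ) →* ℂ)).comp ρ.toHomUnits
    have hδ : δ z = 1 := Abelianization.commutator_subset_ker δ (hd z.2)
    have hpow : ζ ^ n = 1 := by
      have h1 := congrArg Units.val hδ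
      simp only [δ, MonoidHom.comp_apply, Units.coe_map] at h1
      rw [show ((ρ.toHomUnits (z : Γ)) : Module.End ℂ (Fin n → ℂ)) = ρ (z : Γ) from rfl, hρz] at h1
      refine Units.ext ?_
      rw [Units.val_pow_eq_pow_val, ← hcz]
      simpa [LinearMap.det_smul] using h1
    obtain ⟨m, hm⟩ := hζord ▸ orderOf_dvd_of_pow_eq_one hpow
    exact ⟨m, by rw [hχ1, hm]⟩
  choose m hm using hdeg
  have hfin : (Nat.card Γ : ℂ) = ((Nat.card K * (e ^ 2 * ∑ χ : {χ // Lies χ}, m χ.1 χ.2 ^ 2) : ℕ) : ℂ) := by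
    rw [← htot, ← Finset.sum_filter, Finset.sum_subtype (p := Lies) _ (fun χ => by simp)]
    push_cast
    rw [Finset.mul_sum, Finset.mul_sum]
    refine Finset.sum_congr rfl fun χ _ => ?_
    rw [hm χ.1 χ.2]
    push_cast
    ring
  have hn := Nat.cast_injective hfin
  rw [← K.card_mul_index] at hn
  exact Dvd.intro _ (Nat.eq_of_mul_eq_mul_left Nat.card_pos hn).symm

/-- If `A` is the Schur multiplier of the finite group `Q`, then the square of the exponent of `A` divides the order of `Q`. -/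
theorem result {Q : Type*} [Group Q] [Finite Q] {A : Type*} [CommGroup A] (hA : Cfsg.HasSchurMultiplier Q A) : Monoid.exponent A ^ 2 ∣ Nat.card Q := by
  obtain ⟨⟨Γ, iG, iF, σ, ⟨hsurj, hcen, hder⟩, ⟨iso⟩⟩, -⟩ := hA
  rw [← Monoid.exponent_eq_of_mulEquiv iso]
  have h := exponent_sq_dvd_index σ.ker hcen hder
  rwa [Subgroup.index_ker, MonoidHom.range_eq_top.2 hsurj, Subgroup.card_top] at h

end Cfsg.Agent.S3952
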