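import Cfsg.Statements.S3953
import Cfsg.Agent.Lib.Schur.Transfer

set_option autoImplicit false
open Cfsg

namespace Cfsg.Agent.S3953

/-- Let `P` be a Sylow `p`-subgroup of the finite group `G`, let `A` be the Schur multiplier of `G` and `B` that of `P`. Then the `p`-primary component of `A` is isomorphic to a direct factor of `B`: there are subgroups `C` and `D` of `B` meeting trivially and generating `B`, with `C` isomorphic to the `p`-primary component of `A`. -/
theorem result {G : Type*} [Group G] [Finite G] (p : ℕ) [Fact p.Prime] (P : Sylow p G) {A B : Type*} [CommGroup A] [CommGroup B] (hA : Cfsg.HasSchurMultiplier G A) (hB : Cfsg.HasSchurMultiplier P B) : ∃ C D : Subgroup B, C ⊓ D = ⊥ ∧ C ⊔ D = ⊤ ∧ Nonempty (CommGroup.primaryComponent A p ≃* C) := by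
  open Subgroup CfsgLib.Schur in
  have hπ := taut_surjective G
  have hπU := taut_surjective (P : Subgroup G)
  haveI := finite_mult hπ
  obtain ⟨f, τ, hfτ⟩ := exists_res_transfer hπ (P : Subgroup G) hπU
  obtain ⟨eA⟩ := nonempty_mult_equiv hπ hA
  obtain ⟨eB⟩ := nonempty_mult_equiv hπU hB
  haveI : Finite A := Finite.of_equiv _ eA.toEquiv
  have hp : p.Prime := Fact.out
  set m := (P : Subgroup G).index
  obtain ⟨a, r, hr, har⟩ := Nat.exists_eq_pow_mul_and_not_dvd (Nat.card_pos (α := A)).ne' p hp.ne_one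
  set pA := CommGroup.primaryComponent A p
  have hmem : ∀ x : A, x ^ r ∈ pA := by
    intro x
    have h1 : orderOf (x ^ r) ∣ p ^ a := orderOf_dvd_of_pow_eq_one (by
      rw [← pow_mul, mul_comm, ← har, pow_card_eq_one'])
    obtain ⟨i, -, hi⟩ := (Nat.dvd_prime_pow hp).1 h1
    exact ⟨i, hi ▸ pow_orderOf_eq_one _⟩
  let proj' : A →* pA := (powMonoidHom r).codRestrict pA hmem
  set t : pA →* B := (eB.toMonoidHom.comp (τ.comp eA.symm.toMonoidHom)).comp pA.subtype
  set h : B →* pA := proj'.comp (eA.toMonoidHom.comp (f.comp eB.symm.toMonoidHom))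
  have hht : ∀ x : pA, h (t x) = x ^ (m * r) := by
    intro x
    refine Subtype.ext ?_
    show eA (f (eB.symm (eB (τ (eA.symm (x : A)))))) ^ r = ((x ^ (m * r) : pA) : A)
    rw [eB.symm_apply_apply, hfτ, map_pow, eA.apply_symm_apply, ← pow_mul, Subgroup.coe_pow]
  have hcop : (Nat.card pA).Coprime (m * r) := by
    refine Nat.coprime_of_dvd fun q hq h1 h2 => ?_
    haveI := Fact.mk hq
    obtain ⟨z, hz⟩ := exists_prime_orderOf_dvd_card' q h1
    obtain ⟨i, hi⟩ : ∃ i : ℕ, (z : A) ^ p ^ i = 1 := z.2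
    rw [← orderOf_coe] at hz
    have hqp : q = p := (Nat.prime_dvd_prime_iff_eq hq hp).1
      (hq.dvd_of_dvd_pow (hz ▸ orderOf_dvd_of_pow_eq_one hi))
    subst hqp
    exact (hq.dvd_mul.1 h2).elim P.not_dvd_index hr
  have hbij : Function.Bijective (fun x : pA => x ^ (m * r)) := (powCoprime hcop).bijective
  refine ⟨t.range, h.ker, ?_, ?_, ⟨MonoidHom.ofInjective fun x y hxy => hbij.1 ?_⟩⟩
  · rw [eq_bot_iff]
    rintro _ ⟨⟨x, rfl⟩, hx⟩
    have h1 : x ^ (m * r) = 1 := by rw [← hht]; exact hx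
    rw [hbij.1 (h1.trans (one_pow _).symm), map_one]
    exact one_mem _
  · rw [eq_top_iff]
    intro b _
    obtain ⟨x, hx⟩ := hbij.2 (h b)
    rw [show b = t x * ((t x)⁻¹ * b) by group]
    refine mul_mem (mem_sup_left ⟨x, rfl⟩) (mem_sup_right ?_)
    rw [MonoidHom.mem_ker, map_mul, map_inv, hht, show x ^ (m * r) = h b from hx, inv_mul_cancel]
  · show x ^ (m * r) = y ^ (m * r)
    rw [← hht, ← hht, hxy]

end Cfsg.Agent.S3953
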