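import Cfsg.Statements.S3954
import Cfsg.Agent.Lib.Schur.Transfer

set_option autoImplicit false
open Cfsg

namespace Cfsg.Agent.S3954

/-- Let `U` be a subgroup of index `m` in the finite group `G`, let `A` be the Schur multiplier of `G` and `B` that of `U`. Then the subgroup of `m`-th powers of `A` is isomorphic to a subgroup of `B`. -/
theorem result {G : Type*} [Group G] [Finite G] (U : Subgroup G) {A B : Type*} [CommGroup A] [CommGroup B] (hA : Cfsg.HasSchurMultiplier G A) (hB : Cfsg.HasSchurMultiplier U B) : ∃ C : Subgroup B, Nonempty ((powMonoidHom U.index : A →* A).range ≃* C) := by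
  open Subgroup CfsgLib.Schur in
  have hπ := taut_surjective G
  have hπU := taut_surjective U
  haveI := finite_mult hπU
  obtain ⟨f, τ, hfτ⟩ := exists_res_transfer hπ U hπU
  obtain ⟨eA⟩ := nonempty_mult_equiv hπ hA
  obtain ⟨eB⟩ := nonempty_mult_equiv hπU hB
  haveI : Finite B := Finite.of_equiv _ eB.toEquiv
  set R := (powMonoidHom U.index : A →* A).range
  set f' : B →* A := eA.toMonoidHom.comp (f.comp eB.symm.toMonoidHom)
  have hRle : ∀ x : R, ∃ b : B, f' b = x := by
    rintro ⟨_, a, rfl⟩
    refine ⟨eB (τ (eA.symm a)), ?_⟩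
    show eA (f (eB.symm (eB (τ (eA.symm a))))) = a ^ U.index
    rw [eB.symm_apply_apply, hfτ, map_pow, eA.apply_symm_apply]
  -- the preimage of `R` surjects onto it
  set B' := R.comap f'
  set h : B' →* R := (f'.comp B'.subtype).codRestrict R fun b => b.2
  have hh : Function.Surjective h := fun x => by
    obtain ⟨b, hb⟩ := hRle x
    exact ⟨⟨b, by show f' b ∈ R; rw [hb]; exact x.2⟩, Subtype.ext hb⟩
  haveI : Finite R := Finite.of_surjective h hh
  haveI : NeZero (Monoid.exponent B') := ⟨Monoid.exponent_ne_zero_of_finite⟩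
  haveI : NeZero (Monoid.exponent R) := ⟨Monoid.exponent_ne_zero_of_finite⟩
  obtain ⟨eB'⟩ := CommGroup.monoidHom_mulEquiv_of_hasEnoughRootsOfUnity B' ℂ
  obtain ⟨eR⟩ := CommGroup.monoidHom_mulEquiv_of_hasEnoughRootsOfUnity R ℂ
  let g : (R →* ℂˣ) →* (B' →* ℂˣ) :=
    { toFun := fun χ => χ.comp h
      map_one' := rfl
      map_mul' := fun χ χ' => rfl }
  have hg : Function.Injective g := fun χ χ' hχ => MonoidHom.ext fun x => by
    obtain ⟨b, rfl⟩ := hh x
    exact DFunLike.congr_fun hχ b
  refine ⟨((B'.subtype.comp eB'.toMonoidHom).comp (g.comp eR.symm.toMonoidHom)).range,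
    ⟨MonoidHom.ofInjective ?_⟩⟩
  exact (B'.subtype_injective.comp eB'.injective).comp (hg.comp eR.symm.injective)

end Cfsg.Agent.S3954
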