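import Cfsg.Statements.S3958
import Cfsg.Agent.Lib.Schur.Trivial

set_option autoImplicit false
universe u v
open Cfsg

namespace Cfsg.Agent.S3958

/-- Let `σ : Γ →* Q` be a finite stem extension of the finite group `Q` with `Γ` of trivial Schur multiplier. Then `σ` is a Schur covering group of `Q`: for every finite stem extension `τ : Δ →* Q` with `Δ` in the same universe as `Q`, the kernel of `τ` is a homomorphic image of the kernel of `σ`. -/
theorem result {Q : Type u} [Group Q] [Finite Q] {Γ : Type v} [Group Γ] [Finite Γ] (σ : Γ →* Q) (hσ : Cfsg.IsStemExtension σ) (hΓ : Cfsg.HasCyclicSchurMultiplier Γ 1) (Δ : Type u) [Group Δ] [Finite Δ] (τ : Δ →* Q) (hτ : Cfsg.IsStemExtension τ) : ∃ π : σ.ker →* τ.ker, Function.Surjective π := by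
  open Subgroup CfsgLib.Schur in
  obtain ⟨Δ₀, _, _, τ₀, φ, hτ₀, ⟨e⟩, hφ, hc⟩ := exists_cover_onto σ hσ
    (hasSchurMultiplier_mult (taut_surjective Q))
  have hkle : φ.ker ≤ τ₀.ker := fun x hx => by
    rw [MonoidHom.mem_ker, ← hc, MonoidHom.comp_apply, MonoidHom.mem_ker.1 hx, map_one]
  have hinj : Function.Injective φ := injective_of_trivial hΓ φ
    ⟨hφ, hkle.trans hτ₀.2.1, hkle.trans hτ₀.2.2⟩
  let f : τ₀.ker →* σ.ker := (φ.comp τ₀.ker.subtype).codRestrict σ.ker fun x => by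
    rw [MonoidHom.mem_ker]
    exact (DFunLike.congr_fun hc (x : Δ₀)).trans x.2
  have hf : Function.Bijective f := by
    refine ⟨fun a b h => Subtype.ext (hinj (congrArg Subtype.val h)), fun z => ?_⟩
    obtain ⟨x, hx⟩ := hφ (z : Γ)
    refine ⟨⟨x, ?_⟩, Subtype.ext hx⟩
    rw [MonoidHom.mem_ker, ← hc, MonoidHom.comp_apply, hx]
    exact z.2
  obtain ⟨g, hg⟩ := (hasSchurMultiplier_mult (taut_surjective Q)).2 Δ τ hτ
  exact ⟨g.comp (e.toMonoidHom.comp (MulEquiv.ofBijective f hf).symm.toMonoidHom),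
    hg.comp (e.surjective.comp (MulEquiv.ofBijective f hf).symm.surjective)⟩

end Cfsg.Agent.S3958
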