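import Cfsg.Statements.S3960
import Mathlib
import Cfsg.Agent.Lib.PGroup.BaerTrick

set_option autoImplicit false
universe u
open Cfsg

namespace Cfsg.Agent.S3960

open Subgroup
open scoped commutatorElement

universe v

theorem finite_commutatorSet_of_central {U : Type v} [Group U] {Q : Type v} [Group Q] [Finite Q]
    (π : U →* Q) (hker : π.ker ≤ center U) : Finite (commutatorSet U) := by
  have key : ∀ a b a' b' : U, π a = π a' → π b = π b' → ⁅a, b⁆ = ⁅a', b'⁆ := by
    intro a b a' b' ha hb
    have hz : a'⁻¹ * a ∈ center U := hker (by rw [MonoidHom.mem_ker, map_mul, map_inv, ha, inv_mul_cancel])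
    have hw : b'⁻¹ * b ∈ center U := hker (by rw [MonoidHom.mem_ker, map_mul, map_inv, hb, inv_mul_cancel])
    rw [← mul_inv_cancel_left a' a, ← mul_inv_cancel_left b' b, CfsgLib.PGroup.Baer.comm_of_center_mul' hz, CfsgLib.PGroup.Baer.comm_of_center_mul hw]
  choose s hs using fun q : π.range => q.2
  refine Set.finite_coe_iff.2 ((Set.finite_range fun x : π.range × π.range => ⁅s x.1, s x.2⁆).subset ?_)
  rintro _ ⟨a, b, rfl⟩
  exact ⟨(⟨π a, a, rfl⟩, ⟨π b, b, rfl⟩), key _ _ _ _ (hs _) (hs _)⟩

theorem map_commutator_top {U Q : Type v} [Group U] [Group Q] (π : U →* Q)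
    (hπ : Function.Surjective π) : (commutator U).map π = commutator Q := by
  rw [_root_.commutator_def, map_commutator, map_top_of_surjective π hπ, _root_.commutator_def]

theorem main {Q : Type v} [Group Q] [Finite Q] (hQ : Group.IsPerfect Q) : ∃ (G : Type v) (_ : Group G) (_ : Finite G) (π : G →* Q), Group.IsPerfect G ∧ Function.Surjective π ∧ π.ker ≤ Subgroup.center G ∧ ∀ (X : Type v) [Group X] (ξ : X →* Q), Function.Surjective ξ → ξ.ker ≤ Subgroup.center X → ∃! η : G →* X, ξ.comp η = π := by
  let f : FreeGroup Q →* Q := FreeGroup.lift id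
  have hf : Function.Surjective f := fun q => ⟨FreeGroup.of q, FreeGroup.lift_apply_of⟩
  let K : Subgroup (FreeGroup Q) := ⁅f.ker, (⊤ : Subgroup (FreeGroup Q))⁆
  haveI : K.Normal := commutator_normal _ _
  have hKle : K ≤ f.ker := commutator_le_left _ _
  let fU : FreeGroup Q ⧸ K →* Q := QuotientGroup.lift K f hKle
  have hfU : Function.Surjective fU := fun q => ⟨(FreeGroup.of q : FreeGroup Q), FreeGroup.lift_apply_of⟩
  have hkerU : fU.ker ≤ center (FreeGroup Q ⧸ K) := by
    intro c hc
    obtain ⟨a, rfl⟩ := QuotientGroup.mk_surjective c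
    refine mem_center_iff.2 fun d => ?_
    obtain ⟨b, rfl⟩ := QuotientGroup.mk_surjective d
    have h1 : ⁅b, a⁆ ∈ K := by
      rw [← commutatorElement_inv]
      exact inv_mem (commutator_mem_commutator (show a ∈ f.ker from hc) (mem_top b))
    rw [← QuotientGroup.eq_one_iff] at h1
    exact commutatorElement_eq_one_iff_mul_comm.1
      ((map_commutatorElement (QuotientGroup.mk' K) b a).symm.trans h1)
  haveI := finite_commutatorSet_of_central fU hkerU
  let π : commutator (FreeGroup Q ⧸ K) →* Q := fU.comp (commutator (FreeGroup Q ⧸ K)).subtype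
  have hπ : Function.Surjective π := by
    intro q
    have h1 : q ∈ (commutator (FreeGroup Q ⧸ K)).map fU := by
      rw [map_commutator_top fU hfU, hQ.commutator_eq_top]; exact mem_top q
    obtain ⟨g, hg, rfl⟩ := h1
    exact ⟨⟨g, hg⟩, rfl⟩
  have hkerπ : π.ker ≤ center (commutator (FreeGroup Q ⧸ K)) := fun g hg =>
    mem_center_iff.2 fun h => Subtype.ext (mem_center_iff.1 (hkerU (show fU.ker.toSubmonoid.carrier ((commutator (FreeGroup Q ⧸ K)).subtype g) from hg)) h)
  have hperf : Group.IsPerfect (commutator (FreeGroup Q ⧸ K)) := by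
    rw [Subgroup.isPerfect_iff]
    refine le_antisymm (commutator_le_left _ _) ?_
    conv_lhs => rw [_root_.commutator_def]
    refine commutator_le.2 fun a _ b _ => ?_
    obtain ⟨a', ha'⟩ := hπ (fU a)
    obtain ⟨b', hb'⟩ := hπ (fU b)
    have hz : (a' : FreeGroup Q ⧸ K)⁻¹ * a ∈ center (FreeGroup Q ⧸ K) :=
      hkerU (by rw [MonoidHom.mem_ker, map_mul, map_inv, show fU a' = fU a from ha', inv_mul_cancel])
    have hw : (b' : FreeGroup Q ⧸ K)⁻¹ * b ∈ center (FreeGroup Q ⧸ K) :=
      hkerU (by rw [MonoidHom.mem_ker, map_mul, map_inv, show fU b' = fU b from hb', inv_mul_cancel])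
    rw [← mul_inv_cancel_left (a' : FreeGroup Q ⧸ K) a, ← mul_inv_cancel_left (b' : FreeGroup Q ⧸ K) b,
      CfsgLib.PGroup.Baer.comm_of_center_mul' hz, CfsgLib.PGroup.Baer.comm_of_center_mul hw]
    exact commutator_mem_commutator a'.2 b'.2
  refine ⟨commutator (FreeGroup Q ⧸ K), inferInstance, inferInstance, π, hperf, hπ, hkerπ,
    fun X _ ξ hξ hker => ?_⟩
  choose s hs using hξ
  let φ : FreeGroup Q →* X := FreeGroup.lift s
  have hφ : ξ.comp φ = f := FreeGroup.ext_hom _ _ fun q => by simp [φ, f, hs]
  have hKφ : K ≤ φ.ker := by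
    refine commutator_le.2 fun a ha b _ => ?_
    have h1 : φ a ∈ center X := hker (by
      rw [MonoidHom.mem_ker, ← MonoidHom.comp_apply, hφ]; exact ha)
    rw [MonoidHom.mem_ker, map_commutatorElement, commutatorElement_eq_one_iff_mul_comm]
    exact (mem_center_iff.1 h1 (φ b)).symm
  let η : commutator (FreeGroup Q ⧸ K) →* X :=
    (QuotientGroup.lift K φ hKφ).comp (commutator (FreeGroup Q ⧸ K)).subtype
  have hη : ξ.comp η = π := MonoidHom.ext fun g => by
    obtain ⟨g, hg⟩ := g
    obtain ⟨a, rfl⟩ := QuotientGroup.mk_surjective g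
    exact DFunLike.congr_fun hφ a
  refine ⟨η, hη, fun η' hη' => ?_⟩
  -- two lifts agree on commutators
  have hagree : ∀ g, (η g)⁻¹ * η' g ∈ center X := fun g => hker (by
    rw [MonoidHom.mem_ker, map_mul, map_inv, ← MonoidHom.comp_apply, ← MonoidHom.comp_apply, hη, hη',
      inv_mul_cancel])
  have hle : commutator (commutator (FreeGroup Q ⧸ K)) ≤ η'.eqLocus η := by
    conv_lhs => rw [_root_.commutator_def]
    refine commutator_le.2 fun a _ b _ => ?_
    show η' ⁅a, b⁆ = η ⁅a, b⁆
    rw [map_commutatorElement, map_commutatorElement, ← mul_inv_cancel_left (η a) (η' a),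
      ← mul_inv_cancel_left (η b) (η' b), CfsgLib.PGroup.Baer.comm_of_center_mul' (hagree a),
      CfsgLib.PGroup.Baer.comm_of_center_mul (hagree b)]
  exact MonoidHom.ext fun g => hle (hperf.commutator_eq_top ▸ mem_top g)

/-- A finite perfect group `Q` has a universal central extension: a finite perfect group `G` in the universe of `Q` and a surjective homomorphism `π : G →* Q` with central kernel such that for every group `X` in that universe and every surjective homomorphism `ξ : X →* Q` with central kernel there is exactly one homomorphism `η : G →* X` with `ξ ∘ η = π`. -/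
theorem result {Q : Type u} [Group Q] [Finite Q] (hQ : Group.IsPerfect Q) : ∃ (G : Type u) (_ : Group G) (_ : Finite G) (π : G →* Q), Group.IsPerfect G ∧ Function.Surjective π ∧ π.ker ≤ Subgroup.center G ∧ ∀ (X : Type u) [Group X] (ξ : X →* Q), Function.Surjective ξ → ξ.ker ≤ Subgroup.center X → ∃! η : G →* X, ξ.comp η = π := by
  exact main hQ

end Cfsg.Agent.S3960
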