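import Cfsg.Statements.S3961
import Cfsg.Agent.Lib.Schur.Trivial

set_option autoImplicit false
universe u v
open Cfsg

namespace Cfsg.Agent.S3961

/-- Let `π : G →* Q` be a surjective homomorphism with central kernel from a finite perfect group `G` (a perfect cover of `Q`). Then `π` is universal, in the sense that every surjective homomorphism `ξ : X →* Q` with central kernel from a group `X` in the universe of `G` admits a homomorphism `η : G →* X` with `ξ ∘ η = π`, if and only if `G` has trivial Schur multiplier. -/
theorem result {G : Type u} {Q : Type v} [Group G] [Group Q] [Finite G] (hG : Group.IsPerfect G) (π : G →* Q) (hπ : Function.Surjective π) (hker : π.ker ≤ Subgroup.center G) : (∀ (X : Type u) [Group X] (ξ : X →* Q), Function.Surjective ξ → ξ.ker ≤ Subgroup.center X → ∃ η : G →* X, ξ.comp η = π) ↔ Cfsg.HasCyclicSchurMultiplier G 1 := by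
  open Subgroup CfsgLib.Schur in
  open scoped commutatorElement in
  have hperf : commutator G = ⊤ := hG.commutator_eq_top
  constructor
  · intro huniv
    refine hasCyclicSchurMultiplier_one fun Γ _ _ σ hσ => ?_
    -- the composite is again central
    have hΓ : commutator Γ = ⊤ := by
      refine eq_top_iff.2 fun c _ => ?_
      have h1 : σ c ∈ (commutator Γ).map σ := by
        rw [_root_.commutator_def, map_commutator, map_top_of_surjective σ hσ.1,
          ← _root_.commutator_def, hperf]
        exact mem_top _
      obtain ⟨d, hd, hdc⟩ := h1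
      rw [show c = d * (d⁻¹ * c) by group]
      exact mul_mem hd (hσ.2.2 (by rw [MonoidHom.mem_ker, map_mul, map_inv, hdc, inv_mul_cancel]))
    have hcen : (π.comp σ).ker ≤ center Γ := by
      intro x hx
      have hz : σ x ∈ center G := hker hx
      letI : CommGroup σ.ker := { (inferInstance : Group σ.ker) with
        mul_comm := fun a b => Subtype.ext ((mem_center_iff.1 (hσ.2.1 b.2)) a) }
      have hmem : ∀ y : Γ, ⁅x, y⁆ ∈ σ.ker := fun y => by
        rw [MonoidHom.mem_ker, map_commutatorElement, commutatorElement_eq_one_iff_mul_comm]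
        exact (mem_center_iff.1 hz (σ y)).symm
      let f : Γ →* σ.ker :=
        { toFun := fun y => ⟨⁅x, y⁆, hmem y⟩
          map_one' := Subtype.ext (by simp)
          map_mul' := fun y w => Subtype.ext (by
            show ⁅x, y * w⁆ = ⁅x, y⁆ * ⁅x, w⁆
            have hc := mem_center_iff.1 (hσ.2.1 (hmem w)) y
            calc ⁅x, y * w⁆ = ⁅x, y⁆ * (y * ⁅x, w⁆) * y⁻¹ := by
                  rw [commutatorElement_def, commutatorElement_def, commutatorElement_def]; group
              _ = _ := by rw [hc]; group) }
      rw [mem_center_iff]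
      intro y
      have := congrArg Subtype.val (hom_eq_one_of_perfect hΓ f y)
      exact (commutatorElement_eq_one_iff_mul_comm.1 this).symm
    obtain ⟨η, hη⟩ := huniv Γ (π.comp σ) (hπ.comp hσ.1) hcen
    letI : CommGroup π.ker := { (inferInstance : Group π.ker) with
      mul_comm := fun a b => Subtype.ext ((mem_center_iff.1 (hker b.2)) a) }
    have hmem : ∀ g : G, g⁻¹ * σ (η g) ∈ π.ker := fun g => by
      rw [MonoidHom.mem_ker, map_mul, map_inv]
      rw [show π (σ (η g)) = π g from DFunLike.congr_fun hη g, inv_mul_cancel]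
    let f : G →* π.ker :=
      { toFun := fun g => ⟨g⁻¹ * σ (η g), hmem g⟩
        map_one' := Subtype.ext (by simp)
        map_mul' := fun a b => Subtype.ext (by
          show (a * b)⁻¹ * σ (η (a * b)) = a⁻¹ * σ (η a) * (b⁻¹ * σ (η b))
          have hc := mem_center_iff.1 (hker (hmem a)) b⁻¹
          rw [map_mul, map_mul]
          calc (a * b)⁻¹ * (σ (η a) * σ (η b)) = b⁻¹ * (a⁻¹ * σ (η a)) * σ (η b) := by group
            _ = _ := by rw [hc]; group) }
    have hση : ∀ g, σ (η g) = g := fun g => (inv_mul_eq_one.1
      (congrArg Subtype.val (hom_eq_one_of_perfect hperf f g))).symm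
    have hηs : Function.Surjective η := by
      rw [← MonoidHom.range_eq_top, eq_top_iff]
      intro c _
      have key : commutator Γ ≤ η.range := by
        rw [_root_.commutator_def, commutator_le]
        intro a _ b _
        refine ⟨⁅σ a, σ b⁆, ?_⟩
        rw [map_commutatorElement]
        have h1 : ∀ u : Γ, ∃ z ∈ center Γ, η (σ u) = z * u := fun u =>
          ⟨η (σ u) * u⁻¹, hσ.2.1 (by rw [MonoidHom.mem_ker, map_mul, map_inv, hση, mul_inv_cancel]),
            by group⟩
        obtain ⟨z, hz, hza⟩ := h1 a
        obtain ⟨w, hw, hwb⟩ := h1 b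
        rw [hza, hwb, commutatorElement_def, commutatorElement_def]
        calc z * a * (w * b) * (z * a)⁻¹ * (w * b)⁻¹
            = z * a * (w * b) * a⁻¹ * (z⁻¹ * (w * b)⁻¹) := by group
          _ = z * a * (w * b) * a⁻¹ * ((w * b)⁻¹ * z⁻¹) := by
              rw [mem_center_iff.1 (inv_mem hz) (w * b)⁻¹]
          _ = z * (a * w) * b * a⁻¹ * (w * b)⁻¹ * z⁻¹ := by group
          _ = z * (w * a) * b * a⁻¹ * b⁻¹ * w⁻¹ * z⁻¹ := by rw [mem_center_iff.1 hw a]; group
          _ = z * w * (a * b * a⁻¹ * b⁻¹) * (z * w)⁻¹ := by group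
          _ = a * b * a⁻¹ * b⁻¹ := by
              rw [← mem_center_iff.1 (mul_mem hz hw) (a * b * a⁻¹ * b⁻¹), mul_inv_cancel_right]
      exact key (hΓ ▸ mem_top c)
    intro a b hab
    obtain ⟨u, rfl⟩ := hηs a
    obtain ⟨v, rfl⟩ := hηs b
    rw [hση, hση] at hab
    rw [hab]
  · intro htriv X _ ξ hξ hξc
    have ht := taut_surjective G
    set θ := taut G
    set P : Subgroup (G × X) := (π.comp (MonoidHom.fst G X)).eqLocus (ξ.comp (MonoidHom.snd G X))
    set s : P →* G := (MonoidHom.fst G X).comp P.subtype
    have hs : Function.Surjective s := fun g => by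
      obtain ⟨x, hx⟩ := hξ (π g)
      exact ⟨⟨(g, x), hx.symm⟩, rfl⟩
    have hsc : s.ker ≤ center P := fun z hz => by
      have h1 : (z : G × X).1 = 1 := hz
      have h2 : (z : G × X).2 ∈ center X := hξc (by
        have h3 : π (z : G × X).1 = ξ (z : G × X).2 := z.2
        rw [MonoidHom.mem_ker, ← h3, h1, map_one])
      rw [mem_center_iff]
      intro g
      refine Subtype.ext (Prod.ext ?_ (mem_center_iff.1 h2 _))
      show (g : G × X).1 * (z : G × X).1 = (z : G × X).1 * (g : G × X).1
      rw [h1, mul_one, one_mul]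
    obtain ⟨φ, hφ⟩ := exists_lift θ s hs hsc
    have hM : mult θ = ⊥ := mult_eq_bot_of_trivial ht htriv
    set pr : commutator (Ext θ) →* G := (proj θ).comp (commutator (Ext θ)).subtype
    have hbij : Function.Bijective pr := by
      refine ⟨(injective_iff_map_eq_one pr).2 fun e he => ?_, fun g => ?_⟩
      · have h1 : (e : Ext θ) ∈ mult θ := Subgroup.mem_inf.2 ⟨he, e.2⟩
        rw [hM, mem_bot] at h1
        exact Subtype.ext h1
      · have h1 : g ∈ (commutator (Ext θ)).map (proj θ) := by
          rw [_root_.commutator_def, map_commutator, map_top_of_surjective _ (proj_surjective ht),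
            ← _root_.commutator_def, hperf]
          exact mem_top _
        obtain ⟨e, he, rfl⟩ := h1
        exact ⟨⟨e, he⟩, rfl⟩
    set inv := (MulEquiv.ofBijective pr hbij).symm
    refine ⟨(MonoidHom.snd G X).comp (P.subtype.comp (φ.comp
      ((commutator (Ext θ)).subtype.comp inv.toMonoidHom))), MonoidHom.ext fun g => ?_⟩
    have h1 : π (φ (inv g : Ext θ) : G × X).1 = ξ (φ (inv g : Ext θ) : G × X).2 := (φ _).2
    have h2 : (φ (inv g : Ext θ) : G × X).1 = g :=
      (DFunLike.congr_fun hφ _).trans ((MulEquiv.ofBijective pr hbij).apply_symm_apply g)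
    rw [h2] at h1
    exact h1.symm

end Cfsg.Agent.S3961
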