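import Cfsg.Statements.S3964
import Cfsg.Agent.Lib.FGS.DihedralCover
import Mathlib.RingTheory.Coprime.Lemmas
import Mathlib.Tactic.Linarith
import Mathlib.Tactic.Ring

set_option autoImplicit false
open Cfsg

namespace Cfsg.Agent.S3964

/-- For odd `n` the dihedral group of order `2 n` has trivial Schur multiplier. -/
theorem result (n : ℕ) (hn : Odd n) : Cfsg.HasCyclicSchurMultiplier (DihedralGroup n) 1 := by
  haveI : NeZero n := ⟨hn.pos.ne'⟩
  refine ⟨⟨DihedralGroup n, inferInstance, inferInstance, MonoidHom.id _,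
    ⟨fun x => ⟨x, rfl⟩, by simp, by simp⟩, ⟨?_⟩⟩, ?_⟩
  · have hs : Subsingleton (MonoidHom.id (DihedralGroup n)).ker := ⟨fun u v => Subtype.ext (by
      have hu : (u : DihedralGroup n) = 1 := u.2
      have hv : (v : DihedralGroup n) = 1 := v.2
      rw [hu, hv])⟩
    exact { toFun := fun _ => 1, invFun := fun _ => 1, left_inv := fun _ => Subsingleton.elim _ _,
            right_inv := fun _ => Subsingleton.elim _ _, map_mul' := fun _ _ => (one_mul _).symm }
  intro Γ _ _ σ hσ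
  obtain ⟨C, hCn, hC⟩ := CfsgLib.FGS.dihedral_stem_ker σ hσ
  refine ⟨1, fun y => ⟨1, Subtype.ext ?_⟩⟩
  obtain ⟨m, hm, hdvd⟩ := hC y y.2
  have hco : IsCoprime (n : ℤ) 2 := by
    rw [show (2 : ℤ) = ((2 : ℕ) : ℤ) by rfl, Nat.isCoprime_iff_coprime]
    exact (Nat.coprime_two_right).2 hn
  obtain ⟨r, rfl⟩ := hco.dvd_of_dvd_mul_left hdvd
  show (1 : Γ) = y
  rw [← hm, zpow_mul, zpow_natCast, hCn, one_zpow]

end Cfsg.Agent.S3964
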