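import Cfsg.Statements.S3965
import Cfsg.Agent.Lib.FGS.DihedralCover
import Mathlib.RingTheory.Coprime.Lemmas
import Mathlib.Tactic.Linarith
import Mathlib.Tactic.Ring

set_option autoImplicit false
open Cfsg

namespace Cfsg.Agent.S3965

/-- For even `n ≥ 2` the dihedral group of order `2 n` has Schur multiplier cyclic of order `2`. -/
theorem result (n : ℕ) [NeZero n] (hn : Even n) : Cfsg.HasCyclicSchurMultiplier (DihedralGroup n) 2 := by
  haveI : Finite (QuaternionGroup n) := inferInstance
  refine ⟨⟨QuaternionGroup n, inferInstance, inferInstance, CfsgLib.FGS.dicyclicToDihedral n,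
    CfsgLib.FGS.dicyclicToDihedral_isStemExtension n hn, ?_⟩, ?_⟩
  · haveI : IsCyclic (CfsgLib.FGS.dicyclicToDihedral n).ker :=
      isCyclic_of_prime_card (p := 2) (CfsgLib.FGS.dicyclicToDihedral_card_ker n)
    haveI : IsCyclic (Multiplicative (ZMod 2)) := inferInstance
    exact ⟨mulEquivOfCyclicCardEq (by
      rw [CfsgLib.FGS.dicyclicToDihedral_card_ker n, Nat.card_congr Multiplicative.toAdd, Nat.card_zmod])⟩
  intro Γ _ _ σ hσ
  obtain ⟨C, hCn, hC⟩ := CfsgLib.FGS.dihedral_stem_ker σ hσ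
  obtain ⟨j, rfl⟩ := hn
  set D := C ^ (j : ℤ) with hD
  have hDD : D * D = 1 := by rw [hD, ← zpow_add, ← Nat.cast_add, zpow_natCast, hCn]
  have hcases : ∀ k ∈ σ.ker, k = 1 ∨ k = D := by
    intro k hk
    obtain ⟨m, hm, r, hr⟩ := hC k hk
    have hmr : m = j * r := by push_cast at hr; linarith
    rcases Int.even_or_odd r with ⟨s, hs⟩ | ⟨s, hs⟩
    · left
      rw [← hm, hmr, hs, show (j : ℤ) * (s + s) = ((j + j : ℕ) : ℤ) * s by push_cast; ring,
        zpow_mul, zpow_natCast, hCn, one_zpow]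
    · right
      rw [← hm, hmr, hs, show (j : ℤ) * (2 * s + 1) = ((j + j : ℕ) : ℤ) * s + j by push_cast; ring,
        zpow_add, zpow_mul, zpow_natCast, hCn, one_zpow, one_mul, ← hD]
  by_cases hDk : D ∈ σ.ker
  · have hg : ∀ u v : Multiplicative (ZMod 2), u = 1 ∨ u = v ∨ v = 1 := by decide
    refine ⟨MonoidHom.mk' (fun u => if u = 1 then 1 else ⟨D, hDk⟩) ?_, fun y => ?_⟩
    · intro u v
      rcases hg u v with rfl | rfl | rfl
      · simp
      · have huu : u * u = 1 := by revert u; decide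
        by_cases h : u = 1
        · simp [h]
        · rw [if_pos huu, if_neg h]
          exact Subtype.ext hDD.symm
      · simp
    · rcases hcases y y.2 with h | h
      · exact ⟨1, by simp [Subtype.ext_iff, h]⟩
      · exact ⟨Multiplicative.ofAdd 1, by
          rw [MonoidHom.mk'_apply, if_neg (by decide)]; exact Subtype.ext h.symm⟩
  · refine ⟨1, fun y => ⟨1, Subtype.ext ?_⟩⟩
    rcases hcases y y.2 with h | h
    · exact h.symm
    · exact absurd (h ▸ y.2) hDk

end Cfsg.Agent.S3965
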