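import Cfsg.Statements.S3967
import Cfsg.Agent.Lib.Schur.Metacyclic

set_option autoImplicit false
open Cfsg

namespace Cfsg.Agent.S3967

/-- Let `m, n ≥ 1`, `r ≥ 1` with `r ^ n ≡ 1 (mod m)`, and `l` a natural number; put `d = gcd(m, r - 1)`, `t = m l / d` and `h = d · gcd(m, 1 + r + ⋯ + r^(n-1)) / m`. The group presented by generators `a, b` and relations `a ^ m = 1`, `b ^ n = a ^ t`, `b a b⁻¹ = a ^ r` (a metacyclic group of order `m n`) has Schur multiplier cyclic of order `gcd(l, h)`. -/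
theorem result (m n r l : ℕ) (hm : 0 < m) (hn : 0 < n) (hr : 0 < r) (hrn : r ^ n ≡ 1 [MOD m]) : Cfsg.HasCyclicSchurMultiplier (PresentedGroup ({FreeGroup.of true ^ m, (FreeGroup.of false) ^ n * (FreeGroup.of true ^ (m * l / Nat.gcd m (r - 1)))⁻¹, FreeGroup.of false * FreeGroup.of true * (FreeGroup.of false)⁻¹ * (FreeGroup.of true ^ r)⁻¹} : Set (FreeGroup Bool))) (Nat.gcd l (Nat.gcd m (r - 1) * Nat.gcd m (∑ i ∈ Finset.range n, r ^ i) / m)) := by
  open Subgroup CfsgLib.Schur in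
  set g := Nat.gcd m (r - 1) with hg
  set t := m * l / g with ht
  set S := ∑ i ∈ Finset.range n, r ^ i with hSdef
  set d := Nat.gcd l (g * Nat.gcd m S / m) with hd
  obtain ⟨r₁, hr₁⟩ := Nat.gcd_dvd_right m (r - 1)
  obtain ⟨m₁, hm₁⟩ := Nat.gcd_dvd_left m (r - 1)
  rw [← hg] at hr₁ hm₁
  have hg0 : 0 < g := Nat.gcd_pos_of_pos_left _ hm
  have hm₁0 : 0 < m₁ := Nat.pos_of_ne_zero fun h => by rw [h, mul_zero] at hm₁; omega
  have hcop : Nat.Coprime r₁ m₁ := by
    have h1 : g * Nat.gcd m₁ r₁ = g * 1 := by rw [← Nat.gcd_mul_left, ← hm₁, ← hr₁, mul_one, hg]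
    exact (Nat.Coprime.symm (Nat.eq_of_mul_eq_mul_left hg0 h1))
  have ht' : t = m₁ * l := by rw [ht, hm₁, mul_assoc, Nat.mul_div_cancel_left _ hg0]
  have hS : (r - 1) * S + 1 = r ^ n := by
    have := geom_sum_mul_of_one_le (x := r) hr n
    rw [mul_comm, this, Nat.sub_add_cancel (Nat.one_le_pow _ _ hr)]
  -- divisibilities
  have hmgS : m ∣ g * S := by
    have h1 : m ∣ (r - 1) * S := by
      have := (Nat.modEq_iff_dvd' (Nat.one_le_pow _ _ hr)).1 hrn.symm
      rwa [← hS, Nat.add_sub_cancel] at this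
    rw [hr₁, mul_assoc, hm₁] at h1
    rw [hm₁]
    exact Nat.mul_dvd_mul_left g (hcop.symm.dvd_of_dvd_mul_left ((Nat.mul_dvd_mul_iff_left hg0).1 h1))
  have hmgg : m ∣ g * Nat.gcd m S := by
    rw [← Nat.gcd_mul_left]; exact Nat.dvd_gcd (Dvd.intro_left _ rfl) hmgS
  have hdl : d ∣ l := Nat.gcd_dvd_left _ _
  have hd' : d * m ∣ g * Nat.gcd m S := by
    obtain ⟨e, he⟩ := Nat.gcd_dvd_right l (g * Nat.gcd m S / m)
    exact ⟨e, by rw [← Nat.div_mul_cancel hmgg, he, ← hd]; ring⟩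
  have hdg : d ∣ g := by
    have h1 : d * m ∣ g * m := hd'.trans (Nat.mul_dvd_mul_left g (Nat.gcd_dvd_left m S))
    exact (Nat.mul_dvd_mul_iff_right hm).1 h1
  have hd0 : 0 < d := Nat.pos_of_dvd_of_pos hdg hg0
  haveI : NeZero d := ⟨hd0.ne'⟩
  haveI : NeZero m := ⟨hm.ne'⟩
  haveI : NeZero (m₁ * d) := ⟨(Nat.mul_pos hm₁0 hd0).ne'⟩
  haveI : NeZero (m * d) := ⟨(Nat.mul_pos hm hd0).ne'⟩
  -- the lifted multiplier
  obtain ⟨U, hU⟩ := ZMod.unitsMap_surjective (n := m₁) (m := m₁ * d) (Dvd.intro d rfl)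
    (ZMod.unitOfCoprime r₁ hcop)
  set u := (U : ZMod (m₁ * d)).val
  have hur : u ≡ r₁ [MOD m₁] := by
    rw [← ZMod.natCast_eq_natCast_iff]
    have h1 := congrArg Units.val hU
    rw [ZMod.unitsMap_val, ZMod.coe_unitOfCoprime] at h1
    rw [← h1]
    show ((U : ZMod (m₁ * d)).val : ZMod m₁) = _
    exact (ZMod.natCast_val _)
  set r' := g * u + 1 with hr'
  have hr'0 : 0 < r' := Nat.succ_pos _
  have hr'r : r' ≡ r [MOD m] := by
    rw [hr', show r = g * r₁ + 1 by omega, hm₁]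
    exact (Nat.ModEq.mul_left' g hur).add_right 1
  set S' := ∑ i ∈ Finset.range n, r' ^ i with hS'def
  have hS' : (r' - 1) * S' + 1 = r' ^ n := by
    have := geom_sum_mul_of_one_le (x := r') hr'0 n
    rw [mul_comm, this, Nat.sub_add_cancel (Nat.one_le_pow _ _ hr'0)]
  have hSS : S' ≡ S [MOD m] := by
    rw [← ZMod.natCast_eq_natCast_iff] at hr'r ⊢
    simp only [hS'def, hSdef, Nat.cast_sum, Nat.cast_pow, hr'r]
  have hrn' : r' ^ n ≡ 1 [MOD (m * d)] := by
    refine ((Nat.modEq_iff_dvd' (Nat.one_le_pow _ _ hr'0)).2 ?_).symm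
    rw [← hS', Nat.add_sub_cancel, hr', Nat.add_sub_cancel]
    have h1 : g * S' ≡ g * S [MOD (g * m)] := Nat.ModEq.mul_left' g hSS
    have h2 : m * d ∣ g * S := by
      rw [mul_comm m d]; exact hd'.trans (Nat.mul_dvd_mul_left g (Nat.gcd_dvd_right m S))
    have h3 : m * d ∣ g * m := by rw [mul_comm g m]; exact Nat.mul_dvd_mul_left m hdg
    have h4 : m * d ∣ g * S' := Nat.modEq_zero_iff_dvd.1 ((h1.of_dvd h3).trans (Nat.modEq_zero_iff_dvd.2 h2))
    rw [mul_right_comm]
    exact h4.trans (Dvd.intro u rfl)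
  have hrt' : r' * t ≡ t [MOD (m * d)] := by
    refine ((Nat.modEq_iff_dvd' (Nat.le_mul_of_pos_left _ hr'0)).2 ?_).symm
    rw [hr', add_mul, one_mul, Nat.add_sub_cancel, ht', show g * u * (m₁ * l) = (g * m₁) * l * u by ring,
      ← hm₁]
    exact (Nat.mul_dvd_mul_left m hdl).trans (Dvd.intro u rfl)
  have hrt : r * t ≡ t [MOD m] := (hr'r.symm.mul_right t).trans (hrt'.of_dvd (Dvd.intro d rfl))
  set rels : Set (FreeGroup Bool) := {FreeGroup.of true ^ m,
    (FreeGroup.of false) ^ n * (FreeGroup.of true ^ t)⁻¹,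
    FreeGroup.of false * FreeGroup.of true * (FreeGroup.of false)⁻¹ * (FreeGroup.of true ^ r)⁻¹}
  set a : PresentedGroup rels := PresentedGroup.of true
  set b : PresentedGroup rels := PresentedGroup.of false
  have ha : a ^ m = 1 := PresentedGroup.one_of_mem (rels := rels) (Or.inl rfl)
  have hb : b ^ n = a ^ t :=
    PresentedGroup.mk_eq_mk_of_mul_inv_mem (rels := rels) (Or.inr (Or.inl rfl))
  have hab : b * a * b⁻¹ = a ^ r :=
    PresentedGroup.mk_eq_mk_of_mul_inv_mem (rels := rels) (Or.inr (Or.inr rfl))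
  have hgen : closure {a, b} = ⊤ := by
    rw [eq_top_iff, ← PresentedGroup.closure_range_of rels, closure_le]
    rintro _ ⟨x, rfl⟩
    cases x
    · exact subset_closure (Or.inr rfl)
    · exact subset_closure (Or.inl rfl)
  -- the model of the group
  obtain ⟨Γ₀, _, _, A₀, B₀, hA₀, hB₀, hBA₀, hnf₀, huniq₀, -⟩ := Meta.exists_model m n r t hn hrn hrt
  have hrel : ∀ x ∈ rels, FreeGroup.lift (fun x : Bool => if x then A₀ else B₀) x = 1 := by
    rintro x (rfl | rfl | rfl) <;>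
      simp only [map_pow, map_mul, map_inv, FreeGroup.lift_apply_of, if_true, Bool.false_eq_true, if_false]
    · exact hA₀
    · rw [hB₀, mul_inv_cancel]
    · rw [hBA₀, mul_inv_cancel]
  set χ : PresentedGroup rels →* Γ₀ := PresentedGroup.toGroup hrel
  have hχa : χ a = A₀ := (PresentedGroup.toGroup.of hrel).trans rfl
  have hχb : χ b = B₀ := (PresentedGroup.toGroup.of hrel).trans rfl
  have hao : orderOf a = m := by
    refine Nat.dvd_antisymm (orderOf_dvd_of_pow_eq_one ha) ?_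
    have h1 : A₀ ^ orderOf a * B₀ ^ 0 = 1 := by
      rw [pow_zero, mul_one, ← hχa, ← map_pow, pow_orderOf_eq_one, map_one]
    exact (huniq₀ _ 0 hn h1).2
  refine ⟨?_, fun Γ _ _ σ hσ => ?_⟩
  · -- the cover
    obtain ⟨Γ, _, hΓ, A, B, hA, hB, hBA, hnf, huniq, huniv⟩ := Meta.exists_model (m * d) n r' t hn hrn' hrt'
    obtain ⟨σ, hσA, hσB⟩ := huniv (PresentedGroup rels) a b (by rw [pow_mul, ha, one_pow]) hb
      (by rw [hab, pow_eq_pow_iff_modEq, hao]; exact hr'r.symm)
    have hsurj : Function.Surjective σ := by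
      rw [← MonoidHom.range_eq_top, eq_top_iff, ← hgen, closure_le]
      rintro x (rfl | rfl)
      · exact ⟨A, hσA⟩
      · exact ⟨B, hσB⟩
    have hker : σ.ker = zpowers (A ^ m) := by
      refine le_antisymm (fun x hx => ?_) (zpowers_le.2 (by rw [MonoidHom.mem_ker, map_pow, hσA, ha]))
      obtain ⟨i, j, hj, rfl⟩ := hnf x
      have h1 : A₀ ^ i * B₀ ^ j = 1 := by
        rw [← hχa, ← hχb, ← map_pow, ← map_pow, ← map_mul, ← hσA, ← hσB, ← map_pow, ← map_pow, ← map_mul,
          MonoidHom.mem_ker.1 hx, map_one]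
      obtain ⟨rfl, e, rfl⟩ := huniq₀ i j hj h1
      rw [pow_zero, mul_one, pow_mul]
      exact pow_mem (mem_zpowers _) e
    have hcenA : A ^ m ∈ center Γ := by
      have h1 : B * A ^ m * B⁻¹ = A ^ m := by
        rw [← conj_pow, hBA, ← pow_mul, ← (show A ^ (m + g * m * u) = A ^ (r' * m) by rw [hr']; ring_nf)]
        have h2 : m * d ∣ g * m * u := by
          rw [mul_comm g m]; exact (Nat.mul_dvd_mul_left m hdg).trans (Dvd.intro u rfl)
        rw [pow_add, orderOf_dvd_iff_pow_eq_one.1 ((orderOf_dvd_of_pow_eq_one hA).trans h2), mul_one]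
      rw [mem_center_iff]
      intro x
      obtain ⟨i, j, -, rfl⟩ := hnf x
      exact (((Commute.refl A).pow_pow i m).mul_left
        ((show Commute B (A ^ m) from mul_inv_eq_iff_eq_mul.1 h1).pow_left j)).eq
    have hAord : orderOf (A ^ m) = d := by
      have hAo : orderOf A = m * d := by
        refine Nat.dvd_antisymm (orderOf_dvd_of_pow_eq_one hA) ?_
        exact (huniq _ 0 hn (by rw [pow_zero, mul_one, pow_orderOf_eq_one])).2
      rw [orderOf_pow' _ hm.ne', hAo, Nat.gcd_eq_right (Dvd.intro d rfl), Nat.mul_div_cancel_left _ hm]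
    have hcomA : A ^ m ∈ commutator Γ := by
      have h1 : A ^ (g * u) ∈ commutator Γ := by
        have h := commutator_mem_commutator (mem_top B) (mem_top A)
        rw [commutatorElement_def, hBA, hr', pow_succ, mul_inv_cancel_right] at h
        exact h
      set v := ((U⁻¹ : (ZMod (m₁ * d))ˣ) : ZMod (m₁ * d)).val
      have h2 : u * v ≡ 1 [MOD (m₁ * d)] := by
        rw [← ZMod.natCast_eq_natCast_iff, Nat.cast_mul, ZMod.natCast_zmod_val, ZMod.natCast_zmod_val,
          Units.mul_inv, Nat.cast_one]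
      have h3 : g * (u * v) ≡ g * 1 [MOD (m * d)] := by
        rw [hm₁, mul_assoc g m₁ d]; exact Nat.ModEq.mul_left' g h2
      have h4 : A ^ g = (A ^ (g * u)) ^ v := by
        rw [← pow_mul, mul_assoc]
        conv_lhs => rw [← mul_one g]
        exact pow_eq_pow_iff_modEq.2 ((h3.of_dvd (orderOf_dvd_of_pow_eq_one hA)).symm)
      rw [hm₁, pow_mul, h4]
      exact pow_mem (pow_mem h1 _) _
    refine ⟨Γ, inferInstance, hΓ, σ, ⟨hsurj, hker ▸ zpowers_le.2 hcenA, hker ▸ zpowers_le.2 hcomA⟩, ?_⟩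
    haveI : IsCyclic σ.ker := hker ▸ inferInstance
    exact ⟨mulEquivOfCyclicCardEq (by
      rw [hker, Nat.card_zpowers, hAord, Nat.card_congr Multiplicative.toAdd, Nat.card_zmod])⟩
  · -- the bound
    obtain ⟨c, hcm, hct, hcS, hker⟩ := Meta.stem_ker_bound hr hm hS hSdef a b hgen ha hb hab hao σ hσ
    set w := c ^ (m / g) with hw
    have hmg : m / g = m₁ := Nat.div_eq_of_eq_mul_right hg0 hm₁
    have hwd : w ^ d = 1 := by
      have hwl : w ^ l = 1 := by rw [hw, ← pow_mul, hmg, ← ht', hct]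
      have hwq : w ^ (g * Nat.gcd m S / m) = 1 := by
        rw [hw, ← pow_mul, hmg]
        have : m₁ * (g * Nat.gcd m S / m) = Nat.gcd m S := by
          obtain ⟨e, he⟩ := hmgg
          rw [he, Nat.mul_div_cancel_left _ hm]
          rw [hm₁, mul_assoc] at he
          rw [← hm₁] at he
          exact (Nat.eq_of_mul_eq_mul_left hg0 he).symm
        rw [this]
        exact pow_gcd_eq_one.2 ⟨hcm, hcS⟩
      exact pow_gcd_eq_one.2 ⟨hwl, hwq⟩
    have hle : σ.ker ≤ zpowers w := hker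
    haveI : IsCyclic σ.ker := isCyclic_of_le hle
    obtain ⟨z, hz⟩ := IsCyclic.exists_generator (α := σ.ker)
    have hzd : z ^ (d : ℤ) = 1 := by
      obtain ⟨e, he⟩ := hle z.2
      have he' : w ^ e = (z : Γ) := he
      refine Subtype.ext ?_
      rw [Subgroup.coe_zpow, ← he', ← zpow_mul, mul_comm, zpow_mul, zpow_natCast, hwd, one_zpow]
      rfl
    refine ⟨AddMonoidHom.toMultiplicativeLeft (ZMod.lift d ⟨zmultiplesHom _ (Additive.ofMul z), ?_⟩),
      fun k => ?_⟩
    · rw [zmultiplesHom_apply, ← ofMul_zpow, hzd]; rfl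
    · obtain ⟨e, he⟩ := hz k
      refine ⟨Multiplicative.ofAdd (e : ZMod d), ?_⟩
      show Additive.toMul (ZMod.lift d _ (e : ZMod d)) = k
      rw [ZMod.lift_coe]
      show Additive.toMul (e • Additive.ofMul z) = k
      rw [toMul_zsmul]
      exact he

end Cfsg.Agent.S3967
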