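import Cfsg.Statements.S3968
import Cfsg.Agent.Lib.Char.Burnside
import Cfsg.Agent.Lib.Char.Vanishing

set_option autoImplicit false
open Cfsg

namespace Cfsg.Agent.S3968

open scoped ComplexConjugate

/-- A faithful character of prime degree `p` of a nonabelian `p`-group does not vanish on the
centre. -/
theorem norm_eq_of_center {P : Type*} [Group P] [Fintype P] {p : ℕ} (hp : p.Prime)
    (hP : IsPGroup p P) {φ : P → ℂ} (hφ : Cfsg.IsCharacter P φ) (h1 : φ 1 = p)
    (hfaith : ∀ g, φ g = φ 1 → g = 1) (hnab : ¬ ∀ a b : P, a * b = b * a)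
    (z : P) (hz : ∀ g : P, g * z = z * g) : ‖φ z‖ = p := by
  classical
  obtain ⟨m, hm, hmi⟩ := CfsgLib.Char.char_decomp hφ
  choose d hd0 hd using fun ψ : Cfsg.IrrCharacter P => CfsgLib.Char.exists_degree_pos ψ.2
  have hsum : p = ∑ ψ, m ψ * d ψ := by
    have := congrFun hm 1
    simp only [Finset.sum_apply, Pi.smul_apply, smul_eq_mul, h1, hd] at this
    exact_mod_cast this
  -- a non-linear constituent
  obtain ⟨ψ₀, hψ₀m, hψ₀d⟩ : ∃ ψ, m ψ ≠ 0 ∧ d ψ ≠ 1 := by
    by_contra h
    push Not at h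
    refine hnab fun a b => ?_
    have hval : φ (a * b * a⁻¹ * b⁻¹) = φ 1 := by
      rw [hm]
      simp only [Finset.sum_apply, Pi.smul_apply, smul_eq_mul]
      refine Finset.sum_congr rfl fun ψ _ => ?_
      by_cases hψ : m ψ = 0
      · simp [hψ]
      · congr 1
        have hc := CfsgLib.Char.isCharacter_of_isIrr ψ.2
        let f := CfsgLib.Char.linearHom hc (by rw [hd ψ, h ψ hψ, Nat.cast_one])
        show (f (a * b * a⁻¹ * b⁻¹) : ℂ) = (f 1 : ℂ)
        congr 1
        simp [mul_comm (f a) (f b)]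
    calc a * b = (a * b * a⁻¹ * b⁻¹) * (b * a) := by group
      _ = b * a := by rw [hfaith _ hval, one_mul]
  have hdp : d ψ₀ = p := by
    obtain ⟨k, hk⟩ := (have : Fact p.Prime := ⟨hp⟩; IsPGroup.iff_card.1 hP)
    have hdvd := CfsgLib.Char.degree_dvd_card ψ₀.2 (hd ψ₀)
    rw [hk] at hdvd
    obtain ⟨j, -, hj⟩ := (Nat.dvd_prime_pow hp).1 hdvd
    have hle : m ψ₀ * d ψ₀ ≤ p :=
      (Finset.single_le_sum (fun ψ _ => Nat.zero_le (m ψ * d ψ)) (Finset.mem_univ ψ₀)).trans hsum.ge
    have h2 : d ψ₀ ≤ p := (Nat.le_mul_of_pos_left _ (Nat.pos_of_ne_zero hψ₀m)).trans hle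
    have hj0 : j ≠ 0 := fun h0 => hψ₀d (by rw [hj, h0, pow_zero])
    exact le_antisymm h2 (hj ▸ Nat.le_self_pow hj0 p)
  have hsplit := Finset.add_sum_erase Finset.univ (fun ψ => m ψ * d ψ) (Finset.mem_univ ψ₀)
  rw [← hsum, hdp] at hsplit
  have hm1 : m ψ₀ = 1 := by
    have : m ψ₀ * p ≤ p := le_of_add_le_left hsplit.le
    have := Nat.le_of_mul_le_mul_right (this.trans_eq (one_mul p).symm) hp.pos
    omega
  rw [hm1, one_mul, add_eq_left, Finset.sum_eq_zero_iff] at hsplit
  have hrest : ∀ ψ, ψ ≠ ψ₀ → m ψ = 0 := fun ψ hψ =>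
    (mul_eq_zero.1 (hsplit ψ (Finset.mem_erase.2 ⟨hψ, Finset.mem_univ _⟩))).resolve_right
      (hd0 ψ).ne'
  have hφψ : φ z = (ψ₀ : P → ℂ) z := by
    rw [hm, Finset.sum_apply, Finset.sum_eq_single ψ₀]
    · simp [hm1]
    · intro ψ _ hψ; simp [hrest ψ hψ]
    · simp
  rw [hφψ]
  have hcent : Subgroup.centralizer ({z} : Set P) = ⊤ :=
    eq_top_iff.2 fun g _ => Subgroup.mem_centralizer_singleton_iff.2 (hz g)
  have hsq := CfsgLib.Char.sum_normSq_eq_card_centralizer z
  rw [hcent, Subgroup.card_top] at hsq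
  have hone := CfsgLib.Char.sum_normSq_eq_card_centralizer (1 : P)
  rw [show Subgroup.centralizer ({(1 : P)} : Set P) = ⊤ from
    eq_top_iff.2 fun g _ => Subgroup.mem_centralizer_singleton_iff.2 (by simp),
    Subgroup.card_top, ← hsq] at hone
  have hle : ∀ ψ ∈ (Finset.univ : Finset (Cfsg.IrrCharacter P)),
      Complex.normSq ((ψ : P → ℂ) z) ≤ Complex.normSq ((ψ : P → ℂ) 1) := fun ψ _ => by
    rw [Complex.normSq_eq_norm_sq, Complex.normSq_eq_norm_sq, hd ψ, Complex.norm_natCast]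
    refine pow_le_pow_left₀ (norm_nonneg _) ?_ 2
    have := CfsgLib.Char.norm_char_le (CfsgLib.Char.isCharacter_of_isIrr ψ.2) z
    rwa [hd ψ, Complex.natCast_re] at this
  have heq := (Finset.sum_eq_sum_iff_of_le hle).1 hone.symm ψ₀ (Finset.mem_univ _)
  rw [Complex.normSq_eq_norm_sq, Complex.normSq_eq_norm_sq, hd ψ₀, Complex.norm_natCast, hdp,
    pow_left_inj₀ (norm_nonneg _) (Nat.cast_nonneg _) two_ne_zero] at heq
  exact heq

/-- Let `p` be a prime and `G` a finite group with a faithful irreducible complex character of degree `p` (so `G` is an irreducible linear group in `p` variables). If `p ^ 2` divides the order of `G`, then the centre of `G` is nontrivial. -/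
theorem result {G : Type*} [Group G] [Finite G] (p : ℕ) (hp : p.Prime) (χ : Cfsg.IrrCharacter G) (hdeg : χ.1 1 = p) (hfaith : ∀ g : G, χ.1 g = χ.1 1 → g = 1) (hdiv : p ^ 2 ∣ Nat.card G) : Subgroup.center G ≠ ⊥ := by
  classical
  have := Fintype.ofFinite G
  have : Fact p.Prime := ⟨hp⟩
  obtain ⟨n, ρ, hirr, hρ⟩ := χ.2
  have := hirr
  have hn : n = p := by
    rw [← hρ, Representation.char_one] at hdeg
    simpa using (Nat.cast_inj (R := ℂ)).1 hdeg
  subst hn
  have hfr : Module.finrank ℂ (Fin n → ℂ) = n := by simp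
  intro hbot
  have key : ∀ g : G, (∀ h : G, ρ h * ρ g = ρ g * ρ h) → g = 1 := by
    intro g hg
    rw [← Subgroup.mem_bot, ← hbot, Subgroup.mem_center_iff]
    intro h
    have h1 : g⁻¹ * h⁻¹ * g * h = 1 := hfaith _ (by
      rw [← hρ, Representation.char_one]
      refine (CfsgLib.Char.character_eq_degree_iff ρ _).2 ?_
      have : g⁻¹ * h⁻¹ * g * h = (h * g)⁻¹ * (g * h) := by group
      rw [this, map_mul, map_mul ρ g h, ← hg h, ← map_mul, ← map_mul, inv_mul_cancel, map_one]
      rfl)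
    calc h * g = (h * g) * (g⁻¹ * h⁻¹ * g * h) := by rw [h1, mul_one]
      _ = g * h := by group
  obtain ⟨P⟩ : Nonempty (Sylow n G) := inferInstance
  have hP2 : n ^ 2 ∣ Nat.card P := P.pow_dvd_card_of_pow_dvd_card hdiv
  have hvan : ∀ z : P, z ∈ Subgroup.center P → z ≠ 1 → χ.1 z = 0 := by
    intro z hz hz1
    have hcop : Nat.Coprime (Module.finrank ℂ (Fin n → ℂ))
        (Subgroup.centralizer ({(z : G)} : Set G)).index := by
      rw [hfr, hp.coprime_iff_not_dvd]
      intro hdvd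
      refine P.not_dvd_index (hdvd.trans (Subgroup.index_dvd_of_le ?_))
      intro x hx
      exact Subgroup.mem_centralizer_singleton_iff.2
        (congrArg Subtype.val (Subgroup.mem_center_iff.1 hz ⟨x, hx⟩))
    rcases CfsgLib.Char.zero_or_norm_eq ρ (z : G) hcop with h | h
    · rw [← hρ]; exact h
    · obtain ⟨ω, hω⟩ := (CfsgLib.Char.norm_character_eq_iff ρ _).1 h
      exact absurd (Subtype.ext (key _ fun x => by
        rw [hω]; exact LinearMap.ext fun v => by simp [Module.End.mul_apply])) hz1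
  set φ : P → ℂ := fun x => χ.1 x with hφdef
  have hφ : Cfsg.IsCharacter P φ :=
    CfsgLib.Char.isCharacter_res (P : Subgroup G) (CfsgLib.Char.isCharacter_of_isIrr χ.2)
  have hnt : Nontrivial P := by
    rw [← Finite.one_lt_card_iff_nontrivial]
    exact (Nat.one_lt_pow two_ne_zero hp.one_lt).trans_le (Nat.le_of_dvd Nat.card_pos hP2)
  -- the centre has order `p`
  have hZ : Nat.card (Subgroup.center P) ∣ n := by
    have hψ : Cfsg.IsCharacter (Subgroup.center P) (fun z => φ z) :=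
      CfsgLib.Char.isCharacter_res _ hφ
    obtain ⟨m, -, hmi⟩ := CfsgLib.Char.char_decomp hψ
    refine ⟨m ⟨_, CfsgLib.Char.isIrrCharacter_one⟩, ?_⟩
    have := CfsgLib.Char.card_mul_classInner (fun z : Subgroup.center P => φ z)
      (fun _ => (1 : ℂ))
    rw [hmi ⟨_, CfsgLib.Char.isIrrCharacter_one⟩] at this
    simp only [map_one, mul_one] at this
    rw [Finset.sum_eq_single (1 : Subgroup.center P)
      (fun z _ hz1 => hvan _ z.2 (fun h => hz1 (Subtype.ext h))) (by simp)] at this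
    simp only [OneMemClass.coe_one, hdeg] at this
    exact_mod_cast this.symm
  have hnab : ¬ ∀ a b : P, a * b = b * a := by
    intro hab
    have htop : Subgroup.center P = ⊤ :=
      eq_top_iff.2 fun x _ => Subgroup.mem_center_iff.2 fun y => hab y x
    rw [htop, Subgroup.card_top] at hZ
    have h1 := Nat.le_of_dvd hp.pos (hP2.trans hZ)
    have h2 := Nat.lt_of_lt_of_le (lt_self_pow₀ hp.one_lt one_lt_two) h1
    exact lt_irrefl _ h2
  have := P.isPGroup'.center_nontrivial
  obtain ⟨z, hz1⟩ := exists_ne (1 : Subgroup.center P)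
  have h0 : φ z = 0 := hvan z z.2 (fun h => hz1 (Subtype.ext h))
  have hn0 := norm_eq_of_center hp P.isPGroup' hφ (by simp [hφdef, hdeg])
    (fun g hg => Subtype.ext (hfaith g (by simpa [hφdef] using hg))) hnab z
    (Subgroup.mem_center_iff.1 z.2)
  rw [h0, norm_zero] at hn0
  exact hp.ne_zero (by exact_mod_cast hn0.symm)

end Cfsg.Agent.S3968
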