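import Cfsg.Statements.S3970
import Cfsg.Agent.Lib.FGS.TransferCriteria
import Cfsg.Agent.Lib.Transfer.Basic

set_option autoImplicit false
open Cfsg

namespace Cfsg.Agent.S3970

universe u

theorem solvable_aux : ∀ (n : ℕ) {G : Type u} [Group G] [Finite G], Nat.card G = n →
    (∀ p : ℕ, p.Prime → p ∣ Nat.card G → (∃ q : ℕ, q.Prime ∧ q ∣ Nat.card G ∧ p < q) →
      ∀ P : Sylow p G, IsMulCommutative (P : Subgroup G) ∧
        Nat.card {x : (P : Subgroup G) // x ^ p = 1} ≤ p ^ 2) →
    ¬ 12 ∣ Nat.card G → Group.IsSolvable G := by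
  intro n
  induction n using Nat.strong_induction_on with
  | _ n ih =>
    intro G _ _ hn h h12
    rcases subsingleton_or_nontrivial G with hG | hG
    · infer_instance
    have hG1 : Nat.card G ≠ 1 := fun e => by
      haveI := (Nat.card_eq_one_iff_unique.1 e).1
      exact not_subsingleton G inferInstance
    set p := (Nat.card G).minFac with hp'
    have hp : p.Prime := Nat.minFac_prime hG1
    haveI := Fact.mk hp
    have hpG : p ∣ Nat.card G := Nat.minFac_dvd _
    have hmin : ∀ q : ℕ, q.Prime → q ∣ Nat.card G → p ≤ q := fun q hq hd =>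
      Nat.minFac_le_of_dvd hq.two_le hd
    by_cases hone : ∀ q : ℕ, q.Prime → q ∣ Nat.card G → q = p
    · haveI := (IsPGroup.of_card (Nat.eq_prime_pow_of_unique_prime_dvd Nat.card_pos.ne'
        fun {d} hd hdd => hone d hd hdd) : IsPGroup p G).isNilpotent
      infer_instance
    push Not at hone
    obtain ⟨q₀, hq₀, hq₀G, hq₀p⟩ := hone
    obtain ⟨P⟩ : Nonempty (Sylow p G) := inferInstance
    obtain ⟨hab, hΩ⟩ := h p hp hpG ⟨q₀, hq₀, hq₀G, lt_of_le_of_ne (hmin q₀ hq₀ hq₀G) hq₀p.symm⟩ P
    have hnpc : Cfsg.HasNormalPComplement p G := by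
      by_cases hcase : p = 2 ∧ 3 ∣ Nat.card G
      · have h4 : ¬ 4 ∣ Nat.card G := fun h4 =>
          h12 (Nat.Coprime.mul_dvd_of_dvd_of_dvd (m := 4) (n := 3) (by decide) h4 hcase.2)
        obtain ⟨k, hk⟩ := P.isPGroup'.exists_card_eq
        have hk1 : k ≤ 1 := by
          by_contra hk1
          refine h4 ?_
          have h2 : 2 ^ 2 ∣ p ^ k := by rw [hcase.1]; exact pow_dvd_pow 2 (by omega)
          exact (h2.trans (hk ▸ Subgroup.card_subgroup_dvd_card (P : Subgroup G)) : _)
        refine CfsgLib.FGS.hasNormalPComplement_of_omega P hab 1 ?_ fun q hq hd hne i hi hi' hqd => ?_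
        · exact (Nat.card_le_card_of_injective _ Subtype.val_injective).trans
            (hk.le.trans (Nat.pow_le_pow_right hp.pos hk1))
        · rw [show i = 1 by omega, pow_one] at hqd
          have := Nat.le_of_dvd (by have := hp.two_le; omega) hqd
          have := hmin q hq hd
          omega
      · refine CfsgLib.FGS.hasNormalPComplement_of_omega P hab 2 hΩ fun q hq hd hne i hi hi' hqd => ?_
        have hpq : p < q := lt_of_le_of_ne (hmin q hq hd) hne.symm
        have hp2 := hp.two_le
        have hsub : ¬ q ∣ p - 1 := fun hh => by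
          have := Nat.le_of_dvd (by omega) hh
          omega
        interval_cases i
        · rw [pow_one] at hqd
          exact hsub hqd
        · rw [show p ^ 2 - 1 = (p + 1) * (p - 1) by
            simpa using Nat.sq_sub_sq p 1] at hqd
          rcases hq.dvd_mul.1 hqd with hh | hh
          · have := Nat.le_of_dvd (by omega) hh
            have hq1 : q = p + 1 := by omega
            have hp2' : p = 2 := by
              rcases hp.eq_two_or_odd with e | e
              · exact e
              · rcases hq.eq_two_or_odd with e' | e' <;> omega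
            refine hcase ⟨hp2', ?_⟩
            rw [show 3 = q by omega]
            exact hd
          · exact hsub hh
    obtain ⟨N, hNn, hNc, k, hk⟩ := CfsgLib.Transfer.hasNormalPComplement_iff.1 hnpc
    haveI := hNn
    have hNlt : Nat.card N < n := by
      rw [← hn]
      refine lt_of_le_of_ne (Subgroup.card_le_card_group N) fun e => ?_
      rw [e] at hNc
      exact hp.ne_one (Nat.eq_one_of_dvd_coprimes hNc hpG dvd_rfl)
    haveI : Group.IsSolvable N := by
      refine ih _ hNlt rfl (fun r hr hrN ⟨t, ht, htN, hrt⟩ Q => ?_)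
        (fun h' => h12 (h'.trans N.card_subgroup_dvd_card))
      haveI := Fact.mk hr
      obtain ⟨R, hR⟩ := (Q.isPGroup'.map N.subtype).exists_le_sylow
      obtain ⟨habR, hΩR⟩ := h r hr (hrN.trans N.card_subgroup_dvd_card)
        ⟨t, ht, htN.trans N.card_subgroup_dvd_card, hrt⟩ R
      let j : ↥(Q : Subgroup N) → ↥(R : Subgroup G) := fun x => ⟨((x : N) : G), hR ⟨(x : N), x.2, rfl⟩⟩
      have hj : Function.Injective j := fun x y e =>
        Subtype.ext (Subtype.ext (congrArg (fun z : (R : Subgroup G) => (z : G)) e))
      refine ⟨⟨⟨fun x y => hj (habR.is_comm.comm (j x) (j y))⟩⟩, ?_⟩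
      refine le_trans (Nat.card_le_card_of_injective
        (fun x : {x : (Q : Subgroup N) // x ^ r = 1} =>
          (⟨j x.1, Subtype.ext (congrArg (fun z : (Q : Subgroup N) => ((z : N) : G)) x.2)⟩ :
            {x : (R : Subgroup G) // x ^ r = 1}))
        fun x y e => Subtype.ext (hj (congrArg Subtype.val e))) hΩR
    haveI : Group.IsSolvable (G ⧸ N) := by
      haveI := (IsPGroup.of_card (G := G ⧸ N) (p := p) (n := k) (by rw [← Subgroup.index_eq_card, hk])).isNilpotent
      infer_instance
    exact Group.isSolvable_of_ker_le_range N.subtype (QuotientGroup.mk' N) (by simp)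

/-- Let `G` be a finite group such that for every prime `p` dividing its order, other than the largest such prime, the Sylow `p`-subgroups are abelian and generated by at most two elements, and suppose `12` does not divide the order of `G`. Then `G` is solvable. In particular a group of cube-free order not divisible by `12` is solvable. -/
theorem result {G : Type*} [Group G] [Finite G] (h : ∀ p : ℕ, p.Prime → p ∣ Nat.card G → (∃ q : ℕ, q.Prime ∧ q ∣ Nat.card G ∧ p < q) → ∀ P : Sylow p G, IsMulCommutative (P : Subgroup G) ∧ Group.rank (P : Subgroup G) ≤ 2) (h12 : ¬ 12 ∣ Nat.card G) : Group.IsSolvable G := by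
  refine solvable_aux (Nat.card G) rfl (fun p hp hpG hl P => ?_) h12
  obtain ⟨hab, hr⟩ := h p hp hpG hl P
  haveI := Fact.mk hp
  letI : CommGroup (P : Subgroup G) := { (inferInstance : Group (P : Subgroup G)) with
    mul_comm := fun x y => hab.is_comm.comm x y }
  exact ⟨hab, (CfsgLib.FGS.card_omega_le_pow_rank p hp.pos).trans (Nat.pow_le_pow_right hp.pos hr)⟩

end Cfsg.Agent.S3970
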