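import Cfsg.Statements.S3971
import Cfsg.Agent.Lib.FGS.TransferCriteria
import Cfsg.Agent.Lib.Transfer.Basic

set_option autoImplicit false
open Cfsg

namespace Cfsg.Agent.S3971

/-- Let `G` be a finite group of order `2 ^ a * n` with `n` odd and not divisible by `3`, and suppose `G` has an element of order `2 ^ (a - 1)` (so a Sylow `2`-subgroup has a cyclic subgroup of index at most `2`). Then `G` has a normal subgroup of order `n`. -/
theorem result {G : Type*} [Group G] [Finite G] (a n : ℕ) (hG : Nat.card G = 2 ^ a * n) (hn : Odd n) (h3 : ¬ 3 ∣ n) (hx : ∃ x : G, orderOf x = 2 ^ (a - 1)) : ∃ N : Subgroup G, N.Normal ∧ Nat.card N = n := by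
  haveI : Fact (Nat.Prime 2) := ⟨Nat.prime_two⟩
  obtain ⟨x, hx⟩ := hx
  obtain ⟨P, hP⟩ := (CfsgLib.FGS.isPGroup_zpowers hx).exists_le_sylow
  have hPc : Nat.card (P : Subgroup G) = 2 ^ a := by
    rw [Sylow.card_eq_multiplicity, hG, Nat.factorization_mul (by positivity) hn.pos.ne',
      Nat.Prime.factorization_pow Nat.prime_two]
    simp [Nat.factorization_eq_zero_of_not_dvd hn.not_two_dvd_nat]
  have hfc : CfsgLib.Transfer.FrobeniusCond 2 G := by
    intro Q hQ g hg hgo
    refine CfsgLib.FGS.mem_centralizer_of_forall_prime Q hg fun q hq hqg b hb => ?_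
    have hqn : q ∣ n := by
      have h1 : q ∣ 2 ^ a * n := hG ▸ hqg.trans (orderOf_dvd_natCard g)
      rcases hq.dvd_mul.1 h1 with h | h
      · exact absurd (hqg.trans dvd_rfl) (fun h2 => hq.ne_one
          (Nat.eq_one_of_dvd_coprimes hgo h2 (hq.dvd_of_dvd_pow h)))
      · exact h
    have hq5 : 5 ≤ q := by
      by_contra hlt
      have := hq.two_le
      interval_cases q
      · exact hn.not_two_dvd_nat hqn
      · exact h3 hqn
      · exact absurd hq (by decide)
    obtain ⟨R, hR⟩ := hQ.exists_le_sylow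
    obtain ⟨c, hc⟩ := MulAction.exists_smul_eq G P R
    set Z := Subgroup.zpowers (c * x * c⁻¹) with hZ
    have hZR : Z ≤ (R : Subgroup G) := by
      rw [hZ, Subgroup.zpowers_le, ← hc]
      exact ⟨x, hP (Subgroup.mem_zpowers x), rfl⟩
    have hZc : Nat.card Z = 2 ^ (a - 1) := by
      rw [hZ, Nat.card_zpowers, ← hx]
      exact MulEquiv.orderOf_eq (MulAut.conj c) x
    have hRc : Nat.card (R : Subgroup G) = 2 ^ a := by
      rw [← hPc, Sylow.card_eq_multiplicity, Sylow.card_eq_multiplicity]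
    have hrel : Z.relIndex (R : Subgroup G) ≤ 2 := by
      have h1 := Subgroup.relIndex_mul_relIndex ⊥ Z (R : Subgroup G) bot_le hZR
      rw [Subgroup.relIndex_bot_left, Subgroup.relIndex_bot_left, hZc, hRc] at h1
      have h2 : 2 ^ a ≤ 2 ^ (a - 1) * 2 := by
        rw [← pow_succ]; exact Nat.pow_le_pow_right (by norm_num) (by omega)
      rw [← h1] at h2
      exact Nat.le_of_mul_le_mul_left h2 (by positivity)
    set W := (Z ⊓ Q).subgroupOf Q with hW
    haveI : IsCyclic (Z ⊓ Q : Subgroup G) := Subgroup.isCyclic_of_le inf_le_left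
    obtain ⟨w, hw⟩ := IsCyclic.exists_ofOrder_eq_natCard (α := (Z ⊓ Q : Subgroup G))
    refine CfsgLib.FGS.mulAut_eq_one_of_almost_cyclic hQ hq hq5 b hb ⟨(w : G), w.2.2⟩ ?_
    rw [Subgroup.orderOf_mk, Subgroup.orderOf_coe, hw]
    have h1 := Subgroup.relIndex_mul_relIndex ⊥ (Z ⊓ Q) Q bot_le inf_le_right
    rw [Subgroup.relIndex_bot_left, Subgroup.relIndex_bot_left, Subgroup.inf_relIndex_right] at h1
    have h2 : Z.relIndex Q ≤ 2 :=
      (Subgroup.relIndex_le_of_le_right hR Subgroup.index_ne_zero_of_finite).trans hrel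
    rw [← h1, mul_comm 2]
    exact Nat.mul_le_mul_left _ h2
  obtain ⟨N, hNn, hNc, k, hk⟩ := CfsgLib.Transfer.hasNormalPComplement_iff.1
    (CfsgLib.Transfer.hasNormalPComplement_of_frobeniusCond hfc)
  refine ⟨N, hNn, Nat.dvd_antisymm ?_ ?_⟩
  · refine (hNc.pow_right a).dvd_of_dvd_mul_left ?_
    rw [← hG]
    exact N.card_subgroup_dvd_card
  · refine ((Nat.coprime_two_right.2 hn).pow_right k).dvd_of_dvd_mul_left ?_
    rw [← hk, N.index_mul_card, hG]
    exact dvd_mul_left _ _

end Cfsg.Agent.S3971
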