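import Cfsg.Statements.S3973
import Cfsg.Agent.Lib.Schur.Trivial

set_option autoImplicit false
open Cfsg

namespace Cfsg.Agent.S3973

/-- If a finite group is presented by `n` generators and a finite set of `r` relators, then its Schur multiplier can be generated by `r - n` elements. In particular a finite group with a presentation having as many relators as generators has trivial Schur multiplier. -/
theorem result (n : ℕ) (rels : Finset (FreeGroup (Fin n))) [Finite (PresentedGroup (rels : Set (FreeGroup (Fin n))))] {A : Type*} [CommGroup A] [Finite A] (hA : Cfsg.HasSchurMultiplier (PresentedGroup (rels : Set (FreeGroup (Fin n)))) A) : Group.rank A ≤ rels.card - n := by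
  open Subgroup CfsgLib.Schur in
  classical
  set π : FreeGroup (Fin n) →* PresentedGroup (rels : Set (FreeGroup (Fin n))) := PresentedGroup.mk _
  have hπ : Function.Surjective π := PresentedGroup.mk_surjective _
  have hker : π.ker = normalClosure (rels : Set (FreeGroup (Fin n))) := QuotientGroup.ker_mk' _
  obtain ⟨eA⟩ := nonempty_mult_equiv hπ hA
  haveI := finite_mult hπ
  letI : CommGroup (proj π).ker := { (inferInstance : Group (proj π).ker) with
    mul_comm := fun a b => Subtype.ext ((mem_center_iff.1 (ker_proj_le_center π b.2)) a) }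
  have hr : ∀ r ∈ rels, mkExt π r ∈ (proj π).ker := fun r hr => by
    rw [MonoidHom.mem_ker, proj_mkExt, ← MonoidHom.mem_ker, hker]
    exact subset_normalClosure hr
  -- the relators generate the kernel
  set g : (rels → ℤ) →ₗ[ℤ] Additive (proj π).ker :=
    Fintype.linearCombination ℤ fun r => Additive.ofMul ⟨mkExt π r.1, hr _ r.2⟩
  have hg : Function.Surjective g := by
    intro c
    obtain ⟨⟨e, he⟩, rfl⟩ := Additive.ofMul.surjective c
    set T : Subgroup (proj π).ker := AddSubgroup.toSubgroup' (LinearMap.range g).toAddSubgroup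
    suffices ∀ x ∈ π.ker, ∃ h : mkExt π x ∈ (proj π).ker, (⟨_, h⟩ : (proj π).ker) ∈ T by
      obtain ⟨x, rfl⟩ := QuotientGroup.mk'_surjective _ e
      obtain ⟨h, hT⟩ := this x he
      exact hT
    haveI : (T.map (proj π).ker.subtype).Normal := ⟨fun a ha b => by
      rw [mem_center_iff.1 (ker_proj_le_center π (map_subtype_le _ ha)) b, mul_inv_cancel_right]
      exact ha⟩
    have hle : π.ker ≤ (T.map (proj π).ker.subtype).comap (mkExt π) := by
      refine hker.le.trans (normalClosure_le_normal fun r hr' => ?_)
      exact ⟨⟨mkExt π r, hr r hr'⟩, ⟨Pi.single ⟨r, hr'⟩ 1, by simp [g]; rfl⟩, rfl⟩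
    intro x hx
    obtain ⟨⟨y, hy⟩, hyT, hyx⟩ := hle hx
    have hyx' : y = mkExt π x := hyx
    subst hyx'
    exact ⟨hy, hyT⟩
  set θ : Additive (proj π).ker →ₗ[ℤ] FreeAbelianGroup (Fin n) :=
    (MonoidHom.toAdditive ((abMap π).comp (proj π).ker.subtype)).toIntLinearMap
  set h := θ.comp g
  haveI : Module.Finite ℤ (FreeAbelianGroup (Fin n)) :=
    Module.Finite.of_basis (FreeAbelianGroup.basis (Fin n))
  haveI : Module.Free ℤ (FreeAbelianGroup (Fin n)) := Module.Free.of_basis (FreeAbelianGroup.basis (Fin n))
  have hfr : Module.finrank ℤ (FreeAbelianGroup (Fin n)) = n := by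
    rw [Module.finrank_eq_card_basis (FreeAbelianGroup.basis (Fin n)), Fintype.card_fin]
  -- the image has full rank
  have hfull : n ≤ Module.finrank ℤ (LinearMap.range h) := by
    set N := Nat.card (PresentedGroup (rels : Set (FreeGroup (Fin n))))
    have hmem : ∀ v : FreeAbelianGroup (Fin n), (N : ℤ) • v ∈ LinearMap.range h := by
      intro v
      obtain ⟨x, hx⟩ := QuotientGroup.mk_surjective (Additive.toMul v)
      have hxN : mkExt π (x ^ N) ∈ (proj π).ker := by
        rw [MonoidHom.mem_ker, proj_mkExt, map_pow, pow_card_eq_one']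
      obtain ⟨z, hz⟩ := hg (Additive.ofMul ⟨_, hxN⟩)
      refine ⟨z, ?_⟩
      show θ (g z) = _
      rw [hz, natCast_zsmul]
      show Additive.ofMul (abMap π (mkExt π (x ^ N))) = N • v
      rw [map_pow, map_pow, show abMap π (mkExt π x) = Additive.toMul v from hx, ofMul_pow]
      rfl
    let F : FreeAbelianGroup (Fin n) →ₗ[ℤ] LinearMap.range h :=
      LinearMap.codRestrict (LinearMap.range h) ((N : ℤ) • LinearMap.id) hmem
    have hN : (N : ℤ) ≠ 0 := by exact_mod_cast Nat.card_pos.ne'
    have hF : Function.Injective F := fun a b hab => smul_right_injective _ hN (congrArg Subtype.val hab)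
    have h2 := LinearMap.finrank_le_finrank_of_injective hF
    rwa [hfr] at h2
  have hrn : Module.finrank ℤ (LinearMap.ker h) ≤ rels.card - n := by
    have h1 : Module.finrank ℤ ((rels → ℤ) ⧸ LinearMap.ker h) = Module.finrank ℤ (LinearMap.range h) :=
      h.quotKerEquivRange.finrank_eq
    have h2 := Submodule.finrank_quotient_add_finrank (LinearMap.ker h)
    rw [h1, Module.finrank_fintype_fun_eq_card, Fintype.card_coe] at h2
    omega
  -- the multiplier is generated by the images of a basis of the kernel
  set b := Module.finBasis ℤ (LinearMap.ker h)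
  have hmult : ∀ z : LinearMap.ker h, ((Additive.toMul (g z) : (proj π).ker) : Ext π) ∈ mult π := fun z =>
    Subgroup.mem_inf.2 ⟨(Additive.toMul (g z)).2, (ker_abMap π).le z.2⟩
  let ψ : Multiplicative (LinearMap.ker h) →* mult π :=
    { toFun := fun z => ⟨_, hmult z.toAdd⟩
      map_one' := Subtype.ext (by simp)
      map_mul' := fun a b => Subtype.ext (by simp) }
  have hψ : Function.Surjective ψ := by
    rintro ⟨e, he⟩
    obtain ⟨z, hz⟩ := hg (Additive.ofMul ⟨e, mult_le_ker π he⟩)
    have hzk : z ∈ LinearMap.ker h := by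
      show θ (g z) = 0
      rw [hz]
      exact (ker_abMap π).ge (Subgroup.mem_inf.1 he).2
    exact ⟨Multiplicative.ofAdd ⟨z, hzk⟩, Subtype.ext (by
      show ((Additive.toMul (g z) : (proj π).ker) : Ext π) = e
      rw [hz]; rfl)⟩
  have hgen : closure (Set.range fun i => eA (ψ (Multiplicative.ofAdd (b i)))) = ⊤ := by
    refine eq_top_iff.2 fun a _ => ?_
    obtain ⟨z, hz⟩ := hψ (eA.symm a)
    rw [← eA.apply_symm_apply a, ← hz]
    have h1 := b.sum_repr z.toAdd
    rw [show z = Multiplicative.ofAdd (∑ i, b.repr z.toAdd i • b i) from by rw [h1]; rfl, ofAdd_sum,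
      map_prod, map_prod]
    refine prod_mem fun i _ => ?_
    rw [ofAdd_zsmul, map_zpow, map_zpow]
    exact zpow_mem (subset_closure (Set.mem_range_self i)) _
  refine le_trans ?_ hrn
  have h1 := Group.rank_le (G := A) (S := Finset.univ.image fun i => eA (ψ (Multiplicative.ofAdd (b i))))
    (by rw [Finset.coe_image, Finset.coe_univ, Set.image_univ]; exact hgen)
  exact h1.trans (Finset.card_image_le.trans (by simp))

end Cfsg.Agent.S3973
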