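import Cfsg.Statements.S3976
import Cfsg.Agent.Lib.FGS.SubgroupCount

set_option autoImplicit false
open Cfsg

namespace Cfsg.Agent.S3976

/-- Let `p` be a prime and `G` a group of order `p ^ m`. For every `s ≤ m` the number of normal subgroups of `G` of order `p ^ s` is congruent to `1` modulo `p`. -/
theorem result {G : Type*} [Group G] [Finite G] (p m s : ℕ) (hp : p.Prime) (hG : Nat.card G = p ^ m) (hs : s ≤ m) : Nat.card {H : Subgroup G // H.Normal ∧ Nat.card H = p ^ s} ≡ 1 [MOD p] := by
  classical
  haveI := Fact.mk hp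
  letI : MulAction G {H : Subgroup G // Nat.card H = p ^ s} :=
    { smul := fun g H => ⟨H.1.map (MulAut.conj g).toMonoidHom, by
        rw [Subgroup.card_map_of_injective (MulAut.conj g).injective]; exact H.2⟩
      one_smul := fun H => Subtype.ext (by
        show H.1.map (MulAut.conj (1 : G)).toMonoidHom = H.1
        ext x; simp [Subgroup.mem_map])
      mul_smul := fun g k H => Subtype.ext (by
        show H.1.map (MulAut.conj (g * k)).toMonoidHom =
          (H.1.map (MulAut.conj k).toMonoidHom).map (MulAut.conj g).toMonoidHom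
        rw [Subgroup.map_map]
        congr 1
        ext x
        simp [mul_assoc]) }
  have hfix : Nat.card (MulAction.fixedPoints G {H : Subgroup G // Nat.card H = p ^ s}) =
      Nat.card {H : Subgroup G // H.Normal ∧ Nat.card H = p ^ s} := by
    refine Nat.card_congr
      ⟨fun H => ⟨H.1.1, ⟨fun n hn g => ?_⟩, H.1.2⟩, fun H => ⟨⟨H.1, H.2.2⟩, fun g => Subtype.ext ?_⟩,
        fun H => rfl, fun H => rfl⟩
    · have h := congrArg Subtype.val (H.2 g)
      rw [← h]
      exact ⟨n, hn, rfl⟩
    · haveI := H.2.1
      show H.1.map (MulAut.conj g).toMonoidHom = H.1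
      ext x
      rw [Subgroup.mem_map_equiv, MulAut.conj_symm_apply]
      refine ⟨fun h => ?_, fun h => by simpa using H.2.1.conj_mem x h g⁻¹⟩
      have := H.2.1.conj_mem _ h g
      simpa [mul_assoc] using this
  have h1 := (IsPGroup.of_card hG).card_modEq_card_fixedPoints {H : Subgroup G // Nat.card H = p ^ s}
  rw [hfix] at h1
  exact h1.symm.trans (CfsgLib.FGS.card_subgroups_modEq_one hp (hG ▸ pow_dvd_pow p hs))

end Cfsg.Agent.S3976
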