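import Cfsg.Statements.S3977
import Cfsg.Agent.Lib.Solvable.UniqueSubgroup
import Cfsg.Agent.Lib.Solvable.FrobeniusComplement

set_option autoImplicit false
open Cfsg

namespace Cfsg.Agent.S3977

/-- Let `p` be a prime and `G` a group of order `p ^ m` which has exactly one subgroup of order `p ^ s`, where `1 ≤ s < m`, and where `s ≥ 2` if `p = 2`. Then `G` is cyclic. (For `p = 2` and `s = 1` the generalized quaternion groups also occur; that case is the classical criterion for a unique involution.) -/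
theorem result {G : Type*} [Group G] [Finite G] (p m s : ℕ) (hp : p.Prime) (hG : Nat.card G = p ^ m) (hs : 1 ≤ s) (hsm : s < m) (h2 : p ≠ 2 ∨ 2 ≤ s) (huniq : ∀ H K : Subgroup G, Nat.card H = p ^ s → Nat.card K = p ^ s → H = K) : IsCyclic G := by
  classical
  haveI := Fact.mk hp
  have hGp : IsPGroup p G := IsPGroup.of_card hG
  obtain ⟨H, hH⟩ := Sylow.exists_subgroup_card_pow_prime (G := G) p (n := s)
    (by rw [hG]; exact pow_dvd_pow p hsm.le)
  have hmem : ∀ x : G, orderOf x ∣ p ^ s → x ∈ H := by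
    intro x hx
    obtain ⟨i, hi, hxi⟩ := (Nat.dvd_prime_pow hp).1 hx
    obtain ⟨K, hK, hxK⟩ := Sylow.exists_subgroup_card_pow_prime_le p (n := i) (m := s)
      (by rw [hG]; exact pow_dvd_pow p hsm.le) (Subgroup.zpowers x) (by rw [Nat.card_zpowers, hxi]) hi
    exact huniq H K hH hK ▸ hxK (Subgroup.mem_zpowers x)
  obtain ⟨x, hx⟩ : ∃ x : G, x ∉ H := by
    by_contra hno
    push Not at hno
    rw [(Subgroup.eq_top_iff' H).2 hno, Subgroup.card_top, hG] at hH
    exact absurd (Nat.pow_right_injective hp.two_le hH) (by omega)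
  obtain ⟨i, hi⟩ := IsPGroup.iff_orderOf.1 hGp x
  have hsi : s ≤ i := by
    by_contra hlt
    exact hx (hmem x (hi ▸ pow_dvd_pow p (by omega)))
  have hHx : H ≤ Subgroup.zpowers x := by
    have hy : orderOf (x ^ p ^ (i - s)) = p ^ s := by
      rw [orderOf_pow, hi, Nat.gcd_eq_right (pow_dvd_pow p (by omega)), Nat.pow_div (by omega) hp.pos]
      congr 1
      omega
    rw [huniq H (Subgroup.zpowers (x ^ p ^ (i - s))) hH (by rw [Nat.card_zpowers, hy]), Subgroup.zpowers_le]
    exact Subgroup.pow_mem _ (Subgroup.mem_zpowers x) _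
  haveI : IsCyclic H := Subgroup.isCyclic_of_le hHx
  have hu : ∀ a b : G, orderOf a = p → orderOf b = p → a ∈ Subgroup.zpowers b := by
    intro a b ha hb
    have hd : p ∣ p ^ s := dvd_pow_self p (by omega)
    obtain ⟨j, hj⟩ := CfsgLib.Solvable.mem_zpowers_of_isCyclic
      (x := (⟨a, hmem a (ha.symm ▸ hd)⟩ : H)) (y := ⟨b, hmem b (hb.symm ▸ hd)⟩)
      (by rw [Subgroup.orderOf_mk, Subgroup.orderOf_mk, ha, hb])
    exact ⟨j, congrArg Subtype.val hj⟩
  rcases CfsgLib.Solvable.isCyclic_or_quaternion hGp hu with hc | ⟨rfl, k, ⟨e⟩⟩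
  · exact hc
  exfalso
  have hs2 : 2 ≤ s := h2.resolve_left (fun h => h rfl)
  haveI : NeZero (2 ^ k) := ⟨by positivity⟩
  by_cases hk : k = 0
  · subst hk
    have hc4 : Nat.card G = 4 := by
      rw [Nat.card_congr e.toEquiv, Nat.card_eq_fintype_card, QuaternionGroup.card]
      norm_num
    rw [hG] at hc4
    have : m = 2 := Nat.pow_right_injective (le_refl 2) (show 2 ^ m = 2 ^ 2 by rw [hc4])
    omega
  set N : ℕ := 2 ^ k with hN
  have hN2 : 2 ≤ N := Nat.one_lt_two_pow hk
  let g : Fin 5 → QuaternionGroup N := ![QuaternionGroup.a 0, QuaternionGroup.a (N : ZMod (2 * N)),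
    QuaternionGroup.xa 0, QuaternionGroup.xa 1, QuaternionGroup.xa (N : ZMod (2 * N))]
  have hxa : ∀ i : ZMod (2 * N), (QuaternionGroup.xa i) ^ 4 = (1 : QuaternionGroup N) := fun i => by
    rw [← QuaternionGroup.orderOf_xa i]; exact pow_orderOf_eq_one _
  have hg : ∀ i, g i ^ 4 = 1 := by
    intro i
    fin_cases i
    · show (QuaternionGroup.a 0 : QuaternionGroup N) ^ 4 = 1
      rw [← QuaternionGroup.one_def, one_pow]
    · show (QuaternionGroup.a (N : ZMod (2 * N))) ^ 4 = 1
      rw [← QuaternionGroup.a_one_pow, ← pow_mul, show N * 4 = 2 * N * 2 by ring, pow_mul,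
        QuaternionGroup.a_one_pow_n, one_pow]
    · exact hxa 0
    · exact hxa 1
    · exact hxa _
  have h01 : (1 : ZMod (2 * N)) ≠ 0 := by
    rw [← Nat.cast_one, Ne, ZMod.natCast_eq_zero_iff]
    exact fun h => by have := Nat.le_of_dvd one_pos h; omega
  have hn0 : (N : ZMod (2 * N)) ≠ 0 := by
    rw [Ne, ZMod.natCast_eq_zero_iff]
    exact fun h => by have := Nat.le_of_dvd (by omega) h; omega
  have h1n : (1 : ZMod (2 * N)) ≠ (N : ZMod (2 * N)) := by
    rw [← Nat.cast_one, Ne, ZMod.natCast_eq_natCast_iff', Nat.mod_eq_of_lt (by omega), Nat.mod_eq_of_lt (by omega)]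
    omega
  have hginj : Function.Injective g := by
    intro i j hij
    fin_cases i <;> fin_cases j <;>
      first
      | rfl
      | exact absurd hij (by simp [g, h01, h01.symm, hn0, hn0.symm, h1n, h1n.symm, -QuaternionGroup.a_zero])
  let f : Fin 5 → H := fun i => ⟨e.symm (g i), hmem _ (by
    rw [MulEquiv.orderOf_eq]
    exact (orderOf_dvd_of_pow_eq_one (hg i)).trans (pow_dvd_pow 2 hs2 : 2 ^ 2 ∣ 2 ^ s))⟩
  have hfinj : Function.Injective f := fun i j hij => hginj (e.symm.injective (congrArg Subtype.val hij))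
  haveI := Fintype.ofFinite H
  have hcount := IsCyclic.card_pow_eq_one_le (α := H) (n := 4) (by norm_num)
  have hle : (Finset.univ.image f).card ≤ 4 := le_trans (Finset.card_le_card (fun y hy => by
    obtain ⟨o, -, rfl⟩ := Finset.mem_image.1 hy
    rw [Finset.mem_filter]
    refine ⟨Finset.mem_univ _, Subtype.ext ?_⟩
    show (e.symm (g o)) ^ 4 = 1
    rw [← map_pow, hg o, map_one])) hcount
  rw [Finset.card_image_of_injective _ hfinj] at hle
  simp at hle

end Cfsg.Agent.S3977
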