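import Cfsg.Statements.S3978
import Cfsg.Agent.Lib.Schur.Projective

set_option autoImplicit false
open Cfsg

namespace Cfsg.Agent.S3978

/-- A finite group `Q` has trivial Schur multiplier if and only if, for every `n`, every homomorphism from `Q` to the projective general linear group (the quotient of `GL n ℂ` by its centre) lifts to a homomorphism into `GL n ℂ`. -/
theorem result {Q : Type*} [Group Q] [Finite Q] : Cfsg.HasCyclicSchurMultiplier Q 1 ↔ ∀ (n : ℕ) (γ : Q →* (GL (Fin n) ℂ ⧸ Subgroup.center (GL (Fin n) ℂ))), ∃ ρ : Q →* GL (Fin n) ℂ, (QuotientGroup.mk' (Subgroup.center (GL (Fin n) ℂ))).comp ρ = γ := by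
  have hid : Cfsg.IsStemExtension (MonoidHom.id Q) := ⟨Function.surjective_id, by simp, by simp⟩
  constructor
  · intro h n γ
    have hk : Nonempty ((MonoidHom.id Q).ker ≃* Multiplicative (ZMod 1)) := by
      haveI : Unique (MonoidHom.id Q).ker := ⟨⟨1⟩, fun a => Subtype.ext a.2⟩
      exact ⟨MulEquiv.ofUnique⟩
    obtain ⟨ρ, hρ⟩ := CfsgLib.Schur.exists_lift_to_cover h (MonoidHom.id Q) hid hk n γ
    exact ⟨ρ, by rw [hρ, MonoidHom.comp_id]⟩
  · intro h
    obtain ⟨e⟩ := CfsgLib.Schur.surjective_of_all_lift (MonoidHom.id Q) hid fun n γ => by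
      obtain ⟨ρ, hρ⟩ := h n γ
      exact ⟨ρ, by rw [hρ, MonoidHom.comp_id]⟩
    refine CfsgLib.Schur.hasCyclicSchurMultiplier_one fun Γ _ _ σ hσ => ?_
    rw [← MonoidHom.ker_eq_bot_iff, eq_bot_iff]
    intro z hz
    obtain ⟨f, hf⟩ := (CfsgLib.Schur.hasSchurMultiplier_mult (CfsgLib.Schur.taut_surjective Q)).2 Γ σ hσ
    obtain ⟨a, ha⟩ := hf ⟨z, hz⟩
    have h1 : a = 1 := e.injective (Subtype.ext ((e a).2.trans ((map_one e).symm ▸ rfl)))
    rw [h1, map_one] at ha
    exact Subgroup.mem_bot.2 (congrArg Subtype.val ha).symm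

end Cfsg.Agent.S3978
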