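import Cfsg.Statements.S3980
import Cfsg.Agent.Lib.Schur.Product

set_option autoImplicit false
universe u v w
open Cfsg

namespace Cfsg.Agent.S3980

/-- Let `Q₁` and `Q₂` be finite groups whose commutator quotients have coprime orders, with Schur multipliers `A` and `B`. Then the Schur multiplier of `Q₁ × Q₂` is isomorphic to `A × B`. -/
theorem result {Q₁ : Type u} {Q₂ : Type v} [Group Q₁] [Group Q₂] [Finite Q₁] [Finite Q₂] {A B : Type w} [CommGroup A] [CommGroup B] (hA : Cfsg.HasSchurMultiplier Q₁ A) (hB : Cfsg.HasSchurMultiplier Q₂ B) (hcop : Nat.Coprime (Nat.card (Abelianization Q₁)) (Nat.card (Abelianization Q₂))) : Cfsg.HasSchurMultiplier (Q₁ × Q₂) (A × B) := by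
  open scoped TensorProduct in
  have h := CfsgLib.Schur.hasSchurMultiplier_prod hA hB
  have hT : Subsingleton (Additive (Abelianization Q₁) ⊗[ℤ] Additive (Abelianization Q₂)) := by
    refine subsingleton_of_forall_eq 0 fun t => ?_
    have key : ∀ (n : ℕ), n = Nat.card (Abelianization Q₁) ∨ n = Nat.card (Abelianization Q₂) →
        n • t = 0 := by
      intro n hn
      induction t using TensorProduct.induction_on with
      | zero => simp
      | tmul x y =>
        rcases hn with hn | hn
        · rw [hn, TensorProduct.smul_tmul', show Nat.card (Abelianization Q₁) • x = 0 from by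
            rw [show Nat.card (Abelianization Q₁) = Nat.card (Additive (Abelianization Q₁)) from
              Nat.card_congr Additive.ofMul]
            exact card_nsmul_eq_zero', TensorProduct.zero_tmul]
        · rw [hn, ← TensorProduct.tmul_smul, show Nat.card (Abelianization Q₂) • y = 0 from by
            rw [show Nat.card (Abelianization Q₂) = Nat.card (Additive (Abelianization Q₂)) from
              Nat.card_congr Additive.ofMul]
            exact card_nsmul_eq_zero', TensorProduct.tmul_zero]
      | add x y hx hy => rw [smul_add, hx, hy, add_zero]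
    rw [← AddMonoid.addOrderOf_eq_one_iff]
    exact Nat.eq_one_of_dvd_coprimes hcop (addOrderOf_dvd_iff_nsmul_eq_zero.2 (key _ (Or.inl rfl)))
      (addOrderOf_dvd_iff_nsmul_eq_zero.2 (key _ (Or.inr rfl)))
  let e : A × B ≃* A × B × Multiplicative (Additive (Abelianization Q₁) ⊗[ℤ] Additive (Abelianization Q₂)) :=
    { toFun := fun z => (z.1, z.2, 1)
      invFun := fun z => (z.1, z.2.1)
      left_inv := fun z => rfl
      right_inv := fun z => Prod.ext rfl (Prod.ext rfl (Multiplicative.toAdd.injective (Subsingleton.elim _ _)))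
      map_mul' := fun x y => by simp }
  refine ⟨?_, fun Γ _ _ σ hσ => ?_⟩
  · obtain ⟨Γ, _, hfin, σ, hσ, ⟨f⟩⟩ := h.1
    exact ⟨Γ, inferInstance, hfin, σ, hσ, ⟨f.trans e.symm⟩⟩
  · obtain ⟨π, hπ⟩ := h.2 Γ σ hσ
    exact ⟨π.comp e.toMonoidHom, hπ.comp e.surjective⟩

end Cfsg.Agent.S3980
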