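import Cfsg.Statements.S3981
import Cfsg.Agent.Lib.FGS.Basics
import Mathlib.GroupTheory.Nilpotent

set_option autoImplicit false
open Cfsg

namespace Cfsg.Agent.S3981

/-- Let p be an odd prime, Q a p-subgroup of the finite group G and y an involution normalizing Q. Then Q is maximal among the p-subgroups of G normalized by y if and only if the image of y in N_G(Q) ⧸ Q neither inverts nor centralizes any element of order p there; the latter is phrased inside N_G(Q): for every x in N_G(Q) outside Q with x ^ p ∈ Q, neither y x y⁻¹ x nor y x y⁻¹ x⁻¹ lies in Q. -/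
theorem result {G : Type*} [Group G] [Finite G] (p : ℕ) [Fact p.Prime] (hp2 : p ≠ 2) (Q : Subgroup G) (hQ : IsPGroup p ↥Q) (y : G) (hy : orderOf y = 2) (hyQ : y ∈ Subgroup.normalizer (Q : Set G)) : (∀ R : Subgroup G, IsPGroup p ↥R → Q ≤ R → y ∈ Subgroup.normalizer (R : Set G) → R = Q) ↔ ∀ x : G, x ∈ Subgroup.normalizer (Q : Set G) → x ∉ Q → x ^ p ∈ Q → (y * x * y⁻¹ * x ∉ Q ∧ y * x * y⁻¹ * x⁻¹ ∉ Q) := by
  classical
  set N := Subgroup.normalizer (Q : Set G) with hN
  have hyy : y * y = 1 := by rw [← sq, ← hy]; exact pow_orderOf_eq_one y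
  have hyinv : y⁻¹ = y := inv_eq_of_mul_eq_one_left hyy
  constructor
  · intro hmax x hxN hxQ hxp
    obtain ⟨k, hk⟩ := hQ ⟨x ^ p, hxp⟩
    have hk' : x ^ p ^ (k + 1) = 1 := by
      rw [pow_succ', pow_mul]; simpa using congrArg Subtype.val hk
    obtain ⟨j, -, hj⟩ := (Nat.dvd_prime_pow (Fact.out : p.Prime)).1 (orderOf_dvd_of_pow_eq_one hk')
    set R := Q ⊔ Subgroup.zpowers x with hR
    have hRp : IsPGroup p R :=
      hQ.to_sup_of_normal_left' (CfsgLib.FGS.isPGroup_zpowers hj) (Subgroup.zpowers_le.2 hxN)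
    have hxR : x ∈ R := le_sup_right (a := Q) (Subgroup.mem_zpowers x)
    have hnot : y * x * y⁻¹ ∉ R := by
      intro hm
      have hle : R.map (MulAut.conj y).toMonoidHom ≤ R := by
        rw [hR, Subgroup.map_sup, sup_le_iff]
        refine ⟨?_, ?_⟩
        · rintro _ ⟨q, hq, rfl⟩
          exact le_sup_left (b := Subgroup.zpowers x) ((Subgroup.mem_normalizer_iff.1 hyQ q).1 hq)
        · rw [MonoidHom.map_zpowers, Subgroup.zpowers_le]
          exact hm
      have hyR : y ∈ Subgroup.normalizer (R : Set G) := by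
        refine Subgroup.mem_normalizer_iff.2 fun z => ⟨fun hz => hle ⟨z, hz, rfl⟩, fun hz => ?_⟩
        have h3 : y * (y * z * y⁻¹) * y⁻¹ ∈ R := hle ⟨_, hz, rfl⟩
        rw [show y * (y * z * y⁻¹) * y⁻¹ = (y * y) * z * (y * y)⁻¹ by group, hyy] at h3
        simpa using h3
      exact hxQ (hmax R hRp le_sup_left hyR ▸ hxR)
    refine ⟨fun h => hnot ?_, fun h => hnot ?_⟩
    · have h2 : y * x * y⁻¹ = (y * x * y⁻¹ * x) * x⁻¹ := by group
      rw [h2]; exact mul_mem (le_sup_left (b := Subgroup.zpowers x) h) (inv_mem hxR)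
    · have h2 : y * x * y⁻¹ = (y * x * y⁻¹ * x⁻¹) * x := by group
      rw [h2]; exact mul_mem (le_sup_left (b := Subgroup.zpowers x) h) hxR
  · intro hno R hR hQR hyR
    by_contra hne
    haveI : Group.IsNilpotent R := hR.isNilpotent
    have hlt : Q.subgroupOf R < ⊤ := lt_of_le_of_ne le_top fun e =>
      hne (le_antisymm (Subgroup.subgroupOf_eq_top.1 e) hQR)
    obtain ⟨⟨z₀, hz₀R⟩, hz₀N, hz₀Q⟩ :=
      SetLike.exists_of_lt (Group.normalizerCondition_of_isNilpotent (Q.subgroupOf R) hlt)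
    have hz₀Q' : z₀ ∉ Q := hz₀Q
    have hz₀N' : z₀ ∈ N := by
      refine Subgroup.mem_normalizer_iff.2 fun q => ?_
      constructor
      · intro hq
        exact (Subgroup.mem_normalizer_iff.1 hz₀N ⟨q, hQR hq⟩).1 hq
      · intro hq
        have hqR : q ∈ R := by
          have := mul_mem (mul_mem (inv_mem hz₀R) (hQR hq)) hz₀R
          simpa [mul_assoc] using this
        exact (Subgroup.mem_normalizer_iff.1 hz₀N ⟨q, hqR⟩).2 hq
    -- replace an element by a power whose `p`-th power lies in `Q`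
    have key : ∀ z ∈ R, z ∈ N → z ∉ Q → ∃ n : ℕ, z ^ n ∉ Q ∧ (z ^ n) ^ p ∈ Q := by
      intro z hzR _ hzQ
      have hex : ∃ k : ℕ, z ^ p ^ k ∈ Q := by
        obtain ⟨k, hk⟩ := hR ⟨z, hzR⟩
        exact ⟨k, by rw [show z ^ p ^ k = 1 by simpa using congrArg Subtype.val hk]; exact one_mem Q⟩
      have hpos : Nat.find hex ≠ 0 := fun e => hzQ (by simpa [e] using Nat.find_spec hex)
      obtain ⟨j, hj⟩ := Nat.exists_eq_succ_of_ne_zero hpos
      refine ⟨p ^ j, Nat.find_min hex (by omega), ?_⟩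
      rw [← pow_mul, ← pow_succ]
      simpa [hj] using Nat.find_spec hex
    obtain ⟨n, hn1, hn2⟩ := key z₀ hz₀R hz₀N' hz₀Q'
    set z := z₀ ^ n
    have hzR : z ∈ R := pow_mem hz₀R _
    have hzN : z ∈ N := pow_mem hz₀N' _
    have hyzR : y * z * y⁻¹ ∈ R := (Subgroup.mem_normalizer_iff.1 hyR z).1 hzR
    have hyzN : y * z * y⁻¹ ∈ N := mul_mem (mul_mem hyQ hzN) (inv_mem hyQ)
    set u := z⁻¹ * (y * z * y⁻¹) with hu
    by_cases huQ : u ∈ Q
    · refine (hno z hzN hn1 hn2).2 ?_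
      rw [show y * z * y⁻¹ * z⁻¹ = z * u * z⁻¹ by rw [hu]; group]
      exact (Subgroup.mem_normalizer_iff.1 hzN u).1 huQ
    · obtain ⟨m, hm1, hm2⟩ := key u (mul_mem (inv_mem hzR) hyzR) (mul_mem (inv_mem hzN) hyzN) huQ
      refine (hno (u ^ m) (pow_mem (mul_mem (inv_mem hzN) hyzN) _) hm1 hm2).1 ?_
      have hyu : y * u * y⁻¹ = u⁻¹ := by
        rw [hu]
        calc y * (z⁻¹ * (y * z * y⁻¹)) * y⁻¹ = y * z⁻¹ * y * z * (y * y)⁻¹ := by group
          _ = y * z⁻¹ * y⁻¹ * z := by rw [hyy, hyinv]; group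
          _ = (z⁻¹ * (y * z * y⁻¹))⁻¹ := by group
      rw [← conj_pow, hyu, inv_pow, inv_mul_cancel]
      exact one_mem Q

end Cfsg.Agent.S3981
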