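import Cfsg.Statements.S3982
import Cfsg.Agent.Lib.FGS.Basics
import Mathlib.GroupTheory.FixedPointFree
import Mathlib.GroupTheory.Nilpotent

set_option autoImplicit false
open Cfsg

namespace Cfsg.Agent.S3982

/-- Let p be an odd prime and G a finite group of even order divisible by p in which the centralizer of every non-identity p-element has odd order. If some nontrivial p-subgroup of G has a normalizer of even order, then the normalizer of every Sylow p-subgroup of G has even order. -/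
theorem result {G : Type*} [Group G] [Finite G] (p : ℕ) [Fact p.Prime] (hp2 : p ≠ 2) (hpG : p ∣ Nat.card G) (h2G : 2 ∣ Nat.card G) (hC : ∀ g : G, g ≠ 1 → (∃ k : ℕ, orderOf g = p ^ k) → Odd (Nat.card ↥(Subgroup.centralizer ({g} : Set G)))) (Q : Subgroup G) (hQ : IsPGroup p ↥Q) (hQ1 : Q ≠ ⊥) (hev : Even (Nat.card ↥(Subgroup.normalizer (Q : Set G)))) (P : Sylow p G) : Even (Nat.card ↥(Subgroup.normalizer ((P : Subgroup G) : Set G))) := by
  classical
  have hodd : ∀ g : G, g ≠ 1 → (∃ k : ℕ, orderOf g = p ^ k) →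
      ∀ h : G, h * g = g * h → Odd (orderOf h) := by
    intro g hg hk h hh
    exact (hC g hg hk).of_dvd_nat
      (Subgroup.orderOf_dvd_natCard _ (Subgroup.mem_centralizer_singleton_iff.2 hh))
  have hord : ∀ {H : Subgroup G}, IsPGroup p H → ∀ g ∈ H, ∃ k : ℕ, orderOf g = p ^ k := by
    intro H hH g hg
    obtain ⟨k, hk⟩ := IsPGroup.iff_orderOf.1 hH ⟨g, hg⟩
    exact ⟨k, by rw [← hk, Subgroup.orderOf_mk]⟩
  obtain ⟨R, hQR, ⟨hRp, hRev⟩, hRmax⟩ := Finite.exists_le_maximal
    (p := fun R : Subgroup G => IsPGroup p R ∧ Even (Nat.card (Subgroup.normalizer (R : Set G))))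
    (a := Q) ⟨hQ, hev⟩
  set M := Subgroup.normalizer (R : Set G) with hM
  obtain ⟨r₀, hr₀, hr₀1⟩ : ∃ r ∈ R, r ≠ 1 := by
    obtain ⟨q, hq, hq1⟩ := (Subgroup.ne_bot_iff_exists_ne_one.1 hQ1 |>
      fun ⟨q, hq⟩ => (⟨(q : G), q.2, fun e => hq (Subtype.ext e)⟩ : ∃ q ∈ Q, q ≠ 1))
    exact ⟨q, hQR hq, hq1⟩
  haveI : Fact (Nat.Prime 2) := ⟨Nat.prime_two⟩
  obtain ⟨⟨y, hyM⟩, hy⟩ := exists_prime_orderOf_dvd_card' (G := M) 2 (even_iff_two_dvd.1 hRev)
  have hy2 : orderOf y = 2 := by rw [← hy, Subgroup.orderOf_mk]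
  have hyy : y * y = 1 := by rw [← sq, ← hy2]; exact pow_orderOf_eq_one y
  -- `y` inverts `R`
  let φ : R →* R :=
    { toFun := fun r => ⟨y * r * y⁻¹, (Subgroup.mem_normalizer_iff.1 hyM r).1 r.2⟩
      map_one' := Subtype.ext (by simp)
      map_mul' := fun a b => Subtype.ext (by simp [mul_assoc]) }
  have hφ : MonoidHom.FixedPointFree φ := by
    intro r hr
    by_contra hr1
    have h1 : y * (r : G) * y⁻¹ = r := congrArg Subtype.val hr
    have h2 := hodd r (fun e => hr1 (Subtype.ext e)) (hord hRp r r.2) y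
      (mul_inv_eq_iff_eq_mul.1 h1)
    rw [hy2] at h2
    exact absurd h2 (by decide)
  have hinv : ∀ r ∈ R, y * r * y⁻¹ = r⁻¹ := by
    intro r hr
    have h2 : Function.Involutive φ := fun s => Subtype.ext (by
      show y * (y * (s : G) * y⁻¹) * y⁻¹ = s
      rw [show y * (y * (s : G) * y⁻¹) * y⁻¹ = (y * y) * s * (y * y)⁻¹ by group, hyy]; group)
    exact congrArg Subtype.val (congrFun (hφ.coe_eq_inv_of_involutive h2) ⟨r, hr⟩)
  -- the centraliser of `R`
  set C := Subgroup.centralizer (R : Set G)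
  have hCM : C ≤ M := fun c hc => by
    refine Subgroup.mem_normalizer_iff.2 fun r => ⟨fun hr => ?_, fun hr => ?_⟩
    · rw [← Subgroup.mem_centralizer_iff.1 hc r hr, mul_inv_cancel_right]; exact hr
    · have h : c * (c * r * c⁻¹) = c * r * c⁻¹ * c :=
        (Subgroup.mem_centralizer_iff.1 hc _ hr).symm
      rw [show r = c * r * c⁻¹ by
        calc r = c⁻¹ * (c * r * c⁻¹ * c) := by group
          _ = c⁻¹ * (c * (c * r * c⁻¹)) := by rw [h]
          _ = c * r * c⁻¹ := by group]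
      exact hr
  have hCn : ∀ m ∈ M, ∀ c ∈ C, m * c * m⁻¹ ∈ C := by
    intro m hm c hc
    rw [Subgroup.mem_centralizer_iff]
    intro r hr
    have h1 : m⁻¹ * r * m ∈ R := by
      simpa using (Subgroup.mem_normalizer_iff.1 (inv_mem hm) r).1 hr
    calc r * (m * c * m⁻¹) = m * ((m⁻¹ * r * m) * c) * m⁻¹ := by group
      _ = m * (c * (m⁻¹ * r * m)) * m⁻¹ := by rw [Subgroup.mem_centralizer_iff.1 hc _ h1]
      _ = m * c * m⁻¹ * r := by group
  set C₀ := C.subgroupOf M with hC₀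
  haveI : C₀.Normal := ⟨fun c hc m => hCn m m.2 c hc⟩
  obtain ⟨S⟩ := (inferInstance : Nonempty (Sylow p C₀))
  set S₁ : Subgroup M := (S : Subgroup C₀).map C₀.subtype with hS₁
  set S' : Subgroup G := S₁.map M.subtype with hS'
  have hS'p : IsPGroup p S' := (S.isPGroup'.map _).map _
  have hRab : R ≤ C := by
    intro r hr
    rw [Subgroup.mem_centralizer_iff]
    intro s hs
    have h1 : y * (s * r) * y⁻¹ = (y * s * y⁻¹) * (y * r * y⁻¹) := by group
    rw [hinv r hr, hinv s hs, hinv _ (mul_mem hs hr), ← mul_inv_rev] at h1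
    exact inv_injective h1
  have hRS : R ≤ S' := by
    set R₀ := (R.subgroupOf M).subgroupOf C₀ with hR₀
    have hR₀p : IsPGroup p R₀ := by
      refine (hRp.comap_of_injective M.subtype M.subtype_injective).comap_of_injective C₀.subtype
        C₀.subtype_injective
    haveI : (R.subgroupOf M).Normal := Subgroup.normal_in_normalizer
    haveI : R₀.Normal := inferInstanceAs ((R.subgroupOf M).comap C₀.subtype).Normal
    have hle : R₀ ≤ (S : Subgroup C₀) := by
      have hp' := S.isPGroup'.to_sup_of_normal_right hR₀p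
      exact le_sup_right.trans (S.is_maximal' hp' le_sup_left).le
    intro r hr
    exact ⟨⟨r, Subgroup.le_normalizer hr⟩,
      ⟨⟨⟨r, Subgroup.le_normalizer hr⟩, hRab hr⟩, hle hr, rfl⟩, rfl⟩
  have hS'R : S' = R := by
    refine le_antisymm (hRmax ⟨hS'p, ?_⟩ hRS) hRS
    have htop := Sylow.normalizer_sup_eq_top S
    have hmem : (⟨y, hyM⟩ : M) ∈ Subgroup.normalizer (S₁ : Set M) ⊔ C₀ := by
      rw [hS₁, htop]; exact Subgroup.mem_top _
    obtain ⟨n, hn, c, hc, hnc⟩ := Subgroup.mem_sup_of_normal_right.1 hmem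
    have hnc' : (n : G) * (c : G) = y := congrArg Subtype.val hnc
    have hnN : (n : G) ∈ Subgroup.normalizer (S' : Set G) := by
      refine Subgroup.mem_normalizer_iff.2 fun s => ⟨?_, ?_⟩
      · rintro ⟨s', hs', rfl⟩
        exact ⟨n * s' * n⁻¹, (Subgroup.mem_normalizer_iff.1 hn s').1 hs', rfl⟩
      · rintro ⟨s', hs', he⟩
        refine ⟨n⁻¹ * s' * n, ?_, ?_⟩
        · simpa using (Subgroup.mem_normalizer_iff.1 (inv_mem hn) s').1 hs'
        · simp [show (s' : G) = n * s * (n : G)⁻¹ from he, mul_assoc]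
    -- an element inverting `R` has even order
    have hneven : Even (orderOf (n : G)) := by
      have hconj : (n : G) * r₀ * (n : G)⁻¹ = r₀⁻¹ := by
        rw [← hinv r₀ hr₀, ← hnc']
        calc (n : G) * r₀ * (n : G)⁻¹ = n * (r₀ * c) * (c : G)⁻¹ * (n : G)⁻¹ := by group
          _ = n * ((c : G) * r₀) * (c : G)⁻¹ * (n : G)⁻¹ := by
            rw [show r₀ * (c : G) = (c : G) * r₀ from Subgroup.mem_centralizer_iff.1 (hc : (c : G) ∈ C) r₀ hr₀]
          _ = (n : G) * c * r₀ * ((n : G) * c)⁻¹ := by group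
      by_contra hno
      obtain ⟨j, hj⟩ := Nat.not_even_iff_odd.1 hno
      have key : ∀ i : ℕ, (n : G) ^ (2 * i) * r₀ * ((n : G) ^ (2 * i))⁻¹ = r₀ := by
        intro i
        induction i with
        | zero => simp
        | succ i ih =>
          calc (n : G) ^ (2 * (i + 1)) * r₀ * ((n : G) ^ (2 * (i + 1)))⁻¹
              = n * (n * ((n : G) ^ (2 * i) * r₀ * ((n : G) ^ (2 * i))⁻¹) * (n : G)⁻¹) * (n : G)⁻¹ := by
                rw [show 2 * (i + 1) = 1 + (1 + 2 * i) by omega, pow_add, pow_add, pow_one]; group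
            _ = r₀ := by rw [ih, hconj, ← conj_inv, hconj, inv_inv]
      have h1 := pow_orderOf_eq_one (n : G)
      rw [hj, pow_succ] at h1
      have h2 : (n : G) ^ (2 * j) = (n : G)⁻¹ := eq_inv_of_mul_eq_one_left h1
      have h3 := key j
      rw [h2, inv_inv] at h3
      have h4 : r₀ = r₀⁻¹ := by
        calc r₀ = n * ((n : G)⁻¹ * r₀ * n) * (n : G)⁻¹ := by group
          _ = r₀⁻¹ := by rw [h3, hconj]
      obtain ⟨k, hk⟩ := hord hRp r₀ hr₀
      have h5 : orderOf r₀ ∣ 2 := orderOf_dvd_of_pow_eq_one (by rw [sq]; nth_rw 2 [h4]; exact mul_inv_cancel r₀)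
      rcases (Nat.dvd_prime Nat.prime_two).1 h5 with h6 | h6
      · exact hr₀1 (orderOf_eq_one_iff.1 h6)
      · exact hp2 (((Nat.prime_dvd_prime_iff_eq Nat.prime_two Fact.out).1
          ((Nat.prime_two.dvd_of_dvd_pow (n := k) (hk ▸ h6.symm.dvd)))).symm)
    exact even_iff_two_dvd.2 ((even_iff_two_dvd.1 hneven).trans (Subgroup.orderOf_dvd_natCard _ hnN))
  -- every `p`-element of `M` centralises `R`
  have hpC : ∀ g ∈ M, (∃ k : ℕ, orderOf g = p ^ k) → g ∈ C := by
    intro g hg hgk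
    set d₀ := g * y * g⁻¹ * y⁻¹ with hd₀
    have hd₀C : d₀ ∈ C := by
      rw [Subgroup.mem_centralizer_iff]
      intro r hr
      have hyM' : ∀ s ∈ R, y⁻¹ * s * y = s⁻¹ := fun s hs => by
        rw [← hinv s hs, inv_eq_of_mul_eq_one_left hyy]
      have h1 : g⁻¹ * r * g ∈ R := by
        simpa using (Subgroup.mem_normalizer_iff.1 (inv_mem hg) r).1 hr
      have e : d₀⁻¹ * r * d₀ = r := by
        calc d₀⁻¹ * r * d₀ = y * (g * (y⁻¹ * (g⁻¹ * r * g) * y) * g⁻¹) * y⁻¹ := by rw [hd₀]; group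
          _ = y * r⁻¹ * y⁻¹ := by rw [hyM' _ h1]; group
          _ = r := by rw [← conj_inv, hinv r hr, inv_inv]
      calc r * d₀ = d₀ * (d₀⁻¹ * r * d₀) := by group
        _ = d₀ * r := by rw [e]
    have hoddd : Odd (orderOf d₀) := hodd r₀ hr₀1 (hord hRp r₀ hr₀) d₀
      (Subgroup.mem_centralizer_iff.1 hd₀C r₀ hr₀).symm
    obtain ⟨j, hj⟩ := hoddd
    set d := d₀ ^ (j + 1) with hd
    have hdd : d * d = d₀ := by
      rw [hd, ← pow_add, show j + 1 + (j + 1) = (2 * j + 1) + 1 by omega, pow_succ, ← hj,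
        pow_orderOf_eq_one, one_mul]
    have hyd₀ : y * d₀ * y⁻¹ = d₀⁻¹ := by
      rw [hd₀]
      calc y * (g * y * g⁻¹ * y⁻¹) * y⁻¹ = y * g * y * g⁻¹ * (y * y)⁻¹ := by group
        _ = y * g * y⁻¹ * g⁻¹ := by rw [hyy, inv_eq_of_mul_eq_one_left hyy]; group
        _ = (g * y * g⁻¹ * y⁻¹)⁻¹ := by group
    have hyd : y * d * y⁻¹ = d⁻¹ := by rw [hd, ← conj_pow, hyd₀, inv_pow]
    -- `d⁻¹ * g` commutes with `y`
    have hcomm : y * (d⁻¹ * g) = d⁻¹ * g * y := by
      calc y * (d⁻¹ * g) = (y * d⁻¹ * y⁻¹) * (y * g) := by group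
        _ = d * (y * g) := by rw [← conj_inv, hyd, inv_inv]
        _ = d⁻¹ * (d * d) * (y * g) := by group
        _ = d⁻¹ * g * y := by rw [hdd, hd₀]; group
    set h := d⁻¹ * g
    have hcop : (orderOf h).Coprime p := by
      refine ((Nat.Prime.coprime_iff_not_dvd Fact.out).2 fun hdvd => ?_).symm
      obtain ⟨a, b, ⟨k, hk⟩, hb, hab, -⟩ := CfsgLib.FGS.exists_p_parts p h
      by_cases ha : h ^ a = 1
      · rw [ha, one_mul] at hab
        rw [hab] at hb
        exact Nat.Prime.not_coprime_iff_dvd.2 ⟨p, Fact.out, hdvd, dvd_rfl⟩ hb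
      · have := hodd (h ^ a) ha ⟨k, hk⟩ y (Commute.pow_right (hcomm : Commute y h) a).eq
        rw [hy2] at this
        exact absurd this (by decide)
    have hhM : h ∈ M := mul_mem (inv_mem (hCM (pow_mem hd₀C _))) hg
    let π := QuotientGroup.mk' C₀
    have hπd : π ⟨d, hCM (pow_mem hd₀C _)⟩ = 1 :=
      (QuotientGroup.eq_one_iff _).2 (pow_mem hd₀C _ : d ∈ C)
    have hπ : π ⟨g, hg⟩ = π ⟨h, hhM⟩ := by
      rw [show (⟨g, hg⟩ : M) = ⟨d, hCM (pow_mem hd₀C _)⟩ * ⟨h, hhM⟩ from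
        Subtype.ext (by show g = d * (d⁻¹ * g); group), map_mul, hπd, one_mul]
    obtain ⟨k, hk⟩ := hgk
    have h1 : orderOf (π ⟨g, hg⟩) ∣ p ^ k := by
      rw [← hk, ← Subgroup.orderOf_mk g hg]; exact orderOf_map_dvd π _
    have h2 : orderOf (π ⟨g, hg⟩) ∣ orderOf h := by
      rw [hπ, ← Subgroup.orderOf_mk h hhM]; exact orderOf_map_dvd π _
    have h3 := orderOf_eq_one_iff.1 (Nat.eq_one_of_dvd_coprimes (hcop.symm.pow_left k) h1 h2)
    exact ((QuotientGroup.eq_one_iff _).1 h3 : (⟨g, hg⟩ : M) ∈ C₀)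
  -- so `R` is a Sylow subgroup
  obtain ⟨T, hT⟩ := hRp.exists_le_sylow
  have hTR : (T : Subgroup G) = R := by
    by_contra hne
    haveI : Group.IsNilpotent (T : Subgroup G) := T.isPGroup'.isNilpotent
    have hlt : R.subgroupOf T < ⊤ := lt_of_le_of_ne le_top fun e =>
      hne (le_antisymm (Subgroup.subgroupOf_eq_top.1 e) hT)
    obtain ⟨⟨z, hzT⟩, hzN, hzR⟩ :=
      SetLike.exists_of_lt (Group.normalizerCondition_of_isNilpotent (R.subgroupOf T) hlt)
    apply hzR
    have hzM : z ∈ M := by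
      refine Subgroup.mem_normalizer_iff.2 fun q => ?_
      constructor
      · intro hq
        exact (Subgroup.mem_normalizer_iff.1 hzN ⟨q, hT hq⟩).1 hq
      · intro hq
        have hqT : q ∈ (T : Subgroup G) := by
          have := mul_mem (mul_mem (inv_mem hzT) (hT hq)) hzT
          simpa [mul_assoc] using this
        exact (Subgroup.mem_normalizer_iff.1 hzN ⟨q, hqT⟩).2 hq
    have hzC := hpC z hzM (hord T.isPGroup' z hzT)
    -- the `p`-group `⟨z⟩` lies in the unique Sylow subgroup of `C₀`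
    set Z := (Subgroup.zpowers z).subgroupOf M |>.subgroupOf C₀
    obtain ⟨k, hk⟩ := hord T.isPGroup' z hzT
    have hZp : IsPGroup p Z :=
      ((CfsgLib.FGS.isPGroup_zpowers hk).comap_of_injective M.subtype M.subtype_injective).comap_of_injective
        C₀.subtype C₀.subtype_injective
    obtain ⟨S₂, hS₂⟩ := hZp.exists_le_sylow
    obtain ⟨c, hc⟩ := MulAction.exists_smul_eq C₀ S S₂
    have hz2 : (⟨⟨z, hzM⟩, hzC⟩ : C₀) ∈ (S₂ : Subgroup C₀) := hS₂ (Subgroup.mem_zpowers z)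
    rw [← hc, Sylow.coe_subgroup_smul, CfsgLib.FGS.mem_conj_smul] at hz2
    have hz3 : (c : G)⁻¹ * z * (c : G) ∈ R := hS'R ▸ ⟨_, ⟨_, hz2, rfl⟩, rfl⟩
    have hcM : ((c : M) : G) ∈ M := (c : M).2
    have := (Subgroup.mem_normalizer_iff.1 hcM _).1 hz3
    show z ∈ R
    simpa [mul_assoc] using this
  have hcard : Nat.card (Subgroup.normalizer ((P : Subgroup G) : Set G)) = Nat.card M := by
    have e1 := (Subgroup.normalizer ((P : Subgroup G) : Set G)).index_mul_card
    have e2 := M.index_mul_card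
    have hi : M.index = (Subgroup.normalizer ((P : Subgroup G) : Set G)).index := by
      rw [hM, ← hTR]
      exact (Sylow.card_eq_index_normalizer T).symm.trans (Sylow.card_eq_index_normalizer P)
    rw [hi, ← e1] at e2
    exact (Nat.eq_of_mul_eq_mul_left (Nat.pos_of_ne_zero Subgroup.index_ne_zero_of_finite) e2).symm
  rw [hcard]
  exact hRev

end Cfsg.Agent.S3982
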