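import Cfsg.Statements.S3983
import Cfsg.Agent.Lib.FGS.Basics

set_option autoImplicit false
open scoped Pointwise
open Cfsg

namespace Cfsg.Agent.S3983

/-- Let P be a Sylow p-subgroup of the finite group G that meets each conjugate g P g⁻¹ with g outside N_G(P) trivially, and let U be a subgroup of G of order divisible by p. Then a Sylow p-subgroup Q of U has the same property inside U: Q meets each conjugate u Q u⁻¹ with u ∈ U outside N_U(Q) trivially. -/
theorem result {G : Type*} [Group G] [Finite G] (p : ℕ) [Fact p.Prime] (P : Sylow p G) (hTI : ∀ g : G, g ∉ Subgroup.normalizer ((P : Subgroup G) : Set G) → (P : Subgroup G) ⊓ (MulAut.conj g • (P : Subgroup G)) = ⊥) (U : Subgroup G) (hU : p ∣ Nat.card ↥U) (Q : Sylow p ↥U) : ∀ u : ↥U, u ∉ Subgroup.normalizer ((Q : Subgroup ↥U) : Set ↥U) → (Q : Subgroup ↥U) ⊓ (MulAut.conj u • (Q : Subgroup ↥U)) = ⊥ := by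
  intro u hu
  rw [eq_bot_iff]
  rintro y ⟨hy, hy'⟩
  rw [Subgroup.mem_bot]
  by_contra hy1
  obtain ⟨R, hR⟩ := (Q.2.map U.subtype).exists_le_sylow
  have hQeq : ∀ z : ↥U, z ∈ (Q : Subgroup ↥U) ↔ (z : G) ∈ (R : Subgroup G) := by
    have hmax : ((R : Subgroup G).subgroupOf U) = (Q : Subgroup ↥U) :=
      Q.3 (R.2.comap_of_injective U.subtype U.subtype_injective)
        (fun z hz => hR (Subgroup.mem_map_of_mem U.subtype hz))
    intro z
    rw [← hmax, Subgroup.mem_subgroupOf]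
  have h1 : (y : G) ∈ (R : Subgroup G) := (hQeq y).1 hy
  have h2 : (y : G) ∈ (((u : G) • R : Sylow p G) : Subgroup G) := by
    rw [Sylow.coe_subgroup_smul, CfsgLib.FGS.mem_conj_smul]
    exact (hQeq (u⁻¹ * y * u)).1 (CfsgLib.FGS.mem_conj_smul.1 hy')
  have heq := CfsgLib.FGS.sylow_eq_of_common P hTI R _ h1 h2 (fun h => hy1 (Subtype.ext h))
  refine hu (Subgroup.mem_normalizer_iff.2 fun z => ?_)
  rw [hQeq, hQeq]
  exact Subgroup.mem_normalizer_iff.1 (Sylow.smul_eq_iff_mem_normalizer.1 heq.symm) z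

end Cfsg.Agent.S3983
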