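import Cfsg.Statements.S3984
import Cfsg.Agent.Lib.FGS.Basics

set_option autoImplicit false
open scoped Pointwise
open Cfsg

namespace Cfsg.Agent.S3984

/-- Let P be a Sylow p-subgroup of the finite group G that meets each conjugate g P g⁻¹ with g outside N_G(P) trivially, and let N be a normal subgroup of G of order prime to p. Then every Sylow p-subgroup Q of G ⧸ N meets each conjugate x Q x⁻¹ with x outside its normalizer trivially. -/
theorem result {G : Type*} [Group G] [Finite G] (p : ℕ) [Fact p.Prime] (P : Sylow p G) (hTI : ∀ g : G, g ∉ Subgroup.normalizer ((P : Subgroup G) : Set G) → (P : Subgroup G) ⊓ (MulAut.conj g • (P : Subgroup G)) = ⊥) (N : Subgroup G) [N.Normal] (hN : (Nat.card ↥N).Coprime p) (Q : Sylow p (G ⧸ N)) : ∀ x : G ⧸ N, x ∉ Subgroup.normalizer ((Q : Subgroup (G ⧸ N)) : Set (G ⧸ N)) → (Q : Subgroup (G ⧸ N)) ⊓ (MulAut.conj x • (Q : Subgroup (G ⧸ N))) = ⊥ := by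
  classical
  intro x hx
  rw [eq_bot_iff]
  rintro y ⟨hy, hy'⟩
  rw [Subgroup.mem_bot]
  by_contra hy1
  have hsurj := QuotientGroup.mk'_surjective N
  -- a `p`-element above `y`
  obtain ⟨w, rfl⟩ := QuotientGroup.mk_surjective y
  obtain ⟨a, b, ⟨k, hk⟩, hcop, hab, -⟩ := CfsgLib.FGS.exists_p_parts p w
  set v := w ^ a
  obtain ⟨e, he⟩ := Q.isPGroup' ⟨(w : G ⧸ N), hy⟩
  have hwb : ((w ^ b : G) : G ⧸ N) = 1 := by
    rw [← orderOf_eq_one_iff]
    refine Nat.eq_one_of_dvd_coprimes (hcop.pow_right e).symm ?_ (orderOf_map_dvd (QuotientGroup.mk' N) _)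
    refine orderOf_dvd_of_pow_eq_one ?_
    rw [QuotientGroup.mk_pow, ← pow_mul, mul_comm, pow_mul]
    rw [show ((w : G ⧸ N)) ^ p ^ e = 1 from congrArg Subtype.val he, one_pow]
  have hvw : ((v : G) : G ⧸ N) = (w : G ⧸ N) := by
    conv_rhs => rw [← hab, QuotientGroup.mk_mul, hwb, mul_one]
  -- Sylow subgroups above `Q` containing `v`
  have above : ∀ Q' : Sylow p (G ⧸ N), (w : G ⧸ N) ∈ (Q' : Subgroup (G ⧸ N)) →
      ∃ R : Sylow p G, v ∈ (R : Subgroup G) ∧ R.mapSurjective hsurj = Q' := by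
    intro Q' hQ'
    obtain ⟨R, hR⟩ := Sylow.mapSurjective_surjective hsurj p Q'
    subst hR
    rw [Sylow.coe_mapSurjective] at hQ'
    set M := (R : Subgroup G) ⊔ N
    have hvM : v ∈ M := by
      obtain ⟨r, hr, hrw⟩ := hQ'
      rw [show v = r * (r⁻¹ * v) by group]
      exact mul_mem (Subgroup.mem_sup_left hr)
        (Subgroup.mem_sup_right (QuotientGroup.eq.1 (hrw.trans hvw.symm)))
    obtain ⟨S, hS⟩ := (CfsgLib.FGS.isPGroup_zpowers (u := (⟨v, hvM⟩ : M))
      (by rw [Subgroup.orderOf_mk]; exact hk)).exists_le_sylow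
    obtain ⟨m, hm⟩ := MulAction.exists_smul_eq M (R.subtype (le_sup_left : (R : Subgroup G) ≤ M)) S
    refine ⟨(m : G) • R, ?_, ?_⟩
    · have h0 := hS (Subgroup.mem_zpowers (⟨v, hvM⟩ : M))
      rw [← hm, Sylow.coe_subgroup_smul, CfsgLib.FGS.mem_conj_smul, Sylow.coe_subtype,
        Subgroup.mem_subgroupOf] at h0
      rw [Sylow.coe_subgroup_smul, CfsgLib.FGS.mem_conj_smul]
      simpa using h0
    · have hmQ : (QuotientGroup.mk' N (m : G)) ∈ (R : Subgroup G).map (QuotientGroup.mk' N) := by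
        have h' : M.map (QuotientGroup.mk' N) = (R : Subgroup G).map (QuotientGroup.mk' N) := by
          rw [Subgroup.map_sup, (Subgroup.map_eq_bot_iff N).2 (by simp), sup_bot_eq]
        rw [← h']
        exact Subgroup.mem_map_of_mem _ m.2
      refine Sylow.ext ?_
      rw [Sylow.coe_mapSurjective, Sylow.coe_subgroup_smul, Sylow.coe_mapSurjective]
      ext z
      constructor
      · rintro ⟨r, hr, rfl⟩
        rw [SetLike.mem_coe, CfsgLib.FGS.mem_conj_smul] at hr
        have h3 := mul_mem (mul_mem hmQ (Subgroup.mem_map_of_mem (QuotientGroup.mk' N) hr)) (inv_mem hmQ)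
        simpa [mul_assoc] using h3
      · intro hz
        obtain ⟨r, hr, hrz⟩ := mul_mem (mul_mem (inv_mem hmQ) hz) hmQ
        refine ⟨(m : G) * r * (m : G)⁻¹, ?_, ?_⟩
        · rw [SetLike.mem_coe, CfsgLib.FGS.mem_conj_smul]
          rw [show (m : G)⁻¹ * ((m : G) * r * (m : G)⁻¹) * (m : G) = r by group]
          exact hr
        · rw [map_mul, map_mul, hrz, map_inv]; group
  obtain ⟨R, hvR, hRQ⟩ := above Q hy
  obtain ⟨R', hvR', hRQ'⟩ := above (x • Q) (by rw [Sylow.coe_subgroup_smul]; exact hy')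
  have hv1 : v ≠ 1 := fun h => hy1 (by rw [← hvw, h]; rfl)
  have := CfsgLib.FGS.sylow_eq_of_common P hTI R R' hvR hvR' hv1
  subst this
  exact hx (Sylow.smul_eq_iff_mem_normalizer.1 (hRQ'.symm.trans hRQ))

end Cfsg.Agent.S3984
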