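import Cfsg.Statements.S3985
import Cfsg.Agent.Lib.FGS.Basics
import Mathlib.RingTheory.Coprime.Lemmas
import Mathlib.Algebra.Ring.GeomSum
import Mathlib.RingTheory.Int.Basic

set_option autoImplicit false
open scoped Pointwise
open Cfsg

namespace Cfsg.Agent.S3985

/-- Let P be a cyclic Sylow p-subgroup of the finite group G. Then P meets each conjugate g P g⁻¹ with g outside N_G(P) trivially if and only if P is weakly self-centralizing: C_G(x) = C_G(P) for every non-identity x ∈ P. -/
theorem result {G : Type*} [Group G] [Finite G] (p : ℕ) [Fact p.Prime] (P : Sylow p G) (hcyc : IsCyclic ↥(P : Subgroup G)) : (∀ g : G, g ∉ Subgroup.normalizer ((P : Subgroup G) : Set G) → (P : Subgroup G) ⊓ (MulAut.conj g • (P : Subgroup G)) = ⊥) ↔ ∀ x : G, x ∈ (P : Subgroup G) → x ≠ 1 → Subgroup.centralizer ({x} : Set G) = Subgroup.centralizer ((P : Subgroup G) : Set G) := by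
  classical
  have hp : p.Prime := Fact.out
  constructor
  · intro hTI x hxP hx1
    refine le_antisymm ?_ (Subgroup.centralizer_le (Set.singleton_subset_iff.2 hxP))
    intro c hc
    rw [Subgroup.mem_centralizer_singleton_iff] at hc
    have hcN : c ∈ Subgroup.normalizer ((P : Subgroup G) : Set G) := by
      by_contra h
      have hmem : x ∈ (P : Subgroup G) ⊓ (MulAut.conj c • (P : Subgroup G)) :=
        ⟨hxP, CfsgLib.FGS.mem_conj_smul.2 (by rwa [mul_assoc, ← hc, inv_mul_cancel_left])⟩
      rw [hTI c h, Subgroup.mem_bot] at hmem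
      exact hx1 hmem
    obtain ⟨a, b, hka, hcop, hab, -⟩ := CfsgLib.FGS.exists_p_parts p c
    rw [← hab]
    refine mul_mem ?_ ?_
    · have hu := CfsgLib.FGS.mem_of_mem_normalizer P hka (pow_mem hcN a)
      rw [Subgroup.mem_centralizer_iff]
      intro y hy
      exact congrArg Subtype.val (hcyc.isMulCommutative.is_comm.comm
        (⟨y, hy⟩ : (P : Subgroup G)) ⟨_, hu⟩)
    · set v := c ^ b
      have hvN := pow_mem hcN b
      obtain ⟨y₀, hy₀⟩ := hcyc.exists_generator
      have hvy : v * y₀ * v⁻¹ ∈ (P : Subgroup G) := (Subgroup.mem_normalizer_iff.1 hvN y₀).1 y₀.2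
      obtain ⟨e, he⟩ := hy₀ ⟨_, hvy⟩
      have he' : (y₀ : G) ^ e = v * y₀ * v⁻¹ := by simpa using congrArg Subtype.val he
      obtain ⟨j, hj⟩ := hy₀ ⟨x, hxP⟩
      have hj' : (y₀ : G) ^ j = x := by simpa using congrArg Subtype.val hj
      obtain ⟨n, hn⟩ : ∃ n, orderOf (y₀ : G) = p ^ n := by
        obtain ⟨n, hn⟩ := IsPGroup.iff_orderOf.1 P.isPGroup' y₀
        exact ⟨n, by rw [Subgroup.orderOf_coe, hn]⟩
      have hiter : ∀ m : ℕ, v ^ m * y₀ * (v ^ m)⁻¹ = (y₀ : G) ^ (e ^ m) := by
        intro m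
        induction m with
        | zero => simp
        | succ m ih =>
          rw [show v ^ (m + 1) * y₀ * (v ^ (m + 1))⁻¹ = v * (v ^ m * y₀ * (v ^ m)⁻¹) * v⁻¹ by
            rw [pow_succ']; group]
          rw [ih, ← conj_zpow, ← he', ← zpow_mul]
          ring_nf
      have hpe : (p : ℤ) ∣ e - 1 := by
        have hcomm : Commute v x := (Commute.pow_left (show Commute c x from hc) b)
        have h1 : (y₀ : G) ^ (j * (e - 1)) = 1 := by
          rw [mul_sub, mul_one, zpow_sub, mul_inv_eq_one, mul_comm j, zpow_mul, he', conj_zpow, hj',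
            hcomm.eq, mul_inv_cancel_right]
        rw [← orderOf_dvd_iff_zpow_eq_one, hn] at h1
        by_contra hpe
        refine hx1 ?_
        rw [← hj', ← orderOf_dvd_iff_zpow_eq_one, hn]
        refine IsCoprime.dvd_of_dvd_mul_right ?_ h1
        push_cast
        exact ((Nat.prime_iff_prime_int.1 hp).coprime_iff_not_dvd.2 hpe).pow_left
      set o := orderOf v
      have h2 : (y₀ : G) ^ (e ^ o - 1) = 1 := by
        rw [zpow_sub, zpow_one, ← hiter o]
        simp [o, pow_orderOf_eq_one]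
      rw [← orderOf_dvd_iff_zpow_eq_one, hn] at h2
      have hfac : e ^ o - 1 = (∑ i ∈ Finset.range o, e ^ i) * (e - 1) := (geom_sum_mul e o).symm
      have hsum : ¬ (p : ℤ) ∣ ∑ i ∈ Finset.range o, e ^ i := by
        intro hd
        have hmod : (p : ℤ) ∣ (∑ i ∈ Finset.range o, e ^ i) - (o : ℤ) := by
          have : (∑ i ∈ Finset.range o, e ^ i) - (o : ℤ) = ∑ i ∈ Finset.range o, (e ^ i - 1) := by
            simp [Finset.sum_sub_distrib]
          rw [this]
          exact Finset.dvd_sum fun i _ => hpe.trans (sub_one_dvd_pow_sub_one e i)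
        have := dvd_sub hd hmod
        rw [sub_sub_cancel, Int.natCast_dvd_natCast] at this
        exact (Nat.Prime.coprime_iff_not_dvd hp).1 hcop.symm this
      rw [hfac] at h2
      have h3 : ((p ^ n : ℕ) : ℤ) ∣ e - 1 := by
        refine IsCoprime.dvd_of_dvd_mul_left ?_ h2
        push_cast
        exact ((Nat.prime_iff_prime_int.1 hp).coprime_iff_not_dvd.2 hsum).pow_left
      rw [← hn, orderOf_dvd_iff_zpow_eq_one, zpow_sub, zpow_one, he', mul_inv_eq_one] at h3
      rw [Subgroup.mem_centralizer_iff]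
      intro y hy
      obtain ⟨i, hi⟩ := hy₀ ⟨y, hy⟩
      have hi' : (y₀ : G) ^ i = y := by simpa using congrArg Subtype.val hi
      rw [← hi']
      exact (Commute.zpow_right (mul_inv_eq_iff_eq_mul.1 h3 : Commute v (y₀ : G)) i).eq.symm
  · intro h g hg
    rw [eq_bot_iff]
    rintro y ⟨hy, hy'⟩
    rw [Subgroup.mem_bot]
    by_contra hy1
    apply hg
    replace hy' : y ∈ MulAut.conj g • (P : Subgroup G) := hy'
    rw [CfsgLib.FGS.mem_conj_smul] at hy'
    have hz1 : g⁻¹ * y * g ≠ 1 := fun e => hy1 (by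
      calc y = g * (g⁻¹ * y * g) * g⁻¹ := by group
        _ = 1 := by rw [e]; group)
    -- `g⁻¹ c g` centralises `P` whenever `c` does
    have hcg : ∀ c, c ∈ Subgroup.centralizer ((P : Subgroup G) : Set G) →
        g⁻¹ * c * g ∈ Subgroup.centralizer ((P : Subgroup G) : Set G) := by
      intro c hc
      rw [← h y hy hy1, Subgroup.mem_centralizer_singleton_iff] at hc
      rw [← h _ hy' hz1, Subgroup.mem_centralizer_singleton_iff]
      calc g⁻¹ * c * g * (g⁻¹ * y * g) = g⁻¹ * (c * y) * g := by group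
        _ = g⁻¹ * y * g * (g⁻¹ * c * g) := by rw [hc]; group
    have hginv : g⁻¹ ∈ Subgroup.normalizer ((P : Subgroup G) : Set G) := by
      refine Subgroup.mem_normalizer_fintype fun q hq => ?_
      have hqC : q ∈ Subgroup.centralizer ((P : Subgroup G) : Set G) := by
        rw [Subgroup.mem_centralizer_iff]
        intro z hz
        exact congrArg Subtype.val (hcyc.isMulCommutative.is_comm.comm
          (⟨z, hz⟩ : (P : Subgroup G)) ⟨q, hq⟩)
      rw [inv_inv]
      refine CfsgLib.FGS.mem_of_mem_normalizer P ?_ (Subgroup.centralizer_le_normalizer _ (hcg q hqC))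
      obtain ⟨k, hk⟩ := IsPGroup.iff_orderOf.1 P.isPGroup' ⟨q, hq⟩
      refine ⟨k, ?_⟩
      have e : g⁻¹ * q * g = MulAut.conj g⁻¹ q := by simp
      rw [e, MulEquiv.orderOf_eq, ← hk, Subgroup.orderOf_mk]
    simpa using inv_mem hginv

end Cfsg.Agent.S3985
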