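import Cfsg.Statements.S3986
import Cfsg.Agent.Lib.FGS.Covering
import Mathlib.GroupTheory.SchurZassenhaus

set_option autoImplicit false
open Cfsg

namespace Cfsg.Agent.S3986

/-- A normal Sylow subgroup centralised by all elements of order prime to `p` is a direct factor. -/
theorem direct_factor {G : Type*} [Group G] [Finite G] {p : ℕ} [Fact p.Prime] (P : Sylow p G)
    (hPn : (P : Subgroup G).Normal)
    (hc : ∀ x : G, (orderOf x).Coprime p → x ∈ Subgroup.centralizer ((P : Subgroup G) : Set G)) :
    ∃ K : Subgroup G, K.Normal ∧ ¬ p ∣ Nat.card K ∧ (P : Subgroup G) ⊓ K = ⊥ ∧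
      (P : Subgroup G) ⊔ K = ⊤ := by
  obtain ⟨K, hK⟩ := Subgroup.exists_right_complement'_of_coprime (P.card_coprime_index)
  have hp : ¬ p ∣ Nat.card K := hK.symm.index_eq_card ▸ P.not_dvd_index
  refine ⟨K, ?_, hp, hK.disjoint.eq_bot, hK.sup_eq_top⟩
  constructor
  intro k hk g
  obtain ⟨⟨⟨a, ha⟩, ⟨b, hb⟩⟩, hab⟩ := hK.surjective g
  have hab' : a * b = g := hab
  have hm : b * k * b⁻¹ ∈ K := mul_mem (mul_mem hb hk) (inv_mem hb)
  have hord : (orderOf (b * k * b⁻¹)).Coprime p :=
    ((Nat.Prime.coprime_iff_not_dvd Fact.out).2 hp).symm.coprime_dvd_left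
      (Subgroup.orderOf_dvd_natCard K hm)
  have hcomm := Subgroup.mem_centralizer_iff.1 (hc _ hord) a ha
  have e : g * k * g⁻¹ = b * k * b⁻¹ := by
    calc g * k * g⁻¹ = a * (b * k * b⁻¹) * a⁻¹ := by rw [← hab']; group
      _ = b * k * b⁻¹ := by rw [hcomm]; group
  rw [e]
  exact hm


/-- Let p be a prime and G a finite group. Then some Sylow p-subgroup of G is a direct factor of G (it is normal and has a normal complement) if and only if every element of p-power order commutes with every element whose order is a power of a prime other than p. -/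
theorem result {G : Type*} [Group G] [Finite G] (p : ℕ) [Fact p.Prime] : (∃ (P : Sylow p G) (K : Subgroup G), (P : Subgroup G).Normal ∧ K.Normal ∧ (P : Subgroup G) ⊓ K = ⊥ ∧ (P : Subgroup G) ⊔ K = ⊤) ↔ ∀ x y : G, (∃ a : ℕ, orderOf x = p ^ a) → (∃ q b : ℕ, q.Prime ∧ q ≠ p ∧ orderOf y = q ^ b) → x * y = y * x := by
  classical
  have hp : p.Prime := Fact.out
  constructor
  · rintro ⟨P, K, hPn, hKn, hinf, hsup⟩ x y ⟨a, hx⟩ ⟨q, b, hq, hqp, hy⟩
    have hxP : x ∈ (P : Subgroup G) :=
      CfsgLib.FGS.mem_of_mem_normalizer P ⟨a, hx⟩ (by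
        rw [Subgroup.normalizer_eq_top_iff.2 hPn]; exact Subgroup.mem_top x)
    haveI := hKn
    have hyK : y ∈ K := by
      have hdvd : Nat.card (G ⧸ K) ∣ Nat.card (P : Subgroup G) := by
        refine Subgroup.card_dvd_of_surjective ((QuotientGroup.mk' K).comp (P : Subgroup G).subtype) ?_
        intro z
        induction z using QuotientGroup.induction_on with
        | _ z =>
          have hz : z ∈ (P : Subgroup G) ⊔ K := by rw [hsup]; exact Subgroup.mem_top z
          rw [Subgroup.mem_sup_of_normal_right] at hz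
          obtain ⟨u, hu, v, hv, rfl⟩ := hz
          exact ⟨⟨u, hu⟩, by simpa using hv⟩
      rw [← QuotientGroup.eq_one_iff, ← orderOf_eq_one_iff]
      obtain ⟨n, hn⟩ := P.isPGroup'.exists_card_eq
      refine Nat.eq_one_of_dvd_coprimes (Nat.Coprime.pow b n ((Nat.coprime_primes hq hp).2 hqp))
        ((orderOf_map_dvd (QuotientGroup.mk' K) y).trans hy.dvd) ?_
      rw [← hn]
      exact (orderOf_dvd_natCard _).trans hdvd
    exact Subgroup.commute_of_normal_of_disjoint _ _ hPn hKn (disjoint_iff.2 hinf) x y hxP hyK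
  · intro h
    obtain ⟨P⟩ : Nonempty (Sylow p G) := inferInstance
    have hc : ∀ x : G, (orderOf x).Coprime p → x ∈ Subgroup.centralizer ((P : Subgroup G) : Set G) := by
      intro x hx
      refine CfsgLib.FGS.mem_of_prime_powers _ x fun c ⟨q, k, hq, hk⟩ => ?_
      by_cases hk0 : k = 0
      · rw [hk0, pow_zero, orderOf_eq_one_iff] at hk
        rw [hk]; exact one_mem _
      have hqp : q ≠ p := by
        rintro rfl
        exact hp.one_lt.ne' (Nat.eq_one_of_dvd_coprimes hx
          (((dvd_pow_self q hk0).trans hk.symm.dvd).trans (orderOf_pow_dvd c)) dvd_rfl)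
      rw [Subgroup.mem_centralizer_iff]
      intro z hz
      obtain ⟨a, ha⟩ := IsPGroup.iff_orderOf.1 P.isPGroup' ⟨z, hz⟩
      exact h z _ ⟨a, by rw [← ha, Subgroup.orderOf_mk]⟩ ⟨q, k, hq, hqp, hk⟩
    have hN : Subgroup.normalizer ((P : Subgroup G) : Set G) = ⊤ := by
      rw [eq_top_iff]
      intro g _
      obtain ⟨a, b, hka, hcop, hab, -⟩ := CfsgLib.FGS.exists_p_parts p g
      refine CfsgLib.FGS.mem_of_prime_powers _ g fun c ⟨q, k, hq, hk⟩ => ?_
      by_cases hqp : q = p
      · subst hqp
        have hle : (P : Subgroup G) ≤ Subgroup.normalizer ((P : Subgroup G) : Set G) := Subgroup.le_normalizer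
        -- all `p`-elements lie in a conjugate of `P`, which commutes with all `p'`-elements
        by_contra hnot
        have hidx : (Subgroup.normalizer ((P : Subgroup G) : Set G)).index ≠ 1 := fun e =>
          hnot (by rw [Subgroup.index_eq_one.1 e]; exact Subgroup.mem_top _)
        obtain ⟨l, hl, hld⟩ := Nat.exists_prime_and_dvd hidx
        haveI := Fact.mk hl
        have hlq : l ≠ q := by
          rintro rfl
          exact P.not_dvd_index (hld.trans (Subgroup.index_dvd_of_le hle))
        obtain ⟨Q⟩ : Nonempty (Sylow l G) := inferInstance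
        refine Q.not_dvd_index (hld.trans (Subgroup.index_dvd_of_le fun z hz => ?_))
        obtain ⟨e, he⟩ := IsPGroup.iff_orderOf.1 Q.isPGroup' ⟨z, hz⟩
        rw [Subgroup.orderOf_mk] at he
        exact Subgroup.centralizer_le_normalizer _ (hc z (he ▸ Nat.Coprime.pow_left e
          ((Nat.coprime_primes hl hq).2 hlq)))
      · refine Subgroup.centralizer_le_normalizer _ (hc _ ?_)
        rw [hk]
        exact Nat.Coprime.pow_left k ((Nat.coprime_primes hq hp).2 hqp)
    have hPn : (P : Subgroup G).Normal := Subgroup.normalizer_eq_top_iff.1 hN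
    obtain ⟨K, hK, -, h1, h2⟩ := direct_factor P hPn hc
    exact ⟨P, K, hPn, hK, h1, h2⟩

end Cfsg.Agent.S3986
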