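import Cfsg.Statements.S3987
import Cfsg.Agent.S3986

set_option autoImplicit false
open Cfsg

namespace Cfsg.Agent.S3987

/-- Multiplicativity of class sizes forces commutation. -/
theorem key {G : Type*} [Group G] [Finite G] (x y : G)
    (h : (Subgroup.centralizer ({x * y} : Set G)).index =
      (Subgroup.centralizer ({x} : Set G)).index * (Subgroup.centralizer ({y} : Set G)).index)
    (h' : ∀ g : G, (Subgroup.centralizer ({x * (g * y * g⁻¹)} : Set G)).index =
      (Subgroup.centralizer ({x} : Set G)).index *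
        (Subgroup.centralizer ({g * y * g⁻¹} : Set G)).index) : x * y = y * x := by
  classical
  let X := {z : G | IsConj x z}
  let Y := {z : G | IsConj y z}
  let W := {z : G | IsConj (x * y) z}
  let μ : X × Y → G := fun z => (z.1 : G) * z.2
  have hconj : ∀ a c : G, (Subgroup.centralizer ({c * a * c⁻¹} : Set G)).index =
      (Subgroup.centralizer ({a} : Set G)).index := by
    intro a c
    rw [CfsgLib.FGS.index_centralizer_eq_ncard, CfsgLib.FGS.index_centralizer_eq_ncard]
    congr 1
    ext w
    have e : IsConj a (c * a * c⁻¹) := isConj_iff.2 ⟨c, rfl⟩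
    exact ⟨fun hw => e.trans hw, fun hw => e.symm.trans hw⟩
  have hsubset : W ⊆ Set.range μ := by
    intro w hw
    obtain ⟨c, hc⟩ := isConj_iff.1 hw
    exact ⟨⟨⟨c * x * c⁻¹, isConj_iff.2 ⟨c, rfl⟩⟩, ⟨c * y * c⁻¹, isConj_iff.2 ⟨c, rfl⟩⟩⟩,
      by simp [μ, ← hc, mul_assoc]⟩
  have hcard : Nat.card (X × Y) = Nat.card W := by
    rw [Nat.card_prod, Nat.card_coe_set_eq, Nat.card_coe_set_eq, Nat.card_coe_set_eq,
      ← CfsgLib.FGS.index_centralizer_eq_ncard, ← CfsgLib.FGS.index_centralizer_eq_ncard,
      ← CfsgLib.FGS.index_centralizer_eq_ncard, h]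
  have hinj : Function.Injective μ := by
    have h1 : Nat.card W ≤ Nat.card (Set.range μ) := Nat.card_mono (Set.toFinite _) hsubset
    let μ' : X × Y → Set.range μ := Set.rangeFactorization μ
    have hb : Function.Bijective μ' :=
      (Set.rangeFactorization_surjective (f := μ)).bijective_of_nat_card_le (hcard ▸ h1)
    intro a b hab
    exact hb.1 (Subtype.ext hab)
  have := @hinj ⟨⟨(x * y) * x * (x * y)⁻¹, isConj_iff.2 ⟨x * y, rfl⟩⟩,
    ⟨(x * y) * y * (x * y)⁻¹, isConj_iff.2 ⟨x * y, rfl⟩⟩⟩
    ⟨⟨x, IsConj.refl x⟩, ⟨y, IsConj.refl y⟩⟩ (by simp [μ, mul_assoc])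
  have h3 : x * y * x * (x * y)⁻¹ = x := congrArg (fun z : X × Y => (z.1 : G)) this
  rw [mul_inv_eq_iff_eq_mul, mul_assoc] at h3
  exact (mul_left_cancel h3).symm


/-- Let p be a prime and G a finite group. Then some Sylow p-subgroup of G is a direct factor of G (normal with a normal complement) if and only if for every element x of p-power order and every element y whose order is a power of a prime other than p, the conjugacy class of x y has as many elements as the product of the sizes of the classes of x and of y. -/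
theorem result {G : Type*} [Group G] [Finite G] (p : ℕ) [Fact p.Prime] : (∃ (P : Sylow p G) (K : Subgroup G), (P : Subgroup G).Normal ∧ K.Normal ∧ (P : Subgroup G) ⊓ K = ⊥ ∧ (P : Subgroup G) ⊔ K = ⊤) ↔ ∀ x y : G, (∃ a : ℕ, orderOf x = p ^ a) → (∃ q b : ℕ, q.Prime ∧ q ≠ p ∧ orderOf y = q ^ b) → (Subgroup.centralizer ({x * y} : Set G)).index = (Subgroup.centralizer ({x} : Set G)).index * (Subgroup.centralizer ({y} : Set G)).index := by
  classical
  constructor
  · rintro ⟨P, K, hPn, hKn, hinf, hsup⟩ x y hx hy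
    obtain ⟨a, ha⟩ := hx
    obtain ⟨q, b, hq, hqp, hb⟩ := hy
    have hcomm := (Cfsg.Agent.S3986.result p).1 ⟨P, K, hPn, hKn, hinf, hsup⟩
    have hxy : Commute x y := hcomm x y ⟨a, ha⟩ ⟨q, b, hq, hqp, hb⟩
    have hcop : (orderOf x).Coprime (orderOf y) := by
      rw [ha, hb]
      exact Nat.Coprime.pow a b ((Nat.coprime_primes Fact.out hq).2 (Ne.symm hqp))
    have hset : Subgroup.centralizer ({x * y} : Set G) =
        Subgroup.centralizer ({x} : Set G) ⊓ Subgroup.centralizer ({y} : Set G) := by
      refine le_antisymm (fun g hg => ?_) ?_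
      · rw [Subgroup.mem_centralizer_singleton_iff] at hg
        obtain ⟨E, F, hE1, hEr, hF1, hFq, -⟩ := CfsgLib.FGS.exists_idempotent_exponents hcop
        have hC : Commute g (x * y) := hg
        have e1 : (x * y) ^ E = x := by
          rw [hxy.mul_pow, CfsgLib.FGS.pow_eq_self_of_modEq (pow_orderOf_eq_one x) hE1,
            CfsgLib.FGS.pow_eq_one_of_dvd' (pow_orderOf_eq_one y) hEr, mul_one]
        have e2 : (x * y) ^ F = y := by
          rw [hxy.mul_pow, CfsgLib.FGS.pow_eq_self_of_modEq (pow_orderOf_eq_one y) hF1,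
            CfsgLib.FGS.pow_eq_one_of_dvd' (pow_orderOf_eq_one x) hFq, one_mul]
        refine ⟨Subgroup.mem_centralizer_singleton_iff.2 ?_, Subgroup.mem_centralizer_singleton_iff.2 ?_⟩
        · exact (e1 ▸ hC.pow_right E : Commute g x).eq
        · exact (e2 ▸ hC.pow_right F : Commute g y).eq
      · rintro g ⟨h1, h2⟩
        replace h1 := Subgroup.mem_centralizer_singleton_iff.1 h1
        replace h2 := Subgroup.mem_centralizer_singleton_iff.1 h2
        rw [Subgroup.mem_centralizer_singleton_iff]
        exact (Commute.mul_right h1 h2).eq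
    rw [hset]
    suffices hco : Nat.Coprime (Subgroup.centralizer ({x} : Set G)).index (Subgroup.centralizer ({y} : Set G)).index by
      refine le_antisymm Subgroup.index_inf_le (Nat.le_of_dvd (Nat.pos_of_ne_zero Subgroup.index_ne_zero_of_finite) ?_)
      exact hco.mul_dvd_of_dvd_of_dvd (Subgroup.index_dvd_of_le inf_le_left) (Subgroup.index_dvd_of_le inf_le_right)
    -- the two indices are coprime
    haveI := hKn
    haveI := hPn
    have hyK : ∀ z : G, z ∈ (P : Subgroup G) → z ∈ Subgroup.centralizer ({y} : Set G) := fun z hz => by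
      obtain ⟨c, hc⟩ := IsPGroup.iff_orderOf.1 P.isPGroup' ⟨z, hz⟩
      rw [Subgroup.mem_centralizer_singleton_iff]
      exact hcomm z y ⟨c, by rw [← hc, Subgroup.orderOf_mk]⟩ ⟨q, b, hq, hqp, hb⟩
    have hxK : K ≤ Subgroup.centralizer ({x} : Set G) := fun z hz => by
      rw [Subgroup.mem_centralizer_singleton_iff]
      have hxP : x ∈ (P : Subgroup G) :=
        CfsgLib.FGS.mem_of_mem_normalizer P ⟨a, ha⟩ (by
          rw [Subgroup.normalizer_eq_top_iff.2 hPn]; exact Subgroup.mem_top x)
      exact (Subgroup.commute_of_normal_of_disjoint _ _ hPn hKn (disjoint_iff.2 hinf) x z hxP hz).symm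
    have hKi : ∃ n, K.index = p ^ n := by
      obtain ⟨n, hn⟩ := P.isPGroup'.exists_card_eq
      have hdvd : K.index ∣ Nat.card (P : Subgroup G) := by
        rw [Subgroup.index_eq_card]
        refine Subgroup.card_dvd_of_surjective ((QuotientGroup.mk' K).comp (P : Subgroup G).subtype) ?_
        intro z
        induction z using QuotientGroup.induction_on with
        | _ z =>
          have hz : z ∈ (P : Subgroup G) ⊔ K := by rw [hsup]; exact Subgroup.mem_top z
          rw [Subgroup.mem_sup_of_normal_right] at hz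
          obtain ⟨u, hu, v, hv, rfl⟩ := hz
          exact ⟨⟨u, hu⟩, by simpa using hv⟩
      obtain ⟨i, -, hi⟩ := (Nat.dvd_prime_pow Fact.out).1 (hn ▸ hdvd)
      exact ⟨i, hi⟩
    obtain ⟨n, hn⟩ := hKi
    have h1 : (Subgroup.centralizer ({x} : Set G)).index ∣ p ^ n := hn ▸ Subgroup.index_dvd_of_le hxK
    have h2 : ¬ p ∣ (Subgroup.centralizer ({y} : Set G)).index := fun h =>
      P.not_dvd_index (h.trans (Subgroup.index_dvd_of_le hyK))
    exact Nat.Coprime.coprime_dvd_left h1
      (Nat.Coprime.pow_left n ((Nat.Prime.coprime_iff_not_dvd Fact.out).2 h2))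
  · intro h
    refine (Cfsg.Agent.S3986.result p).2 fun x y hx hy => ?_
    exact key x y (h x y hx hy) (fun g => h x (g * y * g⁻¹) hx (by
      obtain ⟨q, b, hq, hqp, hb⟩ := hy
      exact ⟨q, b, hq, hqp, by rw [← MulAut.conj_apply, MulEquiv.orderOf_eq, hb]⟩))

end Cfsg.Agent.S3987
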