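import Cfsg.Statements.S3994
import Cfsg.Agent.Lib.FGS.PiParts

set_option autoImplicit false
open Cfsg

namespace Cfsg.Agent.S3994

/-- Let G be a finite group and n a positive integer. The number of elements of G whose order is divisible by n is either 0 or divisible by the largest divisor of the order of G that is coprime to n. -/
theorem result {G : Type*} [Group G] [Finite G] (n : ℕ) (hn : 0 < n) :
    Nat.card {g : G // n ∣ orderOf g} = 0 ∨
      (Nat.card G / Nat.gcd (Nat.card G) (n ^ Nat.card G)) ∣ Nat.card {g : G // n ∣ orderOf g} := by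
  classical
  right
  haveI := Fintype.ofFinite G
  set N := Nat.card G
  set A := Nat.gcd N (n ^ N)
  have hN0 : N ≠ 0 := Nat.card_pos.ne'
  have hAN : A ∣ N := Nat.gcd_dvd_left _ _
  set B := N / A
  have hG : N = A * B := (Nat.mul_div_cancel' hAN).symm
  have hBn : B.Coprime n := by
    refine Nat.coprime_of_dvd fun q hq hqB hqn => ?_
    have h1 : A * q ∣ N := hG ▸ Nat.mul_dvd_mul dvd_rfl hqB
    have h2 : A * q ∣ n ^ N := by
      set e := A.factorization q
      have hcop : (A / q ^ e).Coprime q := (Nat.coprime_ordCompl hq (by positivity)).symm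
      have hA : q ^ e * (A / q ^ e) = A := Nat.ordProj_mul_ordCompl_eq_self A q
      have hle : e + 1 ≤ N := by
        by_contra hcon
        have := Nat.le_of_dvd (Nat.pos_of_ne_zero hN0)
          ((pow_dvd_pow q (by omega : N ≤ e + 1)).trans ((pow_succ q e) ▸
            ((Nat.mul_dvd_mul (hA ▸ Dvd.intro _ rfl) dvd_rfl).trans h1)))
        exact absurd this (not_le.2 (Nat.lt_pow_self hq.one_lt))
      rw [← hA, mul_comm (q ^ e), mul_assoc, ← pow_succ]
      refine (hcop.pow_right _).mul_dvd_of_dvd_of_dvd ?_ ?_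
      · exact dvd_trans (Nat.ordCompl_dvd A q) (Nat.gcd_dvd_right _ _)
      · exact (pow_dvd_pow q hle).trans (pow_dvd_pow_of_dvd hqn N)
    have h3 := Nat.le_of_dvd (by positivity) (Nat.dvd_gcd h1 h2)
    exact absurd h3 (not_le.2 (lt_mul_of_one_lt_right (by positivity) hq.one_lt))
  have hAB : A.Coprime B := ((hBn.pow_right N).coprime_dvd_right (Nat.gcd_dvd_right _ _)).symm
  rw [CfsgLib.FGS.card_split hAB hG (fun g => n ∣ orderOf g) (fun a b _ hb hc => ?_)]
  swap
  · constructor
    · intro h
      have hd := h.trans hc.orderOf_mul_dvd_mul_orderOf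
      refine Nat.Coprime.dvd_of_dvd_mul_right ?_ hd
      exact (hBn.coprime_dvd_left (orderOf_dvd_of_pow_eq_one hb)).symm
    · intro h
      rw [hc.orderOf_mul_eq_mul_orderOf_of_coprime]
      · exact h.mul_right _
      · exact (hAB.coprime_dvd_left (orderOf_dvd_of_pow_eq_one ‹a ^ A = 1›)).coprime_dvd_right
          (orderOf_dvd_of_pow_eq_one hb)
  rw [Nat.card_sigma, ← Finset.sum_subtype (Finset.univ.filter fun a : G => a ^ A = 1 ∧ n ∣ orderOf a)
    (fun x => by simp) (fun a : G => Nat.card {b : Subgroup.centralizer ({a} : Set G) // b ^ B = 1})]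
  refine CfsgLib.FGS.dvd_sum_of_classes _ (fun g x hx => ?_) _
    (fun g x => CfsgLib.FGS.card_pow_centralizer_conj B g x) _
    (fun x _ => CfsgLib.FGS.dvd_index_mul_card (Dvd.intro_left _ hG.symm) _)
  rw [← MulAut.conj_apply, MulEquiv.orderOf_eq, ← map_pow]
  exact ⟨by rw [hx.1, map_one], hx.2⟩

end Cfsg.Agent.S3994
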