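import Cfsg.Statements.S3995
import Cfsg.Agent.Lib.FGS.FrobeniusCount
import Cfsg.Agent.Lib.Solvable.UniqueSubgroup
-- import your own Cfsg.Agent.* helpers here

set_option autoImplicit false
set_option linter.style.haveILetI false
set_option linter.unusedSectionVars false
open Cfsg

namespace Cfsg.Agent.S3995

open Subgroup

section
variable {G : Type*} [Group G] [Finite G]

/-- The number of elements of order `m`. -/
noncomputable def cnt (G : Type*) [Group G] (m : ℕ) : ℕ := Nat.card {g : G // orderOf g = m}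

theorem totient_dvd_cnt (m : ℕ) : Nat.totient m ∣ cnt G m := by
  classical
  let T := {H : Subgroup G // ∃ g : G, orderOf g = m ∧ zpowers g = H}
  let f : {g : G // orderOf g = m} → T := fun g => ⟨zpowers g.1, g.1, g.2, rfl⟩
  haveI : Fintype T := Fintype.ofFinite _
  rw [cnt, Nat.card_congr (Equiv.sigmaFiberEquiv f).symm, Nat.card_sigma]
  refine Finset.dvd_sum fun H _ => ?_
  obtain ⟨g, hg, hgH⟩ := H.2
  have hcard : Nat.card H.1 = m := by rw [← hgH, Nat.card_zpowers, hg]
  let e : {a : {g : G // orderOf g = m} // f a = H} ≃ {a : H.1 // orderOf a = m} :=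
    { toFun := fun a => ⟨⟨a.1.1, by
        have h1 : zpowers a.1.1 = H.1 := congrArg Subtype.val a.2
        exact h1 ▸ mem_zpowers _⟩, (Subgroup.orderOf_mk _ _).trans a.1.2⟩
      invFun := fun a => ⟨⟨a.1.1, (Subgroup.orderOf_coe _).trans a.2⟩, Subtype.ext
        (eq_of_le_of_card_ge (zpowers_le.2 a.1.2) (le_of_eq (by
          rw [hcard, Nat.card_zpowers, Subgroup.orderOf_coe, a.2])))⟩
      left_inv := fun _ => rfl
      right_inv := fun _ => rfl }
  haveI : IsCyclic H.1 := hgH ▸ inferInstance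
  haveI : Fintype H.1 := Fintype.ofFinite _
  have h2 : Nat.card {a : H.1 // orderOf a = m} = Nat.totient m := by
    rw [Nat.card_eq_fintype_card, Fintype.card_subtype]
    exact IsCyclic.card_orderOf_eq_totient (by rw [← Nat.card_eq_fintype_card, hcard])
  rw [Nat.card_congr e, h2]

theorem cnt_pos {g : G} : 0 < cnt G (orderOf g) := by
  haveI : Nonempty {a : G // orderOf a = orderOf g} := ⟨⟨g, rfl⟩⟩
  exact Nat.card_pos

theorem cnt_eq_zero {m : ℕ} (h : ∀ g : G, orderOf g ≠ m) : cnt G m = 0 := by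
  haveI : IsEmpty {g : G // orderOf g = m} := ⟨fun g => h g.1 g.2⟩
  exact Nat.card_of_isEmpty

theorem cnt_one : cnt G 1 = 1 := by
  rw [cnt, Nat.card_eq_one_iff_unique]
  exact ⟨⟨fun a b => Subtype.ext ((orderOf_eq_one_iff.1 a.2).trans (orderOf_eq_one_iff.1 b.2).symm)⟩,
    ⟨⟨1, orderOf_one⟩⟩⟩

theorem dvd_sum_cnt {m : ℕ} (hm : m ∣ Nat.card G) (D : Finset ℕ) (hD : ∀ d, d ∣ m ↔ d ∈ D) :
    m ∣ ∑ d ∈ D, cnt G d := by
  classical
  letI := Fintype.ofFinite G
  have h1 := CfsgLib.FGS.dvd_card_pow_eq_one (Nat.card G) le_rfl m hm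
  convert h1 using 1
  rw [Nat.card_eq_fintype_card, Fintype.card_subtype,
    Finset.card_eq_sum_card_fiberwise (f := fun x : G => orderOf x) (t := D)
      (fun x hx => (hD _).1 (orderOf_dvd_of_pow_eq_one (Finset.mem_filter.1 hx).2))]
  refine Finset.sum_congr rfl fun d hd => ?_
  rw [cnt, Nat.card_eq_fintype_card, Fintype.card_subtype]
  congr 1
  ext x
  simp only [Finset.mem_filter, Finset.mem_univ, true_and]
  exact ⟨fun hx => ⟨orderOf_dvd_iff_pow_eq_one.1 (hx ▸ (hD d).2 hd), hx⟩, fun h => h.2⟩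

theorem dvd_two_primes {p q d : ℕ} (hp : p.Prime) (hq : q.Prime) :
    d ∣ p * q ↔ d ∈ ({1, p, q, p * q} : Finset ℕ) := by
  constructor
  · intro h
    obtain ⟨a, b, ha, hb, rfl⟩ := Nat.dvd_mul.1 h
    rcases (Nat.dvd_prime hp).1 ha with rfl | rfl <;> rcases (Nat.dvd_prime hq).1 hb with rfl | rfl <;> simp
  · intro h
    simp only [Finset.mem_insert, Finset.mem_singleton] at h
    rcases h with rfl | rfl | rfl | rfl
    · exact one_dvd _
    · exact dvd_mul_right _ _
    · exact dvd_mul_left _ _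
    · exact dvd_rfl

theorem dvd_four {d : ℕ} : d ∣ 4 ↔ d ∈ ({1, 2, 4} : Finset ℕ) := by
  refine ⟨fun h => ?_, fun h => by fin_cases h <;> norm_num⟩
  obtain ⟨i, hi, rfl⟩ := (Nat.dvd_prime_pow Nat.prime_two).1 (show d ∣ 2 ^ 2 from h)
  interval_cases i <;> simp

theorem dvd_eight {d : ℕ} : d ∣ 8 ↔ d ∈ ({1, 2, 4, 8} : Finset ℕ) := by
  refine ⟨fun h => ?_, fun h => by fin_cases h <;> norm_num⟩
  obtain ⟨i, hi, rfl⟩ := (Nat.dvd_prime_pow Nat.prime_two).1 (show d ∣ 2 ^ 3 from h)
  interval_cases i <;> simp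

theorem dvd_four_mul {p d : ℕ} (hp : p.Prime) :
    d ∣ 4 * p ↔ d ∈ ({1, 2, 4, p, 2 * p, 4 * p} : Finset ℕ) := by
  constructor
  · intro h
    obtain ⟨a, b, ha, hb, rfl⟩ := Nat.dvd_mul.1 h
    have ha' := dvd_four.1 ha
    simp only [Finset.mem_insert, Finset.mem_singleton] at ha'
    rcases ha' with rfl | rfl | rfl <;> rcases (Nat.dvd_prime hp).1 hb with rfl | rfl <;> simp
  · intro h
    simp only [Finset.mem_insert, Finset.mem_singleton] at h
    rcases h with rfl | rfl | rfl | rfl | rfl | rfl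
    · exact one_dvd _
    · exact dvd_mul_of_dvd_left (by norm_num) _
    · exact dvd_mul_right _ _
    · exact dvd_mul_left _ _
    · exact Nat.mul_dvd_mul_right (by norm_num) _
    · exact dvd_rfl

end

/-- Let G be a finite group such that the numbers of elements of each order that occurs in G (the numbers #{g : o(g) = m}, m ranging over the element orders of G) take exactly two values, 1 and some n ≠ 1. Then either G is a p-group of exponent p and order at least 3 for some prime p, or G is the quaternion group of order 8, or G is cyclic of order 4, or G ≅ Z₂ × P for a p-group P of exponent p with p an odd prime. -/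
theorem result {G : Type*} [Group G] [Finite G] (n : ℕ) (hn : n ≠ 1) (h : ((fun m : ℕ => Nat.card {g : G // orderOf g = m}) '' Set.range (orderOf : G → ℕ)) = {1, n}) :
    (∃ p : ℕ, p.Prime ∧ IsPGroup p G ∧ 3 ≤ Nat.card G ∧ Monoid.exponent G = p) ∨
      Nonempty (G ≃* QuaternionGroup 2) ∨ (IsCyclic G ∧ Nat.card G = 4) ∨
      (∃ (p : ℕ) (P : Type) (_ : Group P) (_ : Finite P), p.Prime ∧ p ≠ 2 ∧ IsPGroup p P ∧ Monoid.exponent P = p ∧
        Nonempty (G ≃* Multiplicative (ZMod 2) × P)) := by
  classical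
  have hmem : ∀ g : G, cnt G (orderOf g) = 1 ∨ cnt G (orderOf g) = n := fun g => by
    have h1 : cnt G (orderOf g) ∈ ({1, n} : Set ℕ) := h ▸ ⟨orderOf g, ⟨g, rfl⟩, rfl⟩
    simpa using h1
  obtain ⟨_, ⟨g₀, rfl⟩, hg₀⟩ := (h.symm ▸ (by simp) : n ∈ ((fun m : ℕ => Nat.card {g : G // orderOf g = m}) ''
    Set.range (orderOf : G → ℕ)))
  have hg₀' : cnt G (orderOf g₀) = n := hg₀
  have hn0 : 2 ≤ n := by have := cnt_pos (g := g₀); omega
  have hbig : ∀ g : G, 3 ≤ orderOf g → cnt G (orderOf g) = n := fun g hg => by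
    refine (hmem g).resolve_left fun h1 => ?_
    have h2 := totient_dvd_cnt (G := G) (orderOf g)
    rw [h1, Nat.dvd_one] at h2
    have := Nat.totient_eq_one_iff.1 h2
    omega
  have hex : ∀ m, (∃ g : G, orderOf g = m) → 3 ≤ m → cnt G m = n := fun m ⟨g, hg⟩ hm => hg ▸ hbig g (hg.symm ▸ hm)
  have hprime : ∀ p : ℕ, p.Prime → p ∣ Nat.card G → ∃ g : G, orderOf g = p := fun p hp hd => by
    haveI : Fact p.Prime := ⟨hp⟩
    exact exists_prime_orderOf_dvd_card' p hd
  -- odd primes: `p ∣ n + 1`, no elements of order `p²`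
  have hodd : ∀ p : ℕ, p.Prime → p ≠ 2 → p ∣ Nat.card G → cnt G p = n ∧ p ∣ 1 + n := fun p hp hp2 hd => by
    have hc := hex p (hprime p hp hd) (by have := hp.two_le; omega)
    refine ⟨hc, ?_⟩
    have h1 := dvd_sum_cnt hd {1, p} (fun d => by simpa using Nat.dvd_prime hp)
    rw [Finset.sum_pair hp.ne_one.symm, cnt_one, hc] at h1
    exact h1
  have hsq : ∀ p : ℕ, p.Prime → p ≠ 2 → ∀ g : G, orderOf g ≠ p ^ 2 := fun p hp hp2 g hg => by
    have hd : p ∣ Nat.card G := (dvd_pow_self p two_ne_zero).trans (hg ▸ orderOf_dvd_natCard g)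
    have hc := hex (p ^ 2) ⟨g, hg⟩ (by have := hp.two_le; nlinarith)
    have h1 := totient_dvd_cnt (G := G) (p ^ 2)
    rw [hc, Nat.totient_prime_pow hp (by norm_num)] at h1
    have h2 : p ∣ n := (dvd_mul_of_dvd_left (dvd_pow_self p (by norm_num)) _).trans h1
    exact hp.not_dvd_one ((Nat.dvd_add_left h2).1 (hodd p hp hp2 hd).2)
  have huniq : ∀ p q : ℕ, p.Prime → q.Prime → p ≠ 2 → q ≠ 2 → p ∣ Nat.card G → q ∣ Nat.card G → p = q := by
    intro p q hp hq hp2 hq2 hpd hqd
    by_contra hne
    have h2p := hp.two_le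
    have h2q := hq.two_le
    obtain ⟨hcp, hpn⟩ := hodd p hp hp2 hpd
    obtain ⟨hcq, -⟩ := hodd q hq hq2 hqd
    have h1 := (dvd_mul_right p q).trans (dvd_sum_cnt
      (((Nat.coprime_primes hp hq).2 hne).mul_dvd_of_dvd_of_dvd hpd hqd) _ fun d => dvd_two_primes hp hq)
    have d1 : p * q ≠ 1 := by nlinarith
    have d2 : p ≠ p * q := fun e => by nlinarith
    have d3 : q ≠ p * q := fun e => by nlinarith
    rw [Finset.sum_insert (by simp [hp.ne_one.symm, hq.ne_one.symm, d1.symm]),
      Finset.sum_insert (by simp [hne, d2]), Finset.sum_insert (by simp [d3]), Finset.sum_singleton,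
      cnt_one, hcp, hcq] at h1
    by_cases hpq : ∃ g : G, orderOf g = p * q
    · rw [hex _ hpq (by nlinarith)] at h1
      have h3 : p ∣ 3 * (1 + n) := hpn.mul_left 3
      have h4 : p ∣ 2 := (Nat.dvd_add_right h1).1 (by ring_nf at h3 ⊢; exact h3)
      exact hp2 ((Nat.prime_dvd_prime_iff_eq hp Nat.prime_two).1 h4)
    · rw [cnt_eq_zero fun g hg => hpq ⟨g, hg⟩] at h1
      have h3 : p ∣ 2 * (1 + n) := hpn.mul_left 2
      exact hp.not_dvd_one ((Nat.dvd_add_right h1).1 (by ring_nf at h3 ⊢; exact h3))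
  haveI : Fact (Nat.Prime 2) := ⟨Nat.prime_two⟩
  have hcard1 : 1 < Nat.card G := by
    by_contra hle
    haveI : Subsingleton G := (Nat.card_eq_one_iff_unique.1 (le_antisymm (not_lt.1 hle) Nat.card_pos)).1
    rw [Subsingleton.elim g₀ 1, orderOf_one, cnt_one] at hg₀'
    omega
  have hexp : ∀ p : ℕ, p.Prime → (∀ g : G, g ^ p = 1) → Monoid.exponent G = p := fun p hp hall => by
    refine ((Nat.dvd_prime hp).1 (Monoid.exponent_dvd_of_forall_pow_eq_one hall)).resolve_left fun h1 => ?_
    haveI := Monoid.exp_eq_one_iff.1 h1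
    rw [Nat.card_of_subsingleton (1 : G)] at hcard1
    omega
  by_cases h2 : 2 ∣ Nat.card G
  swap
  · obtain ⟨p, hp, hpd⟩ := Nat.exists_prime_and_dvd hcard1.ne'
    have hp2 : p ≠ 2 := fun e => h2 (e ▸ hpd)
    haveI : Fact p.Prime := ⟨hp⟩
    have hpow : Nat.card G = p ^ (Nat.card G).primeFactorsList.length :=
      Nat.eq_prime_pow_of_unique_prime_dvd Nat.card_pos.ne' fun {q} hq hqd =>
        huniq q p hq hp (fun e => h2 (e ▸ hqd)) hp2 hqd hpd
    have hP : IsPGroup p G := IsPGroup.of_card hpow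
    refine Or.inl ⟨p, hp, hP, ?_, hexp p hp fun g => ?_⟩
    · have := hp.two_le
      have := Nat.le_of_dvd Nat.card_pos hpd
      omega
    · obtain ⟨k, hk⟩ := IsPGroup.iff_orderOf.1 hP g
      rcases k with _ | _ | k
      · rw [pow_zero, orderOf_eq_one_iff] at hk; rw [hk, one_pow]
      · rw [← orderOf_dvd_iff_pow_eq_one, hk, zero_add, pow_one]
      · exfalso
        refine hsq p hp hp2 (g ^ p ^ k) ?_
        rw [orderOf_pow' g (pow_ne_zero _ hp.ne_zero), hk,
          Nat.gcd_eq_right (pow_dvd_pow p (by omega)), Nat.pow_div (by omega) hp.pos]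
        congr 1
        omega
  obtain ⟨z, hz⟩ := hprime 2 Nat.prime_two h2
  rcases hmem z with hc2 | hc2 <;> rw [hz] at hc2
  swap
  · -- many involutions: elementary abelian `2`-group
    have hno : ∀ p : ℕ, p.Prime → p ∣ Nat.card G → p = 2 := fun p hp hpd => by
      by_contra hp2
      obtain ⟨hcp, -⟩ := hodd p hp hp2 hpd
      have h1 := totient_dvd_cnt (G := G) p
      rw [hcp] at h1
      have h3 : 2 ∣ n := (Nat.totient_even (by have := hp.two_le; omega) |> fun e => even_iff_two_dvd.1 e).trans h1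
      have h4 := dvd_sum_cnt h2 {1, 2} (fun d => by simpa using Nat.dvd_prime Nat.prime_two)
      rw [Finset.sum_pair (by norm_num), cnt_one, hc2] at h4
      omega
    have hP : IsPGroup 2 G := IsPGroup.of_card (n := (Nat.card G).primeFactorsList.length)
      (Nat.eq_prime_pow_of_unique_prime_dvd Nat.card_pos.ne' fun {q} hq hqd => hno q hq hqd)
    have h4 := dvd_sum_cnt h2 {1, 2} (fun d => by simpa using Nat.dvd_prime Nat.prime_two)
    rw [Finset.sum_pair (by norm_num), cnt_one, hc2] at h4
    refine Or.inl ⟨2, Nat.prime_two, hP, ?_, hexp 2 Nat.prime_two fun g => ?_⟩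
    · have h5 : cnt G 1 + cnt G 2 ≤ Nat.card G := by
        rw [cnt, cnt, ← Nat.card_sum]
        refine Nat.card_le_card_of_injective (Sum.elim Subtype.val Subtype.val)
          (Sum.elim_injective.2 ⟨Subtype.val_injective, Subtype.val_injective, fun a b e => ?_⟩)
        exact absurd (a.2.symm.trans ((congrArg orderOf e).trans b.2)) (by norm_num)
      rw [cnt_one, hc2] at h5
      omega
    · obtain ⟨k, hk⟩ := IsPGroup.iff_orderOf.1 hP g
      rcases k with _ | _ | k
      · rw [pow_zero, orderOf_eq_one_iff] at hk; rw [hk, one_pow]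
      · rw [← orderOf_dvd_iff_pow_eq_one, hk, zero_add, pow_one]
      · exfalso
        have h1 := totient_dvd_cnt (G := G) (orderOf g)
        rw [hbig g (by rw [hk, pow_succ, pow_succ]; have := Nat.one_le_two_pow (n := k); omega), hk,
          Nat.totient_prime_pow Nat.prime_two (by omega)] at h1
        have h3 : 2 ∣ n := (dvd_mul_of_dvd_left (dvd_pow_self 2 (by omega)) _).trans h1
        omega
  -- a unique involution
  have hzu : ∀ g : G, orderOf g = 2 → g = z := fun g hg => by
    haveI : Subsingleton {a : G // orderOf a = 2} := (Nat.card_eq_one_iff_unique.1 hc2).1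
    exact congrArg Subtype.val (Subsingleton.elim (⟨g, hg⟩ : {a : G // orderOf a = 2}) ⟨z, hz⟩)
  have hzc : ∀ g : G, Commute z g := fun g => by
    have h1 := hzu (g * z * g⁻¹) ((MulEquiv.orderOf_eq (MulAut.conj g) z).trans hz)
    exact ((mul_inv_eq_iff_eq_mul.1 h1)).symm
  by_cases hp : ∃ p : ℕ, p.Prime ∧ p ≠ 2 ∧ p ∣ Nat.card G
  · obtain ⟨p, hp, hp2, hpd⟩ := hp
    haveI : Fact p.Prime := ⟨hp⟩
    have h3 : 3 ≤ p := by have := hp.two_le; omega
    obtain ⟨hcp, hpn⟩ := hodd p hp hp2 hpd
    obtain ⟨g, hg⟩ := hprime p hp hpd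
    have hcop : Nat.Coprime 2 p := (Nat.coprime_primes Nat.prime_two hp).2 (Ne.symm hp2)
    have hc2p : cnt G (2 * p) = n := hex _ ⟨z * g, by
      rw [(hzc g).orderOf_mul_eq_mul_orderOf_of_coprime (by rw [hz, hg]; exact hcop), hz, hg]⟩ (by omega)
    have h4 : ∀ g : G, orderOf g ≠ 4 := by
      intro g4 hg4
      have hc4 : cnt G 4 = n := hex 4 ⟨g4, hg4⟩ (by norm_num)
      have hd4 : 4 ∣ Nat.card G := hg4 ▸ orderOf_dvd_natCard g4
      have h1 := (dvd_mul_left p 4).trans (dvd_sum_cnt ((Nat.Coprime.pow_left 2 hcop : Nat.Coprime 4 p).mul_dvd_of_dvd_of_dvd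
        hd4 hpd) _ fun d => dvd_four_mul hp)
      have hp4 : p ≠ 4 := fun e => by rw [e] at hp; norm_num at hp
      rw [Finset.sum_insert (by simp; omega), Finset.sum_insert (by simp; omega),
        Finset.sum_insert (by simp; omega), Finset.sum_insert (by simp; omega),
        Finset.sum_insert (by simp; omega), Finset.sum_singleton, cnt_one, hc2, hc4, hcp, hc2p] at h1
      by_cases h4p : ∃ g : G, orderOf g = 4 * p
      · rw [hex _ h4p (by omega)] at h1
        have h5 : p ∣ 4 * (1 + n) := hpn.mul_left 4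
        have hA : p ∣ 2 + 4 * n := by
          rw [show 2 + 4 * n = 1 + (1 + (n + (n + (n + n)))) by ring]
          exact h1
        have e5 : 4 * (1 + n) = (2 + 4 * n) + 2 := by ring
        have h6 : p ∣ 2 := (Nat.dvd_add_right hA).1 (e5 ▸ h5)
        exact hp2 ((Nat.prime_dvd_prime_iff_eq hp Nat.prime_two).1 h6)
      · rw [cnt_eq_zero fun g hg => h4p ⟨g, hg⟩] at h1
        have h5 : p ∣ 3 * (1 + n) := hpn.mul_left 3
        have hA : p ∣ 2 + 3 * n := by
          rw [show 2 + 3 * n = 1 + (1 + (n + (n + (n + 0)))) by ring]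
          exact h1
        have e5 : 3 * (1 + n) = (2 + 3 * n) + 1 := by ring
        exact hp.not_dvd_one ((Nat.dvd_add_right hA).1 (e5 ▸ h5))
    obtain ⟨P⟩ : Nonempty (Sylow p G) := inferInstance
    obtain ⟨S⟩ : Nonempty (Sylow 2 G) := inferInstance
    -- the Sylow 2-subgroup has order 2
    have hS : ∀ x ∈ (S : Subgroup G), x = 1 ∨ x = z := fun x hx => by
      obtain ⟨k, hk⟩ := IsPGroup.iff_orderOf.1 S.2 ⟨x, hx⟩
      rw [Subgroup.orderOf_mk] at hk
      rcases k with _ | _ | k
      · exact Or.inl (orderOf_eq_one_iff.1 (by simpa using hk))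
      · exact Or.inr (hzu x (by simpa using hk))
      · exfalso
        refine h4 (x ^ 2 ^ k) ?_
        rw [orderOf_pow' x (pow_ne_zero _ two_ne_zero), hk,
          Nat.gcd_eq_right (pow_dvd_pow 2 (by omega)), Nat.pow_div (by omega) two_pos,
          show k + 1 + 1 - k = 2 by omega]
        norm_num
    have hS2 : Nat.card S = 2 := by
      refine le_antisymm ?_ ?_
      · have hle : Nat.card S ≤ Nat.card ({1, z} : Set G) :=
          Nat.card_mono (Set.toFinite _) fun x hx => by simpa using hS x hx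
        refine hle.trans ?_
        rw [Nat.card_coe_set_eq]
        exact (Set.ncard_insert_le _ _).trans (by simp)
      · exact Nat.le_of_dvd Nat.card_pos ((Nat.Prime.dvd_iff_one_le_factorization Nat.prime_two
          Nat.card_pos.ne').1 h2 |> fun e => by rw [S.card_eq_multiplicity]; exact dvd_pow_self 2 (by omega))
    -- `P` is a normal complement of index two
    have hidx : (P : Subgroup G).index = 2 := by
      have e1 := (P : Subgroup G).card_mul_index
      refine Nat.eq_of_factorization_eq index_ne_zero_of_finite two_ne_zero fun q => ?_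
      have e2 := congrArg (fun t => t.factorization q) e1
      simp only [Nat.factorization_mul Nat.card_pos.ne' index_ne_zero_of_finite, Finsupp.add_apply] at e2
      rw [P.card_eq_multiplicity, hp.factorization_pow] at e2
      by_cases hq2 : q = 2
      · subst hq2
        have h5 : (Nat.card G).factorization 2 = 1 := by
          have := S.card_eq_multiplicity
          rw [hS2] at this
          exact (Nat.pow_eq_self_iff one_lt_two).1 this.symm
        rw [Nat.Prime.factorization_self Nat.prime_two]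
        rw [Finsupp.single_eq_of_ne' hp2, h5] at e2
        omega
      · rw [Nat.prime_two.factorization, Finsupp.single_eq_of_ne' (Ne.symm hq2)]
        by_cases hqp : q = p
        · subst hqp
          rw [Finsupp.single_eq_same] at e2
          omega
        · rw [Finsupp.single_eq_of_ne' (Ne.symm hqp), zero_add] at e2
          rw [e2]
          by_cases hqprime : q.Prime
          · refine Nat.factorization_eq_zero_of_not_dvd fun hqd => ?_
            exact hqp (huniq q p hqprime hp hq2 hp2 hqd hpd)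
          · exact Nat.factorization_eq_zero_of_not_prime _ hqprime
    haveI : (P : Subgroup G).Normal := Subgroup.normal_of_index_eq_two hidx
    have hzP : z ∉ (P : Subgroup G) := fun hzm => by
      obtain ⟨k, hk⟩ := IsPGroup.iff_orderOf.1 P.2 ⟨z, hzm⟩
      rw [Subgroup.orderOf_mk, hz] at hk
      rcases k with _ | k
      · simp at hk
      · exact hp2 (((Nat.prime_dvd_prime_iff_eq hp Nat.prime_two).1 (hk ▸ dvd_pow_self p (Nat.succ_ne_zero k))))
    have hP1 : ∀ a : (P : Subgroup G), a ^ p = 1 := fun a => by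
      obtain ⟨k, hk⟩ := IsPGroup.iff_orderOf.1 P.2 a
      rcases k with _ | _ | k
      · rw [pow_zero, orderOf_eq_one_iff] at hk; rw [hk, one_pow]
      · rw [← orderOf_dvd_iff_pow_eq_one, hk, zero_add, pow_one]
      · exfalso
        refine hsq p hp hp2 ((a : G) ^ p ^ k) ?_
        rw [orderOf_pow' _ (pow_ne_zero _ hp.ne_zero), Subgroup.orderOf_coe, hk,
          Nat.gcd_eq_right (pow_dvd_pow p (by omega)), Nat.pow_div (by omega) hp.pos]
        congr 1
        omega
    have hzsq : ∀ a b : ℕ, z ^ a * z ^ b = z ^ ((a + b) % 2) := fun a b => by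
      rw [← pow_add, ← hz, pow_mod_orderOf]
    let f : Multiplicative (ZMod 2) × (P : Subgroup G) →* G :=
      MonoidHom.mk' (fun a => z ^ (Multiplicative.toAdd a.1).val * (a.2 : G)) (fun a b => by
        show z ^ (Multiplicative.toAdd a.1 + Multiplicative.toAdd b.1).val * ((a.2 : G) * b.2) = _
        rw [ZMod.val_add, ← hzsq]
        calc z ^ (Multiplicative.toAdd a.1).val * z ^ (Multiplicative.toAdd b.1).val * ((a.2 : G) * b.2)
            = z ^ (Multiplicative.toAdd a.1).val * (z ^ (Multiplicative.toAdd b.1).val * a.2) * b.2 := by group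
          _ = _ := by rw [((hzc (a.2 : G)).pow_left _).eq]; group)
    have hf : Function.Injective f := by
      rw [injective_iff_map_eq_one]
      rintro ⟨a, b⟩ hab
      have hab' : z ^ (Multiplicative.toAdd a).val * (b : G) = 1 := hab
      rcases (show (Multiplicative.toAdd a).val = 0 ∨ (Multiplicative.toAdd a).val = 1 from by
        have := ZMod.val_lt (Multiplicative.toAdd a); omega) with hv | hv
      · rw [hv, pow_zero, one_mul] at hab'
        exact Prod.ext ((ZMod.val_eq_zero _).1 hv) (Subtype.ext hab')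
      · rw [hv, pow_one] at hab'
        exact absurd (eq_inv_of_mul_eq_one_left hab' ▸ inv_mem b.2) hzP
    have hbij : Function.Bijective f := by
      rw [Nat.bijective_iff_injective_and_card]
      refine ⟨hf, ?_⟩
      rw [Nat.card_prod, ← hidx, ← (P : Subgroup G).card_mul_index, mul_comm]
      congr 1
      rw [hidx]; exact Nat.card_zmod 2
    have hexpP : Monoid.exponent (P : Subgroup G) = p := by
      refine ((Nat.dvd_prime hp).1 (Monoid.exponent_dvd_of_forall_pow_eq_one hP1)).resolve_left fun h1 => ?_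
      haveI := Monoid.exp_eq_one_iff.1 h1
      have h5 : Nat.card (P : Subgroup G) = 1 := Nat.card_of_subsingleton (1 : (P : Subgroup G))
      rw [P.card_eq_multiplicity, pow_eq_one_iff_left (by have := (hp.dvd_iff_one_le_factorization Nat.card_pos.ne').1 hpd; omega)] at h5
      exact hp.ne_one h5
    have hQe : ∃ (Q : Type) (_ : Group Q) (_ : Finite Q), Nonempty ((P : Subgroup G) ≃* Q) :=
      ⟨Shrink.{0} (P : Subgroup G), inferInstance, inferInstance, ⟨Shrink.mulEquiv.symm⟩⟩
    obtain ⟨Q, iQ, iF, ⟨e⟩⟩ := hQe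
    exact Or.inr (Or.inr (Or.inr ⟨p, Q, iQ, iF, hp, hp2, P.2.of_equiv e,
      (Monoid.exponent_eq_of_mulEquiv e).symm.trans hexpP,
      ⟨(MulEquiv.ofBijective f hbij).symm.trans (MulEquiv.prodCongr (MulEquiv.refl _) e)⟩⟩))
  · push Not at hp
    have hP : IsPGroup 2 G := IsPGroup.of_card (n := (Nat.card G).primeFactorsList.length)
      (Nat.eq_prime_pow_of_unique_prime_dvd Nat.card_pos.ne' fun {q} hq hqd => by
        by_contra hne; exact hp q hq hne hqd)
    have h4 : ∀ g : G, orderOf g ∣ 4 := fun g => by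
      obtain ⟨k, hk⟩ := IsPGroup.iff_orderOf.1 hP g
      rw [hk]
      by_contra hnd
      have hk3 : 3 ≤ k := by
        by_contra hlt
        exact hnd (pow_dvd_pow 2 (show k ≤ 2 by omega))
      have e8 : orderOf (g ^ 2 ^ (k - 3)) = 8 := by
        rw [orderOf_pow' g (pow_ne_zero _ two_ne_zero), hk,
          Nat.gcd_eq_right (pow_dvd_pow 2 (by omega)), Nat.pow_div (by omega) two_pos,
          show k - (k - 3) = 3 by omega]
        norm_num
      have e4 : orderOf ((g ^ 2 ^ (k - 3)) ^ 2) = 4 := by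
        rw [orderOf_pow' _ two_ne_zero, e8]; norm_num
      have hd8 : 8 ∣ Nat.card G := e8 ▸ orderOf_dvd_natCard _
      have h1 := dvd_sum_cnt hd8 _ fun d => dvd_eight
      rw [Finset.sum_insert (by simp), Finset.sum_insert (by simp), Finset.sum_pair (by norm_num),
        cnt_one, hc2, hex 4 ⟨_, e4⟩ (by norm_num), hex 8 ⟨_, e8⟩ (by norm_num)] at h1
      have h3 := totient_dvd_cnt (G := G) 8
      rw [hex 8 ⟨_, e8⟩ (by norm_num), show Nat.totient 8 = 4 from rfl] at h3
      omega
    rcases CfsgLib.Solvable.isCyclic_or_quaternion hP (fun a b ha hb => by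
      rw [hzu a ha, ← hzu b hb]; exact mem_zpowers b) with hc | ⟨-, k, ⟨e⟩⟩
    · refine Or.inr (Or.inr (Or.inl ⟨hc, ?_⟩))
      obtain ⟨c, hc'⟩ := hc.exists_generator
      have hcard : orderOf c = Nat.card G := by
        rw [← Nat.card_zpowers, (eq_top_iff.2 fun a _ => hc' a : zpowers c = ⊤), card_top]
      have hd := hcard ▸ h4 c
      have hg0 : 3 ≤ orderOf g₀ := by
        by_contra hlt
        rcases (show orderOf g₀ = 1 ∨ orderOf g₀ = 2 by have := orderOf_pos g₀; omega) with e | e <;>
          rw [e] at hg₀'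
        · rw [cnt_one] at hg₀'; omega
        · rw [hc2] at hg₀'; omega
      have := Nat.le_of_dvd (by norm_num) hd
      have := Nat.le_of_dvd Nat.card_pos (orderOf_dvd_natCard g₀)
      rcases (show Nat.card G = 3 ∨ Nat.card G = 4 by omega) with e | e
      · rw [e] at h2; norm_num at h2
      · exact e
    · rcases k with _ | _ | k
      · haveI : IsCyclic (QuaternionGroup (2 ^ 0)) := QuaternionGroup.quaternionGroup_one_isCyclic
        refine Or.inr (Or.inr (Or.inl ⟨isCyclic_of_surjective e.symm.toMonoidHom e.symm.surjective, ?_⟩))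
        rw [Nat.card_congr e.toEquiv, Nat.card_eq_fintype_card, QuaternionGroup.card]
        norm_num
      · exact Or.inr (Or.inl ⟨e⟩)
      · exfalso
        have h1 := h4 (e.symm (QuaternionGroup.a 1))
        rw [MulEquiv.orderOf_eq, QuaternionGroup.orderOf_a_one] at h1
        have := Nat.le_of_dvd (by norm_num) h1
        have := Nat.one_le_two_pow (n := k)
        rw [pow_succ, pow_succ] at *
        omega

end Cfsg.Agent.S3995
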