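import Cfsg.Statements.S3997
import Cfsg.Agent.Lib.OrderType.Basic

set_option autoImplicit false
open Cfsg

namespace Cfsg.Agent.S3997

/-- Let G and H be finite groups with the same order type: for every m they have the same number of elements of order m. If G is nilpotent then so is H. -/
theorem result {G H : Type*} [Group G] [Finite G] [Group H] [Finite H] (hT : (∀ m : ℕ, Nat.card {g : G // orderOf g = m} = Nat.card {h : H // orderOf h = m})) (hG : Group.IsNilpotent G) :
    Group.IsNilpotent H := by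
  refine ((Group.isNilpotent_of_finite_tfae (G := H)).out (a := Group.IsNilpotent H)
    (b := ∀ (p : ℕ) (_hp : Fact p.Prime) (P : Sylow p H), (P : Subgroup H).Normal) 0 3).2 ?_
  intro p hp P
  haveI := hp
  obtain ⟨Pg⟩ : Nonempty (Sylow p G) := inferInstance
  have hPg : (Pg : Subgroup G).Normal :=
    ((Group.isNilpotent_of_finite_tfae (G := G)).out (a := Group.IsNilpotent G)
      (b := ∀ (p : ℕ) (_hp : Fact p.Prime) (P : Sylow p G), (P : Subgroup G).Normal) 0 3).1 hG p hp Pg
  have single : ∀ {K : Type _} [Group K] (S : Sylow p K) [Finite K], (S : Subgroup K).Normal →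
      ((S : Subgroup K) : Set K) = CfsgLib.OrderType.piElts (insert p (∅ : Set ℕ)) K := by
    intro K _ S _ hS
    refine CfsgLib.OrderType.eq_piElts _ (fun q hq hd => ?_) (fun q hq hqp hd => ?_)
    · obtain ⟨k, hk⟩ := S.isPGroup'.exists_card_eq
      rw [hk] at hd
      simp [(Nat.prime_dvd_prime_iff_eq hq hp.out).1 (hq.dvd_of_dvd_pow hd)]
    · simp at hqp
      subst hqp
      exact S.not_dvd_index hd
  have hbot : CfsgLib.OrderType.IsPiClosedG (∅ : Set ℕ) H :=
    ⟨⊥, CfsgLib.OrderType.eq_piElts ⊥ (fun q hq hd => by simp at hd; exact absurd hd hq.ne_one)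
      (fun q _ h => absurd h (Set.notMem_empty q))⟩
  obtain ⟨K, L, _, -, hL, -⟩ := CfsgLib.OrderType.isPiClosedG_insert hT p hp.out
    (Set.notMem_empty p) ⟨_, single Pg hPg⟩ hbot
  have hLn := CfsgLib.OrderType.normal_of_eq_piElts hL
  have hLP : L = (P : Subgroup H) := by
    refine (P.is_maximal' ?_ ?_)
    · exact IsPGroup.iff_card.2 ⟨_, Nat.eq_prime_pow_of_unique_prime_dvd Nat.card_pos.ne'
        (fun {d} hd hdd => by simpa using CfsgLib.OrderType.prime_dvd_card_of_eq hL hd hdd)⟩
    · intro x hx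
      rw [← SetLike.mem_coe, hL]
      intro q hq hd
      obtain ⟨k, hk⟩ := P.isPGroup' ⟨x, hx⟩
      have := hd.trans (orderOf_dvd_of_pow_eq_one (congrArg Subtype.val hk))
      simp [(Nat.prime_dvd_prime_iff_eq hq hp.out).1 (hq.dvd_of_dvd_pow this)]
  exact hLP ▸ hLn

end Cfsg.Agent.S3997
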