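import Cfsg.Statements.S3998
import Cfsg.Agent.Lib.OrderType.Basic

set_option autoImplicit false
open Cfsg

namespace Cfsg.Agent.S3998

open CfsgLib.OrderType Subgroup

/-- A normal series with cyclic steps passes to quotients. -/
theorem supersolvable_quotient {G : Type*} [Group G] (hG : Cfsg.IsSupersolvable G)
    (N : Subgroup G) [N.Normal] : Cfsg.IsSupersolvable (G ⧸ N) := by
  obtain ⟨n, H, h0, hn, hnor, hstep⟩ := hG
  refine ⟨n, fun i => (H i).map (QuotientGroup.mk' N), ?_, ?_, ?_, ?_⟩
  · simp [h0]
  · simp only [hn]; exact Subgroup.map_top_of_surjective _ (QuotientGroup.mk'_surjective N)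
  · exact fun i => (hnor i).map _ (QuotientGroup.mk'_surjective N)
  · intro i
    obtain ⟨g, hg⟩ := hstep i
    exact ⟨QuotientGroup.mk' N g, by simp only [hg, Subgroup.map_sup, MonoidHom.map_zpowers]⟩

/-- A nontrivial supersolvable group has a normal subgroup of prime order. -/
theorem exists_normal_prime_order {G : Type*} [Group G] [Finite G] [Nontrivial G]
    (hG : Cfsg.IsSupersolvable G) : ∃ (q : ℕ) (C : Subgroup G), q.Prime ∧ C.Normal ∧ Nat.card C = q := by
  obtain ⟨n, H, h0, hn, hnor, hstep⟩ := hG
  have hex : ∃ i : Fin n, H i.castSucc = ⊥ ∧ H i.succ ≠ ⊥ := by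
    by_contra hcon
    push Not at hcon
    have hall : ∀ i : Fin (n + 1), H i = ⊥ := by
      intro i
      induction i using Fin.induction with
      | zero => exact h0
      | succ j ih => exact hcon j ih
    exact bot_ne_top ((hall _).symm.trans hn)
  obtain ⟨i, hi0, hi1⟩ := hex
  obtain ⟨g, hg⟩ := hstep i
  rw [hi0, bot_sup_eq] at hg
  have hZn : (zpowers g).Normal := hg ▸ hnor _
  have hg1 : orderOf g ≠ 1 := by
    intro h
    rw [orderOf_eq_one_iff] at h
    exact hi1 (by rw [hg, h, zpowers_one_eq_bot])
  obtain ⟨q, hq, hd⟩ := Nat.exists_prime_and_dvd hg1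
  set c := g ^ (orderOf g / q)
  have hc : orderOf c = q := orderOf_pow_orderOf_div (orderOf_pos g).ne' hd
  refine ⟨q, zpowers c, hq, ⟨fun x hx y => ?_⟩, by rw [Nat.card_zpowers, hc]⟩
  obtain ⟨k, rfl⟩ := mem_zpowers_iff.1 hx
  obtain ⟨j, hj⟩ := mem_zpowers_iff.1 (hZn.conj_mem g (mem_zpowers g) y)
  refine mem_zpowers_iff.2 ⟨j * k, ?_⟩
  have h1 : y * c * y⁻¹ = c ^ j := by
    show y * g ^ (orderOf g / q) * y⁻¹ = _
    rw [← conj_pow, ← hj]
    show _ = (g ^ (orderOf g / q)) ^ j
    rw [← zpow_natCast, ← zpow_natCast, ← zpow_mul, ← zpow_mul, mul_comm]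
  rw [zpow_mul, ← h1, conj_zpow]

/-- In a supersolvable group the elements all of whose primes are at least `t` form a subgroup. -/
theorem closed_ge (t : ℕ) : ∀ (N : ℕ) {G : Type*} [Group G] [Finite G], Nat.card G ≤ N →
    Cfsg.IsSupersolvable G → IsPiClosedG {q : ℕ | t ≤ q} G := by
  intro N
  induction N with
  | zero => intro G _ _ h; exact absurd Nat.card_pos (not_lt.2 h)
  | succ N ih =>
    intro G _ _ hN hG
    rcases subsingleton_or_nontrivial G with hs | hnt
    · refine ⟨⊥, eq_piElts ⊥ ?_ ?_⟩
      · intro q hq hd; simp at hd; exact absurd hd hq.ne_one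
      · intro q hq _ hd
        rw [index_bot, Nat.card_unique] at hd
        exact hq.ne_one (Nat.dvd_one.1 hd)
    obtain ⟨q, C, hq, hCn, hC⟩ := exists_normal_prime_order hG
    have hlt : Nat.card (G ⧸ C) ≤ N := by
      have h1 := C.card_eq_card_quotient_mul_card_subgroup
      have h2 := hq.two_le
      have h3 : 0 < Nat.card (G ⧸ C) := Nat.card_pos
      rw [hC] at h1
      nlinarith
    obtain ⟨Kb, hKb⟩ := ih hlt (supersolvable_quotient hG C)
    have := normal_of_eq_piElts hKb
    set L := Kb.comap (QuotientGroup.mk' C) with hL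
    have hLn : L.Normal := Subgroup.Normal.comap ‹_› _
    have hLidx : L.index = Kb.index := index_comap_of_surjective _ (QuotientGroup.mk'_surjective C)
    have hCL : C ≤ L := fun x hx => by
      show QuotientGroup.mk' C x ∈ Kb
      rw [QuotientGroup.mk'_apply, (QuotientGroup.eq_one_iff x).2 hx]
      exact one_mem _
    have hLcard : Nat.card L = Nat.card Kb * q := by
      have e1 := L.index_mul_card
      have e2 := Kb.index_mul_card
      have e3 := C.card_eq_card_quotient_mul_card_subgroup
      rw [hLidx] at e1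
      rw [hC] at e3
      have hpos : 0 < Kb.index := Nat.pos_of_ne_zero index_ne_zero_of_finite
      refine Nat.eq_of_mul_eq_mul_left hpos ?_
      rw [e1, ← mul_assoc, e2, e3]
    by_cases hqt : t ≤ q
    · refine ⟨L, eq_piElts L ?_ ?_⟩
      · intro r hr hd
        rw [hLcard] at hd
        rcases hr.dvd_mul.1 hd with h | h
        · exact prime_dvd_card_of_eq hKb hr h
        · exact ((Nat.prime_dvd_prime_iff_eq hr hq).1 h) ▸ hqt
      · intro r hr hrt
        rw [hLidx]
        exact not_dvd_index_of_eq hKb hr hrt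
    have hcop : (Nat.card (C.subgroupOf L)).Coprime (C.subgroupOf L).index := by
      have hc' : Nat.card (C.subgroupOf L) = q := by
        rw [Nat.card_congr (subgroupOfEquivOfLe hCL).toEquiv, hC]
      have hi : (C.subgroupOf L).index = Nat.card Kb := by
        have e := (C.subgroupOf L).index_mul_card
        rw [hc', hLcard] at e
        exact Nat.eq_of_mul_eq_mul_right hq.pos e
      rw [hc', hi, Nat.Prime.coprime_iff_not_dvd hq]
      exact fun hd => hqt (prime_dvd_card_of_eq hKb hq hd)
    obtain ⟨K0, hK0⟩ := exists_right_complement'_of_coprime hcop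
    set K := K0.map L.subtype
    have hKcard : Nat.card K = Nat.card Kb := by
      have e := hK0.card_mul
      rw [Nat.card_congr (subgroupOfEquivOfLe hCL).toEquiv, hC, hLcard, mul_comm (Nat.card Kb)] at e
      rw [card_map_of_injective L.subtype_injective]
      exact Nat.eq_of_mul_eq_mul_left hq.pos e
    -- elements of `K` centralise `C`
    have hcent : K ≤ centralizer (C : Set G) := by
      intro x hx
      have hxd : orderOf x ∣ Nat.card Kb := hKcard ▸
        (orderOf_coe (⟨x, hx⟩ : K) ▸ orderOf_dvd_natCard (⟨x, hx⟩ : K))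
      set f : MulAut C := MulAut.conjNormal x
      have h1 : orderOf f ∣ orderOf x := orderOf_map_dvd MulAut.conjNormal x
      haveI := Fact.mk hq
      have hcyc : IsCyclic C := isCyclic_of_prime_card hC
      have h2 : orderOf f ∣ q - 1 := by
        have := orderOf_dvd_natCard f
        rwa [hcyc.card_mulAut, hC, Nat.totient_prime hq] at this
      have hf : f = 1 := by
        rw [← orderOf_eq_one_iff]
        by_contra hne
        obtain ⟨r, hr, hrd⟩ := Nat.exists_prime_and_dvd hne
        have hr1 : t ≤ r := prime_dvd_card_of_eq hKb hr ((hrd.trans h1).trans hxd)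
        have hr2 : r ≤ q - 1 := Nat.le_of_dvd (by have := hq.two_le; omega) (hrd.trans h2)
        omega
      rw [mem_centralizer_iff]
      intro c hc
      have := congrArg (fun e : MulAut C => ((e ⟨c, hc⟩ : C) : G)) hf
      simp only [f, MulAut.conjNormal_apply, MulAut.one_apply] at this
      exact (mul_inv_eq_iff_eq_mul.1 this).symm
    -- hence `K` is normal in `L`
    have hK0n : K0.Normal := by
      constructor
      intro k hk l
      obtain ⟨⟨⟨c, hc⟩, ⟨k', hk'⟩⟩, hl⟩ := hK0.surjective l
      have hl' : c * k' = l := hl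
      have hcom : ∀ z ∈ K0, (c : L) * z = z * c := fun z hz => by
        have hzK : (z : G) ∈ K := ⟨z, hz, rfl⟩
        exact Subtype.ext (mem_centralizer_iff.1 (hcent hzK) _ (mem_subgroupOf.1 hc))
      have hm : k' * k * k'⁻¹ ∈ K0 := mul_mem (mul_mem hk' hk) (inv_mem hk')
      have : l * k * l⁻¹ = k' * k * k'⁻¹ := by
        rw [← hl', show c * k' * k * (c * k')⁻¹ = c * (k' * k * k'⁻¹) * c⁻¹ by group, hcom _ hm,
          mul_inv_cancel_right]
      rw [this]; exact hm
    have hK0set : (K0 : Set L) = piElts {r : ℕ | t ≤ r} L := by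
      refine eq_piElts K0 ?_ ?_
      · intro r hr hd
        have e : Nat.card K = Nat.card K0 := card_map_of_injective L.subtype_injective
        exact prime_dvd_card_of_eq hKb hr (hKcard ▸ e ▸ hd)
      · intro r hr hrt hd
        rw [hK0.symm.symm.index_eq_card, Nat.card_congr (subgroupOfEquivOfLe hCL).toEquiv, hC] at hd
        exact hqt ((Nat.prime_dvd_prime_iff_eq hr hq).1 hd ▸ hrt)
    refine ⟨K, ?_⟩
    ext x
    constructor
    · rintro ⟨y, hy, rfl⟩
      rw [hK0set] at hy
      intro r hr hrd
      exact hy r hr (by rwa [← orderOf_coe] )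
    · intro hx
      have hxL : x ∈ L := by
        show QuotientGroup.mk' C x ∈ Kb
        rw [← SetLike.mem_coe, hKb]
        exact fun r hr hd => hx r hr (hd.trans (orderOf_map_dvd _ x))
      refine ⟨⟨x, hxL⟩, ?_, rfl⟩
      rw [hK0set]
      intro r hr hrd
      exact hx r hr (by rwa [← orderOf_coe] at hrd)

/-- The order type determines the solvable-by-tower structure. -/
theorem tower_solvable {G H : Type*} [Group G] [Finite G] [Group H] [Finite H]
    (hT : ∀ m : ℕ, Nat.card {g : G // orderOf g = m} = Nat.card {h : H // orderOf h = m})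
    (hG : ∀ t : ℕ, IsPiClosedG {q : ℕ | t ≤ q} G) (d : ℕ) :
    ∀ t : ℕ, Nat.card H + 1 ≤ t + d →
      ∃ K : Subgroup H, (K : Set H) = piElts {q : ℕ | t ≤ q} H ∧ Group.IsSolvable K := by
  induction d with
  | zero =>
    intro t ht
    refine ⟨⊥, eq_piElts ⊥ (fun q hq hd => ?_) (fun q hq hqt hd => ?_), ?_⟩
    · simp at hd; exact absurd hd hq.ne_one
    · rw [index_bot] at hd
      have := Nat.le_of_dvd Nat.card_pos hd
      simp only [Set.mem_setOf_eq] at hqt
      omega
    · infer_instance
  | succ d ih =>
    intro t ht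
    obtain ⟨K, hK, hKs⟩ := ih (t + 1) (by omega)
    by_cases htp : t.Prime
    · have := Fact.mk htp
      have heq : insert t {q : ℕ | t + 1 ≤ q} = {q : ℕ | t ≤ q} := by
        ext q; simp only [Set.mem_insert_iff, Set.mem_setOf_eq]; omega
      obtain ⟨K', L, _, hK', hL, Q, hQ, hLQ⟩ := isPiClosedG_insert hT t htp
        (π := {q : ℕ | t + 1 ≤ q}) (by simp) (heq ▸ hG t) ⟨K, hK⟩
      have e : K' = K := SetLike.ext' (hK'.trans hK.symm)
      subst e
      have := normal_of_eq_piElts hK
      refine ⟨L, heq ▸ hL, ?_⟩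
      rw [hLQ]
      exact isSolvable_sup_pGroup _ Q hKs hQ
    · refine ⟨K, hK.trans ?_, hKs⟩
      ext x
      simp only [mem_piElts, Set.mem_setOf_eq]
      refine forall_congr' fun q => ?_
      constructor
      · intro h hq hd; have := h hq hd; omega
      · intro h hq hd
        have := h hq hd
        have hne : q ≠ t := fun e => htp (e ▸ hq)
        omega

/-- Let G and H be finite groups with the same order type (for every m the same number of elements of order m). If G is supersolvable then H is solvable. -/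
theorem result {G H : Type*} [Group G] [Finite G] [Group H] [Finite H] (hT : (∀ m : ℕ, Nat.card {g : G // orderOf g = m} = Nat.card {h : H // orderOf h = m})) (hG : Cfsg.IsSupersolvable G) :
    Group.IsSolvable H := by
  obtain ⟨K, hK, hKs⟩ := tower_solvable hT (fun t => closed_ge t _ le_rfl hG) (Nat.card H + 1) 0
    (by omega)
  have : K = ⊤ := by
    apply SetLike.ext'
    rw [hK]
    ext x
    simp [mem_piElts]
  subst this
  exact Group.isSolvable_of_surjective (f := (Subgroup.topEquiv (G := H)).toMonoidHom)
    Subgroup.topEquiv.surjective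

end Cfsg.Agent.S3998
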