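import Cfsg.Statements.S4001
import Cfsg.Agent.Lib.FGS.TwoFrobenius

set_option autoImplicit false
open Cfsg

namespace Cfsg.Agent.S4001

/-- Let G be a 2-Frobenius group: it has normal subgroups H < K with K a Frobenius group with kernel H and G/H a Frobenius group with kernel K/H. Then G is solvable; K/H has odd order coprime to the order of H and to the order of G/K (it is the image of an odd-order Hall subgroup); G/K is cyclic; and the prime graph of G has exactly two connected components, both complete: for distinct primes p, q dividing the order of G, G has an element of order pq exactly when p and q either both divide the order of K/H or both do not. -/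
theorem result {G : Type*} [Group G] [Finite G] (H K : Subgroup G) [H.Normal] [K.Normal] (hlt : H < K)
    (hK : ∃ C : Subgroup ↥K, Cfsg.IsFrobeniusComplement C ∧ Cfsg.frobeniusKernel C = (H.subgroupOf K : Set ↥K))
    (hGH : ∃ C : Subgroup (G ⧸ H), Cfsg.IsFrobeniusComplement C ∧ Cfsg.frobeniusKernel C = (K.map (QuotientGroup.mk' H) : Set (G ⧸ H))) :
    Group.IsSolvable G ∧ Odd (Nat.card (↥K ⧸ H.subgroupOf K)) ∧
      Nat.Coprime (Nat.card (↥K ⧸ H.subgroupOf K)) (Nat.card ↥H * Nat.card (G ⧸ K)) ∧ IsCyclic (G ⧸ K) ∧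
      ∀ p q : ℕ, p.Prime → q.Prime → p ≠ q → p ∣ Nat.card G → q ∣ Nat.card G →
        ((∃ g : G, orderOf g = p * q) ↔ (p ∣ Nat.card (↥K ⧸ H.subgroupOf K) ↔ q ∣ Nat.card (↥K ⧸ H.subgroupOf K))) := by
  classical
  obtain ⟨C₁, hC₁, hker₁⟩ := hK
  obtain ⟨C₂, hC₂, hker₂⟩ := hGH
  haveI : (K.map (QuotientGroup.mk' H)).Normal :=
    Subgroup.Normal.map inferInstance _ (QuotientGroup.mk'_surjective H)
  have hle : H ≤ K := hlt.le
  obtain ⟨hc₁, hN₁, hnil₁, hfpf₁⟩ := CfsgLib.FGS.TwoFrob.frob_facts hC₁ hker₁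
  obtain ⟨hc₂, hN₂, hnil₂, hfpf₂⟩ := CfsgLib.FGS.TwoFrob.frob_facts hC₂ hker₂
  obtain ⟨e₁⟩ := CfsgLib.FGS.TwoFrob.complement_equiv hc₁
  obtain ⟨e₂⟩ := CfsgLib.FGS.TwoFrob.complement_equiv hc₂
  let f : K →* K.map (QuotientGroup.mk' H) := (QuotientGroup.mk' H).subgroupMap K
  have hfs : Function.Surjective f := MonoidHom.subgroupMap_surjective _ _
  have hfk : f.ker = H.subgroupOf K := by
    ext x
    rw [MonoidHom.mem_ker, Subgroup.mem_subgroupOf, ← QuotientGroup.eq_one_iff (N := H)]
    exact ⟨fun h => congrArg Subtype.val h, fun h => Subtype.ext h⟩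
  let eQ : (↥K ⧸ H.subgroupOf K) ≃* K.map (QuotientGroup.mk' H) :=
    (QuotientGroup.quotientMulEquivOfEq hfk.symm).trans
      (QuotientGroup.quotientKerEquivOfSurjective f hfs)
  let eC : C₁ ≃* K.map (QuotientGroup.mk' H) := e₁.trans eQ
  -- the middle quotient has odd order
  have hCodd : Odd (Nat.card C₁) := by
    by_contra hev
    obtain ⟨s, hs⟩ := exists_prime_orderOf_dvd_card' (G := C₁) 2
      (Nat.not_odd_iff_even.1 hev).two_dvd
    haveI := Fact.mk Nat.prime_two
    have hnorm : C₁ ≤ Subgroup.normalizer ((H.subgroupOf K : Subgroup K) : Set K) := by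
      rw [Subgroup.normalizer_eq_top]; exact le_top
    have hu : ∀ t : C₁, orderOf t = 2 → t = s := by
      intro t ht
      by_contra hne
      have hst : (s : K) * t ≠ 1 := by
        intro h
        apply hne
        have hs2 : s * s = 1 := by rw [← pow_two, ← hs, pow_orderOf_eq_one]
        have h' : s * t = 1 := Subtype.ext h
        calc t = (s * s) * t := by rw [hs2, one_mul]
          _ = s * (s * t) := mul_assoc _ _ _
          _ = s := by rw [h', mul_one]
      refine hN₁ (eq_bot_iff.2 fun k hk => Subgroup.mem_bot.2 ?_)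
      refine CfsgLib.Solvable.eq_one_of_fpf hfpf₁ (C₁.mul_mem s.2 t.2) hst hk ?_
      have h1 := CfsgLib.Solvable.conj_eq_inv_of_fpf hnorm hfpf₁ t.2
        (by rw [Subgroup.orderOf_coe, ht]) k hk
      have h2 := CfsgLib.Solvable.conj_eq_inv_of_fpf hnorm hfpf₁ s.2
        (by rw [Subgroup.orderOf_coe, hs]) k⁻¹ (inv_mem hk)
      calc (s : K) * t * k * ((s : K) * t)⁻¹ = (s : K) * ((t : K) * k * (t : K)⁻¹) * (s : K)⁻¹ := by
            group
        _ = (s : K) * k⁻¹ * (s : K)⁻¹ := by rw [h1]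
        _ = k := by rw [h2, inv_inv]
    obtain ⟨c, hc, hc1⟩ := Subgroup.ne_bot_iff_exists_ne_one.1 hC₂.1 |> fun ⟨c, h⟩ =>
      (⟨c.1, c.2, fun e => h (Subtype.ext e)⟩ : ∃ c, c ∈ C₂ ∧ c ≠ 1)
    have hz : orderOf (eC s) = 2 := by rw [MulEquiv.orderOf_eq, hs]
    have hfix : MulAut.conjNormal c (eC s) = eC s := by
      have h1 : orderOf (MulAut.conjNormal (H := K.map (QuotientGroup.mk' H)) c (eC s)) = 2 := by
        rw [MulEquiv.orderOf_eq, hz]
      have h2 := hu (eC.symm (MulAut.conjNormal c (eC s))) (by rw [MulEquiv.orderOf_eq, h1])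
      have h3 := congrArg eC h2
      rwa [MulEquiv.apply_symm_apply] at h3
    have hv := congrArg Subtype.val hfix
    rw [MulAut.conjNormal_apply] at hv
    have := CfsgLib.Solvable.eq_one_of_fpf hfpf₂ hc hc1 (eC s).2 hv
    have h3 : eC s = 1 := Subtype.ext this
    rw [h3, orderOf_one] at hz
    omega
  -- hence cyclic
  haveI hC₁nil : Group.IsNilpotent C₁ := by
    haveI := hnil₂
    exact Group.nilpotent_of_mulEquiv eC.symm
  haveI hC₁Z : IsZGroup C₁ := by
    refine ⟨fun p hp P => ?_⟩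
    haveI := Fact.mk hp
    by_cases hp2 : p = 2
    · have hb : (P : Subgroup C₁) = ⊥ := by
        refine Subgroup.eq_bot_of_card_eq _ ?_
        obtain ⟨n, hn⟩ := P.isPGroup'.exists_card_eq
        rw [hn]
        rcases Nat.eq_zero_or_pos n with rfl | hn0
        · rfl
        · exfalso
          have h2 : 2 ∣ Nat.card C₁ := by
            have := Subgroup.card_subgroup_dvd_card (P : Subgroup C₁)
            rw [hn, hp2] at this
            exact (dvd_pow_self 2 hn0.ne').trans this
          obtain ⟨a, ha⟩ := h2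
          obtain ⟨b, hb⟩ := hCodd
          omega
      rw [hb]
      infer_instance
    · haveI := CfsgLib.FGS.isCyclic_le_frobeniusComplement hC₁
        ((P : Subgroup C₁).map C₁.subtype) (Subgroup.map_subtype_le _)
        (Or.inr ⟨p, hp, hp2, P.isPGroup'.map _⟩)
      exact isCyclic_of_injective
        (((P : Subgroup C₁).equivMapOfInjective C₁.subtype
          (Subgroup.subtype_injective _)).toMonoidHom) (MulEquiv.injective _)
  haveI hC₁cyc : IsCyclic C₁ := inferInstance
  haveI hKbcyc : IsCyclic (K.map (QuotientGroup.mk' H)) :=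
    isCyclic_of_surjective eC.toMonoidHom eC.surjective
  -- the top quotient is cyclic
  have hC₂comm : ∀ a ∈ C₂, ∀ b ∈ C₂, a * b = b * a := by
    intro a ha b hb
    obtain ⟨g, hg⟩ := IsCyclic.exists_generator (α := K.map (QuotientGroup.mk' H))
    obtain ⟨i, hi⟩ := Subgroup.mem_zpowers_iff.1 (hg (MulAut.conjNormal a g))
    obtain ⟨j, hj⟩ := Subgroup.mem_zpowers_iff.1 (hg (MulAut.conjNormal b g))
    have hab : MulAut.conjNormal (a * b) g = MulAut.conjNormal (b * a) g := by
      rw [map_mul, map_mul, MulAut.mul_apply, MulAut.mul_apply, ← hj, ← hi, map_zpow, map_zpow,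
        ← hj, ← hi, ← zpow_mul, ← zpow_mul, mul_comm]
    have h1 : MulAut.conjNormal ((b * a)⁻¹ * (a * b)) g = g := by
      rw [map_mul, MulAut.mul_apply, hab, ← MulAut.mul_apply, ← map_mul, inv_mul_cancel, map_one,
        MulAut.one_apply]
    by_contra hne
    have hm : (b * a)⁻¹ * (a * b) ∈ C₂ :=
      C₂.mul_mem (inv_mem (C₂.mul_mem hb ha)) (C₂.mul_mem ha hb)
    have hne1 : (b * a)⁻¹ * (a * b) ≠ 1 := fun e => hne (inv_mul_eq_one.1 e).symm
    have hv := congrArg Subtype.val h1
    rw [MulAut.conjNormal_apply] at hv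
    have hg1 : g = 1 := Subtype.ext (CfsgLib.Solvable.eq_one_of_fpf hfpf₂ hm hne1 g.2 hv)
    refine hN₂ (eq_bot_iff.2 fun k hk => ?_)
    obtain ⟨n, hn⟩ := Subgroup.mem_zpowers_iff.1 (hg ⟨k, hk⟩)
    rw [hg1, one_zpow] at hn
    exact Subgroup.mem_bot.2 (congrArg Subtype.val hn).symm
  haveI hC₂cyc : IsCyclic C₂ := CfsgLib.FGS.isCyclic_le_frobeniusComplement hC₂ C₂ le_rfl
    (Or.inl ⟨⟨fun a b => Subtype.ext (hC₂comm _ a.2 _ b.2)⟩⟩)
  let e₃ : C₂ ≃* G ⧸ K := e₂.trans (QuotientGroup.quotientQuotientEquivQuotient H K hle)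
  haveI hGKcyc : IsCyclic (G ⧸ K) := isCyclic_of_surjective e₃.toMonoidHom e₃.surjective
  haveI hHnil : Group.IsNilpotent H := by
    haveI := hnil₁
    exact Group.nilpotent_of_mulEquiv (Subgroup.subgroupOfEquivOfLe hle)
  have hcardQ : Nat.card (↥K ⧸ H.subgroupOf K) = Nat.card C₁ := (Nat.card_congr e₁.toEquiv).symm
  have hcardN : Nat.card (H.subgroupOf K) = Nat.card H :=
    Nat.card_congr (Subgroup.subgroupOfEquivOfLe hle).toEquiv
  have hcardKb : Nat.card (K.map (QuotientGroup.mk' H)) = Nat.card (↥K ⧸ H.subgroupOf K) :=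
    (Nat.card_congr eQ.toEquiv).symm
  have hcop1 : (Nat.card (↥K ⧸ H.subgroupOf K)).Coprime (Nat.card H) := by
    rw [hcardQ, ← hcardN]
    exact CfsgLib.Solvable.coprime_card_of_fpf
      (by rw [Subgroup.normalizer_eq_top]; exact le_top) hfpf₁
  have hcop3 : (Nat.card (↥K ⧸ H.subgroupOf K)).Coprime (Nat.card (G ⧸ K)) := by
    rw [← hcardKb, ← Nat.card_congr e₃.toEquiv]
    exact (CfsgLib.Solvable.coprime_card_of_fpf
      (by rw [Subgroup.normalizer_eq_top]; exact le_top) hfpf₂).symm
  have hKcard : Nat.card K = Nat.card (↥K ⧸ H.subgroupOf K) * Nat.card H := by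
    rw [← hcardN]; exact Subgroup.card_eq_card_quotient_mul_card_subgroup _
  have hGcard : Nat.card G = Nat.card (G ⧸ K) * Nat.card K :=
    Subgroup.card_eq_card_quotient_mul_card_subgroup _
  have hKfrob : ∀ x ∈ K, x ∉ H → ∀ y ∈ H, x * y = y * x → y = 1 := by
    intro x hx hxH y hy hxy
    exact congrArg Subtype.val (CfsgLib.FGS.TwoFrob.eq_one_of_commute_kernel hC₁ hker₁
      (x := (⟨x, hx⟩ : K)) (y := ⟨y, hle hy⟩) (fun h => hxH h) hy (Subtype.ext hxy))
  have hGfrob : ∀ x : G ⧸ H, x ∉ K.map (QuotientGroup.mk' H) →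
      ∀ y ∈ K.map (QuotientGroup.mk' H), x * y = y * x → y = 1 :=
    fun x hx y hy hxy => CfsgLib.FGS.TwoFrob.eq_one_of_commute_kernel hC₂ hker₂ hx hy hxy
  refine ⟨?_, ?_, Nat.Coprime.mul_right hcop1 hcop3, hGKcyc, ?_⟩
  · haveI : Group.IsSolvable (G ⧸ H) := by
      haveI : Group.IsSolvable (K.map (QuotientGroup.mk' H)) :=
        Group.isSolvable_of_comm fun a b => IsCyclic.commGroup.mul_comm a b
      haveI : Group.IsSolvable ((G ⧸ H) ⧸ K.map (QuotientGroup.mk' H)) :=
        haveI : Group.IsSolvable C₂ :=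
          Group.isSolvable_of_comm fun a b => Subtype.ext (hC₂comm _ a.2 _ b.2)
        Group.isSolvable_of_surjective (f := e₂.toMonoidHom) e₂.surjective
      exact (Group.isSolvable_iff_subgroup_quotient (K.map (QuotientGroup.mk' H))).2
        ⟨inferInstance, inferInstance⟩
    exact (Group.isSolvable_iff_subgroup_quotient H).2 ⟨inferInstance, inferInstance⟩
  · rw [hcardQ]; exact hCodd
  intro p q hp hq hpq hpd hqd
  haveI := Fact.mk hp
  haveI := Fact.mk hq
  constructor
  · rintro ⟨g, hg⟩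
    -- no element joins the two components
    have key : ∀ p q : ℕ, p.Prime → q.Prime → orderOf g = p * q →
        p ∣ Nat.card (↥K ⧸ H.subgroupOf K) → ¬ q ∣ Nat.card (↥K ⧸ H.subgroupOf K) → False := by
      intro p q hp hq hg hp2 hq2
      have hx : orderOf (g ^ q) = p := by
        rw [orderOf_pow' g hq.ne_zero, hg, Nat.gcd_eq_right (dvd_mul_left q p)]
        exact Nat.mul_div_cancel p hq.pos
      have hy : orderOf (g ^ p) = q := by
        rw [orderOf_pow' g hp.ne_zero, hg, Nat.gcd_eq_right (dvd_mul_right p q)]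
        exact Nat.mul_div_cancel_left q hp.pos
      have hxy : g ^ q * g ^ p = g ^ p * g ^ q := by rw [← pow_add, ← pow_add, add_comm]
      have hxK : g ^ q ∈ K := by
        rw [← QuotientGroup.eq_one_iff (N := K), ← orderOf_eq_one_iff]
        refine Nat.eq_one_of_dvd_coprimes hcop3 ?_ (orderOf_dvd_natCard _)
        exact ((orderOf_map_dvd (QuotientGroup.mk' K) (g ^ q)).trans (hx ▸ dvd_rfl)).trans hp2
      have hxH : g ^ q ∉ H := by
        intro h
        apply hp.ne_one
        refine Nat.eq_one_of_dvd_coprimes hcop1 hp2 ?_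
        rw [← hx, ← Subgroup.orderOf_mk (g ^ q) h]
        exact orderOf_dvd_natCard _
      by_cases hyK : g ^ p ∈ K
      · have hyH : g ^ p ∈ H := by
          by_contra hyH
          apply hq2
          rw [← hcardKb, ← hy]
          have hne : (⟨QuotientGroup.mk' H (g ^ p), Subgroup.mem_map_of_mem _ hyK⟩ :
              K.map (QuotientGroup.mk' H)) ≠ 1 := fun e =>
            hyH ((QuotientGroup.eq_one_iff _).1 (congrArg Subtype.val e))
          have hd : orderOf (QuotientGroup.mk' H (g ^ p)) ∣ q :=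
            hy ▸ orderOf_map_dvd (QuotientGroup.mk' H) (g ^ p)
          rcases (Nat.dvd_prime hq).1 hd with h1 | h1
          · exact absurd (Subtype.ext (orderOf_eq_one_iff.1 h1)) hne
          · rw [hy, ← h1, ← Subgroup.orderOf_mk (QuotientGroup.mk' H (g ^ p))
              (Subgroup.mem_map_of_mem _ hyK)]
            exact orderOf_dvd_natCard _
        have := hKfrob _ hxK hxH _ hyH hxy
        rw [this, orderOf_one] at hy
        exact hq.ne_one hy.symm
      · have h1 : QuotientGroup.mk' H (g ^ p) ∉ K.map (QuotientGroup.mk' H) := by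
          intro h
          obtain ⟨k, hk, hk'⟩ := Subgroup.mem_map.1 h
          apply hyK
          have h2 : k⁻¹ * g ^ p ∈ H := QuotientGroup.eq.1 hk'
          simpa using K.mul_mem hk (hle h2)
        have := hGfrob _ h1 (QuotientGroup.mk' H (g ^ q)) (Subgroup.mem_map_of_mem _ hxK)
          (by rw [← map_mul, ← map_mul, hxy])
        exact hxH ((QuotientGroup.eq_one_iff _).1 this)
    by_contra hne
    by_cases hp2 : p ∣ Nat.card (↥K ⧸ H.subgroupOf K)
    · exact key p q hp hq hg hp2 fun h => hne ⟨fun _ => h, fun _ => hp2⟩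
    · refine key q p hq hp (by rw [hg, mul_comm]) ?_ hp2
      by_contra h
      exact hne ⟨fun h' => absurd h' hp2, fun h' => absurd h' h⟩
  · intro hiff
    by_cases hp2 : p ∣ Nat.card (↥K ⧸ H.subgroupOf K)
    · have hpq2 : p * q ∣ Nat.card (↥K ⧸ H.subgroupOf K) :=
        ((Nat.coprime_primes hp hq).2 hpq).mul_dvd_of_dvd_of_dvd hp2 (hiff.1 hp2)
      haveI : IsCyclic (↥K ⧸ H.subgroupOf K) :=
        isCyclic_of_surjective e₁.toMonoidHom e₁.surjective
      obtain ⟨a, ha⟩ := CfsgLib.FGS.TwoFrob.exists_orderOf_of_surjective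
        (QuotientGroup.mk' (H.subgroupOf K)) (QuotientGroup.mk'_surjective _) hpq2
      exact ⟨(a : G), by rw [Subgroup.orderOf_coe, ha]⟩
    · have hq2 : ¬ q ∣ Nat.card (↥K ⧸ H.subgroupOf K) := fun h => hp2 (hiff.2 h)
      have split : ∀ r : ℕ, r.Prime → r ∣ Nat.card G → ¬ r ∣ Nat.card (↥K ⧸ H.subgroupOf K) →
          r ∣ Nat.card (G ⧸ K) ∨ r ∣ Nat.card H := by
        intro r hr hrd hr2
        rw [hGcard, hKcard] at hrd
        rcases (hr.dvd_mul).1 hrd with h | h
        · exact Or.inl h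
        · rcases (hr.dvd_mul).1 h with h | h
          · exact absurd h hr2
          · exact Or.inr h
      have mixed : ∀ p q : ℕ, p.Prime → q.Prime → p ≠ q → p ∣ Nat.card H →
          ¬ q ∣ Nat.card H → q ∣ Nat.card G → ¬ q ∣ Nat.card (↥K ⧸ H.subgroupOf K) →
          ∃ g : G, orderOf g = p * q := by
        intro p q hp hq hpq hpH hqH hqd hq2
        refine CfsgLib.FGS.TwoFrob.exists_commuting_mixed H K hle hlt.ne hKfrob hGfrob
          (hcardKb ▸ hcop1.symm) hp hq hpq hpH ?_ hqd
        rw [hKcard]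
        intro h
        rcases (hq.dvd_mul).1 h with h | h
        · exact hq2 h
        · exact hqH h
      by_cases hpH : p ∣ Nat.card H
      · by_cases hqH : q ∣ Nat.card H
        · obtain ⟨a, ha⟩ := CfsgLib.FGS.TwoFrob.exists_orderOf_mul_of_nilpotent (A := H)
            hp hq hpq hpH hqH
          exact ⟨(a : G), by rw [Subgroup.orderOf_coe, ha]⟩
        · exact mixed p q hp hq hpq hpH hqH hqd hq2
      · by_cases hqH : q ∣ Nat.card H
        · obtain ⟨g, hg⟩ := mixed q p hq hp hpq.symm hqH hpH hpd hp2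
          exact ⟨g, by rw [hg, mul_comm]⟩
        · exact CfsgLib.FGS.TwoFrob.exists_orderOf_of_surjective (QuotientGroup.mk' K)
            (QuotientGroup.mk'_surjective _) (((Nat.coprime_primes hp hq).2 hpq).mul_dvd_of_dvd_of_dvd
              ((split p hp hpd hp2).resolve_right hpH) ((split q hq hqd hq2).resolve_right hqH))

end Cfsg.Agent.S4001
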