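import Cfsg.Statements.S4002
import Cfsg.Agent.Lib.FGS.PrimeGraphThree

set_option autoImplicit false
open Cfsg

namespace Cfsg.Agent.S4002

theorem exists_primes (n : ℕ) (hn : 7 ≤ n) : ∃ p q r : ℕ, p.Prime ∧ q.Prime ∧ r.Prime ∧
    p < q ∧ q < r ∧ r ≤ n ∧ n < p * q := by
  rcases Nat.lt_or_ge n 15 with h | h
  · exact ⟨3, 5, 7, by norm_num, by norm_num, by norm_num, by norm_num, by norm_num, by omega, by omega⟩
  rcases Nat.lt_or_ge n 35 with h' | h'
  · exact ⟨5, 7, 11, by norm_num, by norm_num, by norm_num, by norm_num, by norm_num, by omega, by omega⟩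
  obtain ⟨p, hp, h1, h2⟩ := Nat.exists_prime_lt_and_le_two_mul (n / 8) (by omega)
  obtain ⟨q, hq, h3, h4⟩ := Nat.exists_prime_lt_and_le_two_mul (n / 4) (by omega)
  obtain ⟨r, hr, h5, h6⟩ := Nat.exists_prime_lt_and_le_two_mul (n / 2) (by omega)
  refine ⟨p, q, r, hp, hq, hr, by omega, by omega, by omega, ?_⟩
  have h7 : (n / 8 + 1) * (n / 4 + 1) ≤ p * q := Nat.mul_le_mul h1 h3
  have h8 : n < 8 * (n / 8 + 1) := by omega
  have h9 : n < 4 * (n / 4 + 1) := by omega
  by_contra hlt
  nlinarith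

/-- If the set of element orders of a finite group G is {1, 2, …, n} with n ≥ 7, then G is not solvable. -/
theorem result {G : Type*} [Group G] [Finite G] (n : ℕ) (hn : 7 ≤ n) (h : Set.range (orderOf : G → ℕ) = {k : ℕ | 1 ≤ k ∧ k ≤ n}) : ¬ Group.IsSolvable G := by
  intro hs
  haveI := hs
  obtain ⟨p, q, r, hp, hq, hr, hpq, hqr, hrn, hbig⟩ := exists_primes n hn
  have hle : ∀ g : G, orderOf g ≤ n := fun g => by
    have : orderOf g ∈ Set.range (orderOf : G → ℕ) := ⟨g, rfl⟩
    rw [h] at this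
    exact this.2
  have hdvd : ∀ k : ℕ, 1 ≤ k → k ≤ n → k ∣ Nat.card G := fun k h1 h2 => by
    obtain ⟨g, hg⟩ : k ∈ Set.range (orderOf : G → ℕ) := by rw [h]; exact ⟨h1, h2⟩
    exact hg ▸ orderOf_dvd_natCard g
  refine CfsgLib.FGS.false_of_three_primes (G := G) {p, q, r} ?_ ?_ ?_
  · rw [Finset.card_insert_of_notMem, Finset.card_pair (by omega)]
    simp only [Finset.mem_insert, Finset.mem_singleton]
    omega
  · intro a ha
    simp only [Finset.mem_insert, Finset.mem_singleton] at ha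
    rcases ha with rfl | rfl | rfl
    · exact ⟨hp, hdvd _ hp.one_le (by omega)⟩
    · exact ⟨hq, hdvd _ hq.one_le (by omega)⟩
    · exact ⟨hr, hdvd _ hr.one_le hrn⟩
  · intro a ha b hb hab g hd
    have h1 := Nat.le_of_dvd (orderOf_pos g) hd
    have h2 := hle g
    simp only [Finset.mem_insert, Finset.mem_singleton] at ha hb
    have e1 : p * q ≤ p * r := Nat.mul_le_mul_left p hqr.le
    have e2 : p * q ≤ q * r := by
      rw [mul_comm q r]; exact Nat.mul_le_mul (by omega) le_rfl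
    rcases ha with rfl | rfl | rfl <;> rcases hb with rfl | rfl | rfl <;>
      first | exact absurd rfl hab | nlinarith

end Cfsg.Agent.S4002
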