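import Cfsg.Statements.S4005
import Cfsg.Agent.Lib.Solvable.FrobeniusComplement
import Cfsg.Agent.Lib.Solvable.MinimalNormal
import Cfsg.Agent.Lib.Solvable.UniqueSubgroup

set_option autoImplicit false
open Cfsg

namespace Cfsg.Agent.S4005

/-- A finite group whose set of element orders is exactly {1, 2, 3} has either a normal elementary abelian 3-subgroup of index 2 or a normal elementary abelian 2-subgroup of index 3. -/
theorem result {G : Type*} [Group G] [Finite G] (h : Set.range (orderOf : G → ℕ) = {k : ℕ | 1 ≤ k ∧ k ≤ 3}) :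
    (∃ N : Subgroup G, N.Normal ∧ Cfsg.IsElementaryAbelian 3 N ∧ N.index = 2) ∨
      (∃ N : Subgroup G, N.Normal ∧ Cfsg.IsElementaryAbelian 2 N ∧ N.index = 3) := by
  classical
  have hord : ∀ g : G, orderOf g = 1 ∨ orderOf g = 2 ∨ orderOf g = 3 := fun g => by
    have h0 : orderOf g ∈ Set.range (orderOf : G → ℕ) := ⟨g, rfl⟩
    rw [h] at h0
    obtain ⟨h1, h2⟩ := h0
    omega
  obtain ⟨x₂, hx₂⟩ : 2 ∈ Set.range (orderOf : G → ℕ) := by rw [h]; exact ⟨by norm_num, by norm_num⟩
  obtain ⟨x₃, hx₃⟩ : 3 ∈ Set.range (orderOf : G → ℕ) := by rw [h]; exact ⟨by norm_num, by norm_num⟩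
  haveI : Fact (Nat.Prime 2) := ⟨Nat.prime_two⟩
  haveI : Fact (Nat.Prime 3) := ⟨Nat.prime_three⟩
  have hprimes : ∀ q : ℕ, q.Prime → q ∣ Nat.card G → q = 2 ∨ q = 3 := by
    intro q hq hd
    haveI := Fact.mk hq
    obtain ⟨y, hy⟩ := exists_prime_orderOf_dvd_card' (G := G) q hd
    rcases hord y with h1 | h1 | h1 <;> rw [hy] at h1
    · exact absurd h1 hq.ne_one
    · exact Or.inl h1
    · exact Or.inr h1
  have hsolv : Group.IsSolvable G := by
    refine CfsgLib.Char.isSolvable_of_card_eq_pow_mul_pow Nat.prime_two Nat.prime_three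
      (a := Nat.card G) (b := Nat.card G) ?_
    refine (Nat.dvd_iff_prime_pow_dvd_dvd _ _).2 fun q k hq hqk => ?_
    rcases Nat.eq_zero_or_pos k with rfl | hk
    · simp
    have hkle : k ≤ Nat.card G :=
      (Nat.lt_pow_self hq.one_lt).le.trans (Nat.le_of_dvd Nat.card_pos hqk)
    rcases hprimes q hq ((dvd_pow_self q (by omega)).trans hqk) with rfl | rfl
    · exact dvd_mul_of_dvd_left (pow_dvd_pow 2 hkle) _
    · exact dvd_mul_of_dvd_right (pow_dvd_pow 3 hkle) _
  haveI := hsolv
  haveI : Nontrivial G := ⟨⟨x₂, 1, fun e => by rw [e, orderOf_one] at hx₂; exact absurd hx₂ (by norm_num)⟩⟩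
  obtain ⟨N, s, k, hNn, hs, hk, hNp, hNc, hN1, -, -⟩ :=
    CfsgLib.Solvable.exists_normal_prime_pow_card (G := G)
  haveI := hNn
  haveI := Fact.mk hs
  have hNs : ∀ y ∈ N, y ≠ 1 → orderOf y = s := by
    intro y hy hy1
    obtain ⟨i, -, hi⟩ := (Nat.dvd_prime_pow hs).1 (hNc ▸ Subgroup.orderOf_dvd_natCard N hy)
    have : s = 2 ∨ s = 3 := hprimes s hs ((dvd_pow_self s (by omega)).trans (hNc ▸ N.card_subgroup_dvd_card))
    rcases hord y with h1 | h1 | h1
    · exact absurd (orderOf_eq_one_iff.1 h1) hy1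
    all_goals
      rw [h1] at hi ⊢
      rcases this with rfl | rfl
      all_goals first
        | rfl
        | exact ((Nat.prime_dvd_prime_iff_eq (by norm_num) (by norm_num)).1
            ((Nat.Prime.dvd_of_dvd_pow (by norm_num) (dvd_of_eq hi))))
  -- a Sylow subgroup for the other prime acts without fixed points
  have hfpfP : ∀ t : ℕ, t.Prime → t ≠ s → ∀ P : Subgroup G, IsPGroup t P →
      ∀ a ∈ P, a ≠ 1 → N ⊓ Subgroup.centralizer {a} = ⊥ := by
    intro t ht hts P hP a ha ha1
    haveI := Fact.mk ht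
    refine (Subgroup.eq_bot_iff_forall _).2 fun y hy => by_contra fun hy1 => ?_
    obtain ⟨i, hi⟩ := IsPGroup.iff_orderOf.1 hP ⟨a, ha⟩
    rw [Subgroup.orderOf_mk] at hi
    have hy' := hNs y hy.1 hy1
    have hco : (orderOf y).Coprime (orderOf a) := by
      rw [hy', hi]; exact Nat.Coprime.pow_right i ((Nat.coprime_primes hs ht).2 hts.symm)
    have hc : Commute y a := Subgroup.mem_centralizer_singleton_iff.1 hy.2
    have h6 := hc.orderOf_mul_eq_mul_orderOf_of_coprime hco
    have h1 : 2 ≤ orderOf a := by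
      have := orderOf_pos a
      have : orderOf a ≠ 1 := fun e => ha1 (orderOf_eq_one_iff.1 e)
      omega
    have h2 : 2 ≤ s := hs.two_le
    have h3 : 2 * 2 ≤ orderOf y * orderOf a := Nat.mul_le_mul (hy' ▸ h2) h1
    rcases hord (y * a) with e | e | e <;> omega
  have hcyc : ∀ t : ℕ, t.Prime → t ≠ s → ∀ P : Subgroup G, IsPGroup t P →
      (∀ a ∈ P, a ≠ 1 → orderOf a = t) → Nat.card P ∣ t := by
    intro t ht hts P hP hexp
    haveI := Fact.mk ht
    have hNP : P ≤ Subgroup.normalizer (N : Set G) := by rw [Subgroup.normalizer_eq_top]; exact le_top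
    obtain hc | ⟨rfl, m, ⟨e⟩⟩ := CfsgLib.Solvable.isCyclic_or_quaternion hP
      fun x y hx hy => CfsgLib.Solvable.mem_zpowers_of_fpf_pGroup hN1 hNP (hfpfP t ht hts P hP) hP hx hy
    · obtain ⟨z, hz⟩ := IsCyclic.exists_ofOrder_eq_natCard (α := P)
      rw [← hz]
      by_cases hz1 : (z : G) = 1
      · rw [show z = 1 from Subtype.ext hz1, orderOf_one]; exact one_dvd _
      · rw [← Subgroup.orderOf_coe, hexp z z.2 hz1]
    · exfalso
      haveI : NeZero (2 ^ m) := ⟨by positivity⟩
      have h4 : orderOf (e.symm (QuaternionGroup.xa 0)) = 4 := by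
        rw [MulEquiv.orderOf_eq, QuaternionGroup.orderOf_xa]
      have := hexp _ (e.symm (QuaternionGroup.xa 0)).2 (fun hh => by
        rw [show e.symm (QuaternionGroup.xa 0) = 1 from Subtype.ext hh, orderOf_one] at h4
        omega)
      rw [Subgroup.orderOf_coe, h4] at this
      omega
  have hpow : ∀ (t : ℕ) [Fact t.Prime] (P : Sylow t G), t = 2 ∨ t = 3 →
      ∀ a ∈ (P : Subgroup G), a ≠ 1 → orderOf a = t := by
    intro t htf P ht a ha ha1
    obtain ⟨i, hi⟩ := IsPGroup.iff_orderOf.1 P.isPGroup' ⟨a, ha⟩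
    rw [Subgroup.orderOf_mk] at hi
    rcases hord a with e | e | e
    · exact absurd (orderOf_eq_one_iff.1 e) ha1
    all_goals
      rw [e] at hi ⊢
      exact (Nat.prime_dvd_prime_iff_eq (by norm_num) htf.out).1
        (Nat.Prime.dvd_of_dvd_pow (by norm_num) (dvd_of_eq hi))
  rcases hprimes s hs ((dvd_pow_self s (by omega)).trans (hNc ▸ N.card_subgroup_dvd_card)) with rfl | rfl
  · -- N is a 2-group: the Sylow 3-subgroup has order 3
    right
    obtain ⟨P⟩ : Nonempty (Sylow 2 G) := inferInstance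
    obtain ⟨R⟩ : Nonempty (Sylow 3 G) := inferInstance
    have hR3 : Nat.card (R : Subgroup G) = 3 := by
      rcases (Nat.dvd_prime Nat.prime_three).1 (hcyc 3 Nat.prime_three (by norm_num) R R.isPGroup'
        (hpow 3 R (Or.inr rfl))) with e | e
      · exact absurd (Subgroup.eq_bot_of_card_eq _ e) (R.ne_bot_of_dvd_card (hx₃ ▸ orderOf_dvd_natCard x₃))
      · exact e
    have hexp2 : ∀ (Q : Subgroup G), IsPGroup 2 Q → ∀ a ∈ Q, a * a = 1 := by
      intro Q hQ a ha
      obtain ⟨i, hi⟩ := IsPGroup.iff_orderOf.1 hQ ⟨a, ha⟩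
      rw [Subgroup.orderOf_mk] at hi
      rcases hord a with e | e | e
      · rw [orderOf_eq_one_iff.1 e, one_mul]
      · rw [← pow_two, ← e, pow_orderOf_eq_one]
      · rw [e] at hi
        exact absurd ((Nat.prime_dvd_prime_iff_eq (by norm_num) (by norm_num)).1
          (Nat.Prime.dvd_of_dvd_pow Nat.prime_three (dvd_of_eq hi))) (by norm_num)
    set C := Subgroup.centralizer (N : Set G) with hC
    have hC2 : ∀ a : G, orderOf a = 2 → a ∈ C := by
      intro a ha
      obtain ⟨Q, hQ⟩ := (IsPGroup.of_card (G := Subgroup.zpowers a) (n := 1)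
        (by rw [Nat.card_zpowers, ha, pow_one])).exists_le_sylow
      obtain ⟨Q', hQ'⟩ := hNp.exists_le_sylow
      obtain ⟨g, rfl⟩ := MulAction.exists_smul_eq G Q' Q
      refine Subgroup.mem_centralizer_iff.2 fun y hy => ?_
      have hyQ : y ∈ ((g • Q' : Sylow 2 G) : Subgroup G) :=
        ⟨g⁻¹ * y * g, hQ' (by simpa using hNn.conj_mem y hy g⁻¹), by simp [mul_assoc]⟩
      have haQ := hQ (Subgroup.mem_zpowers a)
      have e1 := hexp2 _ (g • Q').isPGroup' _ (mul_mem hyQ haQ)
      have e2 := hexp2 _ (g • Q').isPGroup' _ hyQ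
      have e3 := hexp2 _ (g • Q').isPGroup' _ haQ
      calc y * a = (y * a)⁻¹ := (inv_eq_of_mul_eq_one_right e1).symm
        _ = a⁻¹ * y⁻¹ := mul_inv_rev _ _
        _ = a * y := by rw [inv_eq_of_mul_eq_one_right e3, inv_eq_of_mul_eq_one_right e2]
    have hCord : ∀ a ∈ C, a ≠ 1 → orderOf a = 2 := by
      intro a ha ha1
      rcases hord a with e | e | e
      · exact absurd (orderOf_eq_one_iff.1 e) ha1
      · exact e
      · exfalso
        obtain ⟨y, hy, hy1⟩ : ∃ y ∈ N, y ≠ 1 := by
          obtain ⟨y, hy⟩ := Subgroup.ne_bot_iff_exists_ne_one.1 hN1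
          exact ⟨y, y.2, fun e => hy (Subtype.ext e)⟩
        refine hy1 (Subgroup.mem_bot.1 ((hfpfP 3 Nat.prime_three (by norm_num) (Subgroup.zpowers a)
          (IsPGroup.of_card (n := 1) (by rw [Nat.card_zpowers, e, pow_one])) a (Subgroup.mem_zpowers a) ha1).le
          ⟨hy, Subgroup.mem_centralizer_singleton_iff.2 (Subgroup.mem_centralizer_iff.1 ha y hy)⟩))
    haveI : C.Normal := Subgroup.normal_centralizer
    have hCp : IsPGroup 2 C := fun a => by
      refine ⟨1, ?_⟩
      rw [pow_one]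
      by_cases ha1 : (a : G) = 1
      · rw [Subtype.ext ha1 (a2 := (1 : C)), one_pow]
      · exact Subtype.ext (by rw [Subgroup.coe_pow, ← hCord a a.2 ha1, pow_orderOf_eq_one]; rfl)
    refine ⟨C, inferInstance, ⟨⟨⟨fun a b => Subtype.ext ?_⟩⟩, fun a ha => ?_⟩, ?_⟩
    · have e1 := hexp2 C hCp _ (mul_mem a.2 b.2)
      have e2 := hexp2 C hCp _ a.2
      have e3 := hexp2 C hCp _ b.2
      calc (a : G) * b = ((a : G) * b)⁻¹ := (inv_eq_of_mul_eq_one_right e1).symm
        _ = (b : G)⁻¹ * (a : G)⁻¹ := mul_inv_rev _ _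
        _ = b * a := by rw [inv_eq_of_mul_eq_one_right e2, inv_eq_of_mul_eq_one_right e3]
    · rw [pow_two]; exact hexp2 C hCp a ha
    · have hPC : (P : Subgroup G) = C := by
        refine (P.is_maximal' hCp fun a ha => ?_).symm
        by_cases ha1 : a = 1
        · rw [ha1]; exact one_mem _
        · exact hC2 a (hpow 2 P (Or.inl rfl) a ha ha1)
      rw [← hPC, ← hR3]
      refine Nat.dvd_antisymm ?_ ?_
      · refine (Nat.dvd_iff_prime_pow_dvd_dvd _ _).2 fun q i hq hqi => ?_
        rcases Nat.eq_zero_or_pos i with rfl | hi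
        · simp
        rcases hprimes q hq (((dvd_pow_self q (by omega)).trans hqi).trans (P : Subgroup G).index_dvd_card) with rfl | rfl
        · exact absurd ((dvd_pow_self 2 (by omega)).trans hqi) P.not_dvd_index
        · rw [Sylow.card_eq_multiplicity]
          exact pow_dvd_pow 3 ((Nat.prime_three.pow_dvd_iff_le_factorization Nat.card_pos.ne').1
            (hqi.trans (P : Subgroup G).index_dvd_card))
      · have h1 := (R : Subgroup G).card_subgroup_dvd_card
        rw [← (P : Subgroup G).index_mul_card, hR3] at h1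
        rw [hR3]
        refine Nat.Coprime.dvd_of_dvd_mul_right ?_ h1
        obtain ⟨i, hi⟩ := P.isPGroup'.exists_card_eq
        rw [hi]
        exact Nat.Coprime.pow_right _ (by norm_num)
  · -- N is a 3-group: the Sylow 2-subgroup has order 2
    left
    obtain ⟨P⟩ : Nonempty (Sylow 2 G) := inferInstance
    obtain ⟨R⟩ : Nonempty (Sylow 3 G) := inferInstance
    have hP2 : Nat.card (P : Subgroup G) = 2 := by
      rcases (Nat.dvd_prime Nat.prime_two).1 (hcyc 2 Nat.prime_two (by norm_num) P P.isPGroup'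
        (hpow 2 P (Or.inl rfl))) with e | e
      · exact absurd (Subgroup.eq_bot_of_card_eq _ e) (P.ne_bot_of_dvd_card (hx₂ ▸ orderOf_dvd_natCard x₂))
      · exact e
    have hidx : (R : Subgroup G).index = 2 := by
      rw [← hP2]
      refine Nat.dvd_antisymm ?_ ?_
      · refine (Nat.dvd_iff_prime_pow_dvd_dvd _ _).2 fun q i hq hqi => ?_
        rcases Nat.eq_zero_or_pos i with rfl | hi
        · simp
        rcases hprimes q hq (((dvd_pow_self q (by omega)).trans hqi).trans (R : Subgroup G).index_dvd_card) with rfl | rfl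
        · rw [Sylow.card_eq_multiplicity]
          exact pow_dvd_pow 2 ((Nat.prime_two.pow_dvd_iff_le_factorization Nat.card_pos.ne').1
            (hqi.trans (R : Subgroup G).index_dvd_card))
        · exact absurd ((dvd_pow_self 3 (by omega)).trans hqi) R.not_dvd_index
      · have h1 := (P : Subgroup G).card_subgroup_dvd_card
        rw [← (R : Subgroup G).index_mul_card, hP2] at h1
        rw [hP2]
        refine Nat.Coprime.dvd_of_dvd_mul_right ?_ h1
        obtain ⟨i, hi⟩ := R.isPGroup'.exists_card_eq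
        rw [hi]
        exact Nat.Coprime.pow_right _ (by norm_num)
    haveI : (R : Subgroup G).Normal := Subgroup.normal_of_index_eq_two hidx
    have hfp : ∀ a ∈ Subgroup.zpowers x₂, a ≠ 1 → (R : Subgroup G) ⊓ Subgroup.centralizer {a} = ⊥ := by
      intro a ha ha1
      have ha2 : orderOf a = 2 := by
        rcases (Nat.dvd_prime Nat.prime_two).1 (hx₂ ▸ orderOf_dvd_of_mem_zpowers ha) with e | e
        · exact absurd (orderOf_eq_one_iff.1 e) ha1
        · exact e
      refine (Subgroup.eq_bot_iff_forall _).2 fun y hy => by_contra fun hy1 => ?_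
      have hy3 := hpow 3 R (Or.inr rfl) y hy.1 hy1
      have hc : Commute y a := Subgroup.mem_centralizer_singleton_iff.1 hy.2
      have h6 := hc.orderOf_mul_eq_mul_orderOf_of_coprime (by rw [hy3, ha2]; norm_num)
      rw [hy3, ha2] at h6
      rcases hord (y * a) with e | e | e <;> omega
    have hinv := CfsgLib.Solvable.conj_eq_inv_of_fpf (H := Subgroup.zpowers x₂) (K := (R : Subgroup G))
      (by rw [Subgroup.normalizer_eq_top]; exact le_top) hfp (Subgroup.mem_zpowers x₂) hx₂
    refine ⟨R, inferInstance, ⟨⟨⟨fun a b => Subtype.ext ?_⟩⟩, fun a ha => ?_⟩, hidx⟩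
    · have e := hinv _ (mul_mem a.2 b.2)
      have e' : x₂ * ((a : G) * b) * x₂⁻¹ = (x₂ * a * x₂⁻¹) * (x₂ * b * x₂⁻¹) := by group
      rw [e', hinv _ a.2, hinv _ b.2, mul_inv_rev] at e
      have := congrArg (·⁻¹) e
      simpa using this.symm
    · by_cases ha1 : a = 1
      · rw [ha1, one_pow]
      · rw [← hpow 3 R (Or.inr rfl) a ha ha1, pow_orderOf_eq_one]

end Cfsg.Agent.S4005
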