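import Cfsg.Statements.S4009
import Cfsg.Agent.Lib.PGroup.Commutators

set_option autoImplicit false
open Cfsg

namespace Cfsg.Agent.S4009

open Subgroup CfsgLib.PGroup
open scoped commutatorElement

variable {P : Type*} [Group P] [Finite P] {p : ℕ} [Fact p.Prime]

/-- `Hi = [H, P, …, P]`. -/
abbrev M (H : Subgroup P) (t : ℕ) : Subgroup P := bracketTop^[t] H

theorem M_normal (H : Subgroup P) [H.Normal] (t : ℕ) : (M H t).Normal := bracketTop_iterate_normal H t

theorem M_succ (H : Subgroup P) (t : ℕ) : M H (t + 1) = bracketTop (M H t) := Function.iterate_succ_apply' _ _ _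

theorem M_succ_le (H : Subgroup P) [H.Normal] (t : ℕ) : M H (t + 1) ≤ M H t := by
  rw [M_succ]
  have := M_normal H t
  exact commutator_le_left _ _

theorem M_anti (H : Subgroup P) [H.Normal] {t u : ℕ} (h : t ≤ u) : M H u ≤ M H t :=
  antitone_nat_of_succ_le (f := M H) (M_succ_le H) h

theorem M_le_lcs {H : Subgroup P} {s : ℕ} (hH : H ≤ (⊤ : Subgroup P).lowerCentralSeries s) (t : ℕ) :
    M H t ≤ (⊤ : Subgroup P).lowerCentralSeries (s + t) := by
  induction t with
  | zero => exact hH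
  | succ t ih => rw [M_succ]; exact commutator_mono ih le_rfl

theorem commutator_le_M {H : Subgroup P} [H.Normal] {s : ℕ} (hH : H ≤ (⊤ : Subgroup P).lowerCentralSeries s) (t : ℕ) :
    ⁅M H t, H⁆ ≤ M H (t + s + 1) := by
  have := M_normal H t
  refine (commutator_mono le_rfl hH).trans ((commutator_lowerCentralSeries_le s (M H t)).trans (le_of_eq ?_))
  show bracketTop^[s + 1] (bracketTop^[t] H) = bracketTop^[t + s + 1] H
  rw [← Function.iterate_add_apply, show s + 1 + t = t + s + 1 by omega]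

/-- A group generated by `x`, `y` and a subgroup `Z` that is central modulo `K`. -/
theorem commutator_le_two_gen {H Z K : Subgroup P} [K.Normal] {x y : P} (hx : x ∈ H) (hy : y ∈ H) (hZH : Z ≤ H)
    (hgen : H ≤ closure {x, y} ⊔ Z) (hZ : ⁅Z, H⁆ ≤ K) (hHH : ⁅H, H⁆ ≤ Z) :
    ⁅H, H⁆ ≤ zpowers ⁅x, y⁆ ⊔ K := by
  set π := QuotientGroup.mk' K
  set C := zpowers (π ⁅x, y⁆)
  have hcen : ∀ z ∈ Z, ∀ h ∈ H, Commute (π z) (π h) := fun z hz h hh => by
    have h1 : π ⁅z, h⁆ = 1 := (QuotientGroup.eq_one_iff _).2 (hZ (commutator_mem_commutator hz hh))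
    rw [map_commutatorElement] at h1
    exact commutatorElement_eq_one_iff_mul_comm.1 h1
  -- the set of elements of `H` whose commutators with `x` and `y` lie in `C`
  have hc : ∀ h ∈ H, Commute (π ⁅x, y⁆) (π h) := fun h hh => hcen _ (hHH (commutator_mem_commutator hx hy)) h hh
  have hall : ∀ u ∈ closure ({x, y} ∪ (Z : Set P)), u ∈ H := fun u hu => (closure_le H).2 (by
    rintro v (hv | hv)
    · rcases hv with rfl | rfl
      exacts [hx, hy]
    · exact hZH hv) hu
  have hmem : ∀ a ∈ H, ∀ b ∈ H, π ⁅a, b⁆ ∈ C := by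
    have key : ∀ b ∈ H, (b = x ∨ b = y ∨ b ∈ Z) → ∀ a ∈ H, π ⁅a, b⁆ ∈ C := by
      intro b hb hb' a ha
      have h1 : a ∈ closure {x, y} ⊔ Z := hgen ha
      have h2 : closure ({x, y} : Set P) ⊔ Z = closure ({x, y} ∪ (Z : Set P)) := by
        rw [Subgroup.closure_union, closure_eq]
      rw [h2] at h1
      suffices h3 : π a * π b * (π a)⁻¹ * (π b)⁻¹ ∈ C by
        rw [map_commutatorElement, commutatorElement_def]; exact h3
      revert ha
      refine closure_induction (p := fun a _ => a ∈ H → π a * π b * (π a)⁻¹ * (π b)⁻¹ ∈ C) ?_ ?_ ?_ ?_ h1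
      · intro u hu huH
        rcases hu with hu | hu
        · rcases hb' with rfl | rfl | hbZ
          · rcases hu with rfl | rfl
            · simp [one_mem]
            · have h4 : π u * π b * (π u)⁻¹ * (π b)⁻¹ = (π ⁅b, u⁆)⁻¹ := by
                rw [map_commutatorElement, commutatorElement_def]; group
              rw [h4]
              exact inv_mem (mem_zpowers _)
          · rcases hu with rfl | rfl
            · rw [← map_inv, ← map_inv, ← map_mul, ← map_mul, ← map_mul, ← commutatorElement_def]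
              exact mem_zpowers _
            · simp [one_mem]
          · rw [(hcen b hbZ u huH).symm.eq]
            simp [one_mem]
        · rw [(hcen u hu b hb).eq]
          simp [one_mem]
      · intro _
        simp [one_mem]
      · intro u v hu hv h3 h4 huv
        by_cases huH : u ∈ H
        · have hvH : v ∈ H := by simpa using mul_mem (inv_mem huH) huv
          have h5 : π u * π v * π b * (π (u * v))⁻¹ * (π b)⁻¹ =
              (π u * (π v * π b * (π v)⁻¹ * (π b)⁻¹) * (π u)⁻¹) * (π u * π b * (π u)⁻¹ * (π b)⁻¹) := by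
            rw [map_mul]; group
          rw [map_mul π u v] at *
          rw [h5]
          obtain ⟨i, hi⟩ := h4 hvH
          refine mul_mem ?_ (h3 huH)
          rw [← hi]
          show π u * π ⁅x, y⁆ ^ i * (π u)⁻¹ ∈ C
          rw [((hc u huH).zpow_left i).symm.eq, mul_inv_cancel_right]
          exact zpow_mem (mem_zpowers _) i
        · exact absurd (hall u hu) huH
      · intro u hu h3 huH
        have huH' : u ∈ H := by simpa using inv_mem huH
        obtain ⟨i, hi⟩ := h3 huH'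
        refine ⟨-i, ?_⟩
        show π ⁅x, y⁆ ^ (-i) = π u⁻¹ * π b * (π u⁻¹)⁻¹ * (π b)⁻¹
        have h4 : π u⁻¹ * π b * (π u⁻¹)⁻¹ * (π b)⁻¹ = (π u)⁻¹ * (π u * π b * (π u)⁻¹ * (π b)⁻¹)⁻¹ * π u := by
          rw [map_inv]; group
        rw [h4, ← hi, zpow_neg, mul_assoc]
        have h5 : Commute ((π ⁅x, y⁆ ^ i)⁻¹) (π u) := ((hc u huH').zpow_left i).inv_left
        rw [h5.eq, inv_mul_cancel_left]
    intro a ha b hb
    have h1 : b ∈ closure ({x, y} ∪ (Z : Set P)) := by
      rw [Subgroup.closure_union, closure_eq]; exact hgen hb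
    revert hb
    refine closure_induction (p := fun b _ => b ∈ H → π ⁅a, b⁆ ∈ C) ?_ ?_ ?_ ?_ h1
    · intro u hu huH
      refine key u huH ?_ a ha
      rcases hu with hu | hu
      · rcases hu with rfl | rfl
        exacts [Or.inl rfl, Or.inr (Or.inl rfl)]
      · exact Or.inr (Or.inr hu)
    · intro _
      simp [one_mem]
    · intro u v hu hv h3 h4 huv
      have huH : u ∈ H := hall u hu
      have hvH : v ∈ H := hall v hv
      have h5 : π ⁅a, u * v⁆ = π ⁅a, u⁆ * (π u * π ⁅a, v⁆ * (π u)⁻¹) := by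
        simp only [map_commutatorElement, map_mul]; simp only [commutatorElement_def]; group
      rw [h5]
      refine mul_mem (h3 huH) ?_
      obtain ⟨i, hi⟩ := h4 hvH
      rw [← hi]
      show π u * π ⁅x, y⁆ ^ i * (π u)⁻¹ ∈ C
      rw [((hc u huH).zpow_left i).symm.eq, mul_inv_cancel_right]
      exact zpow_mem (mem_zpowers _) i
    · intro u hu h3 _
      have huH : u ∈ H := hall u hu
      obtain ⟨i, hi⟩ := h3 huH
      refine ⟨-i, ?_⟩
      show π ⁅x, y⁆ ^ (-i) = π ⁅a, u⁻¹⁆
      have h5 : π ⁅a, u⁻¹⁆ = (π u)⁻¹ * (π ⁅a, u⁆)⁻¹ * π u := by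
        simp only [map_commutatorElement, map_inv]; simp only [commutatorElement_def]; group
      have h6 : Commute ((π ⁅x, y⁆ ^ i)⁻¹) (π u) := ((hc u huH).zpow_left i).inv_left
      rw [h5, ← hi, zpow_neg, mul_assoc, h6.eq, inv_mul_cancel_left]
  rw [commutator_le]
  intro a ha b hb
  have h1 := hmem a ha b hb
  obtain ⟨i, hi⟩ := h1
  have h2 : (⁅x, y⁆ ^ i)⁻¹ * ⁅a, b⁆ ∈ K := QuotientGroup.eq.1 (by
    show π (⁅x, y⁆ ^ i) = π ⁅a, b⁆
    rw [map_zpow]; exact hi)
  have h3 := mul_mem (mem_sup_left (T := K) (zpow_mem (mem_zpowers ⁅x, y⁆) i)) (mem_sup_right h2)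
  rwa [mul_inv_cancel_left] at h3

theorem card_step (hP : IsPGroup p P) {A B : Subgroup P} (h : A < B) : Nat.card A * p ≤ Nat.card B := by
  have hp : p.Prime := Fact.out
  obtain ⟨a, ha⟩ := IsPGroup.iff_card.1 (hP.to_subgroup A)
  obtain ⟨b, hb⟩ := IsPGroup.iff_card.1 (hP.to_subgroup B)
  have h1 : Nat.card A < Nat.card B := by
    by_contra h2
    exact h.ne (eq_of_le_of_card_ge h.le (not_lt.1 h2))
  rw [ha, hb] at h1 ⊢
  have := (Nat.pow_lt_pow_iff_right hp.one_lt).1 h1
  rw [← pow_succ]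
  exact Nat.pow_le_pow_right hp.pos this

/-- `H` is generated by one element modulo `[H, P]`. -/
def CycTop (H : Subgroup P) : Prop := ∃ x ∈ H, H ≤ zpowers x ⊔ bracketTop H

theorem commutator_le_of_cycTop {H : Subgroup P} [H.Normal] {s : ℕ} (hH : H ≤ (⊤ : Subgroup P).lowerCentralSeries s)
    (hc : CycTop H) : ⁅H, H⁆ ≤ M H (s + 2) := by
  obtain ⟨x, hx, hgen⟩ := hc
  have := M_normal H (s + 2)
  have h1 : H ≤ closure {x, x} ⊔ bracketTop H := by rwa [Set.pair_eq_singleton, ← zpowers_eq_closure]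
  have := commutator_le_two_gen (K := M H (s + 2)) hx hx (commutator_le_left H ⊤) h1 (by
    rw [show s + 2 = 1 + s + 1 by omega]; exact commutator_le_M hH 1) (by
    exact commutator_mono le_rfl le_top)
  simpa using this

set_option maxHeartbeats 1000000 in
/-- The two basic facts about `H / H'`. -/
theorem derived_step (hP : IsPGroup p P) {H : Subgroup P} [H.Normal] {s : ℕ}
    (hH : H ≤ (⊤ : Subgroup P).lowerCentralSeries s) (hne : ⁅H, H⁆ ≠ ⊥) :
    p ^ (s + 3) * Nat.card (⁅H, H⁆ : Subgroup P) ≤ Nat.card H ∨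
      (p ^ (s + 2) * Nat.card (⁅H, H⁆ : Subgroup P) ≤ Nat.card H ∧ CycTop ⁅H, H⁆) := by
  have hp : p.Prime := Fact.out
  have : Group.IsNilpotent P := hP.isNilpotent
  set D := ⁅H, H⁆ with hD
  have hDn : D.Normal := commutator_normal H H
  have hDM : D ≤ M H (s + 1) := by
    have := commutator_le_M hH 0
    rwa [Nat.zero_add] at this
  -- the chain from `H` down to `[H, P, …, P]`
  have hstrict : ∀ t, t ≤ s → M H (t + 1) < M H t := by
    intro t ht
    refine lt_of_le_of_ne (M_succ_le H t) fun e => hne ?_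
    rw [M_succ] at e
    have h0 := eq_bot_of_le_bracketTop e.ge
    exact le_bot_iff.1 (h0 ▸ hDM.trans (M_anti H (by omega)))
  have hchain : ∀ j t, t + j ≤ s + 1 → p ^ j * Nat.card (M H (t + j)) ≤ Nat.card (M H t) := by
    intro j
    induction j with
    | zero => intro t _; simp
    | succ j ih =>
      intro t ht
      calc p ^ (j + 1) * Nat.card (M H (t + (j + 1))) = p ^ j * (Nat.card (M H (t + j + 1)) * p) := by
            rw [pow_succ, show t + (j + 1) = t + j + 1 by omega]; ring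
        _ ≤ p ^ j * Nat.card (M H (t + j)) := Nat.mul_le_mul_left _ (card_step hP (hstrict _ (by omega)))
        _ ≤ _ := ih t (by omega)
  -- a layer of order `p` is cyclic
  have hcyc : ∀ (B A : Subgroup P), A < B → Nat.card B < Nat.card A * p ^ 2 → ∀ x ∈ B, x ∉ A → B ≤ zpowers x ⊔ A := by
    intro B A hAB hcard x hx hxA
    have hlt : A < zpowers x ⊔ A := lt_of_le_of_ne le_sup_right fun e => hxA (e.symm ▸ mem_sup_left (mem_zpowers x))
    by_contra hB
    have hlt2 : zpowers x ⊔ A < B := lt_of_le_of_ne (sup_le (zpowers_le.2 hx) hAB.le) fun e => hB e.ge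
    have h1 := card_step hP hlt
    have h2 := card_step hP hlt2
    have h3 := Nat.mul_le_mul_right p h1
    rw [pow_two] at hcard
    linarith
  obtain ⟨u, hu⟩ := IsPGroup.iff_card.1 (hP.to_subgroup H)
  by_cases hbig : p ^ (s + 3) * Nat.card D ≤ Nat.card H
  · exact Or.inl hbig
  have hbig' := not_le.1 hbig
  obtain ⟨x, hx, hxA⟩ := SetLike.exists_of_lt (hstrict 0 (Nat.zero_le _))
  simp only [M, Function.iterate_zero, id_eq] at hx
  by_cases htop : CycTop H
  · -- one generator on top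
    have hDM2 : D ≤ M H (s + 2) := commutator_le_of_cycTop hH htop
    have hlt : M H (s + 2) < M H (s + 1) := by
      refine lt_of_le_of_ne (M_succ_le H (s + 1)) fun e => hne ?_
      rw [M_succ] at e
      exact le_bot_iff.1 ((eq_bot_of_le_bracketTop e.ge) ▸ hDM)
    have h1 : p ^ (s + 2) * Nat.card D ≤ Nat.card H := by
      calc p ^ (s + 2) * Nat.card D ≤ p ^ (s + 1) * (Nat.card (M H (s + 2)) * p) := by
            rw [pow_succ, mul_assoc, mul_comm (Nat.card (M H (s + 2))) p]
            exact Nat.mul_le_mul_left _ (Nat.mul_le_mul_left _ (Nat.le_of_dvd Nat.card_pos (card_dvd_of_le hDM2)))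
        _ ≤ p ^ (s + 1) * Nat.card (M H (0 + (s + 1))) := by
            rw [zero_add]; exact Nat.mul_le_mul_left _ (card_step hP hlt)
        _ ≤ _ := hchain (s + 1) 0 (by omega)
    refine Or.inr ⟨h1, ?_⟩
    have hDeq : D = M H (s + 2) := by
      by_contra hne'
      have h2 := card_step hP (lt_of_le_of_ne hDM2 hne')
      refine hbig ?_
      calc p ^ (s + 3) * Nat.card D = p ^ (s + 1) * (Nat.card D * p * p) := by ring
        _ ≤ p ^ (s + 1) * (Nat.card (M H (s + 2)) * p) :=
          Nat.mul_le_mul_left _ (Nat.mul_le_mul_right _ h2)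
        _ ≤ p ^ (s + 1) * Nat.card (M H (0 + (s + 1))) := by
            rw [zero_add]; exact Nat.mul_le_mul_left _ (card_step hP hlt)
        _ ≤ _ := hchain (s + 1) 0 (by omega)
    have htop' : Nat.card H < Nat.card (M H 1) * p ^ 2 := by
      by_contra h2
      refine hbig ?_
      calc p ^ (s + 3) * Nat.card D ≤ p ^ (s + 2) * (Nat.card (M H (s + 2)) * p) := by
            rw [show p ^ (s + 3) = p ^ (s + 2) * p by ring, mul_assoc, mul_comm p]
            exact Nat.mul_le_mul_left _ (Nat.mul_le_mul_right _ (Nat.le_of_dvd Nat.card_pos (card_dvd_of_le hDM2)))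
        _ ≤ p ^ (s + 2) * Nat.card (M H (1 + s)) := by
            rw [add_comm 1 s]; exact Nat.mul_le_mul_left _ (card_step hP hlt)
        _ = p ^ 2 * (p ^ s * Nat.card (M H (1 + s))) := by ring
        _ ≤ p ^ 2 * Nat.card (M H 1) := Nat.mul_le_mul_left _ (hchain s 1 (by omega))
        _ ≤ _ := by rw [mul_comm]; exact not_lt.1 h2
    have hgen : H ≤ zpowers x ⊔ M H 1 := hcyc H (M H 1) (hstrict 0 (Nat.zero_le _)) htop' x hx hxA
    have h12 : Nat.card (M H 1) < Nat.card (M H 2) * p ^ 2 := by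
      by_contra h2
      have h3 := not_lt.1 h2
      have h4 := card_step hP (hstrict 0 (Nat.zero_le _))
      refine hbig ?_
      rcases Nat.eq_zero_or_pos s with rfl | hs
      · calc p ^ (0 + 3) * Nat.card D ≤ p ^ 3 * Nat.card (M H 2) :=
              Nat.mul_le_mul_left _ (Nat.le_of_dvd Nat.card_pos (card_dvd_of_le hDM2))
          _ = (Nat.card (M H 2) * p ^ 2) * p := by ring
          _ ≤ Nat.card (M H 1) * p := Nat.mul_le_mul_right _ h3
          _ ≤ _ := h4
      · calc p ^ (s + 3) * Nat.card D ≤ p ^ (s + 3) * Nat.card (M H (s + 2)) :=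
              Nat.mul_le_mul_left _ (Nat.le_of_dvd Nat.card_pos (card_dvd_of_le hDM2))
          _ = p ^ (s + 2) * (Nat.card (M H (s + 1 + 1)) * p) := by ring
          _ ≤ p ^ (s + 2) * Nat.card (M H (2 + (s - 1))) := by
              rw [show 2 + (s - 1) = s + 1 by omega]; exact Nat.mul_le_mul_left _ (card_step hP hlt)
          _ = p ^ 3 * (p ^ (s - 1) * Nat.card (M H (2 + (s - 1)))) := by
              rw [← mul_assoc, ← pow_add]; congr 2; omega
          _ ≤ p ^ 3 * Nat.card (M H 2) := Nat.mul_le_mul_left _ (hchain (s - 1) 2 (by omega))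
          _ = (Nat.card (M H 2) * p ^ 2) * p := by ring
          _ ≤ Nat.card (M H 1) * p := Nat.mul_le_mul_right _ h3
          _ ≤ _ := h4
    have hlt1 : M H 2 < M H 1 := by
      rcases Nat.eq_zero_or_pos s with rfl | hs
      · exact hlt
      · exact hstrict 1 hs
    obtain ⟨y, hy, hyA⟩ := SetLike.exists_of_lt hlt1
    have hgen1 : M H 1 ≤ zpowers y ⊔ M H 2 := hcyc _ _ hlt1 h12 y hy hyA
    have := M_normal H (s + 3)
    have hz := commutator_le_two_gen (K := M H (s + 3)) (H := H) (Z := M H 2) (x := x) (y := y) hx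
      (M_anti H (Nat.zero_le 1) hy) (M_anti H (Nat.zero_le 2)) (by
        refine hgen.trans (sup_le ?_ (hgen1.trans (sup_le ?_ le_sup_right)))
        · exact (zpowers_le.2 (Subgroup.subset_closure (Set.mem_insert x {y}))).trans le_sup_left
        · exact (zpowers_le.2 (Subgroup.subset_closure (Set.mem_insert_of_mem x (Set.mem_singleton y)))).trans le_sup_left)
      (by rw [show s + 3 = 2 + s + 1 by omega]; exact commutator_le_M hH 2) (hDM2.trans (M_anti H (by omega)))
    refine ⟨⁅x, y⁆, commutator_mem_commutator hx (M_anti H (Nat.zero_le 1) hy), hz.trans ?_⟩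
    rw [show bracketTop D = M H (s + 3) by rw [hDeq, ← M_succ]]
  · -- two generators on top
    obtain ⟨y, hy, hyA⟩ : ∃ y ∈ H, y ∉ zpowers x ⊔ M H 1 := by
      by_contra hno
      push Not at hno
      exact htop ⟨x, hx, hno⟩
    have l1 : M H 1 < zpowers x ⊔ M H 1 :=
      lt_of_le_of_ne le_sup_right fun e => hxA (e.symm ▸ mem_sup_left (mem_zpowers x))
    have hxH : zpowers x ⊔ M H 1 < H :=
      lt_of_le_of_ne (sup_le (zpowers_le.2 hx) (M_anti H (Nat.zero_le 1))) fun e => hyA (e.ge hy)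
    have h2 : Nat.card (M H 1) * p ^ 2 ≤ Nat.card H := by
      rw [pow_two, ← mul_assoc]
      exact (Nat.mul_le_mul_right _ (card_step hP l1)).trans (card_step hP hxH)
    have h1 : p ^ (s + 2) * Nat.card (M H (s + 1)) ≤ Nat.card H := by
      calc p ^ (s + 2) * Nat.card (M H (s + 1)) = p ^ 2 * (p ^ s * Nat.card (M H (1 + s))) := by
            rw [add_comm 1 s]; ring
        _ ≤ p ^ 2 * Nat.card (M H 1) := Nat.mul_le_mul_left _ (hchain s 1 (by omega))
        _ ≤ _ := by rw [mul_comm]; exact h2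
    have hDeq : D = M H (s + 1) := by
      by_contra hne'
      refine hbig ((le_trans ?_ h1))
      calc p ^ (s + 3) * Nat.card D = p ^ (s + 2) * (Nat.card D * p) := by ring
        _ ≤ _ := Nat.mul_le_mul_left _ (card_step hP (lt_of_le_of_ne hDM hne'))
    refine Or.inr ⟨hDeq ▸ h1, ?_⟩
    have hgen : H ≤ closure {x, y} ⊔ M H 1 := by
      intro h hh
      by_contra hno
      have hxle : zpowers x ⊔ M H 1 ≤ closure {x, y} ⊔ M H 1 :=
        sup_le ((zpowers_le.2 (Subgroup.subset_closure (Set.mem_insert x {y}))).trans le_sup_left) le_sup_right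
      have l2 : zpowers x ⊔ M H 1 < closure {x, y} ⊔ M H 1 := lt_of_le_of_ne hxle
        fun e => hyA (e.symm ▸ mem_sup_left (Subgroup.subset_closure (Or.inr rfl)))
      have l3 : closure {x, y} ⊔ M H 1 < H := lt_of_le_of_ne (sup_le ((closure_le _).2 (by
          rintro u (rfl | rfl)
          exacts [hx, hy])) (M_anti H (Nat.zero_le 1))) fun e => hno (e.ge hh)
      refine hbig ?_
      have c1 := card_step hP l1
      have c2 := card_step hP l2
      have c3 := card_step hP l3
      calc p ^ (s + 3) * Nat.card D ≤ p ^ 3 * (p ^ s * Nat.card (M H (1 + s))) := by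
            rw [← mul_assoc, ← pow_add, add_comm 3 s, hDeq, add_comm 1 s]
        _ ≤ p ^ 3 * Nat.card (M H 1) := Nat.mul_le_mul_left _ (hchain s 1 (by omega))
        _ = Nat.card (M H 1) * p * p * p := by ring
        _ ≤ Nat.card (zpowers x ⊔ M H 1 : Subgroup P) * p * p := Nat.mul_le_mul_right _ (Nat.mul_le_mul_right _ c1)
        _ ≤ Nat.card (closure {x, y} ⊔ M H 1 : Subgroup P) * p := Nat.mul_le_mul_right _ c2
        _ ≤ _ := c3
    have := M_normal H (s + 2)
    have hz := commutator_le_two_gen (K := M H (s + 2)) (Z := M H 1) hx hy (M_anti H (Nat.zero_le 1)) hgen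
      (by rw [show s + 2 = 1 + s + 1 by omega]; exact commutator_le_M hH 1) (hDM.trans (M_anti H (by omega)))
    refine ⟨⁅x, y⁆, commutator_mem_commutator hx hy, hz.trans ?_⟩
    rw [show bracketTop D = M H (s + 2) by rw [hDeq, ← M_succ]]


theorem card_bound (hP : IsPGroup p P) : ∀ i, derivedSeries P i ≠ ⊥ →
    ∃ d A : ℕ, 2 ^ i + 2 * i ≤ A + d + 1 ∧ p ^ A * Nat.card (derivedSeries P i) ≤ Nat.card P ∧
      derivedSeries P i ≤ (⊤ : Subgroup P).lowerCentralSeries (2 ^ i - 1) ∧
      (d = 0 ∨ (d = 1 ∧ CycTop (derivedSeries P i)) ∨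
        (d ≤ 2 ∧ derivedSeries P i ≤ (⊤ : Subgroup P).lowerCentralSeries (2 ^ i))) := by
  intro i
  induction i with
  | zero =>
    intro _
    exact ⟨0, 0, by simp, by simp, le_top, Or.inl rfl⟩
  | succ i ih =>
    intro hne
    have hne0 : derivedSeries P i ≠ ⊥ := fun e => hne (by rw [derivedSeries_succ, e, commutator_bot_left])
    obtain ⟨d, A, hA, hcard, hlcs, hd⟩ := ih hne0
    set H := derivedSeries P i with hHdef
    rw [derivedSeries_succ, ← hHdef] at hne
    rw [derivedSeries_succ, ← hHdef]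
    have h2 : 2 ^ (i + 1) = 2 ^ i + 2 ^ i := by rw [pow_succ]; ring
    have hpos : 1 ≤ 2 ^ i := Nat.one_le_two_pow
    have hcomm : ∀ {s : ℕ}, H ≤ (⊤ : Subgroup P).lowerCentralSeries s →
        ⁅H, H⁆ ≤ (⊤ : Subgroup P).lowerCentralSeries (s + s + 1) := fun {s} hs => by
      refine (commutator_le_M hs 0).trans ((M_le_lcs hs _).trans_eq ?_)
      rw [Nat.zero_add, add_assoc]
    have hl : ⁅H, H⁆ ≤ (⊤ : Subgroup P).lowerCentralSeries (2 ^ (i + 1) - 1) := by
      refine (hcomm hlcs).trans (Subgroup.lowerCentralSeries_antitone _ ?_)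
      omega
    have hc2 : ∀ a : ℕ, p ^ a * Nat.card (⁅H, H⁆ : Subgroup P) ≤ Nat.card H →
        p ^ (A + a) * Nat.card (⁅H, H⁆ : Subgroup P) ≤ Nat.card P := fun a ha => by
      rw [pow_add, mul_assoc]
      exact (Nat.mul_le_mul_left _ ha).trans hcard
    rcases hd with rfl | ⟨rfl, hc⟩ | ⟨hd2, hdeep⟩
    · rcases derived_step hP hlcs hne with h | ⟨h, hc'⟩
      · exact ⟨0, A + (2 ^ i - 1 + 3), by omega, hc2 _ h, hl, Or.inl rfl⟩
      · exact ⟨1, A + (2 ^ i - 1 + 2), by omega, hc2 _ h, hl, Or.inr (Or.inl ⟨rfl, hc'⟩)⟩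
    · have hl2 : ⁅H, H⁆ ≤ (⊤ : Subgroup P).lowerCentralSeries (2 ^ (i + 1)) := by
        refine (commutator_le_of_cycTop hlcs hc).trans ((M_le_lcs hlcs _).trans (Subgroup.lowerCentralSeries_antitone _ ?_))
        omega
      rcases derived_step hP hlcs hne with h | ⟨h, -⟩
      · exact ⟨1, A + (2 ^ i - 1 + 3), by omega, hc2 _ h, hl, Or.inr (Or.inr ⟨by omega, hl2⟩)⟩
      · exact ⟨2, A + (2 ^ i - 1 + 2), by omega, hc2 _ h, hl, Or.inr (Or.inr ⟨le_rfl, hl2⟩)⟩
    · have hl2 : ⁅H, H⁆ ≤ (⊤ : Subgroup P).lowerCentralSeries (2 ^ (i + 1)) :=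
        (hcomm hdeep).trans (Subgroup.lowerCentralSeries_antitone _ (by omega))
      have h : p ^ (2 ^ i + 2) * Nat.card (⁅H, H⁆ : Subgroup P) ≤ Nat.card H := by
        rcases derived_step hP hdeep hne with h | ⟨h, -⟩
        · exact le_trans (Nat.mul_le_mul_right _ (Nat.pow_le_pow_right (Fact.out : p.Prime).pos (by omega))) h
        · exact h
      exact ⟨d, A + (2 ^ i + 2), by omega, hc2 _ h, hl, Or.inr (Or.inr ⟨hd2, hl2⟩)⟩

/-- Let P be a finite p-group of order p^n whose derived length is exactly k + 1 (the k-th derived subgroup is nontrivial and the (k+1)-st is trivial). Then n ≥ 2^k + 2k − 2. -/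
theorem result {P : Type*} [Group P] [Finite P] (p : ℕ) [Fact p.Prime] (n k : ℕ) (hcard : Nat.card P = p ^ n) (hk : derivedSeries P k ≠ ⊥) (hk' : derivedSeries P (k + 1) = ⊥) : 2 ^ k + 2 * k ≤ n + 2 := by
  have hp : p.Prime := Fact.out
  have hP : IsPGroup p P := IsPGroup.of_card hcard
  obtain ⟨d, A, hA, hc, -, hd⟩ := card_bound hP k hk
  have h1 : Nat.card (⊥ : Subgroup P) * p ≤ Nat.card (derivedSeries P k) := card_step hP (bot_lt_iff_ne_bot.2 hk)
  rw [card_bot, one_mul] at h1
  have h2 : p ^ (A + 1) ≤ p ^ n := by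
    rw [pow_succ, ← hcard]
    exact (Nat.mul_le_mul_left _ h1).trans hc
  have h3 := (Nat.pow_le_pow_iff_right hp.one_lt).1 h2
  have hd2 : d ≤ 2 := by rcases hd with h | ⟨h, -⟩ | ⟨h, -⟩ <;> omega
  omega

end Cfsg.Agent.S4009
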