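import Cfsg.Statements.S4010
import Cfsg.Agent.Lib.FGS.LinearPGroupLength

set_option autoImplicit false
open Cfsg

namespace Cfsg.Agent.S4010

/-- Let F be a field, n ≥ 1, and P a finite p-group (p a prime) admitting an injective homomorphism into the general linear group of degree n over F. Then the derived length of P is at most ⌊log₂ n⌋ + 1: that term of the derived series of P is trivial. -/
theorem result {P : Type*} [Group P] [Finite P] (p : ℕ) [Fact p.Prime] (hP : IsPGroup p P) (F : Type*) [Field F] (n : ℕ) (hn : 1 ≤ n) (ρ : P →* Matrix.GeneralLinearGroup (Fin n) F) (hρ : Function.Injective ρ) : derivedSeries P (Nat.log 2 n + 1) = ⊥ := by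
  let K := AlgebraicClosure F
  let f : P →* Module.End K (Fin n → K) :=
    (Matrix.toLinAlgEquiv' : Matrix (Fin n) (Fin n) K ≃ₐ[K] _).toMonoidHom.comp
      (((algebraMap F K).mapMatrix.toMonoidHom).comp ((Units.coeHom _).comp ρ))
  have hf : Function.Injective f := by
    intro x y h
    apply hρ
    apply Units.ext
    have h1 := (Matrix.toLinAlgEquiv' : Matrix (Fin n) (Fin n) K ≃ₐ[K] _).injective h
    exact Matrix.map_injective (algebraMap F K).injective h1
  have hn' : Module.finrank K (Fin n → K) ≤ n := by simp
  by_cases hpK : (p : K) = 0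
  · have : CharP K p := (CharP.charP_iff_prime_eq_zero (Fact.out : p.Prime)).2 hpK
    exact CfsgLib.FGS.LinearPLength.derived_length_char_eq hP f hf hn'
  · have h := CfsgLib.FGS.LinearPLength.derived_length_char_ne hpK hP f hf hn'
    rw [eq_bot_iff, ← h]
    exact derivedSeries_antitone P (Nat.add_le_add_right
      (Nat.log_anti_left one_lt_two (Fact.out : p.Prime).two_le) 1)

end Cfsg.Agent.S4010
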