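import Cfsg.Statements.S4013
import Cfsg.Agent.Lib.FGS.Class
import Mathlib.GroupTheory.Sylow

set_option autoImplicit false
open Cfsg

namespace Cfsg.Agent.S4013

/-- Let G be a finite p-group (p prime) and N < M normal subgroups of G such that for some g ∈ M ∖ N the conjugacy class of g is exactly M ∖ N. Then p = 2 and N has index 2 in M. -/
theorem result {G : Type*} [Group G] [Finite G] (p : ℕ) [Fact p.Prime] (hG : IsPGroup p G) (N M : Subgroup G) [N.Normal] [M.Normal] (hNM : N < M) (g : G) (hgM : g ∈ M) (hgN : g ∉ N) (hcl : {h : G | IsConj g h} = (M : Set G) \ (N : Set G)) : p = 2 ∧ N.relIndex M = 2 := by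
  have hp : p.Prime := Fact.out
  obtain ⟨i, hi⟩ : ∃ i, (Subgroup.centralizer ({g} : Set G)).index = p ^ i := by
    obtain ⟨e, he⟩ := IsPGroup.iff_card.1 hG
    obtain ⟨i, -, hi⟩ := (Nat.dvd_prime_pow hp).1
      (he ▸ (Subgroup.centralizer ({g} : Set G)).index_dvd_card)
    exact ⟨i, hi⟩
  rw [CfsgLib.FGS.index_centralizer_eq_ncard, hcl, Set.ncard_sdiff (SetLike.coe_subset_coe.2 hNM.le)] at hi
  simp only [← Nat.card_coe_set_eq, SetLike.coe_sort_coe] at hi
  obtain ⟨a, ha⟩ := IsPGroup.iff_card.1 (hG.to_subgroup N)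
  obtain ⟨b, hb⟩ := IsPGroup.iff_card.1 (hG.to_subgroup M)
  have hlt : a < b := by
    have : Nat.card N < Nat.card M :=
      Set.ncard_lt_ncard (SetLike.coe_ssubset_coe.2 hNM) (Set.toFinite _)
        |> fun h => by simpa only [← Nat.card_coe_set_eq, SetLike.coe_sort_coe] using h
    rw [ha, hb] at this
    exact (Nat.pow_lt_pow_iff_right hp.one_lt).1 this
  rw [ha, hb] at hi
  have hsplit : p ^ b = p ^ a * p ^ (b - a) := by rw [← pow_add]; congr 1; omega
  rw [hsplit, ← Nat.mul_sub_one] at hi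
  obtain ⟨j, -, hj⟩ := (Nat.dvd_prime_pow hp).1 (Dvd.intro_left _ hi : p ^ (b - a) - 1 ∣ p ^ i)
  have hpd : p ∣ p ^ (b - a) := dvd_pow_self p (by omega)
  have hge : p ≤ p ^ (b - a) := Nat.le_self_pow (by omega) p
  have hj0 : j = 0 := by
    by_contra hj0
    have h1 : p ∣ p ^ (b - a) - 1 := hj ▸ dvd_pow_self p hj0
    have h2 := Nat.dvd_sub hpd h1
    rw [Nat.sub_sub_self (by have := hp.two_le; omega), Nat.dvd_one] at h2
    exact hp.one_lt.ne' h2
  rw [hj0, pow_zero] at hj
  have h2 : p ^ (b - a) = 2 := by omega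
  have hp2 : p = 2 := by have := hp.two_le; omega
  refine ⟨hp2, ?_⟩
  have := Subgroup.relIndex_mul_relIndex ⊥ N M bot_le hNM.le
  rw [Subgroup.relIndex_bot_left, Subgroup.relIndex_bot_left, ha, hb, hsplit, h2] at this
  exact Nat.eq_of_mul_eq_mul_left (pow_pos hp.pos a) this

end Cfsg.Agent.S4013
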