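import Cfsg.Statements.S4015
import Cfsg.Agent.Lib.FGS.GLSylowLength

set_option autoImplicit false
set_option linter.style.haveILetI false
open Cfsg

namespace Cfsg.Agent.S4015

/-- Let p be an odd prime, F a finite field with q elements where p does not divide q, and e the multiplicative order of q modulo p. Let n ≥ e and write w = ⌊n/e⌋ and k = ⌊log_p w⌋. Then a Sylow p-subgroup of GL(n, F) has derived length exactly k + 1: its (k+1)-st derived subgroup is trivial and its k-th is not. -/
theorem result (p : ℕ) [Fact p.Prime] (hp : p ≠ 2) (F : Type*) [Field F] [Fintype F] (q : ℕ) (hq : Fintype.card F = q) (hpq : ¬ p ∣ q) (n : ℕ) (hn : orderOf (q : ZMod p) ≤ n) (P : Sylow p (Matrix.GeneralLinearGroup (Fin n) F)) : derivedSeries ↥(P : Subgroup (Matrix.GeneralLinearGroup (Fin n) F)) (Nat.log p (n / orderOf (q : ZMod p)) + 1) = ⊥ ∧ derivedSeries ↥(P : Subgroup (Matrix.GeneralLinearGroup (Fin n) F)) (Nat.log p (n / orderOf (q : ZMod p))) ≠ ⊥ := by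
  classical
  set e := orderOf (q : ZMod p) with he
  have hq0 : (q : ZMod p) ≠ 0 := fun h => hpq ((ZMod.natCast_eq_zero_iff _ _).1 h)
  have hp2 := (Fact.out : p.Prime).two_le
  have he1 : 0 < e := by
    rw [he]
    exact orderOf_pos_iff.2 (isOfFinOrder_iff_pow_eq_one.2
      ⟨p - 1, by omega, ZMod.pow_card_sub_one_eq_one hq0⟩)
  constructor
  · let K := AlgebraicClosure F
    obtain ⟨ℓ, hch, r, hℓp, hcard⟩ := FiniteField.card' F
    haveI : Fact ℓ.Prime := ⟨hℓp⟩
    haveI : CharP F ℓ := hch
    have hpK : (p : K) ≠ 0 := by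
      intro h
      have h1 : (p : F) = 0 := (algebraMap F K).injective (by rw [map_natCast, map_zero, h])
      have h2 : ℓ = p := (Nat.prime_dvd_prime_iff_eq hℓp Fact.out).1 ((CharP.cast_eq_zero_iff F ℓ p).1 h1)
      apply hpq
      rw [← hq, hcard, ← h2]
      exact dvd_pow_self _ r.ne_zero
    let M : Matrix.GeneralLinearGroup (Fin n) F →* Module.End K (Fin n → K) :=
      (Matrix.toLinAlgEquiv'.toMonoidHom.comp ((algebraMap F K).mapMatrix.toMonoidHom)).comp
        (Units.coeHom _)
    have hM : Function.Injective M := by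
      intro a b h
      apply Units.ext
      exact Matrix.map_injective (algebraMap F K).injective (Matrix.toLinAlgEquiv'.injective h)
    let σ : (Fin n → K) → (Fin n → K) := fun v i => FiniteField.frobeniusAlgHom F K (v i)
    refine Cfsg.Agent.GLSylowLength.derivedSeries_eq_bot_of_semilinear hpK P.isPGroup'
      (M.comp (P : Subgroup (Matrix.GeneralLinearGroup (Fin n) F)).subtype)
      (hM.comp (Subgroup.subtype_injective _)) (n := n) (by rw [Module.finrank_fin_fun]) hpq hn σ
      ?_ ?_ ?_
    · intro v hv
      funext i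
      have h1 : FiniteField.frobeniusAlgHom F K (v i) = 0 := congrFun hv i
      exact (map_eq_zero _).1 h1
    · intro g v
      funext i
      have key := map_sum (FiniteField.frobeniusAlgHom F K) (fun j =>
        algebraMap F K (((g : Matrix.GeneralLinearGroup (Fin n) F) :
          Matrix (Fin n) (Fin n) F) i j) * v j) Finset.univ
      simp only [map_mul, AlgHom.commutes] at key
      rw [FiniteField.coe_frobeniusAlgHom] at key
      simp [M, σ, Matrix.mulVec, dotProduct]
      exact key.symm
    · intro c v
      funext i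
      simp [σ, hq, mul_pow]
  · set k := Nat.log p (n / e) with hk
    have hne : 1 ≤ n / e := (Nat.one_le_div_iff he1).2 hn
    have hkn : p ^ k * e ≤ n :=
      (Nat.mul_le_mul_right e (Nat.pow_log_le_self p (by omega))).trans (Nat.div_mul_le_self n e)
    obtain ⟨x, hx⟩ : ∃ x : Matrix.GeneralLinearGroup (Fin e) F, orderOf x = p := by
      refine exists_prime_orderOf_dvd_card' p ?_
      rw [Matrix.card_GL_field, hq]
      refine dvd_trans ?_ (Finset.dvd_prod_of_mem _ (Finset.mem_univ ⟨0, he1⟩))
      have hq1 : 1 ≤ q ^ e := Nat.one_le_pow _ _ (by rw [← hq]; exact Fintype.card_pos)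
      simp only [pow_zero]
      rw [← ZMod.natCast_eq_zero_iff, Nat.cast_sub hq1, Nat.cast_pow, Nat.cast_one, he,
        pow_orderOf_eq_one, sub_self]
    let ρ : ↥(Subgroup.zpowers x) →* Module.End F (Fin e → F) :=
      (Matrix.toLinAlgEquiv'.toMonoidHom.comp (Units.coeHom _)).comp (Subgroup.zpowers x).subtype
    have hρ : Function.Injective ρ := fun a b h =>
      Subtype.ext (Units.ext (Matrix.toLinAlgEquiv'.injective h))
    haveI : Nontrivial ↥(Subgroup.zpowers x) :=
      Finite.one_lt_card_iff_nontrivial.1 (by rw [Nat.card_zpowers, hx]; omega)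
    obtain ⟨f, hf⟩ := Cfsg.Agent.GLSylowLength.exists_iterated_end he1 ρ hρ k
    obtain ⟨g, hg⟩ := Cfsg.Agent.GLSylowLength.exists_pad (n := n)
      (by rw [Nat.card_zpowers, hx]; exact hkn) f hf
    let ι : IteratedWreathProduct ↥(Subgroup.zpowers x) (k + 1) →*
        Matrix.GeneralLinearGroup (Fin n) F :=
      Matrix.GeneralLinearGroup.toLin.symm.toMonoidHom.comp g.toHomUnits
    have hι : Function.Injective ι := fun a b h => hg (by
      have := Matrix.GeneralLinearGroup.toLin.symm.injective h
      exact congrArg Units.val this)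
    have hpg : IsPGroup p (IteratedWreathProduct ↥(Subgroup.zpowers x) (k + 1)) := by
      apply IsPGroup.of_card (n := ∑ i ∈ Finset.range (k + 1), p ^ i)
      rw [IteratedWreathProduct.card, Nat.card_zpowers, hx]
    have hRp : IsPGroup p ι.range :=
      hpg.of_surjective ι.rangeRestrict ι.rangeRestrict_surjective
    obtain ⟨Q, hQ⟩ := hRp.exists_le_sylow
    let eQP : ↥(Q : Subgroup (Matrix.GeneralLinearGroup (Fin n) F)) ≃*
        ↥(P : Subgroup (Matrix.GeneralLinearGroup (Fin n) F)) := Sylow.equiv Q P
    let j := eQP.toMonoidHom.comp ((Subgroup.inclusion hQ).comp ι.rangeRestrict)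
    have hj : Function.Injective j :=
      eQP.injective.comp ((Subgroup.inclusion_injective hQ).comp
        (fun a b h => hι (congrArg Subtype.val h)))
    intro hbot
    have h1 := map_derivedSeries_le_derivedSeries j k
    rw [hbot, le_bot_iff, Subgroup.map_eq_bot_iff, (MonoidHom.ker_eq_bot_iff j).2 hj,
      le_bot_iff] at h1
    exact CfsgLib.FGS.SymmSylowLength.derivedSeries_iterated_ne_bot _ k h1

end Cfsg.Agent.S4015
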