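import Cfsg.Statements.S4018
import Cfsg.Agent.Lib.FGS.DihedralTI
import Cfsg.Agent.Lib.FGS.TransferCriteria
import Cfsg.Agent.Lib.Solvable.FrobeniusComplement

set_option autoImplicit false
open Cfsg

namespace Cfsg.Agent.S4018

theorem simple_comp {G : Type*} [Group G] [Finite G] (hS : IsSimpleGroup G) (hs : Group.IsSolvable G)
    (hp : ¬ (Nat.card G).Prime) : False := by
  haveI := hS
  haveI := hs
  obtain ⟨N, p, a, hNn, -, -, -, -, hN1, hNc, -⟩ := CfsgLib.Solvable.exists_normal_prime_pow_card (G := G)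
  rcases IsSimpleGroup.eq_bot_or_eq_top_of_normal N hNn with e | e
  · exact hN1 e
  · letI : CommGroup G := { (inferInstance : Group G) with
      mul_comm := fun a b => hNc a (e ▸ Subgroup.mem_top a) b (e ▸ Subgroup.mem_top b) }
    exact hp IsSimpleGroup.prime_card

theorem three_rest {G : Type*} [Group G] [Finite G] (S : Subgroup G) (hS : Nat.card S = 2 ^ 2) {t a b c : G}
    (ht : t ∈ S) (ht1 : t ≠ 1) (ha : a ∈ S) (hb : b ∈ S) (hc : c ∈ S) (ha1 : a ≠ 1) (hat : a ≠ t)
    (hb1 : b ≠ 1) (hbt : b ≠ t) (hc1 : c ≠ 1) (hct : c ≠ t) (hab : a ≠ b) (hca : c ≠ a) : c = b := by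
  classical
  by_contra hcb
  let f : Fin 5 → S := ![⟨1, one_mem S⟩, ⟨t, ht⟩, ⟨a, ha⟩, ⟨b, hb⟩, ⟨c, hc⟩]
  have hf : Function.Injective f := by
    intro i j e
    fin_cases i <;> fin_cases j <;> simp_all [f, eq_comm, Subtype.ext_iff]
  have := Nat.card_le_card_of_injective f hf
  rw [Nat.card_fin, hS] at this
  omega

/-- Let G be a finite group with an abelian Sylow 3-subgroup P such that the normalizer of P has order 4·#P, the centralizer C of P has order 2·#P, C meets each of its conjugates by elements outside its normalizer trivially, and every proper subgroup of G of even order has order dividing 4·#P. Then G is not simple. -/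
theorem result {G : Type*} [Group G] [Finite G]
    (P : Sylow 3 G) (hab : IsMulCommutative P)
    (hN : Nat.card (Subgroup.normalizer ((P : Subgroup G) : Set G)) = 4 * Nat.card P)
    (hC : Nat.card (Subgroup.centralizer (P : Set G)) = 2 * Nat.card P)
    (hTI : Cfsg.IsTISubset (Subgroup.centralizer (P : Set G) : Set G))
    (heven : ∀ H : Subgroup G, H ≠ ⊤ → 2 ∣ Nat.card H → Nat.card H ∣ 4 * Nat.card P) :
    ¬ IsSimpleGroup G := by
  classical
  intro hS
  haveI := hS
  haveI := Fintype.ofFinite G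
  haveI : Fact (Nat.Prime 3) := ⟨Nat.prime_three⟩
  haveI : Fact (Nat.Prime 2) := ⟨Nat.prime_two⟩
  obtain ⟨k, hk⟩ := P.isPGroup'.exists_card_eq
  set h := Nat.card (P : Subgroup G) with hh
  set C := Subgroup.centralizer (P : Set G) with hCdef
  set D := Subgroup.normalizer ((P : Subgroup G) : Set G) with hDdef
  have hhodd : Odd h := hk ▸ (by decide : Odd 3).pow
  have hh1 : 2 ≤ h := by
    by_contra hlt
    have hh' : h = 1 := by have : 0 < h := Nat.card_pos; omega
    have hP : (P : Subgroup G) = ⊥ := Subgroup.eq_bot_of_card_eq _ hh'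
    have : D = ⊤ := by
      rw [hDdef, Subgroup.normalizer_eq_top_iff, hP]; infer_instance
    have h4 : Nat.card G = 2 ^ 2 := by
      rw [← Subgroup.card_top, ← this]
      exact hN.trans (by rw [hh']; norm_num)
    haveI := (IsPGroup.of_card h4).isNilpotent
    have hsolv : Group.IsSolvable G := inferInstance
    exact simple_comp hS hsolv (h4.symm ▸ (by norm_num : ¬ Nat.Prime (2 ^ 2)))
  have hnsolv : ¬ Group.IsSolvable G := fun hs => by
    refine simple_comp hS hs fun hp => ?_
    have h1 : 4 * h ∣ Nat.card G := hN ▸ D.card_subgroup_dvd_card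
    rcases (Nat.dvd_prime hp).1 h1 with e | e
    · omega
    · rw [← e] at hp
      exact Nat.not_prime_mul (by omega) (by omega) hp
  -- the centralizer of `P`
  have hPC : (P : Subgroup G) ≤ C := by
    intro x hx
    exact Subgroup.mem_centralizer_iff.2 fun y hy =>
      congrArg Subtype.val (mul_comm' (⟨y, hy⟩ : (P : Subgroup G)) ⟨x, hx⟩)
  have hCD : C ≤ D := Subgroup.centralizer_le_normalizer _
  have hCc : Nat.card C = 2 * h := hC
  have hDc : Nat.card D = 4 * h := hN
  obtain ⟨t', ht'⟩ := exists_prime_orderOf_dvd_card' (G := C) 2 (hCc ▸ dvd_mul_right _ _)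
  set t : G := (t' : G) with htdef
  have ht2 : orderOf t = 2 := by rw [htdef, Subgroup.orderOf_coe, ht']
  have htC : t ∈ C := t'.2
  have htt : t * t = 1 := by rw [← pow_two, ← ht2, pow_orderOf_eq_one]
  have ht1 : t ≠ 1 := fun e => by simp [e] at ht2
  have hPt : ∀ x ∈ (P : Subgroup G), Commute x t := fun x hx => Subgroup.mem_centralizer_iff.1 htC x hx
  have htP : t ∉ (P : Subgroup G) := fun hmem => by
    have h2 := Subgroup.orderOf_dvd_natCard _ hmem
    rw [ht2, ← hh] at h2
    exact hhodd.not_two_dvd_nat h2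
  have hCdec : ∀ c ∈ C, ∃ x ∈ (P : Subgroup G), c = x ∨ c = x * t := by
    have hidx : ((P : Subgroup G).subgroupOf C).index = 2 := by
      have h1 := ((P : Subgroup G).subgroupOf C).index_mul_card
      rw [Nat.card_congr (Subgroup.subgroupOfEquivOfLe hPC).toEquiv, ← hh, hCc] at h1
      exact Nat.eq_of_mul_eq_mul_right (by omega) h1
    intro c hc
    by_cases hcP : c ∈ (P : Subgroup G)
    · exact ⟨c, hcP, Or.inl rfl⟩
    · have := (Subgroup.mul_mem_iff_of_index_two hidx (a := (⟨c, hc⟩ : C)) (b := t')).2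
        (iff_of_false hcP htP)
      refine ⟨c * t, this, Or.inr ?_⟩
      rw [mul_assoc, htt, mul_one]
  have hcommC : ∀ a ∈ C, ∀ b ∈ C, a * b = b * a := by
    intro a ha b hb
    obtain ⟨x, hx, hax⟩ := hCdec a ha
    obtain ⟨y, hy, hby⟩ := hCdec b hb
    have hxy : Commute x y := congrArg Subtype.val (mul_comm' (⟨x, hx⟩ : (P : Subgroup G)) ⟨y, hy⟩)
    have e1 : Commute a y := by
      rcases hax with rfl | rfl
      · exact hxy
      · exact hxy.mul_left (hPt y hy).symm
    have e2 : Commute a t := by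
      rcases hax with rfl | rfl
      · exact hPt _ hx
      · exact (hPt _ hx).mul_left (Commute.refl t)
    rcases hby with rfl | rfl
    · exact e1
    · exact e1.mul_right e2
  have huniq : ∀ c ∈ C, c * c = 1 → c = 1 ∨ c = t := by
    intro c hc hcc
    obtain ⟨x, hx, e⟩ := hCdec c hc
    have hxx : x * x = 1 := by
      rcases e with rfl | rfl
      · exact hcc
      · calc x * x = x * x * (t * t) := by rw [htt, mul_one]
          _ = x * t * (x * t) := ((hPt x hx).symm.mul_mul_mul_comm x t).symm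
          _ = 1 := hcc
    have hx1 : x = 1 := by
      rw [← orderOf_eq_one_iff]
      exact Nat.eq_one_of_dvd_coprimes (Nat.coprime_two_right.2 hhodd).symm
        (orderOf_dvd_of_pow_eq_one (by rw [pow_two]; exact hxx)) (Subgroup.orderOf_dvd_natCard _ hx)
    rcases e with rfl | rfl
    · exact Or.inl hx1
    · exact Or.inr (by rw [hx1, one_mul])
  have hPodd : ∀ c ∈ C, (orderOf c).Coprime 2 → c ∈ (P : Subgroup G) := by
    intro c hc hco
    obtain ⟨x, hx, e⟩ := hCdec c hc
    rcases e with rfl | rfl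
    · exact hx
    · exfalso
      have hxo : (orderOf x).Coprime (orderOf t) := by
        rw [ht2]; exact (Nat.coprime_two_right.2 hhodd).coprime_dvd_left (Subgroup.orderOf_dvd_natCard _ hx)
      rw [(hPt x hx).orderOf_mul_eq_mul_orderOf_of_coprime hxo, ht2] at hco
      have := Nat.eq_one_of_dvd_coprimes hco (dvd_mul_left 2 _) dvd_rfl
      omega
  have hnC : ∀ x ∈ D, ∀ c ∈ C, x * c * x⁻¹ ∈ C := by
    intro x hx c hc
    refine Subgroup.mem_centralizer_iff.2 fun y hy => ?_
    have hy' : x⁻¹ * y * x ∈ (P : Subgroup G) := (Subgroup.mem_normalizer_iff''.1 hx y).1 hy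
    have := Subgroup.mem_centralizer_iff.1 hc _ hy'
    calc y * (x * c * x⁻¹) = x * ((x⁻¹ * y * x) * c) * x⁻¹ := by group
      _ = x * (c * (x⁻¹ * y * x)) * x⁻¹ := by rw [this]
      _ = _ := by group
  have hnorm : ∀ x, (x ∈ Subgroup.normalizer (C : Set G) ↔ x ∈ D) := by
    refine fun x => ⟨fun hx => CfsgLib.Solvable.mem_normalizer_of_conj_mem fun y hy => ?_, fun hx =>
      CfsgLib.Solvable.mem_normalizer_of_conj_mem (hnC x hx)⟩
    refine hPodd _ ((Subgroup.mem_normalizer_iff.1 hx y).1 (hPC hy)) ?_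
    rw [← MulAut.conj_apply, MulEquiv.orderOf_eq]
    exact (Nat.coprime_two_right.2 hhodd).coprime_dvd_left (Subgroup.orderOf_dvd_natCard _ hy)
  have hTI' : ∀ g : G, g ∉ D → ∀ c ∈ C, g * c * g⁻¹ ∈ C → c = 1 :=
    fun g hg c hc hgc => hTI g (fun hmem => hg ((hnorm g).1 hmem)) c hc hgc
  -- central involution of `D`
  have hDtop : ∀ x : G, x ≠ 1 → Subgroup.centralizer ({x} : Set G) ≠ ⊤ := by
    intro x hx e
    haveI : (Subgroup.zpowers x).Normal := ⟨fun y hy g => by
      have h1 : Commute g x := Subgroup.mem_centralizer_singleton_iff.1 (e ▸ Subgroup.mem_top g)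
      obtain ⟨j, rfl⟩ := hy
      show g * x ^ j * g⁻¹ ∈ _
      rw [(h1.zpow_right j).eq, mul_inv_cancel_right]
      exact ⟨j, rfl⟩⟩
    rcases IsSimpleGroup.eq_bot_or_eq_top_of_normal (Subgroup.zpowers x) inferInstance with e1 | e1
    · exact hx (Subgroup.zpowers_eq_bot.1 e1)
    · refine hnsolv (Group.isSolvable_of_comm fun a b => ?_)
      obtain ⟨i, rfl⟩ : a ∈ Subgroup.zpowers x := e1 ▸ Subgroup.mem_top a
      obtain ⟨j, rfl⟩ : b ∈ Subgroup.zpowers x := e1 ▸ Subgroup.mem_top b
      exact (Commute.zpow_zpow (Commute.refl x) i j).eq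
  have hDt' : D ≤ Subgroup.centralizer ({t} : Set G) := by
    intro x hx
    rw [Subgroup.mem_centralizer_singleton_iff]
    have h1 : x * t * x⁻¹ = t := by
      rcases huniq _ (hnC x hx t htC) (by
        calc x * t * x⁻¹ * (x * t * x⁻¹) = x * (t * t) * x⁻¹ := by group
          _ = 1 := by rw [htt]; group) with e | e
      · exact absurd (conj_eq_one_iff.1 e) ht1
      · exact e
    exact mul_inv_eq_iff_eq_mul.1 h1
  have hcsub : ∀ H : Subgroup G, H ≠ ⊤ → 2 ∣ Nat.card H → Nat.card H ∣ 4 * h := heven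
  have hDt : Subgroup.centralizer ({t} : Set G) = D := by
    refine (Subgroup.eq_of_le_of_card_ge hDt' ?_).symm
    rw [hDc]
    refine Nat.le_of_dvd (by omega) (hcsub _ (hDtop t ht1) ?_)
    exact (hDc ▸ (Dvd.intro (2 * h) (by ring) : 2 ∣ 4 * h)).trans (Subgroup.card_dvd_of_le hDt')
  -- the Sylow 2-subgroup
  have hD4 : 2 ^ 2 ∣ Nat.card D := hDc ▸ dvd_mul_right _ _
  obtain ⟨V, hV⟩ := Sylow.exists_subgroup_card_pow_prime (G := D) 2 (n := 2) hD4
  set V' : Subgroup G := V.map D.subtype with hV'def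
  have hV'c : Nat.card V' = 2 ^ 2 := by rw [hV'def, Subgroup.card_map_of_injective D.subtype_injective, hV]
  obtain ⟨S, hS'⟩ := (IsPGroup.of_card hV'c).exists_le_sylow
  have hSc : Nat.card (S : Subgroup G) = 2 ^ 2 := by
    refine Nat.dvd_antisymm ?_ (hV'c ▸ Subgroup.card_dvd_of_le hS')
    have h1 : (S : Subgroup G) ≠ ⊤ := fun e => hnsolv (by
      haveI := S.isPGroup'.isNilpotent
      haveI : Group.IsSolvable (S : Subgroup G) := inferInstance
      exact Group.isSolvable_of_surjective (f := (S : Subgroup G).subtype)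
        fun g => ⟨⟨g, e ▸ Subgroup.mem_top g⟩, rfl⟩)
    have h2 := hcsub _ h1 ((dvd_pow_self 2 two_ne_zero).trans (hV'c ▸ Subgroup.card_dvd_of_le hS'))
    obtain ⟨i, hi⟩ := S.isPGroup'.exists_card_eq
    refine (Nat.Coprime.dvd_of_dvd_mul_right ?_ (h2.trans (dvd_of_eq (show 4 * h = 2 ^ 2 * h by norm_num))) : _)
    rw [hi]
    exact Nat.Coprime.pow_left _ (Nat.coprime_two_left.2 hhodd)
  have hScomm : IsMulCommutative (S : Subgroup G) :=
    ⟨⟨fun a b => IsPGroup.commutative_of_card_eq_prime_sq hSc a b⟩⟩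
  have hSV : (S : Subgroup G) ≤ D := (Subgroup.eq_of_le_of_card_ge hS' (by rw [hSc, hV'c])) ▸ Subgroup.map_subtype_le V
  have htS : t ∈ (S : Subgroup G) := by
    refine CfsgLib.FGS.mem_of_mem_normalizer S ⟨1, by rw [ht2, pow_one]⟩
      (CfsgLib.Solvable.mem_normalizer_of_conj_mem fun y hy => ?_)
    have h1 : y * t = t * y := Subgroup.mem_centralizer_singleton_iff.1 (hDt.ge (hSV hy))
    rwa [← h1, mul_inv_cancel_right]
  obtain ⟨g₀, hg₀, hg₀C⟩ : ∃ g ∈ Subgroup.normalizer ((S : Subgroup G) : Set G),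
      g ∉ Subgroup.centralizer ((S : Subgroup G) : Set G) := by
    by_contra hno
    push Not at hno
    obtain ⟨N, hNn, hNc⟩ := (CfsgLib.Transfer.hasNormalPComplement_iff_sylow S).1
      (CfsgLib.Transfer.hasNormalPComplement_of_normalizer_le_centralizer S (fun g hg => hno g hg))
    have h1 := hNc.card_mul
    rcases IsSimpleGroup.eq_bot_or_eq_top_of_normal N hNn with e | e
    · rw [e, Subgroup.card_bot, one_mul] at h1
      refine hnsolv ?_
      haveI := (IsPGroup.of_card (G := G) (p := 2) (n := 2) (by rw [← h1]; exact hSc)).isNilpotent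
      infer_instance
    · rw [e, Subgroup.card_top] at h1
      have : Nat.card (S : Subgroup G) = 1 := by
        exact Nat.eq_of_mul_eq_mul_left Nat.card_pos (by rw [mul_one]; exact h1)
      rw [hSc] at this
      norm_num at this
  obtain ⟨a', b', ha', hb', hab', -⟩ := CfsgLib.FGS.exists_p_parts (G := G) 2 g₀
  set b := g₀ ^ b' with hbdef
  have hbN : ∀ y ∈ (S : Subgroup G), b * y * b⁻¹ ∈ (S : Subgroup G) := fun y hy =>
    (Subgroup.mem_normalizer_iff.1 (Subgroup.pow_mem _ hg₀ b') y).1 hy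
  have hbC : b ∉ Subgroup.centralizer ((S : Subgroup G) : Set G) := by
    intro hb
    refine hg₀C ?_
    rw [← hab']
    refine mul_mem (Subgroup.mem_centralizer_iff.2 fun y hy => ?_) hb
    exact congrArg Subtype.val (mul_comm' (⟨y, hy⟩ : (S : Subgroup G))
      ⟨_, CfsgLib.FGS.mem_of_mem_normalizer S ha' (Subgroup.pow_mem _ hg₀ a')⟩)
  have hSone : ∀ y ∈ (S : Subgroup G), y * y = 1 ∧ True := by
    intro y hy
    refine ⟨?_, trivial⟩
    by_contra hyy
    refine hbC ?_
    -- a cyclic Sylow subgroup has no odd order automorphism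
    have hy4 : orderOf y = 4 := by
      obtain ⟨i, hi, hi'⟩ := (Nat.dvd_prime_pow Nat.prime_two).1 (hSc ▸ Subgroup.orderOf_dvd_natCard _ hy)
      have hi2 : i = 2 := by
        by_contra hne
        exact hyy (by
          have : orderOf y ∣ 2 := hi' ▸ (pow_dvd_pow 2 (by omega : i ≤ 1)).trans (by simp)
          rw [← pow_two]; exact orderOf_dvd_iff_pow_eq_one.1 this)
      rw [hi', hi2]; norm_num
    haveI hcyc : IsCyclic (S : Subgroup G) := isCyclic_of_orderOf_eq_card ⟨y, hy⟩
      (by rw [Subgroup.orderOf_mk, hy4, hSc]; norm_num)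
    refine CfsgLib.FGS.mem_centralizer_of_forall_prime _ (Subgroup.pow_mem _ hg₀ b') fun q hq hqd c hc => ?_
    have h1 : orderOf c ∣ 2 := by
      have := orderOf_dvd_natCard c
      rwa [IsCyclic.card_mulAut, hSc, Nat.totient_prime_pow Nat.prime_two two_pos] at this
    rw [← orderOf_eq_one_iff]
    refine Nat.eq_one_of_dvd_coprimes ?_ (orderOf_dvd_of_pow_eq_one hc) h1
    exact Nat.Coprime.coprime_dvd_left hqd hb'
  set u := b * t * b⁻¹ with hudef
  have huS : u ∈ (S : Subgroup G) := hbN t htS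
  have hu2 : orderOf u = 2 := by rw [hudef, ← MulAut.conj_apply, MulEquiv.orderOf_eq, ht2]
  have hSelem : ∀ y ∈ (S : Subgroup G), y ≠ 1 → y ≠ t → u ≠ t → y = u ∨ y = t * u := by
    intro y hy hy1 hyt hut
    have huu : u * u = 1 := (hSone u huS).1
    have hu1 : u ≠ 1 := fun e => by simp [e] at hu2
    have hti : t⁻¹ = t := inv_eq_of_mul_eq_one_right htt
    have hsub : ({1, t, u, t * u} : Finset G) = Finset.univ.filter (fun z => z ∈ (S : Subgroup G)) := by
      refine Finset.eq_of_subset_of_card_le (fun z hz => ?_) ?_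
      · simp only [Finset.mem_insert, Finset.mem_singleton] at hz
        rw [Finset.mem_filter]
        refine ⟨Finset.mem_univ _, ?_⟩
        rcases hz with rfl | rfl | rfl | rfl
        exacts [one_mem _, htS, huS, mul_mem htS huS]
      · rw [← Fintype.card_subtype, ← Nat.card_eq_fintype_card]
        refine le_trans (le_of_eq hSc) ?_
        have e1 : t * u ≠ 1 := fun e => hut (by rw [eq_inv_of_mul_eq_one_right e, hti])
        rw [Finset.card_insert_of_notMem, Finset.card_insert_of_notMem, Finset.card_pair]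
        · norm_num
        · intro e; exact ht1 (mul_eq_right.1 e.symm)
        · simp only [Finset.mem_insert, Finset.mem_singleton, not_or]
          exact ⟨Ne.symm hut, fun e => hu1 (mul_eq_left.1 e.symm)⟩
        · simp only [Finset.mem_insert, Finset.mem_singleton, not_or]
          exact ⟨ht1.symm, hu1.symm, e1.symm⟩
    have : y ∈ ({1, t, u, t * u} : Finset G) := by rw [hsub]; simp [hy]
    simp only [Finset.mem_insert, Finset.mem_singleton] at this
    rcases this with e | e | e | e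
    · exact absurd e hy1
    · exact absurd e hyt
    · exact Or.inl e
    · exact Or.inr e
  have hbord : ∃ m : ℕ, (b ^ 2) ^ m = b := exists_pow_eq_self_of_coprime hb'.symm
  have hbfix : ∀ y : G, b * (b * y * b⁻¹) * b⁻¹ = y → b * y * b⁻¹ = y := by
    intro y hy
    obtain ⟨m, hm⟩ := hbord
    have h2 : Commute (b ^ 2) y := by
      refine mul_inv_eq_iff_eq_mul.1 ?_
      calc b ^ 2 * y * (b ^ 2)⁻¹ = b * (b * y * b⁻¹) * b⁻¹ := by rw [pow_two]; group
        _ = y := hy
    have h3 := h2.pow_left m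
    rw [hm] at h3
    exact mul_inv_eq_iff_eq_mul.2 h3.eq
  have hu_ne : u ≠ t := by
    intro hut
    refine hbC (Subgroup.mem_centralizer_iff.2 fun y hy => ?_)
    suffices hby : b * y * b⁻¹ = y from (mul_inv_eq_iff_eq_mul.1 hby).symm
    by_cases hy1 : y = 1
    · rw [hy1]; group
    by_cases hyt : y = t
    · rw [hyt]; exact hut
    by_contra hne
    have h1 : b * y * b⁻¹ ≠ 1 := fun e => hy1 (conj_eq_one_iff.1 e)
    have h2 : b * y * b⁻¹ ≠ t := fun e => hyt (by
      have e' : b * y * b⁻¹ = b * t * b⁻¹ := e.trans hut.symm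
      exact mul_left_cancel (mul_right_cancel e'))
    refine hne (hbfix y ?_)
    -- among the two elements other than `1` and `t`
    have hyS' := hbN y hy
    have hzS := hbN _ hyS'
    have h3 : b * (b * y * b⁻¹) * b⁻¹ ≠ 1 := fun e => h1 (conj_eq_one_iff.1 e)
    have h4 : b * (b * y * b⁻¹) * b⁻¹ ≠ t := fun e => h2 (by
      have e' : b * (b * y * b⁻¹) * b⁻¹ = b * t * b⁻¹ := e.trans hut.symm
      exact mul_left_cancel (mul_right_cancel e'))
    have h5 : b * (b * y * b⁻¹) * b⁻¹ ≠ b * y * b⁻¹ := fun e =>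
      hne (mul_left_cancel (mul_right_cancel e))
    exact three_rest (S : Subgroup G) hSc htS ht1 hyS' hy hzS h1 h2 hy1 hyt h3 h4 hne h5
  have hSinv : ∀ y ∈ (S : Subgroup G), y ≠ 1 → IsConj t y := by
    intro y hy hy1
    by_cases hyt : y = t
    · rw [hyt]
    rcases hSelem y hy hy1 hyt hu_ne with e | e
    · rw [e]; exact isConj_iff.2 ⟨b, rfl⟩
    · have hv : b * u * b⁻¹ = t * u := by
        have hv1 : b * u * b⁻¹ ≠ 1 := fun e' => by
          have := conj_eq_one_iff.1 e'
          simp [this] at hu2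
        have hv2 : b * u * b⁻¹ ≠ t := fun e' => hu_ne (hbfix t (by rw [← hudef]; exact e'))
        rcases hSelem _ (hbN u huS) hv1 hv2 hu_ne with e' | e'
        · exact absurd (mul_left_cancel (mul_right_cancel (e'.trans hudef))) hu_ne
        · exact e'
      rw [e, ← hv]
      refine isConj_iff.2 ⟨b * b, ?_⟩
      rw [hudef]; group
  have hinv : ∀ w : G, orderOf w = 2 → IsConj t w := by
    intro w hw
    obtain ⟨T, hT⟩ := (IsPGroup.of_card (G := Subgroup.zpowers w) (n := 1)
      (by rw [Nat.card_zpowers, hw, pow_one])).exists_le_sylow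
    obtain ⟨q, hq⟩ := MulAction.exists_smul_eq G S T
    have hwT := hT (Subgroup.mem_zpowers w)
    rw [← hq] at hwT
    obtain ⟨y, hy, hyw⟩ := hwT
    have hy1 : y ≠ 1 := fun e => by
      have h1 : q * y * q⁻¹ = w := hyw
      rw [e, mul_one, mul_inv_cancel] at h1
      rw [← h1, orderOf_one] at hw
      omega
    exact (hSinv y hy hy1).trans (isConj_iff.2 ⟨q, hyw⟩)
  -- `u` inverts `C`
  have huD : u ∈ D := hSV huS
  have huu : u * u = 1 := (hSone u huS).1
  have hfix : ∀ x ∈ (P : Subgroup G), u * x = x * u → x = 1 := by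
    intro x hx hxu
    by_contra hx1
    have hcu : b⁻¹ * x * b ∈ D := by
      rw [← hDt, Subgroup.mem_centralizer_singleton_iff]
      calc b⁻¹ * x * b * t = b⁻¹ * (x * u) * b := by rw [hudef]; group
        _ = b⁻¹ * (u * x) * b := by rw [hxu]
        _ = _ := by rw [hudef]; group
    have hP' : b⁻¹ * x * b ∈ (P : Subgroup G) := by
      refine CfsgLib.FGS.mem_of_mem_normalizer P ?_ hcu
      obtain ⟨i, hi⟩ := IsPGroup.iff_orderOf.1 P.isPGroup' ⟨x, hx⟩
      refine ⟨i, ?_⟩
      rw [Subgroup.orderOf_mk] at hi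
      rw [← hi]
      simpa using MulEquiv.orderOf_eq (MulAut.conj b⁻¹) x
    have hbD : b⁻¹ ∈ D := by
      by_contra hb
      exact hx1 (hTI' b⁻¹ hb x (hPC hx) (by rw [inv_inv]; exact hPC hP'))
    refine hu_ne ?_
    have hbD' : b ∈ D := by simpa using inv_mem hbD
    rw [hudef, mul_inv_eq_iff_eq_mul]
    exact Subgroup.mem_centralizer_singleton_iff.1 (hDt.ge hbD')
  have huC : u ∉ C := by
    intro hmem
    rcases huniq u hmem huu with e | e
    · simp [e] at hu2
    · exact hu_ne e
  have hinvP : ∀ x ∈ (P : Subgroup G), u * x * u⁻¹ = x⁻¹ := by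
    refine CfsgLib.Solvable.conj_eq_inv_of_fpf (H := Subgroup.zpowers u) (K := (P : Subgroup G))
      (Subgroup.zpowers_le.2 huD) (fun a ha ha1 => ?_) (Subgroup.mem_zpowers u) hu2
    refine (Subgroup.eq_bot_iff_forall _).2 fun x hx => hfix x hx.1 ?_
    have ha2 : a = u := by
      obtain ⟨j, rfl⟩ := ha
      rcases Int.even_or_odd j with ⟨i, rfl⟩ | ⟨i, rfl⟩
      · exact absurd (by
          show u ^ (i + i) = 1
          rw [← two_mul, zpow_mul, zpow_two, huu, one_zpow]) ha1
      · show u ^ (2 * i + 1) = u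
        rw [zpow_add, zpow_mul, zpow_two, huu, one_zpow, one_mul, zpow_one]
    rw [← ha2]
    exact (Subgroup.mem_centralizer_singleton_iff.1 hx.2).symm
  have hinvC : ∀ c ∈ C, u * c * u⁻¹ = c⁻¹ := by
    intro c hc
    obtain ⟨x, hx, e⟩ := hCdec c hc
    have hut : u * t * u⁻¹ = t := mul_inv_eq_iff_eq_mul.2
      (Subgroup.mem_centralizer_singleton_iff.1 (hDt.ge huD))
    rcases e with rfl | rfl
    · exact hinvP _ hx
    · calc u * (x * t) * u⁻¹ = (u * x * u⁻¹) * (u * t * u⁻¹) := by group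
        _ = x⁻¹ * t⁻¹ := by rw [hinvP x hx, hut, inv_eq_of_mul_eq_one_right htt]
        _ = (t * x)⁻¹ := by group
        _ = (x * t)⁻¹ := by rw [(hPt x hx).eq]
  have hout : ∀ x ∈ D, x ∉ C → x * x = 1 ∧ ∀ c ∈ C, x * c * x⁻¹ = c⁻¹ := by
    intro x hx hxC
    have hidx : (C.subgroupOf D).index = 2 := by
      have h1 := (C.subgroupOf D).index_mul_card
      rw [Nat.card_congr (Subgroup.subgroupOfEquivOfLe hCD).toEquiv, hCc, hDc] at h1
      exact Nat.eq_of_mul_eq_mul_right (by omega : 0 < 2 * h) (by rw [h1]; ring)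
    have hcC : x * u ∈ C := (Subgroup.mul_mem_iff_of_index_two hidx (a := (⟨x, hx⟩ : D)) (b := ⟨u, huD⟩)).2
      (iff_of_false hxC huC)
    set e := x * u with he
    have hxe : x = e * u := by rw [he, mul_assoc, huu, mul_one]
    refine ⟨?_, fun c hc => ?_⟩
    · calc x * x = e * (u * e * u⁻¹) * (u * u) := by rw [hxe]; group
        _ = 1 := by rw [hinvC e hcC, huu, mul_inv_cancel, one_mul]
    · calc x * c * x⁻¹ = e * (u * c * u⁻¹) * e⁻¹ := by rw [hxe]; group
        _ = e * c⁻¹ * e⁻¹ := by rw [hinvC c hc]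
        _ = c⁻¹ := by rw [hcommC e hcC _ (inv_mem hc), mul_inv_cancel_right]
  have hCent : ∀ c ∈ C, c ≠ 1 → c ≠ t → Subgroup.centralizer ({c} : Set G) = C := by
    intro c hc hc1 hct
    have hle : C ≤ Subgroup.centralizer ({c} : Set G) := fun y hy =>
      Subgroup.mem_centralizer_singleton_iff.2 (hcommC y hy c hc)
    have hnD : ∀ x : G, x * c = c * x → x ∈ D := by
      intro x hx
      by_contra hxD
      refine hc1 (hTI' x hxD c hc ?_)
      rwa [hx, mul_inv_cancel_right]
    refine le_antisymm (fun x hx => by_contra fun hxC => ?_) hle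
    have hxc := Subgroup.mem_centralizer_singleton_iff.1 hx
    have h1 := (hout x (hnD x hxc) hxC).2 c hc
    rw [hxc, mul_inv_cancel_right] at h1
    rcases huniq c hc (mul_eq_one_iff_eq_inv.2 h1) with e | e
    · exact hc1 e
    · exact hct e
  have hdih : ∀ a : G, a ≠ 1 → t * a * t⁻¹ = a⁻¹ → Odd (orderOf a) → ∃ g : G, g⁻¹ * a * g ∈ C := by
    intro a ha1 hta hodd
    set M := Subgroup.zpowers a ⊔ Subgroup.zpowers t with hM
    have hMn : M ≤ Subgroup.normalizer (Subgroup.zpowers a : Set G) := by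
      refine sup_le Subgroup.le_normalizer (Subgroup.zpowers_le.2
        (CfsgLib.Solvable.mem_normalizer_of_conj_mem fun y hy => ?_))
      obtain ⟨j, rfl⟩ := hy
      show t * a ^ j * t⁻¹ ∈ _
      rw [← conj_zpow, hta]
      exact Subgroup.zpow_mem _ (inv_mem (Subgroup.mem_zpowers a)) j
    have hMtop : M ≠ ⊤ := by
      intro e
      haveI : (Subgroup.zpowers a).Normal :=
        Subgroup.normalizer_eq_top_iff.1 (eq_top_iff.2 (e ▸ hMn))
      rcases IsSimpleGroup.eq_bot_or_eq_top_of_normal (Subgroup.zpowers a) inferInstance with e1 | e1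
      · exact ha1 (Subgroup.zpowers_eq_bot.1 e1)
      · refine hnsolv (Group.isSolvable_of_comm fun x y => ?_)
        obtain ⟨i, rfl⟩ : x ∈ Subgroup.zpowers a := e1 ▸ Subgroup.mem_top x
        obtain ⟨j, rfl⟩ : y ∈ Subgroup.zpowers a := e1 ▸ Subgroup.mem_top y
        exact (Commute.zpow_zpow (Commute.refl a) i j).eq
    have h2 : 2 ∣ Nat.card M := ht2 ▸
      Subgroup.orderOf_dvd_natCard M (Subgroup.mem_sup_right (Subgroup.mem_zpowers t))
    have ha4 : orderOf a ∣ 4 * h :=
      (Subgroup.orderOf_dvd_natCard M (Subgroup.mem_sup_left (Subgroup.mem_zpowers a))).trans (hcsub M hMtop h2)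
    have hah : orderOf a ∣ 3 ^ k := by
      have hco : (orderOf a).Coprime 4 := by
        have := (Nat.coprime_two_right.2 hodd).pow_right 2
        simpa using this
      exact hk ▸ hco.dvd_of_dvd_mul_left ha4
    obtain ⟨i, -, hi⟩ := (Nat.dvd_prime_pow Nat.prime_three).1 hah
    obtain ⟨Q, hQ⟩ := (CfsgLib.FGS.isPGroup_zpowers hi).exists_le_sylow
    obtain ⟨q, hq⟩ := MulAction.exists_smul_eq G P Q
    have haQ := hQ (Subgroup.mem_zpowers a)
    rw [← hq] at haQ
    obtain ⟨y, hy, hya⟩ := haQ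
    refine ⟨q, hPC ?_⟩
    have : q * y * q⁻¹ = a := hya
    rwa [show q⁻¹ * a * q = y by rw [← this]; group]
  -- the linear character
  letI : CommGroup C := { (inferInstance : Group C) with
    mul_comm := fun x y => Subtype.ext (hcommC x x.2 y y.2) }
  set T := Subgroup.zpowers t' with hT
  obtain ⟨x₁, hx₁, hx₁1⟩ : ∃ x ∈ (P : Subgroup G), x ≠ 1 := by
    by_contra hno
    push Not at hno
    have : h = 1 := by rw [hh, (Subgroup.eq_bot_iff_forall _).2 hno, Subgroup.card_bot]
    omega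
  have hx₁T : QuotientGroup.mk' T (⟨x₁, hPC hx₁⟩ : C) ≠ 1 := by
    intro e
    rw [QuotientGroup.mk'_apply, QuotientGroup.eq_one_iff] at e
    obtain ⟨j, hj⟩ := e
    have hj' : t ^ j = x₁ := congrArg Subtype.val hj
    have hxt : orderOf x₁ ∣ 2 := ht2 ▸ orderOf_dvd_of_mem_zpowers ⟨j, hj'⟩
    exact hx₁1 (orderOf_eq_one_iff.1 (Nat.eq_one_of_dvd_coprimes (Nat.coprime_two_left.2 hhodd) hxt
      (Subgroup.orderOf_dvd_natCard _ hx₁)))
  obtain ⟨φ, hφ⟩ := CommGroup.exists_apply_ne_one_of_hasEnoughRootsOfUnity (C ⧸ T) ℂ hx₁T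
  set μ : C →* ℂˣ := φ.comp (QuotientGroup.mk' T) with hμdef
  refine CfsgLib.FGS.dihedralTI_false hh1 hCD hCc hDc hcommC htC ht2 hDt hout huniq hCent hTI' hinv hdih μ ?_
    ⟨x₁, hPC hx₁⟩ ?_
  · rw [hμdef, MonoidHom.comp_apply, QuotientGroup.mk'_apply,
      (QuotientGroup.eq_one_iff _).2 (show (⟨t, htC⟩ : C) ∈ T from Subgroup.mem_zpowers t'), map_one]
  · intro e
    refine hφ ?_
    have h2 : orderOf (μ ⟨x₁, hPC hx₁⟩) ∣ 2 := orderOf_dvd_of_pow_eq_one (by rw [pow_two]; exact e)
    have h3 : orderOf (μ ⟨x₁, hPC hx₁⟩) ∣ h :=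
      (orderOf_map_dvd μ _).trans (by rw [Subgroup.orderOf_mk]; exact Subgroup.orderOf_dvd_natCard _ hx₁)
    exact orderOf_eq_one_iff.1 (Nat.eq_one_of_dvd_coprimes (Nat.coprime_two_left.2 hhodd) h2 h3)

end Cfsg.Agent.S4018
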