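import Cfsg.Statements.S4022
import Cfsg.Agent.Lib.Solvable.SchurZassenhaus
import Cfsg.Agent.Lib.Solvable.Basic

set_option autoImplicit false
open Cfsg

namespace Cfsg.Agent.S4022

open Subgroup
open scoped Pointwise

universe u

theorem exists_minimal_normal {G : Type u} [Group G] [Finite G] [Nontrivial G] [Group.IsSolvable G] :
    ∃ (N : Subgroup G) (p : ℕ), N.Normal ∧ N ≠ ⊥ ∧ p.Prime ∧ IsPGroup p N := by
  obtain ⟨k, hk⟩ := Group.IsSolvable.solvable (G := G)
  classical
  have hex : ∃ k, derivedSeries G k = ⊥ := ⟨k, hk⟩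
  have h1 := Nat.find_spec hex
  rcases hf : Nat.find hex with _ | j
  · rw [hf, derivedSeries_zero] at h1
    exact absurd h1 top_ne_bot
  rw [hf] at h1
  set A := derivedSeries G j with hA
  have hA1 : A ≠ ⊥ := Nat.find_min hex (by omega)
  have hcomm : ∀ x ∈ A, ∀ y ∈ A, x * y = y * x := fun x hx y hy => by
    have h2 := commutator_mem_commutator hx hy
    rw [hA, ← derivedSeries_succ, h1, mem_bot] at h2
    exact commutatorElement_eq_one_iff_mul_comm.1 h2
  obtain ⟨p, hp, hpA⟩ := Nat.exists_prime_and_dvd (fun h : Nat.card A = 1 => hA1 (card_eq_one.1 h))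
  have := Fact.mk hp
  obtain ⟨P⟩ : Nonempty (Sylow p A) := inferInstance
  have : IsMulCommutative A := ⟨⟨fun x y => Subtype.ext (hcomm x x.2 y y.2)⟩⟩
  have : (P : Subgroup A).Characteristic := P.characteristic_of_normal inferInstance
  refine ⟨(P : Subgroup A).map A.subtype, p, inferInstance, ?_, hp, P.2.map _⟩
  rw [Ne, map_eq_bot_iff_of_injective _ A.subtype_injective]
  exact P.ne_bot_of_dvd_card hpA

theorem conj_of_map_eq {G : Type u} [Group G] (N : Subgroup G) [N.Normal] {H K : Subgroup G} {g : G}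
    (h : K.map (QuotientGroup.mk' N) = (H.map (QuotientGroup.mk' N)).map (MulAut.conj (g : G ⧸ N)).toMonoidHom) :
    K ⊔ N = H.map (MulAut.conj g).toMonoidHom ⊔ N := by
  have h1 : (H.map (MulAut.conj g).toMonoidHom).map (QuotientGroup.mk' N) =
      (H.map (QuotientGroup.mk' N)).map (MulAut.conj (g : G ⧸ N)).toMonoidHom := by
    rw [Subgroup.map_map, Subgroup.map_map]
    congr 1
  rw [← h1] at h
  have h2 := congrArg (comap (QuotientGroup.mk' N)) h
  rwa [comap_map_eq, comap_map_eq, QuotientGroup.ker_mk'] at h2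

theorem card_map_mk' {G : Type u} [Group G] [Finite G] (N : Subgroup G) [N.Normal] {H : Subgroup G} (h : N ≤ H) :
    Nat.card (H.map (QuotientGroup.mk' N)) * Nat.card N = Nat.card H := by
  have e := QuotientGroup.quotientKerEquivRange ((QuotientGroup.mk' N).comp H.subtype)
  have hr : ((QuotientGroup.mk' N).comp H.subtype).range = H.map (QuotientGroup.mk' N) := by
    rw [MonoidHom.range_eq_map, ← Subgroup.map_map, ← MonoidHom.range_eq_map, Subgroup.range_subtype]
  have hk : Nat.card ((QuotientGroup.mk' N).comp H.subtype).ker = Nat.card N := by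
    have : ((QuotientGroup.mk' N).comp H.subtype).ker = N.subgroupOf H := by
      ext x; simp [mem_subgroupOf]
    rw [this, Nat.card_congr (subgroupOfEquivOfLe h).toEquiv]
  rw [← hr, ← hk, ← Nat.card_congr e.toEquiv, ← card_eq_card_quotient_mul_card_subgroup]

theorem cyclic_quot {G : Type u} [Group G] [Finite G] (N : Subgroup G) [N.Normal] {q : ℕ} [Fact q.Prime]
    (h : ∀ P : Sylow q G, IsCyclic P) (Q : Sylow q (G ⧸ N)) : IsCyclic Q := by
  obtain ⟨P, rfl⟩ := Sylow.mapSurjective_surjective (QuotientGroup.mk'_surjective N) q Q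
  have := h P
  rw [Sylow.coe_mapSurjective]
  exact isCyclic_of_surjective _ ((QuotientGroup.mk' N).subgroupMap_surjective P)

theorem cyclic_sub {G : Type u} [Group G] [Finite G] (M : Subgroup G) {q : ℕ} [Fact q.Prime]
    (h : ∀ P : Sylow q G, IsCyclic P) (Q : Sylow q M) : IsCyclic Q := by
  obtain ⟨P, hP⟩ := (Q.2.map M.subtype).exists_le_sylow
  have := h P
  have : IsCyclic ((Q : Subgroup M).map M.subtype) := Subgroup.isCyclic_of_le hP
  exact ((Q : Subgroup M).equivMapOfInjective M.subtype M.subtype_injective).isCyclic.2 this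

theorem eq_of_card_of_cyclic {P : Type u} [Group P] [Finite P] [IsCyclic P] {A B : Subgroup P}
    (h : Nat.card A = Nat.card B) : A = B := by
  classical
  have := Fintype.ofFinite P
  have key : ∀ C : Subgroup P, Nat.card C = Nat.card A →
      (C : Set P).toFinset = Finset.univ.filter fun x : P => x ^ Nat.card A = 1 := by
    intro C hC
    refine Finset.eq_of_subset_of_card_le (fun x hx => ?_) ?_
    · refine Finset.mem_filter.2 ⟨Finset.mem_univ _, ?_⟩
      rw [← hC]
      exact congrArg Subtype.val (pow_card_eq_one' (x := (⟨x, Set.mem_toFinset.1 hx⟩ : C)))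
    · refine (IsCyclic.card_pow_eq_one_le Nat.card_pos).trans_eq ?_
      rw [Set.toFinset_card, ← Nat.card_eq_fintype_card]
      exact hC.symm
  exact SetLike.coe_injective (Set.toFinset_inj.1 ((key A rfl).trans (key B h.symm).symm))

/-- Equal order `p`-subgroups are conjugate when the Sylow `p`-subgroups are cyclic. -/
theorem conj_of_cyclic {G : Type u} [Group G] [Finite G] {p : ℕ} [Fact p.Prime] (h : ∀ P : Sylow p G, IsCyclic P)
    {A B : Subgroup G} (hA : IsPGroup p A) (hB : IsPGroup p B) (hAB : Nat.card A = Nat.card B) :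
    ∃ g : G, B = A.map (MulAut.conj g).toMonoidHom := by
  obtain ⟨P, hP⟩ := hA.exists_le_sylow
  obtain ⟨Q, hQ⟩ := hB.exists_le_sylow
  obtain ⟨g, hg⟩ := MulAction.exists_smul_eq G P Q
  refine ⟨g, ?_⟩
  have hle : A.map (MulAut.conj g).toMonoidHom ≤ Q := by
    rw [← hg]
    rintro _ ⟨x, hx, rfl⟩
    exact ⟨x, hP hx, rfl⟩
  have := h Q
  have h1 : B.subgroupOf Q = (A.map (MulAut.conj g).toMonoidHom).subgroupOf Q := eq_of_card_of_cyclic (by
    rw [Nat.card_congr (subgroupOfEquivOfLe hQ).toEquiv, Nat.card_congr (subgroupOfEquivOfLe hle).toEquiv,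
      card_map_of_injective (MulAut.conj g).injective, hAB])
  have e := subgroupOf_inj.1 h1
  rwa [inf_eq_left.2 hQ, inf_eq_left.2 hle] at e

theorem normal_map_conj {G : Type u} [Group G] (A : Subgroup G) [hA : A.Normal] (g : G) :
    A.map (MulAut.conj g).toMonoidHom = A :=
  le_antisymm (by rintro _ ⟨x, hx, rfl⟩; exact hA.conj_mem x hx g)
    fun x hx => ⟨g⁻¹ * x * g, hA.conj_mem' x hx g, by simp [mul_assoc]⟩

/-- Conjugacy of subgroups of order `n` when the Sylow subgroups are cyclic at all primes dividing `n` except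
possibly `r`, where subgroups of equal order are conjugate. -/
theorem conj_of_card (N₀ : ℕ) : ∀ {G : Type u} [Group G] [Finite G], Nat.card G ≤ N₀ → Group.IsSolvable G →
    ∀ (r n : ℕ), (∀ p : ℕ, p.Prime → p ∣ n → p ≠ r → ∀ P : Sylow p G, IsCyclic P) →
    (¬ r ∣ n ∨ (r.Prime ∧ ∀ H K : Subgroup G, IsPGroup r H → IsPGroup r K → Nat.card H = Nat.card K →
      ∃ g : G, K = H.map (MulAut.conj g).toMonoidHom)) →
    ∀ H K : Subgroup G, Nat.card H = n → Nat.card K = n → ∃ g : G, K = H.map (MulAut.conj g).toMonoidHom := by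
  induction N₀ with
  | zero =>
    intro G _ _ h
    exact absurd h (not_le.2 Nat.card_pos)
  | succ N₀ ih =>
  intro G _ _ hcard hs r n hcyc hD H K hH hK
  rcases subsingleton_or_nontrivial G with hG | hG
  · exact ⟨1, Subsingleton.elim _ _⟩
  obtain ⟨N, p, hN, hN1, hp, hNp⟩ := exists_minimal_normal (G := G)
  have := Fact.mk hp
  have hsmall : ∀ (M : Subgroup G) [M.Normal], M ≠ ⊥ → Nat.card (G ⧸ M) ≤ N₀ := fun M _ hM => by
    have h1 := card_eq_card_quotient_mul_card_subgroup M
    have h2 : 0 < Nat.card (G ⧸ M) := Nat.card_pos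
    have h3 : 1 < Nat.card M := (one_lt_card_iff_ne_bot M).2 hM
    nlinarith
  -- the hypothesis on `r` passes to quotients
  have hDq : ∀ (M : Subgroup G) [M.Normal], r.Prime → (∀ H K : Subgroup G, IsPGroup r H → IsPGroup r K →
      Nat.card H = Nat.card K → ∃ g : G, K = H.map (MulAut.conj g).toMonoidHom) →
      ∀ A B : Subgroup (G ⧸ M), IsPGroup r A → IsPGroup r B → Nat.card A = Nat.card B →
      ∃ g : G ⧸ M, B = A.map (MulAut.conj g).toMonoidHom := by
    intro M _ hr hD A B hA hB hAB
    have := Fact.mk hr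
    obtain ⟨a⟩ : Nonempty (Sylow r (A.comap (QuotientGroup.mk' M))) := inferInstance
    obtain ⟨b⟩ : Nonempty (Sylow r (B.comap (QuotientGroup.mk' M))) := inferInstance
    have himg : ∀ {C : Subgroup (G ⧸ M)}, IsPGroup r C → ∀ c : Sylow r (C.comap (QuotientGroup.mk' M)),
        ((c : Subgroup _).map (C.comap (QuotientGroup.mk' M)).subtype).map (QuotientGroup.mk' M) = C := by
      intro C hC c
      let f := (QuotientGroup.mk' M).subgroupComap C
      have hf : Function.Surjective f :=
        MonoidHom.subgroupComap_surjective_of_surjective _ C (QuotientGroup.mk'_surjective M)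
      have h1 : (c.mapSurjective hf : Subgroup C) = ⊤ := ((c.mapSurjective hf).3 (hC.to_subgroup ⊤) le_top).symm
      have h2 := congrArg (Subgroup.map C.subtype) h1
      rw [Sylow.coe_mapSurjective, Subgroup.map_map, ← MonoidHom.range_eq_map, range_subtype] at h2
      rw [Subgroup.map_map]
      exact h2
    have hcardc : ∀ C : Subgroup (G ⧸ M), Nat.card (C.comap (QuotientGroup.mk' M)) = Nat.card C * Nat.card M := by
      intro C
      rw [← card_map_mk' M (H := C.comap (QuotientGroup.mk' M)) (QuotientGroup.le_comap_mk' M C),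
        map_comap_eq_self_of_surjective (QuotientGroup.mk'_surjective M)]
    obtain ⟨g, hg⟩ := hD _ _ (a.2.map (A.comap (QuotientGroup.mk' M)).subtype)
      (b.2.map (B.comap (QuotientGroup.mk' M)).subtype) (by
        rw [card_map_of_injective (subtype_injective _), card_map_of_injective (subtype_injective _),
          a.card_eq_multiplicity, b.card_eq_multiplicity, hcardc, hcardc, hAB])
    refine ⟨g, ?_⟩
    rw [← himg hA a, ← himg hB b, hg]
    simp only [Subgroup.map_map]
    congr 1
  have hstep : ∀ (M : Subgroup G) [M.Normal], M ≠ ⊥ → M ≤ H → M ≤ K →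
      ∃ g : G, K = H.map (MulAut.conj g).toMonoidHom := by
    intro M hM hM1 hMH hMK
    have hd : Nat.card (H.map (QuotientGroup.mk' M)) ∣ n := hH ▸ card_map_mk' M hMH ▸ dvd_mul_right _ _
    obtain ⟨g', hg⟩ := ih (hsmall M hM1) inferInstance r (Nat.card (H.map (QuotientGroup.mk' M)))
      (fun q hq hqn hqr => by have := Fact.mk hq; exact cyclic_quot M (hcyc q hq (hqn.trans hd) hqr))
      (hD.imp (fun h h' => h (h'.trans hd)) fun h => ⟨h.1, hDq M h.1 h.2⟩)
      (H.map (QuotientGroup.mk' M)) (K.map (QuotientGroup.mk' M)) rfl (by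
        apply Nat.eq_of_mul_eq_mul_right (Nat.card_pos (α := M))
        rw [card_map_mk' M hMH, card_map_mk' M hMK, hH, hK])
    obtain ⟨g, rfl⟩ := QuotientGroup.mk_surjective g'
    have h1 := conj_of_map_eq M hg
    rw [sup_eq_left.2 hMK, sup_eq_left.2 (fun x hx =>
      ⟨g⁻¹ * x * g, hMH (hM.conj_mem' x hx g), by simp [mul_assoc]⟩)] at h1
    exact ⟨g, h1⟩
  by_cases hpn : p ∣ n
  swap
  · -- complements of `N`
    have hco : ∀ {B : Subgroup G}, Nat.card B = n → (Nat.card N).Coprime (Nat.card B) := fun {B} hB => by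
      obtain ⟨k, hk⟩ := IsPGroup.iff_card.1 hNp
      rw [hk, hB]
      exact ((hp.coprime_iff_not_dvd).2 hpn).pow_left k
    have hdisj : ∀ {B : Subgroup G}, Nat.card B = n → N ⊓ B = ⊥ := fun {B} hB => inf_eq_bot_of_coprime (hco hB)
    have hmk : ∀ {B : Subgroup G}, Nat.card B = n → Nat.card (B.map (QuotientGroup.mk' N)) = n := fun {B} hB => by
      have hr : ((QuotientGroup.mk' N).comp B.subtype).range = B.map (QuotientGroup.mk' N) := by
        rw [MonoidHom.range_eq_map, ← Subgroup.map_map, ← MonoidHom.range_eq_map, Subgroup.range_subtype]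
      rw [← hr, ← hB]
      refine (Nat.card_congr (MonoidHom.ofInjective (f := (QuotientGroup.mk' N).comp B.subtype) ?_).toEquiv).symm
      rw [← MonoidHom.ker_eq_bot_iff, eq_bot_iff_forall]
      intro x hx
      have h1 : (x : G) ∈ N ⊓ B := ⟨(QuotientGroup.eq_one_iff _).1 (MonoidHom.mem_ker.1 hx), x.2⟩
      rw [hdisj hB, mem_bot] at h1
      exact Subtype.ext h1
    obtain ⟨g', hg⟩ := ih (hsmall N hN1) inferInstance r n
      (fun q hq hqn hqr => by have := Fact.mk hq; exact cyclic_quot N (hcyc q hq hqn hqr))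
      (hD.imp_right fun h => ⟨h.1, hDq N h.1 h.2⟩)
      (H.map (QuotientGroup.mk' N)) (K.map (QuotientGroup.mk' N)) (hmk hH) (hmk hK)
    obtain ⟨g, rfl⟩ := QuotientGroup.mk_surjective g'
    have h1 := conj_of_map_eq N hg
    set H' := H.map (MulAut.conj g).toMonoidHom with hH'def
    have hH' : Nat.card H' = n := by rw [hH'def, card_map_of_injective (MulAut.conj g).injective, hH]
    have hle : K ≤ N ⊔ H' := by rw [sup_comm, ← h1]; exact le_sup_left
    obtain ⟨k, -, hk⟩ := CfsgLib.Solvable.exists_conj_le N H' K le_normalizer_of_normal (hdisj hH') hle (hco hK)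
      (Or.inl inferInstance)
    have h2 : MulAut.conj k • K = H' := eq_of_le_of_card_ge hk (by
      rw [CfsgLib.Solvable.card_conj_smul, hK, hH'])
    refine ⟨k⁻¹ * g, ?_⟩
    have h3 : K = MulAut.conj k⁻¹ • H' := by rw [← h2, smul_smul, ← map_mul, inv_mul_cancel, map_one, one_smul]
    rw [h3, hH'def]
    ext x
    simp only [CfsgLib.Solvable.mem_conj_smul_iff, mem_map_equiv, MulAut.conj_symm_apply, inv_inv, mul_inv_rev]
    simp [mul_assoc]
  -- conjugacy of `p`-subgroups
  by_cases hpr : p ≠ r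
  · have hc := hcyc p hp hpn hpr
    obtain ⟨A, hAN, hA⟩ : ∃ A : Subgroup G, A ≤ N ∧ Nat.card A = p := by
      obtain ⟨k, hk⟩ := IsPGroup.iff_card.1 hNp
      have hk0 : k ≠ 0 := fun h => hN1 (card_eq_one.1 (by rw [hk, h, pow_zero]))
      obtain ⟨A, hA⟩ := Sylow.exists_subgroup_card_pow_prime (G := N) p (n := 1) (by rw [hk]; exact pow_dvd_pow p (Nat.one_le_iff_ne_zero.2 hk0))
      exact ⟨A.map N.subtype, map_subtype_le A, by rw [card_map_of_injective N.subtype_injective, hA, pow_one]⟩
    have hAp : IsPGroup p A := IsPGroup.of_card (n := 1) (by rw [hA, pow_one])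
    have hAn : A.Normal := ⟨fun x hx g => by
      obtain ⟨P, hP⟩ := hNp.exists_le_sylow
      have := hc P
      have hle : A.map (MulAut.conj g).toMonoidHom ≤ N := by
        rintro _ ⟨y, hy, rfl⟩
        exact hN.conj_mem y (hAN hy) g
      have : IsCyclic N := Subgroup.isCyclic_of_le hP
      have h1 : (A.map (MulAut.conj g).toMonoidHom).subgroupOf N = A.subgroupOf N := eq_of_card_of_cyclic (by
        rw [Nat.card_congr (subgroupOfEquivOfLe hle).toEquiv, Nat.card_congr (subgroupOfEquivOfLe hAN).toEquiv,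
          card_map_of_injective (MulAut.conj g).injective])
      have h2 : (⟨g * x * g⁻¹, hN.conj_mem x (hAN hx) g⟩ : N) ∈ (A.map (MulAut.conj g).toMonoidHom).subgroupOf N :=
        mem_subgroupOf.2 ⟨x, hx, rfl⟩
      rw [h1] at h2
      exact mem_subgroupOf.1 h2⟩
    have hin : ∀ {B : Subgroup G}, Nat.card B = n → A ≤ B := fun {B} hB => by
      obtain ⟨x, hx⟩ := exists_prime_orderOf_dvd_card' p (hB ▸ hpn : p ∣ Nat.card B)
      have hz : Nat.card (zpowers (x : G)) = p := by rw [Nat.card_zpowers, orderOf_coe, hx]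
      obtain ⟨g, hg⟩ := conj_of_cyclic hc hAp (IsPGroup.of_card (n := 1) (by rw [hz, pow_one])) (hA.trans hz.symm)
      have : A.map (MulAut.conj g).toMonoidHom = A := normal_map_conj A g
      rw [this] at hg
      rw [← hg]
      exact zpowers_le.2 x.2
    exact hstep A (fun e => hp.ne_one (by rw [← hA, e, card_bot])) (hin hH) (hin hK)
  push Not at hpr
  subst hpr
  obtain ⟨-, hDp⟩ := hD.resolve_left (not_not.2 hpn)
  obtain ⟨b, hb⟩ := IsPGroup.iff_card.1 hNp
  by_cases hba : p ^ b ∣ n
  · have hin : ∀ {B : Subgroup G}, Nat.card B = n → N ≤ B := fun {B} hB => by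
      obtain ⟨A, hA⟩ := Sylow.exists_subgroup_card_pow_prime (G := B) p (n := b) (hB ▸ hba)
      have hA' : Nat.card (A.map B.subtype) = p ^ b := by rw [card_map_of_injective B.subtype_injective, hA]
      obtain ⟨g, hg⟩ := hDp N (A.map B.subtype) hNp (IsPGroup.of_card hA') (hb.trans hA'.symm)
      rw [normal_map_conj N g] at hg
      exact hg ▸ map_subtype_le A
    exact hstep N hN1 (hin hH) (hin hK)
  -- the `p`-parts of `H` and `K` lie in `N`
  have hpart : ∀ {B : Subgroup G}, Nat.card B = n → Nat.card (B ⊓ N : Subgroup G) = p ^ n.factorization p := by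
    intro B hB
    obtain ⟨P⟩ : Nonempty (Sylow p B) := inferInstance
    have hPc : Nat.card ((P : Subgroup B).map B.subtype) = p ^ n.factorization p := by
      rw [card_map_of_injective B.subtype_injective, P.card_eq_multiplicity, hB]
    have hlt : n.factorization p ≤ b := by
      by_contra hlt
      exact hba ((pow_dvd_pow p (le_of_lt (not_le.1 hlt))).trans (Nat.ordProj_dvd n p))
    obtain ⟨A, hA⟩ := Sylow.exists_subgroup_card_pow_prime (G := N) p (n := n.factorization p) (hb ▸ pow_dvd_pow p hlt)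
    have hA' : Nat.card (A.map N.subtype) = p ^ n.factorization p := by
      rw [card_map_of_injective N.subtype_injective, hA]
    obtain ⟨g, hg⟩ := hDp _ _ (IsPGroup.of_card hA') (P.2.map B.subtype) (hA'.trans hPc.symm)
    have hPN : (P : Subgroup B).map B.subtype ≤ B ⊓ N := le_inf (map_subtype_le _) (by
      rw [hg]
      rintro _ ⟨y, hy, rfl⟩
      exact hN.conj_mem y (map_subtype_le A hy) g)
    refine le_antisymm ?_ (hPc ▸ Nat.le_of_dvd Nat.card_pos (card_dvd_of_le hPN))
    obtain ⟨c, hc'⟩ := IsPGroup.iff_card.1 (hNp.to_le (inf_le_right : B ⊓ N ≤ N))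
    rw [hc']
    refine Nat.pow_le_pow_right hp.pos ((hp.pow_dvd_iff_le_factorization ?_).1 ?_)
    · rw [← hB]; exact Nat.card_pos.ne'
    · rw [← hc', ← hB]; exact card_dvd_of_le inf_le_left
  obtain ⟨g, hg⟩ := hDp _ _ (hNp.to_le inf_le_right) (hNp.to_le inf_le_right) ((hpart hH).trans (hpart hK).symm)
  set H' := H.map (MulAut.conj g).toMonoidHom with hH'def
  have hH' : Nat.card H' = n := by rw [hH'def, card_map_of_injective (MulAut.conj g).injective, hH]
  have hR : K ⊓ N = H' ⊓ N := by
    rw [hg, map_inf_eq H N _ (MulAut.conj g).injective, normal_map_conj N g]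
  set R := K ⊓ N with hRdef
  have hnorm : ∀ {B : Subgroup G}, B ⊓ N = R → B ≤ normalizer (R : Set G) := fun {B} hBR x hx => by
    have key : ∀ y ∈ B, ∀ w ∈ R, y * w * y⁻¹ ∈ R := fun y hy w hw => by
      rw [← hBR] at hw ⊢
      exact ⟨B.mul_mem (B.mul_mem hy hw.1) (B.inv_mem hy), hN.conj_mem w hw.2 y⟩
    refine mem_normalizer_iff.2 fun w => ⟨key x hx w, fun h => ?_⟩
    simpa [mul_assoc] using key x⁻¹ (inv_mem hx) _ h
  set M := normalizer (R : Set G) with hM
  have hRK : R ≤ K := inf_le_left
  have hRH : R ≤ H' := hR ▸ inf_le_left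
  let R' := R.subgroupOf M
  have hR'n : R'.Normal := normal_in_normalizer
  have hR'c : Nat.card R' = p ^ n.factorization p := by
    rw [Nat.card_congr (subgroupOfEquivOfLe le_normalizer).toEquiv, hpart hK]
  have hfac : n.factorization p ≠ 0 := fun h0 => by
    have := hp.factorization_pos_of_dvd (hH ▸ Nat.card_pos.ne') hpn
    omega
  have hq : Nat.card (M ⧸ R') ≤ N₀ := by
    have h1 := card_eq_card_quotient_mul_card_subgroup R'
    have h2 : 0 < Nat.card (M ⧸ R') := Nat.card_pos
    have h3 : 1 < Nat.card R' := hR'c ▸ Nat.one_lt_pow hfac hp.one_lt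
    have h4 := Nat.le_of_dvd Nat.card_pos (card_subgroup_dvd_card M)
    nlinarith
  set n' := n / p ^ n.factorization p with hn'
  have hsub : ∀ {B : Subgroup G}, B ≤ M → R ≤ B → Nat.card B = n →
      Nat.card ((B.subgroupOf M).map (QuotientGroup.mk' R')) = n' := fun {B} hBM hRB hB => by
    have h1 := card_map_mk' R' (H := B.subgroupOf M) (fun x hx => hRB hx)
    rw [Nat.card_congr (subgroupOfEquivOfLe hBM).toEquiv, hB, hR'c] at h1
    exact (Nat.div_eq_of_eq_mul_left (pow_pos hp.pos _) h1.symm).symm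
  have hn'p : ¬ p ∣ n' := Nat.not_dvd_ordCompl hp (hH ▸ Nat.card_pos.ne')
  have hn'n : n' ∣ n := Nat.ordCompl_dvd n p
  obtain ⟨m', hm⟩ := ih hq inferInstance p n'
    (fun q hq' hqn hqr => by
      have := Fact.mk hq'
      exact cyclic_quot R' (cyclic_sub M (hcyc q hq' (hqn.trans hn'n) hqr)))
    (Or.inl hn'p) ((H'.subgroupOf M).map (QuotientGroup.mk' R')) ((K.subgroupOf M).map (QuotientGroup.mk' R'))
    (hsub (hnorm hR.symm) hRH hH') (hsub (hnorm rfl) hRK hK)
  obtain ⟨m, rfl⟩ := QuotientGroup.mk_surjective m'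
  have h1 := conj_of_map_eq R' hm
  rw [sup_eq_left.2 (show R' ≤ K.subgroupOf M from fun x hx => hRK hx), sup_eq_left.2 (fun x hx =>
      ⟨m⁻¹ * x * m, hRH (hR'n.conj_mem' x hx m), by simp [mul_assoc]⟩)] at h1
  refine ⟨m * g, ?_⟩
  have h2 := congrArg (Subgroup.map M.subtype) h1
  rw [map_subgroupOf_eq_of_le (hnorm rfl), Subgroup.map_map,
    show M.subtype.comp (MulAut.conj m).toMonoidHom = (MulAut.conj (m : G)).toMonoidHom.comp M.subtype from
      MonoidHom.ext fun x => rfl,
    ← Subgroup.map_map, map_subgroupOf_eq_of_le (hnorm hR.symm), hH'def, Subgroup.map_map] at h2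
  rw [h2]
  congr 1
  ext x
  simp [mul_assoc]

/-- Let G be a finite solvable group in which, for every prime p, any two p-subgroups of the same order are conjugate, and suppose the Sylow p-subgroups of G are cyclic for all primes p with at most one exception. Then any two subgroups of G of the same order are conjugate. -/
theorem result {G : Type*} [Group G] [Finite G]
    [Group.IsSolvable G] (hD : ∀ p : ℕ, p.Prime → ∀ H K : Subgroup G, IsPGroup p H → IsPGroup p K → Nat.card H = Nat.card K →
      ∃ g : G, K = H.map (MulAut.conj g).toMonoidHom)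
    (r : ℕ) (hcyc : ∀ p : ℕ, p.Prime → p ≠ r → ∀ P : Sylow p G, IsCyclic P) :
    ∀ H K : Subgroup G, Nat.card H = Nat.card K → ∃ g : G, K = H.map (MulAut.conj g).toMonoidHom := by
  intro H K h
  by_cases hr : r.Prime
  · exact conj_of_card (Nat.card G) le_rfl inferInstance r _ (fun p hp _ => hcyc p hp) (Or.inr ⟨hr, hD r hr⟩) H K rfl h.symm
  · exact conj_of_card (Nat.card G) le_rfl inferInstance 0 _ (fun p hp _ _ => hcyc p hp fun e => hr (e ▸ hp))
      (Or.inl fun h0 => Nat.card_pos.ne' (zero_dvd_iff.1 h0)) H K rfl h.symm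

end Cfsg.Agent.S4022
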