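import Cfsg.Statements.S4023
import Cfsg.Agent.Lib.PGroup.Counting
import Cfsg.Agent.Lib.Solvable.UniqueSubgroup
import Cfsg.Agent.Lib.Transfer.MaximalClass

set_option autoImplicit false
open Cfsg

namespace Cfsg.Agent.S4023

open Subgroup in
open scoped commutatorElement in
theorem shape_of_iso {Q : Type*} [Group Q] [Finite Q] {p : ℕ} [hp : Fact p.Prime] (hQ : IsPGroup p Q)
    (hiso : ∀ H K : Subgroup Q, Nat.card H = Nat.card K → Nonempty (H ≃* K)) :
    IsCyclic Q ∨ ((∀ a b : Q, a * b = b * a) ∧ ∀ a : Q, a ^ p = 1) ∨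
      (p = 2 ∧ Nonempty (Q ≃* QuaternionGroup 2)) ∨
      (p ≠ 2 ∧ ¬ IsMulCommutative Q ∧ Nat.card Q = p ^ 3 ∧ Monoid.exponent Q = p) := by
  rcases subsingleton_or_nontrivial Q with _ | hnt
  · exact Or.inl inferInstance
  obtain ⟨n, hn⟩ := IsPGroup.iff_card.1 hQ
  by_cases hx : ∃ x : Q, orderOf x = p ^ 2
  · obtain ⟨x, hx⟩ := hx
    haveI := hQ.center_nontrivial
    obtain ⟨Z, hZc, -, -, hZp⟩ := CfsgLib.PGroup.exists_card_eq_le_center hQ (center Q)
      (Subgroup.nontrivial_iff_ne_bot _ |>.1 inferInstance)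
    have hmemZ : ∀ y : Q, orderOf y = p → y ∈ Z := by
      intro y hy
      by_contra hyZ
      set T := Z ⊔ zpowers y with hT
      have hTp : ∀ t ∈ T, t ^ p = 1 := by
        have hd : T ≤ centralizer ({y} : Set Q) := sup_le
          (fun z hz => mem_centralizer_singleton_iff.2 ((mem_center_iff.1 (hZc hz) y).symm))
          (zpowers_le.2 (mem_centralizer_singleton_iff.2 rfl))
        intro t ht
        rw [hT, ← SetLike.mem_coe, coe_mul_of_left_le_normalizer_right _ _ ?_] at ht
        · obtain ⟨z, hz, w, hw, rfl⟩ := Set.mem_mul.1 ht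
          have hc : Commute z w := (mem_center_iff.1 (hZc hz) w).symm
          rw [hc.mul_pow]
          have h1 : z ^ p = 1 := by
            rw [← hZp]; exact congrArg Subtype.val (pow_card_eq_one' (x := (⟨z, hz⟩ : Z)))
          obtain ⟨i, rfl⟩ := hw
          rw [h1, one_mul, ← zpow_natCast, ← zpow_mul, mul_comm, zpow_mul, zpow_natCast, ← hy,
            pow_orderOf_eq_one, one_zpow]
        · exact (hZc.trans (center_le_centralizer _)).trans (centralizer_le_normalizer _)
      have hlt : Z < T := lt_of_le_of_ne le_sup_left fun h => hyZ (h ▸ mem_sup_right (mem_zpowers y))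
      have h2 := CfsgLib.Transfer.prime_mul_card_le hQ hlt
      obtain ⟨i, hi⟩ := IsPGroup.iff_card.1 (hQ.to_subgroup T)
      rw [hi, hZp, ← pow_two] at h2
      obtain ⟨K, hK, hKT⟩ : ∃ K : Subgroup Q, Nat.card K = p ^ 2 ∧ K ≤ T := by
        obtain ⟨K, hK⟩ := Sylow.exists_subgroup_card_pow_prime (G := T) p (n := 2)
          (hi ▸ pow_dvd_pow p ((Nat.pow_le_pow_iff_right hp.out.one_lt).1 h2))
        exact ⟨K.map T.subtype, by rw [card_map_of_injective T.subtype_injective, hK],
          map_subtype_le K⟩
      obtain ⟨e⟩ := hiso (zpowers x) K (by rw [Nat.card_zpowers, hx, hK])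
      have h4 := hTp _ (hKT (e ⟨x, mem_zpowers x⟩).2)
      have h5 : (⟨x, mem_zpowers x⟩ : zpowers x) ^ p = 1 :=
        e.injective (by rw [map_pow, map_one]; exact Subtype.ext h4)
      have h6 := orderOf_dvd_of_pow_eq_one (congrArg Subtype.val h5 : x ^ p = 1)
      rw [hx] at h6
      exact absurd (Nat.le_of_dvd hp.out.pos h6) (by nlinarith [hp.out.two_le])
    rcases CfsgLib.Solvable.isCyclic_or_quaternion hQ (fun a b ha hb => by
      have h1 : zpowers b ≤ Z := zpowers_le.2 (hmemZ b hb)
      rw [eq_of_le_of_card_ge h1 (by rw [Nat.card_zpowers, hb, hZp])]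
      exact hmemZ a ha) with h | ⟨rfl, k, ⟨e⟩⟩
    · exact Or.inl h
    rcases Nat.lt_or_ge k 2 with hk | hk
    · rcases Nat.eq_zero_or_pos k with rfl | hk0
      · have : IsCyclic (QuaternionGroup (2 ^ 0)) := by
          rw [pow_zero]; exact QuaternionGroup.quaternionGroup_one_isCyclic
        exact Or.inl (e.isCyclic.2 this)
      · obtain rfl : k = 1 := by omega
        exact Or.inr (Or.inr (Or.inl ⟨rfl, ⟨e⟩⟩))
    exfalso
    haveI : NeZero (2 ^ k) := ⟨by positivity⟩
    set b := e.symm (QuaternionGroup.xa 0)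
    have hcard : Nat.card Q = 2 ^ (k + 2) := by
      rw [Nat.card_congr e.toEquiv, Nat.card_eq_fintype_card, QuaternionGroup.card]; ring
    obtain ⟨K, hK, hbK⟩ := Sylow.exists_subgroup_card_pow_prime_le 2 (m := 3) (n := 2)
      (hcard ▸ pow_dvd_pow 2 (by omega)) (zpowers b)
      (by rw [Nat.card_zpowers, e.symm.orderOf_eq, QuaternionGroup.orderOf_xa]; rfl) (by omega)
    set a : QuaternionGroup (2 ^ k) := QuaternionGroup.a 1
    set c := e.symm (a ^ 2 ^ (k - 2)) with hc
    have hco : orderOf c = 2 ^ 3 := by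
      rw [hc, e.symm.orderOf_eq, orderOf_pow' _ (pow_ne_zero _ two_ne_zero),
        QuaternionGroup.orderOf_a_one, ← pow_succ', Nat.gcd_eq_right (pow_dvd_pow 2 (by omega)),
        Nat.pow_div (by omega) two_pos]
      congr 1
      omega
    obtain ⟨f⟩ := hiso (zpowers c) K (by rw [Nat.card_zpowers, hco, hK])
    haveI : IsCyclic K := f.isCyclic.1 inferInstance
    obtain ⟨g, hg⟩ := isCyclic_iff_exists_zpowers_eq_top.1 (inferInstance : IsCyclic K)
    obtain ⟨i, hi⟩ : (⟨b, hbK (mem_zpowers b)⟩ : K) ∈ zpowers g := hg ▸ mem_top _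
    have hgo : orderOf g = 8 := by
      rw [← Nat.card_zpowers, hg, card_top, hK]; norm_num
    have hbo : orderOf (g ^ i) = 4 := by
      rw [show g ^ i = (⟨b, hbK (mem_zpowers b)⟩ : K) from hi, orderOf_mk, e.symm.orderOf_eq,
        QuaternionGroup.orderOf_xa]
    rcases Int.even_or_odd i with ⟨j, hj⟩ | hodd
    · obtain ⟨w, hw⟩ : ∃ w, e ((g ^ j : K) : Q) = w := ⟨_, rfl⟩
      have h7 : w * w = QuaternionGroup.xa 0 := by
        rw [← hw]
        rw [← map_mul, ← Subgroup.coe_mul, ← zpow_add, ← hj,
          show g ^ i = (⟨b, hbK (mem_zpowers b)⟩ : K) from hi]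
        exact e.apply_symm_apply _
      rcases w with u | u <;> simp at h7
    · have h8 : IsCoprime (8 : ℤ) i := by
        obtain ⟨j, hj⟩ := hodd
        rw [show (8 : ℤ) = 2 ^ 3 by norm_num, hj]
        exact IsCoprime.pow_left ⟨-j, 1, by ring⟩
      have h9 : (8 : ℤ) ∣ i * (orderOf (g ^ i) : ℕ) := by
        rw [show (8 : ℤ) = ((orderOf g : ℕ) : ℤ) by rw [hgo]; rfl, orderOf_dvd_iff_zpow_eq_one,
          zpow_mul, zpow_natCast, pow_orderOf_eq_one]
      have h10 := h8.dvd_of_dvd_mul_left h9
      rw [hbo] at h10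
      norm_num at h10
  · have hexp : ∀ a : Q, a ^ p = 1 := by
      intro a
      obtain ⟨i, hi⟩ := IsPGroup.iff_orderOf.1 hQ a
      rcases Nat.lt_or_ge i 2 with h | h
      · apply orderOf_dvd_iff_pow_eq_one.1
        rw [hi]
        exact (pow_dvd_pow p (show i ≤ 1 by omega)).trans (pow_one p).dvd
      · refine absurd ⟨a ^ p ^ (i - 2), ?_⟩ hx
        rw [orderOf_pow' _ (pow_ne_zero _ hp.out.ne_zero), hi,
          Nat.gcd_eq_right (pow_dvd_pow p (by omega)), Nat.pow_div (by omega) hp.out.pos]
        congr 1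
        omega
    by_cases hc : ∀ a b : Q, a * b = b * a
    · exact Or.inr (Or.inl ⟨hc, hexp⟩)
    push Not at hc
    obtain ⟨u, v, huv⟩ := hc
    have hp2 : p ≠ 2 := by
      rintro rfl
      refine huv ?_
      have h1 : ∀ a : Q, a⁻¹ = a := fun a => inv_eq_of_mul_eq_one_right (by rw [← pow_two, hexp])
      rw [← h1 (u * v), mul_inv_rev, h1, h1]
    have hnc : ¬ IsMulCommutative Q := fun h => huv (h.is_comm.comm u v)
    have hexpo : Monoid.exponent Q = p := by
      rcases (Nat.dvd_prime hp.out).1 (Monoid.exponent_dvd_of_forall_pow_eq_one hexp) with h | h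
      · exact absurd (Monoid.exp_eq_one_iff.1 h) (not_subsingleton Q)
      · exact h
    refine Or.inr (Or.inr (Or.inr ⟨hp2, hnc, ?_, hexpo⟩))
    have hn3 : 3 ≤ n := by
      by_contra h
      refine hnc ?_
      rcases Nat.lt_or_ge n 2 with h' | h'
      · haveI : IsCyclic Q := by
          rcases Nat.eq_zero_or_pos n with h0 | h0
          · rw [h0, pow_zero] at hn
            exact absurd (Nat.card_eq_one_iff_unique.1 hn).1 (not_subsingleton Q)
          · rw [show n = 1 by omega, pow_one] at hn
            exact isCyclic_of_prime_card hn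
        infer_instance
      · rw [show n = 2 by omega] at hn
        exact IsPGroup.isMulCommutative_of_card_eq_prime_sq hn
    by_contra hne
    have hn4 : 4 ≤ n := by
      rcases Nat.lt_or_ge n 4 with h | h
      · exact absurd (by rw [hn, show n = 3 by omega]) hne
      · exact h
    haveI := hQ.isNilpotent
    -- an element of the second centre outside the centre
    obtain ⟨a, ha2, haZ⟩ : ∃ a : Q, (∀ b : Q, ⁅a, b⁆ ∈ center Q) ∧ a ∉ center Q := by
      haveI : Nontrivial (Q ⧸ center Q) := by
        by_contra h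
        rw [not_nontrivial_iff_subsingleton] at h
        exact huv ((mem_center_iff.1 ((QuotientGroup.eq_one_iff v).1 (Subsingleton.elim _ _))) u)
      haveI := (hQ.to_quotient (center Q)).center_nontrivial
      obtain ⟨⟨z, hz⟩, hz1⟩ := exists_ne (1 : center (Q ⧸ center Q))
      obtain ⟨a, rfl⟩ := QuotientGroup.mk_surjective z
      refine ⟨a, fun b => ?_, fun h => hz1 (Subtype.ext ((QuotientGroup.eq_one_iff a).2 h))⟩
      rw [← QuotientGroup.eq_one_iff]
      show QuotientGroup.mk' (center Q) ⁅a, b⁆ = 1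
      rw [map_commutatorElement, commutatorElement_eq_one_iff_mul_comm]
      exact (mem_center_iff.1 hz (QuotientGroup.mk' _ b)).symm
    obtain ⟨b, hb⟩ : ∃ b : Q, a * b ≠ b * a := by
      by_contra h
      push Not at h
      exact haZ (mem_center_iff.2 fun b => (h b).symm)
    have hd : p ^ 3 ∣ Nat.card Q := hn ▸ pow_dvd_pow p (by omega)
    have hmul : ∀ X Y : Subgroup Q, Y ≤ normalizer (X : Set Q) →
        Nat.card (X ⊔ Y : Subgroup Q) ≤ Nat.card X * Nat.card Y := fun X Y h => by
      rw [← CfsgLib.PGroup.card_setMul_mul_card_inf X Y, ← coe_mul_of_right_le_normalizer_left X Y h]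
      exact Nat.le_mul_of_pos_right _ Nat.card_pos
    -- an abelian subgroup of order `p ^ 3`
    obtain ⟨A, hA, hAc⟩ : ∃ A : Subgroup Q, Nat.card A = p ^ 3 ∧ IsMulCommutative A := by
      obtain ⟨C, K, hKC, hK, hKcen, hC⟩ : ∃ C K : Subgroup Q, K ≤ C ∧ Nat.card K = p ^ 2 ∧
          (∀ k ∈ K, ∀ c ∈ C, c * k = k * c) ∧ p ^ 3 ∣ Nat.card C := by
        obtain ⟨z, hz⟩ := IsPGroup.iff_card.1 (hQ.to_subgroup (center Q))
        rcases Nat.lt_or_ge z 2 with hz2 | hz2
        · have hz1 : z = 1 := by
            haveI := hQ.center_nontrivial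
            have h1 : 1 < Nat.card (center Q) := Finite.one_lt_card
            rw [hz] at h1
            rcases Nat.eq_zero_or_pos z with h0 | h0
            · simp [h0] at h1
            · omega
          rw [hz1, pow_one] at hz
          let f : Q →* center Q :=
            { toFun := fun b => ⟨⁅a, b⁆, ha2 b⟩
              map_one' := Subtype.ext (by simp)
              map_mul' := fun x y => Subtype.ext (CfsgLib.PGroup.comm_mul_right (ha2 y)) }
          have hker : f.ker = centralizer ({a} : Set Q) := by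
            ext y
            rw [MonoidHom.mem_ker, mem_centralizer_singleton_iff, Subtype.ext_iff]
            exact commutatorElement_eq_one_iff_mul_comm.trans eq_comm
          have hidx : (centralizer ({a} : Set Q)).index ∣ p := by
            rw [← hker, index_ker, ← hz]; exact card_subgroup_dvd_card f.range
          have hbig : p ^ 3 ∣ Nat.card (centralizer ({a} : Set Q)) := by
            have h1 := (centralizer ({a} : Set Q)).card_mul_index
            rcases (Nat.dvd_prime hp.out).1 hidx with h | h <;> rw [h, hn] at h1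
            · rw [mul_one] at h1; rw [h1]; exact pow_dvd_pow p (by omega)
            · rw [show p ^ n = p ^ (n - 1) * p by rw [← pow_succ]; congr 1; omega] at h1
              rw [Nat.eq_of_mul_eq_mul_right hp.out.pos h1]
              exact pow_dvd_pow p (by omega)
          set K := center Q ⊔ zpowers a with hKdef
          have hKC : K ≤ centralizer ({a} : Set Q) := sup_le
            (center_le_centralizer _) (zpowers_le.2 (mem_centralizer_singleton_iff.2 rfl))
          refine ⟨_, K, hKC, ?_, fun k hk c hc => ?_, hbig⟩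
          · refine le_antisymm ?_ ?_
            · rw [pow_two]
              calc Nat.card K ≤ Nat.card (center Q) * Nat.card (zpowers a) := ?_
                _ ≤ p * p := Nat.mul_le_mul hz.le (by
                  rw [Nat.card_zpowers]
                  exact Nat.le_of_dvd hp.out.pos (orderOf_dvd_of_pow_eq_one (hexp a)))
              exact hmul _ _ (by rw [normalizer_eq_top]; exact le_top)
            · have hlt : center Q < K := lt_of_le_of_ne le_sup_left fun h =>
                haZ (h ▸ mem_sup_right (mem_zpowers a))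
              have := CfsgLib.Transfer.prime_mul_card_le hQ hlt
              rwa [hz, ← pow_two] at this
          · have hk' : K ≤ centralizer ((centralizer ({a} : Set Q) : Subgroup Q) : Set Q) :=
              sup_le (center_le_centralizer _) (zpowers_le.2 (mem_centralizer_iff.2 fun y hy =>
                mem_centralizer_singleton_iff.1 hy))
            exact mem_centralizer_iff.1 (hk' hk) c hc
        · obtain ⟨K, hK⟩ := Sylow.exists_subgroup_card_pow_prime (G := center Q) p (n := 2)
            (hz ▸ pow_dvd_pow p hz2)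
          refine ⟨⊤, K.map (center Q).subtype, le_top,
            by rw [card_map_of_injective (center Q).subtype_injective, hK],
            fun k hk c _ => mem_center_iff.1 (map_subtype_le K hk) c, by rwa [card_top]⟩
      obtain ⟨L, hL, hKL⟩ := Sylow.exists_subgroup_card_pow_prime_le p (G := C) (m := 3) (n := 2)
        hC (K.subgroupOf C) (by rw [Nat.card_congr (subgroupOfEquivOfLe hKC).toEquiv, hK]) (by omega)
      refine ⟨L.map C.subtype, by rw [card_map_of_injective C.subtype_injective, hL], ?_⟩
      have hcc : (K.subgroupOf C).subgroupOf L ≤ center L := fun k hk => mem_center_iff.2 fun c =>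
        Subtype.ext (Subtype.ext (hKcen _ hk _ c.1.2))
      haveI : ((K.subgroupOf C).subgroupOf L).Normal := ⟨fun k hk c => by rw [mem_center_iff.1 (hcc hk) c, mul_inv_cancel_right]; exact hk⟩
      have hq : Nat.card (L ⧸ (K.subgroupOf C).subgroupOf L) = p := by
        have h1 := ((K.subgroupOf C).subgroupOf L).card_mul_index
        rw [Nat.card_congr (subgroupOfEquivOfLe hKL).toEquiv,
          Nat.card_congr (subgroupOfEquivOfLe hKC).toEquiv, hK, hL, index_eq_card, pow_succ p 2] at h1
        exact Nat.eq_of_mul_eq_mul_left (pow_pos hp.out.pos 2) h1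
      haveI : IsCyclic (L ⧸ (K.subgroupOf C).subgroupOf L) := isCyclic_of_prime_card hq
      have hLc : ∀ x y : L, x * y = y * x :=
        commutative_of_cyclic_center_quotient (QuotientGroup.mk' ((K.subgroupOf C).subgroupOf L))
          (by rwa [QuotientGroup.ker_mk'])
      refine ⟨⟨?_⟩⟩
      rintro ⟨_, x, hx, rfl⟩ ⟨_, y, hy, rfl⟩
      exact Subtype.ext (congrArg (fun t : L => ((t : C) : Q)) (hLc ⟨x, hx⟩ ⟨y, hy⟩))
    -- a non-abelian subgroup of order at most `p ^ 3`
    obtain ⟨B, hB, haB, hbB⟩ : ∃ B : Subgroup Q, Nat.card B = p ^ 3 ∧ a ∈ B ∧ b ∈ B := by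
      set c := ⁅a, b⁆
      haveI : (zpowers c).Normal := ⟨fun k hk d => by
        rw [mem_center_iff.1 (zpowers_le.2 (ha2 b) hk) d, mul_inv_cancel_right]; exact hk⟩
      set W := zpowers c ⊔ (zpowers a) with hW
      have hbN : zpowers b ≤ normalizer (W : Set Q) := by
        refine zpowers_le.2 (mem_normalizer_fintype (S := (W : Set Q)) ?_)
        intro w hw
        have : W.map (MulAut.conj b).toMonoidHom ≤ W := by
          rw [hW, Subgroup.map_sup, MonoidHom.map_zpowers, MonoidHom.map_zpowers]
          refine sup_le (zpowers_le.2 (mem_sup_left ?_)) (zpowers_le.2 ?_)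
          · show b * c * b⁻¹ ∈ zpowers c
            rw [mem_center_iff.1 (ha2 b) b, mul_inv_cancel_right]; exact mem_zpowers c
          · show b * a * b⁻¹ ∈ W
            rw [show b * a * b⁻¹ = c⁻¹ * a by simp only [c, commutatorElement_def]; group]
            exact mul_mem (mem_sup_left (inv_mem (mem_zpowers c))) (mem_sup_right (mem_zpowers a))
        exact this (mem_map_of_mem _ hw)
      have hle : ∀ x : Q, Nat.card (zpowers x) ≤ p := fun x => by
        rw [Nat.card_zpowers]; exact Nat.le_of_dvd hp.out.pos (orderOf_dvd_of_pow_eq_one (hexp x))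
      have hW2 : Nat.card W ≤ p * p := (hmul _ _ (by rw [normalizer_eq_top]; exact le_top)).trans
        (Nat.mul_le_mul (hle _) (hle _))
      have hT : Nat.card (W ⊔ zpowers b : Subgroup Q) ≤ p ^ 3 := by
        refine (hmul _ _ hbN).trans ?_
        rw [show p ^ 3 = p * p * p by ring]
        exact Nat.mul_le_mul hW2 (hle _)
      obtain ⟨i, hi⟩ := IsPGroup.iff_card.1 (hQ.to_subgroup (W ⊔ zpowers b))
      rw [hi] at hT
      obtain ⟨B, hB, hTB⟩ := Sylow.exists_subgroup_card_pow_prime_le p hd _ hi
        ((Nat.pow_le_pow_iff_right hp.out.one_lt).1 hT)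
      exact ⟨B, hB, hTB (mem_sup_left (mem_sup_right (mem_zpowers a))),
        hTB (mem_sup_right (mem_zpowers b))⟩
    obtain ⟨e⟩ := hiso B A (by rw [hA, hB])
    refine hb (congrArg Subtype.val (e.injective ?_ : (⟨a, haB⟩ * ⟨b, hbB⟩ : B) = ⟨b, hbB⟩ * ⟨a, haB⟩))
    rw [map_mul, map_mul]
    exact hAc.is_comm.comm _ _

/-- Let p be a prime and G a finite group in which any two p-subgroups of the same order are conjugate, with Sylow p-subgroup P. Then P is cyclic, or elementary abelian, or p = 2 and P is a quaternion group of order 8, or p is odd and P is non-abelian of order p³ and exponent p. -/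
theorem result {G : Type*} [Group G] [Finite G]
    {p : ℕ} [Fact p.Prime] (hC : ∀ H K : Subgroup G, IsPGroup p H → IsPGroup p K → Nat.card H = Nat.card K →
      ∃ g : G, K = H.map (MulAut.conj g).toMonoidHom) (P : Sylow p G) :
    IsCyclic P ∨ Cfsg.IsElementaryAbelian p (P : Subgroup G) ∨
      (p = 2 ∧ Nonempty ((P : Subgroup G) ≃* QuaternionGroup 2)) ∨
      (p ≠ 2 ∧ ¬ IsMulCommutative P ∧ Nat.card P = p ^ 3 ∧ Monoid.exponent P = p) := by
  have hiso : ∀ H K : Subgroup (P : Subgroup G), Nat.card H = Nat.card K → Nonempty (H ≃* K) := by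
    intro H K hcard
    set ι := (P : Subgroup G).subtype
    obtain ⟨g, hg⟩ := hC (H.map ι) (K.map ι) ((P.2.to_subgroup H).map ι) ((P.2.to_subgroup K).map ι)
      (by rw [Subgroup.card_map_of_injective (Subgroup.subtype_injective _),
        Subgroup.card_map_of_injective (Subgroup.subtype_injective _), hcard])
    exact ⟨(H.equivMapOfInjective ι (Subgroup.subtype_injective _)).trans
      ((((H.map ι).equivMapOfInjective _ (MulAut.conj g).injective).trans
        (MulEquiv.subgroupCongr hg.symm)).trans
        (K.equivMapOfInjective ι (Subgroup.subtype_injective _)).symm)⟩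
  rcases shape_of_iso P.2 hiso with h | ⟨hc, he⟩ | h | ⟨h1, h2, h3, h4⟩
  · exact Or.inl h
  · exact Or.inr (Or.inl ⟨⟨⟨hc⟩⟩, fun a ha => congrArg Subtype.val (he ⟨a, ha⟩)⟩)
  · exact Or.inr (Or.inr (Or.inl h))
  · exact Or.inr (Or.inr (Or.inr ⟨h1, h2, h3, h4⟩))

end Cfsg.Agent.S4023
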