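import Cfsg.Statements.S4024
import Cfsg.Agent.Lib.Transfer.PSolvable
import Cfsg.Agent.Lib.Solvable.UniqueSubgroup

set_option autoImplicit false
open Cfsg

namespace Cfsg.Agent.S4024

theorem inf_bot_of_coprime {G : Type*} [Group G] (A B : Subgroup G)
    (h : (Nat.card A).Coprime (Nat.card B)) : A ⊓ B = ⊥ :=
  Subgroup.card_eq_one.1 (Nat.eq_one_of_dvd_coprimes h (Subgroup.card_dvd_of_le inf_le_left)
    (Subgroup.card_dvd_of_le inf_le_right))

open CfsgLib in
/-- A p-group all of whose subgroups of a given order are conjugate into `A`. -/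
theorem sylow_le_or_cyclic {G : Type*} [Group G] [Finite G] {p : ℕ} [hp : Fact p.Prime] (hp2 : p ≠ 2)
    (hC : ∀ H K : Subgroup G, IsPGroup p H → IsPGroup p K → Nat.card H = Nat.card K →
      ∃ g : G, K = H.map (MulAut.conj g).toMonoidHom)
    (Q : Subgroup G) (hQ : IsPGroup p Q) (A : Subgroup G) [A.Normal] (hAne : A ≠ ⊥) (hA : IsPGroup p A)
    (hAc : IsMulCommutative A) (hAe : ∀ a ∈ A, a ^ p = 1) :
    Q ≤ A ∨ IsCyclic Q := by
  have hin : ∀ H K : Subgroup G, IsPGroup p H → IsPGroup p K → Nat.card H = Nat.card K → K ≤ A → H ≤ A := by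
    intro H K hH hK hc hKA
    obtain ⟨g, hg⟩ := hC K H hK hH hc.symm
    rw [hg]
    rintro x ⟨k, hk, rfl⟩
    exact (inferInstance : A.Normal).conj_mem k (hKA hk) g
  obtain ⟨m, hm⟩ := IsPGroup.iff_card.1 hA
  have hm1 : 1 ≤ m := by
    rcases m with _ | m
    · rw [pow_zero, Subgroup.card_eq_one] at hm; exact absurd hm hAne
    · omega
  have sub : ∀ j ≤ m, ∃ K : Subgroup G, K ≤ A ∧ Nat.card K = p ^ j ∧ IsPGroup p K := by
    intro j hj
    obtain ⟨K, hK⟩ := Sylow.exists_subgroup_card_pow_prime (G := A) p (n := j) (hm ▸ pow_dvd_pow p hj)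
    refine ⟨K.map A.subtype, Subgroup.map_subtype_le K, ?_, hA.to_le (Subgroup.map_subtype_le K)⟩
    rw [Subgroup.card_map_of_injective A.subtype_injective, hK]
  have zp : ∀ x ∈ Q, IsPGroup p (Subgroup.zpowers x) := fun x hx =>
    hQ.to_le ((Subgroup.zpowers_le).2 hx)
  -- elements of order `p` lie in `A`
  have h1 : ∀ x ∈ Q, orderOf x = p → x ∈ A := by
    intro x hx ho
    obtain ⟨K, hKA, hKc, hKp⟩ := sub 1 hm1
    exact hin _ K (zp x hx) hKp (by rw [Nat.card_zpowers, ho, hKc, pow_one]) hKA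
      (Subgroup.mem_zpowers x)
  by_cases hm2 : 2 ≤ m
  · left
    intro x hx
    obtain ⟨k, hk⟩ := IsPGroup.iff_orderOf.1 hQ ⟨x, hx⟩
    rw [Subgroup.orderOf_mk] at hk
    rcases k with _ | _ | k
    · rw [pow_zero, orderOf_eq_one_iff] at hk; rw [hk]; exact A.one_mem
    · exact h1 x hx (by rw [hk, pow_one])
    · exfalso
      have ho : orderOf (x ^ p ^ k) = p ^ 2 := by
        rw [orderOf_pow_of_dvd (pow_ne_zero _ hp.out.ne_zero) (hk ▸ pow_dvd_pow p (by omega)), hk,
          Nat.pow_div (by omega) hp.out.pos]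
        congr 1
        omega
      obtain ⟨K, hKA, hKc, hKp⟩ := sub 2 hm2
      have hy := hin _ K (zp _ (pow_mem hx _)) hKp (by rw [Nat.card_zpowers, ho, hKc]) hKA
        (Subgroup.mem_zpowers _)
      have := Nat.le_of_dvd hp.out.pos (ho ▸ orderOf_dvd_of_pow_eq_one (hAe _ hy))
      nlinarith [hp.out.two_le]
  · right
    have hm' : m = 1 := by omega
    refine (CfsgLib.Solvable.isCyclic_or_quaternion hQ (fun x y hx hy => ?_)).resolve_right
      fun h => hp2 h.1
    have hxA := h1 x x.2 (by rw [Subgroup.orderOf_coe, hx])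
    have hyA := h1 y y.2 (by rw [Subgroup.orderOf_coe, hy])
    have : Subgroup.zpowers (y : G) = A := Subgroup.eq_of_le_of_card_ge
      (Subgroup.zpowers_le.2 hyA)
      (by rw [hm, hm', Nat.card_zpowers, Subgroup.orderOf_coe, hy, pow_one])
    obtain ⟨i, hi⟩ := Subgroup.mem_zpowers_iff.1 (this.ge hxA)
    exact Subgroup.mem_zpowers_iff.2 ⟨i, Subtype.ext (by simpa using hi)⟩


/-- Let p be an odd prime and G a finite group in which any two p-subgroups of the same order are conjugate, with Sylow p-subgroup P. If H is a normal p-solvable subgroup of G whose order is divisible by p, then P is abelian, and either P ≤ H or P is cyclic. -/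
theorem result {G : Type*} [Group G] [Finite G]
    {p : ℕ} [Fact p.Prime] (hp : p ≠ 2) (hC : ∀ H K : Subgroup G, IsPGroup p H → IsPGroup p K → Nat.card H = Nat.card K →
      ∃ g : G, K = H.map (MulAut.conj g).toMonoidHom) (P : Sylow p G)
    (H : Subgroup G) [H.Normal] (hsolv : Cfsg.IsPSolvable p H) (hdiv : p ∣ Nat.card H) :
    IsMulCommutative P ∧ ((P : Subgroup G) ≤ H ∨ IsCyclic P) := by
  classical
  let M : Subgroup G := (Cfsg.pPrimeCore p H).map H.subtype
  haveI : M.Normal := CfsgLib.Cores.map_subtype_pPrimeCore_normal p H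
  have hMH : M ≤ H := Subgroup.map_subtype_le _
  have hMc : ¬ p ∣ Nat.card M := by
    rw [Subgroup.card_map_of_injective H.subtype_injective]
    exact CfsgLib.Cores.not_dvd_card_pPrimeCore p
  let π := QuotientGroup.mk' M
  let Hb : Subgroup (G ⧸ M) := H.map π
  haveI : Hb.Normal := Subgroup.Normal.map inferInstance _ (QuotientGroup.mk'_surjective M)
  have hsolb : Cfsg.IsPSolvable p Hb := CfsgLib.Transfer.isPSolvable_map_subgroup hsolv π
  have hcardmap : ∀ L : Subgroup G, M ≤ L → Nat.card L = Nat.card M * Nat.card (L.map π) := by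
    intro L hL
    rw [← Subgroup.relIndex_ker (f := π) (K := L), QuotientGroup.ker_mk']
    have h := Subgroup.card_mul_index (M.subgroupOf L)
    rw [Nat.card_congr (Subgroup.subgroupOfEquivOfLe hL).toEquiv] at h
    exact h.symm
  have hpHb : p ∣ Nat.card Hb := by
    rw [hcardmap H hMH] at hdiv
    exact ((Fact.out : p.Prime).dvd_mul.1 hdiv).resolve_left hMc
  have hcoreb : Cfsg.pPrimeCore p Hb = ⊥ := by
    let L : Subgroup G := ((Cfsg.pPrimeCore p Hb).map Hb.subtype).comap π
    haveI : ((Cfsg.pPrimeCore p Hb).map Hb.subtype).Normal :=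
      CfsgLib.Cores.map_subtype_pPrimeCore_normal p Hb
    haveI : L.Normal := Subgroup.Normal.comap inferInstance _
    have hML : M ≤ L := fun x hx => by
      rw [Subgroup.mem_comap, show π x = 1 from (QuotientGroup.eq_one_iff x).2 hx]
      exact Subgroup.one_mem _
    have hmap : L.map π = (Cfsg.pPrimeCore p Hb).map Hb.subtype :=
      Subgroup.map_comap_eq_self_of_surjective (QuotientGroup.mk'_surjective M) _
    have hLH : L ≤ H := by
      refine le_trans (Subgroup.comap_mono (Subgroup.map_subtype_le _)) ?_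
      show (H.map π).comap π ≤ H
      rw [Subgroup.comap_map_eq, QuotientGroup.ker_mk', sup_eq_left.2 hMH]
    have hLc : ¬ p ∣ Nat.card L := by
      rw [hcardmap L hML, hmap, Subgroup.card_map_of_injective Hb.subtype_injective,
        (Fact.out : p.Prime).dvd_mul, not_or]
      exact ⟨hMc, CfsgLib.Cores.not_dvd_card_pPrimeCore p⟩
    have hLM : L ≤ M := by
      haveI : (L.subgroupOf H).Normal := Subgroup.normal_subgroupOf
      have h := Subgroup.map_mono (f := H.subtype)
        (CfsgLib.Cores.le_pPrimeCore_of_not_dvd (p := p) (N := L.subgroupOf H)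
          (by rwa [Nat.card_congr (Subgroup.subgroupOfEquivOfLe hLH).toEquiv]))
      rwa [Subgroup.subgroupOf_map_subtype, inf_eq_left.2 hLH] at h
    rw [← Subgroup.map_eq_bot_iff_of_injective _ Hb.subtype_injective, ← hmap,
      Subgroup.map_eq_bot_iff, QuotientGroup.ker_mk']
    exact hLM
  let V : Subgroup (G ⧸ M) := (Cfsg.pCore p Hb).map Hb.subtype
  haveI : V.Normal := CfsgLib.Cores.map_subtype_pCore_normal p Hb
  have hVp : IsPGroup p V := (CfsgLib.Cores.isPGroup_pCore p).map _
  have hVne : V ≠ ⊥ := by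
    intro h
    rw [Subgroup.map_eq_bot_iff_of_injective _ Hb.subtype_injective] at h
    have hc := CfsgLib.Transfer.centralizer_pCore_le_of_isPSolvable hsolb hcoreb
    rw [h] at hc
    have htop : (⊤ : Subgroup Hb) ≤ ⊥ := le_trans (fun x _ => Subgroup.mem_centralizer_iff.2
      fun y hy => by rw [Subgroup.coe_bot, Set.mem_singleton_iff] at hy; simp [hy]) hc
    have : Nat.card Hb = 1 := by
      rw [← Subgroup.card_top, le_bot_iff.1 htop, Subgroup.card_bot]
    rw [this] at hpHb
    exact (Fact.out : p.Prime).ne_one (Nat.dvd_one.1 hpHb)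
  let A : Subgroup (G ⧸ M) :=
    { carrier := {x | x ∈ V ∧ (∀ v ∈ V, v * x = x * v) ∧ x ^ p = 1}
      one_mem' := ⟨V.one_mem, by simp, one_pow _⟩
      mul_mem' := fun {a b} ha hb => ⟨mul_mem ha.1 hb.1, fun v hv => by
        rw [← mul_assoc, ha.2.1 v hv, mul_assoc, hb.2.1 v hv, ← mul_assoc],
        by rw [(show Commute a b from (ha.2.1 b hb.1).symm).mul_pow, ha.2.2, hb.2.2, one_mul]⟩
      inv_mem' := fun {a} ha => ⟨inv_mem ha.1, fun v hv => (Commute.inv_right (ha.2.1 v hv)),
        by rw [inv_pow, ha.2.2, inv_one]⟩ }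
  have hAV : A ≤ V := fun x hx => hx.1
  haveI : A.Normal := ⟨fun x hx g => ⟨(inferInstance : V.Normal).conj_mem x hx.1 g, fun v hv => by
    have h := hx.2.1 _ ((inferInstance : V.Normal).conj_mem v hv g⁻¹)
    have h' := congrArg (fun z => g * z * g⁻¹) h
    simpa [mul_assoc] using h', by rw [conj_pow, hx.2.2]; simp⟩⟩
  have hAne : A ≠ ⊥ := by
    haveI : Nontrivial V := (Subgroup.nontrivial_iff_ne_bot V).2 hVne
    haveI := hVp.center_nontrivial
    obtain ⟨m, hm⟩ := IsPGroup.iff_card.1 (hVp.to_subgroup (Subgroup.center V))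
    have hd : p ∣ Nat.card (Subgroup.center V) := by
      rw [hm]
      refine dvd_pow_self p ?_
      rintro rfl
      rw [pow_zero] at hm
      exact (Finite.one_lt_card (α := Subgroup.center V)).ne' hm
    obtain ⟨z, hz⟩ := exists_prime_orderOf_dvd_card' p hd
    intro hbot
    have hzA : (((z : V) : G ⧸ M)) ∈ A := ⟨(z : V).2, fun v hv =>
      congrArg Subtype.val (Subgroup.mem_center_iff.1 z.2 ⟨v, hv⟩), by
        have h := congrArg (fun w : Subgroup.center V => ((w : V) : G ⧸ M))
          (pow_orderOf_eq_one z)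
        rw [hz] at h
        simpa using h⟩
    rw [hbot, Subgroup.mem_bot] at hzA
    have : orderOf z = 1 := orderOf_eq_one_iff.2 (Subtype.ext (Subtype.ext hzA))
    exact (Fact.out : p.Prime).ne_one (hz.symm.trans this)
  -- the hypothesis passes to the quotient
  have hlift : ∀ B : Subgroup (G ⧸ M), IsPGroup p B →
      ∃ B' : Subgroup G, IsPGroup p B' ∧ B'.map π = B ∧ Nat.card B' = Nat.card B := by
    intro B hB
    let L : Subgroup G := B.comap π
    have hmap : L.map π = B :=
      Subgroup.map_comap_eq_self_of_surjective (QuotientGroup.mk'_surjective M) _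
    have hML : M ≤ L := fun x hx => by
      rw [Subgroup.mem_comap, show π x = 1 from (QuotientGroup.eq_one_iff x).2 hx]
      exact B.one_mem
    obtain ⟨b, hb⟩ := IsPGroup.iff_card.1 hB
    have hLc : Nat.card L = Nat.card M * p ^ b := by rw [hcardmap L hML, hmap, hb]
    obtain ⟨S⟩ := (inferInstance : Nonempty (Sylow p L))
    have hSc : Nat.card S = p ^ b := by
      rw [Sylow.card_eq_multiplicity, hLc, Nat.factorization_mul Nat.card_pos.ne' (pow_ne_zero _
        (Fact.out : p.Prime).ne_zero), Finsupp.add_apply, Nat.factorization_eq_zero_of_not_dvd hMc,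
        (Fact.out : p.Prime).factorization_pow, Finsupp.single_eq_same, zero_add]
    let B' : Subgroup G := (S : Subgroup L).map L.subtype
    have hB'c : Nat.card B' = p ^ b := by
      rw [Subgroup.card_map_of_injective L.subtype_injective]; exact hSc
    refine ⟨B', S.2.map _, ?_, hB'c.trans hb.symm⟩
    refine Subgroup.eq_of_le_of_card_ge (hmap ▸ Subgroup.map_mono (Subgroup.map_subtype_le _)) ?_
    rw [← Subgroup.relIndex_ker (f := π) (K := B'), QuotientGroup.ker_mk', hb]
    refine le_of_eq ?_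
    have hd : M ⊓ B' = ⊥ := (inf_bot_of_coprime _ _ (by
      rw [hB'c]
      exact (((Fact.out : p.Prime).coprime_iff_not_dvd.2 hMc).symm).pow_right b))
    rw [← Subgroup.inf_relIndex_right, hd, Subgroup.relIndex_bot_left, hB'c]
  have hCq : ∀ B C : Subgroup (G ⧸ M), IsPGroup p B → IsPGroup p C → Nat.card B = Nat.card C →
      ∃ g : G ⧸ M, C = B.map (MulAut.conj g).toMonoidHom := by
    intro B C hB hC' hc
    obtain ⟨B', hB', rfl, hBc⟩ := hlift B hB
    obtain ⟨C', hC'', rfl, hCc⟩ := hlift C hC'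
    obtain ⟨g, hg⟩ := hC B' C' hB' hC'' (by rw [hBc, hCc, hc])
    refine ⟨π g, ?_⟩
    rw [hg, Subgroup.map_map, Subgroup.map_map]
    congr 1
  let Q : Subgroup (G ⧸ M) := (P : Subgroup G).map π
  have hinj : Function.Injective (π.subgroupMap (P : Subgroup G)) := by
    rw [← MonoidHom.ker_eq_bot_iff, eq_bot_iff]
    intro x hx
    rw [MonoidHom.mem_ker] at hx
    have h1 : (x : G) ∈ M := (QuotientGroup.eq_one_iff (x : G)).1 (congrArg Subtype.val hx)
    have h2 : M ⊓ (P : Subgroup G) = ⊥ := (inf_bot_of_coprime _ _ (by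
      obtain ⟨b, hb⟩ := IsPGroup.iff_card.1 P.2
      rw [hb]
      exact (((Fact.out : p.Prime).coprime_iff_not_dvd.2 hMc).symm).pow_right b))
    have h3 : (x : G) ∈ M ⊓ (P : Subgroup G) := Subgroup.mem_inf.2 ⟨h1, x.2⟩
    rw [h2, Subgroup.mem_bot] at h3
    exact Subgroup.mem_bot.2 (Subtype.ext h3)
  let e : (P : Subgroup G) ≃* Q :=
    MulEquiv.ofBijective (π.subgroupMap _) ⟨hinj, π.subgroupMap_surjective _⟩
  have hAc : IsMulCommutative A :=
    ⟨⟨fun a b => Subtype.ext (b.2.2.1 a a.2.1)⟩⟩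
  rcases sylow_le_or_cyclic hp hCq Q (P.2.map π) A hAne (hVp.to_le hAV) hAc (fun a ha => ha.2.2)
    with h | h
  · refine ⟨⟨⟨fun a b => e.injective ?_⟩⟩, Or.inl fun x hx => ?_⟩
    · rw [map_mul, map_mul]
      have h' := congrArg Subtype.val (hAc.is_comm.comm ⟨_, h (e a).2⟩ ⟨_, h (e b).2⟩)
      exact Subtype.ext h'
    · have h1 : π x ∈ H.map π := Subgroup.map_subtype_le _ (hAV (h ⟨x, hx, rfl⟩))
      have h2 : x ∈ (H.map π).comap π := h1
      rwa [Subgroup.comap_map_eq, QuotientGroup.ker_mk', sup_eq_left.2 hMH] at h2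
  · haveI := h
    haveI : IsCyclic (P : Subgroup G) := isCyclic_of_surjective e.symm e.symm.surjective
    exact ⟨⟨⟨fun a b => (IsCyclic.commGroup (α := (P : Subgroup G))).mul_comm a b⟩⟩, Or.inr inferInstance⟩

end Cfsg.Agent.S4024
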