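import Cfsg.Statements.S4025
import Cfsg.Agent.Lib.FGS.TransitiveSubspaces
import Cfsg.Agent.Lib.Cores.Basic
-- import your own Cfsg.Agent.* helpers here

set_option autoImplicit false
open Cfsg

namespace Cfsg.Agent.S4025


open Pointwise

theorem conj_in_normalizer {G : Type*} [Group G] [Finite G] {p : ℕ} [Fact p.Prime] (P : Sylow p G)
    (hab : ∀ a ∈ (P : Subgroup G), ∀ b ∈ (P : Subgroup G), a * b = b * a)
    (hC : ∀ H K : Subgroup G, IsPGroup p H → IsPGroup p K → Nat.card H = Nat.card K →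
      ∃ g : G, K = H.map (MulAut.conj g).toMonoidHom)
    (K₁ K₂ : Subgroup G) (h₁ : K₁ ≤ P) (h₂ : K₂ ≤ P) (hc : Nat.card K₁ = Nat.card K₂) :
    ∃ g ∈ Subgroup.normalizer ((P : Subgroup G) : Set G),
      K₂ = K₁.map (MulAut.conj g).toMonoidHom := by
  obtain ⟨g, hg⟩ := hC K₁ K₂ (P.isPGroup'.to_le h₁) (P.isPGroup'.to_le h₂) hc
  let C := Subgroup.centralizer (K₂ : Set G)
  have hP : (P : Subgroup G) ≤ C := fun a ha =>
    Subgroup.mem_centralizer_iff.2 fun k hk => hab k (h₂ hk) a ha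
  have hgP : ((g • P : Sylow p G) : Subgroup G) ≤ C := by
    intro a ha
    rw [Sylow.coe_subgroup_smul, Subgroup.mem_smul_pointwise_iff_exists] at ha
    obtain ⟨b, hb, rfl⟩ := ha
    refine Subgroup.mem_centralizer_iff.2 fun k hk => ?_
    rw [hg] at hk
    obtain ⟨j, hj, rfl⟩ := hk
    show MulAut.conj g j * MulAut.conj g b = MulAut.conj g b * MulAut.conj g j
    rw [← map_mul, hab j (h₁ hj) b hb, map_mul]
  obtain ⟨c, hc'⟩ := MulAction.exists_smul_eq (↥C) ((g • P).subtype hgP) (P.subtype hP)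
  rw [Sylow.smul_subtype] at hc'
  have hfix : ((c : G) * g) • P = P := by
    rw [mul_smul]; exact Sylow.subtype_injective hc'
  refine ⟨(c : G) * g, Sylow.smul_eq_iff_mem_normalizer.1 hfix, ?_⟩
  ext x
  constructor
  · intro hx
    have hx' := hx
    rw [hg] at hx'
    obtain ⟨j, hj, rfl⟩ := hx'
    refine ⟨j, hj, ?_⟩
    have h := Subgroup.mem_centralizer_iff.1 c.2 _ hx
    show MulAut.conj ((c : G) * g) j = MulAut.conj g j
    rw [map_mul, MulAut.mul_apply, MulAut.conj_apply, mul_inv_eq_iff_eq_mul]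
    exact h.symm
  · rintro ⟨j, hj, rfl⟩
    have hm : MulAut.conj g j ∈ K₂ := by rw [hg]; exact ⟨j, hj, rfl⟩
    have h := Subgroup.mem_centralizer_iff.1 c.2 _ hm
    show MulAut.conj ((c : G) * g) j ∈ K₂
    rw [map_mul, MulAut.mul_apply, MulAut.conj_apply, ← h, mul_inv_cancel_right]
    exact hm

theorem centralizer_le {Q : Type*} [Group Q] [Finite Q] {p n : ℕ} [hp : Fact p.Prime]
    (P : Subgroup Q) [P.Normal] (hcard : Nat.card P = p ^ n) (hcop : (Nat.card P).Coprime P.index)
    (hn : n ≠ 0) (hab : ∀ a ∈ P, ∀ b ∈ P, a * b = b * a) (hcore : Cfsg.pPrimeCore p Q = ⊥)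
    (x : Q) (hx : ∀ a ∈ P, x * a = a * x) : x ∈ P := by
  let C := Subgroup.centralizer (P : Set Q)
  let Z := P.subgroupOf C
  have hZ : Z ≤ Subgroup.center ↥C := fun z hz => Subgroup.mem_center_iff.2 fun c =>
    Subtype.ext (Subgroup.mem_centralizer_iff.1 c.2 _ (Subgroup.mem_subgroupOf.1 hz)).symm
  have hdvd : (Subgroup.center ↥C).index ∣ P.index := by
    refine (Subgroup.index_dvd_of_le hZ).trans ?_
    exact Subgroup.relIndex_dvd_index_of_normal P C
  obtain ⟨d, hd⟩ := hdvd
  have hpow : ∀ a b : ↥C, (a * b) ^ P.index = a ^ P.index * b ^ P.index := by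
    intro a b
    have h1 := map_mul (MonoidHom.transferCenterPow (G := ↥C)) a b
    have h2 := congrArg Subtype.val h1
    rw [Subgroup.coe_mul, MonoidHom.transferCenterPow_apply, MonoidHom.transferCenterPow_apply,
      MonoidHom.transferCenterPow_apply] at h2
    have hcomm : Commute (a ^ (Subgroup.center ↥C).index) (b ^ (Subgroup.center ↥C).index) := by
      have := (MonoidHom.transferCenterPow (G := ↥C) a).2
      rw [MonoidHom.transferCenterPow_apply] at this
      exact ((Subgroup.mem_center_iff.1 this) _).symm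
    rw [hd, pow_mul, pow_mul, pow_mul, h2, hcomm.mul_pow]
  let R : Subgroup Q :=
    { carrier := {y | y ∈ C ∧ y ^ P.index = 1}
      one_mem' := ⟨one_mem _, one_pow _⟩
      mul_mem' := fun {a b} ha hb => ⟨mul_mem ha.1 hb.1, by
        have := congrArg Subtype.val (hpow ⟨a, ha.1⟩ ⟨b, hb.1⟩)
        simp only [SubmonoidClass.coe_pow, Subgroup.coe_mul] at this
        rw [this, ha.2, hb.2, one_mul]⟩
      inv_mem' := fun {a} ha => ⟨inv_mem ha.1, by rw [inv_pow, ha.2, inv_one]⟩ }
  haveI : R.Normal := ⟨fun a ha g => ⟨by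
      refine Subgroup.mem_centralizer_iff.2 fun k hk => ?_
      have h := Subgroup.mem_centralizer_iff.1 ha.1 _
        ((inferInstance : P.Normal).conj_mem k hk g⁻¹)
      rw [inv_inv] at h
      calc k * (g * a * g⁻¹) = g * ((g⁻¹ * k * g) * a) * g⁻¹ := by group
        _ = g * (a * (g⁻¹ * k * g)) * g⁻¹ := by rw [h]
        _ = _ := by group,
      by rw [conj_pow, ha.2]; group⟩⟩
  have hpm : ¬ p ∣ P.index := by
    rw [hcard] at hcop
    exact (Nat.Prime.coprime_iff_not_dvd hp.out).1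
      ((Nat.coprime_pow_left_iff (Nat.pos_of_ne_zero hn) _ _).1 hcop)
  have hR : ¬ p ∣ Nat.card R := by
    intro h
    obtain ⟨y, hy⟩ := exists_prime_orderOf_dvd_card' p h
    have h1 : y ^ P.index = 1 := Subtype.ext (by simpa using y.2.2)
    exact hpm (hy ▸ orderOf_dvd_of_pow_eq_one h1)
  have hR1 : R = ⊥ := le_bot_iff.1 (hcore ▸ CfsgLib.Cores.le_pPrimeCore_of_not_dvd hR)
  have hxR : x ^ p ^ n ∈ R := by
    refine ⟨pow_mem (Subgroup.mem_centralizer_iff.2 fun k hk => (hx k hk).symm) _, ?_⟩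
    rw [← pow_mul, ← hcard, P.card_mul_index, pow_card_eq_one']
  rw [hR1, Subgroup.mem_bot] at hxR
  have h1 : orderOf (x : Q ⧸ P) ∣ p ^ n := orderOf_dvd_of_pow_eq_one (by
    rw [← QuotientGroup.mk_pow, hxR, QuotientGroup.mk_one])
  have h2 : orderOf (x : Q ⧸ P) ∣ P.index := orderOf_dvd_natCard _
  rw [← QuotientGroup.eq_one_iff, ← orderOf_eq_one_iff]
  exact Nat.eq_one_of_dvd_coprimes (hcard ▸ hcop) h1 h2

theorem exists_transport {F F' : Type} [Field F] [Field F'] (e : F ≃+* F') {Q : Type*} [Group Q]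
    (ψ : Q →* Equiv.Perm F) (hψ : Function.Injective ψ) :
    (∀ (_ : ∀ x, ψ x ∈ Cfsg.semiaffineGroup F),
      ∃ f : Q →* ↥(Cfsg.semiaffineGroup F'), Function.Injective f) ∧
    (∀ (_ : ∀ x, ψ x ∈ Cfsg.affineGroup F),
      ∃ f : Q →* ↥(Cfsg.affineGroup F'), Function.Injective f) := by
  let χ : Q →* Equiv.Perm F' := e.toEquiv.permCongrHom.toMonoidHom.comp ψ
  have hχ : ∀ x y, χ x y = e (ψ x (e.symm y)) := fun _ _ => rfl
  have hinj : Function.Injective χ := e.toEquiv.permCongrHom.injective.comp hψ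
  constructor
  · intro h
    have hm : ∀ x, χ x ∈ Cfsg.semiaffineGroup F' := fun x => by
      obtain ⟨a, b, σ, hu⟩ := h x
      refine ⟨Units.map e.toRingHom.toMonoidHom a, e b, (e.symm.trans σ).trans e, fun y => ?_⟩
      rw [hχ, hu, map_add, map_mul]
      rfl
    exact ⟨χ.codRestrict _ hm, fun a b hab => hinj (congrArg Subtype.val hab)⟩
  · intro h
    have hm : ∀ x, χ x ∈ Cfsg.affineGroup F' := fun x => by
      obtain ⟨a, b, hu⟩ := h x
      refine ⟨Units.map e.toRingHom.toMonoidHom a, e b, fun y => ?_⟩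
      rw [hχ, hu, map_add, map_mul, e.apply_symm_apply]
      rfl
    exact ⟨χ.codRestrict _ hm, fun a b hab => hinj (congrArg Subtype.val hab)⟩

/-- Let p be a prime and G a finite group in which any two p-subgroups of the same order are conjugate, and suppose a Sylow p-subgroup P of G is elementary abelian of order pⁿ with n ≥ 3. Let N be the normalizer of P and K the largest normal subgroup of N of order prime to p, and assume N/K is solvable. Then either n = 3 and N/K embeds in the one-dimensional semi-affine group over the field with p³ elements (and for p = 2 it is isomorphic to the affine or the semi-affine group over the field with 8 elements), or n = 5, p = 2 and N/K is isomorphic to the one-dimensional semi-affine group over the field with 32 elements. -/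
theorem result {G : Type*} [Group G] [Finite G]
    {p : ℕ} [Fact p.Prime] (hC : ∀ H K : Subgroup G, IsPGroup p H → IsPGroup p K → Nat.card H = Nat.card K →
      ∃ g : G, K = H.map (MulAut.conj g).toMonoidHom) (P : Sylow p G) (n : ℕ) (hn : 3 ≤ n)
    (hel : Cfsg.IsElementaryAbelian p (P : Subgroup G)) (hcard : Nat.card P = p ^ n)
    (N : Subgroup G) (hN : N = Subgroup.normalizer ((P : Subgroup G) : Set G))
    (hsolv : Group.IsSolvable (↥N ⧸ Cfsg.pPrimeCore p ↥N)) :
    (n = 3 ∧ (∃ f : ↥N ⧸ Cfsg.pPrimeCore p ↥N →* ↥(Cfsg.semiaffineGroup (GaloisField p 3)), Function.Injective f) ∧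
      (p = 2 → Nonempty (↥N ⧸ Cfsg.pPrimeCore p ↥N ≃* Cfsg.semiaffineGroup (GaloisField 2 3)) ∨
               Nonempty (↥N ⧸ Cfsg.pPrimeCore p ↥N ≃* Cfsg.affineGroup (GaloisField 2 3)))) ∨
    (n = 5 ∧ p = 2 ∧ Nonempty (↥N ⧸ Cfsg.pPrimeCore p ↥N ≃* Cfsg.semiaffineGroup (GaloisField 2 5))) := by
  have hab : ∀ a ∈ (P : Subgroup G), ∀ b ∈ (P : Subgroup G), a * b = b * a := fun a ha b hb =>
    congrArg Subtype.val (hel.1.is_comm.comm ⟨a, ha⟩ ⟨b, hb⟩)
  have hPN : (P : Subgroup G) ≤ N := hN ▸ Subgroup.le_normalizer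
  let P' := (P : Subgroup G).subgroupOf N
  haveI : P'.Normal := by
    subst hN
    exact Subgroup.normal_in_normalizer
  have hP'card : Nat.card P' = p ^ n := by
    rw [Nat.card_congr (Subgroup.subgroupOfEquivOfLe hPN).toEquiv]; exact hcard
  set K := Cfsg.pPrimeCore p ↥N with hK
  let q := QuotientGroup.mk' K
  let Pb := P'.map q
  haveI : Pb.Normal := Subgroup.Normal.map inferInstance q (QuotientGroup.mk'_surjective K)
  have hdisj : ∀ y ∈ P', q y = 1 → y = 1 := by
    intro y hy hy1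
    have hyK : y ∈ K := (QuotientGroup.eq_one_iff y).1 hy1
    have h1 : orderOf y ∣ p ^ n := hP'card ▸ Subgroup.orderOf_mk y hy ▸
      orderOf_dvd_natCard (⟨y, hy⟩ : P')
    have h2 : orderOf y ∣ Nat.card K := Subgroup.orderOf_mk y hyK ▸
      orderOf_dvd_natCard (⟨y, hyK⟩ : K)
    exact orderOf_eq_one_iff.1 (Nat.eq_one_of_dvd_coprimes
      ((CfsgLib.Cores.coprime_card_pPrimeCore (G := ↥N) p).symm.pow_left n) h1 h2)
  have hcardmap : ∀ L : Subgroup ↥N, L ≤ P' → Nat.card (L.map q) = Nat.card L := by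
    intro L hL
    have hinj : Function.Injective (q.comp L.subtype).rangeRestrict := by
      rw [injective_iff_map_eq_one]
      exact fun y hy => Subtype.ext (hdisj y (hL y.2) (congrArg Subtype.val hy))
    have h := Nat.card_eq_of_bijective _ ⟨hinj, MonoidHom.rangeRestrict_surjective _⟩
    rw [MonoidHom.range_comp, Subgroup.range_subtype] at h
    exact h.symm
  have hPbcard : Nat.card Pb = p ^ n := (hcardmap P' le_rfl).trans hP'card
  have hcop : (Nat.card Pb).Coprime Pb.index := by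
    rw [hPbcard]
    refine Nat.Coprime.pow_left n ((Nat.Prime.coprime_iff_not_dvd Fact.out).2 fun h => ?_)
    have h1 : Pb.index ∣ P'.index :=
      P'.index_map_dvd (QuotientGroup.mk'_surjective K)
    have h2 : P'.index ∣ (P : Subgroup G).index := by
      show (P : Subgroup G).relIndex N ∣ _
      exact Subgroup.relIndex_dvd_index_of_le hPN
    exact P.not_dvd_index ((h.trans h1).trans h2)
  have habQ : ∀ a ∈ Pb, ∀ b ∈ Pb, a * b = b * a := by
    rintro _ ⟨a, ha, rfl⟩ _ ⟨b, hb, rfl⟩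
    rw [← map_mul, ← map_mul]
    exact congrArg q (Subtype.ext (hab _ ha _ hb))
  have hexpQ : ∀ a ∈ Pb, a ^ p = 1 := by
    rintro _ ⟨a, ha, rfl⟩
    rw [← map_pow, show a ^ p = 1 from Subtype.ext (by simpa using hel.2 _ ha), map_one]
  have htrans : ∀ K₁ K₂ : Subgroup (↥N ⧸ K), K₁ ≤ Pb → K₂ ≤ Pb → Nat.card K₁ = Nat.card K₂ →
      ∃ g : ↥N ⧸ K, K₂ = K₁.map (MulAut.conj g).toMonoidHom := by
    intro K₁ K₂ hK₁ hK₂ hc
    have hL : ∀ K' : Subgroup (↥N ⧸ K), K' ≤ Pb → (K'.comap q ⊓ P').map q = K' := by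
      intro K' hK'
      ext z
      constructor
      · rintro ⟨y, hy, rfl⟩
        exact hy.1
      · intro hz
        obtain ⟨y, hy, rfl⟩ := hK' hz
        exact ⟨y, Subgroup.mem_inf.2 ⟨hz, hy⟩, rfl⟩
    let L₁ := K₁.comap q ⊓ P'
    let L₂ := K₂.comap q ⊓ P'
    have hLc : ∀ L : Subgroup ↥N, Nat.card (L.map N.subtype) = Nat.card L := fun L =>
      Subgroup.card_map_of_injective N.subtype_injective
    have hLP : ∀ L : Subgroup ↥N, L ≤ P' → L.map N.subtype ≤ (P : Subgroup G) := by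
      rintro L hL' _ ⟨y, hy, rfl⟩
      exact hL' hy
    obtain ⟨g, hg, hgL⟩ := conj_in_normalizer P hab hC (L₁.map N.subtype) (L₂.map N.subtype)
      (hLP _ inf_le_right) (hLP _ inf_le_right) (by
        rw [hLc, hLc, ← hcardmap L₁ inf_le_right, ← hcardmap L₂ inf_le_right, hL K₁ hK₁,
          hL K₂ hK₂, hc])
    rw [← hN] at hg
    refine ⟨q ⟨g, hg⟩, ?_⟩
    have h1 : L₂ = L₁.map (MulAut.conj (⟨g, hg⟩ : ↥N)).toMonoidHom := by
      apply Subgroup.map_injective N.subtype_injective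
      rw [hgL, Subgroup.map_map, Subgroup.map_map]
      rfl
    calc K₂ = L₂.map q := (hL K₂ hK₂).symm
      _ = (L₁.map q).map (MulAut.conj (q ⟨g, hg⟩)).toMonoidHom := by
        rw [h1, Subgroup.map_map, Subgroup.map_map]
        congr 1
      _ = _ := by rw [hL K₁ hK₁]
  have hcore : Cfsg.pPrimeCore p (↥N ⧸ K) = ⊥ := CfsgLib.Cores.pPrimeCore_quotient_self p
  obtain ⟨F, _, _, hFcard, ψ, hψ, hψsa, hdim, h5, h3⟩ :=
    Cfsg.Agent.TransitiveSubspaces.exists_semiaffine (p := p) (n := n) hsolv Pb hn hPbcard hcop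
      habQ hexpQ (centralizer_le Pb hPbcard hcop (by omega) habQ hcore) htrans
  letI : Fintype (GaloisField p n) := Fintype.ofFinite _
  have hGF : Fintype.card (GaloisField p n) = p ^ n := by
    rw [← Nat.card_eq_fintype_card]; exact GaloisField.card p n (by omega)
  let e : F ≃+* GaloisField p n := FiniteField.ringEquivOfCardEq (hFcard.trans hGF.symm)
  obtain ⟨f, hf⟩ := (exists_transport e ψ hψ).1 hψsa
  have hiso : Nat.card (↥N ⧸ K) = Nat.card (Cfsg.semiaffineGroup F) →
      Nonempty (↥N ⧸ K ≃* Cfsg.semiaffineGroup (GaloisField p n)) := fun hQ =>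
    ⟨MulEquiv.ofBijective f ((Nat.bijective_iff_injective_and_card f).2 ⟨hf, by
      rw [hQ, Cfsg.Agent.TransitiveSubspaces.card_semiaffineGroup F (p := p) (by omega) hFcard,
        Cfsg.Agent.TransitiveSubspaces.card_semiaffineGroup _ (p := p) (by omega) hGF]⟩)⟩
  rcases hdim with hn3 | ⟨hn5, hp2⟩
  · refine Or.inl ⟨hn3, ?_, fun hp2 => ?_⟩
    · subst hn3
      exact ⟨f, hf⟩
    · rcases h3 hp2 hn3 with hs | ⟨hA, hQ⟩
      · left
        have := hiso hs
        subst hn3 hp2
        exact this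
      · right
        obtain ⟨f', hf'⟩ := (exists_transport e ψ hψ).2 hA
        have : Nonempty (↥N ⧸ K ≃* Cfsg.affineGroup (GaloisField p n)) :=
          ⟨MulEquiv.ofBijective f' ((Nat.bijective_iff_injective_and_card f').2 ⟨hf', by
            rw [hQ, Cfsg.Agent.TransitiveSubspaces.card_affineGroup F (p := p) hFcard,
              Cfsg.Agent.TransitiveSubspaces.card_affineGroup _ (p := p) hGF]⟩)⟩
        subst hn3 hp2
        exact this
  · refine Or.inr ⟨hn5, hp2, ?_⟩
    have := hiso (h5 hp2 hn5)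
    subst hn5 hp2
    exact this

end Cfsg.Agent.S4025
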