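import Cfsg.Statements.S4027
import Cfsg.Agent.Lib.FGS.NoInverted

set_option autoImplicit false
open Cfsg

namespace Cfsg.Agent.S4027

/-- Let G be a finite group in which every element x of odd order satisfies N_G(⟨x⟩) = C_G(x). Then the Sylow 2-subgroups of G are normal. -/
theorem result {G : Type*} [Group G] [Finite G]
    (hirr : ∀ x : G, (∀ r : ℕ, r.Prime → r ∣ orderOf x → r ≠ 2) →
      Subgroup.normalizer ((Subgroup.zpowers x : Subgroup G) : Set G) ≤ Subgroup.centralizer {x}) (P : Sylow 2 G) :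
    (P : Subgroup G).Normal := by
  refine CfsgLib.FGS.NoOddInverted.sylow_two_normal (fun x g hodd hg => ?_) P
  have hgN : g ∈ Subgroup.normalizer ((Subgroup.zpowers x : Subgroup G) : Set G) := by
    have hmap : (Subgroup.zpowers x).map (MulAut.conj g).toMonoidHom = Subgroup.zpowers x := by
      rw [MonoidHom.map_zpowers]
      show Subgroup.zpowers (g * x * g⁻¹) = _
      rw [hg, Subgroup.zpowers_inv]
    refine Subgroup.mem_normalizer_iff.2 fun s => ⟨fun hs => ?_, fun hs => ?_⟩
    · rw [← hmap]; exact ⟨s, hs, rfl⟩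
    · rw [← hmap] at hs
      obtain ⟨u, hu, hu'⟩ := hs
      exact (MulAut.conj g).injective hu' ▸ hu
  have hc := Subgroup.mem_centralizer_singleton_iff.1 (hirr x (fun r hr hd e => ?_) hgN)
  · rw [hc, mul_inv_cancel_right] at hg
    have h2 : x ^ 2 = 1 := by rw [sq]; nth_rw 2 [hg]; exact mul_inv_cancel x
    rcases (Nat.dvd_prime Nat.prime_two).1 (orderOf_dvd_of_pow_eq_one h2) with h | h
    · exact orderOf_eq_one_iff.1 h
    · rw [h] at hodd; exact absurd hodd (by decide)
  · exact (Nat.not_even_iff_odd.2 hodd) (even_iff_two_dvd.2 (e ▸ hd))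

end Cfsg.Agent.S4027
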