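import Cfsg.Statements.S4028
import Cfsg.Agent.Lib.FGS.Basics
import Mathlib.GroupTheory.SpecificGroups.Cyclic

set_option autoImplicit false
open Cfsg

namespace Cfsg.Agent.S4028

/-- Let G be a finite group with Sylow 2-subgroup P. Then N_G(⟨x⟩) = C_G(x) holds for every 2-element x of G if and only if N_P(⟨y⟩) = C_P(y) holds for every y ∈ P (computed inside P). -/
theorem result {G : Type*} [Group G] [Finite G] (P : Sylow 2 G) :
    (∀ x : G, (∀ r : ℕ, r.Prime → r ∣ orderOf x → r = 2) →
      Subgroup.normalizer ((Subgroup.zpowers x : Subgroup G) : Set G) ≤ Subgroup.centralizer {x}) ↔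
    (∀ y : ↥(P : Subgroup G), Subgroup.normalizer ((Subgroup.zpowers y : Subgroup ↥(P : Subgroup G)) : Set ↥(P : Subgroup G)) ≤
        Subgroup.centralizer {y}) := by
  classical
  haveI : Fact (Nat.Prime 2) := ⟨Nat.prime_two⟩
  constructor
  · intro h y g hg
    have hy2 : ∀ r : ℕ, r.Prime → r ∣ orderOf (y : G) → r = 2 := by
      intro r hr hrd
      obtain ⟨k, hk⟩ := IsPGroup.iff_orderOf.1 P.isPGroup' y
      rw [Subgroup.orderOf_coe, hk] at hrd
      exact (Nat.prime_dvd_prime_iff_eq hr Nat.prime_two).1 (hr.dvd_of_dvd_pow hrd)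
    have hgN : (g : G) ∈ Subgroup.normalizer ((Subgroup.zpowers (y : G) : Subgroup G) : Set G) := by
      have hmap : Subgroup.zpowers (y : G) = (Subgroup.zpowers y).map (P : Subgroup G).subtype := by
        rw [MonoidHom.map_zpowers]; rfl
      rw [hmap]
      refine Subgroup.mem_normalizer_iff.2 fun s => ⟨?_, ?_⟩
      · rintro ⟨s', hs', rfl⟩
        exact ⟨g * s' * g⁻¹, (Subgroup.mem_normalizer_iff.1 hg s').1 hs', rfl⟩
      · rintro ⟨s', hs', he⟩
        refine ⟨g⁻¹ * s' * g, ?_, ?_⟩
        · simpa using (Subgroup.mem_normalizer_iff.1 (inv_mem hg) s').1 hs'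
        · simp [show (s' : G) = g * s * (g : G)⁻¹ from he, mul_assoc]
    have := Subgroup.mem_centralizer_singleton_iff.1 (h (y : G) hy2 hgN)
    exact Subgroup.mem_centralizer_singleton_iff.2 (Subtype.ext this)
  · intro h x hx g hg
    obtain ⟨k, hk⟩ : ∃ k, orderOf x = 2 ^ k :=
      ⟨_, Nat.eq_prime_pow_of_unique_prime_dvd (orderOf_pos x).ne' fun {d} hd hdd => hx d hd hdd⟩
    obtain ⟨a, b, ⟨i, hi⟩, hb, hab, -⟩ := CfsgLib.FGS.exists_p_parts 2 g
    rw [← hab]
    set Z := Subgroup.zpowers x with hZ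
    refine mul_mem ?_ ?_
    · -- the 2-part
      set t := g ^ a
      have htN : t ∈ Subgroup.normalizer (Z : Set G) := pow_mem hg a
      have hHp : IsPGroup 2 (Z ⊔ Subgroup.zpowers t : Subgroup G) :=
        (CfsgLib.FGS.isPGroup_zpowers hk).to_sup_of_normal_left'
          (CfsgLib.FGS.isPGroup_zpowers hi) (Subgroup.zpowers_le.2 htN)
      obtain ⟨S, hS⟩ := hHp.exists_le_sylow
      obtain ⟨c, hc⟩ := MulAction.exists_smul_eq G P S
      rw [← hc, Sylow.coe_subgroup_smul] at hS
      have hxP : c⁻¹ * x * c ∈ (P : Subgroup G) :=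
        CfsgLib.FGS.mem_conj_smul.1 (hS (le_sup_left (b := Subgroup.zpowers t) (Subgroup.mem_zpowers x)))
      have htP : c⁻¹ * t * c ∈ (P : Subgroup G) :=
        CfsgLib.FGS.mem_conj_smul.1 (hS (le_sup_right (a := Z) (Subgroup.mem_zpowers t)))
      set y' : (P : Subgroup G) := ⟨_, hxP⟩
      set t' : (P : Subgroup G) := ⟨_, htP⟩
      have hmem : ∀ s : (P : Subgroup G), s ∈ Subgroup.zpowers y' ↔ c * (s : G) * c⁻¹ ∈ Z := by
        intro s
        constructor
        · rintro ⟨n, rfl⟩
          refine ⟨n, ?_⟩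
          show x ^ n = c * ((y' ^ n : (P : Subgroup G)) : G) * c⁻¹
          rw [Subgroup.coe_zpow, ← conj_zpow]
          show x ^ n = (c * (c⁻¹ * x * c) * c⁻¹) ^ n
          congr 1; group
        · rintro ⟨n, hn⟩
          refine ⟨n, Subtype.ext ?_⟩
          show ((y' ^ n : (P : Subgroup G)) : G) = s
          rw [Subgroup.coe_zpow]
          show (c⁻¹ * x * c) ^ n = _
          have e := conj_zpow (a := c⁻¹) (b := x) (i := n)
          rw [inv_inv] at e
          rw [e, show x ^ n = _ from hn]; group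
      have ht' : t' ∈ Subgroup.normalizer ((Subgroup.zpowers y' : Subgroup (P : Subgroup G)) : Set _) := by
        refine Subgroup.mem_normalizer_iff.2 fun s => ?_
        rw [hmem, hmem]
        refine (Subgroup.mem_normalizer_iff.1 htN _).trans (iff_of_eq ?_)
        show (t * (c * (s : G) * c⁻¹) * t⁻¹ ∈ Z) = (c * ((c⁻¹ * t * c) * (s : G) * (c⁻¹ * t * c)⁻¹) * c⁻¹ ∈ Z)
        congr 1; group
      have h1 := congrArg Subtype.val (Subgroup.mem_centralizer_singleton_iff.1 (h y' ht'))
      change c⁻¹ * t * c * (c⁻¹ * x * c) = c⁻¹ * x * c * (c⁻¹ * t * c) at h1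
      rw [Subgroup.mem_centralizer_singleton_iff]
      calc t * x = c * (c⁻¹ * t * c * (c⁻¹ * x * c)) * c⁻¹ := by group
        _ = c * (c⁻¹ * x * c * (c⁻¹ * t * c)) * c⁻¹ := by rw [h1]
        _ = x * t := by group
    · -- the odd part acts trivially on a cyclic 2-group
      set u := g ^ b
      have huN : u ∈ Subgroup.normalizer (Z : Set G) := pow_mem hg b
      let f : Subgroup.normalizer (Z : Set G) →* MulAut Z := Subgroup.normalizerMonoidHom Z
      have hcard : ∃ j, Nat.card (MulAut Z) = 2 ^ j := by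
        haveI : IsCyclic Z := inferInstance
        rw [IsCyclic.card_mulAut, Nat.card_zpowers, hk]
        rcases Nat.eq_zero_or_pos k with rfl | hk0
        · exact ⟨0, by simp⟩
        · exact ⟨k - 1, by rw [Nat.totient_prime_pow Nat.prime_two hk0]; simp⟩
      obtain ⟨j, hj⟩ := hcard
      have h1 : f ⟨u, huN⟩ = 1 := by
        refine orderOf_eq_one_iff.1 (Nat.eq_one_of_dvd_coprimes (hb.pow_right j) ?_ ?_)
        · rw [← Subgroup.orderOf_mk u huN]; exact orderOf_map_dvd f _
        · rw [← hj]; exact orderOf_dvd_natCard _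
      have h2 : u * x * u⁻¹ = x := by
        have e := DFunLike.congr_fun h1 ⟨x, Subgroup.mem_zpowers x⟩
        exact congrArg Subtype.val e
      rw [Subgroup.mem_centralizer_singleton_iff]
      calc u * x = u * x * u⁻¹ * u := by group
        _ = x * u := by rw [h2]

end Cfsg.Agent.S4028
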