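import Cfsg.Statements.S4029
import Cfsg.Agent.Lib.Char.PermLemma
import Cfsg.Agent.Lib.Char.Linear
import Cfsg.Agent.Lib.PGroup.Basic
import Mathlib

set_option autoImplicit false
open Cfsg

namespace Cfsg.Agent.S4029

open Subgroup CfsgLib.Char

theorem index_frattini_le {P : Type*} [Group P] [Finite P] (hP : IsPGroup 2 P) :
    Nat.card (P ⧸ frattini P) ≤ Nat.card {C : ConjClasses P // classInv C = C} := by
  classical
  have := Fintype.ofFinite P
  have : Fact (Nat.Prime 2) := ⟨Nat.prime_two⟩
  have hcomm : commutator (P ⧸ frattini P) = ⊥ := by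
    rw [eq_bot_iff, _root_.commutator_def, commutator_le]
    intro a _ b _
    obtain ⟨x, rfl⟩ := QuotientGroup.mk'_surjective (frattini P) a
    obtain ⟨y, rfl⟩ := QuotientGroup.mk'_surjective (frattini P) b
    rw [← map_commutatorElement, mem_bot, QuotientGroup.mk'_apply, QuotientGroup.eq_one_iff]
    exact CfsgLib.PGroup.commutator_le_frattini hP
      (commutator_mem_commutator (mem_top x) (mem_top y))
  have hcard : Nat.card ((P ⧸ frattini P) →* ℂˣ) = Nat.card (P ⧸ frattini P) := by
    have : HasEnoughRootsOfUnity ℂ (Monoid.exponent (Abelianization (P ⧸ frattini P))) := by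
      have : NeZero (Monoid.exponent (Abelianization (P ⧸ frattini P)) : ℂ) :=
        ⟨by exact_mod_cast Monoid.exponent_ne_zero_of_finite⟩
      infer_instance
    rw [Nat.card_congr Abelianization.lift]
    obtain ⟨φ⟩ := CommGroup.monoidHom_mulEquiv_of_hasEnoughRootsOfUnity
      (Abelianization (P ⧸ frattini P)) ℂ
    rw [Nat.card_congr φ.toEquiv]
    show (commutator (P ⧸ frattini P)).index = _
    rw [hcomm, index_bot]
  rw [← card_real_irr, ← hcard]
  refine Nat.card_le_card_of_injective (fun f => ⟨⟨fun g => ((f.comp (QuotientGroup.mk'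
    (frattini P))) g : ℂ), isIrrCharacter_units_hom _⟩, ?_⟩) ?_
  · rw [irrConj_eq_self_iff]
    intro g
    have h2 : ((f (QuotientGroup.mk g) : ℂˣ) : ℂ) ^ 2 = 1 := by
      rw [← Units.val_pow_eq_pow_val, ← map_pow, ← QuotientGroup.mk_pow,
        (QuotientGroup.eq_one_iff _).2 (CfsgLib.PGroup.pow_mem_frattini hP g), map_one,
        Units.val_one]
    show ((f (QuotientGroup.mk g) : ℂˣ) : ℂ).im = 0
    rcases sq_eq_one_iff.1 h2 with h | h <;> simp [h]
  · intro f f' hff
    refine MonoidHom.ext fun a => Units.ext ?_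
    obtain ⟨g, rfl⟩ := QuotientGroup.mk'_surjective (frattini P) a
    exact congrFun (congrArg Subtype.val (congrArg Subtype.val hff)) g

theorem real_class {P : Type*} [Group P]
    (hirr : ∀ y : P, Subgroup.normalizer ((Subgroup.zpowers y : Subgroup P) : Set P) ≤
      Subgroup.centralizer {y}) (C : ConjClasses P) (hC : classInv C = C) :
    C = ConjClasses.mk 1 ∨ ∃ y, ConjClasses.mk y = C ∧ orderOf y = 2 := by
  obtain ⟨y, rfl⟩ := ConjClasses.mk_surjective C
  obtain ⟨g, hg⟩ := isConj_iff.1 (ConjClasses.mk_eq_mk_iff_isConj.1 hC)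
  -- g y⁻¹ g⁻¹ = y
  have hgN : g ∈ normalizer ((zpowers y : Subgroup P) : Set P) := by
    have key : ∀ a : P, a * y⁻¹ * a⁻¹ = y → ∀ z ∈ zpowers y, a * z * a⁻¹ ∈ zpowers y := by
      intro a ha z hz
      obtain ⟨i, rfl⟩ := mem_zpowers_iff.1 hz
      refine mem_zpowers_iff.2 ⟨-i, ?_⟩
      conv_lhs => rw [← ha]
      rw [conj_zpow, zpow_neg, inv_zpow, inv_inv]
    rw [Subgroup.mem_normalizer_iff]
    intro z
    refine ⟨key g hg z, fun hz => ?_⟩
    have hginv : g⁻¹ * y⁻¹ * g⁻¹⁻¹ = y := by
      have : g⁻¹ * y * g = y⁻¹ := by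
        conv_lhs => rw [← hg]
        group
      calc g⁻¹ * y⁻¹ * g⁻¹⁻¹ = (g⁻¹ * y * g)⁻¹ := by group
        _ = y := by rw [this, inv_inv]
    have := key g⁻¹ hginv _ hz
    rwa [show g⁻¹ * (g * z * g⁻¹) * g⁻¹⁻¹ = z by group] at this
  have hc := mem_centralizer_singleton_iff.1 (hirr y hgN)
  have hy : y⁻¹ = y := by
    rw [((show Commute g y from hc).inv_right).eq, mul_inv_cancel_right] at hg
    exact hg
  rcases eq_or_ne y 1 with rfl | hy1
  · exact Or.inl rfl
  · exact Or.inr ⟨y, rfl, orderOf_eq_prime (by rw [sq]; exact eq_inv_iff_mul_eq_one.1 hy.symm) hy1⟩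


/-- Let P be a finite 2-group in which N_P(⟨y⟩) = C_P(y) for every y ∈ P. If s is the number of conjugacy classes of involutions of P, then #(P/Φ(P)) ≤ s + 1; in particular the subgroup generated by the involutions of P has order at least #(P/Φ(P)). -/
theorem result {P : Type*} [Group P] [Finite P] (hP : IsPGroup 2 P)
    (hirr : ∀ y : P, Subgroup.normalizer ((Subgroup.zpowers y : Subgroup P) : Set P) ≤ Subgroup.centralizer {y}) :
    Nat.card (P ⧸ frattini P) ≤ Nat.card {c : ConjClasses P // ∃ y : P, ConjClasses.mk y = c ∧ orderOf y = 2} + 1 ∧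
    Nat.card (P ⧸ frattini P) ≤ Nat.card (Subgroup.closure {y : P | orderOf y = 2}) := by
  classical
  refine ⟨(index_frattini_le hP).trans ?_, (index_frattini_le hP).trans ?_⟩
  · have hsub : {C : ConjClasses P | CfsgLib.Char.classInv C = C} ⊆
        insert (ConjClasses.mk 1) {c : ConjClasses P | ∃ y : P, ConjClasses.mk y = c ∧ orderOf y = 2} :=
      fun C hC => real_class hirr C hC
    have h := (Set.ncard_le_ncard hsub).trans (Set.ncard_insert_le _ _)
    simpa only [← Nat.card_coe_set_eq, Set.coe_setOf] using h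
  · refine Nat.card_le_card_of_injective (fun C => ⟨Quotient.out C.1, ?_⟩) ?_
    · rcases real_class hirr C.1 C.2 with h | ⟨y, hy, hy2⟩
      · have h1 : IsConj (Quotient.out C.1) 1 :=
          ConjClasses.mk_eq_mk_iff_isConj.1 ((Quotient.out_eq C.1).trans h)
        rw [isConj_comm, isConj_one_right] at h1
        rw [h1]
        exact one_mem _
      · have h1 : IsConj y (Quotient.out C.1) :=
          ConjClasses.mk_eq_mk_iff_isConj.1 (hy.trans (Quotient.out_eq C.1).symm)
        obtain ⟨g, hg⟩ := isConj_iff.1 h1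
        refine Subgroup.subset_closure (show orderOf (Quotient.out C.1) = 2 from ?_)
        rw [← hg, ← hy2]
        exact (MulAut.conj g).orderOf_eq y
    · intro C C' h
      refine Subtype.ext ?_
      rw [← Quotient.out_eq C.1, ← Quotient.out_eq C'.1]
      exact congrArg _ (congrArg Subtype.val h :)

end Cfsg.Agent.S4029
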