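import Cfsg.Statements.S4032
import Cfsg.Agent.Lib.FGS.Covering
import Cfsg.Agent.Lib.Solvable.SchurZassenhaus

set_option autoImplicit false
open Cfsg

namespace Cfsg.Agent.S4032

/-- Let π be a set of primes and G a finite group in which N_G(⟨x⟩) = C_G(x) for every π-element x. If N is a normal subgroup of G whose order is divisible by no prime of π, then G/N has the same property: N_{G/N}(⟨y⟩) = C_{G/N}(y) for every π-element y of G/N. -/
theorem result {G : Type*} [Group G] [Finite G] (π : Set ℕ)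
    (hirr : ∀ x : G, (∀ r : ℕ, r.Prime → r ∣ orderOf x → r ∈ π) →
      Subgroup.normalizer ((Subgroup.zpowers x : Subgroup G) : Set G) ≤ Subgroup.centralizer {x})
    (N : Subgroup G) [N.Normal] (hN : ∀ r : ℕ, r.Prime → r ∣ Nat.card N → r ∉ π) :
    ∀ y : G ⧸ N, (∀ r : ℕ, r.Prime → r ∣ orderOf y → r ∈ π) →
      Subgroup.normalizer ((Subgroup.zpowers y : Subgroup (G ⧸ N)) : Set (G ⧸ N)) ≤ Subgroup.centralizer {y} := by
  classical
  intro y hy g' hg'
  suffices hy' : y ∈ Subgroup.centralizer ({g'} : Set (G ⧸ N)) by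
    rw [Subgroup.mem_centralizer_singleton_iff] at hy' ⊢
    exact hy'.symm
  refine CfsgLib.FGS.mem_of_prime_powers _ y ?_
  rintro a ⟨q, k, hq, hk⟩
  rw [Subgroup.mem_centralizer_singleton_iff]
  by_cases h1 : y ^ a = 1
  · simp [h1]
  haveI := Fact.mk hq
  have hk0 : k ≠ 0 := fun e => h1 (orderOf_eq_one_iff.1 (by rw [hk, e, pow_zero]))
  have hqπ : q ∈ π := hy q hq (((dvd_pow_self q hk0).trans hk.symm.dvd).trans (orderOf_pow_dvd a))
  obtain ⟨x₀, hx₀⟩ := QuotientGroup.mk'_surjective N (y ^ a)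
  -- lift to a `q`-element
  obtain ⟨e, f, ⟨i, hi⟩, hf, hef, -⟩ := CfsgLib.FGS.exists_p_parts q x₀
  set x := x₀ ^ e
  have hxy : QuotientGroup.mk' N x = y ^ a := by
    have hf1 : QuotientGroup.mk' N (x₀ ^ f) = 1 := by
      refine orderOf_eq_one_iff.1 (Nat.eq_one_of_dvd_coprimes (hf.pow_right k) ?_ ?_)
      · exact orderOf_map_dvd _ _
      · rw [map_pow, hx₀, ← hk]; exact orderOf_pow_dvd f
    rw [← hx₀, ← hef, map_mul, hf1, mul_one]
  have hxπ : ∀ r : ℕ, r.Prime → r ∣ orderOf x → r ∈ π := fun r hr hrd => by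
    rw [hi] at hrd
    rw [(Nat.prime_dvd_prime_iff_eq hr hq).1 (hr.dvd_of_dvd_pow hrd)]; exact hqπ
  obtain ⟨g, rfl⟩ := QuotientGroup.mk'_surjective N g'
  have hga : ∃ m : ℤ, QuotientGroup.mk' N (g * x * g⁻¹) = (y ^ a) ^ m := by
    obtain ⟨m, hm⟩ := (Subgroup.mem_normalizer_iff.1 hg' y).1 (Subgroup.mem_zpowers y)
    refine ⟨m, ?_⟩
    rw [map_mul, map_mul, map_inv, hxy, ← conj_pow, ← show y ^ m = _ from hm, ← zpow_natCast,
      ← zpow_natCast, ← zpow_mul, ← zpow_mul, mul_comm]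
  have hgx : g * x * g⁻¹ ∈ N ⊔ Subgroup.zpowers x := by
    obtain ⟨m, hm⟩ := hga
    rw [← hxy, ← map_zpow] at hm
    rw [show g * x * g⁻¹ = g * x * g⁻¹ * (x ^ m)⁻¹ * x ^ m by group]
    refine mul_mem (le_sup_left (b := Subgroup.zpowers x) ?_)
      (le_sup_right (a := N) (zpow_mem (Subgroup.mem_zpowers x) m))
    rw [← QuotientGroup.eq_one_iff]
    show QuotientGroup.mk' N _ = 1
    rw [map_mul, map_inv, hm, mul_inv_cancel]
  have hNq : ¬ q ∣ Nat.card N := fun h => hN q hq h hqπ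
  have hd : N ⊓ Subgroup.zpowers x = ⊥ := by
    refine Subgroup.inf_eq_bot_of_coprime ?_
    rw [Nat.card_zpowers, hi]
    exact (Nat.Prime.coprime_iff_not_dvd hq).2 hNq |>.symm.pow_right i
  obtain ⟨n, hn, hle⟩ := CfsgLib.Solvable.exists_conj_le_of_pGroup N (Subgroup.zpowers x)
    (Subgroup.zpowers (g * x * g⁻¹))
    (by rw [Subgroup.normalizer_eq_top_iff.2 ‹N.Normal›]; exact le_top) hd
    (Subgroup.zpowers_le.2 hgx)
    (CfsgLib.FGS.isPGroup_zpowers (p := q) (k := i) (by rw [← hi]; exact orderOf_injective (MulAut.conj g).toMonoidHom (MulAut.conj g).injective x))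
    hNq
  have hmem : n * g * x * (n * g)⁻¹ ∈ Subgroup.zpowers x := by
    have h2 := hle (Subgroup.smul_mem_pointwise_smul _ (MulAut.conj n) _ (Subgroup.mem_zpowers (g * x * g⁻¹)))
    simpa [MulAut.smul_def, MulAut.conj_apply, mul_assoc] using h2
  have hNx : n * g ∈ Subgroup.normalizer ((Subgroup.zpowers x : Subgroup G) : Set G) := by
    have hmap : (Subgroup.zpowers x).map (MulAut.conj (n * g)).toMonoidHom = Subgroup.zpowers x := by
      refine Subgroup.eq_of_le_of_card_ge ?_ ?_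
      · rw [MonoidHom.map_zpowers, Subgroup.zpowers_le]; exact hmem
      · rw [Subgroup.card_map_of_injective (MulAut.conj (n * g)).injective]
    refine Subgroup.mem_normalizer_iff.2 fun s => ⟨fun hs => ?_, fun hs => ?_⟩
    · rw [← hmap]; exact ⟨s, hs, rfl⟩
    · rw [← hmap] at hs
      obtain ⟨u, hu, hu'⟩ := hs
      exact (MulAut.conj (n * g)).injective hu' ▸ hu
  have hc := Subgroup.mem_centralizer_singleton_iff.1 (hirr x hxπ hNx)
  have hc' := congrArg (QuotientGroup.mk' N) hc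
  simp only [map_mul] at hc'
  rw [show QuotientGroup.mk' N n = 1 from (QuotientGroup.eq_one_iff n).2 hn,
    one_mul, hxy] at hc'
  exact hc'.symm

end Cfsg.Agent.S4032
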