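import Cfsg.Statements.S4036
import Mathlib.GroupTheory.PGroup

set_option autoImplicit false
open Cfsg

namespace Cfsg.Agent.S4036

/-- Let P be a finite abelian p-group and K a group of automorphisms of P (a subgroup of Aut P) whose order is divisible by p. If all non-identity elements of K have the same fixed-point subgroup on P, then K has no non-trivial normal subgroup of order prime to p. -/
theorem result {P : Type*} [CommGroup P] [Finite P] {p : ℕ}
    [Fact p.Prime] (hP : IsPGroup p P) (K : Subgroup (MulAut P)) (hK : p ∣ Nat.card K)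
    (hfix : ∀ x y : MulAut P, x ∈ K → y ∈ K → x ≠ 1 → y ≠ 1 → ∀ v : P, x v = v ↔ y v = v) :
    ∀ N : Subgroup ↥K, N.Normal → ¬ p ∣ Nat.card N → N = ⊥ := by
  intro N hNn hpN
  by_contra hN1
  classical
  haveI := Fintype.ofFinite N
  obtain ⟨u, hu⟩ := exists_prime_orderOf_dvd_card' p hK
  obtain ⟨n₀, hn₀, hn₀1⟩ := (Subgroup.bot_or_exists_ne_one N).resolve_left hN1
  have hu1 : (u : MulAut P) ≠ 1 := by
    intro h
    rw [← orderOf_eq_one_iff, Subgroup.orderOf_coe, hu] at h
    exact (Fact.out : p.Prime).one_lt.ne' h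
  have hn₀1' : (n₀ : MulAut P) ≠ 1 := fun h => hn₀1 (Subtype.ext h)
  have happ : ∀ (a b : ↥K) (v : P), ((a * b : ↥K) : MulAut P) v = (a : MulAut P) ((b : MulAut P) v) :=
    fun a b v => rfl
  -- the norm map
  let e : P →* P := ∏ n : N, ((n : ↥K) : MulAut P).toMonoidHom
  have he : ∀ v, e v = ∏ n : N, ((n : ↥K) : MulAut P) v := fun v => by
    simp [e, MonoidHom.finsetProd_apply]
  have hfixe : ∀ v, ∀ m : N, ((m : ↥K) : MulAut P) (e v) = e v := by
    intro v m
    rw [he, map_prod]
    exact Fintype.prod_equiv (Equiv.mulLeft m) _ _ fun n => rfl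
  have hpow : ∀ v, (∀ m : N, ((m : ↥K) : MulAut P) v = v) → e v = v ^ Nat.card N := by
    intro v hv
    rw [he]
    simp [hv, Nat.card_eq_fintype_card]
  have hinjF : ∀ v, (∀ m : N, ((m : ↥K) : MulAut P) v = v) → e v = 1 → v = 1 := by
    intro v hv h1
    rw [hpow v hv] at h1
    obtain ⟨k, hk⟩ := hP v
    rw [← orderOf_eq_one_iff]
    refine Nat.Coprime.eq_one_of_dvd ?_ (orderOf_dvd_of_pow_eq_one h1)
    exact (Nat.Coprime.pow_left k ((Nat.Prime.coprime_iff_not_dvd Fact.out).2 hpN)).coprime_dvd_left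
      (orderOf_dvd_of_pow_eq_one hk)
  -- `u` stabilises the kernel of `e`
  have hker : ∀ v ∈ e.ker, (u : MulAut P) v ∈ e.ker := by
    intro v hv
    rw [MonoidHom.mem_ker] at hv ⊢
    let σ : N ≃ N :=
      { toFun := fun n => ⟨u⁻¹ * n * u, by simpa using hNn.conj_mem n.1 n.2 u⁻¹⟩
        invFun := fun n => ⟨u * n * u⁻¹, hNn.conj_mem n.1 n.2 u⟩
        left_inv := fun n => Subtype.ext (by group)
        right_inv := fun n => Subtype.ext (by group) }
    have : e ((u : MulAut P) v) = (u : MulAut P) (e v) := by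
      rw [he, he, map_prod]
      refine Fintype.prod_equiv σ _ _ fun n => ?_
      rw [← happ, ← happ]
      congr 2
      show (n : ↥K) * u = u * (u⁻¹ * n * u)
      group
    rw [this, hv, map_one]
  -- a nontrivial fixed point of `u` in the kernel, unless it is trivial
  have hbot : e.ker = ⊥ := by
    by_contra hne
    let Z := Subgroup.zpowers u
    have hZ : ∀ z : Z, ∀ v ∈ e.ker, ((z : ↥K) : MulAut P) v ∈ e.ker := by
      rintro ⟨z, hz⟩ v hv
      rw [mem_powers_iff_mem_zpowers.symm] at hz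
      obtain ⟨k, rfl⟩ := hz
      show ((u ^ k : ↥K) : MulAut P) v ∈ e.ker
      clear hz
      induction k generalizing v with
      | zero => simpa using hv
      | succ k ih => rw [pow_succ, happ]; exact ih _ (hker v hv)
    letI : MulAction Z e.ker :=
      { smul := fun z v => ⟨((z : ↥K) : MulAut P) v, hZ z v.1 v.2⟩
        one_smul := fun v => Subtype.ext rfl
        mul_smul := fun a b v => Subtype.ext (happ a b v) }
    have hZp : IsPGroup p Z := IsPGroup.of_card (n := 1) (by rw [Nat.card_zpowers, hu, pow_one])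
    obtain ⟨k, hk, hk1⟩ := (hP.to_subgroup e.ker).nontrivial_iff_card.1
      ((Subgroup.nontrivial_iff_ne_bot _).2 hne)
    have h1 : (1 : e.ker) ∈ MulAction.fixedPoints Z e.ker := fun z => Subtype.ext (map_one _)
    obtain ⟨w, hw, hw1⟩ := hZp.exists_fixed_point_of_prime_dvd_card_of_fixed_point e.ker
      (hk1 ▸ dvd_pow_self p hk.ne') h1
    have huw : (u : MulAut P) w = w := congrArg Subtype.val (hw ⟨u, Subgroup.mem_zpowers u⟩)
    refine hw1.symm (Subtype.ext (hinjF _ (fun m => ?_) (MonoidHom.mem_ker.1 w.2)))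
    by_cases hm : ((m : ↥K) : MulAut P) = 1
    · rw [hm]; rfl
    · exact (hfix _ _ u.2 (m : ↥K).2 hu1 hm _).1 huw
  -- hence `N` acts trivially
  refine hn₀1' (MulEquiv.ext fun v => ?_)
  have hinj : Function.Injective e := (MonoidHom.ker_eq_bot_iff e).1 hbot
  refine hinj ?_
  rw [he, he]
  exact Fintype.prod_equiv (Equiv.mulRight (⟨n₀, hn₀⟩ : N)) _ _ fun n => rfl

end Cfsg.Agent.S4036
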