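import Cfsg.Statements.S4039
import Cfsg.Agent.Lib.Techniques.Functor.CentralGlobal
import Cfsg.Agent.Lib.Transfer.Frobenius
import Cfsg.Agent.Lib.Transfer.AlperinTame
import Cfsg.Agent.Lib.Solvable.CoprimeAction
import Cfsg.Agent.Lib.FGS.Basics
import Cfsg.Agent.Lib.OddLocal.Basic
import Mathlib

set_option autoImplicit false
open Cfsg

namespace Cfsg.Agent.S4039

open Subgroup
open scoped commutatorElement

universe u

theorem mem_zpowers_of_pow_coprime {H : Type*} [Group H] {x : H} {k : ℕ}
    (h : k.Coprime (orderOf x)) : x ∈ zpowers (x ^ k) := by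
  obtain ⟨m, hm⟩ := exists_pow_eq_self_of_coprime h
  exact ⟨(m : ℤ), by simpa using hm⟩

theorem solvable_of_core_bot {G : Type u} [Group G] [Finite G] (M : Subgroup G) (hmax : IsCoatom M)
    (hnil : Group.IsNilpotent M) (hcl : Group.nilpotencyClass M ≤ 2) (hM1 : M ≠ ⊥)
    (hcore : M.normalCore = ⊥) : Group.IsSolvable G := by
  classical
  have hloc : ∀ X : Subgroup G, X ≠ ⊥ → X ≤ M → M ≤ normalizer (X : Set G) →
      normalizer (X : Set G) = M := by
    intro X hX hXM hle
    rcases hle.eq_or_lt with h | h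
    · exact h.symm
    · exfalso
      have : X.Normal := normalizer_eq_top_iff.1 (hmax.2 _ h)
      exact hX (le_bot_iff.1 (hcore ▸ normal_le_normalCore.2 hXM))
  have hsyl : ∀ (p : ℕ) [Fact p.Prime], p ∣ Nat.card M →
      ¬ p ∣ M.index ∧ HasNormalPComplement p G := by
    intro p _ hp
    obtain ⟨Q⟩ := (inferInstance : Nonempty (Sylow p M))
    have hQn : (Q : Subgroup M).Normal := Sylow.normal_of_normalizerCondition
      Group.normalizerCondition_of_isNilpotent Q
    set P0 := (Q : Subgroup M).map M.subtype with hP0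
    have hP0M : P0 ≤ M := map_subtype_le _
    have hP0n : M ≤ normalizer (P0 : Set G) := by
      intro m hm
      rw [Subgroup.mem_normalizer_iff]
      intro x
      constructor
      · rintro ⟨y, hy, rfl⟩
        exact ⟨⟨m, hm⟩ * y * ⟨m, hm⟩⁻¹, hQn.conj_mem y hy _, rfl⟩
      · rintro ⟨y, hy, hye⟩
        refine ⟨⟨m, hm⟩⁻¹ * y * ⟨m, hm⟩⁻¹⁻¹, hQn.conj_mem y hy _, ?_⟩
        change m⁻¹ * (y : G) * m⁻¹⁻¹ = x
        rw [show (y : G) = m * x * m⁻¹ from hye]
        group
    have hP0ne : P0 ≠ ⊥ := by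
      rw [hP0, Ne, map_eq_bot_iff_of_injective _ M.subtype_injective]
      exact Q.ne_bot_of_dvd_card hp
    have hN := hloc P0 hP0ne hP0M hP0n
    have hP0p : IsPGroup p P0 := Q.isPGroup'.map _
    obtain ⟨P, hP⟩ := hP0p.exists_le_sylow
    have hPe : (P : Subgroup G) = P0 := by
      refine le_antisymm ?_ hP
      by_contra hle
      have hlt : P0.subgroupOf (P : Subgroup G) < ⊤ := lt_top_iff_ne_top.2
        (fun h => hle (subgroupOf_eq_top.1 h))
      have : Group.IsNilpotent (P : Subgroup G) := P.isPGroup'.isNilpotent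
      obtain ⟨⟨g, hgP⟩, hgN, hgnot⟩ := SetLike.exists_of_lt
        (Group.normalizerCondition_of_isNilpotent _ hlt)
      have hgn : g ∈ normalizer (P0 : Set G) := by
        rw [Subgroup.mem_normalizer_iff] at hgN ⊢
        intro x
        by_cases hx : x ∈ (P : Subgroup G)
        · exact hgN ⟨x, hx⟩
        · refine ⟨fun h => absurd (hP h) hx, fun h => absurd ?_ hx⟩
          have := mul_mem (mul_mem (inv_mem hgP) (hP h)) hgP
          rwa [show g⁻¹ * (g * x * g⁻¹) * g = x by group] at this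
      rw [hN] at hgn
      -- g is a p-element of M, so lies in the normal Sylow subgroup
      obtain ⟨j, hj⟩ := P.isPGroup' ⟨g, hgP⟩
      replace hj : g ^ p ^ j = 1 := congrArg Subtype.val hj
      have hgp : IsPGroup p (zpowers (⟨g, hgn⟩ : M)) := by
        rintro ⟨y, hy⟩
        obtain ⟨i, rfl⟩ := mem_zpowers_iff.1 hy
        refine ⟨j, Subtype.ext (Subtype.ext ?_)⟩
        show (g ^ i) ^ p ^ j = 1
        rw [← zpow_natCast, ← zpow_mul, mul_comm, zpow_mul, zpow_natCast, hj, one_zpow]
      obtain ⟨Q', hQ'⟩ := hgp.exists_le_sylow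
      have : Subsingleton (Sylow p M) := by
        have := Sylow.unique_of_normal Q hQn
        infer_instance
      rw [Subsingleton.elim Q' Q] at hQ'
      exact hgnot ⟨⟨g, hgn⟩, hQ' (mem_zpowers _), rfl⟩
    refine ⟨fun hidx => P.not_dvd_index (hidx.trans (index_dvd_of_le (hPe.le.trans hP0M))), ?_⟩
    refine CfsgLib.Transfer.hasNormalPComplement_of_frobeniusCond fun D hD g hg hgcop => ?_
    -- move `D` so that `P` is full for it
    obtain ⟨T, hDT, hTfull⟩ := CfsgLib.Transfer.exists_sylow_full (p := p) (X := D) (D := D) hD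
      le_normalizer
    obtain ⟨u, hu⟩ := MulAction.exists_smul_eq G T P
    have hPu : (P : Subgroup G) = CfsgLib.Fusion.conjSub u (T : Subgroup G) := by
      rw [← hu, Sylow.coe_subgroup_smul]; exact CfsgLib.Solvable.conj_smul_eq_map _ _
    set D' := CfsgLib.Fusion.conjSub u D with hD'
    have hD'P : D' ≤ (P : Subgroup G) := hPu ▸ CfsgLib.Fusion.conjSub_mono u hDT
    have hfull : CfsgLib.Techniques.Functor.Full p (P : Subgroup G) D' :=
      hPu ▸ CfsgLib.Transfer.full_conjSub hTfull u
    suffices h : u * g * u⁻¹ ∈ centralizer (D' : Set G) by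
      rw [mem_centralizer_iff] at h ⊢
      intro d hd
      have h1 := h (u * d * u⁻¹) (CfsgLib.Fusion.conj_mem_conjSub hd)
      calc d * g = u⁻¹ * (u * d * u⁻¹ * (u * g * u⁻¹)) * u := by group
        _ = u⁻¹ * (u * g * u⁻¹ * (u * d * u⁻¹)) * u := by rw [h1]
        _ = g * d := by group
    set x := u * g * u⁻¹ with hx
    have hxN : x ∈ normalizer (D' : Set G) := by
      rw [← CfsgLib.Fusion.conjSub_eq_iff_mem_normalizer, hD', CfsgLib.Fusion.conjSub_conjSub,
        show x * u = u * g by rw [hx]; group, ← CfsgLib.Fusion.conjSub_conjSub,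
        CfsgLib.Fusion.conjSub_eq_iff_mem_normalizer.2 hg]
    obtain ⟨m, hm, hagree⟩ := CfsgLib.Techniques.Functor.exists_extension P hfull hxN
    set Ds := D' ⊔ ((P : Subgroup G) ⊓ centralizer (D' : Set G)) with hDs
    have hDsP : Ds ≤ (P : Subgroup G) := sup_le hD'P inf_le_left
    rcases eq_or_ne Ds ⊥ with hb | hb
    · rw [mem_centralizer_iff]
      intro d hd
      have hd1 : d ∈ Ds := mem_sup_left hd
      rw [hb, mem_bot] at hd1
      rw [hd1, one_mul, mul_one]
    -- class at most two makes Ds normal in M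
    have hPM : (P : Subgroup G) ≤ M := hPe.le.trans hP0M
    have hclM : ∀ a ∈ M, ∀ b ∈ M, ∀ c ∈ M, c * ⁅a, b⁆ = ⁅a, b⁆ * c := by
      intro a ha b hb c hc
      have h0 : (⊤ : Subgroup M).lowerCentralSeries 2 = ⊥ :=
        Subgroup.lowerCentralSeries_eq_bot_iff_nilpotencyClass_le.2 hcl
      have h1 : ⁅⁅(⟨a, ha⟩ : M), (⟨b, hb⟩ : M)⁆, (⟨c, hc⟩ : M)⁆ ∈ (⊤ : Subgroup M).lowerCentralSeries 2 := by
        rw [Subgroup.lowerCentralSeries_succ, Subgroup.lowerCentralSeries_succ,
          Subgroup.lowerCentralSeries_zero]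
        exact commutator_mem_commutator (commutator_mem_commutator (mem_top _) (mem_top _)) (mem_top _)
      rw [h0, mem_bot, commutatorElement_eq_one_iff_mul_comm] at h1
      exact (congrArg Subtype.val h1).symm
    have hMDs : M ≤ normalizer (Ds : Set G) := by
      have hPn : M ≤ normalizer ((P : Subgroup G) : Set G) := hPe ▸ hP0n
      have key : ∀ a ∈ M, ∀ y ∈ Ds, a * y * a⁻¹ ∈ Ds := by
        intro a ha y hy
        have hyM : y ∈ M := hPM (hDsP hy)
        have hcP : ⁅a, y⁆ ∈ (P : Subgroup G) := by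
          rw [commutatorElement_def]
          exact mul_mem ((Subgroup.mem_normalizer_iff.1 (hPn ha) y).1 (hDsP hy)) (inv_mem (hDsP hy))
        have hcC : ⁅a, y⁆ ∈ centralizer (D' : Set G) :=
          mem_centralizer_iff.2 fun d hd => hclM a ha y hyM d (hPM (hD'P hd))
        have : ⁅a, y⁆ ∈ Ds := mem_sup_right (Subgroup.mem_inf.2 ⟨hcP, hcC⟩)
        have h2 := mul_mem this hy
        rwa [commutatorElement_def, inv_mul_cancel_right] at h2
      intro a ha
      rw [Subgroup.mem_normalizer_iff]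
      intro y
      refine ⟨key a ha y, fun hy => ?_⟩
      have := key a⁻¹ (inv_mem ha) _ hy
      rwa [show a⁻¹ * (a * y * a⁻¹) * a⁻¹⁻¹ = y by group] at this
    rw [hloc Ds hb (hDsP.trans hPM) hMDs] at hm
    -- split m into p-part and p'-part
    obtain ⟨e, he⟩ : ∃ e : ℕ, orderOf m = p ^ (orderOf m).factorization p * e :=
      Nat.ordProj_dvd (orderOf m) p
    have hme : m ^ e ∈ M := pow_mem hm e
    have hecomm : ∀ d ∈ D', m ^ (p ^ (orderOf m).factorization p) * d =
        d * m ^ (p ^ (orderOf m).factorization p) := by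
      intro d hd
      have hcop : (orderOf (m ^ (p ^ (orderOf m).factorization p))).Coprime (orderOf d) := by
        obtain ⟨j, hj⟩ := P.isPGroup' ⟨d, hD'P hd⟩
        replace hj : d ^ p ^ j = 1 := congrArg Subtype.val hj
        refine Nat.Coprime.coprime_dvd_right (orderOf_dvd_of_pow_eq_one hj) ?_
        refine Nat.Coprime.pow_right _ ?_
        rw [orderOf_pow_of_dvd (pow_ne_zero _ (Fact.out : p.Prime).ne_zero) (Nat.ordProj_dvd _ _)]
        exact (Nat.coprime_ordCompl (Fact.out : p.Prime) (orderOf_pos m).ne').symm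
      have h2 : (⟨_, pow_mem hm (p ^ (orderOf m).factorization p)⟩ : M) * ⟨d, hPM (hD'P hd)⟩ =
          ⟨d, hPM (hD'P hd)⟩ * ⟨_, pow_mem hm (p ^ (orderOf m).factorization p)⟩ :=
        CfsgLib.OddLocal.commute_of_coprime_orderOf _ _
          (by rw [← Subgroup.orderOf_coe, ← Subgroup.orderOf_coe]; exact hcop)
      exact congrArg Subtype.val h2
    -- x acts on D' as m
    have hxpow : ∀ (n : ℕ) (d : G), d ∈ D' → x ^ n * d * (x ^ n)⁻¹ = m ^ n * d * (m ^ n)⁻¹ := by
      intro n
      induction n with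
      | zero => intro d _; simp
      | succ n ih =>
        intro d hd
        have hxd : x * d * x⁻¹ ∈ D' := (Subgroup.mem_normalizer_iff.1 hxN d).1 hd
        calc x ^ (n + 1) * d * (x ^ (n + 1))⁻¹ = x ^ n * (x * d * x⁻¹) * (x ^ n)⁻¹ := by
              rw [pow_succ]; group
          _ = m ^ n * (x * d * x⁻¹) * (m ^ n)⁻¹ := ih _ hxd
          _ = m ^ (n + 1) * d * (m ^ (n + 1))⁻¹ := by rw [← hagree d hd, pow_succ]; group
    have hxcop : (orderOf x).Coprime p := by
      have : orderOf x = orderOf g := (MulAut.conj u).orderOf_eq g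
      rwa [this]
    have hxq : x ^ (p ^ (orderOf m).factorization p) ∈ centralizer (D' : Set G) := by
      refine mem_centralizer_iff.2 fun d hd => ?_
      have h1 := hxpow (p ^ (orderOf m).factorization p) d hd
      rw [hecomm d hd, mul_inv_cancel_right, mul_inv_eq_iff_eq_mul] at h1
      exact h1.symm
    have hgen : x ∈ zpowers (x ^ (p ^ (orderOf m).factorization p)) :=
      mem_zpowers_of_pow_coprime (Nat.Coprime.pow_left _ hxcop.symm)
    exact (zpowers_le.2 hxq) hgen
  -- a prime not dividing the order of M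
  obtain ⟨r, hr, hrG, hrM⟩ : ∃ r : ℕ, r.Prime ∧ r ∣ Nat.card G ∧ ¬ r ∣ Nat.card M := by
    by_contra hall
    push Not at hall
    obtain ⟨d, hd, hdi⟩ := Nat.exists_prime_and_dvd fun h => hmax.1 (index_eq_one.1 h)
    have : Fact d.Prime := ⟨hd⟩
    exact (hsyl d (hall d hd (hdi.trans (index_dvd_card M)))).1 hdi
  have : Fact r.Prime := ⟨hr⟩
  have hK : ∀ p : (Nat.card M).primeFactors, ∃ N : Subgroup G, N.Normal ∧
      (Nat.card N).Coprime (p : ℕ) ∧ ∃ k, N.index = (p : ℕ) ^ k := fun p => by
    have : Fact (p : ℕ).Prime := ⟨Nat.prime_of_mem_primeFactors p.2⟩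
    exact CfsgLib.Transfer.hasNormalPComplement_iff.1
      (hsyl _ (Nat.dvd_of_mem_primeFactors p.2)).2
  choose F hFn hFc hFi using hK
  set K : Subgroup G := ⨅ p, F p with hKdef
  have : K.Normal := normal_iInf_normal hFn
  have hcop : (Nat.card M).Coprime (Nat.card K) := by
    refine Nat.coprime_of_dvd fun d hd hdM hdK => ?_
    have hc := hFc ⟨d, Nat.mem_primeFactors.2 ⟨hd, hdM, Nat.card_pos.ne'⟩⟩
    exact hd.not_dvd_one (hc ▸ Nat.dvd_gcd (hdK.trans (card_dvd_of_le (iInf_le F _))) dvd_rfl)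
  have hrK : r ∣ Nat.card K := by
    obtain ⟨x, hx⟩ := exists_prime_orderOf_dvd_card' r hrG
    have hxK : x ∈ K := by
      rw [hKdef, mem_iInf]
      intro p
      have : Fact (p : ℕ).Prime := ⟨Nat.prime_of_mem_primeFactors p.2⟩
      have := hFn p
      obtain ⟨k, hk⟩ := hFi p
      rw [CfsgLib.Transfer.mem_iff_coprime_orderOf (hFc p) hk, hx,
        Nat.coprime_primes hr (Nat.prime_of_mem_primeFactors p.2)]
      exact fun h => hrM (h ▸ Nat.dvd_of_mem_primeFactors p.2)
    exact hx ▸ orderOf_dvd_natCard K hxK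
  have : Group.IsSolvable M := inferInstance
  obtain ⟨R, hR⟩ := CfsgLib.Solvable.exists_invariant_sylow M K le_normalizer_of_normal hcop
    (Or.inl inferInstance) r
  set R0 := (R : Subgroup K).map K.subtype with hR0
  have hR0ne : R0 ≠ ⊥ := by
    rw [hR0, Ne, map_eq_bot_iff_of_injective _ K.subtype_injective]
    exact R.ne_bot_of_dvd_card hrK
  have hRM : ¬ R0 ≤ M := by
    intro h
    apply hR0ne
    obtain ⟨j, hj⟩ := IsPGroup.iff_card.1 (R.isPGroup'.map K.subtype)
    refine Subgroup.eq_bot_of_card_eq _ (Nat.eq_one_of_dvd_coprimes hcop (card_dvd_of_le h)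
      (card_dvd_of_le (map_subtype_le _)))
  have htop : M ⊔ R0 = ⊤ := hmax.2 _ (lt_of_le_of_ne le_sup_left fun h => hRM (h ▸ le_sup_right))
  have hRn : R0.Normal := normalizer_eq_top_iff.1
    (top_le_iff.1 (htop ▸ sup_le hR le_normalizer))
  have : Group.IsNilpotent R0 := (R.isPGroup'.map K.subtype).isNilpotent
  have hsur : Function.Surjective ((QuotientGroup.mk' R0).comp M.subtype) := by
    intro y
    obtain ⟨g, rfl⟩ := QuotientGroup.mk_surjective y
    obtain ⟨a, ha, b, hb, rfl⟩ := mem_sup_of_normal_right.1 (htop ▸ mem_top g : g ∈ M ⊔ R0)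
    refine ⟨⟨a, ha⟩, ?_⟩
    show (QuotientGroup.mk a : G ⧸ R0) = QuotientGroup.mk (a * b)
    rw [QuotientGroup.mk_mul, (QuotientGroup.eq_one_iff b).2 hb, mul_one]
  have : Group.IsNilpotent (G ⧸ R0) := Group.nilpotent_of_surjective _ hsur
  exact Group.isSolvable_of_ker_le_range R0.subtype (QuotientGroup.mk' R0) (by simp)

theorem main : ∀ (n : ℕ) {G : Type u} [Group G] [Finite G], Nat.card G = n →
    ∀ M : Subgroup G, IsCoatom M → Group.IsNilpotent M →
      Group.nilpotencyClass M ≤ 2 → Group.IsSolvable G := by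
  intro n
  induction n using Nat.strong_induction_on with
  | _ n ih =>
  intro G _ _ hn M hmax hnil hcl
  rcases eq_or_ne M ⊥ with rfl | hM1
  · -- G is cyclic
    obtain ⟨g, hg⟩ : ∃ g : G, g ∉ (⊥ : Subgroup G) := by
      by_contra h
      push Not at h
      exact hmax.1 (eq_top_iff.2 fun g _ => h g)
    have htop : zpowers g = ⊤ := hmax.2 _ (bot_lt_iff_ne_bot.2 fun h => hg (by
      rw [← h]; exact mem_zpowers g))
    have : IsCyclic G := ⟨g, fun x => (htop ▸ mem_top x : x ∈ zpowers g)⟩
    infer_instance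
  by_cases hcore : M.normalCore = ⊥
  · exact solvable_of_core_bot M hmax hnil hcl hM1 hcore
  set N := M.normalCore with hNdef
  have hNM : N ≤ M := normalCore_le M
  have hsurj := QuotientGroup.mk'_surjective N
  have hlt : Nat.card (G ⧸ N) < n := by
    rw [← hn, ← index_eq_card, ← Subgroup.card_mul_index N]
    exact lt_mul_of_one_lt_left (Nat.pos_of_ne_zero index_ne_zero_of_finite)
      (Finite.one_lt_card_iff_nontrivial.2 ((nontrivial_iff_ne_bot N).2 hcore))
  have hcoat : IsCoatom (M.map (QuotientGroup.mk' N)) := by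
    have hcomap : (M.map (QuotientGroup.mk' N)).comap (QuotientGroup.mk' N) = M := by
      rw [comap_map_eq, QuotientGroup.ker_mk', sup_eq_left.2 hNM]
    refine ⟨fun h => hmax.1 ?_, fun X hX => ?_⟩
    · rw [← hcomap, h, comap_top]
    · have h1 : M < X.comap (QuotientGroup.mk' N) := by
        conv_lhs => rw [← hcomap]
        exact (comap_lt_comap_of_surjective hsurj).2 hX
      rw [← map_comap_eq_self_of_surjective hsurj X, hmax.2 _ h1, map_top_of_surjective _ hsurj]
  have hsolQ : Group.IsSolvable (G ⧸ N) := ih _ hlt rfl _ hcoat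
    (Group.nilpotent_of_surjective _ ((QuotientGroup.mk' N).subgroupMap_surjective M))
    (le_trans (have := hnil; Group.nilpotencyClass_le_of_surjective _ ((QuotientGroup.mk' N).subgroupMap_surjective M)) hcl)
  have : Group.IsNilpotent N :=
    Group.nilpotent_of_mulEquiv (Subgroup.subgroupOfEquivOfLe hNM)
  exact Group.isSolvable_of_ker_le_range N.subtype (QuotientGroup.mk' N) (by simp)




/-- A finite group possessing a maximal subgroup that is nilpotent of class at most 2 is solvable. -/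
theorem result {G : Type*} [Group G] [Finite G]
    (M : Subgroup G) (hmax : IsCoatom M) (hnil : Group.IsNilpotent M) (hcl : Group.nilpotencyClass ↥M ≤ 2) :
    Group.IsSolvable G := by
  exact main _ rfl M hmax hnil hcl

end Cfsg.Agent.S4039
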