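import Cfsg.Statements.S4040
import Cfsg.Agent.Lib.PStab.Complement
import Cfsg.Agent.Lib.FGS.ThompsonKernel
import Cfsg.Agent.Lib.Solvable.CoprimeAction
import Cfsg.Agent.Lib.Transfer.Basic
import Mathlib

set_option autoImplicit false
open Cfsg

namespace Cfsg.Agent.S4040

open Subgroup

universe u

theorem solvable_of_core_bot {G : Type u} [Group G] [Finite G] (M : Subgroup G) (hmax : IsCoatom M)
    (hnil : Group.IsNilpotent M) (hodd : Odd (Nat.card M)) (hM1 : M ≠ ⊥)
    (hcore : M.normalCore = ⊥) : Group.IsSolvable G := by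
  classical
  have hloc : ∀ X : Subgroup G, X ≠ ⊥ → X ≤ M → M ≤ normalizer (X : Set G) →
      normalizer (X : Set G) = M := by
    intro X hX hXM hle
    rcases hle.eq_or_lt with h | h
    · exact h.symm
    · exfalso
      have : X.Normal := normalizer_eq_top_iff.1 (hmax.2 _ h)
      exact hX (le_bot_iff.1 (hcore ▸ normal_le_normalCore.2 hXM))
  have hsyl : ∀ (p : ℕ) [Fact p.Prime], p ∣ Nat.card M →
      ¬ p ∣ M.index ∧ HasNormalPComplement p G := by
    intro p _ hp
    obtain ⟨Q⟩ := (inferInstance : Nonempty (Sylow p M))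
    have hQn : (Q : Subgroup M).Normal := Sylow.normal_of_normalizerCondition
      Group.normalizerCondition_of_isNilpotent Q
    set P0 := (Q : Subgroup M).map M.subtype with hP0
    have hP0M : P0 ≤ M := map_subtype_le _
    have hP0n : M ≤ normalizer (P0 : Set G) := by
      intro m hm
      rw [Subgroup.mem_normalizer_iff]
      intro x
      constructor
      · rintro ⟨y, hy, rfl⟩
        exact ⟨⟨m, hm⟩ * y * ⟨m, hm⟩⁻¹, hQn.conj_mem y hy _, rfl⟩
      · rintro ⟨y, hy, hye⟩
        refine ⟨⟨m, hm⟩⁻¹ * y * ⟨m, hm⟩⁻¹⁻¹, hQn.conj_mem y hy _, ?_⟩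
        change m⁻¹ * (y : G) * m⁻¹⁻¹ = x
        rw [show (y : G) = m * x * m⁻¹ from hye]
        group
    have hP0ne : P0 ≠ ⊥ := by
      rw [hP0, Ne, map_eq_bot_iff_of_injective _ M.subtype_injective]
      exact Q.ne_bot_of_dvd_card hp
    have hN := hloc P0 hP0ne hP0M hP0n
    have hP0p : IsPGroup p P0 := Q.isPGroup'.map _
    obtain ⟨P, hP⟩ := hP0p.exists_le_sylow
    have hPe : (P : Subgroup G) = P0 := by
      refine le_antisymm ?_ hP
      by_contra hle
      have hlt : P0.subgroupOf (P : Subgroup G) < ⊤ := lt_top_iff_ne_top.2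
        (fun h => hle (subgroupOf_eq_top.1 h))
      have : Group.IsNilpotent (P : Subgroup G) := P.isPGroup'.isNilpotent
      obtain ⟨⟨g, hgP⟩, hgN, hgnot⟩ := SetLike.exists_of_lt
        (Group.normalizerCondition_of_isNilpotent _ hlt)
      have hgn : g ∈ normalizer (P0 : Set G) := by
        rw [Subgroup.mem_normalizer_iff] at hgN ⊢
        intro x
        by_cases hx : x ∈ (P : Subgroup G)
        · exact hgN ⟨x, hx⟩
        · refine ⟨fun h => absurd (hP h) hx, fun h => absurd ?_ hx⟩
          have := mul_mem (mul_mem (inv_mem hgP) (hP h)) hgP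
          rwa [show g⁻¹ * (g * x * g⁻¹) * g = x by group] at this
      rw [hN] at hgn
      -- g is a p-element of M, so lies in the normal Sylow subgroup
      obtain ⟨j, hj⟩ := P.isPGroup' ⟨g, hgP⟩
      replace hj : g ^ p ^ j = 1 := congrArg Subtype.val hj
      have hgp : IsPGroup p (zpowers (⟨g, hgn⟩ : M)) := by
        rintro ⟨y, hy⟩
        obtain ⟨i, rfl⟩ := mem_zpowers_iff.1 hy
        refine ⟨j, Subtype.ext (Subtype.ext ?_)⟩
        show (g ^ i) ^ p ^ j = 1
        rw [← zpow_natCast, ← zpow_mul, mul_comm, zpow_mul, zpow_natCast, hj, one_zpow]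
      obtain ⟨Q', hQ'⟩ := hgp.exists_le_sylow
      have : Subsingleton (Sylow p M) := by
        have := Sylow.unique_of_normal Q hQn
        infer_instance
      rw [Subsingleton.elim Q' Q] at hQ'
      exact hgnot ⟨⟨g, hgn⟩, hQ' (mem_zpowers _), rfl⟩
    have hp2 : p ≠ 2 := by
      rintro rfl
      exact (Nat.not_even_iff_odd.2 hodd) (even_iff_two_dvd.2 hp)
    refine ⟨fun hidx => P.not_dvd_index (hidx.trans (index_dvd_of_le (hPe.le.trans hP0M))), ?_⟩
    refine CfsgLib.PStab.hasNormalPComplement_of_normalizer_zjGen hp2 (e := p) (Or.inr rfl) P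
      (D := (P : Subgroup G)) ⟨le_rfl, fun x _ g hg => hg⟩ ?_
    have hPne : (P : Subgroup G) ≠ ⊥ := hPe ▸ hP0ne
    have hz := CfsgLib.PStab.zjGen_ne_bot (p := p) (e := p) (Or.inr rfl) P.isPGroup' hPne
    rw [hloc _ hz ((inf_le_left.trans (CfsgLib.PStab.jGen_le _ _)).trans (hPe.le.trans hP0M))
      (le_trans (hPe ▸ hP0n) (CfsgLib.PStab.normalizer_le_normalizer_zjGen _ _))]
    exact CfsgLib.FGS.hasNormalPComplement_of_isNilpotent M
  -- a prime not dividing the order of M
  obtain ⟨r, hr, hrG, hrM⟩ : ∃ r : ℕ, r.Prime ∧ r ∣ Nat.card G ∧ ¬ r ∣ Nat.card M := by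
    by_contra hall
    push Not at hall
    obtain ⟨d, hd, hdi⟩ := Nat.exists_prime_and_dvd fun h => hmax.1 (index_eq_one.1 h)
    have : Fact d.Prime := ⟨hd⟩
    exact (hsyl d (hall d hd (hdi.trans (index_dvd_card M)))).1 hdi
  have : Fact r.Prime := ⟨hr⟩
  have hK : ∀ p : (Nat.card M).primeFactors, ∃ N : Subgroup G, N.Normal ∧
      (Nat.card N).Coprime (p : ℕ) ∧ ∃ k, N.index = (p : ℕ) ^ k := fun p => by
    have : Fact (p : ℕ).Prime := ⟨Nat.prime_of_mem_primeFactors p.2⟩
    exact CfsgLib.Transfer.hasNormalPComplement_iff.1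
      (hsyl _ (Nat.dvd_of_mem_primeFactors p.2)).2
  choose F hFn hFc hFi using hK
  set K : Subgroup G := ⨅ p, F p with hKdef
  have : K.Normal := normal_iInf_normal hFn
  have hcop : (Nat.card M).Coprime (Nat.card K) := by
    refine Nat.coprime_of_dvd fun d hd hdM hdK => ?_
    have hc := hFc ⟨d, Nat.mem_primeFactors.2 ⟨hd, hdM, Nat.card_pos.ne'⟩⟩
    exact hd.not_dvd_one (hc ▸ Nat.dvd_gcd (hdK.trans (card_dvd_of_le (iInf_le F _))) dvd_rfl)
  have hrK : r ∣ Nat.card K := by
    obtain ⟨x, hx⟩ := exists_prime_orderOf_dvd_card' r hrG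
    have hxK : x ∈ K := by
      rw [hKdef, mem_iInf]
      intro p
      have : Fact (p : ℕ).Prime := ⟨Nat.prime_of_mem_primeFactors p.2⟩
      have := hFn p
      obtain ⟨k, hk⟩ := hFi p
      rw [CfsgLib.Transfer.mem_iff_coprime_orderOf (hFc p) hk, hx,
        Nat.coprime_primes hr (Nat.prime_of_mem_primeFactors p.2)]
      exact fun h => hrM (h ▸ Nat.dvd_of_mem_primeFactors p.2)
    exact hx ▸ orderOf_dvd_natCard K hxK
  have : Group.IsSolvable M := inferInstance
  obtain ⟨R, hR⟩ := CfsgLib.Solvable.exists_invariant_sylow M K le_normalizer_of_normal hcop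
    (Or.inl inferInstance) r
  set R0 := (R : Subgroup K).map K.subtype with hR0
  have hR0ne : R0 ≠ ⊥ := by
    rw [hR0, Ne, map_eq_bot_iff_of_injective _ K.subtype_injective]
    exact R.ne_bot_of_dvd_card hrK
  have hRM : ¬ R0 ≤ M := by
    intro h
    apply hR0ne
    obtain ⟨j, hj⟩ := IsPGroup.iff_card.1 (R.isPGroup'.map K.subtype)
    refine Subgroup.eq_bot_of_card_eq _ (Nat.eq_one_of_dvd_coprimes hcop (card_dvd_of_le h)
      (card_dvd_of_le (map_subtype_le _)))
  have htop : M ⊔ R0 = ⊤ := hmax.2 _ (lt_of_le_of_ne le_sup_left fun h => hRM (h ▸ le_sup_right))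
  have hRn : R0.Normal := normalizer_eq_top_iff.1
    (top_le_iff.1 (htop ▸ sup_le hR le_normalizer))
  have : Group.IsNilpotent R0 := (R.isPGroup'.map K.subtype).isNilpotent
  have hsur : Function.Surjective ((QuotientGroup.mk' R0).comp M.subtype) := by
    intro y
    obtain ⟨g, rfl⟩ := QuotientGroup.mk_surjective y
    obtain ⟨a, ha, b, hb, rfl⟩ := mem_sup_of_normal_right.1 (htop ▸ mem_top g : g ∈ M ⊔ R0)
    refine ⟨⟨a, ha⟩, ?_⟩
    show (QuotientGroup.mk a : G ⧸ R0) = QuotientGroup.mk (a * b)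
    rw [QuotientGroup.mk_mul, (QuotientGroup.eq_one_iff b).2 hb, mul_one]
  have : Group.IsNilpotent (G ⧸ R0) := Group.nilpotent_of_surjective _ hsur
  exact Group.isSolvable_of_ker_le_range R0.subtype (QuotientGroup.mk' R0) (by simp)

theorem main : ∀ (n : ℕ) {G : Type u} [Group G] [Finite G], Nat.card G = n →
    ∀ M : Subgroup G, IsCoatom M → Group.IsNilpotent M → Odd (Nat.card M) → Group.IsSolvable G := by
  intro n
  induction n using Nat.strong_induction_on with
  | _ n ih =>
  intro G _ _ hn M hmax hnil hodd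
  rcases eq_or_ne M ⊥ with rfl | hM1
  · -- G is cyclic
    obtain ⟨g, hg⟩ : ∃ g : G, g ∉ (⊥ : Subgroup G) := by
      by_contra h
      push Not at h
      exact hmax.1 (eq_top_iff.2 fun g _ => h g)
    have htop : zpowers g = ⊤ := hmax.2 _ (bot_lt_iff_ne_bot.2 fun h => hg (by
      rw [← h]; exact mem_zpowers g))
    have : IsCyclic G := ⟨g, fun x => (htop ▸ mem_top x : x ∈ zpowers g)⟩
    infer_instance
  by_cases hcore : M.normalCore = ⊥
  · exact solvable_of_core_bot M hmax hnil hodd hM1 hcore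
  set N := M.normalCore with hNdef
  have hNM : N ≤ M := normalCore_le M
  have hsurj := QuotientGroup.mk'_surjective N
  have hlt : Nat.card (G ⧸ N) < n := by
    rw [← hn, ← index_eq_card, ← Subgroup.card_mul_index N]
    exact lt_mul_of_one_lt_left (Nat.pos_of_ne_zero index_ne_zero_of_finite)
      (Finite.one_lt_card_iff_nontrivial.2 ((nontrivial_iff_ne_bot N).2 hcore))
  have hcoat : IsCoatom (M.map (QuotientGroup.mk' N)) := by
    have hcomap : (M.map (QuotientGroup.mk' N)).comap (QuotientGroup.mk' N) = M := by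
      rw [comap_map_eq, QuotientGroup.ker_mk', sup_eq_left.2 hNM]
    refine ⟨fun h => hmax.1 ?_, fun X hX => ?_⟩
    · rw [← hcomap, h, comap_top]
    · have h1 : M < X.comap (QuotientGroup.mk' N) := by
        conv_lhs => rw [← hcomap]
        exact (comap_lt_comap_of_surjective hsurj).2 hX
      rw [← map_comap_eq_self_of_surjective hsurj X, hmax.2 _ h1, map_top_of_surjective _ hsurj]
  have hsolQ : Group.IsSolvable (G ⧸ N) := ih _ hlt rfl _ hcoat
    (Group.nilpotent_of_surjective _ ((QuotientGroup.mk' N).subgroupMap_surjective M))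
    (hodd.of_dvd_nat (card_map_dvd M _))
  have : Group.IsNilpotent N :=
    Group.nilpotent_of_mulEquiv (Subgroup.subgroupOfEquivOfLe hNM)
  exact Group.isSolvable_of_ker_le_range N.subtype (QuotientGroup.mk' N) (by simp)


/-- A finite group possessing a maximal subgroup that is nilpotent of odd order is solvable. -/
theorem result {G : Type*} [Group G] [Finite G]
    (M : Subgroup G) (hmax : IsCoatom M) (hnil : Group.IsNilpotent M) (hodd : Odd (Nat.card M)) :
    Group.IsSolvable G := by
  exact main _ rfl M hmax hnil hodd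

end Cfsg.Agent.S4040
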