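import Cfsg.Statements.S4043
import Cfsg.Agent.Lib.Transfer.Basic
import Cfsg.Agent.Lib.Solvable.SchurZassenhaus
import Cfsg.Agent.Lib.FGS.Basics

set_option autoImplicit false
open Cfsg
open scoped Pointwise

namespace Cfsg.Agent.S4043

/-- A normal `p`-complement of a subgroup, as a subgroup of the ambient group. -/
theorem sub_complement {G : Type*} [Group G] [Finite G] {p : ℕ} [Fact p.Prime] (A : Subgroup G)
    (hA : Cfsg.HasNormalPComplement p A) :
    ∃ B : Subgroup G, B ≤ A ∧ (B.subgroupOf A).Normal ∧ (Nat.card (B.subgroupOf A)).Coprime p ∧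
      ∃ k, (B.subgroupOf A).index = p ^ k := by
  obtain ⟨N, hN, hc, k, hk⟩ := CfsgLib.Transfer.hasNormalPComplement_iff.1 hA
  refine ⟨N.map A.subtype, Subgroup.map_subtype_le N, ?_⟩
  rw [Subgroup.subgroupOf, Subgroup.comap_map_eq_self_of_injective A.subtype_injective]
  exact ⟨hN, hc, k, hk⟩


/-- Let G be a finite group that is the semidirect product of a normal p-subgroup N by a subgroup A, and also of N by a subgroup A₁, where p is a prime and A and A₁ both have normal p-complements. If C_N(A) = C_N(A₁) = 1, then A₁ is conjugate to A by an element of N. -/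
theorem result {G : Type*} [Group G] [Finite G] {p : ℕ}
    [Fact p.Prime] (N : Subgroup G) [N.Normal] (hN : IsPGroup p N) (A A₁ : Subgroup G)
    (hA : A.IsComplement' N) (hA₁ : A₁.IsComplement' N)
    (hAp : Cfsg.HasNormalPComplement p A) (hA₁p : Cfsg.HasNormalPComplement p A₁)
    (hC : ∀ n : G, n ∈ N → (∀ a : G, a ∈ A → a * n * a⁻¹ = n) → n = 1)
    (hC₁ : ∀ n : G, n ∈ N → (∀ a : G, a ∈ A₁ → a * n * a⁻¹ = n) → n = 1) :
    ∃ n : G, n ∈ N ∧ A₁ = A.map (MulAut.conj n).toMonoidHom := by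
  classical
  obtain ⟨B, hBA, hBn, hBc, k, hBi⟩ := sub_complement A hAp
  obtain ⟨B₁, hB₁A, hB₁n, hB₁c, k₁, hB₁i⟩ := sub_complement A₁ hA₁p
  -- the complement has no fixed points on `N`
  have hCB : ∀ (A : Subgroup G) (B : Subgroup G), B ≤ A → (B.subgroupOf A).Normal →
      (∀ x ∈ A, (orderOf x).Coprime p → x ∈ B) →
      (∀ n : G, n ∈ N → (∀ a : G, a ∈ A → a * n * a⁻¹ = n) → n = 1) →
      N ⊓ Subgroup.centralizer (B : Set G) = ⊥ := by
    intro A B hBA hBn hBmem hfix
    set M := N ⊓ Subgroup.centralizer (B : Set G)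
    have hMinv : ∀ a ∈ A, ∀ m ∈ M, a * m * a⁻¹ ∈ M := by
      intro a ha m hm
      refine ⟨Subgroup.Normal.conj_mem ‹_› m hm.1 a, ?_⟩
      show _ ∈ Subgroup.centralizer _
      rw [Subgroup.mem_centralizer_iff]
      intro b hb
      have hb' : a⁻¹ * b * a ∈ B := by
        have := hBn.conj_mem ⟨b, hBA hb⟩ hb ⟨a⁻¹, inv_mem ha⟩
        simpa [Subgroup.mem_subgroupOf] using this
      have := Subgroup.mem_centralizer_iff.1 hm.2 _ hb'
      calc b * (a * m * a⁻¹) = a * ((a⁻¹ * b * a) * m) * a⁻¹ := by group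
        _ = a * m * a⁻¹ * b := by rw [this]; group
    by_contra hne
    obtain ⟨S⟩ : Nonempty (Sylow p A) := inferInstance
    have hMp : IsPGroup p M := hN.to_le inf_le_left
    obtain ⟨e, he, hec⟩ := hMp.nontrivial_iff_card.1 ((Subgroup.nontrivial_iff_ne_bot _).2 hne)
    letI : MulAction (S : Subgroup A) M :=
      { smul := fun a m => ⟨((a : A) : G) * (m : G) * ((a : A) : G)⁻¹, hMinv _ (a : A).2 _ m.2⟩
        one_smul := fun m => Subtype.ext (by simp [HSMul.hSMul, SMul.smul])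
        mul_smul := fun a b m => Subtype.ext (by simp [HSMul.hSMul, SMul.smul, mul_assoc]) }
    have h1 : (1 : M) ∈ MulAction.fixedPoints (S : Subgroup A) M := fun a => Subtype.ext (by
      show ((a : A) : G) * 1 * ((a : A) : G)⁻¹ = 1
      group)
    obtain ⟨w, hw, hw1⟩ := S.isPGroup'.exists_fixed_point_of_prime_dvd_card_of_fixed_point M
      (hec ▸ dvd_pow_self p he.ne') h1
    refine hw1.symm (Subtype.ext (hfix _ w.2.1 fun a ha => ?_))
    obtain ⟨i, j, hi, hj, hij, -⟩ := CfsgLib.FGS.exists_p_parts p (⟨a, ha⟩ : A)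
    have hmem : ∀ z : A, (∃ t, orderOf z = p ^ t) → (z : G) * (w : G) * (z : G)⁻¹ = w := by
      intro z hz
      obtain ⟨t, ht⟩ := hz
      obtain ⟨T, hT⟩ := (CfsgLib.FGS.isPGroup_zpowers ht).exists_le_sylow
      obtain ⟨c, hc⟩ := MulAction.exists_smul_eq A S T
      obtain ⟨c1, c2, hc1, hc2, hc12, -⟩ := CfsgLib.FGS.exists_p_parts p c
      -- move `c` into `B`: the quotient by `B` is the `p`-group `S B / B`
      obtain ⟨s, hs, b, hb, hsb⟩ : ∃ s ∈ (S : Subgroup A), ∃ b ∈ B.subgroupOf A, b * s = c := by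
        have hsup : B.subgroupOf A ⊔ (S : Subgroup A) = ⊤ := by
          have hcop : ¬ p ∣ (B.subgroupOf A ⊔ (S : Subgroup A)).index := fun h =>
            S.not_dvd_index (h.trans (Subgroup.index_dvd_of_le le_sup_right))
          rw [← Subgroup.index_eq_one]
          by_contra h1
          obtain ⟨l, hl, hld⟩ := Nat.exists_prime_and_dvd h1
          haveI := Fact.mk hl
          obtain ⟨R⟩ : Nonempty (Sylow l A) := inferInstance
          refine R.not_dvd_index (hld.trans (Subgroup.index_dvd_of_le (fun r hr => ?_)))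
          have hlp : l ≠ p := fun e => hcop (e ▸ hld)
          obtain ⟨u, hu⟩ := IsPGroup.iff_orderOf.1 R.isPGroup' ⟨r, hr⟩
          rw [Subgroup.orderOf_mk] at hu
          refine Subgroup.mem_sup_left (hBmem r r.2 ?_)
          rw [Subgroup.orderOf_coe, hu]
          exact Nat.Coprime.pow_left u ((Nat.coprime_primes hl Fact.out).2 hlp)
        have hc' : c ∈ B.subgroupOf A ⊔ (S : Subgroup A) := hsup ▸ Subgroup.mem_top c
        rw [Subgroup.mem_sup_of_normal_left] at hc'
        obtain ⟨b, hb, s, hs, hbs⟩ := hc'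
        exact ⟨s, hs, b, hb, hbs⟩
      have hz' : c⁻¹ * z * c ∈ (S : Subgroup A) := by
        have := hT (Subgroup.mem_zpowers z)
        rwa [← hc, Sylow.coe_subgroup_smul, CfsgLib.FGS.mem_conj_smul] at this
      have hfixS : ∀ u ∈ (S : Subgroup A), (u : G) * (w : G) * (u : G)⁻¹ = w := fun u hu =>
        congrArg Subtype.val (hw ⟨u, hu⟩)
      have hfixB : (b : G) * (w : G) * (b : G)⁻¹ = w := by
        show (b : G) * (w : G) * (b : G)⁻¹ = w
        rw [show (b : G) * (w : G) = (w : G) * (b : G) from Subgroup.mem_centralizer_iff.1 w.2.2 _ hb, mul_inv_cancel_right]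
      have hcw : (c : G) * (w : G) * (c : G)⁻¹ = w := by
        rw [← hsb]; push_cast
        calc (b : G) * (s : G) * w * ((b : G) * (s : G))⁻¹
            = (b : G) * ((s : G) * w * (s : G)⁻¹) * (b : G)⁻¹ := by group
          _ = w := by rw [hfixS s hs, hfixB]
      have h4 := hfixS _ hz'
      push_cast at h4
      calc (z : G) * w * (z : G)⁻¹
          = (c : G) * (((c : G)⁻¹ * z * c) * ((c : G)⁻¹ * w * c) * ((c : G)⁻¹ * z * c)⁻¹) * (c : G)⁻¹ := by
            group
        _ = w := by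
          have hcw' : (c : G)⁻¹ * w * c = w := by
            conv_lhs => rw [← hcw]
            group
          rw [hcw', h4, hcw]
    have h5 := hmem _ hi
    have h6 : ((⟨a, ha⟩ : A) ^ j : A).1 * (w : G) * (((⟨a, ha⟩ : A) ^ j : A).1)⁻¹ = w := by
      rw [Subgroup.mem_centralizer_iff.1 w.2.2 _ (hBmem _ ((⟨a, ha⟩ : A) ^ j).2
        (by rwa [Subgroup.orderOf_coe])), mul_inv_cancel_right]
    have : a = ((⟨a, ha⟩ : A) ^ i : A).1 * ((⟨a, ha⟩ : A) ^ j : A).1 := (congrArg Subtype.val hij).symm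
    calc a * w * a⁻¹ = ((⟨a, ha⟩ : A) ^ i : A).1 * (((⟨a, ha⟩ : A) ^ j : A).1 * w *
          (((⟨a, ha⟩ : A) ^ j : A).1)⁻¹) * (((⟨a, ha⟩ : A) ^ i : A).1)⁻¹ := by
            conv_lhs => rw [this]
            group
      _ = w := by rw [h6, h5]
  have hmemB : ∀ x ∈ A, (orderOf x).Coprime p → x ∈ B := fun x hx hxc => by
    have := (CfsgLib.Transfer.mem_iff_coprime_orderOf hBc hBi (⟨x, hx⟩ : A)).2
      (by rwa [Subgroup.orderOf_mk])
    exact this
  have hC := hCB A B hBA hBn hmemB hC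
  -- `B₁` lies in `N B`
  have hle : B₁ ≤ N ⊔ B := by
    intro x hx
    obtain ⟨⟨⟨a, ha⟩, ⟨n, hn⟩⟩, han⟩ := hA.surjective x
    have han' : a * n = x := han
    have hxc : (orderOf x).Coprime p := by
      have := (CfsgLib.Transfer.mem_iff_coprime_orderOf hB₁c hB₁i (⟨x, hB₁A hx⟩ : A₁)).1 hx
      rwa [Subgroup.orderOf_mk] at this
    have himg : (QuotientGroup.mk' N) x = (QuotientGroup.mk' N) a := by
      rw [← han', map_mul, show (QuotientGroup.mk' N) n = 1 from (QuotientGroup.eq_one_iff n).2 hn,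
        mul_one]
    have hinj : orderOf ((QuotientGroup.mk' N).comp A.subtype ⟨a, ha⟩) = orderOf (⟨a, ha⟩ : A) := by
      refine orderOf_injective _ ?_ _
      rw [← MonoidHom.ker_eq_bot_iff, eq_bot_iff]
      intro z hz
      have hz' : (z : G) ∈ A ⊓ N := ⟨z.2, (QuotientGroup.eq_one_iff _).1 hz⟩
      rw [hA.disjoint.eq_bot, Subgroup.mem_bot] at hz'
      exact Subgroup.mem_bot.2 (Subtype.ext hz')
    have haB : a ∈ B := by
      refine hmemB a ha (Nat.Coprime.coprime_dvd_left ?_ hxc)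
      rw [← Subgroup.orderOf_mk a ha, ← hinj]
      show orderOf ((QuotientGroup.mk' N) a) ∣ _
      rw [← himg]
      exact orderOf_map_dvd _ x
    rw [← han']
    exact mul_mem (Subgroup.mem_sup_right haB) (Subgroup.mem_sup_left hn)
  have hBN : B ≤ Subgroup.normalizer (N : Set G) := by
    rw [Subgroup.normalizer_eq_top_iff.2 ‹N.Normal›]; exact le_top
  have hd : N ⊓ B = ⊥ :=
    le_bot_iff.1 ((inf_le_inf le_rfl hBA).trans (by rw [inf_comm, hA.disjoint.eq_bot]))
  have hsolvN : Group.IsSolvable N := by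
    haveI : Group.IsNilpotent N := hN.isNilpotent
    infer_instance
  have hB₁card : (Nat.card N).Coprime (Nat.card B₁) := by
    obtain ⟨e, he⟩ := hN.exists_card_eq
    rw [he, ← Nat.card_congr (Subgroup.subgroupOfEquivOfLe hB₁A).toEquiv]
    exact Nat.Coprime.pow_left e hB₁c.symm
  obtain ⟨n, hn, hconj⟩ := CfsgLib.Solvable.exists_conj_le N B B₁ hBN hd hle hB₁card (Or.inl hsolvN)
  -- the two complements have equal orders
  have hcardA : Nat.card A₁ = Nat.card A := by
    have e1 := hA₁.card_mul_card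
    rw [← hA.card_mul_card] at e1
    exact Nat.eq_of_mul_eq_mul_right Nat.card_pos e1
  have hcardB : Nat.card B₁ = Nat.card B := by
    have e1 := (B₁.subgroupOf A₁).index_mul_card
    have e2 := (B.subgroupOf A).index_mul_card
    rw [hB₁i, Nat.card_congr (Subgroup.subgroupOfEquivOfLe hB₁A).toEquiv, hcardA] at e1
    rw [hBi, Nat.card_congr (Subgroup.subgroupOfEquivOfLe hBA).toEquiv] at e2
    rw [← Nat.card_congr (Subgroup.subgroupOfEquivOfLe hB₁A).toEquiv] at e1 hB₁card ⊢
    rw [← Nat.card_congr (Subgroup.subgroupOfEquivOfLe hBA).toEquiv] at e2 ⊢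
    have h1 : Nat.card (B₁.subgroupOf A₁) ∣ Nat.card (B.subgroupOf A) :=
      (hB₁c.pow_right k).dvd_of_dvd_mul_left (Dvd.intro_left _ (e1.trans e2.symm))
    have h2 : Nat.card (B.subgroupOf A) ∣ Nat.card (B₁.subgroupOf A₁) :=
      (hBc.pow_right k₁).dvd_of_dvd_mul_left (Dvd.intro_left _ (e2.trans e1.symm))
    exact Nat.dvd_antisymm h1 h2
  have heqB : MulAut.conj n • B₁ = B := CfsgLib.Solvable.conj_smul_eq_of_le hconj hcardB.ge
  refine ⟨n⁻¹, inv_mem hn, ?_⟩
  have hsub : MulAut.conj n • A₁ ≤ A := by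
    intro z hz
    -- `z` normalises `B`
    have hzN : ∀ b ∈ B, z * b * z⁻¹ ∈ B := by
      intro b hb
      rw [← heqB, CfsgLib.FGS.mem_conj_smul] at hb ⊢
      rw [CfsgLib.FGS.mem_conj_smul] at hz
      have := hB₁n.conj_mem ⟨_, hB₁A hb⟩ hb ⟨_, hz⟩
      simpa [Subgroup.mem_subgroupOf, mul_assoc] using this
    obtain ⟨⟨⟨a, ha⟩, ⟨m, hm⟩⟩, ham⟩ := hA.surjective z
    have ham' : a * m = z := ham
    have hmC : m ∈ N ⊓ Subgroup.centralizer (B : Set G) := by
      refine ⟨hm, ?_⟩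
      show _ ∈ Subgroup.centralizer _
      rw [Subgroup.mem_centralizer_iff]
      intro b hb
      have h1 : m * b * m⁻¹ ∈ B := by
        have hmb : z * b * z⁻¹ ∈ B := hzN b hb
        have := hBn.conj_mem ⟨_, hBA hmb⟩ hmb ⟨a⁻¹, inv_mem ha⟩
        simpa [Subgroup.mem_subgroupOf, ← ham', mul_assoc] using this
      have h2 : m * b * m⁻¹ * b⁻¹ ∈ N ⊓ B := by
        refine Subgroup.mem_inf.2 ⟨?_, mul_mem h1 (inv_mem (show b ∈ B from hb))⟩
        rw [show m * b * m⁻¹ * b⁻¹ = m * (b * m⁻¹ * b⁻¹) by group]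
        exact mul_mem hm (Subgroup.Normal.conj_mem ‹_› _ (inv_mem hm) b)
      rw [hd, Subgroup.mem_bot, mul_inv_eq_one, mul_inv_eq_iff_eq_mul] at h2
      exact h2.symm
    rw [hC, Subgroup.mem_bot] at hmC
    rw [← ham', hmC, mul_one]
    exact ha
  have heqA : MulAut.conj n • A₁ = A := CfsgLib.Solvable.conj_smul_eq_of_le hsub hcardA.ge
  rw [← heqA, ← CfsgLib.Solvable.conj_smul_eq_map, CfsgLib.Solvable.conj_smul_conj_smul,
    inv_mul_cancel, map_one, one_smul]

end Cfsg.Agent.S4043
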