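import Cfsg.Statements.S4049
import Cfsg.Agent.Lib.FGS.NoInverted

set_option autoImplicit false
open Cfsg

namespace Cfsg.Agent.S4049

/-- Let G be a finite group such that N_G(H)/C_G(H) has odd order for every nontrivial subgroup H of odd order. Then the Sylow 2-subgroups of G are normal. -/
theorem result {G : Type*} [Group G] [Finite G]
    (hhom : ∀ H : Subgroup G, H ≠ ⊥ → ¬ 2 ∣ Nat.card ↥H →
        ¬ 2 ∣ (Subgroup.centralizer (H : Set G)).relIndex (Subgroup.normalizer (H : Set G))) (P : Sylow 2 G) :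
    (P : Subgroup G).Normal := by
  refine CfsgLib.FGS.NoOddInverted.sylow_two_normal (fun x g hodd hg => ?_) P
  by_contra hx
  set H := Subgroup.zpowers x with hH
  have hgN : g ∈ Subgroup.normalizer (H : Set G) := by
    have hmap : H.map (MulAut.conj g).toMonoidHom = H := by
      rw [MonoidHom.map_zpowers]
      show Subgroup.zpowers (g * x * g⁻¹) = _
      rw [hg, Subgroup.zpowers_inv]
    refine Subgroup.mem_normalizer_iff.2 fun s => ⟨fun hs => ?_, fun hs => ?_⟩
    · rw [← hmap]; exact ⟨s, hs, rfl⟩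
    · rw [← hmap] at hs
      obtain ⟨u, hu, hu'⟩ := hs
      exact (MulAut.conj g).injective hu' ▸ hu
  refine hhom H (fun e => hx (Subgroup.zpowers_eq_bot.1 e)) ?_ ?_
  · rw [Nat.card_zpowers]; exact fun hd => (Nat.not_even_iff_odd.2 hodd) (even_iff_two_dvd.2 hd)
  · set N := Subgroup.normalizer (H : Set G)
    set C := (Subgroup.centralizer (H : Set G)).subgroupOf N with hC
    haveI : C.Normal := by rw [hC, ← Subgroup.normalizerMonoidHom_ker]; infer_instance
    show 2 ∣ C.index
    rw [Subgroup.index_eq_card]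
    have hnot : (⟨g, hgN⟩ : N) ∉ C := by
      intro hgc
      have h := Subgroup.mem_centralizer_iff.1 (Subgroup.mem_subgroupOf.1 hgc) x (Subgroup.mem_zpowers x)
      rw [← h, mul_inv_cancel_right] at hg
      have h2 : x ^ 2 = 1 := by rw [sq]; nth_rw 2 [hg]; exact mul_inv_cancel x
      rcases (Nat.dvd_prime Nat.prime_two).1 (orderOf_dvd_of_pow_eq_one h2) with h' | h'
      · exact hx (orderOf_eq_one_iff.1 h')
      · rw [h'] at hodd; exact absurd hodd (by decide)
    have hsq : (⟨g, hgN⟩ : N) ^ 2 ∈ C := by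
      rw [Subgroup.mem_subgroupOf, Subgroup.mem_centralizer_iff]
      rintro _ ⟨m, rfl⟩
      show x ^ m * ((⟨g, hgN⟩ : N) ^ 2 : N) = ((⟨g, hgN⟩ : N) ^ 2 : N) * x ^ m
      push_cast
      have h1 : Commute x (g ^ 2) := by
        show x * g ^ 2 = g ^ 2 * x
        calc x * g ^ 2 = (g * (g * x * g⁻¹) * g⁻¹) * g ^ 2 := by rw [hg, ← conj_inv, hg, inv_inv]
          _ = g ^ 2 * x := by rw [sq]; group
      exact (h1.zpow_left m).eq
    have hord : orderOf ((⟨g, hgN⟩ : N) : N ⧸ C) = 2 := by
      refine orderOf_eq_prime ?_ ?_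
      · rw [← QuotientGroup.mk_pow]; exact (QuotientGroup.eq_one_iff _).2 hsq
      · exact fun e => hnot ((QuotientGroup.eq_one_iff _).1 e)
    rw [← hord]
    exact orderOf_dvd_natCard _

end Cfsg.Agent.S4049
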