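import Cfsg.Statements.S4050
import Cfsg.Agent.Lib.FGS.PiClosed

set_option autoImplicit false
open Cfsg

namespace Cfsg.Agent.S4050

/-- Let π be a set of primes and G a finite group. The π-elements of G (elements whose order is divisible only by primes of π) form a subgroup if and only if G is π-separable (it has a chain of normal subgroups from 1 to G with each successive index divisible only by primes in π or only by primes outside π) and N_G(H)/C_G(H) is a π'-group for every nontrivial π'-subgroup H of G. -/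
theorem result {G : Type*} [Group G] [Finite G] (π : Set ℕ)
    (hπ : ∀ p ∈ π, p.Prime) :
    (∃ K : Subgroup G, ∀ x : G, x ∈ K ↔ ∀ p : ℕ, p.Prime → p ∣ orderOf x → p ∈ π) ↔
    ((∃ (n : ℕ) (H : Fin (n + 1) → Subgroup G), H 0 = ⊥ ∧ H (Fin.last n) = ⊤ ∧ Monotone H ∧ (∀ i, (H i).Normal) ∧
      ∀ i : Fin n, (∀ q : ℕ, q.Prime → q ∣ (H i.castSucc).relIndex (H i.succ) → q ∈ π) ∨
        (∀ q : ℕ, q.Prime → q ∣ (H i.castSucc).relIndex (H i.succ) → q ∉ π)) ∧
     (∀ H : Subgroup G, H ≠ ⊥ → (∀ p : ℕ, p.Prime → p ∣ Nat.card ↥H → p ∉ π) →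
        ∀ p : ℕ, p.Prime → p ∣ (Subgroup.centralizer (H : Set G)).relIndex (Subgroup.normalizer (H : Set G)) → p ∉ π)) := by
  open CfsgLib.FGS Subgroup in
  constructor
  · rintro ⟨K, hK⟩
    have hKn : K.Normal := ⟨fun n hn g => by
      rw [hK] at hn ⊢
      rwa [← MulAut.conj_apply, MulEquiv.orderOf_eq]⟩
    have hKπ : NumIn π (Nat.card K) := numIn_card K fun x hx => (hK x).1 hx
    have hidx : ∀ q : ℕ, q.Prime → q ∣ K.index → q ∉ π := by
      intro q hq hd hqπ
      haveI := Fact.mk hq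
      rw [index_eq_card] at hd
      obtain ⟨c, hc⟩ := exists_prime_orderOf_dvd_card' q hd
      obtain ⟨g, rfl⟩ := QuotientGroup.mk_surjective c
      obtain ⟨a, b, ⟨k, hk⟩, -, -, ha⟩ := exists_p_parts q g
      have h1 : g ^ a ∈ K := (hK _).2 fun r hr hrd => by
        rw [hk] at hrd
        rwa [(Nat.prime_dvd_prime_iff_eq hr hq).1 (hr.dvd_of_dvd_pow hrd)]
      exact ha (hc ▸ orderOf_dvd_of_pow_eq_one ((QuotientGroup.eq_one_iff _).2 h1))
    refine ⟨⟨2, ![⊥, K, ⊤], rfl, rfl, ?_, ?_, ?_⟩, ?_⟩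
    · refine Fin.monotone_iff_le_succ.2 fun i => ?_
      fin_cases i <;> simp
    · intro i; fin_cases i <;> simp <;> infer_instance
    · intro i; fin_cases i
      · left; simpa [relIndex_bot_left, NumIn] using hKπ
      · right; simpa [relIndex_top_right] using hidx
    · intro H hH hH' p hp hd hpπ
      haveI := Fact.mk hp
      obtain ⟨R⟩ := Sylow.nonempty (p := p) (G := normalizer (H : Set G))
      refine R.not_dvd_index (hd.trans ?_)
      refine index_dvd_of_le fun r hr => ?_
      rw [mem_subgroupOf, mem_centralizer_iff]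
      intro x hx
      obtain ⟨k, hk⟩ := IsPGroup.iff_orderOf.1 R.2 ⟨r, hr⟩
      rw [orderOf_mk] at hk
      have hrK : (r : G) ∈ K := (hK _).2 fun q hq hqd => by
        rw [orderOf_coe, hk] at hqd
        rwa [(Nat.prime_dvd_prime_iff_eq hq hp).1 (hq.dvd_of_dvd_pow hqd)]
      have h1 : x * r * x⁻¹ * (r : G)⁻¹ ∈ K := mul_mem (hKn.conj_mem _ hrK x) (inv_mem hrK)
      have h2 : x * r * x⁻¹ * (r : G)⁻¹ ∈ H := by
        have h3 := (mem_normalizer_iff.1 r.2 x⁻¹).1 (inv_mem hx)
        rw [show x * r * x⁻¹ * (r : G)⁻¹ = x * (r * x⁻¹ * (r : G)⁻¹) by group]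
        exact mul_mem hx h3
      have h4 : orderOf (x * r * x⁻¹ * (r : G)⁻¹) = 1 :=
        Nat.eq_one_of_dvd_coprimes (hKπ.coprime hH') (Subgroup.orderOf_dvd_natCard K h1)
          (Subgroup.orderOf_dvd_natCard H h2)
      rw [orderOf_eq_one_iff, mul_inv_eq_one, mul_inv_eq_iff_eq_mul] at h4
      exact h4
  · rintro ⟨⟨n, H, h0, hlast, hmono, hnorm, hfac⟩, hhom⟩
    have hh : PiPrimeHomogeneous π G := hhom
    suffices ∀ i, ∃ L : Subgroup ↥(H i), ∀ x : ↥(H i), x ∈ L ↔ NumIn π (orderOf x) by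
      have h1 := this (Fin.last n)
      rw [hlast] at h1
      obtain ⟨L, hL⟩ := h1
      refine ⟨L.map (⊤ : Subgroup G).subtype, fun x => ⟨?_, fun hx => ?_⟩⟩
      · rintro ⟨y, hy, rfl⟩
        have := (hL y).1 hy
        rw [← orderOf_coe] at this
        exact this
      · exact ⟨⟨x, mem_top x⟩, (hL _).2 (by rw [orderOf_mk]; exact hx), rfl⟩
    intro i
    induction i using Fin.induction with
    | zero =>
      rw [h0]
      refine ⟨⊤, fun x => ⟨fun _ => ?_, fun _ => mem_top x⟩⟩
      rw [Subsingleton.elim x 1, orderOf_one]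
      exact fun p hp hd => absurd (Nat.eq_one_of_dvd_one hd) hp.ne_one
    | succ i ih =>
      have hle : H i.castSucc ≤ H i.succ := hmono (Fin.castSucc_le_succ i)
      haveI := hnorm i.castSucc
      haveI hK : ((H i.castSucc).subgroupOf (H i.succ)).Normal :=
        Normal.subgroupOf inferInstance _
      refine piClosed_of_normal π (hh.subgroup _) ((H i.castSucc).subgroupOf (H i.succ)) ?_ ?_
      · obtain ⟨L, hL⟩ := ih
        let e := subgroupOfEquivOfLe hle
        refine ⟨L.comap e.toMonoidHom, fun x => ?_⟩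
        rw [mem_comap, hL]
        exact iff_of_eq (congrArg _ (e.orderOf_eq x))
      · have hc : Nat.card (↥(H i.succ) ⧸ (H i.castSucc).subgroupOf (H i.succ)) =
            (H i.castSucc).relIndex (H i.succ) := (index_eq_card _).symm
        rcases hfac i with h | h
        · refine ⟨⊤, fun x => ⟨fun _ => ?_, fun _ => mem_top x⟩⟩
          intro p hp hd
          exact h p hp (hc ▸ hd.trans (orderOf_dvd_natCard x))
        · refine ⟨⊥, fun x => ⟨fun hx => ?_, fun hx => ?_⟩⟩
          · rw [mem_bot.1 hx, orderOf_one]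
            exact fun p hp hd => absurd (Nat.eq_one_of_dvd_one hd) hp.ne_one
          · rw [mem_bot, ← orderOf_eq_one_iff]
            exact Nat.eq_one_of_dvd_coprimes (hx.coprime (hc ▸ h)) dvd_rfl (orderOf_dvd_natCard x)

end Cfsg.Agent.S4050
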