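import Cfsg.Statements.S4056
import Cfsg.Agent.Lib.Transfer.Critical
import Mathlib.Tactic.Ring
import Mathlib.Tactic.Group

set_option autoImplicit false
open Cfsg

namespace Cfsg.Agent.S4056

/-- In a finite 2-group of nilpotency class at most 2 and exponent dividing 4, the Frattini subgroup lies in the centre and is elementary abelian. -/
theorem result {P : Type*} [Group P] [Finite P] (hP : IsPGroup 2 P)
    (hcl : Group.nilpotencyClass P ≤ 2) (hexp : Monoid.exponent P ∣ 4) :
    frattini P ≤ Subgroup.center P ∧ Cfsg.IsElementaryAbelian 2 (frattini P) := by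
  classical
  open commutatorElement in
  haveI : Fact (Nat.Prime 2) := ⟨Nat.prime_two⟩
  haveI : Group.IsNilpotent P := hP.isNilpotent
  have hc : ∀ a b : P, ⁅a, b⁆ ∈ Subgroup.center P := by
    intro a b
    have h1 : Subgroup.upperCentralSeries P 2 = ⊤ :=
      top_le_iff.1 (Subgroup.upperCentralSeries_nilpotencyClass (G := P) ▸ Subgroup.upperCentralSeries_mono P hcl)
    have ha : a ∈ Subgroup.upperCentralSeries P 2 := h1 ▸ Subgroup.mem_top a
    rw [Subgroup.mem_upperCentralSeries_succ_iff] at ha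
    have := ha b
    simpa [Subgroup.upperCentralSeries_one, commutatorElement_def] using this
  have h4 : ∀ x : P, x ^ 4 = 1 := fun x => by
    obtain ⟨c, hc⟩ := hexp
    rw [hc, pow_mul, Monoid.pow_exponent_eq_one, one_pow]
  -- squares are central and have square one
  have hsq : ∀ a : P, a ^ 2 ∈ Subgroup.center P := by
    intro a
    have hc2 : ∀ u v : P, ⁅u, v⁆ ^ 2 = 1 := by
      intro u v
      set c := ⁅u, v⁆ with hcdef
      have hcc : ∀ g : P, g * c = c * g := Subgroup.mem_center_iff.1 (hc u v)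
      have huv : u * v = c * (v * u) := by rw [hcdef, commutatorElement_def]; group
      have key : ∀ k : ℕ, v ^ k * u = (c⁻¹) ^ k * (u * v ^ k) := by
        intro k
        induction k with
        | zero => simp
        | succ k ih =>
          have hvu : v * u = c⁻¹ * (u * v) := by rw [huv]; group
          rw [pow_succ', mul_assoc, ih, ← mul_assoc v,
            show v * (c⁻¹) ^ k = (c⁻¹) ^ k * v from
              (Commute.pow_right (Commute.inv_right (hcc v)) k).eq,
            mul_assoc, ← mul_assoc v u, hvu, pow_succ]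
          group
      have hpow : ∀ k : ℕ, (u * v) ^ k = (c⁻¹) ^ (k * (k - 1) / 2) * (u ^ k * v ^ k) := by
        intro k
        induction k with
        | zero => simp
        | succ k ih =>
          have htri : (k + 1) * (k + 1 - 1) / 2 = k * (k - 1) / 2 + k := by
            rw [Nat.add_sub_cancel, show (k + 1) * k = k * (k - 1) + k * 2 by
              rcases k with _ | k <;> simp <;> ring, Nat.add_mul_div_right _ _ (by norm_num : 0 < 2)]
          have hcu : ∀ m : ℕ, ∀ g : P, g * (c⁻¹) ^ m = (c⁻¹) ^ m * g := fun m g =>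
            (Commute.pow_right (Commute.inv_right (hcc g)) m).eq
          rw [pow_succ, ih, htri, pow_add, pow_succ u, pow_succ v]
          calc (c⁻¹) ^ (k * (k - 1) / 2) * (u ^ k * v ^ k) * (u * v)
              = (c⁻¹) ^ (k * (k - 1) / 2) * (u ^ k * (v ^ k * u) * v) := by group
            _ = (c⁻¹) ^ (k * (k - 1) / 2) * ((u ^ k * (c⁻¹) ^ k) * (u * v ^ k) * v) := by
                rw [key]; group
            _ = _ := by rw [hcu k (u ^ k)]; group
      have h6 := hpow 4
      rw [h4, h4, h4, one_mul, mul_one, show 4 * (4 - 1) / 2 = 6 by norm_num] at h6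
      have h7 : c ^ 6 = 1 := by rw [inv_pow] at h6; exact inv_eq_one.1 h6.symm
      calc c ^ 2 = c ^ 6 * (c ^ 4)⁻¹ := by group
        _ = 1 := by rw [h7, h4]; group
    rw [Subgroup.mem_center_iff]
    intro g
    have e : ⁅a ^ 2, g⁆ = ⁅a, g⁆ ^ 2 := by
      rw [sq, sq]
      have h := Subgroup.mem_center_iff.1 (hc a g) a
      calc ⁅a * a, g⁆ = a * ⁅a, g⁆ * a⁻¹ * ⁅a, g⁆ := by simp only [commutatorElement_def]; group
        _ = ⁅a, g⁆ * ⁅a, g⁆ := by rw [h, mul_inv_cancel_right]
    rw [hc2] at e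
    exact (commutatorElement_eq_one_iff_mul_comm.1 e).symm
  let Z : Subgroup P :=
    { carrier := {x | x ∈ Subgroup.center P ∧ x ^ 2 = 1}
      one_mem' := ⟨one_mem _, one_pow 2⟩
      mul_mem' := fun {x y} hx hy => ⟨mul_mem hx.1 hy.1, by
        rw [Commute.mul_pow (Subgroup.mem_center_iff.1 hy.1 x), hx.2, hy.2, one_mul]⟩
      inv_mem' := fun {x} hx => ⟨inv_mem hx.1, by rw [inv_pow, hx.2, inv_one]⟩ }
  have hle : frattini P ≤ Z := by
    refine CfsgLib.Transfer.frattini_le_of_commutator_pow (p := 2) Z (fun a b => ⟨hc a b, ?_⟩)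
      fun a => ⟨hsq a, by rw [← pow_mul]; exact h4 a⟩
    have e : ⁅a ^ 2, b⁆ = 1 := commutatorElement_eq_one_iff_mul_comm.2 (Subgroup.mem_center_iff.1 (hsq a) b).symm
    have h := Subgroup.mem_center_iff.1 (hc a b) a
    calc ⁅a, b⁆ ^ 2 = a * ⁅a, b⁆ * a⁻¹ * ⁅a, b⁆ := by rw [h, mul_inv_cancel_right, sq]
      _ = ⁅a ^ 2, b⁆ := by rw [sq]; simp only [commutatorElement_def]; group
      _ = 1 := e
  refine ⟨fun x hx => (hle hx).1, ⟨⟨fun x y => Subtype.ext ?_⟩⟩, fun a ha => (hle ha).2⟩
  exact Subgroup.mem_center_iff.1 (hle y.2).1 (x : P)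

end Cfsg.Agent.S4056
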