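import Cfsg.Statements.S4058
import Cfsg.Agent.Lib.Char.Ortho
import Cfsg.Agent.Lib.Char.Integral
import Cfsg.Agent.Lib.PGroup.Basic
import Mathlib.LinearAlgebra.Matrix.Kronecker
import Mathlib.GroupTheory.FiniteAbelian.Duality
import Mathlib.LinearAlgebra.Trace
import Mathlib.RingTheory.RootsOfUnity.AlgebraicallyClosed

set_option autoImplicit false
open Cfsg

namespace Cfsg.Agent.S4058

open CfsgLib.Char Kronecker
open scoped ComplexConjugate

/-- An idempotent complex matrix has natural trace. -/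
theorem trace_idem {ι : Type*} [Fintype ι] [DecidableEq ι] (P : Matrix ι ι ℂ) (h : P * P = P) :
    ∃ m : ℕ, P.trace = m := by
  have hp : LinearMap.IsProj (LinearMap.range (Matrix.toLin' P)) (Matrix.toLin' P) := by
    refine ⟨fun x => LinearMap.mem_range_self _ x, ?_⟩
    rintro _ ⟨y, rfl⟩
    rw [← LinearMap.comp_apply, ← Matrix.toLin'_mul, h]
  refine ⟨Module.finrank ℂ (LinearMap.range (Matrix.toLin' P)), ?_⟩
  rw [← Matrix.trace_toLin'_eq, hp.trace]

/-- The Frobenius-Schur sum of a character is an integral multiple of the group order. -/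
theorem sum_sq_int {G : Type*} [Group G] [Fintype G] {χ : G → ℂ} (h : Cfsg.IsIrrCharacter G χ) :
    ∃ z : ℤ, ∑ g : G, χ (g ^ 2) = (Nat.card G : ℂ) * z := by
  classical
  obtain ⟨n, ρ, -, rfl⟩ := h
  set A : G → Matrix (Fin n) (Fin n) ℂ := fun g => LinearMap.toMatrix' (ρ g) with hA
  have hmul : ∀ g k, A g * A k = A (g * k) := fun g k => by
    simp only [hA, map_mul, LinearMap.toMatrix'_mul]
  let τ : Matrix (Fin n × Fin n) (Fin n × Fin n) ℂ :=
    Matrix.of fun x y => if x = y.swap then 1 else 0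
  let E : Matrix (Fin n × Fin n) (Fin n × Fin n) ℂ :=
    (Nat.card G : ℂ)⁻¹ • ∑ g, A g ⊗ₖ A g
  have hτr : ∀ (X : Matrix (Fin n × Fin n) (Fin n × Fin n) ℂ) x y, (X * τ) x y = X x y.swap := by
    intro X x y
    rw [Matrix.mul_apply, Finset.sum_eq_single y.swap]
    · simp [τ]
    · intro b _ hb; simp [τ, hb]
    · simp
  have hτl : ∀ (X : Matrix (Fin n × Fin n) (Fin n × Fin n) ℂ) x y, (τ * X) x y = X x.swap y := by
    intro X x y
    rw [Matrix.mul_apply, Finset.sum_eq_single x.swap]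
    · simp [τ]
    · intro b _ hb
      have : x ≠ b.swap := fun e => hb (by rw [e, Prod.swap_swap])
      simp [τ, this]
    · simp
  have hττ : τ * τ = 1 := by
    ext x y
    rw [hτl]
    simp only [τ, Matrix.of_apply, Matrix.one_apply]
    exact if_congr Prod.swap_inj rfl rfl
  have hEτ : E * τ = τ * E := by
    ext ⟨a, b⟩ ⟨c, d⟩
    rw [hτr, hτl]
    simp only [E, Matrix.smul_apply, Matrix.sum_apply, Matrix.kroneckerMap_apply, Prod.swap_prod_mk]
    congr 1
    exact Finset.sum_congr rfl fun g _ => mul_comm _ _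
  have hcne : (Nat.card G : ℂ) ≠ 0 := card_ne_zero'
  have hEE : E * E = E := by
    simp only [E, Matrix.smul_mul, Matrix.mul_smul, Finset.sum_mul, Finset.mul_sum,
      ← Matrix.mul_kronecker_mul, hmul]
    have : ∀ g : G, (∑ k, A (g * k) ⊗ₖ A (g * k)) = ∑ k, A k ⊗ₖ A k := fun g =>
      Equiv.sum_comp (Equiv.mulLeft g) (fun k => A k ⊗ₖ A k)
    have this' : ∀ g : G, (∑ k, A (k * g) ⊗ₖ A (k * g)) = ∑ k, A k ⊗ₖ A k := fun g =>
      Equiv.sum_comp (Equiv.mulRight g) (fun k => A k ⊗ₖ A k)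
    simp only [this, this', Finset.sum_const, Finset.card_univ, ← Nat.card_eq_fintype_card]
    rw [← Nat.cast_smul_eq_nsmul ℂ, smul_smul, smul_smul, inv_mul_cancel₀ hcne, one_mul]
  set M := E * τ with hM
  have hMM : M * M = E := by
    rw [hM, mul_assoc, ← mul_assoc τ, ← hEτ, mul_assoc E τ τ, hττ, mul_one, hEE]
  have hEM : E * M = M := by rw [hM, ← mul_assoc, hEE]
  have hME : M * E = M := by rw [hM, mul_assoc, ← hEτ, ← mul_assoc, hEE]
  have hidem : ∀ s : ℂ, s * s = 1 →
      ((2 : ℂ)⁻¹ • (E + s • M)) * ((2 : ℂ)⁻¹ • (E + s • M)) = (2 : ℂ)⁻¹ • (E + s • M) := by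
    intro s hs
    simp only [Matrix.smul_mul, Matrix.mul_smul, add_mul, mul_add, hEE, hMM, hEM, hME, smul_add,
      smul_smul, hs]
    clear * - hs
    generalize E = E'
    match_scalars <;> first | ring1 | linear_combination (1 / 4 : ℂ) * hs
  obtain ⟨m1, h1⟩ := trace_idem _ (hidem 1 (one_mul 1))
  obtain ⟨m2, h2⟩ := trace_idem _ (hidem (-1) (by ring))
  refine ⟨(m1 : ℤ) - m2, ?_⟩
  have hsum : ∑ g : G, ρ.character (g ^ 2) = (Nat.card G : ℂ) * M.trace := by
    have hterm : ∀ g, ρ.character (g ^ 2) = (A g * A g).trace := by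
      intro g
      rw [hmul, hA]
      simp only [Representation.character, pow_two]
      rw [← Matrix.trace_toLin'_eq (LinearMap.toMatrix' _), Matrix.toLin'_toMatrix']
    simp only [hterm, Matrix.trace, Matrix.diag_apply, hM, hτr, E, Matrix.smul_apply,
      Matrix.sum_apply, Matrix.kroneckerMap_apply, smul_eq_mul]
    rw [← Finset.mul_sum, ← mul_assoc, mul_inv_cancel₀ hcne, one_mul, Finset.sum_comm,
      Fintype.sum_prod_type]
    refine Finset.sum_congr rfl fun x _ => ?_
    rw [Finset.sum_comm]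
    refine Finset.sum_congr rfl fun y _ => ?_
    simp only [Matrix.mul_apply]
    rfl
  rw [hsum]
  congr 1
  simp only [Matrix.trace_smul, Matrix.trace_add, smul_eq_mul] at h1 h2
  push_cast
  linear_combination h1 - h2

section Main

variable {G : Type*} [Group G]

/-- The linear characters of order dividing two. -/
abbrev Lam (G : Type*) [Group G] : Type _ := (G ⧸ frattini G) →* ℂˣ

/-- The value of a linear character of order dividing two on `g`. -/
noncomputable def lval (l : Lam G) (g : G) : ℂ := (l (QuotientGroup.mk g) : ℂ)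

theorem lval_sq (hG : IsPGroup 2 G) [Finite G] (l : Lam G) (g : G) : lval l g * lval l g = 1 := by
  haveI : Fact (Nat.Prime 2) := ⟨Nat.prime_two⟩
  rw [lval, ← Units.val_mul, ← map_mul, ← pow_two, CfsgLib.PGroup.quotient_frattini_pow hG,
    map_one, Units.val_one]

theorem lval_conj (hG : IsPGroup 2 G) [Finite G] (l : Lam G) (g : G) :
    conj (lval l g) = lval l g := by
  rcases mul_self_eq_one_iff.1 (lval_sq hG l g) with h | h <;> simp [h]

theorem lval_mul (l : Lam G) (g k : G) : lval l (g * k) = lval l g * lval l k := by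
  rw [lval, QuotientGroup.mk_mul, map_mul, Units.val_mul]; rfl

/-- The character `l ⊗ χ`. -/
theorem isIrr_mul (hG : IsPGroup 2 G) [Finite G] (l : Lam G) (χ : Cfsg.IrrCharacter G) :
    Cfsg.IsIrrCharacter G (lval l * χ.1) := by
  haveI := Fintype.ofFinite G
  refine irr_of_norm_one (isCharacter_mul (isCharacter_of_isIrr
    (isIrrCharacter_units_hom (l.comp (QuotientGroup.mk' (frattini G))))) (isCharacter_of_isIrr χ.2)) ?_
  rw [← classInner_irr_self χ.2, classInner_def, classInner_def]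
  congr 1
  refine Finset.sum_congr rfl fun g _ => ?_
  simp only [Pi.mul_apply, map_mul]
  show lval l g * χ.1 g * (conj (lval l g) * _) = _
  rw [lval_conj hG]
  linear_combination (χ.1 g * conj (χ.1 g)) * lval_sq hG l g

theorem main [Finite G] (hG : IsPGroup 2 G) (k : ℕ)
    (hgen : 2 ^ (2 * k + 1) ≤ Nat.card (G ⧸ frattini G))
    (hdeg : ∀ χ : Cfsg.IrrCharacter G, ∃ j : ℕ, χ.1 1 = ((2 ^ j : ℕ) : ℂ)) :
    2 ^ (k + 1) ∣ Nat.card {x : G // x ^ 2 = 1} := by
  classical
  haveI := Fintype.ofFinite G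
  haveI : Fact (Nat.Prime 2) := ⟨Nat.prime_two⟩
  let θ : G → ℂ := fun g => (Nat.card {x : G // x ^ 2 = g} : ℂ)
  have hθ : Cfsg.IsClassFunction G θ := by
    intro g h
    simp only [θ]
    congr 1
    refine Nat.card_congr (Equiv.subtypeEquiv (MulAut.conj h⁻¹).toEquiv fun x => ?_)
    simp only [MulEquiv.toEquiv_eq_coe, MulEquiv.coe_toEquiv]
    rw [← map_pow, MulAut.conj_apply, inv_inv]
    constructor
    · intro e; rw [e]; group
    · intro e; rw [← e]; group
  have hinner : ∀ φ : G → ℂ, Cfsg.classInner θ φ =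
      (Nat.card G : ℂ)⁻¹ * ∑ x : G, conj (φ (x ^ 2)) := by
    intro φ
    rw [classInner_def]
    congr 1
    rw [← Finset.sum_fiberwise Finset.univ (fun x : G => x ^ 2) (fun x => conj (φ (x ^ 2)))]
    refine Finset.sum_congr rfl fun g _ => ?_
    rw [Finset.sum_congr rfl (g := fun _ => conj (φ g)) (fun x hx => by
      rw [(Finset.mem_filter.1 hx).2]), Finset.sum_const, nsmul_eq_mul]
    simp only [θ, Nat.card_eq_fintype_card, Fintype.card_subtype]
  have hint : ∀ χ : Cfsg.IrrCharacter G, ∃ z : ℤ, Cfsg.classInner θ χ.1 = z := by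
    intro χ
    obtain ⟨z, hz⟩ := sum_sq_int χ.2
    refine ⟨z, ?_⟩
    rw [hinner, ← map_sum, hz, map_mul, map_natCast, map_intCast, inv_mul_cancel_left₀ card_ne_zero']
  choose z hz using hint
  choose j hj using hdeg
  have hN : ((Nat.card {x : G // x ^ 2 = 1} : ℤ) : ℂ) = ((∑ χ, z χ * 2 ^ j χ : ℤ) : ℂ) := by
    have h1 := congrFun (classFun_eq_sum hθ) 1
    simp only [Finset.sum_apply, Pi.smul_apply, smul_eq_mul, hz, hj] at h1
    push_cast
    simpa [θ] using h1
  have hN' : (Nat.card {x : G // x ^ 2 = 1} : ℤ) = ∑ χ, z χ * 2 ^ j χ := by exact_mod_cast hN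
  letI : CommGroup (G ⧸ frattini G) :=
    { (inferInstance : Group (G ⧸ frattini G)) with
      mul_comm := CfsgLib.PGroup.quotient_frattini_comm hG }
  have hLcard : Nat.card (Lam G) = Nat.card (G ⧸ frattini G) :=
    CommGroup.card_monoidHom_of_hasEnoughRootsOfUnity (G ⧸ frattini G) ℂ
  letI act : MulAction (Lam G) (Cfsg.IrrCharacter G) :=
    { smul := fun l χ => ⟨lval l * χ.1, isIrr_mul hG l χ⟩
      one_smul := fun χ => Subtype.ext (funext fun g => by
        show lval (1 : Lam G) g * χ.1 g = χ.1 g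
        simp [lval])
      mul_smul := fun l m χ => Subtype.ext (funext fun g => by
        show lval (l * m) g * χ.1 g = lval l g * (lval m g * χ.1 g)
        simp [lval, mul_assoc]) }
  have hsmul : ∀ (l : Lam G) (χ : Cfsg.IrrCharacter G) (g : G), (l • χ).1 g = lval l g * χ.1 g :=
    fun _ _ _ => rfl
  have hlone : ∀ l : Lam G, lval l 1 = 1 := fun l => by simp [lval]
  have hsq1 : ∀ (l : Lam G) (x : G), lval l (x ^ 2) = 1 := fun l x => by
    rw [pow_two, lval_mul, lval_sq hG]
  have hzinv : ∀ (l : Lam G) χ, z (l • χ) = z χ := by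
    intro l χ
    have : (z (l • χ) : ℂ) = z χ := by
      rw [← hz, ← hz, hinner, hinner]
      congr 1
      refine Finset.sum_congr rfl fun x _ => ?_
      rw [hsmul, hsq1, one_mul]
    exact_mod_cast this
  have hjinv : ∀ (l : Lam G) χ, j (l • χ) = j χ := by
    intro l χ
    have h1 : ((2 ^ j (l • χ) : ℕ) : ℂ) = ((2 ^ j χ : ℕ) : ℂ) := by
      rw [← hj, ← hj, hsmul, hlone, one_mul]
    exact Nat.pow_right_injective le_rfl (Nat.cast_injective h1)
  -- stabiliser bound
  have hstab : ∀ χ : Cfsg.IrrCharacter G,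
      Nat.card (MulAction.stabilizer (Lam G) χ) ≤ 2 ^ j χ * 2 ^ j χ := by
    intro χ
    set S := MulAction.stabilizer (Lam G) χ
    haveI : Fintype S := Fintype.ofFinite S
    let f : G → ℂ := fun g => ∑ l : S, lval l.1 g
    have hnorm : ∀ g, f g * (χ.1 g * conj (χ.1 g)) = (Fintype.card S : ℂ) * (χ.1 g * conj (χ.1 g)) := by
      intro g
      simp only [f, Finset.sum_mul]
      rw [Finset.sum_congr rfl (g := fun _ => χ.1 g * conj (χ.1 g)) (fun l _ => ?_)]
      · simp
      · rw [← mul_assoc, ← hsmul, MulAction.mem_stabilizer_iff.1 l.2]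
    have hval : ∀ g, f g = 0 ∨ f g = (Fintype.card S : ℂ) := by
      intro g
      by_cases hall : ∀ l : S, lval l.1 g = 1
      · right; simp [f, hall]
      · left
        push Not at hall
        obtain ⟨l0, hl0⟩ := hall
        have : lval l0.1 g * f g = f g := by
          simp only [f, Finset.mul_sum]
          refine Fintype.sum_equiv (Equiv.mulLeft l0) _ _ fun l => ?_
          simp [lval]
        by_contra hne
        exact hl0 (mul_right_cancel₀ hne (by rw [this, one_mul]))
    have hf1 : ∑ g, f g = (Nat.card G : ℂ) := by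
      simp only [f]
      rw [Finset.sum_comm, Finset.sum_eq_single (1 : S)]
      · simp [lval]
      · intro l _ hl
        have hl' : ∃ g0, lval l.1 g0 ≠ 1 := by
          by_contra hcon
          push Not at hcon
          refine hl (Subtype.ext (MonoidHom.ext fun q => ?_))
          induction q using QuotientGroup.induction_on with
          | _ g => exact Units.ext (hcon g)
        obtain ⟨g0, hg0⟩ := hl'
        have : lval l.1 g0 * ∑ g, lval l.1 g = ∑ g, lval l.1 g := by
          rw [Finset.mul_sum]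
          exact Fintype.sum_equiv (Equiv.mulLeft g0) _ _ fun g => (lval_mul _ _ _).symm
        by_contra hne
        exact hg0 (mul_right_cancel₀ hne (by rw [this, one_mul]))
      · simp
    have key : (Fintype.card S : ℝ) * Nat.card G ≤ ((2 ^ j χ : ℕ) : ℝ) ^ 2 * Nat.card G := by
      have e1 : ∑ g, f g * (χ.1 g * conj (χ.1 g)) = (Fintype.card S : ℂ) * Nat.card G := by
        simp only [hnorm]
        rw [← Finset.mul_sum, ← card_mul_classInner, classInner_irr_self χ.2, mul_one]
      have e2 : (∑ g, f g * (χ.1 g * conj (χ.1 g))).re ≤ ((2 ^ j χ : ℕ) : ℝ) ^ 2 * (∑ g, f g).re := by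
        rw [Complex.re_sum, Complex.re_sum, Finset.mul_sum]
        refine Finset.sum_le_sum fun g _ => ?_
        rw [Complex.mul_conj, Complex.normSq_eq_norm_sq]
        have hb : ‖χ.1 g‖ ≤ ((2 ^ j χ : ℕ) : ℝ) := by
          have := norm_char_le (isCharacter_of_isIrr χ.2) g
          rwa [hj, Complex.natCast_re] at this
        rcases hval g with h | h <;> rw [h]
        · simp
        · rw [Complex.re_mul_ofReal, Complex.natCast_re, mul_comm]
          exact mul_le_mul_of_nonneg_right (pow_le_pow_left₀ (norm_nonneg _) hb 2) (by positivity)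
      rw [e1, hf1] at e2
      simpa using e2
    have := le_of_mul_le_mul_right key (by exact_mod_cast Nat.card_pos)
    rw [Nat.card_eq_fintype_card, ← pow_two]
    exact_mod_cast this
  -- orbits
  rw [← Int.natCast_dvd_natCast, hN']
  letI : Fintype (MulAction.orbitRel.Quotient (Lam G) (Cfsg.IrrCharacter G)) := Fintype.ofFinite _
  letI : ∀ ω : MulAction.orbitRel.Quotient (Lam G) (Cfsg.IrrCharacter G),
      Fintype (MulAction.orbit (Lam G) ω.out) := fun _ => Fintype.ofFinite _
  rw [← (MulAction.selfEquivSigmaOrbits (Lam G) (Cfsg.IrrCharacter G)).symm.sum_comp]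
  rw [Fintype.sum_sigma]
  refine Finset.dvd_sum fun ω _ => ?_
  set χ₀ := ω.out
  have hconst : ∀ ψ : MulAction.orbit (Lam G) χ₀,
      z ((MulAction.selfEquivSigmaOrbits (Lam G) (Cfsg.IrrCharacter G)).symm ⟨ω, ψ⟩) *
        2 ^ j ((MulAction.selfEquivSigmaOrbits (Lam G) (Cfsg.IrrCharacter G)).symm ⟨ω, ψ⟩) =
      z χ₀ * 2 ^ j χ₀ := by
    rintro ⟨_, l, rfl⟩
    show z (l • χ₀) * 2 ^ j (l • χ₀) = _
    rw [hzinv, hjinv]
  rw [Finset.sum_congr rfl (g := fun _ => z χ₀ * 2 ^ j χ₀) (fun ψ _ => hconst ψ)]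
  rw [Finset.sum_const, Finset.card_univ, nsmul_eq_mul]
  set O := Fintype.card (MulAction.orbit (Lam G) χ₀)
  suffices h : 2 ^ (k + 1) ∣ O * 2 ^ j χ₀ by
    obtain ⟨c, hc⟩ := h
    refine ⟨c * z χ₀, ?_⟩
    have hc' : (O : ℤ) * 2 ^ j χ₀ = 2 ^ (k + 1) * c := by exact_mod_cast hc
    push_cast
    linear_combination (z χ₀) * hc'
  have horb : O * Nat.card (MulAction.stabilizer (Lam G) χ₀) = Nat.card (G ⧸ frattini G) := by
    haveI : Fintype (MulAction.stabilizer (Lam G) χ₀) := Fintype.ofFinite _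
    haveI : Fintype (Lam G) := Fintype.ofFinite _
    rw [← hLcard, Nat.card_eq_fintype_card, Nat.card_eq_fintype_card]
    exact MulAction.card_orbit_mul_card_stabilizer_eq_card_group _ χ₀
  obtain ⟨D, hD⟩ : ∃ D, Nat.card (G ⧸ frattini G) = 2 ^ D :=
    IsPGroup.iff_card.1 (hG.to_quotient _)
  rw [hD] at horb hgen
  obtain ⟨o, hoD, ho⟩ := (Nat.dvd_prime_pow Nat.prime_two).1 ⟨_, horb.symm⟩
  obtain ⟨s, hsD, hs⟩ := (Nat.dvd_prime_pow Nat.prime_two).1 (Dvd.intro_left _ horb)
  rw [ho, hs, ← pow_add] at horb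
  have hb := hstab χ₀
  rw [hs, ← pow_add] at hb
  have h1 : o + s = D := Nat.pow_right_injective le_rfl horb
  have h2 : s ≤ j χ₀ + j χ₀ := (Nat.pow_le_pow_iff_right (by norm_num)).1 hb
  have h3 : 2 * k + 1 ≤ D := (Nat.pow_le_pow_iff_right (by norm_num)).1 hgen
  rw [ho, ← pow_add]
  exact pow_dvd_pow 2 (by omega)

end Main

/-- Let G be a finite 2-group with #(G/Φ(G)) ≥ 2^(2k+1). Then the number of elements x of G with x² = 1 is divisible by 2^(k+1). -/
theorem result {G : Type*} [Group G] [Finite G] (hG : IsPGroup 2 G) (k : ℕ)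
    (hgen : 2 ^ (2 * k + 1) ≤ Nat.card (G ⧸ frattini G)) :
    2 ^ (k + 1) ∣ Nat.card {x : G // x ^ 2 = 1} := by
  refine main hG k hgen fun χ => ?_
  haveI := Fintype.ofFinite G
  obtain ⟨n, -, hn⟩ := CfsgLib.Char.exists_degree_pos χ.2
  obtain ⟨D, hD⟩ := IsPGroup.iff_card.1 hG
  obtain ⟨j, -, rfl⟩ := (Nat.dvd_prime_pow Nat.prime_two).1
    (hD ▸ CfsgLib.Char.degree_dvd_card χ.2 hn)
  exact ⟨j, hn⟩

end Cfsg.Agent.S4058
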