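import Cfsg.Statements.S4059
import Cfsg.Agent.Lib.FGS.Basics

set_option autoImplicit false
open Cfsg

namespace Cfsg.Agent.S4059

/-- Let G be a finite group in which every element is conjugate to its inverse. Then: every non-identity element commuting with all elements of some Sylow 2-subgroup is an involution; the centre of G is an elementary abelian 2-group; the commutator quotient G/G' is an elementary abelian 2-group; and G is generated by its 2-elements. -/
theorem result {G : Type*} [Group G] [Finite G] (hamb : ∀ x : G, IsConj x x⁻¹) :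
    (∀ (S : Sylow 2 G) (x : G), x ∈ Subgroup.centralizer ((S : Subgroup G) : Set G) → x ≠ 1 → orderOf x = 2) ∧
    (∀ z : G, z ∈ Subgroup.center G → z ^ 2 = 1) ∧
    (∀ x : G, x ^ 2 ∈ commutator G) ∧
    Subgroup.closure {x : G | ∃ k : ℕ, orderOf x = 2 ^ k} = ⊤ := by
  classical
  haveI : Fact (Nat.Prime 2) := ⟨Nat.prime_two⟩
  have hinv : ∀ (S : Sylow 2 G) (x : G), x ∈ Subgroup.centralizer ((S : Subgroup G) : Set G) →
      x ^ 2 = 1 := by
    intro S x hx
    obtain ⟨g, hg⟩ := isConj_iff.1 (hamb x)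
    refine CfsgLib.FGS.sq_eq_one_of_inverted S (fun s hs => ?_) hg
    rw [Subgroup.mem_centralizer_singleton_iff]
    exact Subgroup.mem_centralizer_iff.1 hx s hs
  refine ⟨fun S x hx hx1 => orderOf_eq_prime (hinv S x hx) hx1, ?_, ?_, ?_⟩
  · intro z hz
    obtain ⟨S⟩ : Nonempty (Sylow 2 G) := inferInstance
    exact hinv S z (Subgroup.center_le_centralizer _ hz)
  · intro x
    have h : (Abelianization.of x : Abelianization G)⁻¹ = Abelianization.of x := by
      obtain ⟨g, hg⟩ := isConj_iff.1 (hamb x)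
      have := congrArg Abelianization.of hg
      rw [map_mul, map_mul, map_inv, map_inv, mul_comm, inv_mul_cancel_left] at this
      exact this.symm
    rw [← Abelianization.ker_of, MonoidHom.mem_ker, map_pow, pow_two]
    nth_rewrite 1 [← h]
    exact inv_mul_cancel _
  · set K := Subgroup.closure {x : G | ∃ k : ℕ, orderOf x = 2 ^ k}
    have hKn : K.Normal := by
      refine ⟨fun n hn g => ?_⟩
      have hle : K.map (MulAut.conj g).toMonoidHom ≤ K := by
        rw [MonoidHom.map_closure, Subgroup.closure_le]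
        rintro _ ⟨z, ⟨k, hk⟩, rfl⟩
        exact Subgroup.subset_closure ⟨k, (MulEquiv.orderOf_eq (MulAut.conj g) z).trans hk⟩
      exact hle ⟨n, hn, rfl⟩
    rw [eq_top_iff]
    intro x _
    obtain ⟨g, hg⟩ := isConj_iff.1 (hamb x)
    obtain ⟨a, b, ⟨k, hk⟩, hcop, hab, ha⟩ := CfsgLib.FGS.exists_p_parts 2 g
    have hpow : ∀ n : ℕ, g ^ n * x * (g ^ n)⁻¹ = if 2 ∣ n then x else x⁻¹ := by
      intro n
      induction n with
      | zero => simp
      | succ n ih =>
        have e : g ^ (n + 1) * x * (g ^ (n + 1))⁻¹ = g * (g ^ n * x * (g ^ n)⁻¹) * g⁻¹ := by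
          rw [pow_succ']; group
        rw [e, ih]
        by_cases h : 2 ∣ n
        · rw [if_pos h, hg, if_neg (by omega)]
        · rw [if_neg h, if_pos (by omega), ← conj_inv, hg, inv_inv]
    have ht := hpow a
    rw [if_neg ha] at ht
    have htK : g ^ a ∈ K := Subgroup.subset_closure ⟨k, hk⟩
    have hx2 : x ^ 2 ∈ K := by
      have h1 : x ^ 2 = x * (g ^ a * x⁻¹ * (g ^ a)⁻¹) := by
        rw [← conj_inv, ht, inv_inv, pow_two]
      rw [h1, show x * (g ^ a * x⁻¹ * (g ^ a)⁻¹) = (x * g ^ a * x⁻¹) * (g ^ a)⁻¹ by group]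
      exact mul_mem (hKn.conj_mem _ htK x) (inv_mem htK)
    obtain ⟨a', b', ⟨k', hk'⟩, hcop', hab', -⟩ := CfsgLib.FGS.exists_p_parts 2 x
    rw [← hab']
    refine mul_mem (Subgroup.subset_closure ⟨k', hk'⟩) ?_
    obtain ⟨m, hm⟩ := exists_pow_eq_self_of_coprime (x := x ^ b') (n := 2) hcop'.symm
    rw [← hm, ← pow_mul x b' 2, mul_comm b' 2, pow_mul x 2 b', ← pow_mul]
    exact pow_mem hx2 _

end Cfsg.Agent.S4059
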