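import Cfsg.Statements.S4060
import Cfsg.Agent.Lib.FGS.Basics

set_option autoImplicit false
open Cfsg

namespace Cfsg.Agent.S4060

/-- By induction along the derived series. -/
theorem key.{v} : ∀ (N : ℕ) {G : Type v} [Group G] [Finite G] [Group.IsSolvable G], Nat.card G ≤ N →
    ∀ (S : Sylow 2 G) (x : G), Odd (orderOf x) →
      x ∈ Subgroup.normalizer ((S : Subgroup G) : Set G) → ∀ g : G, g * x * g⁻¹ = x⁻¹ → x = 1 := by
  haveI : Fact (Nat.Prime 2) := ⟨Nat.prime_two⟩
  intro N
  induction N with
  | zero => intro G _ _ _ h; exact absurd Nat.card_pos (not_lt.2 h)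
  | succ N ih =>
    intro G _ _ hsolv hN S x hodd hnorm g hg
    by_contra hx
    have hnt : Nontrivial G := ⟨⟨x, 1, hx⟩⟩
    obtain ⟨n, hn⟩ := (Group.isSolvable_def G).1 inferInstance
    -- the last nontrivial derived subgroup is abelian and normal
    obtain ⟨i, hi, hi1⟩ : ∃ i, derivedSeries G i ≠ ⊥ ∧ derivedSeries G (i + 1) = ⊥ := by
      induction n with
      | zero => exact absurd hn (by simp)
      | succ n ihn =>
        by_cases h : derivedSeries G n = ⊥
        · exact ihn h
        · exact ⟨n, h, hn⟩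
    set A := derivedSeries G i
    haveI hAn : A.Normal := derivedSeries_normal G i
    have hab : ∀ a ∈ A, ∀ b ∈ A, a * b = b * a := by
      rw [derivedSeries_succ, Subgroup.commutator_eq_bot_iff_le_centralizer] at hi1
      intro a ha b hb
      exact (Subgroup.mem_centralizer_iff.1 (hi1 ha) b hb).symm
    have hlt : Nat.card (G ⧸ A) ≤ N := by
      have h1 := A.card_eq_card_quotient_mul_card_subgroup
      have h2 : 1 < Nat.card A := Finite.one_lt_card_iff_nontrivial.2
        ((Subgroup.nontrivial_iff_ne_bot A).2 hi)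
      have h3 : 0 < Nat.card (G ⧸ A) := Nat.card_pos
      nlinarith
    have hsurj := QuotientGroup.mk'_surjective A
    have hxA : x ∈ A := by
      rw [← QuotientGroup.eq_one_iff]
      refine ih hlt (S.mapSurjective hsurj) (x : G ⧸ A) ?_ ?_ (g : G ⧸ A) ?_
      · exact hodd.of_dvd_nat (orderOf_map_dvd (QuotientGroup.mk' A) x)
      · rw [Sylow.coe_mapSurjective]
        exact Subgroup.le_normalizer_map (QuotientGroup.mk' A) ⟨x, hnorm, rfl⟩
      · rw [← QuotientGroup.mk_inv, ← QuotientGroup.mk_mul, ← QuotientGroup.mk_mul, hg,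
          QuotientGroup.mk_inv]
    -- commutators with `S` are 2-elements of odd order
    have hcent : (S : Subgroup G) ≤ Subgroup.centralizer ({x} : Set G) := by
      intro s hs
      set c := x * s * x⁻¹ * s⁻¹
      have hcS : c ∈ (S : Subgroup G) :=
        mul_mem ((Subgroup.mem_normalizer_iff.1 hnorm s).1 hs) (inv_mem hs)
      have hy : s * x⁻¹ * s⁻¹ ∈ A := hAn.conj_mem _ (inv_mem hxA) s
      have hc1 : c ^ orderOf x = 1 := by
        have e : c = x * (s * x⁻¹ * s⁻¹) := by simp only [c]; group
        rw [e, (show Commute x (s * x⁻¹ * s⁻¹) from hab x hxA _ hy).mul_pow, pow_orderOf_eq_one,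
          conj_pow, inv_pow, pow_orderOf_eq_one]
        group
      obtain ⟨k, hk⟩ := S.isPGroup' ⟨c, hcS⟩
      have hck : c ^ 2 ^ k = 1 := congrArg Subtype.val hk
      have : c = 1 := by
        rw [← orderOf_eq_one_iff]
        exact Nat.eq_one_of_dvd_coprimes (Nat.Coprime.pow_left k (Nat.coprime_two_left.2 hodd))
          (orderOf_dvd_of_pow_eq_one hck) (orderOf_dvd_of_pow_eq_one hc1)
      rw [Subgroup.mem_centralizer_singleton_iff]
      simp only [c] at this
      have h2 : x * s = s * x := by
        calc x * s = (x * s * x⁻¹ * s⁻¹) * s * x := by group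
          _ = s * x := by rw [this, one_mul]
      exact h2.symm
    have h2 := CfsgLib.FGS.sq_eq_one_of_inverted S hcent hg
    exact hx (orderOf_eq_one_iff.1 (Nat.eq_one_of_dvd_coprimes (Nat.coprime_two_left.2 hodd)
      (orderOf_dvd_of_pow_eq_one h2) dvd_rfl))


/-- Let G be a finite solvable group with Sylow 2-subgroup S, and let x ≠ 1 be an element of odd order normalizing S. Then x is not conjugate to its inverse in G. -/
theorem result {G : Type*} [Group G] [Finite G] [Group.IsSolvable G]
    (S : Sylow 2 G) (x : G) (hx : x ≠ 1) (hodd : Odd (orderOf x))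
    (hnorm : x ∈ Subgroup.normalizer ((S : Subgroup G) : Set G)) : ¬ IsConj x x⁻¹ := by
  classical
  intro hc
  obtain ⟨g, hg⟩ := isConj_iff.1 hc
  exact hx (key (Nat.card G) le_rfl S x hodd hnorm g hg)

end Cfsg.Agent.S4060
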