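import Cfsg.Statements.S4061
import Cfsg.Agent.Lib.FGS.AmbivalentOneClass
import Cfsg.Agent.Lib.Invol.Quaternion
import Cfsg.Agent.Lib.Solvable.UniqueSubgroup
import Cfsg.Agent.Lib.LocalEven.Coprime
import Cfsg.Agent.Lib.Solvable.Basic
-- import your own Cfsg.Agent.* helpers here

set_option autoImplicit false
set_option linter.style.haveILetI false
open Cfsg

namespace Cfsg.Agent.S4061

open Subgroup
open scoped commutatorElement

/-- Let G be a finite solvable group of even order in which every element is conjugate to its inverse and all involutions are conjugate. Then a Sylow 2-subgroup S of G has order 2 or is a generalized quaternion group (of order at least 8). Moreover, if S has order 2, then G is the semidirect product of its largest normal subgroup of odd order O(G) by S, O(G) equals the derived subgroup of G, and the involution of S inverts every element of O(G). -/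
theorem result {G : Type*} [Group G] [Finite G] [Group.IsSolvable G]
    (hamb : ∀ x : G, IsConj x x⁻¹) (heven : 2 ∣ Nat.card G) (hone : ∀ s t : G, orderOf s = 2 → orderOf t = 2 → IsConj s t) (S : Sylow 2 G) :
    (Nat.card S = 2 ∨ ∃ n : ℕ, Nonempty ((S : Subgroup G) ≃* QuaternionGroup (2 ^ (n + 1)))) ∧
    (Nat.card S = 2 → (S : Subgroup G).IsComplement' (Cfsg.oddCore G) ∧ Cfsg.oddCore G = commutator G ∧
        ∀ t : G, t ∈ S → t ≠ 1 → ∀ x : G, x ∈ Cfsg.oddCore G → t * x * t⁻¹ = x⁻¹) := by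
  haveI : Fact (Nat.Prime 2) := ⟨Nat.prime_two⟩
  have hev : Even (Nat.card G) := even_iff_two_dvd.2 heven
  set O := Cfsg.oddCore G with hO
  haveI hOn : O.Normal := by
    haveI := CfsgLib.Cores.pPrimeCore_characteristic (G := G) 2
    exact (inferInstance : (Cfsg.pPrimeCore 2 G).Normal)
  have hOodd : Odd (Nat.card O) := CfsgLib.Cores.odd_card_oddCore
  set π := QuotientGroup.mk' O
  have hker : ∀ v : G, π v = 1 → (∃ k, orderOf v = 2 ^ k) → v = 1 := fun v hv ⟨k, hk⟩ => by
    have h1 : orderOf v ∣ Nat.card O := O.orderOf_dvd_natCard ((QuotientGroup.eq_one_iff v).1 hv)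
    rw [← orderOf_eq_one_iff]
    exact Nat.eq_one_of_dvd_coprimes ((Nat.coprime_two_left.2 hOodd).pow_left k) hk.dvd h1
  -- the quotient has a unique involution
  have hamb' : ∀ x : G ⧸ O, IsConj x x⁻¹ := fun x => by
    obtain ⟨g, rfl⟩ := QuotientGroup.mk'_surjective O x
    rw [← map_inv]
    exact π.map_isConj (hamb g)
  have hlift : ∀ s : G ⧸ O, orderOf s = 2 → ∃ a : G, orderOf a = 2 ∧ π a = s := by
    intro s hs
    obtain ⟨g, hg⟩ := QuotientGroup.mk'_surjective O s
    obtain ⟨a, b, hab, ha, hb, ⟨k, hk⟩, hb2⟩ := CfsgLib.Cores.exists_pow_mul_pow 2 g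
    have hπb : π b = 1 := by
      obtain ⟨i, rfl⟩ := hb
      rw [← orderOf_eq_one_iff]
      refine Nat.eq_one_of_dvd_coprimes hb2 (orderOf_map_dvd _ _) ?_
      rw [map_zpow, hg, ← hs]
      exact orderOf_dvd_of_mem_zpowers ⟨i, rfl⟩
    have hπa : π a = s := by rw [← hg, hab, map_mul, hπb, mul_one]
    have h1 : a ^ 2 = 1 := by
      refine hker _ (by rw [map_pow, hπa, ← hs, pow_orderOf_eq_one]) ?_
      obtain ⟨j, -, hj⟩ := (Nat.dvd_prime_pow Nat.prime_two).1 (hk ▸ orderOf_pow_dvd 2 : orderOf (a ^ 2) ∣ 2 ^ k)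
      exact ⟨j, hj⟩
    refine ⟨a, orderOf_eq_prime h1 fun e => ?_, hπa⟩
    rw [e, map_one] at hπa
    rw [← hπa, orderOf_one] at hs
    exact absurd hs (by norm_num)
  have hone' : ∀ s t : G ⧸ O, orderOf s = 2 → orderOf t = 2 → IsConj s t := by
    intro s t hs ht
    obtain ⟨a, ha, rfl⟩ := hlift s hs
    obtain ⟨b, hb, rfl⟩ := hlift t ht
    exact π.map_isConj (hone a b ha hb)
  have hcore : Cfsg.oddCore (G ⧸ O) = ⊥ := CfsgLib.Cores.pPrimeCore_quotient_self 2
  have huniq := CfsgLib.FGS.Ambivalent.involution_unique (G := G ⧸ O) hamb' hone' hcore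
  have hSu : ∀ a b : (S : Subgroup G), orderOf a = 2 → orderOf b = 2 → a = b := by
    intro a b ha hb
    have ho : ∀ c : (S : Subgroup G), orderOf c = 2 → orderOf (π c) = 2 := fun c hc => by
      have h2 : orderOf (π (c : G)) ∣ 2 := by
        have h3 := orderOf_map_dvd π (c : G)
        rwa [Subgroup.orderOf_coe, hc] at h3
      refine ((Nat.dvd_prime Nat.prime_two).1 h2).resolve_left fun h => ?_
      have h1 := hker (c : G) (orderOf_eq_one_iff.1 h) ⟨1, by rw [Subgroup.orderOf_coe, hc, pow_one]⟩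
      rw [← Subgroup.orderOf_coe, h1, orderOf_one] at hc
      omega
    have h1 : π ((a : G)⁻¹ * b) = 1 := by
      rw [map_mul, map_inv, huniq _ _ (ho a ha) (ho b hb), inv_mul_cancel]
    obtain ⟨k, hk⟩ := IsPGroup.iff_orderOf.1 S.2 (a⁻¹ * b)
    exact inv_mul_eq_one.1 (Subtype.ext (hker _ h1 ⟨k, by
      rw [← hk, ← Subgroup.orderOf_coe (a⁻¹ * b)]⟩))
  have hcases := CfsgLib.Solvable.isCyclic_or_quaternion S.2 fun a b ha hb => by
    rw [hSu a b ha hb]; exact mem_zpowers b
  -- a cyclic Sylow subgroup has order two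
  have hcyc2 : IsCyclic (S : Subgroup G) → Nat.card S = 2 := by
    intro hc
    obtain ⟨ψ, hψ, -⟩ := CfsgLib.Invol.exists_retraction_of_cyclic_sylow_two S hc hev
    obtain ⟨c, hc'⟩ := hc.exists_generator
    have h1 : c = c⁻¹ := by
      obtain ⟨g, hg⟩ := isConj_iff.1 (hamb (c : G))
      have h2 := congrArg ψ hg
      rw [map_mul, map_mul, map_inv, map_inv, hψ] at h2
      obtain ⟨i, hi⟩ := mem_zpowers_iff.1 (hc' (ψ g))
      rw [← hi] at h2
      rw [← h2]; group
    have hcard : orderOf c = Nat.card S := by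
      rw [← Nat.card_zpowers, (eq_top_iff.2 fun a _ => hc' a : zpowers c = ⊤), card_top]
    have h3 : orderOf c ∣ 2 := orderOf_dvd_of_pow_eq_one (by rw [sq]; exact mul_eq_one_iff_eq_inv.2 h1)
    rcases (Nat.dvd_prime Nat.prime_two).1 h3 with h4 | h4
    · exfalso
      have h5 := S.card_eq_multiplicity
      rw [← hcard, h4] at h5
      have h6 := Nat.prime_two.dvd_iff_one_le_factorization Nat.card_pos.ne' |>.1 heven
      have := Nat.one_lt_pow (n := (Nat.card G).factorization 2) (by omega) one_lt_two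
      omega
    · rw [← hcard, h4]
  constructor
  · rcases hcases with hc | ⟨-, m, ⟨e⟩⟩
    · exact Or.inl (hcyc2 hc)
    · rcases m with _ | m
      · haveI : IsCyclic (QuaternionGroup (2 ^ 0)) := QuaternionGroup.quaternionGroup_one_isCyclic
        exact Or.inl (hcyc2 (isCyclic_of_surjective e.symm.toMonoidHom e.symm.surjective))
      · exact Or.inr ⟨m, ⟨e⟩⟩
  intro hS2
  haveI hScyc : IsCyclic (S : Subgroup G) := isCyclic_of_prime_card (p := 2) hS2
  obtain ⟨ψ, hψ, hψk⟩ := CfsgLib.Invol.exists_retraction_of_cyclic_sylow_two S hScyc hev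
  have hkerO : ψ.ker = O := by
    refine le_antisymm (CfsgLib.Cores.le_oddCore_of_odd ?_) fun v hv => (hψk v).2 ?_
    · rw [← Nat.not_even_iff_odd, even_iff_two_dvd]
      intro hd
      obtain ⟨a, ha⟩ := exists_prime_orderOf_dvd_card' (G := ψ.ker) 2 hd
      have h := (hψk a).1 a.2
      rw [Subgroup.orderOf_coe, ha] at h
      exact absurd h (by decide)
    · rw [← Nat.not_even_iff_odd, even_iff_two_dvd]
      intro hd
      exact (Nat.not_even_iff_odd.2 hOodd) (even_iff_two_dvd.2 (hd.trans (O.orderOf_dvd_natCard hv)))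
  have hdisj : Disjoint (S : Subgroup G) O := by
    rw [disjoint_iff_inf_le]
    intro v hv
    obtain ⟨h1, h2⟩ := mem_inf.1 hv
    rw [← hkerO, MonoidHom.mem_ker] at h2
    have h3 := hψ ⟨v, h1⟩
    rw [h2] at h3
    exact mem_bot.2 (congrArg Subtype.val h3.symm)
  have hcompl : (S : Subgroup G).IsComplement' O := by
    refine isComplement'_of_disjoint_and_mul_eq_univ hdisj (Set.eq_univ_of_forall fun g => ?_)
    refine ⟨ψ g, (ψ g).2, ((ψ g : (S : Subgroup G)) : G)⁻¹ * g, ?_, mul_inv_cancel_left _ _⟩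
    rw [SetLike.mem_coe, ← hkerO, MonoidHom.mem_ker, map_mul, map_inv, hψ, inv_mul_cancel]
  have h4 : ¬ 4 ∣ Nat.card G := fun hd => by
    have h := S.card_eq_multiplicity
    rw [hS2] at h
    have h5 : 2 ≤ (Nat.card G).factorization 2 :=
      (Nat.prime_two.pow_dvd_iff_le_factorization Nat.card_pos.ne').1 (show 2 ^ 2 ∣ _ from hd)
    have := Nat.pow_le_pow_right two_pos h5
    omega
  have hinvert : ∀ t : G, t ∈ (S : Subgroup G) → t ≠ 1 → ∀ x : G, x ∈ O → t * x * t⁻¹ = x⁻¹ := by
    intro t ht ht1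
    have ht2 : orderOf t = 2 := by
      have h1 : orderOf t ∣ 2 := hS2 ▸ (S : Subgroup G).orderOf_dvd_natCard ht
      exact ((Nat.dvd_prime Nat.prime_two).1 h1).resolve_left (fun h => ht1 (orderOf_eq_one_iff.1 h))
    refine CfsgLib.LocalEven.inverts_of_fixedPointFree (by rw [← sq, ← ht2, pow_orderOf_eq_one])
      (normalizer_eq_top_iff.2 hOn ▸ mem_top t) fun c hc htc => ?_
    by_contra hc1
    obtain ⟨g, hg⟩ := isConj_iff.1 (hamb c)
    obtain ⟨y, w, hyw, hy, hw, ⟨l, hl⟩, hw2⟩ := CfsgLib.Cores.exists_pow_mul_pow 2 g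
    set C := centralizer ({c} : Set G)
    have hcinv : ∀ z : G, z * c * z⁻¹ = c⁻¹ → z * c⁻¹ * z⁻¹ = c := fun z hz => by
      calc z * c⁻¹ * z⁻¹ = (z * c * z⁻¹)⁻¹ := by group
        _ = c := by rw [hz, inv_inv]
    have hg2 : g ^ 2 ∈ C := mem_centralizer_singleton_iff.2 (mul_inv_eq_iff_eq_mul.1 (by
      calc g ^ 2 * c * (g ^ 2)⁻¹ = g * (g * c * g⁻¹) * g⁻¹ := by rw [sq]; group
        _ = c := by rw [hg, hcinv g hg]))
    have hwC : w ∈ C := by
      obtain ⟨j, hj⟩ := exists_pow_eq_self_of_coprime (x := w) (n := 2) hw2.symm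
      rw [← hj]
      obtain ⟨i, rfl⟩ := hw
      refine pow_mem ?_ j
      rw [← zpow_natCast, ← zpow_mul, mul_comm, zpow_mul, zpow_natCast]
      exact zpow_mem hg2 i
    have hyc : y * c * y⁻¹ = c⁻¹ := by
      rw [← hg, hyw]
      calc y * c * y⁻¹ = y * (w * c * w⁻¹) * y⁻¹ := by
            rw [mem_centralizer_singleton_iff.1 hwC, mul_inv_cancel_right]
        _ = _ := by group
    have hyC : y ∉ C := fun h => by
      have h1 : c = c⁻¹ := by rwa [mem_centralizer_singleton_iff.1 h, mul_inv_cancel_right] at hyc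
      have h2 : orderOf c ∣ 2 := orderOf_dvd_of_pow_eq_one (by rw [sq]; exact mul_eq_one_iff_eq_inv.2 h1)
      exact hc1 (orderOf_eq_one_iff.1 (Nat.eq_one_of_dvd_coprimes (Nat.coprime_two_left.2 hOodd) h2
        (O.orderOf_dvd_natCard hc)))
    have hy2 : orderOf y = 2 := by
      rcases l with _ | _ | l
      · rw [pow_zero, orderOf_eq_one_iff] at hl
        exact absurd (hl ▸ one_mem C) hyC
      · simpa using hl
      · exact absurd (show 4 ∣ Nat.card G from
          ((show 4 ∣ 2 ^ (l + 1 + 1) from pow_dvd_pow 2 (show 2 ≤ l + 1 + 1 by omega)).trans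
            (hl ▸ orderOf_dvd_natCard y))) h4
    have hn : zpowers y ≤ normalizer (C : Set G) := zpowers_le.2 (mem_normalizer_fintype (fun z hz => by
      refine mem_centralizer_singleton_iff.2 ?_
      have h1 : Commute z c := mem_centralizer_singleton_iff.1 hz
      have h2 := (h1.inv_right).map (MulAut.conj y).toMonoidHom
      simp only [MulEquiv.coe_toMonoidHom, MulAut.conj_apply] at h2
      rw [hcinv y hyc] at h2
      exact h2.eq))
    have hd : C ⊓ zpowers y = ⊥ := by
      refine (eq_bot_iff_forall _).2 fun z hz => ?_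
      obtain ⟨h1, ⟨i, rfl⟩⟩ := mem_inf.1 hz
      rcases Int.even_or_odd i with ⟨j, rfl⟩ | ⟨j, rfl⟩
      · show y ^ (j + j) = 1
        rw [← two_mul, zpow_mul, zpow_two, ← sq, ← hy2, pow_orderOf_eq_one, one_zpow]
      · exfalso
        refine hyC ?_
        have h2 : y ^ (2 * j + 1) ∈ C := h1
        rwa [zpow_add, zpow_mul, zpow_two, ← sq, ← hy2, pow_orderOf_eq_one, one_zpow, one_mul, zpow_one] at h2
    have htC : t ∈ C := mem_centralizer_singleton_iff.2 htc
    refine h4 (Dvd.dvd.trans ?_ (card_subgroup_dvd_card (C ⊔ zpowers y)))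
    rw [CfsgLib.Solvable.card_sup_of_disjoint hn hd, Nat.card_zpowers, hy2]
    exact mul_dvd_mul_right (ht2 ▸ C.orderOf_dvd_natCard htC) 2
  refine ⟨hcompl, le_antisymm ?_ ?_, hinvert⟩
  · -- every element of the odd core is a commutator
    intro v hv
    obtain ⟨t, ht⟩ := exists_prime_orderOf_dvd_card' (G := (S : Subgroup G)) 2 hS2.symm.dvd
    obtain ⟨j, hj⟩ := exists_pow_eq_self_of_coprime (x := v) (n := 2)
      ((Nat.coprime_two_left.2 hOodd).coprime_dvd_right (O.orderOf_dvd_natCard hv))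
    rw [← hj]
    refine pow_mem ?_ j
    have h1 := hinvert t t.2 (fun e => by rw [← Subgroup.orderOf_coe, e, orderOf_one] at ht; omega) v hv
    have h2 : ⁅v, (t : G)⁆ ∈ commutator G := commutator_mem_commutator (mem_top v) (mem_top _)
    have e : ⁅v, (t : G)⁆ = v ^ 2 := by
      rw [commutatorElement_def, mul_assoc, mul_assoc]
      calc v * ((t : G) * (v⁻¹ * (t : G)⁻¹)) = v * ((t : G) * v * (t : G)⁻¹)⁻¹ := by group
        _ = v ^ 2 := by rw [h1, inv_inv, sq]
    exact e ▸ h2
  · rw [← hkerO, _root_.commutator_def, commutator_le]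
    intro a _ b _
    rw [MonoidHom.mem_ker, map_commutatorElement, commutatorElement_eq_one_iff_mul_comm]
    exact (hScyc.commGroup).mul_comm _ _

end Cfsg.Agent.S4061
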