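import Cfsg.Statements.S4062
import Cfsg.Agent.Lib.Spectrum.Unbounded
import Mathlib.GroupTheory.GroupAction.Quotient

set_option autoImplicit false
open Cfsg

namespace Cfsg.Agent.S4062

universe u

/-- A non-commutative group of order `6` is the symmetric group of degree three. -/
theorem equiv_perm_three {G : Type u} [Group G] [Finite G] (h6 : Nat.card G = 6)
    (hna : ¬ ∀ a b : G, a * b = b * a) : Nonempty (G ≃* Equiv.Perm (Fin 3)) := by
  classical
  haveI : Fact (Nat.Prime 2) := ⟨Nat.prime_two⟩
  obtain ⟨x, hx⟩ := exists_prime_orderOf_dvd_card' 2 (show 2 ∣ Nat.card G by rw [h6]; norm_num)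
  set H := Subgroup.zpowers x with hH
  have hH2 : Nat.card H = 2 := by rw [hH, Nat.card_zpowers, hx]
  have hidx : H.index = 3 := by
    have := H.card_mul_index
    rw [hH2, h6] at this
    omega
  have hcore : H.normalCore = ⊥ := by
    by_contra hne
    have hle := Subgroup.normalCore_le H
    have heq : H.normalCore = H := Subgroup.eq_of_le_of_card_ge hle (by
      rw [hH2]
      exact (Subgroup.one_lt_card_iff_ne_bot _).2 hne)
    have hnorm : H.Normal := heq ▸ Subgroup.normalCore_normal H
    have hcen : H ≤ Subgroup.center G := by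
      intro h hh
      rw [Subgroup.mem_center_iff]
      intro g
      by_cases h1 : h = 1
      · simp [h1]
      have hc : g * h * g⁻¹ = h := by
        haveI := hH2
        obtain ⟨a, b, hab, huniv⟩ := Nat.card_eq_two_iff.1 hH2
        have hmem : ∀ z : H, z = a ∨ z = b := fun z => by
          have : z ∈ ({a, b} : Set H) := huniv ▸ Set.mem_univ z
          simpa using this
        have key : ∀ u v : H, u ≠ 1 → v ≠ 1 → u = v := fun u v hu hv => by
          rcases hmem u with rfl | rfl <;> rcases hmem v with rfl | rfl <;>
            rcases hmem 1 with e | e <;> first | rfl | exact absurd e.symm hu | exact absurd e.symm hv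
        exact congrArg Subtype.val (key ⟨_, hnorm.conj_mem h hh g⟩ ⟨h, hh⟩
          (fun e => h1 (conj_eq_one_iff.1 (congrArg Subtype.val e)))
          (fun e => h1 (congrArg Subtype.val e)))
      calc g * h = g * h * g⁻¹ * g := by group
        _ = h * g := by rw [hc]
    haveI := hnorm
    haveI : IsCyclic (G ⧸ H) := isCyclic_of_prime_card (p := 3) (by
      rw [← Subgroup.index_eq_card, hidx])
    have hc := (QuotientGroup.mk' H).isMulCommutative_of_isCyclic_of_ker_le_center
      (by rw [QuotientGroup.ker_mk']; exact hcen)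
    exact hna fun a b => hc.1.1 a b
  let e : G ⧸ H ≃ Fin 3 := (Finite.equivFin (G ⧸ H)).trans (finCongr (by
    rw [← Subgroup.index_eq_card, hidx]))
  let f := e.permCongrHom.toMonoidHom.comp (MulAction.toPermHom G (G ⧸ H))
  have hinj : Function.Injective f := by
    refine e.permCongrHom.injective.comp ((MonoidHom.ker_eq_bot_iff _).1 ?_)
    rw [← Subgroup.normalCore_eq_ker, hcore]
  refine ⟨MulEquiv.ofBijective f ((Nat.bijective_iff_injective_and_card f).2 ⟨hinj, ?_⟩)⟩
  rw [h6, Nat.card_perm, Nat.card_fin]
  rfl

/-- The order of a solvable group in which elements of equal order are conjugate. -/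
theorem card_cases : ∀ (n : ℕ) (G : Type u) [Group G] [Finite G] [Group.IsSolvable G],
    Nat.card G = n → (∀ x y : G, orderOf x = orderOf y → IsConj x y) →
      Nat.card G = 1 ∨ Nat.card G = 2 ∨
        (Nat.card G = 6 ∧ ¬ ∀ a b : G, a * b = b * a) := by
  intro n
  induction n using Nat.strong_induction_on with
  | _ n ih =>
    intro G _ _ _ hn h
    classical
    rcases subsingleton_or_nontrivial G with hs | hnt
    · exact Or.inl (Nat.card_eq_one_iff_unique.2 ⟨hs, ⟨1⟩⟩)
    have habel : (∀ a b : G, a * b = b * a) → ∀ x y : G, orderOf x = orderOf y → x = y := by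
      intro hab x y hxy
      obtain ⟨c, hc⟩ := isConj_iff.1 (h x y hxy)
      rw [hab c x, mul_inv_cancel_right] at hc
      exact hc
    obtain ⟨p, M, hp, hMn, hM1, -, hMc, hMp⟩ :=
      CfsgLib.Spectrum.exists_normal_elementary (V := (⊤ : Subgroup G)) top_ne_bot inferInstance
    haveI := Fact.mk hp
    haveI := hMn
    have hMcomm : ∀ a ∈ M, ∀ b ∈ M, a * b = b * a := fun a ha b hb =>
      congrArg Subtype.val (hMc.1.1 ⟨a, ha⟩ ⟨b, hb⟩)
    have hord : ∀ a ∈ M, a ≠ 1 → orderOf a = p := fun a ha h1 =>
      orderOf_eq_prime (congrArg Subtype.val (hMp ⟨a, ha⟩)) h1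
    obtain ⟨m₀, hm₀, hm₀1⟩ := (Subgroup.bot_or_exists_ne_one M).resolve_left hM1
    have hpM : ∀ z : G, orderOf z = p → z ∈ M := by
      intro z hz
      obtain ⟨c, hc⟩ := isConj_iff.1 (h m₀ z (by rw [hord m₀ hm₀ hm₀1, hz]))
      exact hc ▸ hMn.conj_mem m₀ hm₀ c
    set π := QuotientGroup.mk' M with hπ
    have hker : ∀ z : G, π z = 1 ↔ z ∈ M := fun z => QuotientGroup.eq_one_iff z
    have hlift : ∀ z : G, (p ∣ orderOf (π z) → orderOf z = orderOf (π z) * p) ∧
        (¬ p ∣ orderOf (π z) → ∃ z', π z' = π z ∧ orderOf z' = orderOf (π z)) := by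
      intro z
      set k := orderOf (π z) with hk
      have hk0 : 0 < k := orderOf_pos _
      have hzk : z ^ k ∈ M := (hker _).1 (by rw [map_pow, hk, pow_orderOf_eq_one])
      have hz1 : z ^ (k * p) = 1 := by
        rw [pow_mul]
        exact congrArg Subtype.val (hMp ⟨_, hzk⟩)
      constructor
      · intro hpk
        have hzk1 : z ^ k ≠ 1 := by
          intro he
          have hoz : orderOf z = k := Nat.dvd_antisymm (orderOf_dvd_of_pow_eq_one he)
            (orderOf_map_dvd π z)
          have h1 : z ^ (k / p) ∈ M := by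
            refine hpM _ ?_
            rw [← hoz]
            exact orderOf_pow_orderOf_div (orderOf_pos z).ne' (hoz ▸ hpk) |>.trans rfl
          have h2 := (hker _).2 h1
          rw [map_pow, ← orderOf_dvd_iff_pow_eq_one, ← hk] at h2
          exact absurd (Nat.le_of_dvd (Nat.div_pos (Nat.le_of_dvd hk0 hpk) hp.pos) h2)
            (not_le.2 (Nat.div_lt_self hk0 hp.one_lt))
        obtain ⟨d, hd⟩ : k ∣ orderOf z := orderOf_map_dvd π z
        have hdp : d ∣ p := (Nat.mul_dvd_mul_iff_left hk0).1 (hd ▸ orderOf_dvd_of_pow_eq_one hz1)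
        rcases hp.eq_one_or_self_of_dvd d hdp with rfl | rfl
        · exact absurd (orderOf_dvd_iff_pow_eq_one.1 (by rw [hd, mul_one])) hzk1
        · exact hd
      · intro hpk
        obtain ⟨j, hj⟩ := exists_pow_eq_self_of_coprime (x := π z)
          (show p.Coprime (orderOf (π z)) from hp.coprime_iff_not_dvd.2 hpk)
        refine ⟨(z ^ p) ^ j, by rw [map_pow, map_pow, hj], Nat.dvd_antisymm ?_ ?_⟩
        · refine orderOf_dvd_of_pow_eq_one ?_
          rw [← pow_mul, ← pow_mul, show p * (j * k) = k * p * j by ring, pow_mul, hz1, one_pow]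
        · calc k = orderOf (π ((z ^ p) ^ j)) := by rw [map_pow, map_pow, hj]
            _ ∣ _ := orderOf_map_dvd π _
    have hquot : ∀ x y : G ⧸ M, orderOf x = orderOf y → IsConj x y := by
      intro x y hxy
      obtain ⟨a, rfl⟩ := QuotientGroup.mk'_surjective M x
      obtain ⟨b, rfl⟩ := QuotientGroup.mk'_surjective M y
      by_cases hpk : p ∣ orderOf (π a)
      · exact π.map_isConj (h a b (by rw [(hlift a).1 hpk, (hlift b).1 (hxy ▸ hpk), hxy]))
      · obtain ⟨a', ha', ha''⟩ := (hlift a).2 hpk
        obtain ⟨b', hb', hb''⟩ := (hlift b).2 (hxy ▸ hpk)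
        show IsConj (π a) (π b)
        rw [← ha', ← hb']
        exact π.map_isConj (h a' b' (by rw [ha'', hb'', hxy]))
    -- sizes
    set C := Subgroup.centralizer ({m₀} : Set G) with hC
    have hMC : M ≤ C := fun a ha => Subgroup.mem_centralizer_singleton_iff.2 (hMcomm a ha m₀ hm₀)
    have hCidx : C.index + 1 = Nat.card M := by
      have e : Nat.card {u : M // u ≠ 1} = C.index := by
        rw [Subgroup.index_eq_card]
        symm
        refine Nat.card_congr (Equiv.ofBijective (Quotient.lift (fun g : G =>
          (⟨⟨g * m₀ * g⁻¹, hMn.conj_mem m₀ hm₀ g⟩,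
            fun e => hm₀1 (conj_eq_one_iff.1 (congrArg Subtype.val e))⟩ : {u : M // u ≠ 1})) ?_) ⟨?_, ?_⟩)
        · intro a b hab
          have h1 := Subgroup.mem_centralizer_singleton_iff.1 (QuotientGroup.leftRel_apply.1 hab)
          refine Subtype.ext (Subtype.ext ?_)
          show a * m₀ * a⁻¹ = b * m₀ * b⁻¹
          calc a * m₀ * a⁻¹ = a * (m₀ * (a⁻¹ * b)) * b⁻¹ := by group
            _ = _ := by rw [← h1]; group
        · intro a b
          refine QuotientGroup.induction_on a (fun a => QuotientGroup.induction_on b fun b hab => ?_)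
          refine QuotientGroup.eq.2 (Subgroup.mem_centralizer_singleton_iff.2 ?_)
          have h1 : a * m₀ * a⁻¹ = b * m₀ * b⁻¹ := congrArg (fun t => ((t : M) : G)) (congrArg Subtype.val hab)
          calc a⁻¹ * b * m₀ = a⁻¹ * (b * m₀ * b⁻¹) * b := by group
            _ = _ := by rw [← h1]; group
        · rintro ⟨⟨u, hu⟩, hu1⟩
          have hu1' : u ≠ 1 := fun e => hu1 (Subtype.ext e)
          obtain ⟨c, hc⟩ := isConj_iff.1 (h m₀ u (by rw [hord m₀ hm₀ hm₀1, hord u hu hu1']))
          exact ⟨QuotientGroup.mk c, Subtype.ext (Subtype.ext hc)⟩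
      haveI := Fintype.ofFinite M
      rw [← e, Nat.card_eq_fintype_card, Nat.card_eq_fintype_card, Fintype.card_subtype_compl,
        Fintype.card_subtype_eq]
      have := Fintype.card_pos (α := M)
      omega
    have hdvd : C.index ∣ M.index := Subgroup.index_dvd_of_le hMC
    have hG : Nat.card G = Nat.card M * M.index := M.card_mul_index.symm
    have hMgt : 1 < Nat.card M := (Subgroup.one_lt_card_iff_ne_bot M).2 hM1
    have hlt : M.index < n := by
      rw [← hn, hG]
      exact lt_mul_left (Nat.pos_of_ne_zero Subgroup.index_ne_zero_of_finite) hMgt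
    have hrec := ih M.index hlt (G ⧸ M) M.index_eq_card.symm hquot
    rw [← Subgroup.index_eq_card] at hrec
    rcases hrec with h1 | h2 | ⟨h6, hna⟩
    · -- abelian
      have hab : ∀ a b : G, a * b = b * a := fun a b => hMcomm a (by
        rw [Subgroup.index_eq_one.1 h1]; exact Subgroup.mem_top a) b (by
        rw [Subgroup.index_eq_one.1 h1]; exact Subgroup.mem_top b)
      have hle : C.index = 1 := Nat.eq_one_of_dvd_one (h1 ▸ hdvd)
      right; left
      rw [hG, h1, mul_one, ← hCidx, hle]
    · have hle : C.index ≤ 2 := Nat.le_of_dvd (by norm_num) (h2 ▸ hdvd)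
      have hnab : ¬ ∀ a b : G, a * b = b * a := by
        intro hab
        have hinv : ∀ x : G, x ^ 2 = 1 := fun x => by
          rw [pow_two]
          nth_rewrite 2 [habel hab x x⁻¹ (orderOf_inv x).symm]
          exact mul_inv_cancel x
        obtain ⟨t, ht⟩ : ∃ t : G, t ∉ M := by
          by_contra hall
          push Not at hall
          rw [Subgroup.index_eq_one.2 (eq_top_iff.2 fun x _ => hall x)] at h2
          norm_num at h2
        have h2' : orderOf m₀ = 2 := orderOf_eq_prime (hinv m₀) hm₀1
        have : t = m₀ := habel hab t m₀ (by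
          rw [h2', orderOf_eq_prime (hinv t) (fun e => ht (e ▸ one_mem M))])
        exact ht (this ▸ hm₀)
      rcases (show Nat.card M = 2 ∨ Nat.card M = 3 by omega) with hM | hM
      · exact absurd (fun a b => (IsPGroup.isMulCommutative_of_card_eq_prime_sq (p := 2) (G := G)
          (by rw [hG, hM, h2]; norm_num)).1.1 a b) hnab
      · exact Or.inr (Or.inr ⟨by rw [hG, hM, h2], hnab⟩)
    · exfalso
      -- facts about the quotient of order six
      have hnocentre : ∀ t : G ⧸ M, t ≠ 1 → ¬ ∀ g : G ⧸ M, g * t = t * g := by
        intro t ht hcen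
        have hz : Subgroup.center (G ⧸ M) ≠ ⊥ := fun e => ht (by
          have := Subgroup.mem_center_iff.2 hcen
          rwa [e, Subgroup.mem_bot] at this)
        have hcl : Nat.card (Subgroup.center (G ⧸ M)) * (Subgroup.center (G ⧸ M)).index = 6 := by
          rw [Subgroup.card_mul_index, ← Subgroup.index_eq_card, h6]
        have hgt := (Subgroup.one_lt_card_iff_ne_bot _).2 hz
        set a := Nat.card (Subgroup.center (G ⧸ M))
        set b := (Subgroup.center (G ⧸ M)).index with hb
        have hb' : b = 1 ∨ b = 2 ∨ b = 3 := by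
          have : b ≤ 3 := by
            by_contra hb4
            have : 2 * 4 ≤ a * b := Nat.mul_le_mul hgt (by omega)
            omega
          have : b ≠ 0 := Subgroup.index_ne_zero_of_finite
          omega
        haveI : IsCyclic ((G ⧸ M) ⧸ Subgroup.center (G ⧸ M)) := by
          have hcard := (Subgroup.center (G ⧸ M)).index_eq_card
          rcases hb' with e | e | e <;> rw [← hb, e] at hcard
          · haveI : Subsingleton ((G ⧸ M) ⧸ Subgroup.center (G ⧸ M)) :=
              (Nat.card_eq_one_iff_unique.1 hcard.symm).1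
            exact isCyclic_of_subsingleton
          · exact isCyclic_of_prime_card (p := 2) hcard.symm
          · exact isCyclic_of_prime_card (p := 3) hcard.symm
        have := (QuotientGroup.mk' (Subgroup.center (G ⧸ M))).isMulCommutative_of_isCyclic_of_ker_le_center
          (by rw [QuotientGroup.ker_mk'])
        exact hna fun a b => this.1.1 a b
      haveI : Fact (Nat.Prime 2) := ⟨Nat.prime_two⟩
      obtain ⟨tb, htb⟩ := exists_prime_orderOf_dvd_card' (G := G ⧸ M) 2
        (by rw [← Subgroup.index_eq_card, h6]; norm_num)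
      have htb1 : tb ≠ 1 := fun e => by rw [e, orderOf_one] at htb; norm_num at htb
      obtain ⟨x, hx⟩ := QuotientGroup.mk'_surjective M tb
      have hxM : x ∉ M := fun e => htb1 (by rw [← hx]; exact (hker x).2 e)
      have hx2 : x ^ 2 ∈ M := (hker _).1 (by
        rw [map_pow, hπ, hx, ← htb, pow_orderOf_eq_one])
      have hle := Nat.le_of_dvd (by norm_num) (h6 ▸ hdvd)
      have hdiv : C.index ∣ 6 := h6 ▸ hdvd
      have hcases : C.index = 1 ∨ C.index = 2 ∨ C.index = 3 ∨ C.index = 6 := by
        have : C.index ≠ 0 := Subgroup.index_ne_zero_of_finite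
        have key : ∀ k < 7, k ∣ 6 → k ≠ 0 → k = 1 ∨ k = 2 ∨ k = 3 ∨ k = 6 := by decide
        exact key _ (Nat.lt_succ_of_le hle) hdiv this
      rcases hcases with hi | hi | hi | hi
      · -- `M` central of order two
        have hp2 : p = 2 := by
          have hd : p ∣ Nat.card M := hord m₀ hm₀ hm₀1 ▸ M.orderOf_dvd_natCard hm₀
          rw [← hCidx, hi] at hd
          exact (Nat.prime_dvd_prime_iff_eq hp Nat.prime_two).1 hd
        have hox : orderOf (π x) = 2 := by rw [hπ, hx]; exact htb
        have hx4 : orderOf x = 4 := by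
          rw [(hlift x).1 (by rw [hox, hp2]), hox, hp2]
        obtain ⟨g, hg⟩ := isConj_iff.1 (h x x⁻¹ (orderOf_inv x).symm)
        have hinvb : tb⁻¹ = tb := by
          rw [inv_eq_iff_mul_eq_one, ← pow_two, ← htb, pow_orderOf_eq_one]
        have hgc : π g ∈ Subgroup.centralizer ({tb} : Set (G ⧸ M)) := by
          rw [Subgroup.mem_centralizer_singleton_iff, ← hx]
          have := congrArg π hg
          rw [map_mul, map_mul, map_inv, map_inv, hπ, hx, hinvb] at this
          rw [hπ, hx]
          exact mul_inv_eq_iff_eq_mul.1 this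
        have hcard2 : Nat.card (Subgroup.centralizer ({tb} : Set (G ⧸ M))) = 2 := by
          set D := Subgroup.centralizer ({tb} : Set (G ⧸ M))
          have h2 : 2 ∣ Nat.card D :=
            htb ▸ D.orderOf_dvd_natCard (Subgroup.mem_centralizer_singleton_iff.2 rfl)
          have hd6 : Nat.card D ∣ 6 := h6 ▸ M.index_eq_card ▸ D.card_subgroup_dvd_card
          have hne6 : Nat.card D ≠ 6 := fun e => hnocentre tb htb1 fun g =>
            Subgroup.mem_centralizer_singleton_iff.1 ((D.eq_top_of_card_eq (by
              rw [e, ← Subgroup.index_eq_card, h6])).ge (Subgroup.mem_top g))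
          have := Nat.le_of_dvd (by norm_num) hd6
          interval_cases (Nat.card D) <;> omega
        have hz : Subgroup.zpowers tb = Subgroup.centralizer ({tb} : Set (G ⧸ M)) :=
          Subgroup.eq_of_le_of_card_ge (Subgroup.zpowers_le.2 (Subgroup.mem_centralizer_singleton_iff.2 rfl))
            (by rw [hcard2, Nat.card_zpowers, htb])
        rw [← hz, Subgroup.mem_zpowers_iff] at hgc
        obtain ⟨i, hgi⟩ := hgc
        have hgm : (x ^ i)⁻¹ * g ∈ M := (hker _).1 (by
          rw [map_mul, map_inv, map_zpow, hπ, hx, hgi, inv_mul_cancel])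
        have hcen : ∀ u ∈ M, u * x = x * u := by
          intro u hu
          have hcen0 : x ∈ C := (Subgroup.index_eq_one.1 hi).ge (Subgroup.mem_top x)
          by_cases hu1 : u = 1
          · simp [hu1]
          have hu0 : u = m₀ := by
            have h2 : Nat.card M = 2 := by omega
            obtain ⟨a, b, hab, huniv⟩ := Nat.card_eq_two_iff.1 h2
            have hmem : ∀ z : M, z = a ∨ z = b := fun z => by
              have : z ∈ ({a, b} : Set M) := huniv ▸ Set.mem_univ z
              simpa using this
            have key : ∀ u v : M, u ≠ 1 → v ≠ 1 → u = v := fun u v hu hv => by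
              rcases hmem u with rfl | rfl <;> rcases hmem v with rfl | rfl <;>
                rcases hmem 1 with e | e <;> first | rfl | exact absurd e.symm hu | exact absurd e.symm hv
            exact congrArg Subtype.val (key ⟨u, hu⟩ ⟨m₀, hm₀⟩ (fun e => hu1 (congrArg Subtype.val e))
              (fun e => hm₀1 (congrArg Subtype.val e)))
          rw [hu0]
          exact (Subgroup.mem_centralizer_singleton_iff.1 hcen0).symm
        have hcg : Commute g x := by
          have h1 : Commute ((x ^ i)⁻¹ * g) x := hcen _ hgm
          have h2 : g = x ^ i * ((x ^ i)⁻¹ * g) := by group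
          rw [h2]
          exact ((Commute.refl x).zpow_left i).mul_left h1
        rw [hcg.eq, mul_inv_cancel_right] at hg
        have : x ^ 2 = 1 := by rw [pow_two]; nth_rewrite 2 [hg]; exact mul_inv_cancel x
        have := orderOf_dvd_of_pow_eq_one this
        rw [hx4] at this
        norm_num at this
      · -- `M` of order three
        haveI : Fact (Nat.Prime 3) := ⟨Nat.prime_three⟩
        have hp3 : p = 3 := by
          have hd : p ∣ Nat.card M := hord m₀ hm₀ hm₀1 ▸ M.orderOf_dvd_natCard hm₀
          rw [← hCidx, hi] at hd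
          exact (Nat.prime_dvd_prime_iff_eq hp Nat.prime_three).1 hd
        obtain ⟨yb, hyb⟩ := exists_prime_orderOf_dvd_card' (G := G ⧸ M) 3
          (by rw [← Subgroup.index_eq_card, h6]; norm_num)
        obtain ⟨y, rfl⟩ := QuotientGroup.mk'_surjective M yb
        have hy9 : orderOf y = 9 := by
          rw [(hlift y).1 (by rw [hπ, hyb, hp3]), hπ, hyb, hp3]
        set D := Subgroup.centralizer ({y} : Set G) with hD
        have h9 : 9 ≤ Nat.card D := Nat.le_of_dvd Nat.card_pos
          (hy9 ▸ D.orderOf_dvd_natCard (Subgroup.mem_centralizer_singleton_iff.2 rfl))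
        have hDidx : D.index ≤ 2 := by
          have h18 := D.card_mul_index
          rw [hG, ← hCidx, hi, h6] at h18
          by_contra h3
          have : 9 * 3 ≤ Nat.card D * D.index := Nat.mul_le_mul h9 (by omega)
          omega
        have hpow : ∀ k ∈ ({1, 2, 4} : Finset ℕ), ∃ c : G, c * y * c⁻¹ = y ^ k := by
          intro k hk
          refine isConj_iff.1 (h y (y ^ k) ?_)
          rw [orderOf_pow, hy9]
          fin_cases hk <;> rfl
        choose c hc using hpow
        let F : ({1, 2, 4} : Finset ℕ) → G ⧸ D := fun k => (c k.1 k.2 : G ⧸ D)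
        have hF : Function.Injective F := by
          rintro ⟨j, hj⟩ ⟨k, hk⟩ hjk
          have h1 := Subgroup.mem_centralizer_singleton_iff.1 (QuotientGroup.eq.1 hjk)
          have h2 : y ^ j = y ^ k := by
            rw [← hc j hj, ← hc k hk]
            calc c j hj * y * (c j hj)⁻¹ = c j hj * (y * ((c j hj)⁻¹ * c k hk)) * (c k hk)⁻¹ := by group
              _ = _ := by rw [← h1]; group
          rw [pow_eq_pow_iff_modEq, hy9] at h2
          refine Subtype.ext ?_
          show j = k
          fin_cases hj <;> fin_cases hk <;> first | rfl | exact absurd h2 (by decide)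
        have h3 := Nat.card_le_card_of_injective F hF
        rw [← Subgroup.index_eq_card, Nat.card_eq_finsetCard] at h3
        have : ({1, 2, 4} : Finset ℕ).card = 3 := rfl
        omega
      · -- `M` a four-group
        have hp2 : p = 2 := by
          have hd : p ∣ Nat.card M := hord m₀ hm₀ hm₀1 ▸ M.orderOf_dvd_natCard hm₀
          rw [← hCidx, hi, show 3 + 1 = 2 ^ 2 from rfl] at hd
          exact (Nat.prime_dvd_prime_iff_eq hp Nat.prime_two).1 (hp.dvd_of_dvd_pow hd)
        subst hp2
        have hx1 : x ^ 2 ≠ 1 := fun e => hxM (hpM x (orderOf_eq_prime e (fun e => hxM (e ▸ one_mem M))))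
        obtain ⟨m, hm, hmx⟩ : ∃ m ∈ M, x * m * x⁻¹ ≠ m := by
          by_contra hall
          push Not at hall
          let CM := Subgroup.centralizer (M : Set G)
          have hxCM : x ∈ CM := Subgroup.mem_centralizer_iff.2 fun u hu => by
            have := mul_inv_eq_iff_eq_mul.1 (hall u hu)
            exact this.symm
          have hMCM : M ≤ CM := fun u hu => Subgroup.mem_centralizer_iff.2 fun v hv => hMcomm v hv u hu
          have hCMC : CM ≤ C := fun u hu =>
            Subgroup.mem_centralizer_singleton_iff.2 (Subgroup.mem_centralizer_iff.1 hu m₀ hm₀).symm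
          set N := CM.map π with hN
          haveI : N.Normal := Subgroup.Normal.map inferInstance _ (QuotientGroup.mk'_surjective M)
          have hNC : Nat.card N ≤ 2 := by
            have h1 : CM.index = N.index := by
              rw [hN, Subgroup.index_map_eq _ (QuotientGroup.mk'_surjective M) (by
                rw [QuotientGroup.ker_mk']; exact hMCM)]
            have h2 := N.card_mul_index
            rw [← Subgroup.index_eq_card, h6, ← h1] at h2
            have h3 : 3 ∣ CM.index := hi ▸ Subgroup.index_dvd_of_le hCMC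
            have h4 := Nat.le_of_dvd (Nat.pos_of_ne_zero Subgroup.index_ne_zero_of_finite) h3
            by_contra h5
            have : 3 * 3 ≤ Nat.card N * CM.index := Nat.mul_le_mul (by omega) h4
            omega
          have hNz : Subgroup.zpowers tb = N := Subgroup.eq_of_le_of_card_ge
            (Subgroup.zpowers_le.2 ⟨x, hxCM, hx⟩) (by rw [Nat.card_zpowers, htb]; exact hNC)
          refine hnocentre tb htb1 fun g => ?_
          have h1 : g * tb * g⁻¹ ∈ Subgroup.zpowers tb := by
            rw [hNz]
            exact (inferInstance : N.Normal).conj_mem _ ⟨x, hxCM, hx⟩ g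
          obtain ⟨i, hi'⟩ := Subgroup.mem_zpowers_iff.1 h1
          have h2 : g * tb * g⁻¹ = 1 ∨ g * tb * g⁻¹ = tb := by
            rw [← hi', ← zpow_mod_orderOf, htb]
            rcases Int.emod_two_eq i with e | e <;> rw [show ((2 : ℕ) : ℤ) = 2 from rfl, e] <;> simp
          rcases h2 with e | e
          · exact absurd (conj_eq_one_iff.1 e) htb1
          · exact mul_inv_eq_iff_eq_mul.1 e
        set f := x ^ 2 with hf
        set m' := x * m * x⁻¹ with hm'
        have hm'M : m' ∈ M := hMn.conj_mem m hm x
        have hxf : x * f * x⁻¹ = f := by rw [hf]; group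
        have hmf : m ≠ f := fun e => hmx (by rw [hm', e]; exact hxf)
        have hm'f : m' ≠ f := fun e => hmf (by
          calc m = x⁻¹ * m' * x := by rw [hm']; group
            _ = f := by rw [e, hf]; group)
        have hm1 : m ≠ 1 := fun e => hmx (by rw [hm', e]; simp)
        have hm'1 : m' ≠ 1 := fun e => hm1 (conj_eq_one_iff.1 e)
        have hsq : ∀ u ∈ M, u * u = 1 := fun u hu => by
          rw [← pow_two]; exact congrArg Subtype.val (hMp ⟨u, hu⟩)
        have hprod : m * m' = f := by
          haveI := Fintype.ofFinite M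
          let s : Finset M := {1, ⟨m, hm⟩, ⟨m', hm'M⟩, ⟨f, hx2⟩}
          have hs : s.card = 4 := by
            simp [s, Subtype.ext_iff, hm1.symm, hm'1.symm, hx1.symm, Ne.symm hmx, hmf, hm'f]
          have hsu : s = Finset.univ := Finset.eq_univ_of_card _ (by
            rw [hs, ← Nat.card_eq_fintype_card, ← hCidx, hi])
          have hmem : (⟨m * m', mul_mem hm hm'M⟩ : M) ∈ s := hsu ▸ Finset.mem_univ _
          simp [s, Subtype.ext_iff] at hmem
          rcases hmem with e | e | e | e
          · exfalso
            refine hmx ?_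
            calc m' = (m * m) * m' := by rw [hsq m hm, one_mul]
              _ = m * (m * m') := by group
              _ = m := by rw [e, mul_one]
          · exact absurd e hm'1
          · exact absurd e hm1
          · exact e
        have hmx2 : (m * x) ^ 2 = 1 := by
          calc (m * x) ^ 2 = m * (x * m * x⁻¹) * x ^ 2 := by rw [pow_two, pow_two]; group
            _ = m * m' * f := by rw [← hm', ← hf]
            _ = 1 := by rw [hprod, hsq f hx2]
        refine hxM ?_
        have h1 : m * x ∈ M := by
          by_cases e : m * x = 1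
          · rw [e]; exact one_mem M
          · exact hpM _ (orderOf_eq_prime hmx2 e)
        have := mul_mem (inv_mem hm) h1
        rwa [inv_mul_cancel_left] at this
      · -- `M` of order seven
        haveI : Fact (Nat.Prime 7) := ⟨by norm_num⟩
        haveI : IsCyclic M := isCyclic_of_prime_card (p := 7) (by rw [← hCidx, hi])
        have hCM : C = M := by
          refine (Subgroup.eq_of_le_of_card_ge hMC ?_).symm
          have h1 := C.card_mul_index
          rw [hG, hi, h6] at h1
          omega
        refine hna fun a b => ?_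
        obtain ⟨a, rfl⟩ := QuotientGroup.mk'_surjective M a
        obtain ⟨b, rfl⟩ := QuotientGroup.mk'_surjective M b
        obtain ⟨i, hi'⟩ := MonoidHom.map_cyclic ((MulAut.conjNormal a : MulAut M).toMonoidHom)
        obtain ⟨j, hj'⟩ := MonoidHom.map_cyclic ((MulAut.conjNormal b : MulAut M).toMonoidHom)
        have ha : ∀ u : M, a * (u : G) * a⁻¹ = (u : G) ^ i := fun u => by
          simpa [MulAut.conjNormal_apply] using congrArg Subtype.val (hi' u)
        have hb : ∀ u : M, b * (u : G) * b⁻¹ = (u : G) ^ j := fun u => by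
          simpa [MulAut.conjNormal_apply] using congrArg Subtype.val (hj' u)
        have key : (a * b) * m₀ * (a * b)⁻¹ = (b * a) * m₀ * (b * a)⁻¹ := by
          calc (a * b) * m₀ * (a * b)⁻¹ = a * (b * m₀ * b⁻¹) * a⁻¹ := by group
            _ = (m₀ ^ j) ^ i := by
              rw [hb ⟨m₀, hm₀⟩]; simpa using ha (⟨m₀, hm₀⟩ ^ j)
            _ = (m₀ ^ i) ^ j := by rw [← zpow_mul, ← zpow_mul, mul_comm]
            _ = b * (a * m₀ * a⁻¹) * b⁻¹ := by
              rw [ha ⟨m₀, hm₀⟩]; simpa using (hb (⟨m₀, hm₀⟩ ^ i)).symm
            _ = _ := by group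
        have h1 : (b * a)⁻¹ * (a * b) ∈ M := by
          rw [← hCM]
          refine Subgroup.mem_centralizer_singleton_iff.2 ?_
          calc (b * a)⁻¹ * (a * b) * m₀
              = (b * a)⁻¹ * ((a * b) * m₀ * (a * b)⁻¹) * (a * b) := by group
            _ = _ := by rw [key]; group
        rw [← map_mul, ← map_mul]
        exact (QuotientGroup.eq.2 h1).symm

/-- A finite solvable group in which any two elements of the same order are conjugate has order 1 or 2 or is isomorphic to the symmetric group of degree 3. -/
theorem result {G : Type*} [Group G] [Finite G] [Group.IsSolvable G]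
    (h : ∀ x y : G, orderOf x = orderOf y → IsConj x y) :
    Nat.card G = 1 ∨ Nat.card G = 2 ∨ Nonempty (G ≃* Equiv.Perm (Fin 3)) := by
  rcases card_cases _ G rfl h with h1 | h2 | ⟨h6, hna⟩
  · exact Or.inl h1
  · exact Or.inr (Or.inl h2)
  · exact Or.inr (Or.inr (equiv_perm_three h6 hna))

end Cfsg.Agent.S4062
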