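import Cfsg.Statements.S4064
import Cfsg.Agent.S0347
import Cfsg.Agent.Lib.PGroup.CAI.TIFrobenius
import Cfsg.Agent.Lib.PGroup.CAI.TISimple

set_option autoImplicit false
open Cfsg

namespace Cfsg.Agent.S4064

open CfsgLib.PGroup.CAI

/-- Let G be a finite group in which the centralizer of every element meets each of its conjugates by elements outside its normalizer trivially. Then G is nilpotent; or G is a Frobenius group with a complement that is cyclic or isomorphic to the direct product of a cyclic group of odd order and the quaternion group of order 8; or G is isomorphic to PSL₂(2ⁿ) for some n ≥ 2. -/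
theorem result {G : Type*} [Group G] [Finite G] (hTI : ∀ x : G, Cfsg.IsTISubset (Subgroup.centralizer ({x} : Set G) : Set G)) :
    Group.IsNilpotent G ∨
    (∃ H : Subgroup G, Cfsg.IsFrobeniusComplement H ∧
      (IsCyclic H ∨ ∃ m : ℕ, Odd m ∧ Nonempty (H ≃* Multiplicative (ZMod m) × QuaternionGroup 2))) ∨
    (∃ n : ℕ, 2 ≤ n ∧ Nonempty (G ≃* Matrix.ProjectiveSpecialLinearGroup (Fin 2) (GaloisField 2 n))) := by
  refine or_iff_not_imp_left.2 fun hnn => ?_
  by_cases h : ∃ (p : ℕ) (Q : Subgroup G), p.Prime ∧ Q.Normal ∧ IsPGroup p Q ∧ Q ≠ ⊥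
  · obtain ⟨p, Q, hp, hQn, hQp, hQ⟩ := h
    haveI := Fact.mk hp
    exact Or.inl (CentTI.frobenius hTI hnn hQn hQp hQ)
  · push Not at h
    haveI hnt : Nontrivial G := not_subsingleton_iff_nontrivial.1 fun hs => hnn inferInstance
    refine Or.inr (CentTI.psl hTI h hnt ?_)
    intro Ω _ _ hZ hs x U hUle hUn hU2 hUna hreg
    haveI := hs
    exact Cfsg.Agent.S0347.result hZ x U hUle hUn hU2 hUna hreg

end Cfsg.Agent.S4064
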