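import Cfsg.Statements.S4065
import Mathlib

set_option autoImplicit false
open Cfsg

namespace Cfsg.Agent.S4065

open Subgroup

theorem comm_of_comm {F : Type*} [Field F] {M A B : Matrix (Fin 2) (Fin 2) F}
    (hM : M 0 1 ≠ 0 ∨ M 1 0 ≠ 0 ∨ M 0 0 ≠ M 1 1) (hA : A * M = M * A) (hB : B * M = M * B) :
    A * B = B * A := by
  have hA00 := congrFun (congrFun hA 0) 0
  have hA01 := congrFun (congrFun hA 0) 1
  have hA10 := congrFun (congrFun hA 1) 0
  have hB00 := congrFun (congrFun hB 0) 0
  have hB01 := congrFun (congrFun hB 0) 1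
  have hB10 := congrFun (congrFun hB 1) 0
  simp only [Matrix.mul_apply, Fin.sum_univ_two] at hA00 hA01 hA10 hB00 hB01 hB10
  set a := M 0 0; set b := M 0 1; set c := M 1 0; set d := M 1 1
  set x := A 0 0; set y := A 0 1; set z := A 1 0; set w := A 1 1
  set x' := B 0 0; set y' := B 0 1; set z' := B 1 0; set w' := B 1 1
  have h1 : y * c = b * z := by linear_combination hA00
  have g1 : y' * c = b * z' := by linear_combination hB00
  have h2 : b * (w - x) = y * (d - a) := by linear_combination -hA01
  have g2 : b * (w' - x') = y' * (d - a) := by linear_combination -hB01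
  have h3 : c * (w - x) = z * (d - a) := by linear_combination hA10
  have g3 : c * (w' - x') = z' * (d - a) := by linear_combination hB10
  have key : y * z' = y' * z ∧ y * (w' - x') = y' * (w - x) ∧ z * (w' - x') = z' * (w - x) := by
    by_cases hb : b = 0
    · by_cases hc : c = 0
      · have hf : d - a ≠ 0 := sub_ne_zero.2 (by
          rcases hM with h | h | h
          exacts [absurd hb h, absurd hc h, Ne.symm h])
        have hy : y = 0 := (mul_eq_zero.1 (show y * (d - a) = 0 by
          linear_combination hA01 + (w - x) * hb)).resolve_right hf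
        have hz : z = 0 := (mul_eq_zero.1 (show z * (d - a) = 0 by
          linear_combination -hA10 + (w - x) * hc)).resolve_right hf
        have hy' : y' = 0 := (mul_eq_zero.1 (show y' * (d - a) = 0 by
          linear_combination hB01 + (w' - x') * hb)).resolve_right hf
        have hz' : z' = 0 := (mul_eq_zero.1 (show z' * (d - a) = 0 by
          linear_combination -hB10 + (w' - x') * hc)).resolve_right hf
        simp [hy, hz, hy', hz']
      · refine ⟨mul_left_cancel₀ hc ?_, mul_left_cancel₀ hc ?_, mul_left_cancel₀ hc ?_⟩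
        · linear_combination z' * h1 - z * g1
        · linear_combination (w' - x') * h1 - y' * h3 + z * g2
        · linear_combination z * g3 - z' * h3
    · have k1 : y * z' = y' * z := mul_left_cancel₀ hb (by linear_combination -y * g1 + y' * h1)
      refine ⟨k1, mul_left_cancel₀ hb ?_, mul_left_cancel₀ hb ?_⟩
      · linear_combination y * g2 - y' * h2
      · linear_combination z * g2 - z' * h2 - (d - a) * k1
  ext i j
  fin_cases i <;> fin_cases j <;> simp only [Matrix.mul_apply, Fin.sum_univ_two, Fin.zero_eta,
    Fin.mk_one, Fin.isValue] <;> obtain ⟨k1, k2, k3⟩ := key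
  · linear_combination k1
  · linear_combination k2
  · linear_combination -k3
  · linear_combination -k1


/-- Let F be a finite field with 2ⁿ elements, n ≥ 2. In PSL₂(F) the centralizer of every element meets each of its conjugates by elements outside its normalizer trivially. -/
theorem result (n : ℕ) (hn : 2 ≤ n)
    (x : Matrix.ProjectiveSpecialLinearGroup (Fin 2) (GaloisField 2 n)) :
    Cfsg.IsTISubset (Subgroup.centralizer ({x} : Set (Matrix.ProjectiveSpecialLinearGroup (Fin 2) (GaloisField 2 n))) :
      Set (Matrix.ProjectiveSpecialLinearGroup (Fin 2) (GaloisField 2 n))) := by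
  have hz : Subgroup.center (Matrix.SpecialLinearGroup (Fin 2) (GaloisField 2 n)) = ⊥ := by
    rw [Subgroup.eq_bot_iff_forall]
    intro A hA
    obtain ⟨r, hr, hrA⟩ := Matrix.SpecialLinearGroup.mem_center_iff.1 hA
    rw [Fintype.card_fin] at hr
    have hr1 : r = 1 := by
      have h2 : (2 : GaloisField 2 n) = 0 := CharTwo.two_eq_zero
      have : (r - 1) ^ 2 = 0 := by linear_combination hr - (r - 1) * h2
      exact sub_eq_zero.1 (sq_eq_zero_iff.1 this)
    apply Subtype.ext
    rw [← hrA, hr1]
    simp
  have hsurj := QuotientGroup.mk'_surjective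
    (Subgroup.center (Matrix.SpecialLinearGroup (Fin 2) (GaloisField 2 n)))
  -- centralisers of nontrivial elements are abelian
  have hca : ∀ u v w : Matrix.ProjectiveSpecialLinearGroup (Fin 2) (GaloisField 2 n),
      u ≠ 1 → v * u = u * v → w * u = u * w → v * w = w * v := by
    intro u v w hu hv hw
    obtain ⟨U, rfl⟩ := hsurj u
    obtain ⟨V, rfl⟩ := hsurj v
    obtain ⟨W, rfl⟩ := hsurj w
    have hinj : Function.Injective (QuotientGroup.mk'
        (Subgroup.center (Matrix.SpecialLinearGroup (Fin 2) (GaloisField 2 n)))) := by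
      rw [← MonoidHom.ker_eq_bot_iff, QuotientGroup.ker_mk', hz]
    rw [← map_mul, ← map_mul] at hv hw ⊢
    congr 1
    apply Subtype.ext
    refine comm_of_comm ?_ (congrArg Subtype.val (hinj hv)) (congrArg Subtype.val (hinj hw))
    by_contra hcon
    simp only [not_or, ne_eq, not_not] at hcon
    obtain ⟨h1, h2, h3⟩ := hcon
    apply hu
    rw [QuotientGroup.mk'_apply, QuotientGroup.eq_one_iff, Matrix.SpecialLinearGroup.mem_center_iff]
    refine ⟨U.1 0 0, ?_, ?_⟩
    · have hdet := U.2
      rw [Matrix.det_fin_two, h1, ← h3] at hdet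
      rw [Fintype.card_fin, sq]
      linear_combination hdet
    · ext i j
      fin_cases i <;> fin_cases j <;> simp [h1, h2, h3]
  intro g hg a ha hga
  by_contra ha1
  apply hg
  rcases eq_or_ne x 1 with hx | hx
  · rw [hx]
    have : Subgroup.centralizer ({1} : Set (Matrix.ProjectiveSpecialLinearGroup (Fin 2)
        (GaloisField 2 n))) = ⊤ := by
      ext u; simp [Subgroup.mem_centralizer_singleton_iff]
    rw [this]
    exact Subgroup.le_normalizer (Subgroup.mem_top g)
  have hCeq : ∀ b ∈ Subgroup.centralizer ({x} : Set (Matrix.ProjectiveSpecialLinearGroup (Fin 2)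
      (GaloisField 2 n))), b ≠ 1 → Subgroup.centralizer ({b} : Set _) =
      Subgroup.centralizer ({x} : Set _) := by
    intro b hb hb1
    have hbx : b * x = x * b := Subgroup.mem_centralizer_singleton_iff.1 hb
    ext u
    simp only [Subgroup.mem_centralizer_singleton_iff]
    exact ⟨fun hu => hca b u x hb1 hu hbx.symm, fun hu => hca x u b hx hu hbx⟩
  have e1 := hCeq a ha ha1
  have e2 := hCeq (g * a * g⁻¹) hga (fun h => ha1 (conj_eq_one_iff.1 h))
  have key : ∀ u, u * a = a * u ↔ g * u * g⁻¹ * (g * a * g⁻¹) = g * a * g⁻¹ * (g * u * g⁻¹) := by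
    intro u
    constructor
    · intro h
      calc g * u * g⁻¹ * (g * a * g⁻¹) = g * (u * a) * g⁻¹ := by group
        _ = _ := by rw [h]; group
    · intro h
      calc u * a = g⁻¹ * (g * u * g⁻¹ * (g * a * g⁻¹)) * g := by group
        _ = _ := by rw [h]; group
  rw [Subgroup.mem_normalizer_iff]
  intro u
  calc u ∈ Subgroup.centralizer ({x} : Set _) ↔ u * a = a * u := by
        rw [← e1, Subgroup.mem_centralizer_singleton_iff]
    _ ↔ g * u * g⁻¹ * (g * a * g⁻¹) = g * a * g⁻¹ * (g * u * g⁻¹) := key u
    _ ↔ g * u * g⁻¹ ∈ Subgroup.centralizer ({x} : Set _) := by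
        rw [← e2, Subgroup.mem_centralizer_singleton_iff]

end Cfsg.Agent.S4065
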