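import Cfsg.Statements.S4067
import Cfsg.Agent.Lib.Char.Linear
import Cfsg.Agent.Lib.Char.Integral
import Cfsg.Agent.Lib.PGroup.Basic

set_option autoImplicit false
open Cfsg

namespace Cfsg.Agent.S4067

open Subgroup
open scoped commutatorElement

variable {G : Type*} [Group G] [Finite G]

omit [Finite G] in
theorem orbit_mk_eq {a b : G} (θ : MulAut G) (h : θ a = b) :
    (Quotient.mk'' a : MulAction.orbitRel.Quotient (MulAut G) G) = Quotient.mk'' b :=
  (Quotient.sound' (MulAction.orbitRel_apply.2 ⟨θ, h⟩)).symm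

omit [Finite G] in
theorem orbit_conj_eq (a h : G) :
    (Quotient.mk'' a : MulAction.orbitRel.Quotient (MulAut G) G) = Quotient.mk'' (h * a * h⁻¹) :=
  orbit_mk_eq (MulAut.conj h) rfl

theorem choose_two_add (i : ℕ) : ∀ j : ℕ, (i + j).choose 2 = i.choose 2 + i * j + j.choose 2
  | 0 => by simp
  | j + 1 => by
    have h := choose_two_add i j
    rw [← add_assoc, Nat.choose_succ_succ, Nat.choose_one_right, h, Nat.choose_succ_succ j,
      Nat.choose_one_right, Nat.mul_succ]
    ring

/-- With a large derived subgroup there are few conjugacy classes. -/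
theorem card_conjClasses_mul_le (p : ℕ) (hp : ∀ d : ℕ, d ∣ Nat.card G → d ≠ 1 → p ≤ d)
    (hg : p < Nat.card (commutator G)) : p * Nat.card (ConjClasses G) ≤ Nat.card G := by
  classical
  letI := Fintype.ofFinite G
  choose d hd0 hd using fun ψ : Cfsg.IrrCharacter G => CfsgLib.Char.exists_degree_pos ψ.2
  have hsum : ∑ ψ, d ψ ^ 2 = Nat.card G := by
    have h := CfsgLib.Char.sum_degree_sq (G := G)
    simp only [hd] at h
    exact_mod_cast h
  set L := Finset.univ.filter fun ψ : Cfsg.IrrCharacter G => d ψ = 1 with hL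
  have hLcard : L.card = (commutator G).index := by
    rw [← CfsgLib.Char.card_linear, Nat.card_eq_fintype_card, Fintype.card_subtype]
    refine congrArg Finset.card (Finset.filter_congr fun ψ _ => ?_)
    rw [hd ψ, Nat.cast_eq_one]
  have hk : Nat.card (ConjClasses G) = L.card + (Finset.univ \ L).card := by
    rw [← CfsgLib.Char.card_irr_eq_card_conjClasses, Nat.card_eq_fintype_card,
      Finset.card_sdiff_of_subset (Finset.subset_univ _), Finset.card_univ]
    have := Finset.card_le_univ L
    omega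
  have hsplit := Finset.sum_sdiff (Finset.subset_univ L) (f := fun ψ => d ψ ^ 2)
  rw [hsum] at hsplit
  have hlin : ∑ ψ ∈ L, d ψ ^ 2 = L.card := by
    rw [Finset.card_eq_sum_ones]
    refine Finset.sum_congr rfl fun ψ hψ => ?_
    rw [(Finset.mem_filter.1 hψ).2]
    rfl
  have hnon : (Finset.univ \ L).card * p ^ 2 ≤ ∑ ψ ∈ Finset.univ \ L, d ψ ^ 2 := by
    rw [← smul_eq_mul]
    refine Finset.card_nsmul_le_sum _ _ _ fun ψ hψ => Nat.pow_le_pow_left ?_ 2
    refine hp _ (CfsgLib.Char.degree_dvd_card ψ.2 (hd ψ)) fun h1 => ?_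
    exact (Finset.mem_sdiff.1 hψ).2 (Finset.mem_filter.2 ⟨Finset.mem_univ _, h1⟩)
  have hn : Nat.card (commutator G) * (commutator G).index = Nat.card G := Subgroup.card_mul_index _
  rw [hLcard] at hk hlin
  set g := Nat.card (commutator G)
  set i := (commutator G).index
  set r := (Finset.univ \ L).card
  have h1 : (p + 1) * i ≤ Nat.card G := hn ▸ Nat.mul_le_mul_right i hg
  rcases Nat.eq_zero_or_pos p with hp0 | hp0
  · rw [hp0, zero_mul]; exact Nat.zero_le _
  · rw [hk]
    refine Nat.le_of_mul_le_mul_left ?_ hp0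
    nlinarith

/-- When the derived subgroup is central of order `p` and `Z(G)` contains two independent elements
of order `p`, the automorphism orbits are few. -/
theorem card_orbits_of_two_central (p : ℕ) [hp : Fact p.Prime] (hcard' : Nat.card (commutator G) = p)
    (hZ : commutator G ≤ center G) (hn : p ^ 2 ≤ (center G).index) (W : Subgroup G)
    (hWZ : W ≤ center G) (hWp : ∀ w ∈ W, w ^ p = 1) (hW : p ^ 2 ≤ Nat.card W) :
    p * Nat.card (MulAction.orbitRel.Quotient (MulAut G) G) ≤ Nat.card G := by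
  classical
  have hcmem : ∀ a b : G, ⁅a, b⁆ ∈ commutator G := fun a b => by
    rw [commutator_eq_closure]; exact subset_closure ⟨a, b, rfl⟩
  have hccen : ∀ a b : G, ⁅a, b⁆ ∈ center G := fun a b => hZ (hcmem a b)
  haveI : IsCyclic (commutator G) := isCyclic_of_prime_card hcard'
  have hfuse : ∀ g : G, g ∉ center G → ∀ w ∈ W, ∃ θ : MulAut G, θ g = g * w := by
    intro g hg w hw
    obtain ⟨h, hh⟩ : ∃ h : G, ⁅g, h⁆ ≠ 1 := by
      by_contra hall
      push Not at hall
      exact hg (mem_center_iff.2 fun h => (commutatorElement_eq_one_iff_mul_comm.1 (hall h)).symm)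
    set c0 : commutator G := ⟨⁅g, h⁆, hcmem g h⟩ with hc0
    have hc01 : c0 ≠ 1 := fun e => hh (congrArg Subtype.val e)
    have hgen : ∀ x : commutator G, x ∈ zpowers c0 := fun x => mem_zpowers_of_prime_card hcard' hc01
    have hdvd : orderOf (⟨w, hw⟩ : W) ∣ orderOf c0 := by
      have h1 : c0 ^ p = 1 := by rw [← hcard']; exact pow_card_eq_one'
      rw [orderOf_eq_prime h1 hc01]
      exact orderOf_dvd_of_pow_eq_one (Subtype.ext (hWp w hw) : (⟨w, hw⟩ : W) ^ p = 1)
    let ψ : commutator G →* W := monoidHomOfForallMemZpowers hgen hdvd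
    let f : G →* commutator G := MonoidHom.mk' (fun x => ⟨⁅x, h⁆, hcmem x h⟩) fun a b =>
      Subtype.ext (CfsgLib.PGroup.comm_mul_left (hccen b h))
    let φ := ψ.comp f
    have hφc : ∀ z ∈ center G, φ z = 1 := by
      intro z hz
      have : f z = 1 := Subtype.ext (commutatorElement_eq_one_iff_mul_comm.2 (mem_center_iff.1 hz h).symm)
      simp [φ, this]
    let θ₀ : G →* G := MonoidHom.mk' (fun x => x * (φ x : G)) fun a b => by
      rw [map_mul, coe_mul]
      calc a * b * ((φ a : G) * φ b) = a * (b * (φ a : G)) * φ b := by group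
        _ = _ := by rw [mem_center_iff.1 (hWZ (φ a).2) b]; group
    have hinj : Function.Injective θ₀ := by
      refine (MonoidHom.ker_eq_bot_iff _).1 (eq_bot_iff.2 fun x hx => ?_)
      have hx' : x * (φ x : G) = 1 := hx
      have hxc : x ∈ center G := eq_inv_of_mul_eq_one_left hx' ▸ inv_mem (hWZ (φ x).2)
      rw [hφc x hxc, coe_one, mul_one] at hx'
      exact mem_bot.2 hx'
    refine ⟨MulEquiv.ofBijective θ₀ (Finite.injective_iff_bijective.1 hinj), ?_⟩
    show g * (φ g : G) = g * w
    have : φ g = ⟨w, hw⟩ := monoidHomOfForallMemZpowers_apply_gen hgen hdvd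
    rw [this]
  -- representatives
  have hWn : W.Normal := ⟨fun w hw g => by
    rw [mem_center_iff.1 (hWZ hw) g, mul_inv_cancel_right]; exact hw⟩
  let S := {q : G ⧸ W // q.out ∉ center G}
  let F : center G ⊕ S → MulAction.orbitRel.Quotient (MulAut G) G :=
    Sum.elim (fun z => Quotient.mk'' (z : G)) (fun q => Quotient.mk'' q.1.out)
  have hF : Function.Surjective F := by
    intro o
    induction o using Quotient.inductionOn' with
    | h g =>
      by_cases hg : g ∈ center G
      · exact ⟨Sum.inl ⟨g, hg⟩, rfl⟩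
      obtain ⟨w, hw⟩ := QuotientGroup.mk_out_eq_mul W g
      have hout : (QuotientGroup.mk g : G ⧸ W).out ∉ center G := fun h => hg (by
        have := mul_mem h (inv_mem (hWZ w.2))
        rwa [hw, mul_inv_cancel_right] at this)
      obtain ⟨θ, hθ⟩ := hfuse g hg w w.2
      exact ⟨Sum.inr ⟨_, hout⟩, (orbit_mk_eq θ (hθ.trans hw.symm)).symm⟩
  have h1 := Nat.card_le_card_of_surjective F hF
  rw [Nat.card_sum] at h1
  have hS : Nat.card S * Nat.card W + Nat.card (center G) ≤ Nat.card G := by
    rw [← Nat.card_prod, ← Nat.card_sum]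
    refine Nat.card_le_card_of_injective
      (Sum.elim (fun x : S × W => x.1.1.out * (x.2 : G)) (fun z : center G => (z : G))) ?_
    rintro (⟨q, w⟩ | z) (⟨q', w'⟩ | z') h
    · have h' : q.1.out * (w : G) = q'.1.out * (w' : G) := h
      have hq : q = q' := Subtype.ext (by
        have := congrArg (QuotientGroup.mk (s := W)) h'
        rwa [QuotientGroup.mk_mul_of_mem _ w.2, QuotientGroup.mk_mul_of_mem _ w'.2,
          QuotientGroup.out_eq', QuotientGroup.out_eq'] at this)
      subst hq
      exact congrArg Sum.inl (Prod.ext rfl (Subtype.ext (mul_left_cancel h')))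
    · exfalso
      have h' : q.1.out * (w : G) = (z' : G) := h
      refine q.2 ?_
      rw [eq_mul_inv_of_mul_eq h']
      exact mul_mem z'.2 (inv_mem (hWZ w.2))
    · exfalso
      have h' : (z : G) = q'.1.out * (w' : G) := h
      refine q'.2 ?_
      rw [eq_mul_inv_of_mul_eq h'.symm]
      exact mul_mem z.2 (inv_mem (hWZ w'.2))
    · exact congrArg Sum.inr (Subtype.ext h)
  have hidx := (center G).card_mul_index
  set a := Nat.card (center G)
  set b := Nat.card S
  set m := (center G).index
  have h2 : p * Nat.card (MulAction.orbitRel.Quotient (MulAut G) G) ≤ p * (a + b) :=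
    Nat.mul_le_mul_left _ h1
  have h3 : b * p ^ 2 + a ≤ Nat.card G := (Nat.add_le_add_right (Nat.mul_le_mul_left b hW) a).trans hS
  have h4 : a * p ^ 2 ≤ Nat.card G := hidx ▸ Nat.mul_le_mul_left a hn
  have hp2 := hp.out.two_le
  nlinarith [Nat.mul_le_mul_left (p - 1) h4, Nat.sub_add_cancel hp.out.one_le]

/-- The automorphism fusing cosets, in the cyclic-centre case. -/
theorem card_orbits_of_transvection (p : ℕ) [hp : Fact p.Prime]
    (hcard' : Nat.card (commutator G) = p) (hZ : commutator G ≤ center G) (u : G)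
    (hu : u ∉ center G) (hup : u ^ p ∈ center G)
    (hrel : ∀ y : G, ⁅y, u⁆ ≠ 1 → u ^ p * ⁅u, y⁆ ^ p.choose 2 = 1) :
    p * Nat.card (MulAction.orbitRel.Quotient (MulAut G) G) ≤ Nat.card G := by
  classical
  have hcmem : ∀ a b : G, ⁅a, b⁆ ∈ commutator G := fun a b => by
    rw [commutator_eq_closure]; exact subset_closure ⟨a, b, rfl⟩
  have hccen : ∀ a b : G, ⁅a, b⁆ ∈ center G := fun a b => hZ (hcmem a b)
  have hordc : ∀ c ∈ commutator G, c ^ p = 1 := fun c hc => by
    have := congrArg Subtype.val (pow_card_eq_one' (x := (⟨c, hc⟩ : commutator G)))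
    rw [hcard'] at this
    exact this
  obtain ⟨y, hy⟩ : ∃ y, ⁅y, u⁆ ≠ 1 := by
    by_contra hall
    push Not at hall
    exact hu (mem_center_iff.2 fun h => commutatorElement_eq_one_iff_mul_comm.1 (hall h))
  set c := ⁅y, u⁆ with hc
  have hoc : orderOf c = p := orderOf_eq_prime (hordc c (hcmem y u)) hy
  have hpow : ∀ d ∈ commutator G, ∀ b : G, b ∈ commutator G → b ≠ 1 → ∃ j : ℕ, b ^ j = d := by
    intro d hd b hb hb1
    obtain ⟨j, hj⟩ := Submonoid.mem_powers_iff _ _ |>.1
      (mem_powers_of_prime_card hcard' (g' := (⟨d, hd⟩ : commutator G))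
        (show (⟨b, hb⟩ : commutator G) ≠ 1 from fun e => hb1 (congrArg Subtype.val e)))
    exact ⟨j, congrArg Subtype.val hj⟩
  have hidx : ∀ g : G, ∃ i : ℕ, i < p ∧ ⁅g, u⁆ = c ^ i := by
    intro g
    obtain ⟨j, hj⟩ := hpow _ (hcmem g u) c (hcmem y u) hy
    exact ⟨j % p, Nat.mod_lt _ hp.out.pos, by rw [← hj, ← hoc, pow_mod_orderOf]⟩
  choose idx hlt hidx' using hidx
  have hidx_eq : ∀ g j, ⁅g, u⁆ = c ^ j → j % p = idx g := by
    intro g j hj
    rw [hidx' g, pow_eq_pow_iff_modEq, hoc] at hj
    have := hj.symm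
    rwa [Nat.ModEq, Nat.mod_eq_of_lt (hlt g)] at this
  set e := ⁅u, y⁆ with he
  have hec : e = c⁻¹ := by rw [he, hc, commutatorElement_inv]
  have hecen : e ∈ center G := hccen u y
  let T : ℕ → G := fun n => u ^ n * e ^ n.choose 2
  have hT : ∀ n, T (n + p) = T n := by
    intro n
    have hch : (n + p).choose 2 = n.choose 2 + p * n + p.choose 2 := by
      rw [choose_two_add, mul_comm p n]
    show u ^ (n + p) * e ^ (n + p).choose 2 = _
    rw [hch, pow_add, pow_add, pow_add, pow_mul, hordc e (hcmem u y), one_pow, mul_one]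
    calc u ^ n * u ^ p * (e ^ n.choose 2 * e ^ p.choose 2)
        = u ^ n * (u ^ p * e ^ n.choose 2) * e ^ p.choose 2 := by group
      _ = u ^ n * (e ^ n.choose 2 * u ^ p) * e ^ p.choose 2 := by
        rw [mem_center_iff.1 (pow_mem hecen _) (u ^ p)]
      _ = u ^ n * e ^ n.choose 2 * (u ^ p * e ^ p.choose 2) := by group
      _ = _ := by rw [hrel y hy, mul_one]
  have hTmod : ∀ n, T (n % p) = T n := by
    intro n
    conv_rhs => rw [← Nat.mod_add_div n p]
    induction n / p with
    | zero => simp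
    | succ k ih => rw [Nat.mul_succ, ← add_assoc, hT, ih]
  have hmul : ∀ g h : G, idx (g * h) = (idx g + idx h) % p := by
    intro g h
    refine (hidx_eq _ _ ?_).symm
    rw [CfsgLib.PGroup.comm_mul_left (hccen h u), hidx', hidx', pow_add]
  let α₀ : G →* G := MonoidHom.mk' (fun g => g * T (idx g)) fun g h => by
    rw [hmul, hTmod]
    set i := idx g
    set j := idx h
    have huh : u ^ i * h = h * u ^ i * e ^ (i * j) := by
      have h1 : ⁅u ^ i, h⁆ = e ^ (i * j) := by
        rw [CfsgLib.PGroup.comm_pow_left (hccen u h), ← commutatorElement_inv h u, hidx' h, hec,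
          ← inv_pow, ← pow_mul, mul_comm]
      calc u ^ i * h = ⁅u ^ i, h⁆ * (h * u ^ i) := by rw [commutatorElement_def]; group
        _ = _ := by rw [h1, ← mem_center_iff.1 (pow_mem hecen _) (h * u ^ i)]
    have hch := choose_two_add i j
    show g * h * (u ^ (i + j) * e ^ (i + j).choose 2) = _
    rw [hch, pow_add, pow_add, pow_add]
    symm
    calc g * (u ^ i * e ^ i.choose 2) * (h * (u ^ j * e ^ j.choose 2))
        = g * (u ^ i * (e ^ i.choose 2 * h)) * u ^ j * e ^ j.choose 2 := by group
      _ = g * ((u ^ i * h) * e ^ i.choose 2) * u ^ j * e ^ j.choose 2 := by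
        rw [← mem_center_iff.1 (pow_mem hecen _) h]; group
      _ = g * h * u ^ i * ((e ^ (i * j) * e ^ i.choose 2) * u ^ j) * e ^ j.choose 2 := by
        rw [huh]; group
      _ = _ := by
        rw [← mem_center_iff.1 (mul_mem (pow_mem hecen _) (pow_mem hecen _)) (u ^ j),
          ← mem_center_iff.1 (pow_mem hecen (i.choose 2)) (e ^ (i * j))]
        group
  have hα1 : ∀ g, ⁅g, u⁆ = 1 → α₀ g = g := by
    intro g hg
    have h0 := hidx_eq g 0 (by rw [pow_zero]; exact hg)
    show g * T (idx g) = g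
    rw [← h0, Nat.zero_mod]
    simp [T]
  have hinj : Function.Injective α₀ := by
    refine (MonoidHom.ker_eq_bot_iff _).1 (eq_bot_iff.2 fun g hg => ?_)
    have hg' : g * T (idx g) = 1 := hg
    have hcu : ⁅g, u⁆ = 1 := by
      rw [eq_inv_of_mul_eq_one_left hg']
      refine commutatorElement_eq_one_iff_mul_comm.2 ((Commute.inv_left ?_).eq)
      exact ((Commute.refl u).pow_left _).mul_left (mem_center_iff.1 (pow_mem hecen _) u).symm
    exact mem_bot.2 ((hα1 g hcu).symm.trans hg)
  set α : MulAut G := MulEquiv.ofBijective α₀ (Finite.injective_iff_bijective.1 hinj) with hα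
  have hαy : α₀ y = y * u := by
    have h1 : idx y = 1 := by
      rw [← hidx_eq y 1 (pow_one c).symm, Nat.mod_eq_of_lt hp.out.one_lt]
    show y * T (idx y) = y * u
    rw [h1]
    simp [T]
  have hαu : α₀ u = u := hα1 u (commutatorElement_eq_one_iff_mul_comm.2 rfl)
  have hαz : ∀ z ∈ center G, α₀ z = z := fun z hz =>
    hα1 z (commutatorElement_eq_one_iff_mul_comm.2 (mem_center_iff.1 hz u).symm)
  have hαk : ∀ (k : ℕ), ∀ z ∈ center G, (α ^ k) (y * z) = y * u ^ k * z := by
    intro k z hz
    induction k with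
    | zero => simp
    | succ k ih =>
      rw [pow_succ', MulAut.mul_apply, ih]
      show α₀ (y * u ^ k * z) = _
      rw [map_mul, map_mul, map_pow, hαy, hαu, hαz z hz, pow_succ']
      group
  have huk : ∀ k : ℕ, u ^ k ∈ center G → p ∣ k := by
    intro k hk
    have h1 : ⁅y, u ^ k⁆ = 1 :=
      commutatorElement_eq_one_iff_mul_comm.2 (mem_center_iff.1 hk y)
    rw [CfsgLib.PGroup.comm_pow_right (hccen y u), ← orderOf_dvd_iff_pow_eq_one, hoc] at h1
    exact h1
  have hyu : ∀ k : ℕ, y * u ^ k ∉ center G := by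
    intro k hk
    have h1 : ⁅y * u ^ k, u⁆ = 1 :=
      commutatorElement_eq_one_iff_mul_comm.2 (mem_center_iff.1 hk u).symm
    rw [CfsgLib.PGroup.comm_mul_left (hccen _ u),
      show ⁅u ^ k, u⁆ = 1 from commutatorElement_eq_one_iff_mul_comm.2 (((Commute.refl u).pow_left k).eq),
      mul_one] at h1
    exact hy h1
  -- representatives
  let R : G → Prop := fun g => g ∈ center G ∨ ∀ k : Fin p, (k : ℕ) ≠ 0 → (y * u ^ (k : ℕ))⁻¹ * g ∉ center G
  have hrep : ∀ o : MulAction.orbitRel.Quotient (MulAut G) G, ∃ g, R g ∧ Quotient.mk'' g = o := by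
    intro o
    induction o using Quotient.inductionOn' with
    | h g =>
      by_cases hR : R g
      · exact ⟨g, hR, rfl⟩
      obtain ⟨-, hg⟩ := not_or.1 hR
      push Not at hg
      obtain ⟨k, hk0, hk⟩ := hg
      refine ⟨y * ((y * u ^ (k : ℕ))⁻¹ * g), Or.inr fun l hl hl' => ?_, orbit_mk_eq (α ^ (k : ℕ)) ?_⟩
      · have h2 : (u ^ (l : ℕ))⁻¹ ∈ center G := by
          have := mul_mem hl' (inv_mem hk)
          convert this using 1
          group
        exact hl (Nat.eq_zero_of_dvd_of_lt (huk _ (inv_mem_iff.1 h2)) l.2)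
      · rw [hαk _ _ hk, mul_inv_cancel_left]
  choose r hrR hro using hrep
  haveI : IsCyclic (commutator G) := isCyclic_of_prime_card hcard'
  have hconj : ∀ g : G, g ∉ center G → ∀ k : ℕ, ∃ θ : MulAut G, θ g = g * c ^ k := by
    intro g hg k
    obtain ⟨h, hh⟩ : ∃ h : G, ⁅h, g⁆ ≠ 1 := by
      by_contra hall
      push Not at hall
      exact hg (mem_center_iff.2 fun h => commutatorElement_eq_one_iff_mul_comm.1 (hall h))
    obtain ⟨j, hj⟩ := hpow _ (pow_mem (hcmem y u) k) _ (hcmem h g) hh
    refine ⟨MulAut.conj (h ^ j), ?_⟩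
    rw [MulAut.conj_apply, mem_center_iff.1 (hZ (pow_mem (hcmem y u) k)) g, ← hj,
      ← CfsgLib.PGroup.comm_pow_left (hccen h g), commutatorElement_def]
    group
  let F : MulAction.orbitRel.Quotient (MulAut G) G × Fin p → G := fun x =>
    if r x.1 ∈ center G then (if (x.2 : ℕ) = 0 then r x.1 else y * u ^ (x.2 : ℕ) * r x.1)
    else r x.1 * c ^ (x.2 : ℕ)
  have hcent_c : ∀ k : ℕ, c ^ k ∈ center G := fun k => hZ (pow_mem (hcmem y u) k)
  have hnR : ∀ g : G, g ∉ center G → R g → ∀ k : ℕ, R (g * c ^ k) := by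
    intro g hg hR k
    refine Or.inr fun l hl hm => ?_
    rcases hR with h | h
    · exact hg h
    · refine h l hl ?_
      have := mul_mem hm (inv_mem (hcent_c k))
      convert this using 1
      group
  have hkey : ∀ (z : G) (i : ℕ) (g : G), z ∈ center G → i < p → g ∉ center G → R g →
      (if i = 0 then z else y * u ^ i * z) ≠ g := by
    intro z i g hz hi hg hR heq
    split_ifs at heq with h0
    · exact hg (heq ▸ hz)
    · rcases hR with h | h
      · exact hg h
      · exact h ⟨i, hi⟩ h0 (by rw [← heq, inv_mul_cancel_left]; exact hz)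
  have hF : Function.Injective F := by
    rintro ⟨o, i⟩ ⟨o', i'⟩ h
    simp only [F] at h
    by_cases hc1 : r o ∈ center G <;> by_cases hc2 : r o' ∈ center G
    · rw [if_pos hc1, if_pos hc2] at h
      by_cases hi : (i : ℕ) = 0 <;> by_cases hi' : (i' : ℕ) = 0
      · rw [if_pos hi, if_pos hi'] at h
        refine Prod.ext ?_ (Fin.ext (hi.trans hi'.symm))
        show o = o'
        rw [← hro o, ← hro o', h]
      · rw [if_pos hi, if_neg hi'] at h
        have := h ▸ hc1
        exact absurd (by simpa using mul_mem this (inv_mem hc2)) (hyu i')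
      · rw [if_neg hi, if_pos hi'] at h
        have := h.symm ▸ hc2
        exact absurd (by simpa using mul_mem this (inv_mem hc1)) (hyu i)
      · rw [if_neg hi, if_neg hi'] at h
        have hii : i = i' := by
          have hmem : (u ^ (i : ℕ))⁻¹ * u ^ (i' : ℕ) ∈ center G := by
            have := mul_mem hc1 (inv_mem hc2)
            convert this using 1
            calc (u ^ (i : ℕ))⁻¹ * u ^ (i' : ℕ)
                = (y * u ^ (i : ℕ))⁻¹ * (y * u ^ (i' : ℕ) * r o') * (r o')⁻¹ := by group
              _ = _ := by rw [← h]; group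
          have key : ∀ a b : Fin p, (a : ℕ) ≤ b → (u ^ (a : ℕ))⁻¹ * u ^ (b : ℕ) ∈ center G → a = b := by
            intro a b hab hm
            have : u ^ ((b : ℕ) - a) ∈ center G := by
              convert hm using 1
              rw [eq_inv_mul_iff_mul_eq, ← pow_add, Nat.add_sub_cancel' hab]
            have := Nat.eq_zero_of_dvd_of_lt (huk _ this) (lt_of_le_of_lt (Nat.sub_le _ _) b.2)
            exact Fin.ext (by omega)
          rcases le_total (i : ℕ) i' with hle | hle
          · exact key i i' hle hmem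
          · refine (key i' i hle ?_).symm
            have := inv_mem hmem
            simpa using this
        subst hii
        refine Prod.ext ?_ rfl
        show o = o'
        rw [← hro o, ← hro o', mul_left_cancel h]
    · rw [if_pos hc1, if_neg hc2] at h
      exact absurd h (hkey _ _ _ hc1 i.2 (fun hh => hc2 (by
        simpa using mul_mem hh (inv_mem (hcent_c i')))) (hnR _ hc2 (hrR o') _))
    · rw [if_neg hc1, if_pos hc2] at h
      exact absurd h.symm (hkey _ _ _ hc2 i'.2 (fun hh => hc1 (by
        simpa using mul_mem hh (inv_mem (hcent_c i)))) (hnR _ hc1 (hrR o) _))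
    · rw [if_neg hc1, if_neg hc2] at h
      obtain ⟨θ, hθ⟩ := hconj _ hc1 i
      obtain ⟨θ', hθ'⟩ := hconj _ hc2 i'
      have hoo : o = o' := by
        rw [← hro o, ← hro o', orbit_mk_eq θ (hθ.trans h), ← orbit_mk_eq θ' hθ']
      subst hoo
      refine Prod.ext rfl (Fin.ext ?_)
      have hm := pow_eq_pow_iff_modEq.1 (mul_left_cancel h)
      rw [hoc] at hm
      exact Nat.ModEq.eq_of_lt_of_lt hm i.2 i'.2
  have := Nat.card_le_card_of_injective F hF
  rwa [Nat.card_prod, Nat.card_fin, mul_comm] at this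

/-- Let G be a finite non-abelian group and p the least prime dividing its order. Then the automorphism group of G has at most #G/p orbits on G. -/
theorem result {G : Type*} [Group G] [Finite G] (hna : ¬ IsMulCommutative G) :
    Nat.card (MulAction.orbitRel.Quotient (MulAut G) G) ≤ Nat.card G / (Nat.card G).minFac := by
  classical
  have hna' : ¬ ∀ a b : G, a * b = b * a := fun h => hna ⟨⟨h⟩⟩
  have hG1 : Nat.card G ≠ 1 := fun e => by
    haveI := (Nat.card_eq_one_iff_unique.1 e).1
    exact hna' fun a b => Subsingleton.elim _ _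
  set p := (Nat.card G).minFac with hpdef
  haveI hp : Fact p.Prime := ⟨Nat.minFac_prime hG1⟩
  have hmin : ∀ d : ℕ, d ∣ Nat.card G → d ≠ 1 → p ≤ d := fun d hd h1 =>
    Nat.minFac_le_of_dvd (by
      have : d ≠ 0 := fun e => Nat.card_pos.ne' (zero_dvd_iff.1 (e ▸ hd))
      omega) hd
  rw [Nat.le_div_iff_mul_le hp.out.pos, mul_comm]
  have hcne : Nat.card (commutator G) ≠ 1 := fun e => hna' fun a b => by
    have hm : ⁅a, b⁆ ∈ commutator G := by
      rw [commutator_eq_closure]; exact Subgroup.subset_closure ⟨a, b, rfl⟩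
    rw [Subgroup.card_eq_one.1 e, Subgroup.mem_bot, commutatorElement_eq_one_iff_mul_comm] at hm
    exact hm
  rcases (hmin _ (commutator G).card_subgroup_dvd_card hcne).lt_or_eq with hlt | heq
  · refine le_trans (Nat.mul_le_mul_left _ ?_) (card_conjClasses_mul_le p hmin hlt)
    refine Nat.card_le_card_of_surjective (Quotient.lift
      (fun g : G => (Quotient.mk'' g : MulAction.orbitRel.Quotient (MulAut G) G)) fun a b hab => ?_) ?_
    · obtain ⟨c, hc⟩ := isConj_iff.1 hab
      exact orbit_mk_eq (MulAut.conj c) hc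
    · intro o
      induction o using Quotient.inductionOn' with
      | h g => exact ⟨ConjClasses.mk g, rfl⟩
  -- the derived subgroup has order `p`
  have hZ : commutator G ≤ Subgroup.center G := by
    intro c hc
    by_cases hc1 : c = 1
    · subst hc1; exact one_mem _
    rw [Subgroup.mem_center_iff]
    intro g
    set C := Subgroup.centralizer ({c} : Set G) with hC
    have hsize : C.index < p := by
      rw [Subgroup.index_eq_card, heq]
      refine (Nat.card_le_card_of_injective (Quotient.lift (fun g : G =>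
        (⟨⟨g * c * g⁻¹, (inferInstance : (commutator G).Normal).conj_mem c hc g⟩,
          fun e => hc1 (conj_eq_one_iff.1 (congrArg Subtype.val e))⟩ :
            {x : commutator G // x ≠ 1})) ?_) ?_).trans_lt
        (Finite.card_subtype_lt (x := (1 : commutator G)) (by simp))
      · intro a b hab
        have h2 := Subgroup.mem_centralizer_singleton_iff.1 (QuotientGroup.leftRel_apply.1 hab)
        refine Subtype.ext (Subtype.ext ?_)
        show a * c * a⁻¹ = b * c * b⁻¹
        calc a * c * a⁻¹ = a * (c * (a⁻¹ * b)) * b⁻¹ := by group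
          _ = _ := by rw [← h2]; group
      · intro a b
        refine QuotientGroup.induction_on a (fun a => QuotientGroup.induction_on b fun b hab => ?_)
        refine QuotientGroup.eq.2 (Subgroup.mem_centralizer_singleton_iff.2 ?_)
        have h2 : a * c * a⁻¹ = b * c * b⁻¹ :=
          congrArg (fun t => ((t : commutator G) : G)) (congrArg Subtype.val hab)
        calc a⁻¹ * b * c = a⁻¹ * (b * c * b⁻¹) * b := by group
          _ = _ := by rw [← h2]; group
    have h1 : C.index = 1 := by
      by_contra h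
      exact absurd (hmin _ C.index_dvd_card h) (not_le.2 hsize)
    exact Subgroup.mem_centralizer_singleton_iff.1 ((Subgroup.index_eq_one.1 h1).ge (Subgroup.mem_top g))
  set Z := Subgroup.center G with hZdef
  have hcmem : ∀ a b : G, ⁅a, b⁆ ∈ commutator G := fun a b => by
    rw [commutator_eq_closure]; exact Subgroup.subset_closure ⟨a, b, rfl⟩
  have hccen : ∀ a b : G, ⁅a, b⁆ ∈ Z := fun a b => hZ (hcmem a b)
  have hordc : ∀ c ∈ commutator G, c ^ p = 1 := fun c hc => by
    have := congrArg Subtype.val (pow_card_eq_one' (x := (⟨c, hc⟩ : commutator G)))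
    rw [← heq] at this
    exact this
  have hpowZ : ∀ g : G, g ^ p ∈ Z := fun g => Subgroup.mem_center_iff.2 fun h => by
    refine (commutatorElement_eq_one_iff_mul_comm.1 ?_).symm
    rw [CfsgLib.PGroup.comm_pow_left (hccen g h)]
    exact hordc _ (hcmem g h)
  have hn : p ^ 2 ≤ Z.index := by
    have h1 : Z.index ≠ 1 := fun e => hna' fun a b =>
      (Subgroup.mem_center_iff.1 ((Subgroup.index_eq_one.1 e).ge (Subgroup.mem_top b))) a
    have hnp : ¬ Z.index.Prime := fun hpr => by
      haveI : Fact Z.index.Prime := ⟨hpr⟩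
      haveI : IsCyclic (G ⧸ Z) := isCyclic_of_prime_card (p := Z.index) Z.index_eq_card.symm
      exact hna' ((QuotientGroup.mk' Z).isMulCommutative_of_isCyclic_of_ker_le_center
        (by rw [QuotientGroup.ker_mk'])).1.1
    have h0 : 0 < Z.index := Nat.pos_of_ne_zero Subgroup.index_ne_zero_of_finite
    refine le_trans (Nat.pow_le_pow_left ?_ 2) (Nat.minFac_sq_le_self h0 hnp)
    exact hmin _ ((Nat.minFac_dvd _).trans Z.index_dvd_card) (Nat.minFac_prime h1).ne_one
  let W : Subgroup G :=
    { carrier := {z | z ∈ Z ∧ z ^ p = 1}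
      one_mem' := ⟨one_mem _, one_pow _⟩
      mul_mem' := fun {a b} ha hb => ⟨mul_mem ha.1 hb.1, by
        rw [(show Commute a b from Subgroup.mem_center_iff.1 hb.1 a).mul_pow, ha.2, hb.2, one_mul]⟩
      inv_mem' := fun {a} ha => ⟨inv_mem ha.1, by rw [inv_pow, ha.2, inv_one]⟩ }
  by_cases hW : p ^ 2 ≤ Nat.card W
  · exact card_orbits_of_two_central p heq.symm hZ hn W (fun w hw => hw.1) (fun w hw => hw.2) hW
  -- now the elements of order `p` in the centre form `G'`
  have hWle : commutator G ≤ W := fun c hc => ⟨hZ hc, hordc c hc⟩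
  have hWeq : commutator G = W := by
    refine Subgroup.eq_of_le_of_card_ge hWle ?_
    have hWp : IsPGroup p W := IsPGroup.iff_orderOf.2 fun w => by
      rcases hp.out.eq_one_or_self_of_dvd _ (orderOf_dvd_of_pow_eq_one (Subtype.ext w.2.2 : w ^ p = 1))
        with h | h
      · exact ⟨0, by rw [h, pow_zero]⟩
      · exact ⟨1, by rw [h, pow_one]⟩
    obtain ⟨k, hk⟩ := hWp.exists_card_eq
    rw [hk] at hW ⊢
    have : k < 2 := (Nat.pow_lt_pow_iff_right hp.out.one_lt).1 (not_le.1 hW)
    calc p ^ k ≤ p ^ 1 := Nat.pow_le_pow_right hp.out.pos (by omega)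
      _ = _ := by rw [pow_one]; exact heq
  suffices hu : ∃ u : G, u ∉ Z ∧ ∀ y : G, ⁅y, u⁆ ≠ 1 → u ^ p * ⁅u, y⁆ ^ p.choose 2 = 1 by
    obtain ⟨u, hu, hrel⟩ := hu
    exact card_orbits_of_transvection p heq.symm hZ u hu (hpowZ u) hrel
  rcases hp.out.eq_two_or_odd' with h2 | hodd
  · -- `p = 2`
    haveI : Fact (Nat.Prime 2) := ⟨Nat.prime_two⟩
    obtain ⟨a, b, hab⟩ : ∃ a b : G, ⁅a, b⁆ ≠ 1 := by
      by_contra hall
      push Not at hall
      exact hna' fun a b => commutatorElement_eq_one_iff_mul_comm.1 (hall a b)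
    set c := ⁅a, b⁆ with hc
    have hceq : ∀ d ∈ commutator G, d ≠ 1 → d = c := by
      intro d hd hd1
      have hcard2 : Nat.card (commutator G) = 2 := heq.symm.trans h2
      obtain ⟨x, x', hx, huniv⟩ := Nat.card_eq_two_iff.1 hcard2
      have hmem : ∀ z : commutator G, z = x ∨ z = x' := fun z => by
        have : z ∈ ({x, x'} : Set (commutator G)) := huniv ▸ Set.mem_univ z
        simpa using this
      have key : ∀ u v : commutator G, u ≠ 1 → v ≠ 1 → u = v := fun u v hu hv => by
        rcases hmem u with rfl | rfl <;> rcases hmem v with rfl | rfl <;>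
          rcases hmem 1 with e | e <;> first | rfl | exact absurd e.symm hu | exact absurd e.symm hv
      exact congrArg Subtype.val (key ⟨d, hd⟩ ⟨c, hcmem a b⟩ (fun e => hd1 (congrArg Subtype.val e))
        (fun e => hab (congrArg Subtype.val e)))
    have hcc : c * c = 1 := by rw [← pow_two, ← h2]; exact hordc c (hcmem a b)
    suffices hu : ∃ u : G, u ∉ Z ∧ u ^ 2 = c by
      obtain ⟨u, hu, hu2⟩ := hu
      refine ⟨u, hu, fun y hy => ?_⟩
      have : ⁅u, y⁆ = c := hceq _ (hcmem u y) fun e => hy (by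
        rw [← commutatorElement_inv u y, e, inv_one])
      rw [this, h2, Nat.choose_self, pow_one, hu2, hcc]
    have hsq : ∀ x y : G, (x * y) ^ 2 = x ^ 2 * y ^ 2 * ⁅y, x⁆ := fun x y => by
      rw [CfsgLib.PGroup.mul_pow_of_comm_mem_center (hccen y x), Nat.choose_self, pow_one]
    have hnc : ∀ x y : G, ⁅x, y⁆ ≠ 1 → x ∉ Z := fun x y hxy hx => hxy
      (commutatorElement_eq_one_iff_mul_comm.2 (Subgroup.mem_center_iff.1 hx y).symm)
    -- it suffices to find non-commuting elements with squares in `{1, c}`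
    suffices h : ∃ x y : G, ⁅x, y⁆ ≠ 1 ∧ (x ^ 2 = 1 ∨ x ^ 2 = c) ∧ (y ^ 2 = 1 ∨ y ^ 2 = c) ∨
        (x ∉ Z ∧ x ^ 2 = c) by
      obtain ⟨x, y, ⟨hxy, hx, hy⟩ | ⟨hx, hx2⟩⟩ := h
      · rcases hx with hx | hx
        · rcases hy with hy | hy
          · have hyx : ⁅y, x⁆ ≠ 1 := fun e => hxy (by rw [← commutatorElement_inv y x, e, inv_one])
            refine ⟨x * y, hnc _ y ?_, ?_⟩
            · rw [CfsgLib.PGroup.comm_mul_left (hccen y y), commutatorElement_self, mul_one]
              exact hxy
            · rw [hsq, hx, hy, one_mul, one_mul]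
              exact hceq _ (hcmem y x) hyx
          · refine ⟨y, hnc y x fun e => hxy (by rw [← commutatorElement_inv y x, e, inv_one]), hy⟩
        · exact ⟨x, hnc x y hxy, hx⟩
      · exact ⟨x, hx, hx2⟩
    by_cases hz : ∃ z ∈ Z, z ^ 2 = c
    · obtain ⟨z, hzZ, hz2⟩ := hz
      letI : CommGroup Z := { (inferInstance : Group Z) with
        mul_comm := fun x y => Subtype.ext (Subgroup.mem_center_iff.1 y.2 x) }
      let Sq : Subgroup Z := (powMonoidHom 2 : Z →* Z).range
      have hidx2 : Sq.index = 2 := by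
        have h1 := Sq.card_mul_index
        have h2' := (powMonoidHom 2 : Z →* Z).ker.card_mul_index
        rw [Subgroup.index_ker] at h2'
        have h3 : Nat.card (powMonoidHom 2 : Z →* Z).ker = 2 := by
          refine Eq.trans ?_ ((hWeq ▸ heq.symm : Nat.card W = p).trans h2)
          refine Nat.card_congr
            { toFun := fun x => ⟨((x : Z) : G), x.1.2, ?_⟩
              invFun := fun x => ⟨⟨(x : G), x.2.1⟩, ?_⟩
              left_inv := fun x => rfl
              right_inv := fun x => rfl }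
          · have := congrArg Subtype.val (MonoidHom.mem_ker.1 x.2)
            rw [h2]
            exact this
          · rw [MonoidHom.mem_ker]
            refine Subtype.ext ?_
            have := x.2.2
            rw [h2] at this
            exact this
        rw [h3, mul_comm] at h2'
        exact Nat.eq_of_mul_eq_mul_left (Nat.card_pos (α := Sq)) (h1.trans h2'.symm)
      let s : G → Z := fun x => ⟨x ^ 2, h2 ▸ hpowZ x⟩
      have hcSq : (⟨c, hccen a b⟩ : Z) ∈ Sq := ⟨⟨z, hzZ⟩, Subtype.ext hz2⟩
      have hmul : s (a * b) = s a * s b * (⟨c, hccen a b⟩ : Z) := by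
        refine Subtype.ext ?_
        show (a * b) ^ 2 = a ^ 2 * b ^ 2 * c
        rw [hsq, hceq _ (hcmem b a) fun e => hab (by rw [hc, ← commutatorElement_inv b a, e, inv_one])]
      obtain ⟨x, y, hxy, hx⟩ : ∃ x y : G, ⁅x, y⁆ ≠ 1 ∧ s x ∈ Sq := by
        by_cases ha : s a ∈ Sq
        · exact ⟨a, b, hab, ha⟩
        by_cases hb : s b ∈ Sq
        · exact ⟨b, a, fun e => hab (by rw [hc, ← commutatorElement_inv b a, e, inv_one]), hb⟩
        refine ⟨a * b, b, ?_, ?_⟩
        · rw [CfsgLib.PGroup.comm_mul_left (hccen b b), commutatorElement_self, mul_one]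
          exact hab
        · rw [hmul, Sq.mul_mem_cancel_right hcSq, Subgroup.mul_mem_iff_of_index_two hidx2]
          exact iff_of_false ha hb
      obtain ⟨w, hw⟩ := hx
      have hw' : (w : G) ^ 2 = x ^ 2 := congrArg Subtype.val hw
      refine ⟨x * (w : G)⁻¹ * z, y, Or.inr ⟨fun h => hnc x y hxy ?_, ?_⟩⟩
      · have := mul_mem (mul_mem h (inv_mem hzZ)) w.2
        simpa [mul_assoc] using this
      · have hc1 : Commute (x * (w : G)⁻¹) z := Subgroup.mem_center_iff.1 hzZ _
        have hc2 : Commute x (w : G)⁻¹ := Subgroup.mem_center_iff.1 (inv_mem w.2) x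
        rw [hc1.mul_pow, hc2.mul_pow, inv_pow, hw', mul_inv_cancel, one_mul, hz2]
    · -- no square root of `c` in the centre
      have hW2 : ∀ w ∈ Z, w ^ 2 = 1 → w = 1 ∨ w = c := by
        intro w hw hw2
        by_cases hw1 : w = 1
        · exact Or.inl hw1
        · exact Or.inr (hceq w (hWeq ▸ (show w ∈ W from ⟨hw, by rw [h2]; exact hw2⟩)) hw1)
      have hodd' : ∀ g : G, ∃ r : ℕ, Odd r ∧ ((g ^ r) ^ 2 = 1 ∨ (g ^ r) ^ 2 = c) := by
        intro g
        obtain ⟨k, r, hr, hk⟩ := Nat.exists_eq_pow_mul_and_not_dvd (orderOf_pos (g ^ 2)).ne' 2 (by norm_num)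
        set v := (g ^ 2) ^ r with hv
        have hvZ : v ∈ Z := pow_mem (h2 ▸ hpowZ g) r
        have hv2 : v ^ (2 ^ k) = 1 := by rw [hv, ← pow_mul, mul_comm, ← hk, pow_orderOf_eq_one]
        refine ⟨r, Nat.not_even_iff_odd.1 fun h => hr (even_iff_two_dvd.1 h), ?_⟩
        rw [← pow_mul, mul_comm, pow_mul, ← hv]
        have key : ∀ k : ℕ, ∀ v ∈ Z, v ^ (2 ^ k) = 1 → v = 1 ∨ v = c := by
          intro k
          induction k with
          | zero => intro v _ hv; left; simpa using hv
          | succ k ih =>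
            intro v hvZ hv
            rw [pow_succ', pow_mul] at hv
            rcases ih (v ^ 2) (pow_mem hvZ 2) hv with h | h
            · exact hW2 v hvZ h
            · exact absurd ⟨v, hvZ, h⟩ hz
        exact key k v hvZ hv2
      obtain ⟨r, hr, hra⟩ := hodd' a
      obtain ⟨r', hr', hrb⟩ := hodd' b
      refine ⟨a ^ r, b ^ r', Or.inl ⟨?_, hra, hrb⟩⟩
      rw [CfsgLib.PGroup.comm_pow_left (hccen a (b ^ r')), CfsgLib.PGroup.comm_pow_right (hccen a b),
        ← pow_mul, ← hc]
      obtain ⟨m, hm⟩ := hr'.mul hr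
      rw [hm, pow_succ, pow_mul, pow_two, hcc, one_pow, one_mul]
      exact hab
  · -- `p` odd: a non-central element of order `p`
    have hchoose : p ∣ p.choose 2 := hp.out.dvd_choose_self two_ne_zero (by
      rcases hp.out.eq_two_or_odd' with h | h
      · rw [h] at hodd; exact absurd hodd (by decide)
      · have := hp.out.two_le
        obtain ⟨m, hm⟩ := hodd
        omega)
    have hkill : ∀ d ∈ commutator G, d ^ p.choose 2 = 1 := fun d hd => by
      obtain ⟨m, hm⟩ := hchoose
      rw [hm, pow_mul, hordc d hd, one_pow]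
    let π : G →* Z := MonoidHom.mk' (fun g => ⟨g ^ p, hpowZ g⟩) fun x y => Subtype.ext (by
      show (x * y) ^ p = x ^ p * y ^ p
      rw [CfsgLib.PGroup.mul_pow_of_comm_mem_center (hccen y x), hkill _ (hcmem y x), mul_one])
    have hker : ¬ π.ker ≤ Z := by
      intro hle
      have hle' : π.ker ≤ W := fun g hg => ⟨hle hg, congrArg Subtype.val hg⟩
      have h1 := Subgroup.card_le_of_le hle'
      rw [← hWeq] at h1
      have h2 : π.ker.index ≤ Nat.card Z := by
        rw [Subgroup.index_ker]; exact Subgroup.card_le_card_group _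
      have h3 := π.ker.card_mul_index
      have h4 := Z.card_mul_index
      have h5 : Nat.card Z * p ^ 2 ≤ p * Nat.card Z := by
        calc Nat.card Z * p ^ 2 ≤ Nat.card Z * Z.index := Nat.mul_le_mul_left _ hn
          _ = Nat.card π.ker * π.ker.index := by rw [h3, h4]
          _ ≤ _ := Nat.mul_le_mul (h1.trans heq.ge) h2
      have h6 : p ^ 2 ≤ p := Nat.le_of_mul_le_mul_left (h5.trans_eq (mul_comm _ _)) Nat.card_pos
      exact absurd h6 (not_le.2 (lt_self_pow₀ hp.out.one_lt one_lt_two))
    obtain ⟨u, hu, huZ⟩ := SetLike.not_le_iff_exists.1 hker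
    refine ⟨u, huZ, fun y _ => ?_⟩
    rw [show u ^ p = 1 from congrArg Subtype.val hu, one_mul, hkill _ (hcmem u y)]

end Cfsg.Agent.S4067
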