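import Cfsg.Statements.S4071
import Cfsg.Agent.Lib.Cores.Coprime
-- import your own Cfsg.Agent.* helpers here

set_option autoImplicit false
set_option linter.style.haveILetI false
set_option linter.unusedSectionVars false
open Cfsg

namespace Cfsg.Agent.S4071

open Subgroup
open scoped IsMulCommutative

section
variable {G : Type*} [Group G] [Finite G]

/-- In a group whose non-abelian subgroups are self-normalising, proper normal subgroups are abelian. -/
theorem comm_of_normal (hself : ∀ H : Subgroup G, ¬ IsMulCommutative H → normalizer (H : Set G) = H)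
    (N : Subgroup G) [N.Normal] (hN : N ≠ ⊤) : ∀ a ∈ N, ∀ b ∈ N, a * b = b * a := by
  intro a ha b hb
  by_contra hab
  refine hN ?_
  rw [← hself N (fun h => hab ?_), normalizer_eq_top_iff.2 inferInstance]
  haveI := h
  exact congrArg Subtype.val (mul_comm (⟨a, ha⟩ : N) ⟨b, hb⟩)

theorem exists_index_prime [Group.IsSolvable G] [Nontrivial G] :
    ∃ (M : Subgroup G) (p : ℕ), p.Prime ∧ M.Normal ∧ M.index = p := by
  have hlt : _root_.commutator G < ⊤ := Group.IsSolvable.commutator_lt_top_of_nontrivial G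
  obtain ⟨M, hM, hle⟩ := (eq_top_or_exists_le_coatom (_root_.commutator G)).resolve_left hlt.ne
  haveI hMn : M.Normal := ⟨fun m hm g => by
    have h := mul_mem (hle (Subgroup.commutator_mem_commutator (mem_top g) (mem_top m))) hm
    rwa [_root_.commutatorElement_def, inv_mul_cancel_right] at h⟩
  have hidx : M.index ≠ 1 := fun h => hM.1 (index_eq_one.1 h)
  obtain ⟨p, hp, hpd⟩ := Nat.exists_prime_and_dvd hidx
  haveI : Fact p.Prime := ⟨hp⟩
  obtain ⟨q, hq⟩ := exists_prime_orderOf_dvd_card' (G := G ⧸ M) p (by rwa [← index_eq_card])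
  refine ⟨M, p, hp, hMn, ?_⟩
  set Q := (zpowers q).comap (QuotientGroup.mk' M) with hQ
  have hQtop : Q = ⊤ := by
    refine hM.2 Q (lt_of_le_of_ne (fun m hm => ?_) fun e => ?_)
    · show QuotientGroup.mk' M m ∈ zpowers q
      rw [show QuotientGroup.mk' M m = 1 from (QuotientGroup.eq_one_iff m).2 hm]
      exact one_mem _
    · obtain ⟨g, rfl⟩ := QuotientGroup.mk'_surjective M q
      have : g ∈ M := e ▸ (show g ∈ Q from mem_zpowers _)
      rw [show QuotientGroup.mk' M g = 1 from (QuotientGroup.eq_one_iff g).2 this, orderOf_one] at hq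
      exact hp.ne_one hq.symm
  have htop : zpowers q = ⊤ := eq_top_iff.2 fun a _ => by
    obtain ⟨g, rfl⟩ := QuotientGroup.mk'_surjective M a
    exact (hQtop ▸ mem_top g : g ∈ Q)
  rw [index_eq_card, ← card_top, ← htop, Nat.card_zpowers, hq]

end

/-- Let G be a finite solvable non-nilpotent group. Every non-abelian subgroup of G is self-normalizing if and only if G is a semidirect product ⟨x⟩ ⋉ A in which ⟨x⟩ is a p-group for some prime p, A is a normal abelian subgroup of order prime to p, x^p is central in G, and x acts fixed-point-freely on A (no non-identity element of A commutes with x). -/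
theorem result {G : Type*} [Group G] [Finite G]
    [Group.IsSolvable G] (hnn : ¬ Group.IsNilpotent G) :
    (∀ H : Subgroup G, ¬ IsMulCommutative H → Subgroup.normalizer (H : Set G) = H) ↔
    ∃ (x : G) (A : Subgroup G) (p : ℕ), p.Prime ∧ A.Normal ∧ IsMulCommutative A ∧ (∃ k : ℕ, orderOf x = p ^ k) ∧
      ¬ p ∣ Nat.card A ∧ (Subgroup.zpowers x).IsComplement' A ∧ x ^ p ∈ Subgroup.center G ∧
      ∀ a : G, a ∈ A → a ≠ 1 → x * a * x⁻¹ ≠ a := by
  classical
  constructor
  · intro hself
    haveI : Nontrivial G := by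
      by_contra h
      rw [not_nontrivial_iff_subsingleton] at h
      exact hnn inferInstance
    obtain ⟨M, p, hp, hMn, hMi⟩ := exists_index_prime (G := G)
    haveI := hMn
    haveI : Fact p.Prime := ⟨hp⟩
    have hMne : M ≠ ⊤ := fun h => hp.ne_one (by rw [← hMi, h, index_top])
    have hMc := comm_of_normal hself M hMne
    have hpow : ∀ g : G, g ^ p ∈ M := fun g => hMi ▸ pow_index_mem M g
    let A : Subgroup G :=
      { carrier := {a | a ∈ M ∧ (orderOf a).Coprime p}
        one_mem' := ⟨one_mem _, by rw [orderOf_one]; exact Nat.coprime_one_left p⟩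
        mul_mem' := fun {a b} ha hb => ⟨mul_mem ha.1 hb.1,
          (Nat.Coprime.mul_left ha.2 hb.2).coprime_dvd_left
            ((show Commute a b from hMc a ha.1 b hb.1).orderOf_mul_dvd_mul_orderOf)⟩
        inv_mem' := fun {a} ha => ⟨inv_mem ha.1, by rw [orderOf_inv]; exact ha.2⟩ }
    haveI hAn : A.Normal := ⟨fun a ha g => ⟨hMn.conj_mem a ha.1 g, by
      rw [show g * a * g⁻¹ = MulAut.conj g a from rfl, MulEquiv.orderOf_eq]; exact ha.2⟩⟩
    have hAp : ¬ p ∣ Nat.card A := fun hd => by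
      obtain ⟨a, ha⟩ := exists_prime_orderOf_dvd_card' (G := A) p hd
      have h2 := a.2.2
      rw [Subgroup.orderOf_coe, ha, Nat.coprime_self] at h2
      exact hp.ne_one h2
    have hquot : IsPGroup p (G ⧸ A) := fun gb => by
      obtain ⟨g, rfl⟩ := QuotientGroup.mk'_surjective A gb
      refine ⟨(orderOf g).factorization p + 1, ?_⟩
      rw [← map_pow]
      refine (QuotientGroup.eq_one_iff _).2 ⟨?_, ?_⟩
      · rw [pow_succ, pow_mul]; exact hpow _
      · rw [orderOf_pow' g (pow_ne_zero _ hp.ne_zero), Nat.coprime_comm, hp.coprime_iff_not_dvd]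
        intro hd
        have h1 := hd
        set o := orderOf g
        have ho : o ≠ 0 := (orderOf_pos g).ne'
        have hgcd : p ^ o.factorization p ∣ Nat.gcd o (p ^ (o.factorization p + 1)) :=
          Nat.dvd_gcd (Nat.ordProj_dvd o p) (pow_dvd_pow p (Nat.le_succ _))
        have h2 : p ^ (o.factorization p + 1) ∣ o := by
          rw [pow_succ]
          exact (mul_dvd_mul hgcd h1).trans
            (Nat.mul_div_cancel' (Nat.gcd_dvd_left o _)).dvd
        exact Nat.pow_succ_factorization_not_dvd ho hp h2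
    -- a `p`-element outside `M`
    obtain ⟨g, hg⟩ : ∃ g : G, g ∉ M := by
      by_contra h
      push Not at h
      exact hMne (eq_top_iff.2 fun g _ => h g)
    obtain ⟨x, b, hxb, hx, hb, ⟨k, hk⟩, hbp⟩ := CfsgLib.Cores.exists_pow_mul_pow p g
    have hxM : x ∉ M := fun hxm => by
      refine hg (hxb ▸ mul_mem hxm ?_)
      obtain ⟨j, hj⟩ := exists_pow_eq_self_of_coprime (x := b) (n := p) hbp.symm
      exact hj ▸ pow_mem (hpow b) j
    -- `x` acts on `A`
    let ψ : A →* G := MonoidHom.mk' (fun a => x * a * x⁻¹ * (a : G)⁻¹) (fun a c => by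
      have h1 := hMc _ (inv_mem a.2.1) _ (mul_mem (hMn.conj_mem _ c.2.1 x) (inv_mem c.2.1))
      calc x * ((a * c : A) : G) * x⁻¹ * ((a * c : A) : G)⁻¹
          = x * (a : G) * x⁻¹ * ((x * (c : G) * x⁻¹ * (c : G)⁻¹) * (a : G)⁻¹) := by push_cast; group
        _ = _ := by rw [← h1]; group)
    have hψA : ∀ a : A, ψ a ∈ A := fun a => mul_mem (hAn.conj_mem _ a.2 x) (inv_mem a.2)
    have hψfix : ∀ (a : A), Commute x (a : G) → ψ a = 1 := fun a h => by
      show x * (a : G) * x⁻¹ * (a : G)⁻¹ = 1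
      rw [h.eq, mul_inv_cancel_right, mul_inv_cancel]
    have hker : ∀ a : A, ψ a = 1 → Commute x (a : G) := fun a h =>
      mul_inv_eq_iff_eq_mul.1 (mul_inv_eq_one.1 (show x * (a : G) * x⁻¹ * (a : G)⁻¹ = 1 from h))
    -- `G = ⟨x⟩ A`
    have hne : ∃ a : A, ψ a ≠ 1 := by
      by_contra hall
      push Not at hall
      -- `x` centralises `A`, so does `G`
      have hC : ⊤ ≤ centralizer (A : Set G) := by
        have hMle : M ≤ centralizer (A : Set G) := fun m hm => mem_centralizer_iff.2 fun a ha => hMc a ha.1 m hm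
        have hxC : x ∈ centralizer (A : Set G) := mem_centralizer_iff.2 fun a ha => (hker ⟨a, ha⟩ (hall _)).symm
        rw [← index_eq_one.1 (?_ : (centralizer (A : Set G)).index = 1)]
        rcases (Nat.dvd_prime hp).1 (hMi ▸ index_dvd_of_le hMle) with h | h
        · exact h
        · exfalso
          refine hxM ?_
          have he : M = centralizer (A : Set G) := le_antisymm hMle (relIndex_eq_one.1 (by
            have := relIndex_mul_index hMle
            rw [hMi, h] at this
            exact (mul_eq_right₀ hp.ne_zero).1 this))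
          exact he ▸ hxC
      haveI : Group.IsNilpotent (G ⧸ A) := hquot.isNilpotent
      refine hnn (Subgroup.isNilpotent_of_ker_le_center (QuotientGroup.mk' A) ?_)
      rw [QuotientGroup.ker_mk']
      exact fun a ha => mem_center_iff.2 fun c => (mem_centralizer_iff.1 (hC (mem_top c)) a ha).symm
    have hgen : zpowers x ⊔ A = ⊤ := by
      by_contra hne'
      set U := zpowers x ⊔ A
      set Ub := U.map (QuotientGroup.mk' A)
      have hUb : Ub ≠ ⊤ := fun h => hne' (eq_top_iff.2 fun c _ => by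
        obtain ⟨u, hu, he⟩ := (h ▸ mem_top (QuotientGroup.mk' A c) : QuotientGroup.mk' A c ∈ Ub)
        have h1 : u⁻¹ * c ∈ A := QuotientGroup.eq.1 he
        simpa using mul_mem hu (le_sup_right (α := Subgroup G) (a := zpowers x) h1))
      obtain ⟨N, hN, hle⟩ := (eq_top_or_exists_le_coatom Ub).resolve_left hUb
      haveI : Group.IsNilpotent (G ⧸ A) := hquot.isNilpotent
      haveI : N.Normal := NormalizerCondition.normal_of_coatom N Group.normalizerCondition_of_isNilpotent hN
      have hN' : N.comap (QuotientGroup.mk' A) ≠ ⊤ := fun h => hN.1 (eq_top_iff.2 fun c _ => by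
        obtain ⟨c, rfl⟩ := QuotientGroup.mk'_surjective A c
        exact (h ▸ mem_top c : c ∈ N.comap (QuotientGroup.mk' A)))
      have hc := comm_of_normal hself (N.comap (QuotientGroup.mk' A)) hN'
      obtain ⟨a, ha⟩ := hne
      exact ha (hψfix a (hc x (hle ⟨x, mem_sup_left (mem_zpowers x), rfl⟩) a
        (hle ⟨a, mem_sup_right a.2, rfl⟩)))
    -- no fixed points
    have hfix : ∀ a : A, ψ a = 1 → (a : G) = 1 := by
      have hdisj : ∀ a : A, ψ a = 1 → (a : G) ∈ ψ.range → (a : G) = 1 := by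
        rintro a ha ⟨c, hc⟩
        have hca : Commute x (a : G) := hker a ha
        have h1 : ∀ i : ℕ, x ^ i * (c : G) * (x ^ i)⁻¹ = (a : G) ^ i * c := by
          intro i
          induction i with
          | zero => simp
          | succ i ih =>
            have hc' : x * (c : G) * x⁻¹ = (a : G) * c := by
              rw [← hc]; show x * (c : G) * x⁻¹ = x * (c : G) * x⁻¹ * (c : G)⁻¹ * c; group
            calc x ^ (i + 1) * (c : G) * (x ^ (i + 1))⁻¹ = x * (x ^ i * (c : G) * (x ^ i)⁻¹) * x⁻¹ := by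
                  rw [pow_succ']; group
              _ = x * ((a : G) ^ i * c) * x⁻¹ := by rw [ih]
              _ = (x * (a : G) ^ i) * c * x⁻¹ := by group
              _ = ((a : G) ^ i * x) * c * x⁻¹ := by rw [(hca.pow_right i).eq]
              _ = (a : G) ^ i * (x * c * x⁻¹) := by group
              _ = _ := by rw [hc', pow_succ, mul_assoc]
        have h2 := h1 (orderOf x)
        rw [pow_orderOf_eq_one, one_mul, inv_one, mul_one] at h2
        have h3 : (a : G) ^ orderOf x = 1 := mul_right_cancel (h2.symm.trans (one_mul (c : G)).symm)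
        rw [← orderOf_eq_one_iff]
        refine Nat.eq_one_of_dvd_coprimes (?_ : (orderOf (a : G)).Coprime (orderOf x)) dvd_rfl
          (orderOf_dvd_of_pow_eq_one h3)
        rw [hk]; exact a.2.2.pow_right k
      set R := ψ.range with hR
      have hRA : R ≤ A := by rintro _ ⟨c, rfl⟩; exact hψA c
      set H := zpowers x ⊔ R with hH
      have hxH : x ∈ H := mem_sup_left (mem_zpowers x)
      have hRn : ∀ r ∈ R, x * r * x⁻¹ ∈ R := by
        rintro _ ⟨c, rfl⟩
        refine ⟨⟨x * c * x⁻¹, hAn.conj_mem _ c.2 x⟩, ?_⟩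
        show x * (x * (c : G) * x⁻¹) * x⁻¹ * (x * (c : G) * x⁻¹)⁻¹ = x * (x * (c : G) * x⁻¹ * (c : G)⁻¹) * x⁻¹
        group
      have hAH : A ≤ normalizer (H : Set G) := by
        intro a ha
        refine mem_normalizer_fintype (S := (H : Set G)) ?_
        intro h hh
        have hle : H ≤ H.comap (MulAut.conj a).toMonoidHom := by
          refine sup_le (zpowers_le.2 ?_) fun r hr => ?_
          · show a * x * a⁻¹ ∈ H
            have h1 : x * a * x⁻¹ * a⁻¹ ∈ R := ⟨⟨a, ha⟩, rfl⟩
            have e : a * x * a⁻¹ = (x * a * x⁻¹ * a⁻¹)⁻¹ * x := by group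
            rw [e]
            exact mul_mem (inv_mem (mem_sup_right h1)) hxH
          · show a * r * a⁻¹ ∈ H
            rw [hMc a ha.1 r (hRA hr).1, mul_inv_cancel_right]
            exact mem_sup_right hr
        exact hle hh
      haveI hHn : H.Normal := normalizer_eq_top_iff.1 (top_le_iff.1 (hgen ▸ sup_le
        (zpowers_le.2 (le_normalizer hxH)) hAH))
      intro a ha
      by_contra hane
      by_cases htop : H = ⊤
      · refine hane (hdisj a ha ?_)
        have hmem : (a : G) ∈ H := htop ▸ mem_top _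
        have hxn : zpowers x ≤ normalizer (R : Set G) :=
          zpowers_le.2 (mem_normalizer_fintype fun r hr => hRn r hr)
        rw [hH, ← SetLike.mem_coe, coe_mul_of_left_le_normalizer_right _ _ hxn] at hmem
        obtain ⟨u, hu, r, hr, hur⟩ := hmem
        have hu' : u ∈ A := by
          rw [show u = (a : G) * r⁻¹ by rw [← hur]; group]
          exact mul_mem a.2 (inv_mem (hRA hr))
        have hu1 : u = 1 := by
          obtain ⟨i, rfl⟩ := hu
          rw [← orderOf_eq_one_iff]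
          refine Nat.eq_one_of_dvd_coprimes (?_ : (orderOf (x ^ i)).Coprime (orderOf x)) dvd_rfl
            (orderOf_dvd_of_mem_zpowers ⟨i, rfl⟩)
          rw [hk]; exact hu'.2.pow_right k
        rw [← hur]
        show u * r ∈ R
        rw [hu1, one_mul]; exact hr
      · have hc := comm_of_normal hself H htop
        obtain ⟨c, hc'⟩ := hne
        have h1 : ψ ⟨ψ c, hψA c⟩ = 1 := hψfix _ (hc x hxH _ (mem_sup_right ⟨c, rfl⟩))
        exact hc' (hdisj ⟨ψ c, hψA c⟩ h1 ⟨c, rfl⟩)
    refine ⟨x, A, p, hp, hAn, ⟨⟨fun a c => Subtype.ext (hMc a a.2.1 c c.2.1)⟩⟩, ⟨k, hk⟩, hAp, ?_, ?_, ?_⟩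
    · refine isComplement'_of_disjoint_and_mul_eq_univ ?_ ?_
      · rw [disjoint_iff_inf_le]
        intro u hu
        rw [mem_bot, ← orderOf_eq_one_iff]
        exact Nat.eq_one_of_dvd_coprimes ((mem_inf.1 hu).2.2.pow_right k) dvd_rfl
          (hk ▸ orderOf_dvd_of_mem_zpowers (mem_inf.1 hu).1)
      · rw [← coe_mul_of_left_le_normalizer_right _ _ (le_normalizer_of_normal : zpowers x ≤ normalizer (A : Set G)), hgen,
          coe_top]
    · refine mem_center_iff.2 fun c => ?_
      have hle : (⊤ : Subgroup G) ≤ centralizer ({x ^ p} : Set G) := hgen ▸ sup_le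
        (zpowers_le.2 (mem_centralizer_singleton_iff.2 ((Commute.refl x).pow_right p).eq))
        fun a ha => mem_centralizer_singleton_iff.2 (hMc a ha.1 _ (hpow x))
      exact mem_centralizer_singleton_iff.1 (hle (mem_top c))
    · intro a ha ha1 he
      exact ha1 (hfix ⟨a, ha⟩ (hψfix ⟨a, ha⟩ (mul_inv_eq_iff_eq_mul.1 he)))
  · rintro ⟨x, A, p, hp, hAn, hAc, ⟨k, hk⟩, hAp, hcompl, hxp, hfpf⟩ H hH
    haveI := hAn
    haveI := hAc
    haveI : Fact p.Prime := ⟨hp⟩
    have hAcomm : ∀ a ∈ A, ∀ c ∈ A, a * c = c * a := fun a ha c hc =>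
      congrArg Subtype.val (mul_comm (⟨a, ha⟩ : A) ⟨c, hc⟩)
    have hdec : ∀ h : G, ∃ (i : ℤ) (a : G), a ∈ A ∧ h = x ^ i * a := fun h => by
      obtain ⟨⟨⟨u, i, rfl⟩, a⟩, he, -⟩ := hcompl.existsUnique h
      exact ⟨i, a, a.2, he.symm⟩
    have hzc : ∀ c : G, ∀ j : ℤ, Commute c ((x ^ p) ^ j) := fun c j =>
      (show Commute c (x ^ p) from mem_center_iff.1 hxp c).zpow_right j
    -- an element of `H` outside the abelian maximal subgroup
    obtain ⟨h₀, hh₀, i₀, a₀, ha₀, he₀, hi₀⟩ : ∃ h₀ ∈ H, ∃ (i₀ : ℤ) (a₀ : G),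
        a₀ ∈ A ∧ h₀ = x ^ i₀ * a₀ ∧ ¬ (p : ℤ) ∣ i₀ := by
      by_contra hcon
      push Not at hcon
      refine hH ⟨⟨fun ⟨u, hu⟩ ⟨v, hv⟩ => Subtype.ext ?_⟩⟩
      obtain ⟨i, a, ha, rfl⟩ := hdec u
      obtain ⟨j, c, hc, rfl⟩ := hdec v
      obtain ⟨i', rfl⟩ := hcon _ hu i a ha rfl
      obtain ⟨j', rfl⟩ := hcon _ hv j c hc rfl
      show x ^ ((p : ℤ) * i') * a * (x ^ ((p : ℤ) * j') * c) = x ^ ((p : ℤ) * j') * c * (x ^ ((p : ℤ) * i') * a)
      rw [zpow_mul, zpow_natCast, zpow_mul, zpow_natCast]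
      calc (x ^ p) ^ i' * a * ((x ^ p) ^ j' * c) = (x ^ p) ^ i' * (a * (x ^ p) ^ j') * c := by group
        _ = (x ^ p) ^ i' * ((x ^ p) ^ j' * a) * c := by rw [(hzc a j').eq]
        _ = (x ^ p) ^ i' * (x ^ p) ^ j' * (a * c) := by group
        _ = (x ^ p) ^ j' * (x ^ p) ^ i' * (c * a) := by rw [(hzc _ j').eq, hAcomm a ha c hc]
        _ = (x ^ p) ^ j' * ((x ^ p) ^ i' * c) * a := by group
        _ = _ := by rw [← (hzc c i').eq]; group
    -- conjugation by `h₀` is fixed-point-free on `A`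
    have hxfix : ∀ a ∈ A, x ^ i₀ * a * (x ^ i₀)⁻¹ = a → a = 1 := by
      intro a ha he
      by_contra ha1
      refine hfpf a ha ha1 ?_
      have hcm : Commute (x ^ i₀) a := mul_inv_eq_iff_eq_mul.1 he
      have hgcd : Int.gcd i₀ (orderOf x : ℤ) = 1 := by
        rw [hk, ← Int.isCoprime_iff_gcd_eq_one]
        push_cast
        refine IsCoprime.pow_right ?_
        rw [Int.isCoprime_iff_nat_coprime, Int.natAbs_natCast, Nat.coprime_comm, hp.coprime_iff_not_dvd]
        exact fun h => hi₀ (Int.natCast_dvd.2 h)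
      have hb := Int.gcd_eq_gcd_ab i₀ (orderOf x : ℤ)
      rw [hgcd] at hb
      have he2 : x = (x ^ i₀) ^ (Int.gcdA i₀ (orderOf x : ℤ)) := by
        conv_lhs => rw [← zpow_one x, show (1 : ℤ) = _ from hb, zpow_add, zpow_mul, zpow_mul, zpow_natCast,
          pow_orderOf_eq_one, one_zpow, mul_one]
      have h3 := hcm.zpow_left (Int.gcdA i₀ (orderOf x : ℤ))
      rw [← he2] at h3
      exact mul_inv_eq_iff_eq_mul.2 h3.eq
    have hconj : ∀ a ∈ A, h₀ * a * h₀⁻¹ = x ^ i₀ * a * (x ^ i₀)⁻¹ := fun a ha => by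
      rw [he₀]
      calc x ^ i₀ * a₀ * a * (x ^ i₀ * a₀)⁻¹ = x ^ i₀ * (a₀ * a) * a₀⁻¹ * (x ^ i₀)⁻¹ := by group
        _ = _ := by rw [hAcomm a₀ ha₀ a ha]; group
    refine le_antisymm (fun g hg => ?_) le_normalizer
    obtain ⟨i, a, ha, rfl⟩ := hdec g
    -- adjust by a power of `h₀` to land in `A ⟨xᵖ⟩`
    obtain ⟨s, hs⟩ : ∃ s : ℤ, (p : ℤ) ∣ i - i₀ * s := by
      have hb := Int.gcd_eq_gcd_ab i₀ (p : ℤ)
      have hg1 : Int.gcd i₀ (p : ℤ) = 1 := by
        rw [← Int.isCoprime_iff_gcd_eq_one, Int.isCoprime_iff_nat_coprime, Int.natAbs_natCast,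
          Nat.coprime_comm, hp.coprime_iff_not_dvd]
        exact fun h => hi₀ (Int.natCast_dvd.2 h)
      rw [hg1] at hb
      refine ⟨i * Int.gcdA i₀ p, i * Int.gcdB i₀ p, ?_⟩
      have : (1 : ℤ) * i = (i₀ * Int.gcdA i₀ p + (p : ℤ) * Int.gcdB i₀ p) * i := by rw [← hb]; norm_num
      linarith
    set M' := A ⊔ zpowers (x ^ p) with hM'
    have hq1 : ∀ u ∈ A, (QuotientGroup.mk' A) u = 1 := fun u hu => (QuotientGroup.eq_one_iff u).2 hu
    have hM'mem : h₀ ^ (-s) * (x ^ i * a) ∈ M' := by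
      obtain ⟨t, ht⟩ := hs
      have h1 : QuotientGroup.mk' A (h₀ ^ (-s) * (x ^ i * a)) = QuotientGroup.mk' A ((x ^ p) ^ t) := by
        rw [map_mul, map_mul, map_zpow, he₀, map_mul, hq1 a₀ ha₀, hq1 a ha, mul_one, mul_one, map_zpow,
          map_zpow, map_zpow, map_pow, ← zpow_mul, ← zpow_add, ← zpow_natCast, ← zpow_mul]
        congr 1
        linarith
      have h2 : ((x ^ p) ^ t)⁻¹ * (h₀ ^ (-s) * (x ^ i * a)) ∈ A := QuotientGroup.eq.1 h1.symm
      have h3 := mul_mem (mem_sup_right (zpow_mem (mem_zpowers (x ^ p)) t) : (x ^ p) ^ t ∈ M') (mem_sup_left h2)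
      rwa [mul_inv_cancel_left] at h3
    set n := h₀ ^ (-s) * (x ^ i * a) with hn
    have hnN : n ∈ normalizer (H : Set G) := mul_mem (zpow_mem (le_normalizer hh₀) _) hg
    -- `xᵖ ∈ H`
    have hxpH : x ^ p ∈ H := by
      obtain ⟨u, w, huw, hu, hw, ⟨l, hl⟩, hwp⟩ := CfsgLib.Cores.exists_pow_mul_pow p h₀
      have huH : u ∈ H := zpowers_le.2 hh₀ hu
      -- `u` is a `p`-element with the same image as `x ^ i₀`
      obtain ⟨j, c, hc, hjc⟩ := hdec u
      have hwA : w ∈ A := by
        obtain ⟨j', c', hc', hw'⟩ := hdec w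
        have hq : QuotientGroup.mk' A w = 1 := by
          rw [← orderOf_eq_one_iff]
          refine Nat.eq_one_of_dvd_coprimes (hwp.pow_right k) (orderOf_map_dvd _ w) ?_
          rw [hw', map_mul, hq1 c' hc', mul_one, ← hk]
          exact (orderOf_map_dvd _ _).trans (orderOf_dvd_of_mem_zpowers ⟨j', rfl⟩)
        exact (QuotientGroup.eq_one_iff w).1 hq
      have hup : u ^ p ∈ M' ∧ ¬ (p : ℤ) ∣ j := by
        refine ⟨?_, fun hd => hi₀ ?_⟩
        · have h1 : QuotientGroup.mk' A (u ^ p) = QuotientGroup.mk' A ((x ^ p) ^ j) := by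
            rw [map_pow, hjc, map_mul, hq1 c hc, mul_one, map_zpow, map_zpow, map_pow, ← zpow_natCast, ← zpow_mul,
              ← zpow_natCast, ← zpow_mul, mul_comm]
          have h2 : ((x ^ p) ^ j)⁻¹ * u ^ p ∈ A := QuotientGroup.eq.1 h1.symm
          have h3 := mul_mem (mem_sup_right (zpow_mem (mem_zpowers (x ^ p)) j) : (x ^ p) ^ j ∈ M') (mem_sup_left h2)
          rwa [mul_inv_cancel_left] at h3
        · have h1 : QuotientGroup.mk' A (x ^ i₀) = QuotientGroup.mk' A (x ^ j) := by
            have h2 : QuotientGroup.mk' A h₀ = QuotientGroup.mk' A (u * w) := congrArg _ huw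
            rwa [he₀, map_mul, map_mul, hq1 a₀ ha₀, hq1 w hwA, mul_one, mul_one, hjc, map_mul, hq1 c hc,
              mul_one] at h2
          have h3 : (x ^ j)⁻¹ * x ^ i₀ ∈ zpowers x ⊓ A :=
            mem_inf.2 ⟨mul_mem (inv_mem (zpow_mem (mem_zpowers x) j)) (zpow_mem (mem_zpowers x) i₀), QuotientGroup.eq.1 h1.symm⟩
          rw [disjoint_iff.1 hcompl.disjoint, mem_bot, inv_mul_eq_one, zpow_eq_zpow_iff_modEq, hk] at h3
          obtain ⟨e, he⟩ := h3.dvd
          rcases k with _ | k
          · exfalso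
            have hA1 : ∀ v : G, v ∈ A := fun v => by
              obtain ⟨jv, cv, hcv, rfl⟩ := hdec v
              rw [pow_zero, orderOf_eq_one_iff] at hk
              rw [hk, one_zpow, one_mul]; exact hcv
            exact hH ⟨⟨fun u v => Subtype.ext (hAcomm u (hA1 u) v (hA1 v))⟩⟩
          · refine (Int.dvd_iff_dvd_of_dvd_sub ?_).2 hd
            rw [he]
            exact dvd_mul_of_dvd_left (by push_cast; exact dvd_pow_self _ (Nat.succ_ne_zero k)) _
      -- powers of `u` give `xᵖ`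
      have hM'p : ∀ v ∈ M', (∃ l, orderOf v = p ^ l) → v ∈ zpowers (x ^ p) := by
        intro v hv ⟨l', hl'⟩
        rw [hM', ← SetLike.mem_coe, coe_mul_of_right_le_normalizer_left A _
          (le_normalizer_of_normal : zpowers (x ^ p) ≤ normalizer (A : Set G))] at hv
        obtain ⟨c', hc', z, ⟨e, rfl⟩, hv'⟩ := hv
        have hv'' : c' * (x ^ p) ^ e = v := hv'
        have h1 : c' ^ (p ^ l' * p ^ k) = 1 := by
          have h2 : (c' * (x ^ p) ^ e) ^ (p ^ l' * p ^ k) = 1 := by
            rw [hv'', pow_mul, ← hl', pow_orderOf_eq_one, one_pow]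
          rw [(hzc c' e).mul_pow, ← hk] at h2
          rw [← hk]
          rw [show ((x ^ p) ^ e) ^ (p ^ l' * orderOf x) = 1 by
            rw [mul_comm, pow_mul, show ((x ^ p) ^ e) ^ orderOf x = 1 from by
              rw [← zpow_natCast, ← zpow_mul, mul_comm, zpow_mul, zpow_natCast, ← pow_mul, mul_comm, pow_mul,
                pow_orderOf_eq_one, one_pow, one_zpow], one_pow], mul_one] at h2
          exact h2
        have h3 : orderOf c' = 1 := by
          refine Nat.eq_one_of_dvd_coprimes (?_ : (orderOf c').Coprime (p ^ l' * p ^ k)) dvd_rfl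
            (orderOf_dvd_of_pow_eq_one h1)
          have h4 : orderOf c' ∣ Nat.card A := A.orderOf_dvd_natCard hc'
          exact ((((hp.coprime_iff_not_dvd.2 hAp).pow_left l').mul_left
            ((hp.coprime_iff_not_dvd.2 hAp).pow_left k)).coprime_dvd_right h4).symm
        rw [orderOf_eq_one_iff] at h3
        exact ⟨e, by rw [← hv'', h3, one_mul]⟩
      obtain ⟨e, he⟩ := hM'p (u ^ p) hup.1 (by
        obtain ⟨l2, -, h'⟩ := (Nat.dvd_prime_pow hp).1 (hl ▸ orderOf_pow_dvd p : orderOf (u ^ p) ∣ p ^ l)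
        exact ⟨l2, h'⟩)
      have he' : (x ^ p) ^ e = u ^ p := he
      have hsame : zpowers (u ^ p) = zpowers (x ^ p) := by
        refine eq_of_le_of_card_ge (zpowers_le.2 ⟨e, he⟩) (le_of_eq ?_)
        rw [Nat.card_zpowers, Nat.card_zpowers]
        have h1 : orderOf (QuotientGroup.mk' A u) = orderOf x := by
          rw [hjc, map_mul, hq1 c hc, mul_one, map_zpow]
          have hx' : orderOf (QuotientGroup.mk' A x) = orderOf x := by
            refine Nat.dvd_antisymm (orderOf_map_dvd _ _) (orderOf_dvd_of_pow_eq_one ?_)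
            have h2 : x ^ orderOf (QuotientGroup.mk' A x) ∈ zpowers x ⊓ A :=
              ⟨pow_mem (mem_zpowers x) _, (QuotientGroup.eq_one_iff _).1 (show QuotientGroup.mk' A _ = 1 by
                rw [map_pow, pow_orderOf_eq_one])⟩
            rwa [disjoint_iff.1 hcompl.disjoint, mem_bot] at h2
          refine Eq.trans ?_ hx'
          refine Nat.dvd_antisymm (orderOf_dvd_of_mem_zpowers ⟨j, rfl⟩) (orderOf_dvd_of_mem_zpowers ?_)
          set y := QuotientGroup.mk' A x
          have hb := Int.gcd_eq_gcd_ab j (orderOf y : ℤ)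
          have hg1 : Int.gcd j (orderOf y : ℤ) = 1 := by
            rw [hx', hk, ← Int.isCoprime_iff_gcd_eq_one]
            push_cast
            refine IsCoprime.pow_right ?_
            rw [Int.isCoprime_iff_nat_coprime, Int.natAbs_natCast, Nat.coprime_comm, hp.coprime_iff_not_dvd]
            exact fun h => hup.2 (Int.natCast_dvd.2 h)
          rw [hg1] at hb
          refine ⟨Int.gcdA j (orderOf y : ℤ), ?_⟩
          show (y ^ j) ^ Int.gcdA j (orderOf y : ℤ) = y
          conv_rhs => rw [← zpow_one y, show (1 : ℤ) = _ from hb, zpow_add, zpow_mul, zpow_mul, zpow_natCast,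
            pow_orderOf_eq_one, one_zpow, mul_one]
        have h2 : orderOf x ∣ orderOf u := h1 ▸ orderOf_map_dvd _ u
        refine Nat.dvd_antisymm ?_ (orderOf_dvd_of_mem_zpowers ⟨e, he⟩)
        rw [orderOf_pow' x hp.ne_zero, orderOf_pow' u hp.ne_zero, hk, hl]
        rw [hk, hl] at h2
        rcases k with _ | k
        · simp
        · have hkl := (Nat.pow_dvd_pow_iff_le_right hp.one_lt).1 h2
          rw [Nat.gcd_eq_right (dvd_pow_self p (Nat.succ_ne_zero k)),
            Nat.gcd_eq_right (dvd_pow_self p (show l ≠ 0 by omega)), pow_succ, Nat.mul_div_cancel _ hp.pos]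
          refine Nat.dvd_div_of_mul_dvd ?_
          rw [mul_comm, ← pow_succ]
          exact pow_dvd_pow p hkl
      exact zpowers_le.2 (pow_mem huH p) (hsame ▸ mem_zpowers (x ^ p))
    -- split off the central part
    rw [hM', ← SetLike.mem_coe, coe_mul_of_right_le_normalizer_left A _
      (le_normalizer_of_normal : zpowers (x ^ p) ≤ normalizer (A : Set G))] at hM'mem
    obtain ⟨c, hc, z, hz, hcz⟩ := hM'mem
    have hzH : z ∈ H := zpowers_le.2 hxpH hz
    have hcN : c ∈ normalizer (H : Set G) := by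
      rw [show c = n * z⁻¹ by rw [← hcz]; group]
      exact mul_mem hnN (inv_mem (le_normalizer hzH))
    -- the commutator map on `A ∩ H`
    let φ : ↥(A ⊓ H) → ↥(A ⊓ H) := fun v => ⟨h₀ * v * h₀⁻¹ * (v : G)⁻¹, mem_inf.2
      ⟨mul_mem (hAn.conj_mem _ (mem_inf.1 v.2).1 h₀) (inv_mem (mem_inf.1 v.2).1),
      mul_mem (mul_mem (mul_mem hh₀ (mem_inf.1 v.2).2) (inv_mem hh₀)) (inv_mem (mem_inf.1 v.2).2)⟩⟩
    have hlin : ∀ u v : G, u ∈ A → v ∈ A → h₀ * u * h₀⁻¹ * u⁻¹ = h₀ * v * h₀⁻¹ * v⁻¹ → u = v := by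
      intro u v hu hv he
      have hw : h₀ * (v⁻¹ * u) * h₀⁻¹ = v⁻¹ * u := by
        have e1 : h₀ * u * h₀⁻¹ = h₀ * v * h₀⁻¹ * (v⁻¹ * u) := by rw [← mul_assoc, ← he]; group
        calc h₀ * (v⁻¹ * u) * h₀⁻¹ = (h₀ * v * h₀⁻¹)⁻¹ * (h₀ * u * h₀⁻¹) := by group
          _ = _ := by rw [e1]; group
      rw [hconj _ (mul_mem (inv_mem hv) hu)] at hw
      exact (inv_mul_eq_one.1 (hxfix _ (mul_mem (inv_mem hv) hu) hw)).symm
    have hsurj : Function.Surjective φ := Finite.injective_iff_surjective.1 fun u v huv =>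
      Subtype.ext (hlin u v (mem_inf.1 u.2).1 (mem_inf.1 v.2).1 (congrArg Subtype.val huv))
    obtain ⟨v, hv⟩ := hsurj ⟨h₀ * c * h₀⁻¹ * c⁻¹, mem_inf.2 ⟨mul_mem (hAn.conj_mem _ hc h₀) (inv_mem hc), by
      rw [mul_assoc, mul_assoc, ← mul_assoc c]
      exact mul_mem hh₀ ((mem_normalizer_iff.1 hcN _).1 (inv_mem hh₀))⟩⟩
    have hcH : c ∈ H := hlin (v : G) c (mem_inf.1 v.2).1 hc (congrArg Subtype.val hv) ▸ (mem_inf.1 v.2).2
    rw [show x ^ i * a = h₀ ^ s * n by rw [hn]; group]
    exact mul_mem (zpow_mem hh₀ s) (hcz ▸ mul_mem hcH hzH)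

end Cfsg.Agent.S4071
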