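import Cfsg.Statements.S4073
import Cfsg.Agent.Lib.FGS.SelfNormSimple.Sharp
import Cfsg.Agent.Lib.FGS.SelfNormSimple.Converse

set_option autoImplicit false
open Cfsg

namespace Cfsg.Agent.S4073

/-- Let G be a finite non-abelian simple group. Every non-abelian subgroup of G is self-normalizing if and only if G is isomorphic to PSL₂(2ⁿ) for some n ≥ 2 with 2ⁿ − 1 prime (this includes the alternating group of degree 5 as PSL₂(4)). -/
theorem result {G : Type*} [Group G] [Finite G] [IsSimpleGroup G]
    (hna : ¬ IsMulCommutative G) :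
    (∀ H : Subgroup G, ¬ IsMulCommutative H → Subgroup.normalizer (H : Set G) = H) ↔
    ∃ n : ℕ, 2 ≤ n ∧ (2 ^ n - 1).Prime ∧ Nonempty (G ≃* Matrix.ProjectiveSpecialLinearGroup (Fin 2) (GaloisField 2 n)) := by
  open CfsgLib.FGS.SelfNormSimple in
  constructor
  · exact exists_psl hna
  · rintro ⟨n, hn, hp, ⟨e⟩⟩
    haveI := Fintype.ofFinite (GaloisField 2 n)
    have hF : Fintype.card (GaloisField 2 n) = 2 ^ n := by
      rw [← Nat.card_eq_fintype_card, GaloisField.card 2 n (by omega)]
    have hS := sn_psl hF hn hp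
    refine sn_of_pna fun L hL => ?_
    let e' : L ≃* L.map e.toMonoidHom := Subgroup.equivMapOfInjective L _ e.injective
    have hnc : ¬ Comm (L.map e.toMonoidHom) := fun hc => hL fun a ha b hb => e.injective (by
      rw [map_mul, map_mul]
      exact hc _ (Subgroup.mem_map_of_mem _ ha) _ (Subgroup.mem_map_of_mem _ hb))
    refine PNA.of_mulEquiv e' ?_
    intro M hM hMT
    by_contra hMc
    exact hMT ((sn_subgroup hS (L.map e.toMonoidHom)).normalizer_eq hMc ▸
      Subgroup.normalizer_eq_top_iff.2 hM)

end Cfsg.Agent.S4073
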