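import Cfsg.Statements.S4074
import Mathlib.GroupTheory.SpecificGroups.Dihedral
import Mathlib.GroupTheory.PGroup
import Mathlib.GroupTheory.Index
import Mathlib.Tactic.LinearCombination
import Mathlib.Tactic.IntervalCases

set_option autoImplicit false
open Cfsg

namespace Cfsg.Agent.S4074

/-- For n > 2, every non-abelian subgroup of the dihedral group of order 2n is self-normalizing if and only if n = 4 or n is odd. -/
theorem result (n : ℕ) (hn : 2 < n) :
    (∀ H : Subgroup (DihedralGroup n), ¬ IsMulCommutative H → Subgroup.normalizer (H : Set (DihedralGroup n)) = H) ↔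
    (n = 4 ∨ Odd n) := by
  classical
  haveI : NeZero n := ⟨by omega⟩
  constructor
  · intro h
    by_contra hno
    push_neg at hno
    obtain ⟨hn4, hodd⟩ := hno
    rw [Nat.not_odd_iff_even] at hodd
    have h2 : 2 ∣ n := even_iff_two_dvd.1 hodd
    let c : ZMod n →+* ZMod 2 := ZMod.castHom h2 (ZMod 2)
    let f : DihedralGroup n →* Multiplicative (ZMod 2) :=
      { toFun := fun x => match x with
          | .r i => Multiplicative.ofAdd (c i)
          | .sr i => Multiplicative.ofAdd (c i)
        map_one' := by
          show Multiplicative.ofAdd (c 0) = 1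
          rw [map_zero]; rfl
        map_mul' := by
          have hneg : ∀ u v : ZMod 2, v - u = u + v := by decide
          intro x y
          cases x <;> cases y <;>
            simp [DihedralGroup.r_mul_r, DihedralGroup.r_mul_sr, DihedralGroup.sr_mul_r,
              DihedralGroup.sr_mul_sr, map_sub, map_add, hneg, ofAdd_add] }
    have hr2 : (DihedralGroup.r 2 : DihedralGroup n) ∈ f.ker := by
      show Multiplicative.ofAdd (c 2) = 1
      rw [map_ofNat]; rfl
    have hs : (DihedralGroup.sr 0 : DihedralGroup n) ∈ f.ker := by
      show Multiplicative.ofAdd (c 0) = 1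
      rw [map_zero]; rfl
    have hnab : ¬ IsMulCommutative f.ker := by
      intro hc
      have e := congrArg Subtype.val (hc.is_comm.comm (⟨_, hr2⟩ : f.ker) ⟨_, hs⟩)
      change DihedralGroup.r 2 * DihedralGroup.sr 0 = DihedralGroup.sr 0 * DihedralGroup.r 2 at e
      rw [DihedralGroup.r_mul_sr, DihedralGroup.sr_mul_r, DihedralGroup.sr.injEq, zero_sub, zero_add,
        neg_eq_iff_add_eq_zero, show (2 : ZMod n) + 2 = ((4 : ℕ) : ZMod n) by norm_num,
        ZMod.natCast_eq_zero_iff] at e
      have := Nat.le_of_dvd (by norm_num) e
      interval_cases n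
      · omega
      · exact hn4 rfl
    have e := h f.ker hnab
    rw [Subgroup.normalizer_eq_top_iff.2 (MonoidHom.normal_ker f)] at e
    have h1 : (DihedralGroup.r 1 : DihedralGroup n) ∈ f.ker := e ▸ Subgroup.mem_top _
    have h1' : Multiplicative.ofAdd (c 1) = 1 := h1
    rw [map_one] at h1'
    exact absurd h1' (by decide)
  · intro hn' H hH
    rcases hn' with rfl | hodd
    · -- order 8
      have hcard : Nat.card H ∣ 2 ^ 3 := by
        have := Subgroup.card_subgroup_dvd_card H
        rwa [DihedralGroup.nat_card] at this
      obtain ⟨i, hi, hiH⟩ := (Nat.dvd_prime_pow Nat.prime_two).1 hcard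
      haveI : Fact (Nat.Prime 2) := ⟨Nat.prime_two⟩
      rcases Nat.lt_or_ge i 3 with h3 | h3
      · refine absurd ?_ hH
        interval_cases i
        · haveI : Subsingleton H := (Nat.card_eq_one_iff_unique.1 (by simpa using hiH)).1
          exact ⟨⟨fun x y => Subsingleton.elim _ _⟩⟩
        · haveI : IsCyclic H := isCyclic_of_prime_card (p := 2) (by simpa using hiH)
          exact ⟨⟨fun x y => IsCyclic.commGroup.mul_comm x y⟩⟩
        · exact ⟨⟨fun x y => (IsPGroup.commGroupOfCardEqPrimeSq (p := 2) hiH).mul_comm x y⟩⟩
      · have : H = ⊤ := Subgroup.eq_top_of_card_eq _ (by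
          rw [hiH, DihedralGroup.nat_card, show i = 3 by omega]; norm_num)
        rw [this]; exact top_le_iff.1 Subgroup.le_normalizer
    · obtain ⟨i, hi⟩ : ∃ i : ZMod n, DihedralGroup.sr i ∈ H := by
        by_contra hno
        push_neg at hno
        refine hH ⟨⟨fun x y => Subtype.ext ?_⟩⟩
        rcases x with ⟨(a | a), ha⟩
        · rcases y with ⟨(b | b), hb⟩
          · show DihedralGroup.r a * DihedralGroup.r b = DihedralGroup.r b * DihedralGroup.r a
            rw [DihedralGroup.r_mul_r, DihedralGroup.r_mul_r, add_comm]
          · exact absurd hb (hno b)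
        · exact absurd ha (hno a)
      have key : ∀ k : ZMod n, DihedralGroup.r k ∈ Subgroup.normalizer (H : Set (DihedralGroup n)) →
          DihedralGroup.r k ∈ H := by
        intro k hk
        have h1 := mul_mem ((Subgroup.mem_normalizer_iff.1 hk _).1 hi) hi
        rw [DihedralGroup.inv_r, DihedralGroup.r_mul_sr, DihedralGroup.sr_mul_r,
          DihedralGroup.sr_mul_sr] at h1
        obtain ⟨j, hj⟩ := hodd
        have h3 := pow_mem h1 (j + 1)
        rw [DihedralGroup.r_pow] at h3
        have h0 : (2 : ZMod n) * j + 1 = 0 := by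
          have h' : ((2 * j + 1 : ℕ) : ZMod n) = 0 := by
            rw [ZMod.natCast_eq_zero_iff]; exact hj.dvd
          push_cast at h'
          exact h'
        convert h3 using 2
        push_cast
        linear_combination (-k) * h0
      refine le_antisymm (fun g hg => ?_) Subgroup.le_normalizer
      cases g with
      | r k => exact key k hg
      | sr k =>
        have h1 : DihedralGroup.r (i - k) ∈ Subgroup.normalizer (H : Set (DihedralGroup n)) := by
          rw [← DihedralGroup.sr_mul_sr]; exact mul_mem hg (Subgroup.le_normalizer hi)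
        have h2 := mul_mem hi (inv_mem (key _ h1))
        rwa [DihedralGroup.inv_r, DihedralGroup.sr_mul_r, show i + -(i - k) = k by abel] at h2

end Cfsg.Agent.S4074
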