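import Cfsg.Statements.S4079
import Cfsg.Agent.Lib.Transfer.MetacyclicAutMain

set_option autoImplicit false
open Cfsg

namespace Cfsg.Agent.S4079

/-- Let p be an odd prime and L a finite metacyclic p-group with no cyclic subgroup of index p, and let a be an automorphism of L of order p. Then a moves some element of order p of L if and only if p = 3 and the semidirect product L ⋊ ⟨a⟩ (of order 3·#L) has maximal class, i.e. nilpotency class m where #L = 3^m. -/
theorem result {L : Type*} [Group L] [Finite L] {p : ℕ} [Fact p.Prime]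
    (hp : p ≠ 2) (hL : IsPGroup p L) (hmc : Cfsg.IsMetacyclic L) (hnc : ∀ C : Subgroup L, IsCyclic C → C.index ≠ p)
    (a : MulAut L) (ha : orderOf a = p) (m : ℕ) (hm : Nat.card L = p ^ m) :
    (∃ x : L, orderOf x = p ∧ a x ≠ x) ↔
    (p = 3 ∧ Group.nilpotencyClass (SemidirectProduct L ↥(Subgroup.zpowers a) (Subgroup.zpowers a).subtype) = m) := by
  have hnt : Nontrivial L := by
    by_contra hnt
    rw [not_nontrivial_iff_subsingleton] at hnt
    have h1 : a = 1 := MulEquiv.ext fun x => Subsingleton.elim _ _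
    rw [h1, orderOf_one] at ha
    exact (Fact.out (p := p.Prime)).ne_one ha.symm
  have hp1 : 1 < p := (Fact.out (p := p.Prime)).one_lt
  have hncyc : ¬ IsCyclic L := by
    intro hc
    obtain ⟨g, hg⟩ := hc.exists_generator
    obtain ⟨k, hk0, hk⟩ := hL.nontrivial_iff_card.1 hnt
    refine hnc (Subgroup.zpowers (g ^ p)) inferInstance ?_
    have h2 := (Subgroup.zpowers (g ^ p)).card_mul_index
    rw [Nat.card_zpowers, orderOf_pow' g (by omega), orderOf_eq_card_of_forall_mem_zpowers hg, hk,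
      Nat.gcd_eq_right (dvd_pow_self p hk0.ne')] at h2
    have h3 : p ^ k / p * p = p ^ k := Nat.div_mul_cancel (dvd_pow_self p hk0.ne')
    have h4 : 0 < p ^ k / p := Nat.div_pos (Nat.le_self_pow hk0.ne' p) (by omega)
    exact Nat.eq_of_mul_eq_mul_left h4 (h2.trans h3.symm)
  obtain ⟨D⟩ := CfsgLib.Transfer.MetaAut.exists_layers hL hp hmc hnc hncyc
  have hm3 : 3 ≤ m := by
    by_contra hm2
    have hle : p ^ 2 ≤ p ^ m := D.cardE ▸ hm ▸ Subgroup.card_le_card_group D.E
    have hm2' : m = 2 := le_antisymm (by omega) ((Nat.pow_le_pow_iff_right hp1).1 hle)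
    subst hm2'
    obtain ⟨y, hy⟩ := exists_prime_orderOf_dvd_card' (G := L) p (hm ▸ dvd_pow_self p two_ne_zero)
    refine hnc (Subgroup.zpowers y) inferInstance ?_
    have h2 := (Subgroup.zpowers y).card_mul_index
    rw [Nat.card_zpowers, hy, hm, sq] at h2
    exact Nat.eq_of_mul_eq_mul_left (by omega) h2
  constructor
  · rintro ⟨x, hx, hax⟩
    have hap : a ^ p = 1 := ha ▸ pow_orderOf_eq_one a
    have hxE : x ∈ D.E := (D.memE x).2 (hx ▸ pow_orderOf_eq_one x)
    obtain ⟨hp3, Z, hZ, hmem⟩ :=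
      CfsgLib.Transfer.MetaAut.moved_facts hp hL D hap ⟨x, hxE, hax⟩
    exact ⟨hp3, CfsgLib.Transfer.MetaAut.maximalClass_of_fixed hm ha hZ hmem⟩
  · rintro ⟨-, hc⟩
    obtain ⟨e, he, hne⟩ := CfsgLib.Transfer.MetaAut.moved_of_maximalClass hL hp hmc D hm hm3 ha hc
    refine ⟨e, orderOf_eq_prime ((D.memE e).1 he) fun h => hne ?_, hne⟩
    rw [h, map_one]

end Cfsg.Agent.S4079
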