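import Cfsg.Statements.S4080
import Mathlib

set_option autoImplicit false
open Cfsg

namespace Cfsg.Agent.S4080

/-- Let p > 3 be a prime and L the direct product of two cyclic groups of order p². Every automorphism of L of order p fixes every element of order p of L. -/
theorem result {p : ℕ} [Fact p.Prime] (hp : 3 < p)
    (a : MulAut (Multiplicative (ZMod (p ^ 2) × ZMod (p ^ 2)))) (ha : orderOf a = p)
    (x : Multiplicative (ZMod (p ^ 2) × ZMod (p ^ 2))) (hx : orderOf x = p) : a x = x := by
  classical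
  let e : (Fin 2 → (ZMod (p ^ 2))) ≃+ (ZMod (p ^ 2)) × (ZMod (p ^ 2)) :=
    { toFun := fun v => (v 0, v 1)
      invFun := fun q => ![q.1, q.2]
      left_inv := fun v => by ext i; fin_cases i <;> rfl
      right_inv := fun q => rfl
      map_add' := fun v w => rfl }
  let g : MulAut (Multiplicative ((ZMod (p ^ 2)) × (ZMod (p ^ 2)))) → ((Fin 2 → (ZMod (p ^ 2))) →ₗ[(ZMod (p ^ 2))] (Fin 2 → (ZMod (p ^ 2)))) := fun b =>
    AddMonoidHom.toZModLinearMap (p ^ 2)
      (AddMonoidHom.mk' (fun v => e.symm (Multiplicative.toAdd (b (Multiplicative.ofAdd (e v))))) fun v w => by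
        rw [map_add, ofAdd_add, map_mul, toAdd_mul, map_add])
  have hgap : ∀ (b : MulAut (Multiplicative ((ZMod (p ^ 2)) × (ZMod (p ^ 2))))) (v : Fin 2 → (ZMod (p ^ 2))),
      g b v = e.symm (Multiplicative.toAdd (b (Multiplicative.ofAdd (e v)))) := fun b v => rfl
  have hg1 : ∀ b c, g (b * c) = g b * g c := by
    intro b c
    refine LinearMap.ext fun v => ?_
    rw [Module.End.mul_apply, hgap, hgap, hgap, AddEquiv.apply_symm_apply]
    simp [MulAut.mul_apply]
  have hg0 : g 1 = 1 := LinearMap.ext fun v => by rw [hgap]; simp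
  set M := LinearMap.toMatrix' (g a) with hM
  have hMp : M ^ p = 1 := by
    have h : ∀ k : ℕ, LinearMap.toMatrix' (g (a ^ k)) = M ^ k := by
      intro k
      induction k with
      | zero => rw [pow_zero a, pow_zero M, hg0]; exact LinearMap.toMatrix'_one
      | succ k ih => rw [pow_succ a k, hg1, LinearMap.toMatrix'_mul, ih, pow_succ M k]
    calc M ^ p = LinearMap.toMatrix' (g (a ^ p)) := (h p).symm
      _ = 1 := by
        rw [show a ^ p = 1 from (congrArg (a ^ ·) ha.symm).trans (pow_orderOf_eq_one a), hg0]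
        exact LinearMap.toMatrix'_one
  set N := M - 1 with hN
  have hp2 : ((p : (ZMod (p ^ 2)))) * p = 0 := by rw [← Nat.cast_mul, ← pow_two]; exact ZMod.natCast_self _
  have hpdiv : ∀ c : (ZMod (p ^ 2)), (p : (ZMod (p ^ 2))) * c = 0 → ∃ d, c = (p : (ZMod (p ^ 2))) * d := by
    intro c hc
    obtain ⟨n, rfl⟩ := ZMod.natCast_zmod_surjective c
    rw [← Nat.cast_mul, ZMod.natCast_eq_zero_iff, pow_two] at hc
    obtain ⟨d, rfl⟩ := Nat.dvd_of_mul_dvd_mul_left (Fact.out : p.Prime).pos hc
    exact ⟨d, by push_cast; rfl⟩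
  -- modulo `p`, the matrix `N` squares to zero
  let φ : (ZMod (p ^ 2)) →+* ZMod p := ZMod.castHom (dvd_pow_self p two_ne_zero) (ZMod p)
  have hNbar : (φ.mapMatrix N) ^ p = 0 := by
    rw [hN, map_sub, map_one, sub_pow_char_of_commute _ (Commute.one_right _), ← map_pow, hMp, map_one,
      one_pow, sub_self]
  have hN2 : φ.mapMatrix (N ^ 2) = 0 := by
    rw [map_pow]
    set A := φ.mapMatrix N
    have hdet : A.det = 0 := by
      have h := congrArg Matrix.det hNbar
      rw [Matrix.det_pow, Matrix.det_zero] at h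
      exact pow_eq_zero_iff (Fact.out : p.Prime).ne_zero |>.1 h
    have hCH : A ^ 2 = A.trace • A := by
      rw [Matrix.det_fin_two] at hdet
      ext i j
      fin_cases i <;> fin_cases j <;>
        simp [pow_two, Matrix.mul_apply, Matrix.trace, Fin.sum_univ_two] <;>
        first | ring1 | linear_combination hdet | linear_combination -hdet
    have hpow : ∀ k : ℕ, A ^ (k + 1) = A.trace ^ k • A := by
      intro k
      induction k with
      | zero => simp
      | succ k ih => rw [pow_succ, ih, smul_mul_assoc, ← pow_two, hCH, smul_smul, pow_succ]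
    have h := hpow (p - 1)
    rw [Nat.sub_add_cancel (Fact.out : p.Prime).one_le, hNbar] at h
    rcases smul_eq_zero.1 h.symm with h0 | h0
    · rw [hCH, pow_eq_zero_iff (by omega) |>.1 h0, zero_smul]
    · simp [h0]
  obtain ⟨B, hB⟩ : ∃ B : Matrix (Fin 2) (Fin 2) (ZMod (p ^ 2)), N ^ 2 = (p : (ZMod (p ^ 2))) • B := by
    have h : ∀ i j, ∃ d, (N ^ 2) i j = (p : (ZMod (p ^ 2))) * d := by
      intro i j
      obtain ⟨n, hn⟩ := ZMod.natCast_zmod_surjective ((N ^ 2) i j)
      have h0 : φ ((N ^ 2) i j) = 0 := congrFun (congrFun hN2 i) j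
      rw [← hn, map_natCast, ZMod.natCast_eq_zero_iff] at h0
      obtain ⟨d, rfl⟩ := h0
      exact ⟨d, by rw [← hn]; push_cast; rfl⟩
    choose d hd using h
    exact ⟨Matrix.of d, Matrix.ext fun i j => hd i j⟩
  have hpN : (p : (ZMod (p ^ 2))) • N = 0 := by
    have h : (N + 1) ^ p = 1 := by rw [hN, sub_add_cancel, hMp]
    rw [(Commute.one_right N).add_pow, Finset.sum_eq_add_of_mem 0 1 (by simp)
      (by simp [(Fact.out : p.Prime).pos]) (by norm_num)] at h
    · simp only [pow_zero, pow_one, one_pow, mul_one, Nat.choose_zero_right, Nat.choose_one_right, Nat.cast_one, one_mul, add_eq_left] at h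
      rw [Nat.cast_smul_eq_nsmul, nsmul_eq_mul, Nat.cast_comm]; exact h
    · intro i hi hne
      simp only [Finset.mem_range] at hi
      rw [one_pow, mul_one]
      have h2 : N ^ i = ((p : (ZMod (p ^ 2))) • B) * N ^ (i - 2) := by
        rw [← hB, ← pow_add]; congr 1; omega
      by_cases hip : i = p
      · rw [hip]
        have h4 : N ^ p = (N ^ 2 * N ^ 2) * N ^ (p - 4) := by
          rw [← pow_add, ← pow_add]; congr 1; omega
        rw [h4, hB, smul_mul_smul_comm, hp2, zero_smul, zero_mul, zero_mul]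
      · obtain ⟨c, hc⟩ := (Fact.out : p.Prime).dvd_choose_self (k := i) (by omega) (by omega)
        rw [h2, hc, ← nsmul_eq_mul', ← Nat.cast_smul_eq_nsmul (ZMod (p ^ 2)), smul_mul_assoc, smul_smul, Nat.cast_mul,
          mul_right_comm, hp2, zero_mul, zero_smul]
  -- apply to `x`
  set v := e.symm (Multiplicative.toAdd x) with hv
  have hxp : (p : (ZMod (p ^ 2))) • v = 0 := by
    have h0 : x ^ p = 1 := (congrArg (x ^ ·) hx.symm).trans (pow_orderOf_eq_one x)
    rw [Nat.cast_smul_eq_nsmul, hv, ← map_nsmul, ← toAdd_pow, h0, toAdd_one, map_zero]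
  obtain ⟨w, hw⟩ : ∃ w : Fin 2 → (ZMod (p ^ 2)), v = (p : (ZMod (p ^ 2))) • w := by
    choose d hd using fun i => hpdiv (v i) (congrFun hxp i)
    exact ⟨d, funext hd⟩
  have hfix : M.mulVec v = v := by
    have : N.mulVec v = 0 := by rw [hw, Matrix.mulVec_smul, ← Matrix.smul_mulVec, hpN, Matrix.zero_mulVec]
    rwa [hN, Matrix.sub_mulVec, Matrix.one_mulVec, sub_eq_zero] at this
  rw [hM, LinearMap.toMatrix'_mulVec, hgap, hv, AddEquiv.apply_symm_apply] at hfix
  exact Multiplicative.toAdd.injective (e.symm.injective hfix)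

end Cfsg.Agent.S4080
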