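import Cfsg.Statements.S4081
import Cfsg.Agent.Lib.FGS.CyclotomicModule
import Cfsg.Agent.Lib.Solvable.FrobeniusComplement
import Cfsg.Agent.Lib.Solvable.MinimalNormal
import Cfsg.Agent.Lib.Char.Burnside
import Cfsg.Agent.Lib.FGS.Basics

set_option autoImplicit false
open Cfsg

namespace Cfsg.Agent.S4081

open Subgroup

variable {G : Type*} [Group G] [Finite G]

theorem orbit_mk_eq {u v : G} : (Quotient.mk (MulAction.orbitRel (MulAut G) G) u = Quotient.mk _ v) ↔ ∃ a : MulAut G, a v = u := by
  rw [Quotient.eq, MulAction.orbitRel_apply, MulAction.mem_orbit_iff]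
  rfl

theorem orderOf_aut (a : MulAut G) (u : G) : orderOf (a u) = orderOf u := MulEquiv.orderOf_eq a u

/-- From three orbits: orders and transitivity. -/
theorem orders_of_three (hnpp : ¬ IsPrimePow (Nat.card G)) (hnt : Nat.card G ≠ 1)
    (h : Nat.card (MulAction.orbitRel.Quotient (MulAut G) G) = 3) :
    ∃ p q : ℕ, p.Prime ∧ q.Prime ∧ p ≠ q ∧ p ∣ Nat.card G ∧ q ∣ Nat.card G ∧
      (∀ g : G, g = 1 ∨ orderOf g = p ∨ orderOf g = q) ∧
      (∀ u v : G, orderOf u = orderOf v → ∃ a : MulAut G, a v = u) := by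
  classical
  obtain ⟨p, hp, hpG⟩ := Nat.exists_prime_and_dvd hnt
  obtain ⟨q, hq, hqG, hqp⟩ : ∃ q, q.Prime ∧ q ∣ Nat.card G ∧ q ≠ p := by
    by_contra hno
    push_neg at hno
    refine hnpp ?_
    obtain ⟨k, hk⟩ : ∃ k, Nat.card G = p ^ k :=
      ⟨_, Nat.eq_prime_pow_of_unique_prime_dvd Nat.card_pos.ne' fun {d} hd hdd => hno d hd hdd⟩
    have hk0 : k ≠ 0 := fun e => hnt (by rw [hk, e, pow_zero])
    exact hk ▸ hp.isPrimePow.pow hk0
  refine ⟨p, q, hp, hq, hqp.symm, hpG, hqG, ?_⟩
  haveI := Fact.mk hp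
  haveI := Fact.mk hq
  obtain ⟨x, hx⟩ := exists_prime_orderOf_dvd_card' (G := G) p hpG
  obtain ⟨y, hy⟩ := exists_prime_orderOf_dvd_card' (G := G) q hqG
  let f : Fin 3 → MulAction.orbitRel.Quotient (MulAut G) G :=
    ![Quotient.mk _ 1, Quotient.mk _ x, Quotient.mk _ y]
  have hne : ∀ u v : G, orderOf u ≠ orderOf v →
      (Quotient.mk (MulAction.orbitRel (MulAut G) G) u : MulAction.orbitRel.Quotient (MulAut G) G) ≠ Quotient.mk _ v := by
    intro u v huv e
    obtain ⟨a, ha⟩ := orbit_mk_eq.1 e
    exact huv (ha ▸ orderOf_aut a v)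
  have h01 := hne 1 x (by rw [orderOf_one, hx]; exact hp.ne_one.symm)
  have h02 := hne 1 y (by rw [orderOf_one, hy]; exact hq.ne_one.symm)
  have h12 := hne x y (by rw [hx, hy]; exact hqp.symm)
  haveI : Finite (MulAction.orbitRel.Quotient (MulAut G) G) := Quotient.finite _
  have hf : Function.Surjective f := by
    refine (Function.Injective.bijective_of_nat_card_le (f := f) ?_ (by rw [h, Nat.card_fin])).2
    intro i j hij
    fin_cases i <;> fin_cases j <;> simp [f, h01, h01.symm, h02, h02.symm, h12, h12.symm] at hij ⊢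
  have hcl : ∀ g : G, (∃ a : MulAut G, a 1 = g) ∨ (∃ a : MulAut G, a x = g) ∨ (∃ a : MulAut G, a y = g) := by
    intro g
    obtain ⟨i, hi⟩ := hf (Quotient.mk _ g)
    have hi' := hi.symm
    fin_cases i
    · exact Or.inl (orbit_mk_eq.1 hi')
    · exact Or.inr (Or.inl (orbit_mk_eq.1 hi'))
    · exact Or.inr (Or.inr (orbit_mk_eq.1 hi'))
  have hord : ∀ g : G, g = 1 ∨ orderOf g = p ∨ orderOf g = q := by
    intro g
    rcases hcl g with ⟨a, rfl⟩ | ⟨a, rfl⟩ | ⟨a, rfl⟩
    · exact Or.inl (map_one a)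
    · exact Or.inr (Or.inl ((orderOf_aut a x).trans hx))
    · exact Or.inr (Or.inr ((orderOf_aut a y).trans hy))
  refine ⟨hord, fun u v huv => ?_⟩
  rcases hcl u with ⟨a, rfl⟩ | ⟨a, rfl⟩ | ⟨a, rfl⟩ <;> rcases hcl v with ⟨b, rfl⟩ | ⟨b, rfl⟩ | ⟨b, rfl⟩ <;>
    simp only [orderOf_aut, orderOf_one, hx, hy] at huv <;>
    first
    | exact absurd huv hp.ne_one
    | exact absurd huv.symm hp.ne_one
    | exact absurd huv hq.ne_one
    | exact absurd huv.symm hq.ne_one
    | exact absurd huv hqp
    | exact absurd huv.symm hqp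
    | exact ⟨a * b⁻¹, by rw [MulAut.mul_apply, MulAut.inv_apply, MulEquiv.symm_apply_apply]⟩

/-- The forward direction, given a normal `p`-subgroup. -/
theorem forward_of_normal {p q : ℕ} [Fact p.Prime] [Fact q.Prime] (hpq : p ≠ q) (hpG : p ∣ Nat.card G)
    (hqG : q ∣ Nat.card G) (hord : ∀ g : G, g = 1 ∨ orderOf g = p ∨ orderOf g = q)
    (htr : ∀ u v : G, orderOf u = orderOf v → ∃ a : MulAut G, a v = u)
    (N : Subgroup G) [N.Normal] (hN : IsPGroup p N) (hN1 : N ≠ ⊥) :
    ∃ (p q n : ℕ) (_ : Fact p.Prime) (_ : Fact q.Prime), p ≠ q ∧ 1 ≤ n ∧ Nat.card G = p ^ n * q ∧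
      (∀ P : Sylow p G, (P : Subgroup G).Normal ∧ Cfsg.IsElementaryAbelian p (P : Subgroup G)) ∧
      orderOf (p : ZMod q) = q - 1 ∧
      ∀ x y : G, orderOf x = q → orderOf y = p → x * y * x⁻¹ ≠ y := by
  classical
  have hp : p.Prime := Fact.out
  have hq : q.Prime := Fact.out
  obtain ⟨T, hNT, ⟨hTn, hTp⟩, hTmax⟩ := Finite.exists_le_maximal
    (p := fun T : Subgroup G => T.Normal ∧ IsPGroup p T) (a := N) ⟨inferInstance, hN⟩
  haveI := hTn
  have haut : ∀ (a : MulAut G), ∀ t ∈ T, a t ∈ T := by
    intro a t ht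
    haveI : (T.map a.toMonoidHom).Normal := hTn.map _ a.surjective
    exact hTmax ⟨inferInstance, hTp.to_sup_of_normal_right (hTp.map a.toMonoidHom)⟩ le_sup_left
      (le_sup_right (a := T) ⟨t, ht, rfl⟩)
  obtain ⟨z₀, hz₀N, hz₀1⟩ : ∃ z ∈ N, z ≠ 1 := by
    obtain ⟨z, hz⟩ := Subgroup.ne_bot_iff_exists_ne_one.1 hN1
    exact ⟨z, z.2, fun e => hz (Subtype.ext e)⟩
  have hTord : ∀ t ∈ T, t ≠ 1 → orderOf t = p := by
    intro t ht ht1
    rcases hord t with h | h | h
    · exact absurd h ht1
    · exact h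
    · obtain ⟨k, hk⟩ := IsPGroup.iff_orderOf.1 hTp ⟨t, ht⟩
      rw [Subgroup.orderOf_mk, h] at hk
      exact absurd ((Nat.prime_dvd_prime_iff_eq hq hp).1 (hq.dvd_of_dvd_pow hk.dvd)).symm hpq
  have hTall : ∀ g : G, orderOf g = p → g ∈ T := by
    intro g hg
    obtain ⟨a, rfl⟩ := htr g z₀ (hg.trans (hTord z₀ (hNT hz₀N) hz₀1).symm)
    exact haut a z₀ (hNT hz₀N)
  have hTexp : ∀ t ∈ T, t ^ p = 1 := by
    intro t ht
    by_cases h1 : t = 1
    · rw [h1, one_pow]
    · rw [← hTord t ht h1]; exact pow_orderOf_eq_one t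
  have hTab : ∀ t ∈ T, ∀ s ∈ T, t * s = s * t := by
    haveI : Nontrivial T := T.nontrivial_iff_ne_bot.2 fun e => hN1 (le_bot_iff.1 (e ▸ hNT))
    haveI := IsPGroup.center_nontrivial hTp
    obtain ⟨⟨c, hc⟩, hc1⟩ := exists_ne (1 : Subgroup.center T)
    have hc1' : (c : G) ≠ 1 := fun e => hc1 (Subtype.ext (Subtype.ext e))
    intro t ht s hs
    by_cases h1 : s = 1
    · simp [h1]
    obtain ⟨a, rfl⟩ := htr s (c : G) ((hTord s hs h1).trans (hTord c c.2 hc1').symm)
    have ht' : a.symm t ∈ T := haut a.symm t ht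
    have e := congrArg a (congrArg Subtype.val (Subgroup.mem_center_iff.1 hc ⟨a.symm t, ht'⟩))
    simp only [Subgroup.coe_mul, map_mul, MulEquiv.apply_symm_apply] at e
    exact e
  have hTnd : ¬ p ∣ T.index := by
    obtain ⟨P, hP⟩ := hTp.exists_le_sylow
    have hPT : (P : Subgroup G) ≤ T := by
      intro g hg
      obtain ⟨k, hk⟩ := IsPGroup.iff_orderOf.1 P.isPGroup' ⟨g, hg⟩
      rw [Subgroup.orderOf_mk] at hk
      rcases hord g with h | h | h
      · rw [h]; exact one_mem T
      · exact hTall g h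
      · exact absurd ((Nat.prime_dvd_prime_iff_eq hq hp).1 (hq.dvd_of_dvd_pow (h ▸ hk).dvd)).symm hpq
    exact fun h => P.not_dvd_index (h.trans (Subgroup.index_dvd_of_le hPT))
  -- a Sylow `q`-subgroup has order `q`
  obtain ⟨Q⟩ := (inferInstance : Nonempty (Sylow q G))
  have hQT : ∀ a ∈ (Q : Subgroup G), a ≠ 1 → orderOf a = q := by
    intro a ha ha1
    obtain ⟨k, hk⟩ := IsPGroup.iff_orderOf.1 Q.isPGroup' ⟨a, ha⟩
    rw [Subgroup.orderOf_mk] at hk
    rcases hord a with h | h | h
    · exact absurd h ha1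
    · exact absurd ((Nat.prime_dvd_prime_iff_eq hp hq).1 (hp.dvd_of_dvd_pow (h ▸ hk).dvd)) hpq
    · exact h
  have hfpf : ∀ g : G, orderOf g = q → ∀ t : G, orderOf t = p → g * t * g⁻¹ ≠ t := by
    intro g hg t ht e
    have hc : Commute g t := mul_inv_eq_iff_eq_mul.1 e
    have h1 : orderOf (g * t) = q * p := by
      rw [hc.orderOf_mul_eq_mul_orderOf_of_coprime (by rw [hg, ht]; exact (Nat.coprime_primes hq hp).2 hpq.symm), hg, ht]
    rcases hord (g * t) with h | h | h
    · rw [h, orderOf_one] at h1; exact hq.ne_one (Nat.eq_one_of_mul_eq_one_right h1.symm)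
    · rw [h] at h1; exact hq.ne_one ((mul_eq_right₀ hp.ne_zero).1 h1.symm)
    · rw [h] at h1; exact hp.ne_one ((mul_eq_left₀ hq.ne_zero).1 h1.symm)
  obtain ⟨x, hxQ, hx⟩ : ∃ x ∈ (Q : Subgroup G), orderOf x = q := by
    obtain ⟨a, ha⟩ := Subgroup.ne_bot_iff_exists_ne_one.1 (Q.ne_bot_of_dvd_card hqG)
    exact ⟨a, a.2, hQT a a.2 fun e => ha (Subtype.ext e)⟩
  have hQle : (Q : Subgroup G) ≤ Subgroup.zpowers x := by
    intro a ha
    by_cases h1 : a = 1
    · rw [h1]; exact one_mem _
    have hQN : (Q : Subgroup G) ≤ Subgroup.normalizer (T : Set G) := by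
      rw [Subgroup.normalizer_eq_top_iff.2 hTn]; exact le_top
    have h := CfsgLib.Solvable.mem_zpowers_of_fpf_pGroup (p := q) (P := (Q : Subgroup G)) (K := T)
      (fun e => hN1 (le_bot_iff.1 (e ▸ hNT))) hQN
      (fun b hb hb1 => by
        rw [Subgroup.eq_bot_iff_forall]
        rintro t ⟨ht, htc⟩
        by_contra ht1
        exact hfpf b (hQT b hb hb1) t (hTord t ht ht1)
          (mul_inv_eq_iff_eq_mul.2 (Subgroup.mem_centralizer_singleton_iff.1 htc).symm))
      Q.isPGroup' (x := ⟨a, ha⟩) (y := ⟨x, hxQ⟩) (by rw [Subgroup.orderOf_mk, hQT a ha h1])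
      (by rw [Subgroup.orderOf_mk, hx])
    obtain ⟨i, hi⟩ := h
    exact ⟨i, congrArg Subtype.val hi⟩
  have hQeq : (Q : Subgroup G) = Subgroup.zpowers x := le_antisymm hQle (Subgroup.zpowers_le.2 hxQ)
  obtain ⟨n, hn⟩ := hTp.exists_card_eq
  have hn1 : 1 ≤ n := by
    by_contra h
    rw [show n = 0 by omega, pow_zero] at hn
    exact hN1 (le_bot_iff.1 (Subgroup.card_eq_one.1 hn ▸ hNT))
  have hcard : Nat.card G = p ^ n * q := by
    rw [← hn, ← T.index_mul_card, mul_comm]
    congr 1
    have hdvd : T.index ∣ Nat.card G := T.index_dvd_card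
    refine Nat.dvd_antisymm ((Nat.dvd_iff_prime_pow_dvd_dvd _ _).2 fun r k hr hrk => ?_) ?_
    · rcases Nat.eq_zero_or_pos k with rfl | hk
      · simp
      haveI := Fact.mk hr
      obtain ⟨g, hg⟩ := exists_prime_orderOf_dvd_card' (G := G) r (((dvd_pow_self r hk.ne').trans hrk).trans hdvd)
      rcases hord g with h | h | h
      · rw [h, orderOf_one] at hg; exact absurd hg hr.ne_one.symm
      · exfalso
        rw [hg] at h
        exact hTnd (h ▸ (dvd_pow_self r hk.ne').trans hrk)
      · rw [hg] at h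
        subst h
        have h2 := Q.pow_dvd_card_of_pow_dvd_card (hrk.trans hdvd)
        rwa [hQeq, Nat.card_zpowers, hx] at h2
    · rw [← hx, ← Nat.card_zpowers, ← hQeq]
      have h2 : Nat.card (Q : Subgroup G) ∣ T.index * Nat.card T := by
        rw [T.index_mul_card]; exact Subgroup.card_subgroup_dvd_card _
      rw [hQeq, Nat.card_zpowers, hx] at h2 ⊢
      exact (hq.dvd_mul.1 h2).resolve_right fun h =>
        hpq ((Nat.prime_dvd_prime_iff_eq hq hp).1 (hq.dvd_of_dvd_pow (hn ▸ h))).symm
  refine ⟨p, q, n, inferInstance, inferInstance, hpq, hn1, hcard, fun P => ?_, ?_, fun g t hg ht => hfpf g hg t ht⟩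
  · have hPT : (P : Subgroup G) = T := by
      have h2 := P.isPGroup'.to_sup_of_normal_right hTp
      have hle : T ≤ (P : Subgroup G) := le_sup_right.trans (P.is_maximal' h2 le_sup_left).le
      refine le_antisymm (fun g hg => ?_) hle
      obtain ⟨k, hk⟩ := IsPGroup.iff_orderOf.1 P.isPGroup' ⟨g, hg⟩
      rw [Subgroup.orderOf_mk] at hk
      rcases hord g with h | h | h
      · rw [h]; exact one_mem T
      · exact hTall g h
      · exact absurd ((Nat.prime_dvd_prime_iff_eq hq hp).1 (hq.dvd_of_dvd_pow (h ▸ hk).dvd)).symm hpq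
    rw [hPT]
    exact ⟨hTn, ⟨⟨fun a b => Subtype.ext (hTab a a.2 b b.2)⟩⟩, hTexp⟩
  · -- the operator `x` generates a field on `T`
    letI : CommGroup T := { (inferInstance : Group T) with mul_comm := fun a b => Subtype.ext (hTab a a.2 b b.2) }
    haveI : Nontrivial (Additive T) := by
      haveI : Nontrivial T := T.nontrivial_iff_ne_bot.2 fun e => hN1 (le_bot_iff.1 (e ▸ hNT))
      exact inferInstanceAs (Nontrivial (Additive T))
    haveI : Finite (Additive T) := inferInstanceAs (Finite (Additive T))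
    let X : AddMonoid.End (Additive T) := AddMonoidHom.mk'
      (fun v => Additive.ofMul (⟨x * (Additive.toMul v : T) * x⁻¹, hTn.conj_mem _ (Additive.toMul v).2 x⟩ : T))
      (fun v w => congrArg Additive.ofMul (Subtype.ext (by simp [mul_assoc])))
    have hX : ∀ v : Additive T, ((Additive.toMul (X v) : T) : G) = x * (Additive.toMul v : T) * x⁻¹ := fun v => rfl
    have hXpow : ∀ (k : ℕ) (v : Additive T), ((Additive.toMul ((X ^ k) v) : T) : G) =
        x ^ k * (Additive.toMul v : T) * (x ^ k)⁻¹ := by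
      intro k
      induction k with
      | zero => intro v; simp
      | succ k ih =>
        intro v
        rw [pow_succ, AddMonoid.End.coe_mul, Function.comp_apply, ih, hX, pow_succ]
        group
    set B := Subring.closure ({X} : Set (AddMonoid.End (Additive T)))
    have hXB : X ∈ B := Subring.subset_closure rfl
    -- twisting by an automorphism
    have hauto : ∀ a : MulAut G, ∃ (α : Additive T ≃+ Additive T) (k : ℕ),
        (∀ v, ((Additive.toMul (α v) : T) : G) = a ((Additive.toMul v : T) : G)) ∧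
        (∀ v, α (X v) = (X ^ k) (α v)) ∧ (∀ b ∈ B, ∃ b' ∈ B, ∀ v, α (b v) = b' (α v)) ∧
        (∀ i : ℕ, a x = x ^ i → ∀ v, α (X v) = (X ^ i) (α v)) := by
      intro a
      let α : Additive T ≃+ Additive T :=
        { toFun := fun v => Additive.ofMul (⟨a ((Additive.toMul v : T) : G), haut a _ (Additive.toMul v).2⟩ : T)
          invFun := fun v => Additive.ofMul (⟨a.symm ((Additive.toMul v : T) : G), haut a.symm _ (Additive.toMul v).2⟩ : T)
          left_inv := fun v => Additive.toMul.injective (Subtype.ext (a.symm_apply_apply _))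
          right_inv := fun v => Additive.toMul.injective (Subtype.ext (a.apply_symm_apply _))
          map_add' := fun v w => congrArg Additive.ofMul (Subtype.ext (map_mul a _ _)) }
      have hα : ∀ v, ((Additive.toMul (α v) : T) : G) = a ((Additive.toMul v : T) : G) := fun v => rfl
      obtain ⟨t, ht, k, hk⟩ : ∃ t ∈ T, ∃ k : ℕ, a x = t * x ^ k := by
        have htop : T ⊔ Subgroup.zpowers x = ⊤ := by
          refine Subgroup.eq_top_of_card_eq _ (Nat.dvd_antisymm (Subgroup.card_subgroup_dvd_card _) ?_)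
          rw [hcard]
          refine Nat.Coprime.mul_dvd_of_dvd_of_dvd (((Nat.coprime_primes hp hq).2 hpq).pow_left n) ?_ ?_
          · rw [← hn]; exact Subgroup.card_dvd_of_le le_sup_left
          · rw [← hx, ← Nat.card_zpowers]; exact Subgroup.card_dvd_of_le le_sup_right
        obtain ⟨t, ht, w, hw, htw⟩ := Subgroup.mem_sup_of_normal_left.1 (htop.symm ▸ Subgroup.mem_top (a x) : a x ∈ T ⊔ Subgroup.zpowers x)
        rw [← mem_powers_iff_mem_zpowers] at hw
        obtain ⟨k, rfl⟩ := hw
        exact ⟨t, ht, k, htw.symm⟩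
      have hkey : ∀ v, α (X v) = (X ^ k) (α v) := by
        intro v
        refine Additive.toMul.injective (Subtype.ext ?_)
        rw [hα, hX, hXpow, hα, map_mul, map_mul, map_inv, hk]
        set z := a ((Additive.toMul v : T) : G)
        have hz : x ^ k * z * (x ^ k)⁻¹ ∈ T := hTn.conj_mem _ (haut a _ (Additive.toMul v).2) _
        calc t * x ^ k * z * (t * x ^ k)⁻¹ = t * (x ^ k * z * (x ^ k)⁻¹) * t⁻¹ := by group
          _ = x ^ k * z * (x ^ k)⁻¹ := by rw [hTab t ht _ hz, mul_inv_cancel_right]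
      refine ⟨α, k, hα, hkey, ?_, fun i hi v => ?_⟩
      · intro b hb
        induction hb using Subring.closure_induction with
        | mem b hb => obtain rfl : b = X := hb; exact ⟨X ^ k, pow_mem hXB k, hkey⟩
        | zero => exact ⟨0, zero_mem _, fun v => map_zero α⟩
        | one => exact ⟨1, one_mem _, fun v => rfl⟩
        | add b c _ _ ihb ihc =>
          obtain ⟨b', hb', hb''⟩ := ihb
          obtain ⟨c', hc', hc''⟩ := ihc
          exact ⟨b' + c', add_mem hb' hc', fun v => by
            show α (b v + c v) = b' (α v) + c' (α v)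
            rw [map_add, hb'', hc'']⟩
        | neg b _ ihb =>
          obtain ⟨b', hb', hb''⟩ := ihb
          exact ⟨-b', neg_mem hb', fun v => by
            show α (-(b v)) = -(b' (α v))
            rw [map_neg, hb'']⟩
        | mul b c _ _ ihb ihc =>
          obtain ⟨b', hb', hb''⟩ := ihb
          obtain ⟨c', hc', hc''⟩ := ihc
          exact ⟨b' * c', mul_mem hb' hc', fun v => by
            show α (b (c v)) = b' (c' (α v))
            rw [hb'', hc'']⟩
      · refine Additive.toMul.injective (Subtype.ext ?_)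
        rw [hα, hX, hXpow, hα, map_mul, map_mul, map_inv, hi]
    -- the cyclic submodules all have the same size
    let W : Additive T → Set (Additive T) := fun v => Set.range fun b : B => (b : AddMonoid.End (Additive T)) v
    have hWsize : ∀ v w, v ≠ 0 → w ≠ 0 → (W v).ncard ≤ (W w).ncard := by
      intro v w hv hw
      have hv' : ((Additive.toMul v : T) : G) ≠ 1 := fun e => hv (Additive.toMul.injective (Subtype.ext e))
      have hw' : ((Additive.toMul w : T) : G) ≠ 1 := fun e => hw (Additive.toMul.injective (Subtype.ext e))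
      obtain ⟨a, ha⟩ := htr _ _ ((hTord _ (Additive.toMul w).2 hw').trans (hTord _ (Additive.toMul v).2 hv').symm)
      obtain ⟨α, k, hα, -, hB, -⟩ := hauto a
      have hvw : α v = w := Additive.toMul.injective (Subtype.ext ((hα v).trans ha))
      rw [← Set.ncard_image_of_injective (W v) α.injective]
      refine Set.ncard_le_ncard ?_ (Set.toFinite _)
      rintro _ ⟨_, ⟨b, rfl⟩, rfl⟩
      obtain ⟨b', hb', hb''⟩ := hB b b.2
      exact ⟨⟨b', hb'⟩, by rw [hb'', hvw]⟩
    have hWsub : ∀ v w, w ∈ W v → w ≠ 0 → W w = W v := by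
      rintro v _ ⟨b, rfl⟩ hw
      have hv : v ≠ 0 := fun e => hw (by rw [e]; exact map_zero _)
      refine Set.eq_of_subset_of_ncard_le ?_ (hWsize _ _ hv hw) (Set.toFinite _)
      rintro _ ⟨c, rfl⟩
      exact ⟨c * b, rfl⟩
    letI : CommRing B := Subring.closureCommRingOfComm (by rintro a (rfl : a = X) b (rfl : b = X); rfl)
    have hself : ∀ v, v ∈ W v := fun v => ⟨1, rfl⟩
    have hinjW : ∀ (b : B) w, (b : AddMonoid.End (Additive T)) w ≠ 0 → ∀ u ∈ W w, u ≠ 0 →
        (b : AddMonoid.End (Additive T)) u ≠ 0 := by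
      intro b w hbw u hu hu0 hbu
      have hWu : W u = W w := hWsub w u hu hu0
      obtain ⟨c, hc⟩ : w ∈ W u := hWu.symm ▸ hself w
      apply hbw
      rw [← hc]
      show ((b * c : B) : AddMonoid.End (Additive T)) u = 0
      rw [mul_comm b c]
      show (c : AddMonoid.End (Additive T)) ((b : AddMonoid.End (Additive T)) u) = 0
      rw [hbu, map_zero]
    have hfaith : ∀ (b : B) v, v ≠ 0 → (b : AddMonoid.End (Additive T)) v = 0 → b = 0 := by
      intro b v hv hbv
      refine Subtype.ext (AddMonoidHom.ext fun w => ?_)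
      by_contra hbw
      have hbw' : (b : AddMonoid.End (Additive T)) w ≠ 0 := hbw
      set u := v + w with hu
      have hbu : (b : AddMonoid.End (Additive T)) u = (b : AddMonoid.End (Additive T)) w := by
        rw [hu, map_add, hbv, zero_add]
      have h1 : W ((b : AddMonoid.End (Additive T)) w) = W w := hWsub w _ ⟨b, rfl⟩ hbw'
      have h2 : W ((b : AddMonoid.End (Additive T)) w) = W u := by
        rw [← hbu]; exact hWsub u _ ⟨b, rfl⟩ (hbu ▸ hbw')
      obtain ⟨c, hc⟩ : u ∈ W w := h1 ▸ h2.symm ▸ hself u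
      have hvW : v ∈ W w := ⟨c - 1, by
        show ((c : AddMonoid.End (Additive T)) w) - w = v
        rw [show (c : AddMonoid.End (Additive T)) w = u from hc, hu, add_sub_cancel_right]⟩
      exact hinjW b w hbw' v hvW hv hbv
    obtain ⟨v₀, hv₀⟩ := exists_ne (0 : Additive T)
    haveI : Nontrivial B := ⟨⟨1, 0, fun e => hv₀ (DFunLike.congr_fun (congrArg Subtype.val e) v₀)⟩⟩
    haveI : NoZeroDivisors B := ⟨fun {b c} hbc => by
      by_cases hc : (c : AddMonoid.End (Additive T)) v₀ = 0
      · exact Or.inr (hfaith c v₀ hv₀ hc)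
      · exact Or.inl (hfaith b _ hc (DFunLike.congr_fun (congrArg Subtype.val hbc) v₀))⟩
    haveI : IsDomain B := NoZeroDivisors.to_isDomain B
    haveI : Finite (AddMonoid.End (Additive T)) :=
      Finite.of_injective (fun f : AddMonoid.End (Additive T) => (f : Additive T → Additive T)) DFunLike.coe_injective
    letI := Fintype.ofFinite B
    letI : Field B := Fintype.fieldOfDomain B
    have hpB : (p : B) = 0 := by
      refine Subtype.ext (AddMonoidHom.ext fun v => ?_)
      show ((p : B) : AddMonoid.End (Additive T)) v = 0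
      rw [SubringClass.coe_natCast, AddMonoid.End.natCast_apply]
      exact Additive.toMul.injective (Subtype.ext (by simpa using hTexp _ (Additive.toMul v).2))
    haveI : CharP B p := CharP.ringChar_of_prime_eq_zero hp hpB ▸ ringChar.charP B
    letI : Algebra (ZMod p) B := ZMod.algebra B p
    set ξ : B := ⟨X, hXB⟩
    have hξq : orderOf ξ = q := by
      refine orderOf_eq_prime ?_ fun e => ?_
      · refine Subtype.ext (AddMonoidHom.ext fun v => Additive.toMul.injective (Subtype.ext ?_))
        show ((Additive.toMul ((X ^ q) v) : T) : G) = (Additive.toMul v : T)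
        rw [hXpow, ← hx, pow_orderOf_eq_one]; group
      · have h1 := DFunLike.congr_fun (congrArg Subtype.val e) v₀
        have h2 := congrArg (fun z : Additive T => ((Additive.toMul z : T) : G)) h1
        change x * (Additive.toMul v₀ : T) * x⁻¹ = ((Additive.toMul v₀ : T) : G) at h2
        exact hfpf x hx _ (hTord _ (Additive.toMul v₀).2
          (fun e' => hv₀ (Additive.toMul.injective (Subtype.ext e')))) h2
    -- every unit modulo `q` is a power of `p`
    have hpow : ∀ i : ℕ, ¬ q ∣ i → ∃ j : ℕ, (i : ZMod q) = (p : ZMod q) ^ j := by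
      intro i hi
      have hxi : orderOf (x ^ i) = q := by
        rw [Nat.Coprime.orderOf_pow (by rw [hx]; exact (hq.coprime_iff_not_dvd).2 hi), hx]
      obtain ⟨a, ha⟩ := htr (x ^ i) x (hxi.trans hx.symm)
      obtain ⟨α, k, -, -, hB, hi'⟩ := hauto a
      choose τ hτ hτ' using fun b : B => hB b b.2
      have hτu : ∀ (b : B) (b' : AddMonoid.End (Additive T)), (∀ v, α ((b : AddMonoid.End (Additive T)) v) = b' (α v)) → τ b = b' := by
        intro b b' h
        refine AddMonoidHom.ext fun v => ?_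
        obtain ⟨w, rfl⟩ := α.surjective v
        exact (hτ' b w).symm.trans (h w)
      let τ' : B →ₐ[ZMod p] B :=
        { toFun := fun b => ⟨τ b, hτ b⟩
          map_one' := Subtype.ext (hτu 1 1 fun v => rfl)
          map_mul' := fun b c => Subtype.ext (hτu (b * c) (τ b * τ c) fun v => by
            show α ((b : AddMonoid.End (Additive T)) ((c : AddMonoid.End (Additive T)) v)) = τ b (τ c (α v))
            rw [hτ', hτ'])
          map_zero' := Subtype.ext (hτu 0 0 fun v => map_zero α)
          map_add' := fun b c => Subtype.ext (hτu (b + c) (τ b + τ c) fun v => by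
            show α ((b : AddMonoid.End (Additive T)) v + (c : AddMonoid.End (Additive T)) v) = τ b (α v) + τ c (α v)
            rw [map_add, hτ', hτ'])
          commutes' := fun r => by
            obtain ⟨m, rfl⟩ := ZMod.natCast_zmod_surjective r
            refine Subtype.ext (hτu _ _ fun v => ?_)
            rw [map_natCast, SubringClass.coe_natCast, AddMonoid.End.natCast_apply,
              AddMonoid.End.natCast_apply, map_nsmul] }
      haveI : Module.Finite (ZMod p) B := Module.Finite.of_finite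
      obtain ⟨⟨j, hjlt⟩, hj⟩ := (FiniteField.bijective_frobeniusAlgHom_pow (ZMod p) B).2 τ'
      have hfrob : ∀ (m : ℕ) (b : B), (FiniteField.frobeniusAlgHom (ZMod p) B ^ m) b = b ^ p ^ m := by
        intro m
        induction m with
        | zero => intro b; simp
        | succ m ih =>
          intro b
          rw [pow_succ, AlgHom.mul_apply, ih, FiniteField.coe_frobeniusAlgHom, ← pow_mul, ZMod.card, ← pow_succ']
      have h3 : ξ ^ i = ξ ^ p ^ j := by
        rw [← hfrob j ξ, show FiniteField.frobeniusAlgHom (ZMod p) B ^ j = τ' from hj]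
        exact Subtype.ext (hτu ξ (X ^ i) fun v => hi' i ha v).symm
      refine ⟨j, ?_⟩
      rw [(orderOf_pos_iff.1 (by rw [hξq]; exact hq.pos)).pow_eq_pow_iff_modEq, hξq] at h3
      rw [← Nat.cast_pow]
      exact (ZMod.natCast_eq_natCast_iff _ _ q).2 h3
    have hp0 : (p : ZMod q) ≠ 0 := fun h => hpq ((Nat.prime_dvd_prime_iff_eq hq hp).1 ((ZMod.natCast_eq_zero_iff _ _).1 h)).symm
    refine le_antisymm (Nat.le_of_dvd (by have := hq.two_le; omega) (ZMod.orderOf_dvd_card_sub_one hp0)) ?_
    have hsub : (Finset.univ : Finset (ZMod q)).erase 0 ⊆ (Finset.range (orderOf (p : ZMod q))).image ((p : ZMod q) ^ ·) := by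
      intro u hu
      obtain ⟨i, rfl⟩ := ZMod.natCast_zmod_surjective u
      have hu0 := (Finset.mem_erase.1 hu).1
      rw [Ne, ZMod.natCast_eq_zero_iff] at hu0
      obtain ⟨j, hj⟩ := hpow i hu0
      refine Finset.mem_image.2 ⟨j % orderOf (p : ZMod q), Finset.mem_range.2 (Nat.mod_lt _ ?_), ?_⟩
      · exact IsOfFinOrder.orderOf_pos (isOfFinOrder_iff_pow_eq_one.2 ⟨q - 1, by have := hq.two_le; omega, ZMod.pow_card_sub_one_eq_one hp0⟩)
      · show (p : ZMod q) ^ (j % orderOf (p : ZMod q)) = _
        rw [pow_mod_orderOf, hj]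
    have h := (Finset.card_le_card hsub).trans Finset.card_image_le
    rwa [Finset.card_erase_of_mem (Finset.mem_univ _), Finset.card_univ, ZMod.card, Finset.card_range] at h

/-- Let G be a finite group whose order is not a prime power. Then the automorphism group of G has exactly three orbits on G if and only if there are distinct primes p, q with #G = pⁿ·q (n ≥ 1) such that G has a normal elementary abelian Sylow p-subgroup P, p is a primitive root modulo q (the multiplicative order of p mod q is q − 1), and every element of order q of G acts on P without non-identity fixed points. -/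
theorem result {G : Type*} [Group G] [Finite G] (hnpp : ¬ IsPrimePow (Nat.card G)) (hnt : Nat.card G ≠ 1) :
    Nat.card (MulAction.orbitRel.Quotient (MulAut G) G) = 3 ↔
    ∃ (p q n : ℕ) (_ : Fact p.Prime) (_ : Fact q.Prime), p ≠ q ∧ 1 ≤ n ∧ Nat.card G = p ^ n * q ∧
      (∀ P : Sylow p G, (P : Subgroup G).Normal ∧ Cfsg.IsElementaryAbelian p (P : Subgroup G)) ∧
      orderOf (p : ZMod q) = q - 1 ∧
      ∀ x y : G, orderOf x = q → orderOf y = p → x * y * x⁻¹ ≠ y := by
  classical
  constructor
  · intro h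
    obtain ⟨p, q, hp, hq, hpq, hpG, hqG, hord, htr⟩ := orders_of_three hnpp hnt h
    haveI := Fact.mk hp
    haveI := Fact.mk hq
    haveI : Nontrivial G := Finite.one_lt_card_iff_nontrivial.1 (by have := Nat.card_pos (α := G); omega)
    have hsolv : Group.IsSolvable G := by
      refine CfsgLib.Char.isSolvable_of_card_eq_pow_mul_pow hp hq (a := Nat.card G) (b := Nat.card G) ?_
      refine (Nat.dvd_iff_prime_pow_dvd_dvd _ _).2 fun r k hr hrk => ?_
      rcases Nat.eq_zero_or_pos k with rfl | hk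
      · simp
      haveI := Fact.mk hr
      obtain ⟨g, hg⟩ := exists_prime_orderOf_dvd_card' (G := G) r ((dvd_pow_self r hk.ne').trans hrk)
      have hk' : k ≤ Nat.card G :=
        (Nat.le_of_lt (Nat.lt_pow_self hr.one_lt)).trans (Nat.le_of_dvd Nat.card_pos hrk)
      rcases hord g with h | h | h
      · rw [h, orderOf_one] at hg; exact absurd hg hr.ne_one.symm
      · rw [hg] at h; subst h; exact (pow_dvd_pow r hk').mul_right _
      · rw [hg] at h; subst h; exact (pow_dvd_pow r hk').mul_left _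
    obtain ⟨N, hN, hN1, hmin⟩ := CfsgLib.Solvable.exists_minimal_normal (G := G)
    haveI := hN
    obtain ⟨r, a, hr, ha, hNr, hNc⟩ := CfsgLib.Solvable.exists_pow_card_of_minimal_normal N hN1 hmin inferInstance
    haveI := Fact.mk hr
    obtain ⟨g, hg⟩ := exists_prime_orderOf_dvd_card' (G := N) r (by rw [hNc]; exact dvd_pow_self r ha.ne')
    rcases hord (g : G) with h' | h' | h'
    · rw [← Subgroup.orderOf_coe, h', orderOf_one] at hg; exact absurd hg hr.ne_one.symm
    · rw [Subgroup.orderOf_coe, hg] at h'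
      exact forward_of_normal hpq hpG hqG hord htr N (h' ▸ hNr) hN1
    · rw [Subgroup.orderOf_coe, hg] at h'
      exact forward_of_normal hpq.symm hqG hpG (fun g => (hord g).imp_right Or.symm) htr N (h' ▸ hNr) hN1
  · rintro ⟨p, q, n, hp', hq', hpq, hn, hcard, hP, hord, hfpf⟩
    have hp : p.Prime := hp'.out
    have hq : q.Prime := hq'.out
    obtain ⟨P⟩ := (inferInstance : Nonempty (Sylow p G))
    obtain ⟨hPn, hPc, hPp⟩ := hP P
    haveI := hPn
    have hcop : (p ^ n).Coprime q := ((Nat.coprime_primes hp hq).2 hpq).pow_left n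
    have hPcard : Nat.card (P : Subgroup G) = p ^ n := by
      refine Nat.dvd_antisymm ?_ (P.pow_dvd_card_of_pow_dvd_card (hcard ▸ Dvd.intro _ rfl))
      obtain ⟨i, hi⟩ := P.isPGroup'.exists_card_eq
      have := (Subgroup.card_subgroup_dvd_card (P : Subgroup G)).trans hcard.dvd
      rw [hi] at this ⊢
      exact (((Nat.coprime_primes hp hq).2 hpq).pow_left i).dvd_of_dvd_mul_right this
    have hpG : p ∣ Nat.card G := hcard ▸ (dvd_pow_self p (by omega)).mul_right q
    have hqG : q ∣ Nat.card G := hcard ▸ Dvd.intro_left _ rfl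
    obtain ⟨x, hx⟩ := exists_prime_orderOf_dvd_card' (G := G) q hqG
    have hc : Subgroup.IsComplement' (P : Subgroup G) (Subgroup.zpowers x) := by
      refine Subgroup.isComplement'_of_coprime ?_ ?_
      · rw [hPcard, Nat.card_zpowers, hx, hcard]
      · rw [hPcard, Nat.card_zpowers, hx]; exact hcop
    have hmem : ∀ g : G, orderOf g = p → g ∈ (P : Subgroup G) := fun g hg =>
      CfsgLib.FGS.mem_of_mem_normalizer P ⟨1, by rw [hg, pow_one]⟩
        (by rw [Subgroup.normalizer_eq_top_iff.2 hPn]; exact Subgroup.mem_top g)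
    have hords : ∀ g : G, g = 1 ∨ orderOf g = p ∨ orderOf g = q := by
      intro g
      obtain ⟨a, b, ⟨k, hk⟩, hb, hab, -⟩ := CfsgLib.FGS.exists_p_parts p g
      have hbq : orderOf (g ^ b) ∣ q := by
        refine (hb.pow_right n).dvd_of_dvd_mul_left ?_
        exact hcard ▸ orderOf_dvd_natCard _
      have ha : g ^ a ∈ (P : Subgroup G) := CfsgLib.FGS.mem_of_mem_normalizer P ⟨k, hk⟩
        (by rw [Subgroup.normalizer_eq_top_iff.2 hPn]; exact Subgroup.mem_top _)
      have hap : orderOf (g ^ a) ∣ p := orderOf_dvd_of_pow_eq_one (hPp _ ha)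
      rcases (Nat.dvd_prime hp).1 hap with h1 | h1
      · rw [orderOf_eq_one_iff.1 h1, one_mul] at hab
        rw [hab] at hbq
        rcases (Nat.dvd_prime hq).1 hbq with h2 | h2
        · exact Or.inl (orderOf_eq_one_iff.1 h2)
        · exact Or.inr (Or.inr h2)
      · rcases (Nat.dvd_prime hq).1 hbq with h2 | h2
        · rw [orderOf_eq_one_iff.1 h2, mul_one] at hab
          exact Or.inr (Or.inl (hab ▸ h1))
        · refine absurd ?_ (hfpf (g ^ b) (g ^ a) h2 h1)
          rw [(Commute.pow_pow_self g b a).eq, mul_inv_cancel_right]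
    have hfix : ∀ u ∈ (P : Subgroup G), x * u * x⁻¹ = u → u = 1 := by
      intro u hu he
      by_contra hu1
      rcases (Nat.dvd_prime hp).1 (orderOf_dvd_of_pow_eq_one (hPp u hu)) with h | h
      · exact hu1 (orderOf_eq_one_iff.1 h)
      · exact hfpf x u hx h he
    obtain ⟨hA, hB⟩ := CfsgLib.FGS.exists_mulAut_of_cyclotomic (p := p) (q := q) (P : Subgroup G)
      (fun u v => hPc.is_comm.comm u v) (fun u => Subtype.ext (by simpa using hPp u u.2)) hx hc hfix hord
    have hfromx : ∀ g : G, orderOf g = q → ∃ a : MulAut G, a x = g := by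
      intro g hg
      obtain ⟨Q, hQ⟩ := (CfsgLib.FGS.isPGroup_zpowers (p := q) (k := 1) (hx.trans (pow_one q).symm)).exists_le_sylow
      obtain ⟨S, hS⟩ := (CfsgLib.FGS.isPGroup_zpowers (p := q) (k := 1) (hg.trans (pow_one q).symm)).exists_le_sylow
      have hQx : (Q : Subgroup G) = Subgroup.zpowers x := by
        refine (Subgroup.eq_of_le_of_card_ge hQ ?_).symm
        obtain ⟨i, hi⟩ := Q.isPGroup'.exists_card_eq
        have h1 := (Subgroup.card_subgroup_dvd_card (Q : Subgroup G)).trans hcard.dvd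
        rw [hi] at h1 ⊢
        rw [Nat.card_zpowers, hx]
        exact Nat.le_of_dvd hq.pos ((((Nat.coprime_primes hq hp).2 hpq.symm).pow i n).dvd_of_dvd_mul_left h1)
      obtain ⟨c, hc'⟩ := MulAction.exists_smul_eq G Q S
      have h2 := hS (Subgroup.mem_zpowers g)
      rw [← hc', Sylow.coe_subgroup_smul, CfsgLib.FGS.mem_conj_smul, hQx, ← mem_powers_iff_mem_zpowers] at h2
      obtain ⟨i, hi⟩ := h2
      have hiq : ¬ q ∣ i := by
        rintro ⟨m, rfl⟩
        have h3 : x ^ (q * m) = c⁻¹ * g * c := hi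
        rw [pow_mul, ← hx, pow_orderOf_eq_one, one_pow] at h3
        have : g = 1 := by
          calc g = c * (c⁻¹ * g * c) * c⁻¹ := by group
            _ = 1 := by rw [← h3]; group
        rw [this, orderOf_one] at hg
        exact hq.ne_one hg.symm
      obtain ⟨a, ha⟩ := hA i hiq
      refine ⟨MulAut.conj c * a, ?_⟩
      rw [MulAut.mul_apply, ha, MulAut.conj_apply, show x ^ i = c⁻¹ * g * c from hi]
      group
    have htr : ∀ u v : G, orderOf u = orderOf v → ∃ a : MulAut G, a v = u := by
      intro u v huv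
      rcases hords u with rfl | h | h
      · exact ⟨1, by rw [orderOf_one] at huv; rw [orderOf_eq_one_iff.1 huv.symm]; rfl⟩
      · have hu1 : u ≠ 1 := by rintro rfl; rw [orderOf_one] at h; exact hp.ne_one h.symm
        have hv1 : v ≠ 1 := by rintro rfl; rw [huv, orderOf_one] at h; exact hp.ne_one h.symm
        obtain ⟨a, ha⟩ := hB ⟨v, hmem v (huv ▸ h)⟩ ⟨u, hmem u h⟩
          (fun e => hv1 (congrArg Subtype.val e)) (fun e => hu1 (congrArg Subtype.val e))
        exact ⟨a, ha⟩
      · obtain ⟨a, ha⟩ := hfromx u h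
        obtain ⟨b, hb⟩ := hfromx v (huv ▸ h)
        exact ⟨a * b⁻¹, by rw [MulAut.mul_apply, ← hb, MulAut.inv_apply, MulEquiv.symm_apply_apply, ha]⟩
    obtain ⟨y, hy⟩ := exists_prime_orderOf_dvd_card' (G := G) p hpG
    let f : Fin 3 → MulAction.orbitRel.Quotient (MulAut G) G :=
      ![Quotient.mk _ 1, Quotient.mk _ y, Quotient.mk _ x]
    have hne : ∀ u v : G, orderOf u ≠ orderOf v →
        (Quotient.mk (MulAction.orbitRel (MulAut G) G) u : MulAction.orbitRel.Quotient (MulAut G) G) ≠ Quotient.mk _ v := by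
      intro u v huv e
      obtain ⟨a, ha⟩ := orbit_mk_eq.1 e
      exact huv (ha ▸ orderOf_aut a v)
    have h01 := hne 1 y (by rw [orderOf_one, hy]; exact hp.ne_one.symm)
    have h02 := hne 1 x (by rw [orderOf_one, hx]; exact hq.ne_one.symm)
    have h12 := hne y x (by rw [hx, hy]; exact hpq)
    rw [← Nat.card_eq_of_bijective f ⟨?_, ?_⟩, Nat.card_fin]
    · intro i j hij
      fin_cases i <;> fin_cases j <;> simp [f, h01, h01.symm, h02, h02.symm, h12, h12.symm] at hij ⊢
    · intro z
      induction z using Quotient.inductionOn with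
      | h g =>
        rcases hords g with rfl | h | h
        · exact ⟨0, rfl⟩
        · exact ⟨1, orbit_mk_eq.2 (htr y g (hy.trans h.symm))⟩
        · exact ⟨2, orbit_mk_eq.2 (htr x g (hx.trans h.symm))⟩

end Cfsg.Agent.S4081
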