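import Cfsg.Statements.S4082
import Cfsg.Agent.Lib.FGS.PByCyclic

set_option autoImplicit false
open Cfsg

namespace Cfsg.Agent.S4082

/-- Let p be an odd prime and G a finite group with Sylow p-subgroup P. Say that G has restricted p-by-cyclic subgroups when every subgroup H of G whose Sylow p-subgroup is normal in H with cyclic quotient is itself cyclic or dihedral of order 2pⁿ for some n. Then G has restricted p-by-cyclic subgroups if and only if P is cyclic and one of the following holds: (1) N_G(P) = C_G(P); or (2) N_G(P)/C_G(P) has order 2 and, for the subgroup Q of order p of P, the centralizer C_G(Q) is abelian and every element of N_G(Q) outside C_G(Q) is an involution inverting every element of C_G(Q). -/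
theorem result {G : Type*} [Group G] [Finite G] {p : ℕ}
    [Fact p.Prime] (hp : p ≠ 2) (P : Sylow p G) :
    (∀ H : Subgroup G, (∀ S : Sylow p ↥H, (S : Subgroup ↥H).Normal) →
        (∀ (S : Sylow p ↥H) [(S : Subgroup ↥H).Normal], IsCyclic (↥H ⧸ (S : Subgroup ↥H))) →
        IsCyclic H ∨ (∃ n : ℕ, Nonempty (H ≃* DihedralGroup (p ^ n)))) ↔
    (IsCyclic P ∧
      (Subgroup.normalizer ((P : Subgroup G) : Set G) = Subgroup.centralizer ((P : Subgroup G) : Set G) ∨
       ((Subgroup.centralizer ((P : Subgroup G) : Set G)).relIndex (Subgroup.normalizer ((P : Subgroup G) : Set G)) = 2 ∧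
        ∀ Q : Subgroup G, Q ≤ P → Nat.card Q = p →
          IsMulCommutative ↥(Subgroup.centralizer (Q : Set G)) ∧
          ∀ x : G, x ∈ Subgroup.normalizer (Q : Set G) → x ∉ Subgroup.centralizer (Q : Set G) →
            orderOf x = 2 ∧ ∀ c : G, c ∈ Subgroup.centralizer (Q : Set G) → x * c * x⁻¹ = c⁻¹))) := by
  classical
  have hPp : IsPGroup p (P : Subgroup G) := P.2
  have hPnorm : ∀ u : G, u ∈ Subgroup.normalizer ((P : Subgroup G) : Set G) →
      (∃ k, orderOf u = p ^ k) → u ∈ (P : Subgroup G) := by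
    rintro u hu ⟨k, hk⟩
    have h1 : IsPGroup p ↥((P : Subgroup G) ⊔ Subgroup.zpowers u) :=
      hPp.to_sup_of_normal_left' (CfsgLib.FGS.isPGroup_zpowers hk) (Subgroup.zpowers_le.2 hu)
    exact (P.3 h1 le_sup_left).le (Subgroup.mem_sup_right (Subgroup.mem_zpowers u))
  constructor
  · intro hR
    have hcyc : IsCyclic (P : Subgroup G) := CfsgLib.FGS.PByCyclic.isCyclic_of_pGroup hp hR _ hPp
    refine ⟨hcyc, ?_⟩
    by_cases hNC : Subgroup.normalizer ((P : Subgroup G) : Set G) =
        Subgroup.centralizer ((P : Subgroup G) : Set G)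
    · exact Or.inl hNC
    right
    have hPc : ∀ a ∈ (P : Subgroup G), ∀ b ∈ (P : Subgroup G), a * b = b * a := fun a ha b hb =>
      congrArg Subtype.val ((IsCyclic.commGroup (α := (P : Subgroup G))).mul_comm ⟨a, ha⟩ ⟨b, hb⟩)
    -- every element of `N(P)` centralises or inverts
    have hinv : ∀ x ∈ Subgroup.normalizer ((P : Subgroup G) : Set G),
        x ∉ Subgroup.centralizer ((P : Subgroup G) : Set G) →
        ∀ a ∈ (P : Subgroup G), x * a * x⁻¹ = a⁻¹ := by
      intro x hx hxC
      obtain ⟨i, j, hi, hj, hij, -⟩ := CfsgLib.FGS.exists_p_parts p x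
      have huP := hPnorm _ (Subgroup.pow_mem _ hx i) hi
      rcases CfsgLib.FGS.PByCyclic.commute_or_invert hp hR _ hPp (Subgroup.pow_mem _ hx j) hj with h | ⟨-, h⟩
      · exfalso
        refine hxC (Subgroup.mem_centralizer_iff.2 fun a ha => ?_)
        rw [← hij, ← mul_assoc, hPc a ha _ huP, mul_assoc, ← h a ha, ← mul_assoc]
      · intro a ha
        rw [← hij, show x ^ i * x ^ j * a * (x ^ i * x ^ j)⁻¹ =
          x ^ i * (x ^ j * a * (x ^ j)⁻¹) * (x ^ i)⁻¹ by group, h a ha,
          hPc _ huP _ (inv_mem ha)]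
        group
    obtain ⟨x0, hx0, hx0C⟩ : ∃ x ∈ Subgroup.normalizer ((P : Subgroup G) : Set G),
        x ∉ Subgroup.centralizer ((P : Subgroup G) : Set G) := by
      by_contra h
      push Not at h
      exact hNC (le_antisymm h (Subgroup.centralizer_le_normalizer _))
    refine ⟨?_, ?_⟩
    · rw [Subgroup.relIndex, Subgroup.index_eq_two_iff]
      refine ⟨⟨x0, hx0⟩, fun b => ?_⟩
      simp only [Subgroup.mem_subgroupOf, Subgroup.coe_mul]
      by_cases hb : (b : G) ∈ Subgroup.centralizer ((P : Subgroup G) : Set G)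
      · exact Or.inr ⟨hb, fun h => hx0C ((Subgroup.mul_mem_cancel_left _ hb).1 h)⟩
      · refine Or.inl ⟨Subgroup.mem_centralizer_iff.2 fun a ha => ?_, hb⟩
        have h2 : (b : G) * x0 * a * ((b : G) * x0)⁻¹ = a := by
          rw [show (b : G) * x0 * a * ((b : G) * x0)⁻¹ = b * (x0 * a * x0⁻¹) * (b : G)⁻¹ by group,
            hinv x0 hx0 hx0C a ha, hinv b b.2 hb _ (inv_mem ha), inv_inv]
        exact ((mul_inv_eq_iff_eq_mul).1 h2).symm
    intro Q hQP hQc
    have hQp : IsPGroup p Q := hPp.to_le hQP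
    obtain ⟨⟨q, hqQ⟩, hqo⟩ := exists_prime_orderOf_dvd_card' (G := Q) p (hQc ▸ dvd_rfl)
    rw [Subgroup.orderOf_mk] at hqo
    -- elements outside the centralizer are involutions
    have hinvol : ∀ x : G, x ∈ Subgroup.normalizer (Q : Set G) →
        x ∉ Subgroup.centralizer (Q : Set G) → orderOf x = 2 := by
      intro x hx hxC
      obtain ⟨i, j, hi, hj, hij, -⟩ := CfsgLib.FGS.exists_p_parts p x
      obtain ⟨k, hk⟩ := hi
      have huQ : ∀ s ∈ Q, x ^ i * s = s * x ^ i := by
        intro s hs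
        have hu : x ^ i ∈ Subgroup.normalizer (Q : Set G) := Subgroup.pow_mem _ hx i
        set H := Q ⊔ Subgroup.zpowers (x ^ i)
        have hHp : IsPGroup p H :=
          hQp.to_sup_of_normal_left' (CfsgLib.FGS.isPGroup_zpowers hk) (Subgroup.zpowers_le.2 hu)
        have hHc := CfsgLib.FGS.PByCyclic.isCyclic_of_pGroup hp hR H hHp
        exact congrArg Subtype.val ((IsCyclic.commGroup (α := H)).mul_comm
          ⟨_, Subgroup.mem_sup_right (Subgroup.mem_zpowers _)⟩ ⟨s, Subgroup.mem_sup_left hs⟩)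
      have hu : x ^ i ∈ Subgroup.normalizer (Q : Set G) := Subgroup.pow_mem _ hx i
      have hS0 : IsPGroup p ↥(Q ⊔ Subgroup.zpowers (x ^ i)) :=
        hQp.to_sup_of_normal_left' (CfsgLib.FGS.isPGroup_zpowers hk) (Subgroup.zpowers_le.2 hu)
      have hcomm : Commute (x ^ j) (x ^ i) := (Commute.refl x).pow_pow j i
      have hyN : x ^ j ∈ Subgroup.normalizer ((Q ⊔ Subgroup.zpowers (x ^ i) : Subgroup G) : Set G) := by
        refine CfsgLib.FGS.PByCyclic.mem_normalizer_of_conj fun s hs => ?_
        have hle : (Q ⊔ Subgroup.zpowers (x ^ i)).map (MulAut.conj (x ^ j)).toMonoidHom ≤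
            Q ⊔ Subgroup.zpowers (x ^ i) := by
          rw [Subgroup.map_sup, sup_le_iff, MonoidHom.map_zpowers, Subgroup.zpowers_le]
          refine ⟨?_, ?_⟩
          · rintro _ ⟨t, ht, rfl⟩
            exact Subgroup.mem_sup_left ((Subgroup.mem_normalizer_iff.1
              (Subgroup.pow_mem _ hx j) t).1 ht)
          · refine Subgroup.mem_sup_right ?_
            show x ^ j * x ^ i * (x ^ j)⁻¹ ∈ _
            rw [hcomm.eq, mul_inv_cancel_right]
            exact Subgroup.mem_zpowers _
        exact hle ⟨s, hs, rfl⟩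
      rcases CfsgLib.FGS.PByCyclic.commute_or_invert hp hR _ hS0 hyN hj with h | ⟨h2, h⟩
      · exfalso
        refine hxC (Subgroup.mem_centralizer_iff.2 fun s hs => ?_)
        rw [← hij, ← mul_assoc, ← huQ s hs, mul_assoc, ← h s (Subgroup.mem_sup_left hs), ← mul_assoc]
      · have h1 := h _ (Subgroup.mem_sup_right (Subgroup.mem_zpowers (x ^ i)))
        rw [hcomm.eq, mul_inv_cancel_right] at h1
        have hu1 : x ^ i = 1 := by
          by_contra hne
          have h3 : (x ^ i) ^ 2 = 1 := by rw [pow_two]; nth_rewrite 2 [h1]; exact mul_inv_cancel _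
          have h4 := orderOf_dvd_of_pow_eq_one h3
          rw [hk] at h4
          rcases k with _ | k
          · exact hne (orderOf_eq_one_iff.1 (by rw [hk, pow_zero]))
          · exact hp ((Nat.prime_dvd_prime_iff_eq (Fact.out : p.Prime) Nat.prime_two).1
              ((dvd_pow_self p (Nat.succ_ne_zero k)).trans h4))
        rw [← hij, hu1, one_mul]
        exact h2
    have hx0Q : x0 ∈ Subgroup.normalizer (Q : Set G) ∧ x0 ∉ Subgroup.centralizer (Q : Set G) := by
      refine ⟨CfsgLib.FGS.PByCyclic.mem_normalizer_of_conj fun s hs => ?_, fun h => ?_⟩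
      · rw [hinv x0 hx0 hx0C s (hQP hs)]
        exact Q.inv_mem hs
      · have h1 := hinv x0 hx0 hx0C q (hQP hqQ)
        rw [← Subgroup.mem_centralizer_iff.1 h q hqQ, mul_inv_cancel_right] at h1
        exact CfsgLib.FGS.PByCyclic.ne_inv_of_orderOf_eq hp hqo h1
    have hxinv : ∀ x : G, x ∈ Subgroup.normalizer (Q : Set G) →
        x ∉ Subgroup.centralizer (Q : Set G) →
        ∀ c : G, c ∈ Subgroup.centralizer (Q : Set G) → x * c * x⁻¹ = c⁻¹ := by
      intro x hx hxC c hc
      have h1 : orderOf (x * c) = 2 := hinvol _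
        (mul_mem hx (Subgroup.centralizer_le_normalizer _ hc))
        (fun h => hxC ((Subgroup.mul_mem_cancel_right _ hc).1 h))
      have h2 : orderOf x = 2 := hinvol x hx hxC
      have h3 := pow_orderOf_eq_one (x * c)
      have h4 := pow_orderOf_eq_one x
      rw [h1, pow_two] at h3
      rw [h2, pow_two] at h4
      rw [inv_eq_of_mul_eq_one_right h4]
      calc x * c * x = x * c * (x * c) * c⁻¹ := by group
        _ = c⁻¹ := by rw [h3, one_mul]
    refine ⟨⟨⟨fun a b => Subtype.ext ?_⟩⟩, fun x hx hxC => ⟨hinvol x hx hxC, hxinv x hx hxC⟩⟩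
    have ha := hxinv x0 hx0Q.1 hx0Q.2 a a.2
    have hb := hxinv x0 hx0Q.1 hx0Q.2 b b.2
    have hab := hxinv x0 hx0Q.1 hx0Q.2 _ (mul_mem a.2 b.2)
    rw [show x0 * ((a : G) * b) * x0⁻¹ = (x0 * a * x0⁻¹) * (x0 * b * x0⁻¹) by group, ha, hb,
      ← mul_inv_rev, inv_inj] at hab
    exact hab.symm
  · rintro ⟨hcyc, hcase⟩ H hnorm hquot
    obtain ⟨S⟩ := (inferInstance : Nonempty (Sylow p H))
    haveI := hnorm S
    obtain ⟨ξ, hξ⟩ := (hquot S).exists_generator
    obtain ⟨⟨h, hh⟩, rfl⟩ := QuotientGroup.mk'_surjective (S : Subgroup H) ξ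
    obtain ⟨i, j, hi, hj, hij, -⟩ := CfsgLib.FGS.exists_p_parts p (⟨h, hh⟩ : H)
    obtain ⟨k, hk⟩ := hi
    set u : H := (⟨h, hh⟩ : H) ^ i
    set y : H := (⟨h, hh⟩ : H) ^ j with hy
    have huS : u ∈ (S : Subgroup H) := by
      have h1 : IsPGroup p ↥((S : Subgroup H) ⊔ Subgroup.zpowers u) :=
        S.2.to_sup_of_normal_left (CfsgLib.FGS.isPGroup_zpowers hk)
      exact (S.3 h1 le_sup_left).le (Subgroup.mem_sup_right (Subgroup.mem_zpowers u))
    let S0 : Subgroup G := (S : Subgroup H).map H.subtype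
    have hS0p : IsPGroup p S0 := S.2.map _
    have hHgen : H = S0 ⊔ Subgroup.zpowers (y : G) := by
      refine le_antisymm (fun g hg => ?_) (sup_le (Subgroup.map_subtype_le _)
        (Subgroup.zpowers_le.2 y.2))
      obtain ⟨m, hm⟩ := Subgroup.mem_zpowers_iff.1 (hξ (QuotientGroup.mk' _ ⟨g, hg⟩))
      have hmem : (⟨h, hh⟩ : H) ∈ (S : Subgroup H) ⊔ Subgroup.zpowers y := by
        rw [← hij]
        exact mul_mem (Subgroup.mem_sup_left huS) (Subgroup.mem_sup_right (Subgroup.mem_zpowers y))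
      have h2 : (⟨g, hg⟩ : H) ∈ (S : Subgroup H) ⊔ Subgroup.zpowers y := by
        rw [← map_zpow] at hm
        have := QuotientGroup.eq.1 hm
        have h3 := mul_mem (Subgroup.zpow_mem _ hmem m) (Subgroup.mem_sup_left
          (T := Subgroup.zpowers y) this)
        rwa [mul_inv_cancel_left] at h3
      have h4 : g ∈ ((S : Subgroup H) ⊔ Subgroup.zpowers y).map H.subtype := ⟨_, h2, rfl⟩
      rwa [Subgroup.map_sup, MonoidHom.map_zpowers] at h4
    have hyN : (y : G) ∈ Subgroup.normalizer (S0 : Set G) := by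
      refine CfsgLib.FGS.PByCyclic.mem_normalizer_of_conj fun s hs => ?_
      obtain ⟨s', hs', rfl⟩ := hs
      exact ⟨_, (hnorm S).conj_mem s' hs' y, by simp⟩
    have hyo : (orderOf (y : G)).Coprime p := by rw [Subgroup.orderOf_coe]; exact hj
    obtain ⟨P', hP'⟩ := hS0p.exists_le_sylow
    obtain ⟨g, hg⟩ := MulAction.exists_smul_eq G P' P
    let φ : G ≃* G := MulAut.conj g
    have hφP : ∀ s ∈ S0, φ s ∈ (P : Subgroup G) := by
      intro s hs
      have h1 : g * s * g⁻¹ ∈ ((g • P' : Sylow p G) : Subgroup G) := ⟨s, hP' hs, rfl⟩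
      rw [hg] at h1
      exact h1
    haveI hS0c : IsCyclic S0 := by
      haveI := hcyc
      exact isCyclic_of_injective ((φ.toMonoidHom.comp S0.subtype).codRestrict (P : Subgroup G)
        (fun s => hφP s s.2)) (fun a b hab => Subtype.ext (φ.injective (congrArg Subtype.val hab)))
    by_cases hc0 : ∀ s ∈ S0, (y : G) * s = s * y
    · left
      rw [hHgen]
      exact CfsgLib.FGS.PByCyclic.isCyclic_sup_zpowers S0 hS0p inferInstance hyo hc0
    have hS0ne : S0 ≠ ⊥ := by
      intro hb
      refine hc0 fun s hs => ?_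
      rw [hb, Subgroup.mem_bot] at hs
      simp [hs]
    obtain ⟨m, hm⟩ := IsPGroup.iff_card.1 hS0p
    have hd : p ∣ Nat.card S0 := by
      rcases m with _ | m
      · rw [pow_zero, Subgroup.card_eq_one] at hm; exact absurd hm hS0ne
      · rw [hm]; exact dvd_pow_self p (Nat.succ_ne_zero m)
    obtain ⟨⟨q, hqS⟩, hqo⟩ := exists_prime_orderOf_dvd_card' (G := S0) p hd
    rw [Subgroup.orderOf_mk] at hqo
    have hqfix : (y : G) * q * (y : G)⁻¹ ≠ q := fun hfix =>
      hc0 (CfsgLib.FGS.PByCyclic.commute_of_fix_omega S0 hS0p inferInstance hyN hyo hqS hqo hfix)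
    let Q : Subgroup G := Subgroup.zpowers (φ q)
    have hQP : Q ≤ P := Subgroup.zpowers_le.2 (hφP q hqS)
    have hQc : Nat.card Q = p := by rw [Nat.card_zpowers, MulEquiv.orderOf_eq, hqo]
    have hyQC : φ y ∉ Subgroup.centralizer (Q : Set G) := by
      intro h
      have h1 := Subgroup.mem_centralizer_iff.1 h (φ q) (Subgroup.mem_zpowers _)
      rw [← map_mul, ← map_mul] at h1
      exact hqfix (by rw [← φ.injective h1, mul_inv_cancel_right])
    have hyQN : φ y ∈ Subgroup.normalizer (Q : Set G) := by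
      have hqy : (y : G) * q * (y : G)⁻¹ ∈ Subgroup.zpowers q :=
        CfsgLib.FGS.PByCyclic.conj_mem_zpowers_of_cyclic S0 hS0c hyN hqS
      rw [Subgroup.mem_normalizer_iff]
      have hmap : Q.map (MulAut.conj (φ y)).toMonoidHom = Q := by
        refine Subgroup.eq_of_le_of_card_ge ?_ (by
          rw [Subgroup.card_map_of_injective (MulAut.conj (φ (y : G))).injective])
        rw [MonoidHom.map_zpowers, Subgroup.zpowers_le]
        show φ y * φ q * (φ y)⁻¹ ∈ Q
        rw [← map_mul, ← map_inv, ← map_mul]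
        obtain ⟨i, hi⟩ := Subgroup.mem_zpowers_iff.1 hqy
        rw [← hi, map_zpow]
        exact Subgroup.zpow_mem _ (Subgroup.mem_zpowers _) i
      intro z
      constructor
      · intro hz
        rw [← hmap]
        exact ⟨z, hz, rfl⟩
      · intro hz
        rw [← hmap] at hz
        obtain ⟨z', hz', he⟩ := hz
        exact (MulAut.conj (φ (y : G))).injective he ▸ hz'
    rcases hcase with hNC | ⟨-, hQ⟩
    · exfalso
      -- Frattini argument inside `C(Q)`
      have hPC : (P : Subgroup G) ≤ Subgroup.centralizer (Q : Set G) := fun a ha =>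
        Subgroup.mem_centralizer_iff.2 fun b hb => by
          haveI := hcyc
          exact congrArg Subtype.val
            ((IsCyclic.commGroup (α := (P : Subgroup G))).mul_comm ⟨b, hQP hb⟩ ⟨a, ha⟩)
      obtain ⟨c, hc, hcN⟩ := CfsgLib.FGS.PByCyclic.exists_mul_mem_normalizer P (K := Subgroup.centralizer (Q : Set G))
        hPC (a := φ y) (CfsgLib.FGS.PByCyclic.mem_normalizer_of_conj fun s hs => Subgroup.mem_centralizer_iff.2 fun b hb => (by
          have hb' := (Subgroup.mem_normalizer_iff''.1 hyQN b).1 hb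
          have h1 := Subgroup.mem_centralizer_iff.1 hs _ hb'
          calc b * (φ y * s * (φ y)⁻¹) = φ y * ((φ y)⁻¹ * b * φ y * s) * (φ y)⁻¹ := by group
            _ = φ y * (s * ((φ y)⁻¹ * b * φ y)) * (φ y)⁻¹ := by rw [h1]
            _ = φ y * s * (φ y)⁻¹ * b := by group))
      rw [hNC] at hcN
      exact hyQC ((Subgroup.mul_mem_cancel_left _ hc).1
        (Subgroup.centralizer_le (SetLike.coe_subset_coe.2 hQP) hcN))
    · obtain ⟨-, hall⟩ := hQ Q hQP hQc
      obtain ⟨h2, hinv⟩ := hall _ hyQN hyQC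
      rw [MulEquiv.orderOf_eq] at h2
      right
      rw [hHgen]
      refine CfsgLib.FGS.PByCyclic.dihedral_sup_zpowers hp S0 hS0p inferInstance h2 fun s hs => φ.injective ?_
      rw [map_mul, map_mul, map_inv, map_inv]
      refine hinv _ (Subgroup.mem_centralizer_iff.2 fun b hb => ?_)
      haveI := hcyc
      exact congrArg Subtype.val
        ((IsCyclic.commGroup (α := (P : Subgroup G))).mul_comm ⟨b, hQP hb⟩ ⟨φ s, hφP s hs⟩)

end Cfsg.Agent.S4082
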