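import Cfsg.Statements.S4084
import Mathlib.GroupTheory.Sylow

set_option autoImplicit false
open Cfsg

namespace Cfsg.Agent.S4084

/-- Adjacency in the prime graph is read off from maximal commuting sets. -/
theorem key {G H : Type*} [Group G] [Finite G] [Group H] [Finite H] (e : G ≃ H)
    (he : ∀ x y : G, Commute x y ↔ Commute (e x) (e y))
    {p q : ℕ} (hp : p.Prime) (hq : q.Prime) (hpq : p ≠ q) (h : ∃ g : G, orderOf g = p * q) :
    ∃ h : H, orderOf h = p * q := by
  obtain ⟨g, hg⟩ := h
  have hg0 : ∀ a ∈ Subgroup.zpowers g, ∀ b ∈ Subgroup.zpowers g, Commute a b := by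
    rintro a ⟨i, rfl⟩ b ⟨j, rfl⟩
    exact ((Commute.refl g).zpow_left i).zpow_right j
  obtain ⟨A, hgA, hA⟩ := Set.Finite.exists_le_maximal
    (Set.toFinite {A : Subgroup G | ∀ a ∈ A, ∀ b ∈ A, Commute a b}) (a := Subgroup.zpowers g) hg0
  -- `A` is its own centralizer
  have hcen : ∀ x : G, (∀ a ∈ A, Commute x a) → x ∈ A := by
    intro x hx
    let S : Set G := insert x (A : Set G)
    have hS : ∀ a ∈ S, ∀ b ∈ S, Commute a b := by
      rintro a (rfl | ha) b (rfl | hb)
      · exact Commute.refl _
      · exact hx b hb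
      · exact (hx a ha).symm
      · exact hA.1 a ha b hb
    have hclo : ∀ a ∈ Subgroup.closure S, ∀ b ∈ Subgroup.closure S, Commute a b := by
      intro a ha b hb
      induction ha, hb using Subgroup.closure_induction₂ with
      | mem u v hu hv => exact hS u hu v hv
      | one_left => exact Commute.one_left _
      | one_right => exact Commute.one_right _
      | mul_left _ _ _ _ _ _ h1 h2 => exact h1.mul_left h2
      | mul_right _ _ _ _ _ _ h1 h2 => exact h1.mul_right h2
      | inv_left _ _ _ _ h1 => exact h1.inv_left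
      | inv_right _ _ _ _ h1 => exact h1.inv_right
    exact hA.2 hclo (fun a ha => Subgroup.subset_closure (Set.mem_insert_of_mem _ ha))
      (Subgroup.subset_closure (Set.mem_insert _ _))
  let B : Subgroup H := Subgroup.centralizer (e '' (A : Set G))
  have hB : (B : Set H) = e '' (A : Set G) := by
    ext y
    constructor
    · intro hy
      refine ⟨e.symm y, hcen _ fun a ha => ?_, e.apply_symm_apply y⟩
      rw [he, e.apply_symm_apply]
      exact (Subgroup.mem_centralizer_iff.1 hy _ ⟨a, ha, rfl⟩).symm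
    · rintro ⟨a, ha, rfl⟩
      rw [SetLike.mem_coe, Subgroup.mem_centralizer_iff]
      rintro _ ⟨b, hb, rfl⟩
      exact ((he b a).1 (hA.1 b hb a ha)).eq
  have hcard : Nat.card B = Nat.card A :=
    (Nat.card_congr (Equiv.setCongr hB)).trans (Nat.card_image_of_injective e.injective _)
  have hdvd : p * q ∣ Nat.card B := by
    rw [hcard, ← hg]
    exact Subgroup.orderOf_coe (⟨g, hgA (Subgroup.mem_zpowers g)⟩ : A) ▸ orderOf_dvd_natCard _
  haveI := Fact.mk hp
  haveI := Fact.mk hq
  obtain ⟨u, hu⟩ := exists_prime_orderOf_dvd_card' p (dvd_trans (Dvd.intro q rfl) hdvd)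
  obtain ⟨v, hv⟩ := exists_prime_orderOf_dvd_card' q (dvd_trans (Dvd.intro_left p rfl) hdvd)
  obtain ⟨a, ha, hau⟩ := (hB ▸ u.2 : (u : H) ∈ e '' (A : Set G))
  obtain ⟨b, hb, hbv⟩ := (hB ▸ v.2 : (v : H) ∈ e '' (A : Set G))
  have hc : Commute (u : H) (v : H) := hau ▸ hbv ▸ (he a b).1 (hA.1 a ha b hb)
  refine ⟨(u : H) * v, ?_⟩
  rw [hc.orderOf_mul_eq_mul_orderOf_of_coprime, Subgroup.orderOf_coe, Subgroup.orderOf_coe, hu, hv]
  rw [Subgroup.orderOf_coe, Subgroup.orderOf_coe, hu, hv]
  exact (Nat.coprime_primes hp hq).2 hpq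


/-- Let G and H be finite groups whose commuting graphs are isomorphic: there is a bijection e : G → H with x, y commuting exactly when e(x), e(y) commute. Then G and H have the same prime graph: for distinct primes p, q, G has an element of order pq if and only if H does (and #G = #H, so the prime divisors agree). -/
theorem result {G H : Type*} [Group G] [Finite G] [Group H] [Finite H] (e : G ≃ H)
    (he : ∀ x y : G, Commute x y ↔ Commute (e x) (e y))
    {p q : ℕ} (hp : p.Prime) (hq : q.Prime) (hpq : p ≠ q) :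
    (∃ g : G, orderOf g = p * q) ↔ (∃ h : H, orderOf h = p * q) := by
  exact ⟨fun h => key e he hp hq hpq h, fun h => key e.symm (fun x y => by
    have := he (e.symm x) (e.symm y)
    rw [Equiv.apply_symm_apply, Equiv.apply_symm_apply] at this
    exact this.symm) hp hq hpq h⟩

end Cfsg.Agent.S4084
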