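import Cfsg.Statements.S4086
import Mathlib.GroupTheory.SpecificGroups.Cyclic
import Mathlib.Algebra.IsPrimePow

set_option autoImplicit false
open Cfsg

namespace Cfsg.Agent.S4086

/-- For a finite group G the following are equivalent: every non-identity element has prime-power order; whenever two elements generate a cyclic subgroup, one of them is a power of the other (the enhanced power graph of G coincides with its power graph). -/
theorem result {G : Type*} [Group G] [Finite G] :
    (∀ g : G, g ≠ 1 → IsPrimePow (orderOf g)) ↔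
    (∀ x y : G, IsCyclic ↥(Subgroup.closure ({x, y} : Set G)) → (x ∈ Subgroup.zpowers y ∨ y ∈ Subgroup.zpowers x)) := by
  classical
  constructor
  · intro h x y hc
    obtain ⟨c, hc'⟩ := hc.exists_generator
    set g : G := (c : G)
    have hx : x ∈ Subgroup.zpowers g := by
      obtain ⟨k, hk⟩ := hc' ⟨x, Subgroup.subset_closure (Set.mem_insert _ _)⟩
      exact ⟨k, congrArg Subtype.val hk⟩
    have hy : y ∈ Subgroup.zpowers g := by
      obtain ⟨k, hk⟩ := hc' ⟨y, Subgroup.subset_closure (Set.mem_insert_of_mem _ rfl)⟩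
      exact ⟨k, congrArg Subtype.val hk⟩
    by_cases hg : g = 1
    · left
      rw [hg, Subgroup.zpowers_one_eq_bot, Subgroup.mem_bot] at hx
      rw [hx]; exact one_mem _
    obtain ⟨p, n, hp, -, hpn⟩ := (isPrimePow_nat_iff _).1 (h g hg)
    have key : ∀ a b : G, a ∈ Subgroup.zpowers g → b ∈ Subgroup.zpowers g →
        Nat.card (Subgroup.zpowers a) ∣ Nat.card (Subgroup.zpowers b) → a ∈ Subgroup.zpowers b := by
      intro a b ha hb hd
      haveI := Fintype.ofFinite G
      haveI := Fintype.ofFinite (Subgroup.zpowers g)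
      let a' : Subgroup.zpowers g := ⟨a, ha⟩
      let b' : Subgroup.zpowers g := ⟨b, hb⟩
      rw [Nat.card_zpowers, Nat.card_zpowers] at hd
      have hsub : (Finset.univ.filter (fun x => x ∈ Subgroup.zpowers b')) ⊆
          Finset.univ.filter (fun x : Subgroup.zpowers g => x ^ orderOf b = 1) := by
        intro x hx
        simp only [Finset.mem_filter, Finset.mem_univ, true_and] at hx ⊢
        obtain ⟨k, rfl⟩ := hx
        rw [← zpow_natCast, ← zpow_mul, mul_comm, zpow_mul, zpow_natCast,
          ← Subgroup.orderOf_mk b hb, pow_orderOf_eq_one, one_zpow]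
      have heq := Finset.eq_of_subset_of_card_le hsub (by
        refine (IsCyclic.card_pow_eq_one_le (orderOf_pos b)).trans (le_of_eq ?_)
        rw [← Fintype.card_subtype, ← Nat.card_eq_fintype_card, Nat.card_zpowers,
          Subgroup.orderOf_mk])
      have hmem : a' ∈ Finset.univ.filter (fun x : Subgroup.zpowers g => x ^ orderOf b = 1) := by
        simp only [Finset.mem_filter, Finset.mem_univ, true_and]
        exact orderOf_dvd_iff_pow_eq_one.1 (by rwa [Subgroup.orderOf_mk])
      rw [← heq] at hmem
      simp only [Finset.mem_filter, Finset.mem_univ, true_and] at hmem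
      obtain ⟨k, hk⟩ := hmem
      exact ⟨k, congrArg Subtype.val hk⟩
    have hdiv : ∀ a ∈ Subgroup.zpowers g, ∃ i ≤ n, Nat.card (Subgroup.zpowers a) = p ^ i := by
      intro a ha
      refine (Nat.dvd_prime_pow hp).1 ?_
      rw [hpn, ← Nat.card_zpowers]
      exact Subgroup.card_dvd_of_le (Subgroup.zpowers_le.2 ha)
    obtain ⟨i, -, hi⟩ := hdiv x hx
    obtain ⟨j, -, hj⟩ := hdiv y hy
    rcases le_total i j with hij | hij
    · exact Or.inl (key x y hx hy (hi ▸ hj ▸ pow_dvd_pow p hij))
    · exact Or.inr (key y x hy hx (hi ▸ hj ▸ pow_dvd_pow p hij))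
  · intro h g hg
    have hne : orderOf g ≠ 1 := fun e => hg (orderOf_eq_one_iff.1 e)
    obtain ⟨p, hp, hpd⟩ := Nat.exists_prime_and_dvd hne
    refine (isPrimePow_nat_iff _).2 ⟨p, (orderOf g).primeFactorsList.length, hp, ?_, ?_⟩
    · by_contra h0
      have : (orderOf g).primeFactorsList = [] := List.eq_nil_of_length_eq_zero (by omega)
      have hm := (Nat.mem_primeFactorsList (orderOf_pos g).ne').2 ⟨hp, hpd⟩
      rw [this] at hm
      simp at hm
    refine (Nat.eq_prime_pow_of_unique_prime_dvd (orderOf_pos g).ne' fun {q} hq hqd => ?_).symm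
    set u := g ^ (orderOf g / p)
    set v := g ^ (orderOf g / q)
    have hu : orderOf u = p := orderOf_pow_orderOf_div (orderOf_pos g).ne' hpd
    have hv : orderOf v = q := orderOf_pow_orderOf_div (orderOf_pos g).ne' hqd
    have hle : Subgroup.closure ({u, v} : Set G) ≤ Subgroup.zpowers g := by
      rw [Subgroup.closure_le]
      rintro _ (rfl | rfl) <;> exact Subgroup.npow_mem_zpowers _ _
    rcases h u v (Subgroup.isCyclic_of_le hle) with huv | huv
    · have := Subgroup.card_dvd_of_le (Subgroup.zpowers_le.2 huv)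
      rw [Nat.card_zpowers, Nat.card_zpowers, hu, hv] at this
      exact ((Nat.prime_dvd_prime_iff_eq hp hq).1 this).symm
    · have := Subgroup.card_dvd_of_le (Subgroup.zpowers_le.2 huv)
      rw [Nat.card_zpowers, Nat.card_zpowers, hu, hv] at this
      exact (Nat.prime_dvd_prime_iff_eq hq hp).1 this

end Cfsg.Agent.S4086
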