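import Cfsg.Statements.S4089
import Cfsg.Agent.Lib.Cores.Coprime
import Cfsg.Agent.Lib.PGroup.Wielandt
import Mathlib

set_option autoImplicit false
open Cfsg

namespace Cfsg.Agent.S4089

open Subgroup

variable {G : Type*} [Group G] [Finite G] {p : ℕ} [Fact p.Prime]

/-- The `p`-core of the normalizer. -/
abbrev Oc (p : ℕ) (R : Subgroup G) : Subgroup G :=
  (Cfsg.pCore p ↥(Subgroup.normalizer (R : Set G))).map
    (Subgroup.normalizer (R : Set G)).subtype

theorem le_core (R : Subgroup G) (hR : IsPGroup p R) : R ≤ Oc p R := by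
  intro x hx
  refine ⟨⟨x, le_normalizer hx⟩, ?_, rfl⟩
  have : (R.subgroupOf (normalizer (R : Set G))).Normal := normal_in_normalizer
  exact CfsgLib.Cores.le_pCore (N := R.subgroupOf (normalizer (R : Set G))) hR.comap_subtype (show (⟨x, le_normalizer hx⟩ :
    normalizer (R : Set G)) ∈ R.subgroupOf _ from hx)

theorem normalizer_le_core (R : Subgroup G) :
    normalizer (R : Set G) ≤ normalizer ((Oc p R : Subgroup G) : Set G) := by
  intro g hg
  rw [Subgroup.mem_normalizer_iff]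
  have key : ∀ a : normalizer (R : Set G), ∀ y, y ∈ (Oc p R) → (a : G) * y * (a : G)⁻¹ ∈ (Oc p R) := by
    rintro a _ ⟨y, hy, rfl⟩
    have : (Cfsg.pCore p ↥(normalizer (R : Set G))).Normal := @normal_of_characteristic _ _ _
      (CfsgLib.Cores.pCore_characteristic p)
    exact ⟨a * y * a⁻¹, this.conj_mem y hy a, rfl⟩
  intro y
  refine ⟨key ⟨g, hg⟩ y, fun hy => ?_⟩
  have := key ⟨g⁻¹, inv_mem hg⟩ _ hy
  rwa [show g⁻¹ * (g * y * g⁻¹) * g⁻¹⁻¹ = y by group] at this

/-- `g` lies in the normalizer of some radical `p`-subgroup containing `H`. -/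
def Rad (p : ℕ) (H : Subgroup G) (g : G) : Prop :=
  ∃ R : Subgroup G, H ≤ R ∧ (Oc p R) = R ∧ g ∈ normalizer (R : Set G)

theorem subnormal_iff (H : Subgroup G) (hH : IsPGroup p H) (g : G) :
    ((H).subgroupOf (H ⊔ zpowers g)).IsSubnormal ↔ Rad p H g := by
  constructor
  · intro hs
    set L := H ⊔ zpowers g with hL
    have hle : H.subgroupOf L ≤ Cfsg.pCore p L :=
      CfsgLib.Cores.le_pCore_of_isSubnormal hs hH.comap_subtype
    set R₀ := (Cfsg.pCore p L).map L.subtype with hR₀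
    have hR₀p : IsPGroup p R₀ := (CfsgLib.Cores.isPGroup_pCore p).map _
    have hHR : H ≤ R₀ := fun x hx =>
      ⟨⟨x, mem_sup_left hx⟩, hle (show (⟨x, mem_sup_left hx⟩ : L) ∈ H.subgroupOf L from hx), rfl⟩
    have hgR : g ∈ normalizer (R₀ : Set G) := by
      have hn : (Cfsg.pCore p L).Normal := @normal_of_characteristic _ _ _
        (CfsgLib.Cores.pCore_characteristic p)
      rw [Subgroup.mem_normalizer_iff]
      have key : ∀ a : L, ∀ y, y ∈ R₀ → (a : G) * y * (a : G)⁻¹ ∈ R₀ := by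
        rintro a _ ⟨y, hy, rfl⟩
        exact ⟨a * y * a⁻¹, hn.conj_mem y hy a, rfl⟩
      intro y
      refine ⟨key ⟨g, mem_sup_right (mem_zpowers g)⟩ y, fun hy => ?_⟩
      have := key ⟨g⁻¹, inv_mem (mem_sup_right (mem_zpowers g))⟩ _ hy
      rwa [show g⁻¹ * (g * y * g⁻¹) * g⁻¹⁻¹ = y by group] at this
    obtain ⟨R, -, hmax⟩ := (Set.toFinite {R : Subgroup G | IsPGroup p R ∧ H ≤ R ∧
      g ∈ normalizer (R : Set G)}).exists_le_maximal (a := R₀) ⟨hR₀p, hHR, hgR⟩
    obtain ⟨hRp, hHR', hgR'⟩ := hmax.1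
    refine ⟨R, hHR', le_antisymm (hmax.2 ⟨(CfsgLib.Cores.isPGroup_pCore p).map _,
      hHR'.trans (le_core R hRp), normalizer_le_core R hgR'⟩ (le_core R hRp)) (le_core R hRp), hgR'⟩
  · rintro ⟨R, hHR, hRad, hg⟩
    have hRp : IsPGroup p R := hRad ▸ (CfsgLib.Cores.isPGroup_pCore p).map _
    set L := H ⊔ zpowers g with hL
    have hLN : L ≤ normalizer (R : Set G) := sup_le (hHR.trans le_normalizer) (zpowers_le.2 hg)
    have hn : (R.subgroupOf L).Normal := normal_subgroupOf_of_le_normalizer hLN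
    refine IsSubnormal.trans (K := R.subgroupOf L) (fun x hx => hHR hx) ?_ hn.isSubnormal
    have : Group.IsNilpotent (R.subgroupOf L) :=
      (hRp.comap_subtype (K := L)).isNilpotent
    exact CfsgLib.PGroup.isSubnormal_of_isNilpotent _

/-- The intersection of the Sylow subgroups containing `H` lies in every radical subgroup
containing `H`. -/
theorem inter_le (H R : Subgroup G) (hHR : H ≤ R) (hRad : (Oc p R) = R) :
    sInf {K : Subgroup G | ∃ Q : Sylow p G, H ≤ (Q : Subgroup G) ∧ K = (Q : Subgroup G)} ≤ R := by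
  set I := sInf {K : Subgroup G | ∃ Q : Sylow p G, H ≤ (Q : Subgroup G) ∧ K = (Q : Subgroup G)}
    with hI
  have hRp : IsPGroup p R := hRad ▸ (CfsgLib.Cores.isPGroup_pCore p).map _
  set J := sInf {K : Subgroup G | ∃ Q : Sylow p G, R ≤ (Q : Subgroup G) ∧ K = (Q : Subgroup G)}
    with hJ
  have hIJ : I ≤ J := le_sInf fun K ⟨Q, hQ, hK⟩ => sInf_le ⟨Q, hHR.trans hQ, hK⟩
  have hRJ : R ≤ J := le_sInf fun K ⟨Q, hQ, hK⟩ => hK ▸ hQ
  obtain ⟨Q₁, hQ₁⟩ := hRp.exists_le_sylow
  have hJp : IsPGroup p J := Q₁.isPGroup'.to_le (sInf_le ⟨Q₁, hQ₁, rfl⟩)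
  refine hIJ.trans ?_
  by_contra hJR
  have hlt : R.subgroupOf J < ⊤ := lt_top_iff_ne_top.2 fun h => hJR (subgroupOf_eq_top.1 h)
  have : Group.IsNilpotent J := hJp.isNilpotent
  obtain ⟨⟨a, haJ⟩, haN, haR⟩ := SetLike.exists_of_lt
    (Group.normalizerCondition_of_isNilpotent _ hlt)
  have haN' : a ∈ normalizer (R : Set G) := by
    rw [Subgroup.mem_normalizer_iff] at haN ⊢
    intro x
    by_cases hx : x ∈ J
    · exact haN ⟨x, hx⟩
    · refine ⟨fun h => absurd (hRJ h) hx, fun h => absurd ?_ hx⟩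
      have := mul_mem (mul_mem (inv_mem haJ) (hRJ h)) haJ
      rwa [show a⁻¹ * (a * x * a⁻¹) * a = x by group] at this
  refine haR (show a ∈ R from ?_)
  rw [← hRad]
  refine ⟨⟨a, haN'⟩, ?_, rfl⟩
  -- a lies in every Sylow subgroup of the normalizer
  set N := normalizer (R : Set G) with hN
  set Kc : Subgroup N := ⨅ S : Sylow p N, (S : Subgroup N) with hKc
  have hKn : Kc.Normal := ⟨fun y hy b => by
    rw [hKc, mem_iInf] at hy ⊢
    intro S
    have h1 := hy (b⁻¹ • S)
    rw [Sylow.coe_subgroup_smul, Subgroup.mem_pointwise_smul_iff_inv_smul_mem] at h1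
    simpa [MulAut.smul_def] using h1⟩
  have hKp : IsPGroup p Kc := by
    obtain ⟨S⟩ := (inferInstance : Nonempty (Sylow p N))
    exact S.isPGroup'.to_le (iInf_le _ S)
  refine CfsgLib.Cores.le_pCore (hn := hKn) hKp ?_
  rw [hKc, mem_iInf]
  intro S
  obtain ⟨Q, hQ⟩ := (S.isPGroup'.map N.subtype).exists_le_sylow
  have hRQ : R ≤ (Q : Subgroup G) := by
    refine le_trans (hRad.ge) (le_trans (map_mono ?_) hQ)
    exact CfsgLib.Cores.pCore_le_sylow S
  have haQ : a ∈ (Q : Subgroup G) := (sInf_le ⟨Q, hRQ, rfl⟩ : J ≤ _) haJ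
  have hle : ((Q : Subgroup G).subgroupOf N) ≤ (S : Subgroup N) :=
    (S.is_maximal' Q.isPGroup'.comap_subtype fun y hy => hQ ⟨y, hy, rfl⟩).le
  exact hle haQ


/-- Let G be a finite group, p a prime and H a p-subgroup of G. Then the set of elements g of G such that H is subnormal in the subgroup generated by H and g is the union of the normalizers N_G(R) over the subgroups R of G containing H with R = O_p(N_G(R)); and this set does not change when H is replaced by the intersection of all Sylow p-subgroups of G containing H. -/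
theorem result {G : Type*} [Group G] [Finite G] (p : ℕ) [Fact p.Prime]
    (H : Subgroup G) (hH : IsPGroup p H) :
    {g : G | ((H).subgroupOf (H ⊔ Subgroup.zpowers g)).IsSubnormal} =
      {g : G | ∃ R : Subgroup G, H ≤ R ∧ (Cfsg.pCore p (Subgroup.normalizer (R : Set G))).map (Subgroup.normalizer (R : Set G)).subtype = R ∧ g ∈ Subgroup.normalizer (R : Set G)} ∧
    ∀ g : G, (((H).subgroupOf (H ⊔ Subgroup.zpowers g)).IsSubnormal ↔
      (((sInf {K : Subgroup G | ∃ Q : Sylow p G, H ≤ (Q : Subgroup G) ∧ K = (Q : Subgroup G)})).subgroupOf ((sInf {K : Subgroup G | ∃ Q : Sylow p G, H ≤ (Q : Subgroup G) ∧ K = (Q : Subgroup G)}) ⊔ Subgroup.zpowers g)).IsSubnormal) := by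
  refine ⟨?_, fun g => ?_⟩
  · ext g
    exact subnormal_iff H hH g
  · set I := sInf {K : Subgroup G | ∃ Q : Sylow p G, H ≤ (Q : Subgroup G) ∧ K = (Q : Subgroup G)}
      with hI
    obtain ⟨Q, hQ⟩ := hH.exists_le_sylow
    have hIp : IsPGroup p I := Q.isPGroup'.to_le (sInf_le ⟨Q, hQ, rfl⟩)
    have hHI : H ≤ I := le_sInf fun K ⟨Q, hQ, hK⟩ => hK ▸ hQ
    rw [subnormal_iff H hH g, subnormal_iff I hIp g]
    constructor
    · rintro ⟨R, hHR, hRad, hg⟩
      exact ⟨R, inter_le H R hHR hRad, hRad, hg⟩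
    · rintro ⟨R, hIR, hRad, hg⟩
      exact ⟨R, hHI.trans hIR, hRad, hg⟩

end Cfsg.Agent.S4089
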