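import Cfsg.Statements.S4092
import Cfsg.Agent.Lib.FGS.Basics
import Mathlib.GroupTheory.Nilpotent
import Mathlib.Tactic.Linarith
import Mathlib.Tactic.Ring

set_option autoImplicit false
open Cfsg

namespace Cfsg.Agent.S4092

/-- Let G be a finite group, p a prime and P a Sylow p-subgroup of G that is not normal in G. Then G has at least p·#P elements of p-power order (the identity included). -/
theorem result {G : Type*} [Group G] [Finite G] (p : ℕ) [Fact p.Prime]
    (P : Sylow p G) (hP : ¬ (P : Subgroup G).Normal) :
    p * Nat.card (P : Subgroup G) ≤ Nat.card {g : G // ∃ k : ℕ, orderOf g = p ^ k} := by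
  classical
  haveI := Fintype.ofFinite G
  set a := Nat.card (P : Subgroup G) with ha
  have hcardS : ∀ R : Sylow p G, Nat.card (R : Subgroup G) = a := fun R =>
    R.card_eq_multiplicity.trans P.card_eq_multiplicity.symm
  obtain ⟨e, he⟩ : ∃ e, a = p ^ e := P.isPGroup'.exists_card_eq
  -- Frobenius
  have hdvd : a ∣ Nat.card {g : G // ∃ k : ℕ, orderOf g = p ^ k} := by
    have heq : Nat.card {g : G // ∃ k : ℕ, orderOf g = p ^ k} = Nat.card {g : G // g ^ a = 1} := by
      refine Nat.card_congr (Equiv.subtypeEquivRight fun g => ⟨?_, fun h => ?_⟩)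
      · rintro ⟨k, hk⟩
        obtain ⟨R, hR⟩ := (CfsgLib.FGS.isPGroup_zpowers hk).exists_le_sylow
        rw [← hcardS R, ← orderOf_dvd_iff_pow_eq_one]
        exact Subgroup.orderOf_dvd_natCard _ (hR (Subgroup.mem_zpowers g))
      · obtain ⟨k, -, hk⟩ := (Nat.dvd_prime_pow (Fact.out : p.Prime)).1
          (he ▸ orderOf_dvd_of_pow_eq_one h)
        exact ⟨k, hk⟩
    rw [heq]
    exact CfsgLib.FGS.dvd_card_pow_eq_one _ le_rfl a (P : Subgroup G).card_subgroup_dvd_card
  suffices hlt : (p - 1) * a < Nat.card {g : G // ∃ k : ℕ, orderOf g = p ^ k} by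
    obtain ⟨c, hc⟩ := hdvd
    rw [hc, mul_comm (p - 1) a] at hlt
    have : p - 1 < c := lt_of_mul_lt_mul_left hlt (Nat.zero_le _)
    rw [hc, mul_comm p a]
    exact Nat.mul_le_mul_left _ (by omega)
  -- finite unions of Sylow subgroups
  let f : Sylow p G → Finset G := fun R => (Finset.univ : Finset G).filter (· ∈ (R : Subgroup G))
  have hf : ∀ R, (f R).card = a := by
    intro R
    rw [← hcardS R, Nat.card_eq_fintype_card]
    exact (Fintype.card_subtype _).symm
  have hinter : ∀ R R' : Sylow p G, (f R ∩ f R').card = Nat.card ↥((R : Subgroup G) ⊓ (R' : Subgroup G)) := by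
    intro R R'
    rw [Nat.card_eq_fintype_card, ← Finset.filter_and]
    exact (Fintype.card_of_subtype _ (fun x => by simp)).symm
  have hU : ∀ s : Finset (Sylow p G), (s.biUnion f).card ≤ Nat.card {g : G // ∃ k : ℕ, orderOf g = p ^ k} := by
    intro s
    rw [Nat.card_eq_fintype_card, Fintype.card_subtype]
    refine Finset.card_le_card fun g hg => ?_
    obtain ⟨R, -, hgR⟩ := Finset.mem_biUnion.1 hg
    obtain ⟨k, hk⟩ := IsPGroup.iff_orderOf.1 R.isPGroup' ⟨g, (Finset.mem_filter.1 hgR).2⟩
    exact Finset.mem_filter.2 ⟨Finset.mem_univ g, k, by rw [← hk, Subgroup.orderOf_mk]⟩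
  have hproper : ∀ R R' : Sylow p G, R ≠ R' → Nat.card ↥((R : Subgroup G) ⊓ (R' : Subgroup G)) * p ∣ a := by
    intro R R' hne
    have h1 : Nat.card ↥((R : Subgroup G) ⊓ (R' : Subgroup G)) ∣ p ^ e := by
      rw [← he, ← hcardS R]; exact Subgroup.card_dvd_of_le inf_le_left
    obtain ⟨i, hi, hcard⟩ := (Nat.dvd_prime_pow (Fact.out : p.Prime)).1 h1
    have hne' : i ≠ e := by
      rintro rfl
      have hle : (R : Subgroup G) ≤ R' := by
        rw [← inf_eq_left]
        exact Subgroup.eq_of_le_of_card_ge inf_le_left (by rw [hcardS R, he, hcard])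
      exact hne (Sylow.ext (R.is_maximal' R'.isPGroup' hle).symm)
    rw [hcard, ← pow_succ, he]
    exact pow_dvd_pow p (by omega)
  have hp2 : 2 ≤ p := (Fact.out : p.Prime).two_le
  have ha0 : 0 < a := Nat.card_pos
  by_cases hA : ∀ R R' : Sylow p G, R ≠ R' →
      Nat.card ↥((R : Subgroup G) ⊓ (R' : Subgroup G)) * (p * p) ≤ a
  · haveI := Fintype.ofFinite (Sylow p G)
    have hn : p ≤ (Finset.univ : Finset (Sylow p G)).card := by
      rw [Finset.card_univ, ← Nat.card_eq_fintype_card]
      have h1 : Nat.card (Sylow p G) % p = 1 % p := card_sylow_modEq_one p G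
      have hne : Nat.card (Sylow p G) ≠ 1 := by
        intro h
        haveI : Subsingleton (Sylow p G) := (Nat.card_eq_one_iff_unique.1 h).1
        exact hP (Sylow.normal_of_subsingleton P)
      rw [Nat.mod_eq_of_lt (by omega : 1 < p)] at h1
      by_contra hlt
      rw [Nat.mod_eq_of_lt (by omega)] at h1
      exact hne h1
    obtain ⟨s, -, hs⟩ := Finset.exists_subset_card_eq hn
    have key : ∀ t : Finset (Sylow p G),
        2 * (p * p) * (t.card * a) ≤ 2 * (p * p) * (t.biUnion f).card + t.card * (t.card - 1) * a := by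
      intro t
      induction t using Finset.induction with
      | empty => simp
      | @insert R t hR ih =>
        rw [Finset.biUnion_insert, Finset.card_insert_of_notMem hR]
        have h1 := Finset.card_union_add_card_inter (f R) (t.biUnion f)
        have h2 : (f R ∩ t.biUnion f).card * (p * p) ≤ t.card * a := by
          rw [Finset.inter_biUnion]
          refine (Nat.mul_le_mul_right _ Finset.card_biUnion_le).trans ?_
          rw [Finset.sum_mul]
          refine (Finset.sum_le_card_nsmul _ _ a fun R' hR' => ?_).trans (le_of_eq (smul_eq_mul _ _))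
          rw [hinter]
          exact hA R R' fun e => hR (e ▸ hR')
        have h3 : (t.card + 1) * (t.card + 1 - 1) = t.card * (t.card - 1) + 2 * t.card := by
          rcases t.card with _ | m <;> simp <;> ring
        rw [h3, hf] at *
        nlinarith
    have h := key s
    rw [hs] at h
    have := hU s
    obtain ⟨q, rfl⟩ : ∃ q, p = q + 1 := ⟨p - 1, by omega⟩
    simp only [Nat.add_sub_cancel] at h ⊢
    nlinarith
  · push_neg at hA
    obtain ⟨R, R', hne, hlt⟩ := hA
    set D := (R : Subgroup G) ⊓ (R' : Subgroup G) with hD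
    have hDp : Nat.card D * p = a := by
      obtain ⟨c, hc⟩ := hproper R R' hne
      rw [hc]
      have hclt : c < p := by
        rw [hc, mul_assoc] at hlt
        exact lt_of_mul_lt_mul_left (lt_of_mul_lt_mul_left hlt (Nat.zero_le _)) (Nat.zero_le _)
      have hc1 : c ∣ p ^ e := by rw [← he, hc]; exact Dvd.intro_left _ rfl
      obtain ⟨i, -, rfl⟩ := (Nat.dvd_prime_pow (Fact.out : p.Prime)).1 hc1
      rcases Nat.eq_zero_or_pos i with rfl | hi
      · rw [pow_zero, mul_one]
      · exact absurd (Nat.le_self_pow hi.ne' p) (not_le.2 hclt)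
    have hDN : ∀ T : Sylow p G, D ≤ T → (T : Subgroup G) ≤ Subgroup.normalizer (D : Set G) := by
      intro T hT
      haveI : Group.IsNilpotent (T : Subgroup G) := T.isPGroup'.isNilpotent
      have hcT : Nat.card (D.subgroupOf (T : Subgroup G)) = Nat.card D :=
        Nat.card_congr (Subgroup.subgroupOfEquivOfLe hT).toEquiv
      have hlt' : D.subgroupOf (T : Subgroup G) < ⊤ := lt_of_le_of_ne le_top fun e => by
        have h := congrArg (fun H : Subgroup (T : Subgroup G) => Nat.card H) e
        simp only [Subgroup.card_top, hcT, hcardS T] at h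
        rw [h] at hDp
        exact absurd hDp (Nat.ne_of_gt (lt_mul_of_one_lt_right ha0 (by omega)))
      set N := Subgroup.normalizer ((D.subgroupOf (T : Subgroup G) : Subgroup (T : Subgroup G)) : Set (T : Subgroup G))
      have h2 := Group.normalizerCondition_of_isNilpotent (D.subgroupOf (T : Subgroup G)) hlt'
      have hNtop : N = ⊤ := by
        refine Subgroup.eq_top_of_le_card _ ?_
        obtain ⟨i, hi, hNi⟩ := (Nat.dvd_prime_pow (Fact.out : p.Prime)).1
          (he ▸ hcardS T ▸ Subgroup.card_subgroup_dvd_card N)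
        rw [hcardS T, ← hDp, ← hcT]
        obtain ⟨c, hc⟩ := Subgroup.card_dvd_of_le h2.le
        have hc1 : c ≠ 1 := fun e => h2.ne (Subgroup.eq_of_le_of_card_ge h2.le (by rw [hc, e, mul_one]))
        have hcd : c ∣ p ^ i := hNi ▸ hc ▸ Dvd.intro_left _ rfl
        obtain ⟨j, -, rfl⟩ := (Nat.dvd_prime_pow (Fact.out : p.Prime)).1 hcd
        rw [hc]
        exact Nat.mul_le_mul_left _ (Nat.le_self_pow (by rintro rfl; exact hc1 (pow_zero p)) p)
      intro t ht
      have htN : (⟨t, ht⟩ : (T : Subgroup G)) ∈ N := hNtop ▸ Subgroup.mem_top _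
      refine Subgroup.mem_normalizer_iff.2 fun d => ⟨fun hd => ?_, fun hd => ?_⟩
      · exact (Subgroup.mem_normalizer_iff.1 htN ⟨d, hT hd⟩).1 hd
      · have hdT : d ∈ (T : Subgroup G) := by
          simpa [mul_assoc] using mul_mem (mul_mem (inv_mem ht) (hT hd)) ht
        exact (Subgroup.mem_normalizer_iff.1 htN ⟨d, hdT⟩).2 hd
    set M := Subgroup.normalizer (D : Set G) with hM
    have hR := hDN R inf_le_left
    have hR' := hDN R' inf_le_right
    have hDM : ∀ S : Sylow p M, D ≤ (S : Subgroup M).map M.subtype := by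
      intro S
      haveI : (D.subgroupOf M).Normal := Subgroup.normal_in_normalizer
      have hDpg : IsPGroup p (D.subgroupOf M) :=
        (R.isPGroup'.to_le inf_le_left).comap_of_injective _ M.subtype_injective
      have hp' := S.isPGroup'.to_sup_of_normal_right hDpg
      intro d hd
      refine ⟨⟨d, Subgroup.le_normalizer hd⟩, ?_, rfl⟩
      exact (S.is_maximal' hp' le_sup_left).le (le_sup_right (a := (S : Subgroup M))
        (show (⟨d, Subgroup.le_normalizer hd⟩ : M) ∈ D.subgroupOf M from hd))
    have hScard : ∀ S : Sylow p M, Nat.card ((S : Subgroup M).map M.subtype) = a := by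
      intro S
      rw [Subgroup.card_map_of_injective M.subtype_injective,
        S.card_eq_multiplicity.trans (R.subtype hR).card_eq_multiplicity.symm, ← hcardS R]
      exact Nat.card_congr (Subgroup.subgroupOfEquivOfLe hR).toEquiv
    let ι : Sylow p M → Sylow p G := fun S =>
      Sylow.ofCard ((S : Subgroup M).map M.subtype) (by rw [hScard S]; exact P.card_eq_multiplicity)
    have hι : Function.Injective ι := fun S S' h => Sylow.ext
      (Subgroup.map_injective M.subtype_injective (congrArg Sylow.toSubgroup h))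
    haveI := Fintype.ofFinite (Sylow p M)
    have hn : p + 1 ≤ (Finset.univ.image ι).card := by
      rw [Finset.card_image_of_injective _ hι, Finset.card_univ, ← Nat.card_eq_fintype_card]
      have h1 : Nat.card (Sylow p M) % p = 1 % p := card_sylow_modEq_one p M
      have hne1 : Nat.card (Sylow p M) ≠ 1 := by
        intro h
        haveI : Subsingleton (Sylow p M) := (Nat.card_eq_one_iff_unique.1 h).1
        refine hne (Sylow.ext (le_antisymm (fun x hx => ?_) fun x hx => ?_))
        · have := congrArg Sylow.toSubgroup (Subsingleton.elim (R.subtype hR) (R'.subtype hR'))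
          exact this.le (show (⟨x, hR hx⟩ : M) ∈ (R.subtype hR : Subgroup M) from hx)
        · have := congrArg Sylow.toSubgroup (Subsingleton.elim (R'.subtype hR') (R.subtype hR))
          exact this.le (show (⟨x, hR' hx⟩ : M) ∈ (R'.subtype hR' : Subgroup M) from hx)
      rw [Nat.mod_eq_of_lt (by omega : 1 < p)] at h1
      by_contra hlt
      rcases Nat.lt_or_ge (Nat.card (Sylow p M)) p with h | h
      · rw [Nat.mod_eq_of_lt h] at h1; exact hne1 h1
      · rw [show Nat.card (Sylow p M) = p by omega, Nat.mod_self] at h1; omega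
    obtain ⟨s, hs, hscard⟩ := Finset.exists_subset_card_eq hn
    have hDs : ∀ T ∈ s, D ≤ (T : Subgroup G) := by
      intro T hT
      obtain ⟨S, -, rfl⟩ := Finset.mem_image.1 (hs hT)
      exact hDM S
    have key : ∀ t : Finset (Sylow p G), (∀ T ∈ t, D ≤ (T : Subgroup G)) →
        t.card * a ≤ (t.biUnion f).card + (t.card - 1) * Nat.card D := by
      intro t
      induction t using Finset.induction with
      | empty => simp
      | @insert T t hT ih =>
        intro hall
        rw [Finset.biUnion_insert, Finset.card_insert_of_notMem hT]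
        have ih' := ih fun U hU => hall U (Finset.mem_insert_of_mem hU)
        rcases Nat.eq_zero_or_pos t.card with h0 | h0
        · rw [Finset.card_eq_zero.1 h0]; simp [hf]
        · have h1 := Finset.card_union_add_card_inter (f T) (t.biUnion f)
          have h2 : (f T ∩ t.biUnion f).card ≤ Nat.card D := by
            rw [Nat.card_eq_fintype_card, Fintype.card_subtype]
            refine Finset.card_le_card fun x hx => Finset.mem_filter.2 ⟨Finset.mem_univ x, ?_⟩
            obtain ⟨hxT, hxU⟩ := Finset.mem_inter.1 hx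
            obtain ⟨U, hU, hxU'⟩ := Finset.mem_biUnion.1 hxU
            have hTU : T ≠ U := fun e => hT (e ▸ hU)
            have hle : D ≤ (T : Subgroup G) ⊓ (U : Subgroup G) :=
              le_inf (hall T (Finset.mem_insert_self T t)) (hall U (Finset.mem_insert_of_mem hU))
            have heq : D = (T : Subgroup G) ⊓ (U : Subgroup G) := by
              refine Subgroup.eq_of_le_of_card_ge hle ?_
              exact Nat.le_of_mul_le_mul_right ((Nat.le_of_dvd ha0 (hproper T U hTU)).trans hDp.ge) (by omega)
            rw [heq]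
            exact ⟨(Finset.mem_filter.1 hxT).2, (Finset.mem_filter.1 hxU').2⟩
          rw [hf] at h1
          obtain ⟨m, hm⟩ : ∃ m, t.card = m + 1 := ⟨t.card - 1, by omega⟩
          rw [hm] at ih' ⊢
          simp only [Nat.add_sub_cancel] at ih' ⊢
          nlinarith
    have h := key s hDs
    rw [hscard, Nat.add_sub_cancel, ← hDp] at h
    have h4 := hU s
    have h5 : 0 < Nat.card D := Nat.card_pos
    obtain ⟨q, rfl⟩ : ∃ q, p = q + 1 := ⟨p - 1, by omega⟩
    simp only [Nat.add_sub_cancel]
    rw [← hDp]
    nlinarith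

end Cfsg.Agent.S4092
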