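import Cfsg.Statements.S4093
import Cfsg.Agent.Lib.FGS.Basics
import Mathlib.GroupTheory.Complement

set_option autoImplicit false
open scoped BigOperators
open Cfsg

namespace Cfsg.Agent.S4093

/-- Let G be a finite group with a normal subgroup N complementing a Sylow p-subgroup P (a normal p-complement). Then the number of elements of G of p-power order equals the sum over x ∈ P of the index of C_N(x) in N. -/
theorem result {G : Type*} [Group G] [Finite G] (p : ℕ) [Fact p.Prime]
    (P : Sylow p G) (N : Subgroup G) [N.Normal] (hNP : N.IsComplement' (P : Subgroup G)) :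
    Nat.card {g : G // ∃ k : ℕ, orderOf g = p ^ k} =
      ∑ᶠ x : (P : Subgroup G), Nat.card N / Nat.card ↥(N ⊓ Subgroup.centralizer ({(x : G)} : Set G)) := by
  classical
  set C : ↥(P : Subgroup G) → Subgroup N := fun x =>
    (Subgroup.centralizer ({(x : G)} : Set G)).subgroupOf N
  have hC : ∀ x : (P : Subgroup G),
      Nat.card N / Nat.card ↥(N ⊓ Subgroup.centralizer ({(x : G)} : Set G)) = Nat.card (N ⧸ C x) := by
    intro x
    have e1 : Nat.card ↥(N ⊓ Subgroup.centralizer ({(x : G)} : Set G)) = Nat.card (C x) := by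
      rw [inf_comm]
      exact Nat.card_congr ((Subgroup.equivMapOfInjective (C x) N.subtype N.subtype_injective).trans
        (MulEquiv.subgroupCongr (by simp [C]))).toEquiv.symm
    rw [e1, Subgroup.card_eq_card_quotient_mul_card_subgroup (C x), Nat.mul_div_cancel _ Nat.card_pos]
  let F : (Σ x : (P : Subgroup G), N ⧸ C x) → {g : G // ∃ k : ℕ, orderOf g = p ^ k} := fun z =>
    ⟨(z.2.out : G) * (z.1 : G) * ((z.2.out : N) : G)⁻¹, by
      obtain ⟨k, hk⟩ := IsPGroup.iff_orderOf.1 P.isPGroup' z.1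
      refine ⟨k, ?_⟩
      rw [show (z.2.out : G) * (z.1 : G) * ((z.2.out : N) : G)⁻¹ = MulAut.conj (z.2.out : G) (z.1 : G) from rfl,
        MulEquiv.orderOf_eq, Subgroup.orderOf_coe, hk]⟩
  have huniq : ∀ a b : N, ∀ x y : (P : Subgroup G),
      (a : G) * x * (a : G)⁻¹ = (b : G) * y * (b : G)⁻¹ → x = y := by
    intro a b x y e
    have hmem : (x : G) * (y : G)⁻¹ ∈ N ⊓ (P : Subgroup G) := by
      refine Subgroup.mem_inf.2 ⟨?_, mul_mem x.2 (inv_mem y.2)⟩
      have hx : (x : G) * (y : G)⁻¹ = ((a : G)⁻¹ * b) * ((y : G) * ((b : G)⁻¹ * a) * (y : G)⁻¹) := by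
        rw [show (x : G) = (a : G)⁻¹ * ((a : G) * x * (a : G)⁻¹) * a by group, e]
        group
      rw [hx]
      exact mul_mem (mul_mem (inv_mem a.2) b.2)
        (Subgroup.Normal.conj_mem ‹N.Normal› _ (mul_mem (inv_mem b.2) a.2) _)
    rw [hNP.disjoint.eq_bot, Subgroup.mem_bot, mul_inv_eq_one] at hmem
    exact Subtype.ext hmem
  have hF : Function.Bijective F := by
    constructor
    · rintro ⟨x, a⟩ ⟨y, b⟩ hab
      have e : (a.out : G) * x * ((a.out : N) : G)⁻¹ = (b.out : G) * y * ((b.out : N) : G)⁻¹ :=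
        congrArg Subtype.val hab
      obtain rfl := huniq _ _ x y e
      congr 1
      rw [← QuotientGroup.out_eq' a, ← QuotientGroup.out_eq' b, QuotientGroup.eq]
      show ((a.out)⁻¹ * b.out : N) ∈ C x
      rw [Subgroup.mem_subgroupOf, Subgroup.mem_centralizer_singleton_iff]
      push_cast
      calc ((a.out : N) : G)⁻¹ * b.out * x
          = ((a.out : N) : G)⁻¹ * ((b.out : G) * x * ((b.out : N) : G)⁻¹) * b.out := by group
        _ = (x : G) * (((a.out : N) : G)⁻¹ * b.out) := by rw [← e]; group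
    · rintro ⟨g, k, hk⟩
      obtain ⟨S, hS⟩ := (CfsgLib.FGS.isPGroup_zpowers hk).exists_le_sylow
      obtain ⟨c, hc⟩ := MulAction.exists_smul_eq G P S
      have hg : c⁻¹ * g * c ∈ (P : Subgroup G) := by
        have := hS (Subgroup.mem_zpowers g)
        rwa [← hc, Sylow.coe_subgroup_smul, CfsgLib.FGS.mem_conj_smul] at this
      obtain ⟨⟨⟨n, hn⟩, ⟨u, hu⟩⟩, hnu⟩ := hNP.2 c
      have hnu' : n * u = c := hnu
      have hg' : n⁻¹ * g * n ∈ (P : Subgroup G) := by
        have := mul_mem (mul_mem hu hg) (inv_mem hu)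
        rw [← hnu'] at this
        convert this using 1
        group
      refine ⟨⟨⟨_, hg'⟩, QuotientGroup.mk (⟨n, hn⟩ : N)⟩, Subtype.ext ?_⟩
      obtain ⟨w, hw⟩ := QuotientGroup.mk_out_eq_mul (C ⟨_, hg'⟩) ⟨n, hn⟩
      show ((Quotient.out _ : N) : G) * (n⁻¹ * g * n) * ((Quotient.out _ : N) : G)⁻¹ = g
      rw [hw]
      have h2 := Subgroup.mem_centralizer_singleton_iff.1 (Subgroup.mem_subgroupOf.1 w.2)
      push_cast
      calc n * ((w : N) : G) * (n⁻¹ * g * n) * (n * ((w : N) : G))⁻¹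
          = n * (((w : N) : G) * (n⁻¹ * g * n)) * ((w : N) : G)⁻¹ * n⁻¹ := by group
        _ = g := by rw [show ((w : N) : G) * (n⁻¹ * g * n) = n⁻¹ * g * n * ((w : N) : G) from h2]; group
  haveI := Fintype.ofFinite (P : Subgroup G)
  rw [← Nat.card_eq_of_bijective F hF, Nat.card_sigma, finsum_eq_sum_of_fintype]
  exact Finset.sum_congr rfl fun x _ => (hC x).symm

end Cfsg.Agent.S4093
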