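import Cfsg.Statements.S4097
import Cfsg.Agent.Lib.Solvable.FrobeniusTheorem
import Cfsg.Agent.Lib.Solvable.Frobenius
import Cfsg.Agent.Lib.Solvable.CoprimeAction
import Cfsg.Agent.Lib.Cores.Basic
import Cfsg.Agent.Lib.ThreeTransp.Solv
import Mathlib

set_option autoImplicit false
open Cfsg

namespace Cfsg.Agent.S4097

open scoped Pointwise

/-- The minimal counterexample. -/
theorem key {G : Type*} [Group G] [Finite G] (A : Subgroup G)
    (hc : ∀ S : Subgroup G, A ≤ S → Group.IsSolvable S → ∀ a ∈ A, ∀ s ∈ S, a * s = s * a)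
    (hAab : ∀ a ∈ A, ∀ b ∈ A, a * b = b * a)
    (hprop : ∀ S : Subgroup G, A ≤ S → S ≠ ⊤ → S ≤ Subgroup.centralizer (A : Set G)) :
    A ≤ Subgroup.center G := by
  by_contra hnot
  set M := Subgroup.centralizer (A : Set G) with hM
  have hAM : A ≤ M := fun b hb => Subgroup.mem_centralizer_iff.2 fun a ha => hAab a ha b hb
  have hMtop : M ≠ ⊤ := fun h => hnot fun a ha => Subgroup.mem_center_iff.2 fun g =>
    (Subgroup.mem_centralizer_iff.1 ((h ▸ Subgroup.mem_top g : g ∈ M)) a ha).symm
  -- `M` is not normal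
  have hnn : ¬ M.Normal := by
    intro hn
    set N := Subgroup.normalClosure (A : Set G) with hN
    have hNM : N ≤ M := Subgroup.normalClosure_le_normal hAM
    have hcomm : N ≤ Subgroup.centralizer (N : Set G) := by
      have h1 : A ≤ Subgroup.centralizer (N : Set G) :=
        Subgroup.le_centralizer_iff.1 hNM
      exact Subgroup.normalClosure_le_normal h1
    have hNsol : Group.IsSolvable N := Group.isSolvable_of_comm fun a b =>
      Subtype.ext ((Subgroup.mem_centralizer_iff.1 (hcomm b.2)) a a.2)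
    obtain ⟨g, hg⟩ : ∃ g, g ∉ M := by
      by_contra h; push Not at h; exact hMtop (eq_top_iff.2 fun g _ => h g)
    haveI : N.Normal := Subgroup.normalClosure_normal
    have hS : Group.IsSolvable ↥(N ⊔ Subgroup.zpowers g) := by
      rw [sup_comm]
      refine CfsgLib.ThreeTransp.isSolvable_sup_of_le_normalizer ?_ hNsol (by
        rw [Subgroup.normalizer_eq_top_iff.2 Subgroup.normalClosure_normal]; exact le_top)
      exact Group.isSolvable_of_comm fun a b => by
        obtain ⟨i, hi⟩ := Subgroup.mem_zpowers_iff.1 a.2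
        obtain ⟨j, hj⟩ := Subgroup.mem_zpowers_iff.1 b.2
        exact Subtype.ext (by push_cast; rw [← hi, ← hj, ← zpow_add, ← zpow_add, add_comm])
    exact hg (Subgroup.mem_centralizer_iff.2 fun a ha =>
      hc _ ((Subgroup.le_normalClosure (H := A)).trans
        (le_sup_left : N ≤ N ⊔ Subgroup.zpowers g)) hS a ha g
        (Subgroup.mem_sup_right (Subgroup.mem_zpowers g)))
  have hNM : Subgroup.normalizer (M : Set G) ≤ M :=
    hprop _ (hAM.trans Subgroup.le_normalizer) fun h => hnn (Subgroup.normalizer_eq_top_iff.1 h)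
  -- conjugates outside `M` generate
  have hgen : ∀ g : G, g ∉ M → A ⊔ MulAut.conj g • A = ⊤ := by
    intro g hg
    by_contra h
    have h1 : MulAut.conj g • A ≤ M := le_sup_right.trans (hprop _ le_sup_left h)
    have h2 : A ≤ MulAut.conj g • M := by
      intro a ha
      rw [CfsgLib.Solvable.mem_conj_smul_iff, hM, Subgroup.mem_centralizer_iff]
      intro b hb
      have h3 : g * b * g⁻¹ ∈ M := h1 (CfsgLib.Solvable.mem_conj_smul_iff.2 (by group; exact hb))
      have h4 := Subgroup.mem_centralizer_iff.1 h3 a ha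
      calc b * (g⁻¹ * a * g) = g⁻¹ * (g * b * g⁻¹ * a) * g := by group
        _ = g⁻¹ * (a * (g * b * g⁻¹)) * g := by rw [h4]
        _ = g⁻¹ * a * g * b := by group
    have h5 : MulAut.conj g • M ≠ ⊤ := fun he => hMtop (Subgroup.eq_top_of_card_eq _ (by
      rw [← CfsgLib.Solvable.card_conj_smul g M, he, Subgroup.card_top]))
    have h6 : MulAut.conj g • M = M := Subgroup.eq_of_le_of_card_ge (hprop _ h2 h5)
      (CfsgLib.Solvable.card_conj_smul g M).ge
    exact hg (hNM (CfsgLib.Solvable.mem_normalizer_iff_conj_smul.2 h6))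
  -- the quotient by the centre is a Frobenius group
  set Z := Subgroup.center G with hZ
  have hZM : Z ≤ M := fun z hz => Subgroup.mem_centralizer_iff.2 fun a _ =>
    Subgroup.mem_center_iff.1 hz a
  set π := QuotientGroup.mk' Z with hπ
  have hπs : Function.Surjective π := QuotientGroup.mk'_surjective Z
  have hπk : π.ker = Z := QuotientGroup.ker_mk' Z
  set H := M.map π with hH
  have hmem : ∀ x : G, π x ∈ H ↔ x ∈ M := fun x => by
    rw [hH, ← Subgroup.mem_comap, Subgroup.comap_map_eq, hπk, sup_eq_left.2 hZM]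
  have hF : Cfsg.IsFrobeniusComplement H := by
    refine ⟨fun h => hnot fun a ha => ?_, fun h => hMtop ?_, fun y hy => ?_⟩
    · rw [← hπk, MonoidHom.mem_ker, ← Subgroup.mem_bot, ← h]
      exact Subgroup.mem_map_of_mem π (hAM ha)
    · exact eq_top_iff.2 fun x _ => (hmem x).1 (h ▸ Subgroup.mem_top _)
    · obtain ⟨g, rfl⟩ := hπs y
      rw [hmem] at hy
      rw [eq_bot_iff]
      intro w hw
      obtain ⟨hw1, hw2⟩ := Subgroup.mem_inf.1 hw
      obtain ⟨x, rfl⟩ := hπs w
      rw [CfsgLib.Solvable.mem_conj_smul_iff, ← map_inv, ← map_mul, ← map_mul, hmem] at hw2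
      rw [hmem] at hw1
      rw [Subgroup.mem_bot, ← MonoidHom.mem_ker, hπk, hZ, Subgroup.mem_center_iff]
      intro u
      have hle : A ⊔ MulAut.conj g • A ≤ Subgroup.centralizer ({x} : Set G) := by
        refine sup_le (fun a ha => ?_) fun a ha => ?_
        · exact Subgroup.mem_centralizer_singleton_iff.2 (Subgroup.mem_centralizer_iff.1 hw1 a ha)
        · rw [CfsgLib.Solvable.mem_conj_smul_iff] at ha
          have h4 := Subgroup.mem_centralizer_iff.1 hw2 _ ha
          rw [Subgroup.mem_centralizer_singleton_iff]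
          calc a * x = g * (g⁻¹ * a * g * (g⁻¹ * x * g)) * g⁻¹ := by group
            _ = g * (g⁻¹ * x * g * (g⁻¹ * a * g)) * g⁻¹ := by rw [h4]
            _ = x * a := by group
      rw [hgen g hy] at hle
      exact Subgroup.mem_centralizer_singleton_iff.1 (hle (Subgroup.mem_top u))
  obtain ⟨N, -, hNn, hcompl⟩ := CfsgLib.Solvable.frobenius_theorem hF
  set B := A.map π with hB
  have hBH : B ≤ H := Subgroup.map_mono hAM
  have hNne : N ≠ ⊥ := fun h => hF.2.1 (by
    rw [← Subgroup.card_eq_iff_eq_top, ← hcompl.card_mul, h, Subgroup.card_bot, one_mul])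
  -- a proper overgroup of `A` lies in `M`
  have hpr : ∀ L : Subgroup (G ⧸ Z), B ≤ L → L ≠ ⊤ → L ≤ H := by
    intro L hL hLtop w hw
    obtain ⟨x, rfl⟩ := hπs w
    have h1 : L.comap π ≠ ⊤ := fun h => hLtop (eq_top_iff.2 fun v _ => by
      obtain ⟨u, rfl⟩ := hπs v
      exact Subgroup.mem_comap.1 (h ▸ Subgroup.mem_top u))
    exact Subgroup.mem_map_of_mem π
      (hprop _ (Subgroup.map_le_iff_le_comap.1 hL) h1 (Subgroup.mem_comap.2 hw))
  have hNB : N ⊔ B = ⊤ := by
    by_contra h
    exact hNne (disjoint_self.1 (hcompl.disjoint.mono_right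
      (le_sup_left.trans (hpr _ le_sup_right h))))
  have hcardB : Nat.card B = Nat.card H := by
    refine le_antisymm (Subgroup.card_le_of_le hBH) ?_
    have h1 : Nat.card ↥(N ⊔ B) ≤ Nat.card N * Nat.card B :=
      Nat.le_of_dvd (Nat.mul_pos Nat.card_pos Nat.card_pos) (CfsgLib.Cores.card_sup_dvd_mul N B)
    rw [hNB, Subgroup.card_top, ← hcompl.card_mul] at h1
    exact Nat.le_of_mul_le_mul_left h1 Nat.card_pos
  have hcop : (Nat.card B).Coprime (Nat.card N) := by
    have h1 := CfsgLib.Solvable.index_mod_card hF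
    have h2 : H.index = Nat.card N := hcompl.index_eq_card
    rw [h2] at h1
    rw [hcardB, Nat.coprime_iff_gcd_eq_one, Nat.gcd_rec, h1, ← Nat.gcd_rec, Nat.gcd_one_right]
  obtain ⟨q, hq, hqN⟩ := Nat.exists_prime_and_dvd (fun h => hNne (Subgroup.eq_bot_of_card_eq N h))
  haveI : Fact q.Prime := ⟨hq⟩
  have hBsol : Group.IsSolvable B := Group.isSolvable_of_comm fun a b => by
    obtain ⟨a', ha', ha''⟩ := a.2
    obtain ⟨b', hb', hb''⟩ := b.2
    exact Subtype.ext (by push_cast; rw [← ha'', ← hb'', ← map_mul, ← map_mul, hAab a' ha' b' hb'])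
  obtain ⟨Q₀, hQ₀⟩ := CfsgLib.Solvable.exists_invariant_sylow B N
    (fun b _ => by rw [Subgroup.normalizer_eq_top_iff.2 hNn]; trivial) hcop (Or.inl hBsol) q
  set Q := (Q₀ : Subgroup N).map N.subtype with hQ
  have hQne : Q ≠ ⊥ := fun h => by
    have h1 := Q₀.ne_bot_of_dvd_card hqN
    rw [hQ, Subgroup.map_eq_bot_iff_of_injective _ N.subtype_injective] at h
    exact h1 h
  have hQsol : Group.IsSolvable Q := by
    haveI := (Q₀.isPGroup'.map N.subtype).isNilpotent
    infer_instance
  have hS0 : Group.IsSolvable ↥(Q ⊔ B) :=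
    sup_comm B Q ▸ CfsgLib.ThreeTransp.isSolvable_sup_of_le_normalizer hBsol hQsol hQ₀
  set S := (Q ⊔ B).comap π with hS
  have hSsol : Group.IsSolvable S := by
    let f : S →* ↥(Q ⊔ B) := π.subgroupComap (Q ⊔ B)
    haveI := hS0
    refine Group.isSolvable_of_ker_le_range (Subgroup.subtype f.ker) f (by rw [Subgroup.range_subtype]) (hG' := Group.isSolvable_of_comm fun a b => ?_)
    have ha : (a.1 : G) ∈ Z := by
      exact (QuotientGroup.eq_one_iff (N := Z) _).1 (congrArg Subtype.val (MonoidHom.mem_ker.1 a.2))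
    exact Subtype.ext (Subtype.ext ((Subgroup.mem_center_iff.1 ha b.1.1).symm))
  have hSM : S ≤ M := fun s hs => Subgroup.mem_centralizer_iff.2 fun a ha =>
    hc S (fun a ha => Subgroup.mem_comap.2 (Subgroup.mem_sup_right (Subgroup.mem_map_of_mem π ha)))
      hSsol a ha s hs
  apply hQne
  refine disjoint_self.1 (hcompl.disjoint.mono (Subgroup.map_subtype_le _) fun w hw => ?_)
  obtain ⟨x, rfl⟩ := hπs w
  exact Subgroup.mem_map_of_mem π (hSM (Subgroup.mem_comap.2 (Subgroup.mem_sup_left hw)))


/-- Let A be a solvable subgroup of a finite group G such that A lies in the centre of every solvable subgroup of G containing A. Then A lies in the centre of G. -/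
theorem result {G : Type*} [Group G] [Finite G]
    (A : Subgroup G) (hA : Group.IsSolvable A)
    (hc : ∀ S : Subgroup G, A ≤ S → Group.IsSolvable S → ∀ a ∈ A, ∀ s ∈ S, a * s = s * a) : A ≤ Subgroup.center G := by
  have hAab : ∀ a ∈ A, ∀ b ∈ A, a * b = b * a := hc A le_rfl hA
  suffices h : ∀ H : Subgroup G, A ≤ H → H ≤ Subgroup.centralizer (A : Set G) by
    intro a ha
    exact Subgroup.mem_center_iff.2 fun g =>
      (Subgroup.mem_centralizer_iff.1 (h ⊤ le_top (Subgroup.mem_top g)) a ha).symm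
  intro H
  induction H using WellFoundedLT.induction with
  | _ H ih =>
    intro hAH x hx
    rw [Subgroup.mem_centralizer_iff]
    intro a ha
    have hk := key (A.subgroupOf H) (fun S hAS hS b hb s hs => Subtype.ext ?_)
      (fun b hb c hc' => Subtype.ext (hAab b hb c hc')) (fun S hAS hS y hy => ?_)
    · exact congrArg Subtype.val
        ((Subgroup.mem_center_iff.1 (hk (x := ⟨a, hAH ha⟩) ha)) ⟨x, hx⟩).symm
    · refine hc (S.map H.subtype) (fun u hu => ⟨⟨u, hAH hu⟩, hAS hu, rfl⟩) ?_ b.1 hb s.1 ⟨s, hs, rfl⟩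
      exact Group.isSolvable_of_surjective (f := (S.equivMapOfInjective H.subtype H.subtype_injective).toMonoidHom)
        (S.equivMapOfInjective H.subtype H.subtype_injective).surjective
    · have hlt : S.map H.subtype < H := lt_of_le_of_ne (Subgroup.map_subtype_le _) fun he => hS (by
        apply Subgroup.map_injective H.subtype_injective
        rw [he, ← MonoidHom.range_eq_map, Subgroup.range_subtype])
      have h2 := ih _ hlt (fun u hu => ⟨⟨u, hAH hu⟩, hAS hu, rfl⟩) ⟨y, hy, rfl⟩
      exact Subgroup.mem_centralizer_iff.2 fun b hb =>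
        Subtype.ext (Subgroup.mem_centralizer_iff.1 h2 b.1 hb)

end Cfsg.Agent.S4097
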