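import Cfsg.Statements.S4106
import Cfsg.Agent.Lib.FGS.PiParts

set_option autoImplicit false
open Cfsg

namespace Cfsg.Agent.S4106

/-- At most `m` classes of `m`-elements when `m` is coprime to its cofactor. -/
theorem key.{v} : ∀ {G : Type v} [Group G] [Finite G],
    ∀ m : ℕ, m ∣ Nat.card G → (∀ q : ℕ, q.Prime → q ∣ m → ¬ q ∣ Nat.card G / m) →
    Nat.card {C : ConjClasses G // ∃ x : G, ConjClasses.mk x = C ∧ x ^ m = 1} ≤ m := by
  classical
  intro G hGg hGf m
  induction m using Nat.strong_induction_on generalizing G with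
  | _ m ih =>
    intro hm hfull
    by_cases hm1 : m = 1
    · subst hm1
      have : Subsingleton {C : ConjClasses G // ∃ x : G, ConjClasses.mk x = C ∧ x ^ 1 = 1} := by
        refine ⟨?_⟩
        rintro ⟨C, x, rfl, hx⟩ ⟨D, y, rfl, hy⟩
        rw [pow_one] at hx hy
        subst hx hy
        rfl
      exact Finite.card_le_one_iff_subsingleton.2 this
    obtain ⟨q, hq, hqm⟩ := Nat.exists_prime_and_dvd hm1
    haveI := Fact.mk hq
    have hm0 : m ≠ 0 := by rintro rfl; exact Nat.card_pos.ne' (zero_dvd_iff.1 hm)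
    obtain ⟨a, r, hqr, har⟩ := Nat.exists_eq_pow_mul_and_not_dvd hm0 q hq.ne_one
    have ha : a ≠ 0 := by rintro rfl; simp at har; exact hqr (har ▸ hqm)
    have hrm : r < m := by
      rw [har]
      exact lt_mul_left (Nat.pos_of_ne_zero (by rintro rfl; simp at har; exact hm0 har))
        (Nat.one_lt_pow ha hq.one_lt)
    obtain ⟨B, hB⟩ := hm
    have hdiv : Nat.card G / m = B := by rw [hB, Nat.mul_div_cancel_left _ (Nat.pos_of_ne_zero hm0)]
    rw [hdiv] at hfull
    obtain ⟨P⟩ : Nonempty (Sylow q G) := inferInstance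
    have hP : Nat.card (P : Subgroup G) = q ^ a := by
      rw [P.card_eq_multiplicity]
      congr 1
      rw [hB, har, mul_assoc, Nat.factorization_mul (pow_ne_zero _ hq.ne_zero) (by
        intro h; rw [har, mul_assoc, h, mul_zero] at hB; exact Nat.card_pos.ne' hB)]
      have : (r * B).factorization q = 0 := by
        refine Nat.factorization_eq_zero_of_not_dvd fun h => ?_
        rcases hq.dvd_mul.1 h with h | h
        · exact hqr h
        · exact hfull q hq hqm h
      simp [this, hq.factorization_self]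
    -- representatives of classes of `q`-elements
    let T := {c : ConjClasses G // ∃ u : G, u ∈ (P : Subgroup G) ∧ ConjClasses.mk u = c}
    haveI := Fintype.ofFinite T
    choose rep hrepP hrep using fun c : T => c.2
    let S : T → Type v := fun c => {D : ConjClasses (Subgroup.centralizer ({rep c} : Set G)) //
      ∃ v, ConjClasses.mk v = D ∧ v ^ r = 1}
    have hS : ∀ c, Nat.card (S c) ≤ r := by
      intro c
      set C := Subgroup.centralizer ({rep c} : Set G)
      have hg1 : Nat.gcd r (Nat.card C) ∣ Nat.card C := Nat.gcd_dvd_right _ _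
      refine le_trans (le_trans (le_of_eq (Nat.card_congr (Equiv.subtypeEquivRight fun D =>
        exists_congr fun v => and_congr_right fun _ => ?_)))
        (ih (Nat.gcd r (Nat.card C)) ((Nat.gcd_le_left _ (Nat.pos_of_ne_zero (by
          rintro rfl; simp at hqr))).trans_lt hrm) hg1 ?_))
        (Nat.gcd_le_left _ (Nat.pos_of_ne_zero (by rintro rfl; simp at hqr)))
      · rw [pow_gcd_eq_one]; exact ⟨fun h => ⟨h, pow_card_eq_one'⟩, fun h => h.1⟩
      · intro l hl hld hl2
        obtain ⟨t, ht⟩ := hg1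
        have hdd : Nat.card C / Nat.gcd r (Nat.card C) = t := Nat.div_eq_of_eq_mul_left
          (Nat.gcd_pos_of_pos_right _ Nat.card_pos) (ht.trans (mul_comm _ _))
        rw [hdd] at hl2
        set e := r.factorization l
        have hlr : l ∣ r := hld.trans (Nat.gcd_dvd_left _ _)
        have hle : l ^ (e + 1) ∣ Nat.card G := by
          refine dvd_trans ?_ (Subgroup.card_subgroup_dvd_card C)
          by_cases hcase : l ^ (e + 1) ∣ Nat.card C
          · exact hcase
          · exfalso
            obtain ⟨i, cn, hi, hin⟩ := Nat.exists_eq_pow_mul_and_not_dvd (Nat.card_pos (α := C)).ne' l hl.ne_one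
            have hie : i ≤ e := by
              by_contra h
              exact hcase ((pow_dvd_pow l (by omega : e + 1 ≤ i)).trans (hin ▸ Dvd.intro _ rfl))
            have : l ^ i ∣ Nat.gcd r (Nat.card C) := Nat.dvd_gcd
              ((pow_dvd_pow l hie).trans (Nat.ordProj_dvd r l)) (hin ▸ Dvd.intro _ rfl)
            have h3 : l ^ (i + 1) ∣ Nat.card C := by
              refine dvd_trans ?_ ht.symm.dvd
              rw [pow_succ]; exact Nat.mul_dvd_mul this hl2
            rw [hin, pow_succ] at h3
            exact hi ((Nat.mul_dvd_mul_iff_left (pow_pos hl.pos i)).1 h3)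
        rw [hB, har, mul_assoc] at hle
        have hlq : l ≠ q := fun h => hqr (h ▸ hlr)
        have h4 := (Nat.Coprime.pow _ _ ((Nat.coprime_primes hl hq).2 hlq)).dvd_of_dvd_mul_left hle
        have hlB : ¬ l ∣ B := hfull l hl (har ▸ hlr.mul_left _)
        have h5 := (Nat.Coprime.pow_left _ ((Nat.Prime.coprime_iff_not_dvd hl).2 hlB)).dvd_of_dvd_mul_right h4
        exact absurd ((hl.pow_dvd_iff_le_factorization (by rintro rfl; simp at hqr)).1 h5) (by omega)
    let F : (Σ c, S c) → ConjClasses G := fun z =>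
      ConjClasses.mk (rep z.1 * ((Quotient.out z.2.1 : Subgroup.centralizer ({rep z.1} : Set G)) : G))
    have hsurj : ∀ C : ConjClasses G, (∃ x, ConjClasses.mk x = C ∧ x ^ m = 1) → C ∈ Set.range F := by
      rintro C ⟨x, rfl, hx⟩
      have hcop : (q ^ a).Coprime r := Nat.Coprime.pow_left _ (hq.coprime_iff_not_dvd.2 hqr)
      obtain ⟨E, F', hE1, hEr, hF1, hFq, hEF⟩ := CfsgLib.FGS.exists_idempotent_exponents hcop
      rw [har] at hx
      set u := x ^ E
      set v := x ^ F'
      have huP : IsPGroup q (Subgroup.zpowers u) := by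
        refine IsPGroup.iff_card.2 ?_
        have : orderOf u ∣ q ^ a := by
          refine orderOf_dvd_of_pow_eq_one ?_
          rw [← pow_mul]
          exact CfsgLib.FGS.pow_eq_one_of_dvd' hx (mul_comm (q ^ a) r ▸ Nat.mul_dvd_mul hEr dvd_rfl)
        obtain ⟨i, -, hi⟩ := (Nat.dvd_prime_pow hq).1 this
        exact ⟨i, by rw [Nat.card_zpowers, hi]⟩
      obtain ⟨Q, hQ⟩ := huP.exists_le_sylow
      obtain ⟨g, hg⟩ := MulAction.exists_smul_eq G Q P
      have hgu : g * u * g⁻¹ ∈ (P : Subgroup G) := by
        rw [← hg]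
        exact ⟨u, hQ (Subgroup.mem_zpowers u), rfl⟩
      let c : T := ⟨_, _, hgu, rfl⟩
      obtain ⟨d, hd⟩ := isConj_iff.1 (ConjClasses.mk_eq_mk_iff_isConj.1 (hrep c)).symm
      have huv : Commute u v := (Commute.refl x).pow_pow E F'
      set k := d * g
      have hku : k * u * k⁻¹ = rep c := by rw [← hd]; simp only [k]; group
      let v' : Subgroup.centralizer ({rep c} : Set G) := ⟨k * v * k⁻¹, by
        rw [Subgroup.mem_centralizer_singleton_iff, ← hku]
        calc k * v * k⁻¹ * (k * u * k⁻¹) = k * (v * u) * k⁻¹ := by group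
          _ = k * u * k⁻¹ * (k * v * k⁻¹) := by rw [← huv.eq]; group⟩
      have hv' : v' ^ r = 1 := by
        refine Subtype.ext ?_
        show (k * v * k⁻¹) ^ r = 1
        rw [conj_pow, ← pow_mul, CfsgLib.FGS.pow_eq_one_of_dvd' hx (Nat.mul_dvd_mul hFq dvd_rfl)]
        group
      refine ⟨⟨c, ConjClasses.mk v', v', rfl, hv'⟩, ?_⟩
      show ConjClasses.mk (rep c * _) = ConjClasses.mk x
      have hout : ConjClasses.mk (Quotient.out (ConjClasses.mk v')) = ConjClasses.mk v' := Quotient.out_eq _
      obtain ⟨w, hw⟩ := isConj_iff.1 (ConjClasses.mk_eq_mk_iff_isConj.1 hout)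
      rw [ConjClasses.mk_eq_mk_iff_isConj, isConj_iff]
      refine ⟨k⁻¹ * w, ?_⟩
      have hwc : (w : G) * rep c * (w : G)⁻¹ = rep c := by
        rw [Subgroup.mem_centralizer_singleton_iff.1 w.2]; group
      have hwv : (w : G) * ((Quotient.out (ConjClasses.mk v') : Subgroup.centralizer ({rep c} : Set G)) : G) * (w : G)⁻¹ = k * v * k⁻¹ :=
        congrArg Subtype.val hw
      set o : G := ((Quotient.out (ConjClasses.mk v') : Subgroup.centralizer ({rep c} : Set G)) : G)
      calc k⁻¹ * w * (rep c * o) * (k⁻¹ * w)⁻¹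
          = k⁻¹ * (((w : G) * rep c * (w : G)⁻¹) * ((w : G) * o * (w : G)⁻¹)) * k := by group
        _ = k⁻¹ * ((k * u * k⁻¹) * (k * v * k⁻¹)) * k := by rw [hwc, hwv, hku]
        _ = u * v := by group
        _ = x := by
          show x ^ E * x ^ F' = x
          rw [← pow_add]
          exact CfsgLib.FGS.pow_eq_self_of_modEq hx hEF
    calc Nat.card {C : ConjClasses G // ∃ x : G, ConjClasses.mk x = C ∧ x ^ m = 1}
        ≤ Nat.card (Set.range F) := Nat.card_le_card_of_injective
          (fun C => ⟨C.1, hsurj C.1 C.2⟩) fun a b h =>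
            Subtype.ext (congrArg (fun z : Set.range F => z.1) h)
      _ ≤ Nat.card (Σ c, S c) := Finite.card_range_le F
      _ = ∑ c, Nat.card (S c) := Nat.card_sigma
      _ ≤ ∑ _c : T, r := Finset.sum_le_sum fun c _ => hS c
      _ ≤ q ^ a * r := by
        rw [Finset.sum_const, smul_eq_mul, Finset.card_univ, ← Nat.card_eq_fintype_card]
        refine Nat.mul_le_mul_right r ?_
        rw [← hP]
        refine Nat.card_le_card_of_surjective
          (fun u : (P : Subgroup G) => (⟨ConjClasses.mk (u : G), u, u.2, rfl⟩ : T)) ?_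
        rintro ⟨c, u, hu, rfl⟩
        exact ⟨⟨u, hu⟩, rfl⟩
      _ = m := har.symm


/-- Let G be a finite group, π a set of primes and m the π-part of the order of G. Then the number of conjugacy classes of G consisting of π-elements (elements whose order is divisible only by primes in π) is at most m. -/
theorem result {G : Type*} [Group G] [Finite G]
    (π : Set ℕ) (hπ : ∀ q ∈ π, q.Prime)
    (m : ℕ) (hm : m ∣ Nat.card G) (hmπ : ∀ q : ℕ, q.Prime → q ∣ m → q ∈ π)
    (hm' : ∀ q ∈ π, ¬ q ∣ Nat.card G / m) :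
    Nat.card {C : ConjClasses G // ∀ q : ℕ, q.Prime → (∃ g : G, ConjClasses.mk g = C ∧ q ∣ orderOf g) → q ∈ π} ≤ m := by
  classical
  have hkey := key m hm (fun q hq hqm hd => hm' q (hmπ q hq hqm) hd)
  refine le_trans (le_of_eq (Nat.card_congr (Equiv.subtypeEquivRight fun C => ?_))) hkey
  induction C using Quotient.inductionOn with
  | h x =>
    constructor
    · intro h
      refine ⟨x, rfl, ?_⟩
      have hG : Nat.card G = m * (Nat.card G / m) := (Nat.mul_div_cancel' hm).symm
      have h1 : (orderOf x).Coprime (Nat.card G / m) := Nat.coprime_of_dvd fun q hq hq1 hq2 =>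
        hm' q (h q hq ⟨x, rfl, hq1⟩) hq2
      exact orderOf_dvd_iff_pow_eq_one.1 (h1.dvd_of_dvd_mul_right (hG ▸ orderOf_dvd_natCard x))
    · rintro ⟨y, hy, hym⟩ q hq ⟨g, hg, hd⟩
      refine hmπ q hq (hd.trans ?_)
      obtain ⟨c, hc⟩ := isConj_iff.1 (ConjClasses.mk_eq_mk_iff_isConj.1 (hg.trans hy.symm))
      have : orderOf g = orderOf y := by rw [← hc, ← MulAut.conj_apply, MulEquiv.orderOf_eq]
      rw [this]
      exact orderOf_dvd_of_pow_eq_one hym

end Cfsg.Agent.S4106
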