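import Cfsg.Statements.S4108
import Cfsg.Agent.Lib.FGS.FPFConj
import Mathlib.GroupTheory.PGroup

set_option autoImplicit false
open Cfsg

namespace Cfsg.Agent.S4108

/-- Let G be a finite group, p a prime and N a proper non-trivial normal p-subgroup such that for every x outside N all elements of the coset xN have the same order as x. Then every non-trivial subgroup H of G of order prime to p acts fixed-point-freely on N: NH is a Frobenius group with complement H and kernel N. -/
theorem result {G : Type*} [Group G] [Finite G] (N : Subgroup G) [N.Normal] (hN1 : N ≠ ⊥) (hN2 : N ≠ ⊤)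
    (heq : ∀ x : G, x ∉ N → ∀ n ∈ N, orderOf (x * n) = orderOf x)
    (p : ℕ) [Fact p.Prime] (hNp : IsPGroup p N) :
    ∀ H : Subgroup G, H ≠ ⊥ → (Nat.card H).Coprime p →
      Cfsg.IsFrobeniusComplement (H.subgroupOf (N ⊔ H)) ∧ Cfsg.frobeniusKernel (H.subgroupOf (N ⊔ H)) = (N.subgroupOf (N ⊔ H) : Set ↥(N ⊔ H)) := by
  intro H hH hcop
  have hdisj : N ⊓ H = ⊥ := by
    obtain ⟨k, hk⟩ := hNp.exists_card_eq
    exact Subgroup.inf_eq_bot_of_coprime (hk ▸ (hcop.symm.pow_left k))
  refine CfsgLib.FGS.frobenius_of_fpf N H hN1 hH hdisj fun h hh hh1 n hn hcomm => ?_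
  have hhN : h ∉ N := fun h' => hh1 (Subgroup.mem_bot.1 (hdisj ▸ ⟨h', hh⟩ : h ∈ (⊥ : Subgroup G)))
  have e := heq h hhN n hn
  obtain ⟨k, hk⟩ := IsPGroup.iff_orderOf.1 hNp ⟨n, hn⟩
  rw [Subgroup.orderOf_mk] at hk
  have hc : (orderOf h).Coprime (orderOf n) := by
    rw [hk]
    exact (hcop.coprime_dvd_left (Subgroup.orderOf_dvd_natCard _ hh)).pow_right k
  rw [Commute.orderOf_mul_eq_mul_orderOf_of_coprime (hcomm.symm : Commute h n) hc] at e
  exact orderOf_eq_one_iff.1 (mul_right_eq_self₀.1 e |>.resolve_right (orderOf_pos h).ne')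

end Cfsg.Agent.S4108
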