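import Cfsg.Statements.S4112
import Cfsg.Agent.Lib.Solvable.SchurZassenhaus
import Cfsg.Agent.Lib.PGroup.Basic
import Mathlib.GroupTheory.Sylow

set_option autoImplicit false
open Cfsg

namespace Cfsg.Agent.S4112

theorem exists_minimal_nat {P : ℕ → Prop} (h : ∃ n, P n) : ∃ n, P n ∧ ∀ m, P m → n ≤ m := by
  classical
  exact ⟨Nat.find h, Nat.find_spec h, fun m hm => Nat.find_min' h hm⟩

/-- Let G be a finite group and M ≤ N non-trivial proper normal subgroups such that for every g outside N the conjugacy class of g is a union of cosets of M (equivalently gm is conjugate to g for every m ∈ M). Then (1) and (2) below are equivalent, and they imply (3): (1) every g outside N acts fixed-point-freely on M, that is C_G(x) ≤ N for every x ∈ M, x ≠ 1; (2) the index of N in G is coprime to the order of M; (3) there is a subgroup H of G with HN = G and H ∩ M = 1. -/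
theorem result {G : Type*} [Group G] [Finite G] (N M : Subgroup G) [N.Normal] [M.Normal] (hMN : M ≤ N) (hM1 : M ≠ ⊥) (hN2 : N ≠ ⊤)
    (hcam : ∀ g : G, g ∉ N → ∀ m ∈ M, ∃ x : G, x * g * x⁻¹ = g * m) :
    ((∀ x ∈ M, x ≠ 1 → Subgroup.centralizer ({x} : Set G) ≤ N) ↔ N.index.Coprime (Nat.card M)) ∧
    ((∀ x ∈ M, x ≠ 1 → Subgroup.centralizer ({x} : Set G) ≤ N) → ∃ H : Subgroup G, H ⊔ N = ⊤ ∧ H ⊓ M = ⊥) := by
  classical
  have h12 : (∀ x ∈ M, x ≠ 1 → Subgroup.centralizer ({x} : Set G) ≤ N) → N.index.Coprime (Nat.card M) := by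
    intro h1
    refine Nat.coprime_of_dvd fun r hr hri hrM => ?_
    haveI := Fact.mk hr
    obtain ⟨x₀, hx₀⟩ := exists_prime_orderOf_dvd_card' (G := M) r hrM
    obtain ⟨k, hk⟩ : ∃ k, orderOf (x₀ : G) = r ^ k := ⟨1, by rw [Subgroup.orderOf_coe, hx₀, pow_one]⟩
    have hzp : IsPGroup r (Subgroup.zpowers (x₀ : G)) :=
      IsPGroup.of_card (n := k) (by rw [Nat.card_zpowers, hk])
    obtain ⟨R, hR⟩ := hzp.exists_le_sylow
    haveI : Nontrivial (M.subgroupOf (R : Subgroup G)) := by
      refine ⟨⟨⟨x₀, hR (Subgroup.mem_zpowers _)⟩, x₀.2⟩, 1, fun e => ?_⟩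
      have e1 : (x₀ : G) = 1 := congrArg (fun z : M.subgroupOf (R : Subgroup G) => ((z : (R : Subgroup G)) : G)) e
      rw [show x₀ = 1 from Subtype.ext e1, orderOf_one] at hx₀
      exact hr.one_lt.ne hx₀
    haveI : (M.subgroupOf (R : Subgroup G)).Normal := inferInstance
    have hne : ((M.subgroupOf (R : Subgroup G)) ⊓ Subgroup.center (R : Subgroup G)) ≠ ⊥ :=
      CfsgLib.PGroup.inf_center_ne_bot R.isPGroup' _ ((Subgroup.nontrivial_iff_ne_bot _).1 inferInstance)
    obtain ⟨⟨⟨x, hxR⟩, hxM, hxc⟩, hx1⟩ := Subgroup.ne_bot_iff_exists_ne_one.1 hne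
    have hxne : x ≠ 1 := fun e => hx1 (Subtype.ext (Subtype.ext e))
    have hle : (R : Subgroup G) ≤ N := fun s hs => h1 x hxM hxne (Subgroup.mem_centralizer_singleton_iff.2
      (congrArg Subtype.val (Subgroup.mem_center_iff.1 hxc ⟨s, hs⟩)))
    exact R.not_dvd_index (hri.trans (Subgroup.index_dvd_of_le hle))
  refine ⟨⟨h12, fun h2 x hx hx1 g hg => ?_⟩, fun h1 => ?_⟩
  · by_contra hgN
    obtain ⟨o, ⟨h, ⟨hhx, hhN⟩, rfl⟩, hmin⟩ := exists_minimal_nat (P := fun o => ∃ h : G,
      (h * x = x * h ∧ h ∉ N) ∧ orderOf h = o) ⟨orderOf g, g, ⟨Subgroup.mem_centralizer_singleton_iff.1 hg, hgN⟩, rfl⟩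
    have hcop : (orderOf h).Coprime (Nat.card M) := by
      refine Nat.coprime_of_dvd fun r hr hro hrM => ?_
      have hlt : orderOf (h ^ r) < orderOf h := by
        rw [orderOf_pow_of_dvd hr.ne_zero hro]
        exact Nat.div_lt_self (orderOf_pos h) hr.one_lt
      have hrN : h ^ r ∈ N := by
        by_contra hno
        exact absurd (hmin _ ⟨h ^ r, ⟨((Commute.pow_left (hhx : Commute h x) r)).eq, hno⟩, rfl⟩) (not_le.2 hlt)
      apply hhN
      have e1 : orderOf (QuotientGroup.mk' N h) ∣ r :=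
        orderOf_dvd_of_pow_eq_one (by rw [← map_pow]; exact (QuotientGroup.eq_one_iff _).2 hrN)
      have e2 : orderOf (QuotientGroup.mk' N h) ∣ N.index := by
        rw [Subgroup.index_eq_card]; exact orderOf_dvd_natCard _
      exact (QuotientGroup.eq_one_iff h).1 (orderOf_eq_one_iff.1
        (Nat.eq_one_of_dvd_coprimes ((h2.coprime_dvd_right hrM).symm) e1 e2))
    obtain ⟨c, hc⟩ := hcam h hhN x hx
    have e := congrArg orderOf hc
    rw [(Commute.orderOf_mul_eq_mul_orderOf_of_coprime (hhx : Commute h x)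
      (hcop.coprime_dvd_right (Subgroup.orderOf_dvd_natCard M hx)))] at e
    rw [show c * h * c⁻¹ = MulAut.conj c h from rfl, MulEquiv.orderOf_eq] at e
    exact hx1 (orderOf_eq_one_iff.1 ((mul_eq_left₀ (orderOf_pos h).ne').1 e.symm))
  · obtain ⟨o, ⟨H, hH, rfl⟩, hmin⟩ := exists_minimal_nat (P := fun o => ∃ H : Subgroup G,
      H ⊔ N = ⊤ ∧ Nat.card H = o) ⟨_, ⊤, top_sup_eq N, rfl⟩
    refine ⟨H, hH, ?_⟩
    have hmin' : ∀ Q : Subgroup G, Q ≤ H → Q ⊔ N = ⊤ → Q = H := fun Q hQ hQN =>
      Subgroup.eq_of_le_of_card_ge hQ (hmin _ ⟨Q, hQN, rfl⟩)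
    set D := N.subgroupOf H with hD
    haveI : D.Normal := inferInstance
    have hsupD : ∀ Q : Subgroup H, Q ⊔ D = ⊤ → Q = ⊤ := by
      intro Q hQ
      have hQN : Q.map H.subtype ⊔ N = ⊤ := by
        rw [eq_top_iff, ← hH, sup_le_iff]
        refine ⟨?_, le_sup_right⟩
        calc H = (⊤ : Subgroup H).map H.subtype := by rw [← MonoidHom.range_eq_map, Subgroup.range_subtype]
          _ = Q.map H.subtype ⊔ D.map H.subtype := by rw [← Subgroup.map_sup, hQ]
          _ ≤ _ := sup_le_sup le_rfl (fun z ⟨w, hw, hz⟩ => hz ▸ hw)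
      have := hmin' _ (Subgroup.map_subtype_le Q) hQN
      exact eq_top_iff.2 fun z _ => by
        obtain ⟨w, hw, hwz⟩ := this.symm.le z.2
        exact (Subtype.ext hwz : w = z) ▸ hw
    -- every prime divisor of `|H|` divides the index of `N`
    have hprimes : ∀ r : ℕ, r.Prime → r ∣ Nat.card H → r ∣ D.index := by
      intro r hr hrH
      by_contra hno
      haveI := Fact.mk hr
      obtain ⟨R⟩ := (inferInstance : Nonempty (Sylow r D))
      set R' := (R : Subgroup D).map D.subtype with hR'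
      have hRn : R'.Normal := Subgroup.normalizer_eq_top_iff.1 (hsupD _ (Sylow.normalizer_sup_eq_top R))
      have hcard : Nat.card R' = Nat.card (R : Subgroup D) :=
        Subgroup.card_map_of_injective D.subtype_injective
      have hidx : R'.index = (R : Subgroup D).index * D.index := by
        rw [hR', Subgroup.index_map_subtype]
      have hnd : ¬ r ∣ R'.index := by
        rw [hidx]; exact fun h => (hr.dvd_mul.1 h).elim R.not_dvd_index hno
      have hcop : (Nat.card R').Coprime R'.index := by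
        obtain ⟨k, hk⟩ := R.isPGroup'.exists_card_eq
        rw [hcard, hk]
        exact (hr.coprime_iff_not_dvd.2 hnd).pow_left k
      haveI := hRn
      obtain ⟨Q, hQ⟩ := Subgroup.exists_right_complement'_of_coprime hcop
      have hQtop : Q = ⊤ := hsupD Q (top_le_iff.1 (hQ.sup_eq_top ▸ sup_le (le_sup_of_le_right (Subgroup.map_subtype_le _)) le_sup_left))
      have h1' : R' = ⊥ := by
        have := hQ.disjoint
        rw [hQtop] at this
        exact disjoint_top.1 this
      rw [h1', Subgroup.index_bot] at hnd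
      exact hnd hrH
    rw [Subgroup.eq_bot_iff_forall]
    rintro z ⟨hzH, hzM⟩
    by_contra hz
    obtain ⟨r, hr, hrz⟩ := Nat.exists_prime_and_dvd (fun e => hz (orderOf_eq_one_iff.1 e))
    have hDi : D.index = N.index := by
      show N.relIndex H = _
      have h := Subgroup.relIndex_sup_right (K := N) (H := H)
      rwa [hH, Subgroup.relIndex_top_right, eq_comm] at h
    exact Nat.Prime.not_coprime_iff_dvd.2 ⟨r, hr,
      hDi ▸ hprimes r hr (hrz.trans (Subgroup.orderOf_dvd_natCard H hzH)),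
      hrz.trans (Subgroup.orderOf_dvd_natCard M hzM)⟩ (h12 h1)

end Cfsg.Agent.S4112
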