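import Cfsg.Statements.S4113
import Cfsg.Agent.Lib.FGS.FPFConj

set_option autoImplicit false
open Cfsg

namespace Cfsg.Agent.S4113

/-- Let G be a finite group, M ≤ N non-trivial proper normal subgroups, and H a subgroup with HM = G and H ∩ M = 1. Then every element of G outside N acts fixed-point-freely on M (C_G(x) ≤ N for every x ∈ M, x ≠ 1) if and only if H ∩ gHg⁻¹ ≤ H ∩ N for every g outside H, with H proper and non-trivial and H ∩ N proper in H. -/
theorem result {G : Type*} [Group G] [Finite G] (N M : Subgroup G) [N.Normal] [M.Normal] (hMN : M ≤ N) (hM1 : M ≠ ⊥) (hN2 : N ≠ ⊤)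
    (H : Subgroup G) (hHM : H ⊔ M = ⊤) (hHM' : H ⊓ M = ⊥) :
    (∀ x ∈ M, x ≠ 1 → Subgroup.centralizer ({x} : Set G) ≤ N) ↔
      (H ≠ ⊥ ∧ H ≠ ⊤ ∧ H ⊓ N < H ∧ ∀ g : G, g ∉ H → H ⊓ H.map (MulAut.conj g).toMonoidHom ≤ N) := by
  have hdec : ∀ g : G, ∃ m ∈ M, ∃ h ∈ H, m * h = g := fun g => by
    have hg : g ∈ M ⊔ H := by rw [sup_comm, hHM]; exact Subgroup.mem_top g
    exact Subgroup.mem_sup_of_normal_left.1 hg
  have hmapmem : ∀ g x : G, x ∈ H.map (MulAut.conj g).toMonoidHom ↔ g⁻¹ * x * g ∈ H := by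
    intro g x
    constructor
    · rintro ⟨y, hy, rfl⟩
      simpa [mul_assoc] using hy
    · intro hx
      exact ⟨_, hx, by simp [mul_assoc]⟩
  constructor
  · intro hfp
    refine ⟨fun e => ?_, fun e => ?_, ?_, ?_⟩
    · rw [e, bot_sup_eq] at hHM
      exact hN2 (top_le_iff.1 (hHM ▸ hMN))
    · rw [e, top_inf_eq] at hHM'
      exact hM1 hHM'
    · refine lt_of_le_of_ne inf_le_left fun e => hN2 (top_le_iff.1 ?_)
      rw [← hHM]
      exact sup_le (inf_eq_left.1 e) hMN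
    · intro g hg x hx
      obtain ⟨m, hm, h, hh, hgm⟩ := hdec g
      have hx1 : x ∈ H := hx.1
      have hx2 := (hmapmem g x).1 hx.2
      have hy : m⁻¹ * x * m ∈ H := by
        have := mul_mem (mul_mem hh hx2) (inv_mem hh)
        rw [← hgm] at this
        convert this using 1
        group
      have hc : x⁻¹ * (m⁻¹ * x * m) ∈ H ⊓ M := by
        refine Subgroup.mem_inf.2 ⟨mul_mem (inv_mem hx1) hy, ?_⟩
        rw [show x⁻¹ * (m⁻¹ * x * m) = x⁻¹ * m⁻¹ * x * m by group]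
        refine mul_mem ?_ hm
        simpa using Subgroup.Normal.conj_mem ‹M.Normal› m⁻¹ (inv_mem hm) x⁻¹
      rw [hHM', Subgroup.mem_bot, inv_mul_eq_one] at hc
      have hm1 : m ≠ 1 := fun e => hg (by rw [← hgm, e, one_mul]; exact hh)
      refine hfp m hm hm1 (Subgroup.mem_centralizer_singleton_iff.2 ?_)
      nth_rw 2 [hc]
      group
  · rintro ⟨-, -, -, hTI⟩ x hx hx1 g hg
    by_contra hgN
    obtain ⟨m, hm, h, hh, hgm⟩ := hdec g
    have hhN : h ∉ N := fun h' => hgN (hgm ▸ mul_mem (hMN hm) h')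
    have hfp : ∀ n ∈ M, n * h = h * n → n = 1 := by
      intro n hn hc
      by_contra hn1
      refine hhN (hTI n (fun h' => hn1 (Subgroup.mem_bot.1 (hHM' ▸ ⟨h', hn⟩ : n ∈ (⊥ : Subgroup G))))
        ⟨hh, (hmapmem n h).2 ?_⟩)
      rw [show n⁻¹ * h * n = h by rw [mul_assoc, ← hc, ← mul_assoc, inv_mul_cancel, one_mul]]
      exact hh
    obtain ⟨w, hw, hwh⟩ := CfsgLib.FGS.exists_conj_eq_mul_of_fpf M hfp hm
    rw [Subgroup.mem_centralizer_singleton_iff] at hg
    rw [← hgm, ← hwh] at hg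
    have h2 : (w⁻¹ * x * w) * h = h * (w⁻¹ * x * w) := by
      calc (w⁻¹ * x * w) * h = w⁻¹ * (x * (w * h * w⁻¹)) * w := by group
        _ = w⁻¹ * (w * h * w⁻¹ * x) * w := by rw [hg]
        _ = h * (w⁻¹ * x * w) := by group
    have h3 := hfp _ (by simpa using Subgroup.Normal.conj_mem ‹M.Normal› x hx w⁻¹) h2
    exact hx1 (by
      calc x = w * (w⁻¹ * x * w) * w⁻¹ := by group
        _ = 1 := by rw [h3]; group)

end Cfsg.Agent.S4113
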