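import Cfsg.Statements.S4115
import Cfsg.Agent.Lib.FGS.TIHallStructure

set_option autoImplicit false
open Cfsg

namespace Cfsg.Agent.S4115

universe u

/-- Let G be a finite group and H a subgroup that meets each of its conjugates by elements outside N_G(H) trivially and whose order is coprime to its index in N_G(H). Then H has a normal complement in N_G(H) if and only if H has a normal complement in G. Moreover, if H is not normal in G and has a normal complement in N_G(H), then H is isomorphic to a Frobenius complement of some finite Frobenius group. -/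
theorem result {G : Type u} [Group G] [Finite G] (H : Subgroup G)
    (hTI : Cfsg.IsTISubset (H : Set G)) (hHall : (Nat.card H).Coprime (H.subgroupOf (Subgroup.normalizer (H : Set G))).index) :
    ((∃ K : Subgroup (Subgroup.normalizer (H : Set G)), K.Normal ∧ K.IsComplement' (H.subgroupOf (Subgroup.normalizer (H : Set G)))) ↔
      (∃ N : Subgroup G, N.Normal ∧ N.IsComplement' H)) ∧
    (¬ H.Normal → (∃ K : Subgroup (Subgroup.normalizer (H : Set G)), K.Normal ∧ K.IsComplement' (H.subgroupOf (Subgroup.normalizer (H : Set G)))) →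
      ∃ (F : Type u) (_ : Group F) (_ : Finite F) (C : Subgroup F), Cfsg.IsFrobeniusComplement C ∧ Nonempty (H ≃* C)) := by
  refine ⟨⟨fun hK => CfsgLib.FGS.exists_normal_complement_of_TI_hall H hTI hHall hK, ?_⟩, fun hnn hK => ?_⟩
  · rintro ⟨N, hN, hc⟩
    set M := Subgroup.normalizer (H : Set G)
    refine ⟨N.subgroupOf M, hN.subgroupOf M, Subgroup.isComplement'_of_disjoint_and_mul_eq_univ ?_ ?_⟩
    · rw [disjoint_iff, eq_bot_iff]
      intro x hx
      have h1 : (x : G) ∈ N ⊓ H := ⟨hx.1, hx.2⟩
      rw [hc.disjoint.eq_bot, Subgroup.mem_bot] at h1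
      exact Subgroup.mem_bot.2 (Subtype.ext h1)
    · refine Set.eq_univ_of_forall fun x => ?_
      obtain ⟨⟨n, h⟩, hnh⟩ := hc.2 (x : G)
      have hnM : (n : G) ∈ M := by
        have : (n : G) = (x : G) * (h : G)⁻¹ := by rw [← hnh]; group
        rw [this]
        exact mul_mem x.2 (inv_mem (Subgroup.le_normalizer h.2))
      exact ⟨⟨n, hnM⟩, n.2, ⟨h, Subgroup.le_normalizer h.2⟩, h.2, Subtype.ext hnh⟩
  · obtain ⟨N, hN, hc⟩ := CfsgLib.FGS.exists_normal_complement_of_TI_hall H hTI hHall hK
    haveI := hN
    exact CfsgLib.FGS.exists_frobenius_complement H N hc hTI hHall hnn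

end Cfsg.Agent.S4115
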