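import Cfsg.Statements.S4116
import Cfsg.Agent.Lib.FGS.Basics

set_option autoImplicit false
open Cfsg

namespace Cfsg.Agent.S4116

/-- Let G be a finite group with a subgroup H whose order is coprime to its index (a Hall subgroup) and which meets each of its conjugates by elements outside N_G(H) trivially. Then every subgroup of G whose order is divisible only by primes dividing the order of H lies in a conjugate of H. -/
theorem result {G : Type*} [Group G] [Finite G] (H : Subgroup G)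
    (hHall : (Nat.card H).Coprime H.index) (hTI : Cfsg.IsTISubset (H : Set G))
    (K : Subgroup G) (hK : ∀ q : ℕ, q.Prime → q ∣ Nat.card K → q ∣ Nat.card H) :
    ∃ g : G, K ≤ H.map (MulAut.conj g).toMonoidHom := by
  classical
  by_cases hK1 : K = ⊥
  · exact ⟨1, hK1 ▸ bot_le⟩
  set J : G → Subgroup K := fun g => (H.map (MulAut.conj g).toMonoidHom).subgroupOf K with hJ
  have hmem : ∀ g (k : K), k ∈ J g ↔ g⁻¹ * (k : G) * g ∈ H := by
    intro g k
    rw [hJ, Subgroup.mem_subgroupOf]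
    constructor
    · rintro ⟨y, hy, e⟩
      rw [← e]; simpa [mul_assoc] using hy
    · intro h; exact ⟨_, h, by simp [mul_assoc]⟩
  have hTI' : ∀ g g' z : G, g⁻¹ * z * g ∈ H → g'⁻¹ * z * g' ∈ H → z ≠ 1 →
      g'⁻¹ * g ∈ Subgroup.normalizer (H : Set G) := by
    intro g g' z hg hg' hz
    by_contra hn
    refine hz ?_
    have h := hTI _ hn _ hg (by
      show g'⁻¹ * g * (g⁻¹ * z * g) * (g'⁻¹ * g)⁻¹ ∈ H
      convert hg' using 1
      group)
    calc z = g * (g⁻¹ * z * g) * g⁻¹ := by group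
      _ = 1 := by rw [h]; group
  -- a `π(H)`-element normalising `H` lies in it
  have hNH : ∀ z : G, z ∈ Subgroup.normalizer (H : Set G) →
      (∀ q : ℕ, q.Prime → q ∣ orderOf z → q ∣ Nat.card H) → z ∈ H := by
    intro z hz hzq
    set N := Subgroup.normalizer (H : Set G)
    haveI : (H.subgroupOf N).Normal := Subgroup.normal_in_normalizer
    refine (QuotientGroup.eq_one_iff (N := H.subgroupOf N) (⟨z, hz⟩ : N)).1 ?_
    refine orderOf_eq_one_iff.1 ?_
    by_contra hne
    obtain ⟨q, hq, hqd⟩ := Nat.exists_prime_and_dvd hne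
    have h1 : q ∣ orderOf z := hqd.trans (by
      rw [← Subgroup.orderOf_mk z hz]; exact orderOf_map_dvd (QuotientGroup.mk' _) _)
    have h2 : q ∣ H.index := hqd.trans ((orderOf_dvd_natCard _).trans (by
      rw [← Subgroup.index_eq_card, ← Subgroup.relIndex_mul_index (Subgroup.le_normalizer : H ≤ N)]
      exact Dvd.intro _ rfl))
    exact Nat.Prime.not_coprime_iff_dvd.2 ⟨q, hq, hzq q hq h1, h2⟩ hHall
  -- the conjugation sets
  let F : (g : G) → (K ⧸ J g) × {h : J g // h ≠ 1} → {k : K // k ≠ 1} := fun g z =>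
    ⟨z.1.out * (z.2.1 : K) * z.1.out⁻¹, fun e => z.2.2 (Subtype.ext (conj_eq_one_iff.1 e))⟩
  have hFi : ∀ g, Function.Injective (F g) := by
    rintro g ⟨a, ha⟩ ⟨b, hb⟩ e
    have e' : a.out * (ha.1 : K) * a.out⁻¹ = b.out * (hb.1 : K) * b.out⁻¹ := congrArg Subtype.val e
    have hm : (hb.1 : K) = (a.out⁻¹ * b.out)⁻¹ * (ha.1 : K) * (a.out⁻¹ * b.out) := by
      calc (hb.1 : K) = b.out⁻¹ * (b.out * (hb.1 : K) * b.out⁻¹) * b.out := by group
        _ = _ := by rw [← e']; group
    set m := a.out⁻¹ * b.out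
    have h1 := (hmem g _).1 ha.1.2
    have h2 := (hmem g _).1 hb.1.2
    rw [hm] at h2
    push_cast at h2
    have hn := hTI' g ((m : G) * g) ((ha.1 : K) : G) h1 (by convert h2 using 1; group)
      (fun e => ha.2 (Subtype.ext (Subtype.ext e)))
    have hmJ : m ∈ J g := by
      rw [hmem]
      have hq : ∀ q : ℕ, q.Prime → q ∣ orderOf (g⁻¹ * (m : G) * g) → q ∣ Nat.card H := by
        intro q hq' hd
        rw [show g⁻¹ * (m : G) * g = MulAut.conj g⁻¹ (m : G) by simp [MulAut.conj_apply],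
          MulEquiv.orderOf_eq] at hd
        exact hK q hq' (hd.trans (Subgroup.orderOf_dvd_natCard K m.2))
      refine hNH _ ?_ hq
      have h3 := inv_mem hn
      convert h3 using 1
      group
    have hab : a = b := by
      rw [← QuotientGroup.out_eq' a, ← QuotientGroup.out_eq' b, QuotientGroup.eq]
      exact hmJ
    subst hab
    refine Prod.ext rfl (Subtype.ext (Subtype.ext ?_))
    simpa using e'
  have hcard : ∀ g, Nat.card ((K ⧸ J g) × {h : J g // h ≠ 1}) + (J g).index = Nat.card K := by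
    intro g
    haveI := Fintype.ofFinite (J g)
    rw [Nat.card_prod, show Nat.card {h : J g // h ≠ 1} = Nat.card (J g) - 1 by
      rw [Nat.card_eq_fintype_card, Nat.card_eq_fintype_card, Fintype.card_subtype_compl,
        Fintype.card_subtype_eq], ← Subgroup.index_eq_card, Nat.mul_sub, mul_one]
    rw [Nat.sub_add_cancel (Nat.le_mul_of_pos_right _ Nat.card_pos), Subgroup.index_mul_card]
  have hhalf : ∀ g, J g ≠ ⊥ → 2 * (J g).index ≤ Nat.card K := by
    intro g hg
    rw [← (J g).index_mul_card, mul_comm (J g).index]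
    refine Nat.mul_le_mul_right _ ?_
    have := (Subgroup.one_lt_card_iff_ne_bot (J g)).2 hg
    omega
  have hsyl : ∀ (q : ℕ) [Fact q.Prime] (S : Sylow q K), q ∣ Nat.card H →
      ∃ g, (S : Subgroup K) ≤ J g := by
    intro q _ S hqH
    obtain ⟨T⟩ := (inferInstance : Nonempty (Sylow q H))
    have hT : ¬ q ∣ ((T : Subgroup H).map H.subtype).index := by
      rw [Subgroup.index_map_subtype]
      exact fun h => ((Fact.out : q.Prime).dvd_mul.1 h).elim T.not_dvd_index
        fun h' => Nat.Prime.not_coprime_iff_dvd.2 ⟨q, Fact.out, hqH, h'⟩ hHall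
    let T' := ((T.isPGroup'.map H.subtype).toSylow hT)
    obtain ⟨T₂, hT₂⟩ := (S.isPGroup'.map K.subtype).exists_le_sylow
    obtain ⟨c, hc⟩ := MulAction.exists_smul_eq G T' T₂
    refine ⟨c, fun k hk => (hmem c k).2 ?_⟩
    have h := hT₂ ⟨k, hk, rfl⟩
    rw [← hc, Sylow.coe_subgroup_smul, CfsgLib.FGS.mem_conj_smul] at h
    exact Subgroup.map_subtype_le _ h
  obtain ⟨q₀, hq₀, hq₀d⟩ := Nat.exists_prime_and_dvd
    (fun e : Nat.card K = 1 => hK1 (Subgroup.card_eq_one.1 e))
  haveI := Fact.mk hq₀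
  obtain ⟨S₀⟩ := (inferInstance : Nonempty (Sylow q₀ K))
  obtain ⟨g₀, hg₀⟩ := hsyl q₀ S₀ (hK q₀ hq₀ hq₀d)
  have hJ₀ : J g₀ ≠ ⊥ := fun e => S₀.ne_bot_of_dvd_card hq₀d (le_bot_iff.1 (e ▸ hg₀))
  refine ⟨g₀, Subgroup.subgroupOf_eq_top.1 (Subgroup.eq_top_of_card_eq (J g₀) ?_)⟩
  refine Nat.dvd_antisymm (Subgroup.card_subgroup_dvd_card _) ((Nat.dvd_iff_prime_pow_dvd_dvd _ _).2 ?_)
  intro r k hr hrk
  rcases Nat.eq_zero_or_pos k with rfl | hk0
  · simp
  haveI := Fact.mk hr
  obtain ⟨S⟩ := (inferInstance : Nonempty (Sylow r K))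
  have hrK : r ∣ Nat.card K := (dvd_pow_self r hk0.ne').trans hrk
  obtain ⟨g, hg⟩ := hsyl r S (hK r hr hrK)
  have hJg : J g ≠ ⊥ := fun e => S.ne_bot_of_dvd_card hrK (le_bot_iff.1 (e ▸ hg))
  refine (S.pow_dvd_card_of_pow_dvd_card hrk).trans ((Subgroup.card_dvd_of_le hg).trans ?_)
  -- the two orbits coincide
  by_cases hmeet : ∃ u v, (F g u : {k : K // k ≠ 1}) = F g₀ v
  · obtain ⟨⟨a, ha⟩, ⟨b, hb⟩, e⟩ := hmeet
    have e' : a.out * (ha.1 : K) * a.out⁻¹ = b.out * (hb.1 : K) * b.out⁻¹ := congrArg Subtype.val e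
    set m := a.out⁻¹ * b.out with hm
    have hm' : (ha.1 : K) = m * (hb.1 : K) * m⁻¹ := by
      calc (ha.1 : K) = a.out⁻¹ * (a.out * (ha.1 : K) * a.out⁻¹) * a.out := by group
        _ = _ := by rw [e', hm]; group
    have h1 := (hmem g _).1 ha.1.2
    have hn := hTI' g ((m : G) * g₀) ((ha.1 : K) : G) h1 (by
      have h2 := (hmem g₀ _).1 hb.1.2
      rw [hm']; push_cast
      convert h2 using 1
      group)
      (fun e => ha.2 (Subtype.ext (Subtype.ext e)))
    refine (Nat.card_congr ?_).dvd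
    refine { toFun := fun k => ⟨m⁻¹ * (k : K) * m, ?_⟩, invFun := fun k => ⟨m * (k : K) * m⁻¹, ?_⟩, left_inv := ?_, right_inv := ?_ }
    · rw [hmem]
      have h2 := (Subgroup.mem_normalizer_iff.1 hn _).1 ((hmem g _).1 k.2)
      push_cast
      convert h2 using 1
      group
    · rw [hmem]
      have h2 := (Subgroup.mem_normalizer_iff.1 (inv_mem hn) _).1 ((hmem g₀ _).1 k.2)
      push_cast
      convert h2 using 1
      group
    · exact fun k => Subtype.ext (by show m * (m⁻¹ * (k : K) * m) * m⁻¹ = k; group)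
    · exact fun k => Subtype.ext (by show m⁻¹ * (m * (k : K) * m⁻¹) * m = k; group)
  · exfalso
    have hinj : Function.Injective (Sum.elim (F g) (F g₀)) :=
      (hFi g).sumElim (hFi g₀) fun u v e => hmeet ⟨u, v, e⟩
    have hle := Nat.card_le_card_of_injective _ hinj
    haveI := Fintype.ofFinite K
    have hne : Nat.card {k : K // k ≠ 1} = Nat.card K - 1 := by
      rw [Nat.card_eq_fintype_card, Nat.card_eq_fintype_card, Fintype.card_subtype_compl,
        Fintype.card_subtype_eq]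
    rw [Nat.card_sum, hne] at hle
    have := hcard g
    have := hcard g₀
    have := hhalf g hJg
    have := hhalf g₀ hJ₀
    have := Nat.card_pos (α := K)
    omega

end Cfsg.Agent.S4116
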