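import Cfsg.Statements.S4117
import Mathlib.GroupTheory.SpecificGroups.ZGroup
import Cfsg.Agent.Lib.FGS.Basics

set_option autoImplicit false
open Cfsg

namespace Cfsg.Agent.S4117

variable {G A : Type*} [Group G] [Finite G] [Group A] [Finite A] [MulDistribMulAction A G]

/-- An element moved by an element of fixed-point order is fixed if the orders are coprime. -/
theorem pow_card_eq_one_of_cocycle (a : A) (g c : G) (hc : a • c = c) (hg : a • g = g * c) :
    c ^ Nat.card A = 1 := by
  have h : ∀ i : ℕ, a ^ i • g = g * c ^ i := by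
    intro i
    induction i with
    | zero => simp
    | succ i ih => rw [pow_succ', mul_smul, ih, smul_mul', hg, smul_pow', hc, mul_assoc, ← pow_succ']
  have h1 := h (Nat.card A)
  rw [pow_card_eq_one', one_smul] at h1
  exact mul_eq_left.1 h1.symm

/-- In a cyclic group, a coprime action fixing the elements killed by `p` fixes every element
killed by a power of `p`. -/
theorem smul_eq_self_of_pPow (p : ℕ) (hp : p.Prime) (hcop : (Nat.card A).Coprime p) (L : Subgroup G)
    (hab : ∀ u ∈ L, ∀ v ∈ L, u * v = v * u) (hinv : ∀ (a : A), ∀ u ∈ L, a • u ∈ L)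
    (hbase : ∀ (a : A), ∀ u ∈ L, u ^ p = 1 → a • u = u) :
    ∀ (j : ℕ) (a : A), ∀ u ∈ L, u ^ (p ^ j) = 1 → a • u = u := by
  intro j
  induction j with
  | zero => intro a u _ hu; rw [pow_zero, pow_one] at hu; rw [hu, smul_one]
  | succ j ih =>
    intro a u huL hu
    have hc : u⁻¹ * a • u ∈ L := mul_mem (inv_mem huL) (hinv a u huL)
    have hp' : a • (u ^ p) = u ^ p := ih a _ (pow_mem huL p) (by rw [← pow_mul, ← pow_succ', hu])
    have hcp : (u⁻¹ * a • u) ^ p = 1 := by
      rw [(show Commute u⁻¹ (a • u) from hab _ (inv_mem huL) _ (hinv a u huL)).mul_pow, inv_pow,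
        ← smul_pow', hp', inv_mul_cancel]
    have h1 := pow_card_eq_one_of_cocycle a u (u⁻¹ * a • u) (hbase a _ hc hcp) (by group)
    have h2 : (u⁻¹ * a • u) ^ (Nat.gcd (Nat.card A) p) = 1 := pow_gcd_eq_one.2 ⟨h1, hcp⟩
    rw [hcop.gcd_eq_one, pow_one, inv_mul_eq_one] at h2
    exact h2.symm

/-- Let A be a finite group acting on the finite group G by automorphisms with the orders of A and G coprime, and suppose every Sylow subgroup of G is cyclic. Then the fixed-point subgroup C_G(A) is a Hall subgroup of G (its order is coprime to its index), the subgroup [G, A] generated by the elements g⁻¹·a(g) is cyclic and normal with [G, A] ∩ C_G(A) = 1 and [G, A]·C_G(A) = G. -/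
theorem result {G A : Type*} [Group G] [Finite G] [Group A] [Finite A]
    [MulDistribMulAction A G] (hcop : (Nat.card A).Coprime (Nat.card G))
    (hcyc : ∀ (p : ℕ) [Fact p.Prime] (P : Sylow p G), IsCyclic (P : Subgroup G)) :
    (Nat.card (MulAction.fixedPoints A G : Set G)).Coprime (Nat.card G / Nat.card (MulAction.fixedPoints A G : Set G)) ∧
    IsCyclic (Subgroup.closure {y : G | ∃ (a : A) (g : G), y = g⁻¹ * a • g}) ∧
    (Subgroup.closure {y : G | ∃ (a : A) (g : G), y = g⁻¹ * a • g}).Normal ∧
    (Subgroup.closure {y : G | ∃ (a : A) (g : G), y = g⁻¹ * a • g} : Set G) ∩ MulAction.fixedPoints A G = {1} ∧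
    Subgroup.closure {y : G | ∃ (a : A) (g : G), y = g⁻¹ * a • g} ⊔ Subgroup.closure (MulAction.fixedPoints A G) = ⊤ := by
  classical
  have := Fintype.ofFinite A
  have : IsZGroup G := ⟨fun p hp P => @hcyc p ⟨hp⟩ P⟩
  set D := Subgroup.closure {y : G | ∃ (a : A) (g : G), y = g⁻¹ * a • g} with hD
  set K := commutator G with hK
  have : IsCyclic K := IsZGroup.isCyclic_commutator G
  set L := Subgroup.centralizer (K : Set G) with hL
  have : L.Normal := by rw [hL, hK]; infer_instance
  have : IsCyclic L := by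
    have hker : (Abelianization.of.comp L.subtype).ker ≤ Subgroup.center L := by
      intro u hu
      have hu' : (u : G) ∈ K := by
        rw [MonoidHom.mem_ker, MonoidHom.comp_apply] at hu
        rw [hK, ← Abelianization.ker_of]
        exact hu
      exact Subgroup.mem_center_iff.2 fun v =>
        Subtype.ext (Subgroup.mem_centralizer_iff.1 v.2 _ hu').symm
    have hcomm : IsMulCommutative L :=
      (Abelianization.of.comp L.subtype).rangeRestrict.isMulCommutative_of_isCyclic_of_ker_le_center
        (by rw [MonoidHom.ker_rangeRestrict]; exact hker)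
    letI : CommGroup L := { (inferInstance : Group L) with mul_comm := hcomm.1.1 }
    infer_instance
  letI : CommGroup L := IsCyclic.commGroup
  have hab : ∀ u ∈ L, ∀ v ∈ L, u * v = v * u := fun u hu v hv =>
    congrArg Subtype.val ((IsCyclic.isMulCommutative (α := L)).1.1 ⟨u, hu⟩ ⟨v, hv⟩)
  let φ : A → G ≃* G := fun a => MulDistribMulAction.toMulAut A G a
  have hKinv : ∀ (a : A), ∀ u ∈ K, a • u ∈ K := fun a u hu =>
    (Subgroup.characteristic_iff_map_le.1 (inferInstance : (commutator G).Characteristic) (φ a))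
      ⟨u, hu, rfl⟩
  have hLinv : ∀ (a : A), ∀ u ∈ L, a • u ∈ L := by
    intro a u hu
    rw [hL, Subgroup.mem_centralizer_iff] at hu ⊢
    intro k hk
    have := congrArg (a • ·) (hu (a⁻¹ • k) (hKinv a⁻¹ k hk))
    simpa [smul_mul'] using this
  have hmemL : ∀ (a : A) (g : G), g⁻¹ * a • g ∈ L := by
    intro a g
    obtain ⟨n, hn⟩ := MonoidHom.map_cyclic
      ((MulAut.conjNormal g : MulAut K).toMonoidHom)
    have hconj : ∀ k ∈ K, g * k * g⁻¹ = k ^ n := fun k hk => by
      simpa [MulAut.conjNormal_apply] using congrArg Subtype.val (hn ⟨k, hk⟩)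
    rw [hL, Subgroup.mem_centralizer_iff]
    intro k hk
    have h1 := congrArg (a • ·) (hconj (a⁻¹ • k) (hKinv a⁻¹ k hk))
    simp only [smul_mul', smul_inv_smul, smul_inv', smul_zpow'] at h1
    have h2 : a • g * k * (a • g)⁻¹ = g * k * g⁻¹ := by rw [h1, hconj k hk]
    calc k * (g⁻¹ * a • g) = g⁻¹ * (g * k * g⁻¹) * (a • g) := by group
      _ = g⁻¹ * (a • g) * k := by rw [← h2]; group
  have hDL : D ≤ L := by
    rw [hD, Subgroup.closure_le]
    rintro _ ⟨a, g, rfl⟩
    exact hmemL a g
  have hDn : D.Normal := by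
    refine ⟨fun d hd g => ?_⟩
    obtain ⟨n, hn⟩ := MonoidHom.map_cyclic ((MulAut.conjNormal g : MulAut L).toMonoidHom)
    have := congrArg Subtype.val (hn ⟨d, hDL hd⟩)
    simp [MulAut.conjNormal_apply] at this
    rw [this]
    exact zpow_mem hd n
  have := hDn
  have : IsCyclic D :=
    isCyclic_of_injective (Subgroup.inclusion hDL) (Subgroup.inclusion_injective hDL)
  -- a fixed element of `D` of prime order does not exist
  have hnofix : ∀ p : ℕ, p.Prime → ∀ x ∈ D, (∀ a : A, a • x = x) → orderOf x ≠ p := by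
    intro p hp x hxD hfix hx
    have := Fact.mk hp
    have hpA : (Nat.card A).Coprime p := hcop.coprime_dvd_right (hx ▸ orderOf_dvd_natCard x)
    have hbase : ∀ (a : A), ∀ u ∈ L, u ^ p = 1 → a • u = u := by
      intro a u hu hup
      have h1 : Subgroup.zpowers (⟨x, hDL hxD⟩ : L) = (powMonoidHom p : L →* L).ker := by
        refine Subgroup.eq_of_le_of_card_ge ?_ ?_
        · rw [Subgroup.zpowers_le, MonoidHom.mem_ker, powMonoidHom_apply]
          exact Subtype.ext (by rw [SubmonoidClass.coe_pow, ← hx, pow_orderOf_eq_one]; rfl)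
        · rw [Nat.card_zpowers, Subgroup.orderOf_mk, hx]
          rw [IsCyclic.card_powMonoidHom_ker]
          exact Nat.le_of_dvd hp.pos (Nat.gcd_dvd_right _ _)
      have h2 : (⟨u, hu⟩ : L) ∈ Subgroup.zpowers (⟨x, hDL hxD⟩ : L) := by
        rw [h1, MonoidHom.mem_ker, powMonoidHom_apply]
        exact Subtype.ext hup
      obtain ⟨i, hi⟩ := Subgroup.mem_zpowers_iff.1 h2
      rw [← show x ^ i = u by simpa using congrArg Subtype.val hi, smul_zpow', hfix a]
    obtain ⟨e, r, hr, hcard⟩ := Nat.exists_eq_pow_mul_and_not_dvd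
      (Nat.card_pos (α := L)).ne' p hp.ne_one
    have hfixp := smul_eq_self_of_pPow p hp hpA L hab hLinv hbase e
    have hsub : D ≤ (powMonoidHom r : L →* L).ker.map L.subtype := by
      rw [hD, Subgroup.closure_le]
      rintro _ ⟨a, g, rfl⟩
      refine ⟨⟨_, hmemL a g⟩, ?_, rfl⟩
      rw [SetLike.mem_coe, MonoidHom.mem_ker, powMonoidHom_apply]
      refine Subtype.ext ?_
      set c := g⁻¹ * a • g with hc
      show c ^ r = 1
      have hce : (c ^ r) ^ (p ^ e) = 1 := by
        rw [← pow_mul, mul_comm, ← hcard]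
        exact congrArg Subtype.val (pow_card_eq_one' (G := L) (x := ⟨c, hmemL a g⟩))
      have hfc : a • c ^ r = c ^ r := hfixp a _ (pow_mem (hmemL a g) r) hce
      have hi : ∀ i : ℕ, ∃ d ∈ L, a ^ i • g = g * d ∧ d ^ r = (c ^ r) ^ i := by
        intro i
        induction i with
        | zero => exact ⟨1, one_mem _, by simp, by simp⟩
        | succ i ih =>
          obtain ⟨d, hdL, hd, hdr⟩ := ih
          refine ⟨c * a • d, mul_mem (hmemL a g) (hLinv a d hdL), ?_, ?_⟩
          · rw [pow_succ', mul_smul, hd, smul_mul', ← mul_assoc, hc, mul_inv_cancel_left]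
          · rw [(show Commute c (a • d) from hab _ (hmemL a g) _ (hLinv a d hdL)).mul_pow,
              ← smul_pow', hdr, smul_pow', hfc, ← pow_succ']
      obtain ⟨d, -, hd, hdr⟩ := hi (Nat.card A)
      rw [pow_card_eq_one', one_smul] at hd
      rw [mul_eq_left.1 hd.symm, one_pow] at hdr
      have h3 := pow_gcd_eq_one.2 ⟨hdr.symm, hce⟩
      rwa [(Nat.Coprime.pow_right e hpA).gcd_eq_one, pow_one] at h3
    obtain ⟨u, hu, hux⟩ := hsub hxD
    rw [SetLike.mem_coe, MonoidHom.mem_ker, powMonoidHom_apply] at hu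
    refine hr ?_
    rw [← hx]
    refine orderOf_dvd_of_pow_eq_one ?_
    rw [← hux]
    exact congrArg Subtype.val hu
  let C : Subgroup G :=
    { carrier := MulAction.fixedPoints A G
      mul_mem' := fun hx hy a => by rw [smul_mul', hx a, hy a]
      one_mem' := fun a => smul_one a
      inv_mem' := fun hx a => by rw [smul_inv', hx a] }
  have hdisj : D ⊓ C = ⊥ := by
    rw [eq_bot_iff]
    intro x hx
    rw [Subgroup.mem_bot]
    by_contra hx1
    obtain ⟨p, hp, hpd⟩ := Nat.exists_prime_and_dvd (mt orderOf_eq_one_iff.1 hx1)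
    exact hnofix p hp (x ^ (orderOf x / p)) (pow_mem (Subgroup.mem_inf.1 hx).1 _)
      (pow_mem (Subgroup.mem_inf.1 hx).2 _) (orderOf_pow_orderOf_div (orderOf_pos x).ne' hpd)
  have hsup : D ⊔ C = ⊤ := by
    rw [eq_top_iff]
    intro g _
    letI : CommGroup D := { (inferInstance : Group D) with
      mul_comm := fun u v => Subtype.ext (hab _ (hDL u.2) _ (hDL v.2)) }
    let c : A → D := fun a => ⟨g⁻¹ * a • g, Subgroup.subset_closure ⟨a, g, rfl⟩⟩
    have hcoc : ∀ a b : A, a • (c b : G) = (c a : G)⁻¹ * c (a * b) := fun a b => by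
      simp only [c, smul_mul', smul_inv', mul_smul]
      group
    set W := ∏ b, c b with hW
    have hact : ∀ a : A, a • (W : G) = ((((c a) ^ Nat.card A)⁻¹ * W : D) : G) := by
      intro a
      have h1 : ∀ b, a • (c b : G) = (((c a)⁻¹ * c (a * b) : D) : G) := fun b => hcoc a b
      have h2 : a • (W : G) = ((∏ b, ((c a)⁻¹ * c (a * b)) : D) : G) := by
        rw [hW]
        induction (Finset.univ : Finset A) using Finset.induction with
        | empty => simp
        | @insert b s hb ih =>
          rw [Finset.prod_insert hb, Finset.prod_insert hb, Subgroup.coe_mul, Subgroup.coe_mul,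
            smul_mul', ih, h1]
      rw [h2, Finset.prod_mul_distrib, Finset.prod_const, Finset.card_univ, Nat.card_eq_fintype_card,
        inv_pow, hW, Fintype.prod_bijective (a * ·) (Group.mulLeft_bijective a) (fun b => c (a * b)) c
          (fun _ => rfl)]
    have hDinv : ∀ (a : A), ∀ u ∈ D, a • u ∈ D := by
      intro a u hu
      have hmap : D.map (φ a).toMonoidHom ≤ D := by
        conv_lhs => rw [hD]
        rw [MonoidHom.map_closure, Subgroup.closure_le]
        rintro _ ⟨_, ⟨b, h, rfl⟩, rfl⟩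
        have h1 : (h⁻¹ * a • h)⁻¹ * (h⁻¹ * (a * b) • h) ∈ D :=
          mul_mem (inv_mem (Subgroup.subset_closure ⟨a, h, rfl⟩)) (Subgroup.subset_closure ⟨a * b, h, rfl⟩)
        show a • (h⁻¹ * b • h) ∈ D
        convert h1 using 1
        simp only [smul_mul', smul_inv', mul_smul]
        group
      exact hmap ⟨u, hu, rfl⟩
    let e := powCoprime (G := D) (hcop.symm.coprime_dvd_left D.card_subgroup_dvd_card)
    set u := e.symm W with hu
    have hu' : u ^ Nat.card A = W := e.apply_symm_apply W
    have hfix : g * (u : G) ∈ C := by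
      intro a
      have h1 : (⟨a • (u : G), hDinv a _ u.2⟩ : D) = (c a)⁻¹ * u := by
        refine e.injective ?_
        show (⟨a • (u : G), hDinv a _ u.2⟩ : D) ^ Nat.card A = ((c a)⁻¹ * u) ^ Nat.card A
        refine Subtype.ext ?_
        rw [mul_pow, inv_pow, hu', SubmonoidClass.coe_pow, ← smul_pow', ← SubmonoidClass.coe_pow, hu',
          hact]
      have h2 : a • (u : G) = (g⁻¹ * a • g)⁻¹ * u := congrArg Subtype.val h1
      rw [smul_mul', h2]
      group
    have h3 : g = (g * (u : G)) * (u : G)⁻¹ := by group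
    rw [h3]
    exact mul_mem (Subgroup.mem_sup_right hfix) (Subgroup.mem_sup_left (inv_mem u.2))
  have hCcard : Nat.card (MulAction.fixedPoints A G : Set G) = Nat.card C := rfl
  have hcompl : D.IsComplement' C :=
    Subgroup.isComplement'_of_disjoint_and_mul_eq_univ (disjoint_iff.2 hdisj) (by
      rw [← Subgroup.normal_mul, hsup]; rfl)
  have hDcard : Nat.card G / Nat.card C = Nat.card D := by
    rw [← hcompl.card_mul_card, Nat.mul_div_cancel _ Nat.card_pos]
  refine ⟨?_, inferInstance, hDn, ?_, ?_⟩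
  · rw [hCcard, hDcard]
    refine Nat.coprime_of_dvd fun p hp hpC hpD => ?_
    have := Fact.mk hp
    obtain ⟨y, hy⟩ := exists_prime_orderOf_dvd_card' p hpC
    obtain ⟨x, hx⟩ := exists_prime_orderOf_dvd_card' p hpD
    rw [← Subgroup.orderOf_coe] at hy hx
    obtain ⟨P, hP⟩ := (CfsgLib.FGS.isPGroup_zpowers (k := 1) (hy.trans (pow_one p).symm)).exists_le_sylow
    obtain ⟨Q, hQ⟩ := (CfsgLib.FGS.isPGroup_zpowers (k := 1) (hx.trans (pow_one p).symm)).exists_le_sylow
    obtain ⟨g, hg⟩ := MulAction.exists_smul_eq G Q P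
    have hx' : g * (x : G) * g⁻¹ ∈ (P : Subgroup G) := by
      rw [← hg, Sylow.coe_subgroup_smul, CfsgLib.FGS.mem_conj_smul]
      simpa [mul_assoc] using hQ (Subgroup.mem_zpowers _)
    set z : (P : Subgroup G) := ⟨g * (x : G) * g⁻¹, hx'⟩ with hz
    have hzord : orderOf z = p := by
      rw [Subgroup.orderOf_mk]
      exact ((MulAut.conj g).orderOf_eq (x : G)).trans hx
    set w : (P : Subgroup G) := ⟨y, hP (Subgroup.mem_zpowers _)⟩ with hw
    have : IsCyclic (P : Subgroup G) := hcyc p P
    letI : CommGroup (P : Subgroup G) := IsCyclic.commGroup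
    have h1 : Subgroup.zpowers w = Subgroup.zpowers z := by
      have hker : ∀ v : (P : Subgroup G), orderOf v = p →
          Subgroup.zpowers v = (powMonoidHom p : (P : Subgroup G) →* (P : Subgroup G)).ker := by
        intro v hv
        refine Subgroup.eq_of_le_of_card_ge ?_ ?_
        · rw [Subgroup.zpowers_le, MonoidHom.mem_ker, powMonoidHom_apply]
          exact orderOf_dvd_iff_pow_eq_one.1 hv.dvd
        · rw [Nat.card_zpowers, hv, IsCyclic.card_powMonoidHom_ker]
          exact Nat.le_of_dvd hp.pos (Nat.gcd_dvd_right _ _)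
      rw [hker z hzord, hker w (by rw [Subgroup.orderOf_mk]; exact hy)]
    obtain ⟨i, hi⟩ := Subgroup.mem_zpowers_iff.1 (h1 ▸ Subgroup.mem_zpowers w)
    refine hnofix p hp (y : G) ?_ y.2 hy
    have h2 : (g * (x : G) * g⁻¹) ^ i = (y : G) := by simpa [hz, hw] using congrArg Subtype.val hi
    rw [← h2]
    exact zpow_mem (hDn.conj_mem _ x.2 g) i
  · ext x
    constructor
    · rintro ⟨hxD, hxC⟩
      have := hdisj.le (Subgroup.mem_inf.2 ⟨hxD, (show x ∈ C from hxC)⟩)
      simpa using this
    · rintro rfl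
      exact ⟨one_mem _, fun a => smul_one a⟩
  · rw [show Subgroup.closure (MulAction.fixedPoints A G) = C from Subgroup.closure_eq C]
    exact hsup

end Cfsg.Agent.S4117
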