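import Cfsg.Statements.S4118
import Cfsg.Agent.Lib.Icosa.Complement
import Cfsg.Agent.Lib.Icosa.Small
import Cfsg.Agent.Lib.Cores.Basic
import Cfsg.Agent.Lib.Cores.Fitting
import Cfsg.Agent.Lib.Solvable.Fitting
import Cfsg.Agent.Lib.Solvable.CoprimeAction
import Cfsg.Agent.Lib.Fusion.CyclicIndexTwo
import Cfsg.Agent.S3742

set_option autoImplicit false
open Cfsg

namespace Cfsg.Agent.S4118

open Subgroup
open scoped commutatorElement

open CfsgLib.Icosa in
theorem not_isSolvable_SL25 : ¬ Group.IsSolvable SL25 := by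
  intro hs
  obtain ⟨k, hk⟩ := hs.solvable
  have htop : ∀ D : Subgroup SL25, A5 ∈ D → B5 ∈ D → D = ⊤ := fun D ha hb => by
    refine (eq_top_iff' D).2 fun m => ?_
    obtain ⟨w, rfl⟩ := wordG_surjective m
    induction w using List.reverseRecOn with
    | nil => exact one_mem D
    | append_singleton w t ih =>
      rw [wordG_append]
      refine D.mul_mem ih ?_
      cases t <;> simpa [wordG]
  have hA : ∀ x : SL25, x = ⟨!![0, 1; 4, 0], by decide⟩ → ⁅x, A5⁆ = A5 := by
    intro x hx
    rw [commutatorElement_def, hx]; decide +kernel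
  have hB : ∀ x : SL25, x = ⟨!![1, 3; 1, 4], by decide⟩ → ⁅x, B5⁆ = B5 := by
    intro x hx
    rw [commutatorElement_def, hx]; decide +kernel
  have h : ∀ j, derivedSeries SL25 j = ⊤ := fun j => by
    induction j with
    | zero => rfl
    | succ j ih =>
      refine htop _ ?_ ?_ <;> rw [derivedSeries_succ, ih]
      · rw [← hA _ rfl]; exact commutator_mem_commutator (mem_top _) (mem_top _)
      · rw [← hB _ rfl]; exact commutator_mem_commutator (mem_top _) (mem_top _)
  rw [h k] at hk
  have h1 : A5 ∈ (⊥ : Subgroup SL25) := hk ▸ mem_top _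
  exact absurd (mem_bot.1 h1) (by decide +kernel)

theorem solvable_of_kernels {ι : Type*} (s : Finset ι) {X : ι → Type*} [∀ i, Group (X i)]
    (hX : ∀ i, Group.IsSolvable (X i)) : ∀ {N : Type*} [Group N] (f : ∀ i, N →* X i),
    Group.IsSolvable ↥(⨅ i ∈ s, (f i).ker) → Group.IsSolvable N := by
  classical
  induction s using Finset.induction with
  | empty =>
    intro N _ f h
    have e : (⨅ i ∈ (∅ : Finset ι), (f i).ker) = (⊤ : Subgroup N) := by simp
    rw [e] at h
    exact Group.isSolvable_of_surjective (f := (topEquiv : (⊤ : Subgroup N) ≃* N).toMonoidHom) topEquiv.surjective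
  | insert a t _ ih =>
    intro N _ f h
    refine CfsgLib.InvolChar.A8Normalizer.isSolvable_of_hom (f a) (ih (fun i => (f i).comp (f a).ker.subtype) ?_) (hX a)
    let K := ⨅ i ∈ t, ((f i).comp (f a).ker.subtype).ker
    have hle : ∀ x : K, ((x : (f a).ker) : N) ∈ ⨅ i ∈ insert a t, (f i).ker := fun x => by
      simp only [mem_iInf]
      intro i hi
      rcases Finset.mem_insert.1 hi with rfl | hi
      · exact (x : (f i).ker).2
      · exact mem_iInf.1 (mem_iInf.1 x.2 i) hi
    exact Group.isSolvable_of_isSolvable_injective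
      (f := (((f a).ker.subtype.comp K.subtype).codRestrict _ hle))
      fun x y hxy => K.subtype_injective ((f a).ker.subtype_injective (congrArg Subtype.val hxy :))

/-- Automorphism groups of cyclic and quaternion `2`-groups are solvable. -/
theorem isSolvable_mulAut_cyclic_or_quaternion {P : Type*} [Group P] [Finite P] {p : ℕ}
    (h : IsCyclic P ∨ (p = 2 ∧ ∃ n : ℕ, Nonempty (P ≃* QuaternionGroup (2 ^ n)))) :
    Group.IsSolvable (MulAut P) := by
  have cyc : IsCyclic P → Group.IsSolvable (MulAut P) := fun hc => by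
    have := hc
    obtain ⟨e⟩ : Nonempty (MulAut P ≃* (ZMod (Nat.card P))ˣ) := ⟨IsCyclic.mulAutMulEquiv P⟩
    exact Group.isSolvable_of_isSolvable_injective (f := e.toMonoidHom) e.injective
  rcases h with h | ⟨-, n, ⟨e⟩⟩
  · exact cyc h
  rcases Nat.lt_trichotomy n 1 with hn | rfl | hn
  · obtain rfl : n = 0 := by omega
    refine cyc (e.isCyclic.2 ?_)
    rw [pow_zero]
    exact isCyclic_of_orderOf_eq_card (QuaternionGroup.xa 0) (by
      rw [QuaternionGroup.orderOf_xa, Nat.card_eq_fintype_card, QuaternionGroup.card]; rfl)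
  · obtain ⟨e'⟩ := Cfsg.Agent.S3742.result
    have : Group.IsSolvable (Equiv.Perm (Fin 4)) := CfsgLib.InvolChar.A8Normalizer.isSolvable_of_card_lt_sixty (by
      rw [Nat.card_perm, Nat.card_fin]; decide)
    let E : MulAut P ≃* Equiv.Perm (Fin 4) :=
      (MulAut.congr (e.trans (MulEquiv.refl (QuaternionGroup 2)))).trans e'
    exact Group.isSolvable_of_isSolvable_injective (f := E.toMonoidHom) E.injective
  · have hP : IsPGroup 2 (QuaternionGroup (2 ^ n)) := IsPGroup.of_card (n := n + 2) (by
      rw [Nat.card_eq_fintype_card, QuaternionGroup.card]; ring)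
    have hA : IsPGroup 2 (MulAut (QuaternionGroup (2 ^ n))) := fun α =>
      CfsgLib.Fusion.aut_pow_quaternion hn hP α
    have : Finite (MulAut (QuaternionGroup (2 ^ n))) := Finite.of_injective _ DFunLike.coe_injective
    have := hA.isNilpotent
    exact Group.isSolvable_of_isSolvable_injective (f := (MulAut.congr e).toMonoidHom) (MulAut.congr e).injective

/-- Let G be a finite group and H a non-normal subgroup meeting each of its conjugates by elements outside N_G(H) trivially, with the order of H coprime to its index in N_G(H); let π be the set of primes dividing the order of H and suppose G is π-separable (it has a chain of normal subgroups from 1 to G each of whose factors has order divisible only by primes in π or coprime to the order of H). Let O be the largest normal subgroup of G of order coprime to the order of H. Then G = O·N_G(H), O·H is normal in G, and G is solvable if and only if O is solvable and H has no subgroup isomorphic to SL₂(5). -/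
theorem result {G : Type*} [Group G] [Finite G] (H : Subgroup G)
    (hTI : Cfsg.IsTISubset (H : Set G)) (hnn : ¬ H.Normal)
    (hHall : (Nat.card H).Coprime (H.subgroupOf (Subgroup.normalizer (H : Set G))).index)
    (hsep : ∃ (n : ℕ) (M : Fin (n + 1) → Subgroup G), M 0 = ⊥ ∧ M (Fin.last n) = ⊤ ∧ Monotone M ∧ (∀ i, (M i).Normal) ∧
      ∀ i : Fin n, (∀ q : ℕ, q.Prime → q ∣ (M i.castSucc).relIndex (M i.succ) → q ∣ Nat.card H) ∨
        ((M i.castSucc).relIndex (M i.succ)).Coprime (Nat.card H))
    (O : Subgroup G) (hO : O = sSup {K : Subgroup G | K.Normal ∧ (Nat.card K).Coprime (Nat.card H)}) :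
    O ⊔ Subgroup.normalizer (H : Set G) = ⊤ ∧ (O ⊔ H).Normal ∧
    (Group.IsSolvable G ↔ Group.IsSolvable O ∧
      ∀ K : Subgroup G, K ≤ H → ¬ Nonempty (K ≃* Matrix.SpecialLinearGroup (Fin 2) (ZMod 5))) := by
  classical
  have hHne : H ≠ ⊥ := fun e => hnn (e ▸ inferInstance)
  set N := normalizer (H : Set G) with hN
  obtain ⟨hOn, hOc⟩ : O.Normal ∧ (Nat.card O).Coprime (Nat.card H) := by
    rw [hO]
    refine CfsgLib.Cores.sSup_normal_induction (fun K => K.Normal ∧ (Nat.card K).Coprime (Nat.card H))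
      ⟨inferInstance, by simp⟩ ?_ _ (fun K h => ⟨h.1, h⟩) |>.imp id id
    rintro A B hA hB ⟨-, hAc⟩ ⟨-, hBc⟩
    exact ⟨Subgroup.sup_normal A B,
      Nat.Coprime.coprime_dvd_left (CfsgLib.Cores.card_sup_dvd_mul A B) (hAc.mul_left hBc)⟩
  have hOmax : ∀ K : Subgroup G, K.Normal → (Nat.card K).Coprime (Nat.card H) → K ≤ O := fun K h1 h2 =>
    hO ▸ le_sSup ⟨h1, h2⟩
  -- `H` is a Hall subgroup of `G`
  have hSyl : ∀ p : ℕ, p.Prime → p ∣ Nat.card H → ∀ (S : Subgroup G), S ≤ H → IsPGroup p S → S ≠ ⊥ →
      normalizer (S : Set G) ≤ N := by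
    intro p hp _ S hS _ hS1 g hg
    by_contra hgN
    obtain ⟨x, hx, hx1⟩ := (ne_bot_iff_exists_ne_one.1 hS1 : ∃ x : S, x ≠ 1) |> fun ⟨x, hx⟩ => (⟨(x : G), x.2, fun e => hx (Subtype.ext e)⟩ : ∃ x, x ∈ S ∧ x ≠ 1)
    exact hx1 (hTI g hgN x (hS hx) (hS ((mem_normalizer_iff.1 hg x).1 hx)))
  have hHindex : ∀ p : ℕ, p.Prime → p ∣ Nat.card H → ∃ S : Sylow p G, (S : Subgroup G) ≤ H := by
    intro p hp hpH
    have := Fact.mk hp
    obtain ⟨S₀⟩ : Nonempty (Sylow p H) := inferInstance
    have hne : (S₀ : Subgroup H).map H.subtype ≠ ⊥ := by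
      rw [Ne, map_eq_bot_iff_of_injective _ H.subtype_injective]
      exact S₀.ne_bot_of_dvd_card hpH
    obtain ⟨S, hS⟩ := (S₀.2.map H.subtype).exists_le_sylow
    refine ⟨S, ?_⟩
    have hle : (S₀ : Subgroup H).map H.subtype ≤ H := map_subtype_le _
    -- a larger `p`-group would give a larger `p`-group inside `N`
    have key : (S₀ : Subgroup H).map H.subtype = S := by
      by_contra hne'
      have hlt : ((S₀ : Subgroup H).map H.subtype).subgroupOf (S : Subgroup G) ≠ ⊤ := fun e =>
        hne' (le_antisymm hS (subgroupOf_eq_top.1 e))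
      have hnil : Group.IsNilpotent (S : Subgroup G) := S.2.isNilpotent
      obtain ⟨x, hx, hxn⟩ := SetLike.exists_of_lt
        (Group.normalizerCondition_of_isNilpotent _ (lt_top_iff_ne_top.2 hlt))
      have hxN : (x : G) ∈ N := hSyl p hp hpH _ hle (S₀.2.map _) hne (mem_normalizer_iff.2 fun w => by
        constructor
        · intro hw
          have h1 := (mem_normalizer_iff.1 hx ⟨w, hS hw⟩).1 (mem_subgroupOf.2 hw)
          exact mem_subgroupOf.1 h1
        · intro hw
          have hwS : w ∈ (S : Subgroup G) := by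
            have h1 : (x : G)⁻¹ * ((x : G) * w * (x : G)⁻¹) * x ∈ (S : Subgroup G) :=
              mul_mem (mul_mem (inv_mem x.2) (hS hw)) x.2
            simpa [mul_assoc] using h1
          exact mem_subgroupOf.1 ((mem_normalizer_iff.1 hx ⟨w, hwS⟩).2 (mem_subgroupOf.2 hw)))
      have hxo : ∃ k, orderOf (x : G) = p ^ k := by
        obtain ⟨k, hk⟩ := IsPGroup.iff_orderOf.1 S.2 x
        exact ⟨k, by rw [orderOf_coe, hk]⟩
      -- elements of `N` of `p`-power order lie in `H`
      have hxH : (x : G) ∈ H := by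
        obtain ⟨k, hk⟩ := hxo
        have hHn : (H.subgroupOf N).Normal := normal_in_normalizer
        have h1 : (⟨x, hxN⟩ : N) ^ (H.subgroupOf N).index ∈ H.subgroupOf N := pow_index_mem _ _
        have hcop : (orderOf (⟨x, hxN⟩ : N)).Coprime (H.subgroupOf N).index := by
          rw [orderOf_mk, hk]
          exact (hHall.coprime_dvd_left hpH).pow_left k
        obtain ⟨m, hm⟩ := exists_pow_eq_self_of_coprime hcop.symm
        have h2 := mem_subgroupOf.1 (pow_mem h1 m)
        rw [hm] at h2
        exact h2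
      apply hxn
      rw [mem_subgroupOf]
      have hpg : IsPGroup p (((S : Subgroup G) ⊓ H).subgroupOf H) :=
        (S.2.to_le inf_le_left).comap_subtype
      have hsub : (S₀ : Subgroup H) ≤ ((S : Subgroup G) ⊓ H).subgroupOf H := fun y hy =>
        mem_subgroupOf.2 ⟨hS ⟨y, hy, rfl⟩, y.2⟩
      have heq := S₀.3 hpg hsub
      exact ⟨⟨(x : G), hxH⟩, by rw [← heq]; exact mem_subgroupOf.2 ⟨x.2, hxH⟩, rfl⟩
    exact key ▸ hle
  -- the first nontrivial `π`-section above `O`
  obtain ⟨n, M, hM0, hM1, hMm, hMn, hMf⟩ := hsep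
  have hHO : ¬ Nat.card H ∣ 1 := fun h => hHne (card_eq_one.1 (Nat.dvd_one.1 h))
  have hnotall : ¬ ∀ i, M i ≤ O := by
    intro h
    have hle := h (Fin.last n)
    rw [hM1, top_le_iff] at hle
    have h1 := hOc
    rw [hle, card_top] at h1
    exact hHO (h1 ▸ Nat.dvd_gcd (card_subgroup_dvd_card H) dvd_rfl)
  obtain ⟨i, hi, hi'⟩ : ∃ i : Fin n, M i.castSucc ≤ O ∧ ¬ M i.succ ≤ O := by
    by_contra hno
    push Not at hno
    exact hnotall fun i => Fin.induction (motive := fun i => M i ≤ O) (hM0 ▸ bot_le) (fun i h => hno i h) i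
  have hpi := (hMf i).resolve_right fun hc => hi' (hOmax _ (hMn _) (by
    have := hMn i.castSucc
    rw [← relIndex_bot_left, ← relIndex_mul_relIndex ⊥ (M i.castSucc) (M i.succ) bot_le
      (hMm i.castSucc_le_succ), relIndex_bot_left]
    exact (hOc.coprime_dvd_left (card_dvd_of_le hi)).mul_left hc))
  set K := O ⊔ M i.succ with hK
  have hKn : K.Normal := by have := hMn i.succ; exact Subgroup.sup_normal _ _
  have hKprimes : ∀ q : ℕ, q.Prime → q ∣ O.relIndex K → q ∣ Nat.card H := by
    intro q hq hd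
    refine hpi q hq (hd.trans ?_)
    rw [hK, relIndex_sup_left]
    exact relIndex_dvd_of_le_left (M i.succ) hi
  have hKO : O.relIndex K ≠ 1 := fun h => hi' (le_sup_right.trans (relIndex_eq_one.1 h))
  set p := (O.relIndex K).minFac
  have hp : p.Prime := Nat.minFac_prime hKO
  have hpK : p ∣ O.relIndex K := Nat.minFac_dvd _
  have hpH := hKprimes p hp hpK
  have := Fact.mk hp
  have hHallG : (Nat.card H).Coprime H.index := Nat.coprime_of_dvd fun q hq hqH hqI => by
    have := Fact.mk hq
    obtain ⟨S, hS⟩ := hHindex q hq hqH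
    exact S.not_dvd_index (hqI.trans (index_dvd_of_le hS))
  have hGON : O ⊔ N = ⊤ := by
    obtain ⟨s, hs⟩ : K.relIndex H ∣ K.index := relIndex_dvd_index_of_normal K H
    have heq : Nat.card K * s = Nat.card (H ⊓ K : Subgroup G) * H.index := by
      have h1 := K.index_mul_card
      have h2 := H.index_mul_card
      have h3 : Nat.card (H ⊓ K : Subgroup G) * K.relIndex H = Nat.card H := by
        rw [← relIndex_bot_left, ← inf_relIndex_left H K, relIndex_mul_relIndex ⊥ (H ⊓ K) H bot_le inf_le_left,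
          relIndex_bot_left]
      have h0 : 0 < K.relIndex H := Nat.pos_of_ne_zero FiniteIndex.index_ne_zero
      apply Nat.eq_of_mul_eq_mul_left h0
      calc K.relIndex H * (Nat.card K * s) = K.index * Nat.card K := by rw [hs]; ring
        _ = H.index * Nat.card H := h1.trans h2.symm
        _ = _ := by rw [← h3]; ring
    have hKle : K ≤ O ⊔ (H ⊓ K) := by
      have hc1 : O.relIndex K ∣ Nat.card (H ⊓ K : Subgroup G) := by
        have hco : (O.relIndex K).Coprime H.index := Nat.coprime_of_dvd fun q hq h1 h2 =>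
          hq.ne_one (Nat.eq_one_of_dvd_coprimes hHallG (hKprimes q hq h1) h2)
        exact hco.dvd_of_dvd_mul_right (heq ▸ (relIndex_dvd_card _ _).mul_right s)
      refine le_of_eq (eq_of_le_of_card_ge (sup_le le_sup_left inf_le_right) ?_).symm
      have hdisj : O ⊓ (H ⊓ K) = ⊥ := inf_eq_bot_of_coprime (hOc.coprime_dvd_right (card_dvd_of_le inf_le_left))
      rw [CfsgLib.Solvable.card_sup_of_disjoint (K := O) (A := H ⊓ K) le_normalizer_of_normal hdisj]
      have h5 : Nat.card K = Nat.card O * O.relIndex K := by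
        rw [← relIndex_bot_left O, relIndex_mul_relIndex ⊥ O K bot_le le_sup_left, relIndex_bot_left]
      rw [h5]
      exact Nat.le_of_dvd (Nat.mul_pos Nat.card_pos Nat.card_pos) (mul_dvd_mul_left _ hc1)
    have hidx : ¬ p ∣ (H.subgroupOf K).index := fun hd => by
      have h1 : (H.subgroupOf K).index * Nat.card (H ⊓ K : Subgroup G) = Nat.card K := by
        rw [← subgroupOf_map_subtype, card_map_of_injective K.subtype_injective, index_mul_card]
      have h2 : (H.subgroupOf K).index * s = H.index := by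
        apply Nat.eq_of_mul_eq_mul_left (Nat.card_pos (α := (H ⊓ K : Subgroup G)))
        rw [← heq, ← h1]
        ring
      exact hp.ne_one (Nat.eq_one_of_dvd_coprimes hHallG hpH (hd.trans (h2 ▸ dvd_mul_right _ _)))
    obtain ⟨P₀⟩ : Nonempty (Sylow p (H.subgroupOf K)) := inferInstance
    have hP₀ : ¬ p ∣ ((P₀ : Subgroup (H.subgroupOf K)).map (H.subgroupOf K).subtype).index := by
      rw [index_map_subtype]
      exact fun hd => (hp.dvd_mul.1 hd).elim P₀.not_dvd_index hidx
    let T : Sylow p K := (P₀.2.map (H.subgroupOf K).subtype).toSylow hP₀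
    have hT : (T : Subgroup K).map K.subtype ≤ H := by
      rintro _ ⟨y, hy, rfl⟩
      obtain ⟨w, -, rfl⟩ := hy
      exact mem_subgroupOf.1 w.2
    have hpcard : p ∣ Nat.card K := hpK.trans (relIndex_dvd_card _ _)
    have hT1 : (T : Subgroup K).map K.subtype ≠ ⊥ := by
      rw [Ne, map_eq_bot_iff_of_injective _ K.subtype_injective]
      exact T.ne_bot_of_dvd_card hpcard
    have hfr := T.normalizer_sup_eq_top
    rw [eq_top_iff, ← hfr]
    refine sup_le ((hSyl p hp hpH _ hT (T.2.map _) hT1).trans le_sup_right) ?_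
    exact hKle.trans (sup_le le_sup_left ((inf_le_left.trans le_normalizer).trans le_sup_right))
  have hmul : ∀ g : G, ∃ o ∈ O, ∃ m ∈ N, o * m = g := fun g => by
    have h1 : g ∈ ((O ⊔ N : Subgroup G) : Set G) := by rw [hGON]; exact mem_top g
    rwa [normal_mul] at h1
  have hOHn : (O ⊔ H).Normal := by
    refine ⟨fun x hx g => ?_⟩
    obtain ⟨o, ho, m, hm, rfl⟩ := hmul g
    have hmap : (O ⊔ H).map (MulAut.conj (o * m)).toMonoidHom ≤ O ⊔ H := by
      rw [Subgroup.map_sup, sup_le_iff]
      constructor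
      · rintro _ ⟨y, hy, rfl⟩
        exact mem_sup_left (hOn.conj_mem y hy _)
      · rintro _ ⟨y, hy, rfl⟩
        show o * m * y * (o * m)⁻¹ ∈ _
        rw [show o * m * y * (o * m)⁻¹ = o * (m * y * m⁻¹) * o⁻¹ by group]
        exact mul_mem (mul_mem (mem_sup_left ho) (mem_sup_right ((mem_normalizer_iff.1 hm y).1 hy)))
          (mem_sup_left (inv_mem ho))
    exact hmap ⟨x, hx, rfl⟩
  refine ⟨hGON, hOHn, ?_, ?_⟩
  · intro hs
    refine ⟨Group.isSolvable_of_isSolvable_injective (f := O.subtype) O.subtype_injective, ?_⟩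
    rintro K' - ⟨e⟩
    have : Group.IsSolvable K' := Group.isSolvable_of_isSolvable_injective (f := K'.subtype) K'.subtype_injective
    have h1 : Group.IsSolvable CfsgLib.Icosa.SL25 :=
      Group.isSolvable_of_isSolvable_injective (f := e.symm.toMonoidHom) e.symm.injective
    exact not_isSolvable_SL25 h1
  rintro ⟨hOs, hno⟩
  -- centralizers in `O` of nontrivial elements of `H`
  have hcent : ∀ h ∈ H, h ≠ 1 → ∀ o ∈ O, o * h = h * o → o ∈ centralizer (H : Set G) := by
    intro h hh hh1 o ho hc
    have hoN : o ∈ N := by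
      by_contra hoN
      exact hh1 (hTI o hoN h hh (by rw [hc, mul_inv_cancel_right]; exact hh))
    refine mem_centralizer_iff.2 fun y hy => ?_
    have h1 : o * y * o⁻¹ * y⁻¹ ∈ O ⊓ H := by
      refine ⟨?_, H.mul_mem ((mem_normalizer_iff.1 hoN y).1 hy) (H.inv_mem hy)⟩
      rw [show o * y * o⁻¹ * y⁻¹ = o * (y * o⁻¹ * y⁻¹) by group]
      exact mul_mem ho (hOn.conj_mem _ (inv_mem ho) y)
    rw [inf_eq_bot_of_coprime hOc, mem_bot, mul_inv_eq_one] at h1
    exact (mul_inv_eq_iff_eq_mul.1 h1).symm
  have hOC : ¬ O ≤ centralizer (H : Set G) := by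
    intro hle
    apply hnn
    refine ⟨fun y hy g => ?_⟩
    obtain ⟨o, ho, m, hm, rfl⟩ := hmul g
    have h1 := mem_centralizer_iff.1 (hle ho) _ ((mem_normalizer_iff.1 hm y).1 hy)
    rw [show o * m * y * (o * m)⁻¹ = o * (m * y * m⁻¹) * o⁻¹ by group, ← h1, mul_inv_cancel_right]
    exact (mem_normalizer_iff.1 hm y).1 hy
  -- the first derived term of `O` that is not centralized by `H`
  obtain ⟨A, hAn, hAle, hA, hA'⟩ : ∃ A : Subgroup G, A.Normal ∧ A ≤ O ∧ ¬ A ≤ centralizer (H : Set G) ∧
      ⁅A, A⁆ ≤ centralizer (H : Set G) := by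
    let D : ℕ → Subgroup G := fun k => (derivedSeries O k).map O.subtype
    have hD : ∀ k, (D k).Normal ∧ D k ≤ O := fun k => ⟨inferInstance, map_subtype_le _⟩
    obtain ⟨k, hk⟩ := Group.IsSolvable.solvable (G := O)
    have hex : ∃ k, D k ≤ centralizer (H : Set G) := ⟨k, by
      show (derivedSeries O k).map O.subtype ≤ _
      rw [hk, Subgroup.map_bot]
      exact bot_le⟩
    rcases hk' : Nat.find hex with _ | j
    · exfalso
      have := Nat.find_spec hex
      rw [hk'] at this
      apply hOC
      simpa [D, ← MonoidHom.range_eq_map] using this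
    · refine ⟨D j, (hD j).1, (hD j).2, Nat.find_min hex (by omega), ?_⟩
      have := Nat.find_spec hex
      rw [hk'] at this
      simpa [D, derivedSeries_succ, map_commutator] using this
  -- a fixed point free action of `H`
  set DA := (centralizer (H : Set G)).subgroupOf A with hDA
  have hDAn : DA.Normal := ⟨fun x hx y => by
    have h1 : y * x * y⁻¹ = ⁅y, x⁆ * x := by rw [commutatorElement_def]; group
    rw [h1]
    exact mul_mem (mem_subgroupOf.2 (hA' (commutator_mem_commutator y.2 x.2))) hx⟩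
  have hnt : Nontrivial (A ⧸ DA) := QuotientGroup.nontrivial_iff.2 fun h => hA (subgroupOf_eq_top.1 h)
  have hHA : ∀ (h : H) (x : A), x ∈ DA → MulAut.conjNormal (H := A) (h : G) x ∈ DA := by
    intro h x hx
    refine mem_subgroupOf.2 (mem_centralizer_iff.2 fun y hy => ?_)
    rw [MulAut.conjNormal_apply, mem_centralizer_iff.1 (mem_subgroupOf.1 hx) h h.2, mul_inv_cancel_right]
    exact mem_centralizer_iff.1 (mem_subgroupOf.1 hx) y hy
  have hfix : ∀ h : H, h ≠ 1 → ∀ x : A, MulAut.conjNormal (H := A) (h : G) x * x⁻¹ ∈ DA → x ∈ DA := by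
    intro h hh x hx
    set c := (MulAut.conjNormal (H := A) (h : G) x * x⁻¹ : A) with hc
    have hcC : Commute (h : G) (c : G) := mem_centralizer_iff.1 (mem_subgroupOf.1 hx) h h.2
    have h1 : (h : G) * x * (h : G)⁻¹ = c * x := by
      rw [hc, Subgroup.coe_mul, Subgroup.coe_inv, MulAut.conjNormal_apply, inv_mul_cancel_right]
    have hit : ∀ k : ℕ, (h : G) ^ k * x * ((h : G) ^ k)⁻¹ = (c : G) ^ k * x := by
      intro k
      induction k with
      | zero => simp
      | succ k ih =>
        calc (h : G) ^ (k + 1) * x * ((h : G) ^ (k + 1))⁻¹ = (h : G) * ((h : G) ^ k * x * ((h : G) ^ k)⁻¹) * (h : G)⁻¹ := by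
              rw [pow_succ']; group
          _ = ((h : G) * (c : G) ^ k * (h : G)⁻¹) * ((h : G) * x * (h : G)⁻¹) := by rw [ih]; group
          _ = (c : G) ^ (k + 1) * x := by rw [(hcC.pow_right k).eq, mul_inv_cancel_right, h1, ← mul_assoc, pow_succ]
    have h2 := hit (orderOf (h : G))
    rw [pow_orderOf_eq_one, inv_one, mul_one, one_mul, right_eq_mul] at h2
    have h3 : (c : G) = 1 := by
      rw [← orderOf_eq_one_iff]
      refine Nat.eq_one_of_dvd_coprimes hOc ?_ ((orderOf_dvd_of_pow_eq_one h2).trans ?_)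
      · rw [← orderOf_mk (c : G) (hAle c.2)]
        exact _root_.orderOf_dvd_natCard _
      · rw [orderOf_coe]
        exact _root_.orderOf_dvd_natCard h
    refine mem_subgroupOf.2 (hcent h h.2 (fun e => hh (Subtype.ext e)) x (hAle x.2) ?_)
    rw [h3, one_mul] at h1
    exact (mul_inv_eq_iff_eq_mul.1 h1).symm
  let act : H →* MulAut (A ⧸ DA) :=
    { toFun := fun h => QuotientGroup.congr DA DA (MulAut.conjNormal (H := A) (h : G)) (le_antisymm
        (map_le_iff_le_comap.2 (hHA h)) (fun x hx => ⟨MulAut.conjNormal (H := A) ((h⁻¹ : H) : G) x, hHA h⁻¹ x hx,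
          by
            show MulAut.conjNormal (H := A) (h : G) _ = x
            rw [← MulAut.mul_apply, ← map_mul, Subgroup.coe_inv, mul_inv_cancel, map_one, MulAut.one_apply]⟩))
      map_one' := MulEquiv.ext fun q => by
        induction q using QuotientGroup.induction_on with
        | _ x => simp
      map_mul' := fun a b => MulEquiv.ext fun q => by
        induction q using QuotientGroup.induction_on with
        | _ x => simp [mul_assoc] }
  have hact : ∀ h : H, h ≠ 1 → ∀ q, act h q = q → q = 1 := by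
    intro h hh q
    induction q using QuotientGroup.induction_on with
    | _ x =>
      intro hq
      change ((MulAut.conjNormal (H := A) (h : G) x : A) : A ⧸ DA) = (x : A ⧸ DA) at hq
      rw [QuotientGroup.eq_one_iff]
      refine hfix h hh x ?_
      have h1 := QuotientGroup.eq.1 hq.symm
      rw [show MulAut.conjNormal (H := A) (h : G) x * x⁻¹ =
        x * (x⁻¹ * MulAut.conjNormal (H := A) (h : G) x) * x⁻¹ by group]
      exact hDAn.conj_mem _ h1 x
  have : Nontrivial H := nontrivial_iff_ne_bot _ |>.2 hHne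
  have hinj : Function.Injective act := by
    rw [← MonoidHom.ker_eq_bot_iff, eq_bot_iff_forall]
    intro h hh
    by_contra hh1
    obtain ⟨q, hq⟩ := exists_ne (1 : A ⧸ DA)
    exact hq (hact h hh1 q (by rw [MonoidHom.mem_ker.1 hh]; rfl))
  let E : H ≃* act.range := MonoidHom.ofInjective hinj
  have : Nontrivial act.range := E.symm.toEquiv.nontrivial
  obtain ⟨L, _, _, C, hC, ⟨eC⟩⟩ := CfsgLib.Icosa.exists_complement_of_aut act.range (by
    rintro φ ⟨h, rfl⟩ hne q hq
    exact hact h (fun e => hne (by rw [e, map_one])) q hq)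
  have hFC : ∃ (L : Type) (_ : Group L) (_ : Finite L) (C : Subgroup L), Cfsg.IsFrobeniusComplement C ∧ Nonempty (H ≃* C) :=
    ⟨L, _, inferInstance, C, hC, ⟨E.trans eC⟩⟩
  have hHs : Group.IsSolvable H := by
    by_contra hns
    obtain ⟨S, -, -, -, ⟨e⟩, -⟩ := CfsgLib.Icosa.complement_structure hns hFC
    exact hno (S.map H.subtype) (map_subtype_le S) ⟨(S.equivMapOfInjective _ H.subtype_injective).symm.trans e⟩
  obtain ⟨V, _, _, _, _, ρ, hρ⟩ := CfsgLib.Icosa.exists_fpf_rep hFC
  -- the normalizer acts on the cores of `H`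
  let P : ℕ → Subgroup G := fun p => (Cfsg.pCore p H).map H.subtype
  have hPn : ∀ p, ((P p).subgroupOf N).Normal := by
    intro p
    refine ⟨fun x hx y => ?_⟩
    obtain ⟨w, hw, hwx⟩ := mem_subgroupOf.1 hx
    have : (Cfsg.pCore p H).Characteristic := CfsgLib.Cores.pCore_characteristic p
    refine mem_subgroupOf.2 ⟨MulAut.conjNormal (H := H.subgroupOf N) y |> fun φ =>
      ((subgroupOfEquivOfLe le_normalizer).symm.trans φ).trans (subgroupOfEquivOfLe le_normalizer) <| w, ?_, ?_⟩
    · exact (characteristic_iff_le_comap.1 this _) hw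
    · show (y : G) * (w : G) * (y : G)⁻¹ = _
      rw [show (w : G) = x from hwx]; rfl
  let f : ∀ p : {p // p ∈ (Nat.card H).primeFactors}, N →* MulAut ((P p).subgroupOf N) := fun p =>
    @MulAut.conjNormal N _ _ (hPn p)
  have hX : ∀ p : {p // p ∈ (Nat.card H).primeFactors}, Group.IsSolvable (MulAut ((P p).subgroupOf N)) := by
    rintro ⟨p, hpm⟩
    have := Fact.mk (Nat.prime_of_mem_primeFactors hpm)
    let eP : Cfsg.pCore p H ≃* ((P p).subgroupOf N) := ((Cfsg.pCore p H).equivMapOfInjective _ H.subtype_injective).trans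
      (subgroupOfEquivOfLe ((map_subtype_le _).trans le_normalizer)).symm
    have h1 := isSolvable_mulAut_cyclic_or_quaternion (p := p)
      (hρ.cyclic_or_quaternion (CfsgLib.Cores.isPGroup_pCore p (G := H)))
    exact Group.isSolvable_of_isSolvable_injective (f := (MulAut.congr eP.symm).toMonoidHom)
      (MulAut.congr eP.symm).injective
  have hOHs : Group.IsSolvable ↥(O ⊔ H) := by
    have : O.Normal := hOn
    let φ := QuotientGroup.mk' O
    refine CfsgLib.InvolChar.A8Normalizer.isSolvable_of_hom (φ.comp (O ⊔ H).subtype).rangeRestrict ?_ ?_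
    · rw [MonoidHom.ker_rangeRestrict]
      let K₁ := (φ.comp (O ⊔ H).subtype).ker
      have hle : ∀ x : K₁, ((x : ↥(O ⊔ H)) : G) ∈ O := fun x => (QuotientGroup.eq_one_iff _).1 (MonoidHom.mem_ker.1 x.2)
      exact Group.isSolvable_of_isSolvable_injective (f := ((O ⊔ H).subtype.comp K₁.subtype).codRestrict O hle)
        fun x y hxy => K₁.subtype_injective ((O ⊔ H).subtype_injective (congrArg Subtype.val hxy :))
    · have hr : (φ.comp (O ⊔ H).subtype).range = H.map φ := by
        rw [MonoidHom.range_eq_map, ← Subgroup.map_map, ← MonoidHom.range_eq_map, Subgroup.range_subtype, Subgroup.map_sup,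
          show O.map φ = ⊥ from QuotientGroup.map_mk'_self O, bot_sup_eq]
      rw [hr]
      exact Group.isSolvable_of_surjective (f := φ.subgroupMap H) (φ.subgroupMap_surjective H)
  -- elements of order prime to `|H|` centralizing `H` lie in `O`
  have hCH : ∀ c ∈ centralizer (H : Set G), (orderOf c).Coprime (Nat.card H) → c ∈ O := by
    set T := centralizer (H : Set G) with hTdef
    have hTN : T ≤ N := centralizer_le_normalizer _
    let Z := H.subgroupOf T
    have hZn : Z.Normal := ⟨fun x hx y => by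
      refine mem_subgroupOf.2 ?_
      have h1 := mem_centralizer_iff.1 y.2 (x : G) (mem_subgroupOf.1 hx)
      show (y : G) * x * (y : G)⁻¹ ∈ H
      rw [← h1, mul_inv_cancel_right]
      exact mem_subgroupOf.1 hx⟩
    have hZcard : Nat.card Z ∣ Nat.card H := by
      rw [← card_map_of_injective T.subtype_injective, subgroupOf_map_subtype]
      exact card_dvd_of_le inf_le_left
    have hZidx : Z.index ∣ (H.subgroupOf N).index := by
      have hn : (H.subgroupOf N).Normal := normal_in_normalizer
      have h1 := relIndex_dvd_index_of_normal (H.subgroupOf N) (T.subgroupOf N)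
      rwa [relIndex_subgroupOf hTN] at h1
    obtain ⟨Mc, hMc⟩ := exists_right_complement'_of_coprime (N := Z) (hHall.of_dvd hZcard hZidx)
    have hMcard : (Nat.card Mc).Coprime (Nat.card H) := by
      rw [← hMc.symm.index_eq_card]
      exact (hHall.of_dvd dvd_rfl hZidx).symm
    have hmem : ∀ t : T, t ∈ Mc ↔ (orderOf (t : G)).Coprime (Nat.card H) := by
      intro t
      constructor
      · intro ht
        rw [orderOf_coe, ← orderOf_mk t ht]
        exact hMcard.coprime_dvd_left (_root_.orderOf_dvd_natCard _)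
      · intro ht
        obtain ⟨⟨z, m⟩, hzm⟩ := (hMc : Function.Bijective _).2 t
        dsimp only at hzm
        have hcm : Commute ((z : T) : G) ((m : T) : G) :=
          mem_centralizer_iff.1 (m : T).2 _ (mem_subgroupOf.1 z.2)
        have hco : (orderOf ((z : T) : G)).Coprime (orderOf ((m : T) : G)) := by
          rw [orderOf_coe, orderOf_coe, orderOf_coe, orderOf_coe]
          exact (hMcard.symm.coprime_dvd_left ((_root_.orderOf_dvd_natCard _).trans hZcard)).coprime_dvd_right
            (_root_.orderOf_dvd_natCard _)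
        have ho := hcm.orderOf_mul_eq_mul_orderOf_of_coprime hco
        rw [← Subgroup.coe_mul, hzm] at ho
        have hz1 : orderOf ((z : T) : G) = 1 := Nat.eq_one_of_dvd_coprimes ht (ho ▸ dvd_mul_right _ _)
          (by rw [orderOf_coe, orderOf_coe]; exact (_root_.orderOf_dvd_natCard _).trans hZcard)
        rw [orderOf_eq_one_iff, OneMemClass.coe_eq_one, OneMemClass.coe_eq_one] at hz1
        rw [← hzm, hz1]
        simpa using m.2
    set M' := Mc.map T.subtype with hM'
    have hM'T : ∀ x ∈ M', x ∈ T ∧ (orderOf x).Coprime (Nat.card H) := by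
      rintro _ ⟨t, ht, rfl⟩
      exact ⟨t.2, (hmem t).1 ht⟩
    have hN' : ∀ m ∈ N, ∀ x ∈ M', m * x * m⁻¹ ∈ M' := by
      intro m hm x hx
      obtain ⟨hxT, hxo⟩ := hM'T x hx
      have h1 : m * x * m⁻¹ ∈ T := mem_centralizer_iff.2 fun y hy => by
        have h2 : m⁻¹ * y * m ∈ H := (mem_normalizer_iff''.1 hm y).1 hy
        calc y * (m * x * m⁻¹) = m * ((m⁻¹ * y * m) * x) * m⁻¹ := by group
          _ = m * x * m⁻¹ * y := by rw [mem_centralizer_iff.1 hxT _ h2]; group
      exact ⟨⟨_, h1⟩, (hmem _).2 (by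
        show (orderOf (m * x * m⁻¹)).Coprime _
        rwa [show orderOf (m * x * m⁻¹) = orderOf x from
          orderOf_injective (MulAut.conj m).toMonoidHom (MulAut.conj m).injective x]), rfl⟩
    have hOM : (O ⊔ M').Normal := by
      refine ⟨fun x hx g => ?_⟩
      obtain ⟨o, ho, m, hm, rfl⟩ := hmul g
      have hmap : (O ⊔ M').map (MulAut.conj (o * m)).toMonoidHom ≤ O ⊔ M' := by
        rw [Subgroup.map_sup, sup_le_iff]
        constructor
        · rintro _ ⟨y, hy, rfl⟩
          exact mem_sup_left (hOn.conj_mem y hy _)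
        · rintro _ ⟨y, hy, rfl⟩
          show o * m * y * (o * m)⁻¹ ∈ _
          rw [show o * m * y * (o * m)⁻¹ = o * (m * y * m⁻¹) * o⁻¹ by group]
          exact mul_mem (mul_mem (mem_sup_left ho) (mem_sup_right (hN' m hm y hy))) (mem_sup_left (inv_mem ho))
      exact hmap ⟨x, hx, rfl⟩
    have hle := hOmax _ hOM (Nat.Coprime.coprime_dvd_left (CfsgLib.Cores.card_sup_dvd_mul O M')
      (hOc.mul_left (by rwa [card_map_of_injective T.subtype_injective])))
    intro c hc hco
    exact hle (mem_sup_right ⟨⟨c, hc⟩, (hmem ⟨c, hc⟩).2 hco, rfl⟩)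
  have hkey : ∀ m : N, m ∈ (⨅ p ∈ Finset.univ, (f p).ker) → (m : G) ∈ O ⊔ H := by
    intro m hm
    simp only [mem_iInf, MonoidHom.mem_ker] at hm
    let F := (Cfsg.fittingSubgroup H).map H.subtype
    have hF : F ≤ centralizer {(m : G)} := by
      show (Cfsg.fittingSubgroup H).map H.subtype ≤ _
      rw [CfsgLib.Cores.fittingSubgroup_eq_iSup_pCore, Subgroup.map_iSup, iSup_le_iff]
      intro q y hy
      have h1 := congrArg (fun φ : MulAut _ => (((φ ⟨⟨y, le_normalizer ((map_subtype_le _) hy)⟩, mem_subgroupOf.2 hy⟩ :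
          (P q).subgroupOf N) : N) : G)) (hm q (Finset.mem_univ q))
      simp only [f, MulAut.one_apply] at h1
      rw [MulAut.conjNormal_apply] at h1
      exact mem_centralizer_singleton_iff.2 (mul_inv_eq_iff_eq_mul.1 (by simpa using h1)).symm
    -- `m ^ |H|` centralizes `H`
    set q := (H.subgroupOf N).index
    have hnH : ((m : G)) ^ q ∈ H := by
      have := (normal_in_normalizer : (H.subgroupOf N).Normal)
      exact mem_subgroupOf.1 (pow_index_mem (H.subgroupOf N) m)
    have hmC : (m : G) ^ Nat.card H ∈ O := by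
      set d := (m : G) ^ Nat.card H with hd
      have hdN : d ∈ N := pow_mem m.2 _
      have hdo : (orderOf d).Coprime (Nat.card H) := by
        have h1 : d ^ q = 1 := by
          rw [hd, ← pow_mul, mul_comm, pow_mul]
          have h2 := pow_card_eq_one' (x := (⟨_, hnH⟩ : H))
          exact congrArg Subtype.val h2
        exact (hHall.coprime_dvd_right (orderOf_dvd_of_pow_eq_one h1)).symm
      refine hCH d (mem_centralizer_iff.2 fun h hh => ?_) hdo
      have hdF : ∀ y ∈ F, Commute d y := fun y hy => Commute.pow_left (mem_centralizer_singleton_iff.1 (hF hy)).symm _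
      have hu : h⁻¹ * (d * h * d⁻¹) ∈ H := mul_mem (inv_mem hh) ((mem_normalizer_iff.1 hdN h).1 hh)
      have huF : (⟨_, hu⟩ : H) ∈ Cfsg.fittingSubgroup H := by
        refine CfsgLib.Solvable.centralizer_fittingSubgroup_le (mem_centralizer_iff.2 fun y hy => Subtype.ext ?_)
        show (y : G) * (h⁻¹ * (d * h * d⁻¹)) = h⁻¹ * (d * h * d⁻¹) * y
        have hy' : (y : G) ∈ F := ⟨y, hy, rfl⟩
        have hy'' : h * y * h⁻¹ ∈ F :=
          ⟨⟨h, hh⟩ * y * (⟨h, hh⟩ : H)⁻¹, (CfsgLib.Cores.fittingSubgroup_normal).conj_mem y hy _, rfl⟩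
        calc (y : G) * (h⁻¹ * (d * h * d⁻¹)) = h⁻¹ * ((h * y * h⁻¹) * d) * h * d⁻¹ := by group
          _ = h⁻¹ * d * h * ((y : G) * d⁻¹) := by rw [← (hdF _ hy'').eq]; group
          _ = h⁻¹ * (d * h * d⁻¹) * y := by rw [← (hdF _ hy').inv_left.eq]; group
      have hud : Commute d (h⁻¹ * (d * h * d⁻¹)) := hdF _ ⟨_, huF, rfl⟩
      have hit : ∀ k : ℕ, d ^ k * h * (d ^ k)⁻¹ = h * (h⁻¹ * (d * h * d⁻¹)) ^ k := by
        intro k
        induction k with
        | zero => simp
        | succ k ih =>
          calc d ^ (k + 1) * h * (d ^ (k + 1))⁻¹ = d * (d ^ k * h * (d ^ k)⁻¹) * d⁻¹ := by rw [pow_succ']; group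
            _ = (d * h * d⁻¹) * (d * (h⁻¹ * (d * h * d⁻¹)) ^ k * d⁻¹) := by rw [ih]; group
            _ = h * (h⁻¹ * (d * h * d⁻¹)) ^ (k + 1) := by
              rw [(hud.pow_right k).eq, mul_inv_cancel_right, pow_succ', ← mul_assoc h, mul_inv_cancel_left]
      have h2 := hit (orderOf d)
      rw [pow_orderOf_eq_one, inv_one, mul_one, one_mul, left_eq_mul] at h2
      have h3 : orderOf (h⁻¹ * (d * h * d⁻¹)) = 1 := Nat.eq_one_of_dvd_coprimes hdo
        (orderOf_dvd_of_pow_eq_one h2) (by rw [← orderOf_mk _ hu]; exact _root_.orderOf_dvd_natCard _)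
      rw [orderOf_eq_one_iff, inv_mul_eq_one, eq_mul_inv_iff_mul_eq] at h3
      exact h3
    have hg : (Nat.card H).gcd q = 1 := hHall
    have h1 := Nat.gcd_eq_gcd_ab (Nat.card H) q
    rw [hg, Nat.cast_one] at h1
    have h2 : (m : G) = ((m : G) ^ Nat.card H) ^ ((Nat.card H).gcdA q) * ((m : G) ^ q) ^ ((Nat.card H).gcdB q) := by
      rw [← zpow_natCast, ← zpow_mul, ← zpow_natCast, ← zpow_mul, ← zpow_add, ← h1, zpow_one]
    rw [h2]
    exact mul_mem (mem_sup_left (zpow_mem hmC _)) (mem_sup_right (zpow_mem hnH _))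
  have hNs : Group.IsSolvable N := by
    refine solvable_of_kernels Finset.univ hX f ?_
    exact Group.isSolvable_of_isSolvable_injective
      (f := (N.subtype.comp (⨅ p ∈ Finset.univ, (f p).ker).subtype).codRestrict (O ⊔ H)
        fun x => hkey x x.2)
      fun x y hxy => (Subgroup.subtype_injective _) (N.subtype_injective (congrArg Subtype.val hxy :))
  refine CfsgLib.InvolChar.A8Normalizer.isSolvable_of_normal O hOs ?_
  refine Group.isSolvable_of_surjective (f := (QuotientGroup.mk' O).comp N.subtype) fun q => ?_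
  induction q using QuotientGroup.induction_on with
  | _ g =>
    obtain ⟨o, ho, m, hm, rfl⟩ := hmul g
    refine ⟨⟨m, hm⟩, QuotientGroup.eq.2 ?_⟩
    rw [← mul_assoc]
    exact hOn.conj_mem' o ho m

end Cfsg.Agent.S4118
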