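import Cfsg.Statements.S4125
import Cfsg.Agent.Lib.FGS.BaerQ

set_option autoImplicit false
open Cfsg

namespace Cfsg.Agent.S4125

/-- Let G be a finite group and q a prime dividing its order such that every element of q-power order has a conjugacy class of prime-power size. Then G is q-solvable of q-length 1: there are normal subgroups K ≤ L of G with K of order prime to q, L/K a q-group and L of index prime to q. Moreover there is a prime p such that every element of q-power order has a class of p-power size (one prime serving for all of them), and for a Sylow q-subgroup Q: if p = q then Q is normal with a normal complement (a direct factor), while if p ≠ q then Q is abelian, the product of Q with the largest normal p-subgroup O_p(G) is normal in G, and G/O_{q'}(G) is solvable, where O_{q'}(G) is the largest normal subgroup of order prime to q. -/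
theorem result {G : Type*} [Group G] [Finite G] (q : ℕ) [Fact q.Prime] (hq : q ∣ Nat.card G)
    (hBaer : ∀ x : G, (∃ k : ℕ, orderOf x = q ^ k) → ∃ (r : ℕ) (a : ℕ), r.Prime ∧ (Subgroup.centralizer ({x} : Set G)).index = r ^ a) (Q : Sylow q G) :
    (∃ K L : Subgroup G, K.Normal ∧ L.Normal ∧ K ≤ L ∧ (Nat.card K).Coprime q ∧ (∃ m : ℕ, K.relIndex L = q ^ m) ∧ L.index.Coprime q) ∧
    ∃ p : ℕ, p.Prime ∧ (∀ x : G, (∃ k : ℕ, orderOf x = q ^ k) → ∃ a : ℕ, (Subgroup.centralizer ({x} : Set G)).index = p ^ a) ∧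
      (p = q → (Q : Subgroup G).Normal ∧ ∃ N : Subgroup G, N.Normal ∧ N.IsComplement' (Q : Subgroup G)) ∧
      (p ≠ q → IsMulCommutative (Q : Subgroup G) ∧ (Cfsg.pCore p G ⊔ (Q : Subgroup G)).Normal ∧
        ∀ _h : (Cfsg.pPrimeCore q G).Normal, Group.IsSolvable (G ⧸ Cfsg.pPrimeCore q G)) := by
  have hqp : q.Prime := Fact.out
  refine ⟨BaerQ.qLength_one hBaer Q, ?_⟩
  -- it is enough to know the classes of the elements of `Q`
  have hext : ∀ p : ℕ, (∀ x ∈ (Q : Subgroup G), ∃ a, (Subgroup.centralizer ({x} : Set G)).index = p ^ a) →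
      ∀ x : G, (∃ k : ℕ, orderOf x = q ^ k) → ∃ a, (Subgroup.centralizer ({x} : Set G)).index = p ^ a := by
    rintro p hp x ⟨k, hk⟩
    obtain ⟨g, hg⟩ := BaerQ.exists_conj_mem Q hk
    obtain ⟨a, ha⟩ := hp _ hg
    exact ⟨a, by rwa [BaerQ.index_conj] at ha⟩
  have hsame : (∀ x ∈ (Q : Subgroup G), x ∈ Subgroup.center G) ∨
      (¬ ∀ a ∈ (Q : Subgroup G), ∀ b ∈ (Q : Subgroup G), a * b = b * a) →
      (Q : Subgroup G).Normal ∧ ∀ r : ℕ, r.Prime → r ≠ q → ∀ R : Sylow r G,
        (R : Subgroup G) ≤ Subgroup.centralizer ((Q : Subgroup G) : Set G) := by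
    rintro (h | h)
    · refine ⟨⟨fun x hx g => ?_⟩, fun r _ _ R u _ => Subgroup.mem_centralizer_iff.2 fun x hx =>
        (Subgroup.mem_center_iff.1 (h x hx) u).symm⟩
      rw [Subgroup.mem_center_iff.1 (h x hx) g, mul_inv_cancel_right]
      exact hx
    · exact BaerQ.nonabelian hBaer Q h
  by_cases hcase : (∀ x ∈ (Q : Subgroup G), x ∈ Subgroup.center G) ∨
      (¬ ∀ a ∈ (Q : Subgroup G), ∀ b ∈ (Q : Subgroup G), a * b = b * a)
  · obtain ⟨hn, hR⟩ := hsame hcase
    haveI := hn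
    obtain ⟨hcl, hN⟩ := BaerQ.direct_factor Q hR
    exact ⟨q, hqp, hext q hcl, fun _ => ⟨hn, hN⟩, fun h => absurd rfl h⟩
  push Not at hcase
  obtain ⟨⟨x, hx, hxc⟩, hab⟩ := hcase
  obtain ⟨p, hp, hpq, hcl⟩ := BaerQ.exists_prime_abelian hBaer Q hab ⟨x, hx, hxc⟩
  haveI := Fact.mk hp
  refine ⟨p, hp, hext p hcl, fun h => absurd h hpq, fun _ => ⟨⟨⟨fun a b => Subtype.ext
    (hab a a.2 b b.2)⟩⟩, BaerQ.normal_sup_of_abelian Q hp hpq hcl, fun _h => ?_⟩⟩
  set π := QuotientGroup.mk' (Cfsg.pPrimeCore q G) with hπ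
  let O : Sylow q (G ⧸ Cfsg.pPrimeCore q G) := Q.mapSurjective (QuotientGroup.mk'_surjective _)
  have hO : (O : Subgroup (G ⧸ Cfsg.pPrimeCore q G)) = (Q : Subgroup G).map π := rfl
  haveI : (O : Subgroup (G ⧸ Cfsg.pPrimeCore q G)).Normal := by
    rw [hO, BaerQ.map_sylow_eq_pCore hBaer Q]; infer_instance
  refine BaerQ.isSolvable_of_abelian (p := p) (CfsgLib.Cores.pPrimeCore_quotient_self q) O ?_ ?_
  · rintro _ ⟨a, ha, rfl⟩ _ ⟨b, hb, rfl⟩
    rw [← map_mul, ← map_mul, hab a ha b hb]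
  · rintro _ ⟨a, ha, rfl⟩
    obtain ⟨m, hm⟩ := hcl a ha
    obtain ⟨m', -, hm'⟩ := (Nat.dvd_prime_pow hp).1 (hm ▸
      (Subgroup.index_dvd_of_le (show (Subgroup.centralizer ({a} : Set G)).map π ≤
          Subgroup.centralizer ({π a} : Set _) by
        rintro _ ⟨u, hu, rfl⟩
        rw [Subgroup.mem_centralizer_singleton_iff, ← map_mul, ← map_mul,
          Subgroup.mem_centralizer_singleton_iff.1 hu])).trans
        (Subgroup.index_map_dvd _ (QuotientGroup.mk'_surjective _)))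
    exact ⟨m', hm'⟩

end Cfsg.Agent.S4125
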