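import Cfsg.Statements.S4126
import Cfsg.Agent.Lib.FGS.SmallElements

set_option autoImplicit false
open Cfsg

namespace Cfsg.Agent.S4126

/-- Let G be a finite group and p a prime. Suppose every element of order p, and when p = 2 also every element of order 4, has a conjugacy class of p-power size. Then G has a normal p-complement. -/
theorem result {G : Type*} [Group G] [Finite G] (p : ℕ) [Fact p.Prime]
    (h : ∀ x : G, (orderOf x = p ∨ (p = 2 ∧ orderOf x = 4)) → ∃ a : ℕ, (Subgroup.centralizer ({x} : Set G)).index = p ^ a) :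
    Cfsg.HasNormalPComplement p G := by
  refine CfsgLib.FGS.hasNormalPComplement_of_small_classes fun x hx => ?_
  rcases eq_or_ne x 1 with rfl | hx1
  · exact ⟨0, by rw [pow_zero, Subgroup.index_eq_one, Subgroup.centralizer_eq_top_iff_subset]; simp⟩
  refine h x ?_
  rcases hx with hx | ⟨h2, hx⟩
  · exact Or.inl (orderOf_eq_prime hx hx1)
  · subst h2
    rcases eq_or_ne (x ^ 2) 1 with h3 | h3
    · exact Or.inl (orderOf_eq_prime h3 hx1)
    · exact Or.inr ⟨rfl, orderOf_eq_prime_pow (p := 2) (n := 1) (by simpa using h3) (by simpa using hx)⟩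

end Cfsg.Agent.S4126
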