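import Cfsg.Statements.S4130
import Cfsg.Agent.Lib.FGS.SquarefreeClasses
import Cfsg.Agent.Lib.Solvable.Nilpotent
-- import your own Cfsg.Agent.* helpers here

set_option autoImplicit false
open Cfsg

namespace Cfsg.Agent.S4130

/-- Let G be a finite group all of whose conjugacy class sizes are square-free. Then G is supersolvable, G/F(G) and the derived subgroup G′ are cyclic of square-free order (F(G) the Fitting subgroup, which is normal), F(G) has nilpotency class at most 2, and G is metabelian. -/
theorem result {G : Type*} [Group G] [Finite G]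
    (h : ∀ x : G, Squarefree (Subgroup.centralizer ({x} : Set G)).index) :
    Cfsg.IsSupersolvable G ∧ (Cfsg.fittingSubgroup G).Normal ∧
    (∀ _h : (Cfsg.fittingSubgroup G).Normal, IsCyclic (G ⧸ Cfsg.fittingSubgroup G) ∧ Squarefree (Cfsg.fittingSubgroup G).index) ∧
    IsCyclic (commutator G) ∧ Squarefree (Nat.card (commutator G)) ∧
    Subgroup.upperCentralSeries ↥(Cfsg.fittingSubgroup G) 2 = ⊤ ∧ commutator ↥(commutator G) = ⊥ := by
  have hG : Cfsg.Agent.SquarefreeClasses.Hyp G := h
  set F := Cfsg.fittingSubgroup G with hF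
  haveI hFn : F.Normal := CfsgLib.Cores.fittingSubgroup_normal
  haveI hFnil : Group.IsNilpotent F := CfsgLib.Cores.isNilpotent_fittingSubgroup
  have hG' : commutator G ≤ F := hG.commutator_le_fitting
  have hsqF : Squarefree F.index := hG.squarefree_fitting_index
  have hsqD : Squarefree (Nat.card (commutator G)) := hG.squarefree_commutator
  have hDnil : Group.IsNilpotent (commutator G) :=
    Subgroup.isNilpotent_of_ker_le_center (Subgroup.inclusion hG')
      (((MonoidHom.ker_eq_bot_iff _).2 (Subgroup.inclusion_injective hG')).le.trans bot_le)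
  haveI : IsZGroup (commutator G) := IsZGroup.of_squarefree hsqD
  haveI hDcyc : IsCyclic (commutator G) := inferInstance
  refine ⟨hG.supersolvable, hFn, fun _ => ⟨?_, hsqF⟩, hDcyc, hsqD, ?_, ?_⟩
  · have hsq : Squarefree (Nat.card (G ⧸ F)) := by rwa [← Subgroup.index_eq_card]
    haveI : IsZGroup (G ⧸ F) := IsZGroup.of_squarefree hsq
    haveI : Group.IsNilpotent (G ⧸ F) := by
      have hab : ∀ a b : G ⧸ F, a * b = b * a := by
        intro a b
        obtain ⟨u, rfl⟩ := QuotientGroup.mk'_surjective F a
        obtain ⟨v, rfl⟩ := QuotientGroup.mk'_surjective F b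
        rw [← commutatorElement_eq_one_iff_mul_comm, ← map_commutatorElement,
          QuotientGroup.mk'_apply, QuotientGroup.eq_one_iff]
        exact hG' (Subgroup.commutator_mem_commutator (Subgroup.mem_top u) (Subgroup.mem_top v))
      exact ⟨1, by
        rw [Subgroup.upperCentralSeries_one, eq_top_iff]
        exact fun a _ => Subgroup.mem_center_iff.2 fun b => hab b a⟩
    infer_instance
  · -- the commutators of the Fitting subgroup are central in it
    rw [eq_top_iff]
    intro a _
    rw [Subgroup.mem_upperCentralSeries_succ_iff]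
    intro b
    rw [Subgroup.upperCentralSeries_one]
    let A : Subgroup ↥F := (commutator G).subgroupOf F
    haveI : A.Normal := Subgroup.Normal.comap inferInstance _
    haveI : IsCyclic A := isCyclic_of_surjective (Subgroup.subgroupOfEquivOfLe hG').symm.toMonoidHom
      (Subgroup.subgroupOfEquivOfLe hG').symm.surjective
    have hA : ∀ c ∈ A, c ∈ Subgroup.center ↥F := by
      intro c hc
      refine CfsgLib.FGS.mem_of_prime_powers (Subgroup.center ↥F) c fun i hi => ?_
      obtain ⟨q, k, hq, hk⟩ := hi
      set d := c ^ i with hd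
      have hdA : d ∈ A := pow_mem hc i
      have hdq : orderOf d ∣ Nat.card (commutator G) := by
        rw [← Subgroup.orderOf_coe]
        have h0 : (d : G) ∈ commutator G := Subgroup.mem_subgroupOf.1 hdA
        exact Subgroup.orderOf_mk (d : G) h0 ▸ orderOf_dvd_natCard (⟨d, h0⟩ : commutator G)
      have hk1 : k ≤ 1 := by
        have h1 := (Nat.squarefree_iff_factorization_le_one Nat.card_pos.ne').1 hsqD q
        have h2 := (hq.pow_dvd_iff_le_factorization Nat.card_pos.ne').1 (hk ▸ hdq)
        omega
      rcases Nat.le_one_iff_eq_zero_or_eq_one.1 hk1 with rfl | rfl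
      · rw [pow_zero, orderOf_eq_one_iff] at hk
        rw [hk]; exact one_mem _
      rw [pow_one] at hk
      haveI : (Subgroup.zpowers d).Normal :=
        CfsgLib.Solvable.normal_of_le_cyclic_normal (N := A) (Subgroup.zpowers_le.2 hdA)
      haveI : Fact q.Prime := ⟨hq⟩
      have hmeet : (Subgroup.zpowers d ⊓ Subgroup.center ↥F) ≠ ⊥ :=
        CfsgLib.Solvable.inf_center_ne_bot_of_isNilpotent fun hb =>
          hq.one_lt.ne' (hk ▸ orderOf_eq_one_iff.2 (Subgroup.zpowers_eq_bot.1 hb))
      have heq : Subgroup.zpowers d ⊓ Subgroup.center ↥F = Subgroup.zpowers d := by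
        refine Subgroup.eq_of_le_of_card_ge inf_le_left ?_
        rw [Nat.card_zpowers, hk]
        rcases (Nat.dvd_prime hq).1 (hk ▸ Nat.card_zpowers d ▸
          Subgroup.card_dvd_of_le (inf_le_left :
            Subgroup.zpowers d ⊓ Subgroup.center ↥F ≤ _)) with h1 | h1
        · exact absurd (Subgroup.card_eq_one.1 h1) hmeet
        · exact h1.ge
      exact (Subgroup.mem_inf.1 (heq.ge (Subgroup.mem_zpowers d))).2
    apply hA
    show ((a * b * a⁻¹ * b⁻¹ : ↥F) : G) ∈ commutator G
    exact Subgroup.commutator_mem_commutator (Subgroup.mem_top (a : G)) (Subgroup.mem_top (b : G))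
  · rw [eq_bot_iff]
    refine (le_of_eq (commutator_def _)).trans (Subgroup.commutator_le.2 fun a _ b _ => ?_)
    obtain ⟨g, hg⟩ := IsCyclic.exists_generator (α := commutator G)
    obtain ⟨i, rfl⟩ := hg a
    obtain ⟨j, rfl⟩ := hg b
    rw [Subgroup.mem_bot, commutatorElement_eq_one_iff_mul_comm]
    rw [← zpow_add, ← zpow_add, add_comm]

end Cfsg.Agent.S4130
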