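import Cfsg.Statements.S4134
import Cfsg.Agent.Lib.FGS.EqualClasses
import Mathlib

set_option autoImplicit false
open Cfsg

namespace Cfsg.Agent.S4134

open Subgroup CfsgLib.FGS.EqualClasses
open scoped commutatorElement

theorem centralizer_central_mul {G : Type*} [Group G] {z : G} (hz : z ∈ center G) (x : G) :
    centralizer ({z * x} : Set G) = centralizer ({x} : Set G) := by
  ext y
  rw [mem_centralizer_singleton_iff, mem_centralizer_singleton_iff, ← mul_assoc,
    mem_center_iff.1 hz y, mul_assoc, mul_assoc]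
  exact mul_right_inj z

/-- Elements with non-central `p`-th power share the centraliser of `u`. -/
theorem eq_component {G : Type*} [Group G] [Finite G] {n p : ℕ} (h : Equal G n) {u y : G}
    (huZ : u ∉ center G) (hup : u ^ p ∈ center G) (hc : ⁅y, u⁆ ∈ center G)
    (hyp : y ^ p ∉ center G) : centralizer ({y} : Set G) = centralizer ({u} : Set G) := by
  set z := ⁅y, u⁆ with hz
  have hzc : ∀ g : G, Commute g z := fun g => mem_center_iff.1 hc g
  have hyu : y * u = z * u * y := by rw [hz, commutatorElement_def]; group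
  have e1 : ∀ k : ℕ, y ^ k * u = z ^ k * u * y ^ k := by
    intro k
    induction k with
    | zero => simp
    | succ k ih =>
      calc y ^ (k + 1) * u = y * (y ^ k * u) := by rw [pow_succ', mul_assoc]
        _ = y * z ^ k * (u * y ^ k) := by rw [ih]; group
        _ = z ^ k * (y * u) * y ^ k := by rw [((hzc y).pow_right k).eq]; group
        _ = z ^ (k + 1) * u * y ^ (k + 1) := by rw [hyu, pow_succ, pow_succ']; group
  have e2 : ∀ k : ℕ, ∃ c ∈ center G, (u * y) ^ k = u ^ k * y ^ k * c := by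
    intro k
    induction k with
    | zero => exact ⟨1, one_mem _, by simp⟩
    | succ k ih =>
      obtain ⟨c, hcZ, e⟩ := ih
      refine ⟨z ^ k * c, mul_mem (pow_mem hc k) hcZ, ?_⟩
      have hcc := mem_center_iff.1 hcZ
      calc (u * y) ^ (k + 1) = u ^ k * y ^ k * (c * (u * y)) := by rw [pow_succ, e]; group
        _ = u ^ k * (y ^ k * u) * y * c := by rw [← hcc (u * y)]; group
        _ = u ^ k * z ^ k * u * (y ^ k * y) * c := by rw [e1]; group
        _ = u ^ (k + 1) * (y ^ (k + 1) * z ^ k) * c := by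
          rw [← ((hzc (u ^ k)).pow_right k).symm.eq, pow_succ, pow_succ]
          rw [show z ^ k * u ^ k * u * (y ^ k * y) = z ^ k * (u ^ k * u * (y ^ k * y)) by group,
            ← ((hzc (u ^ k * u * (y ^ k * y))).pow_right k).eq]
          group
        _ = u ^ (k + 1) * y ^ (k + 1) * (z ^ k * c) := by group
  obtain ⟨c, hcZ, e⟩ := e2 p
  have e' : (u * y) ^ p = u ^ p * c * y ^ p := by
    rw [e, mul_assoc, mul_assoc, mem_center_iff.1 hcZ (y ^ p)]
  have hv : (u * y) ^ p ∉ center G := fun h1 => hyp (by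
    rw [e'] at h1
    have := mul_mem (inv_mem (mul_mem hup hcZ)) h1
    rwa [← mul_assoc, inv_mul_cancel, one_mul] at this)
  have h1 : centralizer ({u * y} : Set G) = centralizer ({y} : Set G) := by
    rw [← centralizer_pow_eq h hv, ← centralizer_pow_eq h hyp, e',
      centralizer_central_mul (mul_mem hup hcZ)]
  refine eq_of_le h (fun hy => hyp (pow_mem hy p)) huZ fun g hg => ?_
  have c1 : Commute g y := mem_centralizer_singleton_iff.1 hg
  have c2 : Commute g (u * y) := mem_centralizer_singleton_iff.1 (h1 ▸ hg)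
  have := c2.mul_right c1.inv_right
  rw [mul_inv_cancel_right] at this
  exact mem_centralizer_singleton_iff.2 this.eq


/-- Let G be a finite group whose conjugacy classes have exactly two sizes, 1 and n > 1. Then n is a power of a prime p and G is the direct product of a p-group and an abelian group of order prime to p: its Sylow p-subgroup P is normal with an abelian normal complement centralizing it; moreover P has an abelian normal subgroup A with P/A of exponent dividing p. -/
theorem result {G : Type*} [Group G] [Finite G] (n : ℕ) (hn : 1 < n)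
    (h : ∀ x : G, (Subgroup.centralizer ({x} : Set G)).index = 1 ∨ (Subgroup.centralizer ({x} : Set G)).index = n) (hex : ∃ x : G, (Subgroup.centralizer ({x} : Set G)).index = n) :
    ∃ (p : ℕ) (_ : Fact p.Prime) (a : ℕ), n = p ^ a ∧ ∀ P : Sylow p G, (P : Subgroup G).Normal ∧
      (∃ N : Subgroup G, N.Normal ∧ N.IsComplement' (P : Subgroup G) ∧ IsMulCommutative N ∧
        ∀ x ∈ N, ∀ y ∈ (P : Subgroup G), x * y = y * x) ∧
      ∃ A : Subgroup (P : Subgroup G), A.Normal ∧ IsMulCommutative A ∧ ∀ y : (P : Subgroup G), y ^ p ∈ A := by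
  have heq : CfsgLib.FGS.EqualClasses.Equal G n := fun x hx =>
    (h x).resolve_left fun h1 => hx (noncentral_index.2 h1)
  obtain ⟨x₀, hx₀⟩ := hex
  have hx₀Z : x₀ ∉ center G := fun hx => by rw [noncentral_index.1 hx] at hx₀; omega
  have hexZ : ∃ x : G, x ∉ center G := ⟨x₀, hx₀Z⟩
  obtain ⟨p, hp, hpn⟩ := Nat.exists_prime_and_dvd (show n ≠ 1 by omega)
  haveI : Fact p.Prime := ⟨hp⟩
  refine ⟨p, ⟨hp⟩, _, Nat.eq_prime_pow_of_unique_prime_dvd (by omega)
    (fun {d} hd hdn => prime_unique heq hexZ hd hp hdn hpn), fun P => ?_⟩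
  let N : Subgroup G :=
    { carrier := {z | z ∈ center G ∧ (orderOf z).Coprime p}
      one_mem' := ⟨one_mem _, by rw [orderOf_one]; exact Nat.coprime_one_left p⟩
      mul_mem' := fun {a b} ha hb => ⟨mul_mem ha.1 hb.1, Nat.Coprime.coprime_dvd_left
        (show Commute a b from mem_center_iff.1 hb.1 a).orderOf_mul_dvd_mul_orderOf (ha.2.mul_left hb.2)⟩
      inv_mem' := fun {a} ha => ⟨inv_mem ha.1, by rw [orderOf_inv]; exact ha.2⟩ }
  have hNZ : ∀ z ∈ N, ∀ g : G, g * z = z * g := fun z hz g => mem_center_iff.1 hz.1 g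
  haveI hNn : N.Normal := ⟨fun m hm g => by rwa [hNZ m hm g, mul_inv_cancel_right]⟩
  have hdisj : Disjoint N (P : Subgroup G) := by
    rw [disjoint_def]
    intro z hz hzP
    obtain ⟨k, hk⟩ := P.isPGroup' ⟨z, hzP⟩
    rw [← orderOf_eq_one_iff]
    exact Nat.eq_one_of_dvd_coprimes (Nat.Coprime.pow_right k hz.2) dvd_rfl
      (orderOf_dvd_of_pow_eq_one (congrArg Subtype.val hk))
  have hsup : N ⊔ (P : Subgroup G) = ⊤ := by
    by_contra hne
    obtain ⟨r, hr, hrd⟩ := Nat.exists_prime_and_dvd (mt index_eq_one.1 hne)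
    haveI : Fact r.Prime := ⟨hr⟩
    by_cases hrp : r = p
    · subst hrp
      exact P.not_dvd_index (hrd.trans (index_dvd_of_le le_sup_right))
    · obtain ⟨R⟩ : Nonempty (Sylow r G) := inferInstance
      refine R.not_dvd_index (hrd.trans (index_dvd_of_le (le_trans ?_ le_sup_left)))
      intro z hz
      refine ⟨sylow_central heq R (fun hd => hrp (prime_unique heq hexZ hr hp hd hpn)) hz, ?_⟩
      obtain ⟨k, hk⟩ := R.isPGroup' ⟨z, hz⟩
      exact Nat.Coprime.coprime_dvd_left (orderOf_dvd_of_pow_eq_one (congrArg Subtype.val hk))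
        (Nat.Coprime.pow_left k ((Nat.coprime_primes hr hp).2 hrp))
  have hprod : ∀ g : G, ∃ z ∈ N, ∃ v ∈ (P : Subgroup G), z * v = g := fun g =>
    mem_sup_of_normal_left.1 (hsup ▸ mem_top g)
  refine ⟨⟨fun v hv g => ?_⟩, ⟨N, hNn, isComplement'_of_disjoint_and_mul_eq_univ hdisj
    (by rw [← normal_mul, hsup]; rfl), ⟨⟨fun a b => Subtype.ext (hNZ b b.2 a)⟩⟩,
    fun x hx y _ => (hNZ x hx y).symm⟩, ?_⟩
  · obtain ⟨z, hz, w, hw, rfl⟩ := hprod g
    have : z * w * v * (z * w)⁻¹ = w * v * w⁻¹ := by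
      calc z * w * v * (z * w)⁻¹ = z * (w * v * w⁻¹) * z⁻¹ := by group
        _ = w * v * w⁻¹ := by rw [← hNZ z hz, mul_inv_cancel_right]
    rw [this]
    exact mul_mem (mul_mem hw hv) (inv_mem hw)
  by_cases hall : ∀ y ∈ (P : Subgroup G), y ^ p ∈ center G
  · exact ⟨(center G).subgroupOf P, inferInstance,
      ⟨⟨fun a b => Subtype.ext (Subtype.ext (mem_center_iff.1 b.2 (a : G)))⟩⟩,
      fun y => by rw [mem_subgroupOf]; push_cast; exact hall y y.2⟩
  push Not at hall
  obtain ⟨a, ha, haZ⟩ := hall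
  obtain ⟨u, huP, huZ, hup, huc⟩ := exists_second_centre (r := p) P.isPGroup'
    ⟨a, ha, fun hz => haZ (pow_mem hz p)⟩
  set C := centralizer ({u} : Set G) with hC
  set D := C ⊓ centralizer (C : Set G) with hD
  have hZD : center G ≤ D := fun z hz => Subgroup.mem_inf.2
    ⟨mem_centralizer_singleton_iff.2 (mem_center_iff.1 hz u).symm,
      mem_centralizer_iff.2 fun c _ => mem_center_iff.1 hz c⟩
  refine ⟨D.subgroupOf P, ⟨fun d hd g => ?_⟩, ⟨⟨fun c d => Subtype.ext (Subtype.ext ?_)⟩⟩, fun y => ?_⟩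
  · rw [mem_subgroupOf] at hd ⊢
    push_cast
    have hg : centralizer ({(g : G) * u * (g : G)⁻¹} : Set G) = C := by
      rw [show (g : G) * u * (g : G)⁻¹ = ⁅(g : G), u⁆ * u by rw [commutatorElement_def]; group,
        centralizer_central_mul (huc g g.2)]
    have hmem : ∀ c, c ∈ C ↔ (g : G)⁻¹ * c * g ∈ C := fun c => by
      conv_lhs => rw [← hg, CfsgLib.FGS.EqualClasses.centralizer_conj, mem_map_equiv,
        MulAut.conj_symm_apply]
    obtain ⟨hd1, hd2⟩ := Subgroup.mem_inf.1 hd
    refine Subgroup.mem_inf.2 ⟨(hmem _).2 (by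
      rw [show (g : G)⁻¹ * ((g : G) * d * (g : G)⁻¹) * g = d by group]; exact hd1),
      mem_centralizer_iff.2 fun c hc => ?_⟩
    have h1 := mem_centralizer_iff.1 hd2 _ ((hmem c).1 hc)
    calc c * ((g : G) * d * (g : G)⁻¹) = (g : G) * ((g : G)⁻¹ * c * g * d) * (g : G)⁻¹ := by group
      _ = (g : G) * d * (g : G)⁻¹ * c := by rw [h1]; group
  · have h1 := (Subgroup.mem_inf.1 (mem_subgroupOf.1 c.2)).1
    have h2 := (Subgroup.mem_inf.1 (mem_subgroupOf.1 d.2)).2
    exact mem_centralizer_iff.1 h2 _ h1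
  · rw [mem_subgroupOf]
    push_cast
    by_cases hy : (y : G) ^ p ∈ center G
    · exact hZD hy
    · refine pow_mem ?_ p
      have e := eq_component heq huZ hup (huc y y.2) hy
      refine Subgroup.mem_inf.2 ⟨?_, mem_centralizer_iff.2 fun c hc => ?_⟩
      · rw [hC, ← e]; exact mem_centralizer_singleton_iff.2 rfl
      · rw [hC, ← e] at hc
        exact mem_centralizer_singleton_iff.1 hc

end Cfsg.Agent.S4134
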