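import Cfsg.Statements.S4135
import Cfsg.Agent.Lib.FGS.TwoSizeNormal

set_option autoImplicit false
open Cfsg

namespace Cfsg.Agent.S4135

/-- Let G be a finite group, r a prime and R a Sylow r-subgroup of G that is not central, N a normal subgroup of G containing R, and m a natural number such that every element of N has a conjugacy class in G of size 1 or m. Then N is nilpotent. -/
theorem result {G : Type*} [Group G] [Finite G] (r : ℕ) [Fact r.Prime]
    (R : Sylow r G) (hR : ¬ (R : Subgroup G) ≤ Subgroup.center G) (N : Subgroup G) [N.Normal] (hRN : (R : Subgroup G) ≤ N)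
    (m : ℕ) (h : ∀ x ∈ N, (Subgroup.centralizer ({x} : Set G)).index = 1 ∨ (Subgroup.centralizer ({x} : Set G)).index = m) : Group.IsNilpotent N := by
  classical
  have hidx : ∀ x ∈ N, x ∉ Subgroup.center G →
      (Subgroup.centralizer ({x} : Set G)).index = m := by
    intro x hx hxc
    refine (h x hx).resolve_left fun h1 => hxc (Subgroup.mem_center_iff.2 fun g => ?_)
    exact Cfsg.Agent.TwoSizeNormal.mem_cen.1 ((Subgroup.index_eq_one.1 h1).ge (Subgroup.mem_top g))
  refine Cfsg.Agent.TwoSizeNormal.Hyp.isNilpotent (r := r) ⟨?_, ?_, ?_⟩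
  · intro x hx y hy hxc hyc
    have h1 := (Cfsg.Agent.TwoSizeNormal.cen x).card_mul_index
    have h2 := (Cfsg.Agent.TwoSizeNormal.cen y).card_mul_index
    rw [hidx x hx hxc] at h1
    rw [hidx y hy hyc] at h2
    have hm : 0 < m := by
      rcases Nat.eq_zero_or_pos m with h0 | h0
      · rw [h0, mul_zero] at h1; exact absurd h1.symm Nat.card_pos.ne'
      · exact h0
    exact Nat.eq_of_mul_eq_mul_right hm (h1.trans h2.symm)
  · intro R'
    obtain ⟨g, hg⟩ := MulAction.exists_smul_eq G R R'
    rintro x hx
    rw [← hg, Sylow.smul_def, Sylow.pointwise_smul_def] at hx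
    obtain ⟨y, hy, rfl⟩ := hx
    exact (inferInstance : N.Normal).conj_mem y (hRN hy) g
  · intro R' hR'
    obtain ⟨g, hg⟩ := MulAction.exists_smul_eq G R' R
    refine hR fun x hx => ?_
    rw [← hg, Sylow.smul_def, Sylow.pointwise_smul_def] at hx
    obtain ⟨y, hy, rfl⟩ := hx
    show g * y * g⁻¹ ∈ Subgroup.center G
    rw [Subgroup.mem_center_iff.1 (hR' hy) g, mul_inv_cancel_right]
    exact hR' hy

end Cfsg.Agent.S4135
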