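import Cfsg.Statements.S4137
import Cfsg.Agent.Lib.ConjType.RankThree
import Cfsg.Agent.Lib.SmallGroups.EvenCharRecog

set_option autoImplicit false
open Cfsg

namespace Cfsg.Agent.S4137

/-- Let G be a finite group with trivial centre and at most three distinct sizes of conjugacy classes other than 1. Then G is solvable or G is isomorphic to PSL₂(2^a) for some a ≥ 1. -/
theorem result {G : Type*} [Group G] [Finite G]
    (hZ : Subgroup.center G = ⊥) (h : Nat.card {n : ℕ | 1 < n ∧ ∃ x : G, (Subgroup.centralizer ({x} : Set G)).index = n} ≤ 3) :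
    Group.IsSolvable G ∨ ∃ a : ℕ, 0 < a ∧ Nonempty (G ≃* Matrix.ProjectiveSpecialLinearGroup (Fin 2) (GaloisField 2 a)) := by
  by_cases hs : Group.IsSolvable G
  · exact Or.inl hs
  refine Or.inr ?_
  have hset : {m : ℕ | ∃ x : G, x ≠ 1 ∧ CfsgLib.FGS.TwoLargest.cls x = m} =
      {n : ℕ | 1 < n ∧ ∃ x : G, (Subgroup.centralizer ({x} : Set G)).index = n} := by
    ext n
    constructor
    · rintro ⟨x, hx, rfl⟩
      refine ⟨?_, x, rfl⟩
      have h0 := CfsgLib.FGS.TwoLargest.cls_ne_zero x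
      have h1 : CfsgLib.FGS.TwoLargest.cls x ≠ 1 := fun e => hx (by
        have := CfsgLib.FGS.TwoLargest.cls_eq_one.1 e
        rwa [hZ, Subgroup.mem_bot] at this)
      omega
    · rintro ⟨hn, x, rfl⟩
      refine ⟨x, fun e => ?_, rfl⟩
      subst e
      have h1 : (Subgroup.centralizer ({(1 : G)} : Set G)).index = 1 :=
        CfsgLib.FGS.TwoLargest.cls_eq_one.2 (Subgroup.one_mem _)
      omega
  obtain ⟨m, F, hF, hfin, hm, hcard, ⟨e⟩⟩ := CfsgLib.ConjType.equiv_psl_of_not_solvable hZ hs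
    (by rw [hset, ← Nat.card_coe_set_eq]; exact h)
  have hm0 : m ≠ 0 := by omega
  let ι : F ≃+* GaloisField 2 m := by
    haveI : Fintype (GaloisField 2 m) := Fintype.ofFinite _
    exact FiniteField.ringEquivOfCardEq (by
      rw [hcard, ← Nat.card_eq_fintype_card, GaloisField.card 2 m hm0])
  exact ⟨m, by omega, ⟨e.trans (CfsgLib.Classical.Dickson.pslCongr ι)⟩⟩

end Cfsg.Agent.S4137
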