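import Cfsg.Statements.S4138
import Cfsg.Agent.Lib.FGS.CoprimeLargestMain
-- import your own Cfsg.Agent.* helpers here

set_option autoImplicit false
set_option linter.style.haveILetI false
open Cfsg

namespace Cfsg.Agent.S4138

open Subgroup CfsgLib.FGS.TwoLargest
open scoped Pointwise

theorem exists_pi_element {G : Type*} [Group G] [Finite G] {m n : ℕ} (hcop : m.Coprime n)
    (htop : ∀ z : G, cls z ≤ m) {x y : G} (hx : cls x = n) (hy : cls y = m) :
    ∃ x₀ : G, centralizer ({x₀} : Set G) = centralizer ({x} : Set G) ∧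
      ∀ p : ℕ, p.Prime → p ∣ orderOf x₀ → p ∣ m := by
  suffices key : ∀ (d : ℕ) (w : G), orderOf w = d → centralizer ({w} : Set G) = centralizer ({x} : Set G) →
      ∃ x₀ : G, centralizer ({x₀} : Set G) = centralizer ({x} : Set G) ∧
        ∀ p : ℕ, p.Prime → p ∣ orderOf x₀ → p ∣ m from key _ x rfl rfl
  intro d
  induction d using Nat.strong_induction_on with
  | _ d ih =>
    intro w hd hw
    by_cases hall : ∀ p : ℕ, p.Prime → p ∣ orderOf w → p ∣ m
    · exact ⟨w, hw, hall⟩
    push Not at hall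
    obtain ⟨q, hq, hqd, hqm⟩ := hall
    haveI : Fact q.Prime := ⟨hq⟩
    obtain ⟨a, b, hab, ha, hb, ⟨k, hk⟩, hbq⟩ := CfsgLib.Cores.exists_pow_mul_pow q w
    have hdn : cls a ∣ n := by
      rw [← hx, show cls x = cls w by rw [cls, cls, hw]]
      exact cls_dvd (centralizer_le_of_mem_zpowers ha)
    have hc : (cls a).Coprime (cls y) := hy.symm ▸ (hcop.symm.coprime_dvd_left hdn)
    have haZ : a ∈ center G := by
      refine central_of_coprime hc (le_antisymm ((htop _).trans hy.ge) (cls_le_mul_right hc)) ?_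
      rw [hk, hy]
      exact (hq.coprime_iff_not_dvd.2 hqm).pow_left k
    have hlt : orderOf b < d := by
      refine lt_of_le_of_ne (Nat.le_of_dvd (hd ▸ orderOf_pos w) ?_) fun e => ?_
      · exact hd ▸ orderOf_dvd_of_mem_zpowers hb
      · exact hq.coprime_iff_not_dvd.1 hbq.symm (e ▸ hd ▸ hqd)
    refine ih _ hlt b rfl ?_
    rw [← hw, hab]
    ext g
    rw [mem_centralizer_singleton_iff, mem_centralizer_singleton_iff, ← mul_assoc g,
      mem_center_iff.1 haZ g, mul_assoc, mul_assoc]
    exact ⟨fun h => by rw [h], fun h => mul_left_cancel h⟩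

/-- Let G be a finite group whose two largest conjugacy class sizes m > n > 1 are coprime, and let x, y ∈ G have classes of sizes n and m respectively. Then C_G(x) and C_G(y) are abelian, and G/Z(G) is a Frobenius group with kernel C_G(x)/Z(G) and complement C_G(y)/Z(G). -/
theorem result {G : Type*} [Group G] [Finite G] (m n : ℕ) (hmn : n < m) (hn : 1 < n)
    (hcop : m.Coprime n) (htop : ∀ z : G, (Subgroup.centralizer ({z} : Set G)).index ≤ m) (hsecond : ∀ z : G, (Subgroup.centralizer ({z} : Set G)).index < m → (Subgroup.centralizer ({z} : Set G)).index ≤ n)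
    (x y : G) (hx : (Subgroup.centralizer ({x} : Set G)).index = n) (hy : (Subgroup.centralizer ({y} : Set G)).index = m) :
    IsMulCommutative (Subgroup.centralizer ({x} : Set G)) ∧ IsMulCommutative (Subgroup.centralizer ({y} : Set G)) ∧
    Cfsg.IsFrobeniusComplement ((Subgroup.centralizer ({y} : Set G)).map (QuotientGroup.mk' (Subgroup.center G))) ∧
    Cfsg.frobeniusKernel ((Subgroup.centralizer ({y} : Set G)).map (QuotientGroup.mk' (Subgroup.center G))) =
      ((Subgroup.centralizer ({x} : Set G)).map (QuotientGroup.mk' (Subgroup.center G)) : Set (G ⧸ Subgroup.center G)) := by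
  have hx' : cls x = n := hx
  have hy' : cls y = m := hy
  obtain ⟨x₀, hC, hp⟩ := exists_pi_element hcop htop hx' hy'
  have D : Hyp G m n x₀ y :=
    { n_gt := hn, n_lt := hmn, cop := hcop, top := htop, second := hsecond,
      clsx := by rw [cls, hC]; exact hx, clsy := hy, primesx := hp }
  rw [← hC]
  set Cx := centralizer ({x₀} : Set G) with hCx
  set Cy := centralizer ({y} : Set G) with hCy
  set π := QuotientGroup.mk' (center G)
  have hZy : center G ≤ Cy := center_le_centralizer _
  have hZx : center G ≤ Cx := center_le_centralizer _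
  have hcomap : ∀ C : Subgroup G, center G ≤ C → ∀ t : G, π t ∈ C.map π ↔ t ∈ C := fun C hC' t => by
    refine ⟨fun ⟨c, hc, he⟩ => ?_, fun h => ⟨t, h, rfl⟩⟩
    have h1 : c⁻¹ * t ∈ center G := QuotientGroup.eq.1 he
    simpa using mul_mem hc (hC' h1)
  have hconj : ∀ g : G, ∀ H : Subgroup (G ⧸ center G), ∀ t : G,
      π t ∈ MulAut.conj (π g) • H ↔ π (g⁻¹ * t * g) ∈ H := fun g H t => by
    rw [mem_pointwise_smul_iff_inv_smul_mem, ← map_inv, MulAut.smul_def, MulAut.conj_apply, map_mul, map_mul,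
      map_inv, inv_inv]
  refine ⟨⟨⟨fun a b => Subtype.ext (D.commutative_x a a.2 b b.2).eq⟩⟩,
    ⟨⟨fun a b => Subtype.ext (D.commutative_y a a.2 b b.2).eq⟩⟩, ⟨?_, ?_, ?_⟩, ?_⟩
  · intro h
    have hyb : π y ∈ Cy.map π := ⟨y, mem_centralizer_singleton_iff.2 rfl, rfl⟩
    rw [h, mem_bot] at hyb
    have := cls_eq_one.2 ((QuotientGroup.eq_one_iff y).1 hyb)
    rw [hy'] at this
    omega
  · intro h
    have htop' : Cy = ⊤ := eq_top_iff.2 fun t _ => (hcomap Cy hZy t).1 (h ▸ mem_top _)
    have : m = 1 := by rw [← hy, htop', index_top]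
    omega
  · intro gb hgb
    obtain ⟨g, rfl⟩ := QuotientGroup.mk'_surjective (center G) gb
    refine (eq_bot_iff_forall _).2 fun tb ht => ?_
    obtain ⟨t, rfl⟩ := QuotientGroup.mk'_surjective (center G) tb
    have h1 : t ∈ Cy := (hcomap Cy hZy t).1 (mem_inf.1 ht).1
    have h2 : g⁻¹ * t * g ∈ Cy := (hcomap Cy hZy _).1 ((hconj g _ t).1 (mem_inf.1 ht).2)
    by_contra hne
    exact hgb ⟨g, D.mem_y_of_normalizes h1 (fun h => hne ((QuotientGroup.eq_one_iff t).2 h)) h2, rfl⟩
  · refine Set.ext fun tb => ?_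
    obtain ⟨t, rfl⟩ := QuotientGroup.mk'_surjective (center G) tb
    refine ⟨fun h => ?_, fun h => ?_⟩
    · refine ⟨t, ?_, rfl⟩
      by_contra htx
      obtain ⟨htZ, g, hg⟩ := D.exists_conj_mem_y (fun h' => htx (mem_centralizer_singleton_iff.2 h'))
      rcases h with h | h
      · exact htZ ((QuotientGroup.eq_one_iff t).1 h)
      · refine h (π g⁻¹) ((hconj g⁻¹ _ t).2 ⟨_, ?_, rfl⟩)
        rwa [inv_inv]
    · have htx : t ∈ Cx := (hcomap Cx hZx t).1 h
      by_cases h1 : π t = 1
      · exact Or.inl h1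
      refine Or.inr fun gb hmem => ?_
      obtain ⟨g, rfl⟩ := QuotientGroup.mk'_surjective (center G) gb
      have h2 : g⁻¹ * t * g ∈ Cy := (hcomap Cy hZy _).1 ((hconj g _ t).1 hmem)
      have h3 : g⁻¹ * t * g ∈ Cx := by
        have := (D.normal_x).conj_mem t htx g⁻¹
        rwa [inv_inv] at this
      have h4 : g⁻¹ * t * g ∈ center G :=
        D.inf_le_center _ (mem_centralizer_singleton_iff.1 h3) (mem_centralizer_singleton_iff.1 h2)
      have h5 := (inferInstance : (center G).Normal).conj_mem _ h4 g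
      refine h1 ((QuotientGroup.eq_one_iff t).2 ?_)
      simpa [mul_assoc] using h5

end Cfsg.Agent.S4138
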