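import Cfsg.Statements.S4145
import Cfsg.Agent.Lib.FGS.TransferCriteria
import Cfsg.Agent.Lib.Transfer.Basic
import Cfsg.Agent.Lib.Solvable.Sylow

set_option autoImplicit false
open Cfsg

namespace Cfsg.Agent.S4145

theorem conj_pow_commute {X : Type*} [Group X] {p n : ℕ} {g z : X} {j : ℤ}
    (hg : orderOf g = p ^ n) (hz : z * g * z⁻¹ = g ^ (j + 1)) (hj : (p : ℤ) ∣ j) :
    Commute (z ^ p ^ n) g := by
  have hk : ∀ k : ℕ, z ^ k * g * (z ^ k)⁻¹ = g ^ ((j + 1) ^ k) := by
    intro k
    induction k with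
    | zero => simp
    | succ k ih =>
      have e : z ^ (k + 1) * g * (z ^ (k + 1))⁻¹ = z * (z ^ k * g * (z ^ k)⁻¹) * z⁻¹ := by
        rw [pow_succ']; group
      rw [e, ih, ← conj_zpow, hz, ← zpow_mul, pow_succ']
  have h2 : (p : ℤ) ^ (n + 1) ∣ (j + 1) ^ p ^ n - 1 ^ p ^ n :=
    dvd_sub_pow_of_dvd_sub (by simpa using hj) n
  rw [one_pow] at h2
  have h3 : g ^ ((j + 1) ^ p ^ n) = g := by
    have h4 : g ^ ((j + 1) ^ p ^ n - 1) = 1 := by
      rw [← orderOf_dvd_iff_zpow_eq_one, hg, Nat.cast_pow]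
      exact (pow_dvd_pow _ (Nat.le_succ n)).trans h2
    rw [zpow_sub_one, mul_inv_eq_one] at h4
    exact h4
  exact mul_inv_eq_iff_eq_mul.1 ((hk _).trans h3)

theorem normal_map_complement {X : Type*} [Group X] [Finite X] {p : ℕ} [hp : Fact p.Prime]
    (C : Subgroup X) [C.Normal] (L : Subgroup C) [hL : L.Normal] (hc : (Nat.card L).Coprime p)
    (k : ℕ) (hk : L.index = p ^ k) : (L.map C.subtype).Normal := by
  have hmem : ∀ x : C, x ∈ L ↔ (orderOf x).Coprime p := by
    intro x
    refine ⟨fun hx => hc.coprime_dvd_left (Subgroup.orderOf_dvd_natCard L hx), fun hx => ?_⟩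
    rw [← QuotientGroup.eq_one_iff, ← orderOf_eq_one_iff]
    refine Nat.eq_one_of_dvd_coprimes (hx.pow_right k) (orderOf_map_dvd (QuotientGroup.mk' L) x) ?_
    rw [← hk, Subgroup.index_eq_card]
    exact orderOf_dvd_natCard _
  constructor
  rintro _ ⟨x, hx, rfl⟩ g
  refine ⟨MulAut.conjNormal g x, ?_, MulAut.conjNormal_apply g x⟩
  rw [SetLike.mem_coe, hmem, MulEquiv.orderOf_eq]
  exact (hmem x).1 hx

/-- Let G be a finite group with a cyclic Sylow p-subgroup and H a normal subgroup such that p divides both the order of H and the index of H. Then H has a normal p-complement and G is p-solvable. -/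
theorem result {G : Type*} [Group G] [Finite G] (p : ℕ) [Fact p.Prime]
    (P : Sylow p G) (hP : IsCyclic (P : Subgroup G)) (H : Subgroup G) [H.Normal] (h1 : p ∣ Nat.card H) (h2 : p ∣ H.index) :
    Cfsg.HasNormalPComplement p H ∧ Cfsg.IsPSolvable p G := by
  classical
  have hp : p.Prime := Fact.out
  haveI := hP
  obtain ⟨n, hn⟩ := P.isPGroup'.exists_card_eq
  set PH : Subgroup G := (P : Subgroup G) ⊓ H with hPH
  have hPHcard : ∀ Q : Sylow p H, Nat.card PH = Nat.card Q :=
    CfsgLib.Solvable.card_inf_of_normal (K := (⊤ : Subgroup G)) le_top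
      (by rw [Subgroup.normalizer_eq_top]) le_top P.isPGroup'
      (by rw [Subgroup.relIndex_top_right]; exact P.not_dvd_index)
  have hPH1 : p ∣ Nat.card PH := by
    obtain ⟨Q⟩ : Nonempty (Sylow p H) := inferInstance
    rw [hPHcard Q]
    exact Q.dvd_card_of_dvd_card h1
  let S : Sylow p H := ((P.isPGroup'.to_le inf_le_left : IsPGroup p PH).of_equiv
      (Subgroup.subgroupOfEquivOfLe (inf_le_right : PH ≤ H)).symm).toSylow (by
    obtain ⟨Q⟩ : Nonempty (Sylow p H) := inferInstance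
    intro hd
    have e := (PH.subgroupOf H).index_mul_card
    rw [Nat.card_congr (Subgroup.subgroupOfEquivOfLe (inf_le_right : PH ≤ H)).toEquiv, hPHcard Q,
      ← (Q : Subgroup H).index_mul_card] at e
    exact Q.not_dvd_index (Nat.eq_of_mul_eq_mul_right Nat.card_pos e ▸ hd))
  have hScoe : (S : Subgroup H) = PH.subgroupOf H := rfl
  have hcommP : ∀ x ∈ (P : Subgroup G), ∀ y ∈ (P : Subgroup G), x * y = y * x := by
    intro x hx y hy
    letI : CommGroup (P : Subgroup G) := IsCyclic.commGroup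
    exact congrArg Subtype.val (mul_comm (⟨x, hx⟩ : (P : Subgroup G)) ⟨y, hy⟩)
  obtain ⟨g, hg⟩ := IsCyclic.exists_generator (α := (P : Subgroup G))
  have hgen : ∀ x ∈ (P : Subgroup G), ∃ j : ℤ, (g : G) ^ j = x := fun x hx => by
    obtain ⟨j, hj⟩ := hg ⟨x, hx⟩
    exact ⟨j, congrArg Subtype.val hj⟩
  have hgord : orderOf (g : G) = p ^ n := by
    rw [Subgroup.orderOf_coe, orderOf_eq_card_of_forall_mem_zpowers hg, hn]
  have hPHne : (P : Subgroup G) ≠ PH := by
    intro e
    refine P.not_dvd_index (h2.trans (Subgroup.index_dvd_of_le ?_))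
    rw [e]; exact inf_le_right
  -- Burnside's hypothesis inside `H`
  have hHcent : ∀ m ∈ H, m ∈ Subgroup.normalizer (PH : Set G) → (orderOf m).Coprime p →
      ∀ x ∈ PH, m * x = x * m := by
    intro m hm hmN hmo
    set D : Subgroup G := Subgroup.centralizer (PH : Set G) ⊓ (H ⊔ (P : Subgroup G)) with hD
    have hPD : (P : Subgroup G) ≤ D := le_inf
      (fun x hx => Subgroup.mem_centralizer_iff.2 fun y hy => hcommP y hy.1 x hx) le_sup_right
    have hmP : ((m • P : Sylow p G) : Subgroup G) ≤ D := by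
      intro y hy
      obtain ⟨x, hx, rfl⟩ := hy
      have hxD := Subgroup.mem_inf.1 (hPD hx)
      show m * x * m⁻¹ ∈ D
      refine Subgroup.mem_inf.2 ⟨Subgroup.mem_centralizer_iff.2 fun z hz => ?_,
        mul_mem (mul_mem (Subgroup.mem_sup_left hm) hxD.2) (inv_mem (Subgroup.mem_sup_left hm))⟩
      have hz' : m⁻¹ * z * m ∈ PH := (Subgroup.mem_normalizer_iff''.1 hmN z).1 hz
      have h := Subgroup.mem_centralizer_iff.1 hxD.1 _ hz'
      calc z * (m * x * m⁻¹) = m * ((m⁻¹ * z * m) * x) * m⁻¹ := by group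
        _ = m * (x * (m⁻¹ * z * m)) * m⁻¹ := by rw [h]
        _ = _ := by group
    obtain ⟨c, hc⟩ := MulAction.exists_smul_eq D ((m • P).subtype hmP) (P.subtype hPD)
    set z := (c : G) * m with hz
    have hzP : ∀ x ∈ (P : Subgroup G), z * x * z⁻¹ ∈ (P : Subgroup G) := by
      intro x hx
      have h1 : m * x * m⁻¹ ∈ ((m • P : Sylow p G) : Subgroup G) := ⟨x, hx, rfl⟩
      have h2 : (⟨m * x * m⁻¹, hmP h1⟩ : D) ∈ ((m • P).subtype hmP : Subgroup D) := h1
      have h3 : c * ⟨m * x * m⁻¹, hmP h1⟩ * c⁻¹ ∈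
          (((c • (m • P).subtype hmP) : Sylow p D) : Subgroup D) := ⟨_, h2, rfl⟩
      rw [hc] at h3
      have h4 : (c : G) * (m * x * m⁻¹) * (c : G)⁻¹ ∈ (P : Subgroup G) := h3
      have e : z * x * z⁻¹ = (c : G) * (m * x * m⁻¹) * (c : G)⁻¹ := by rw [hz]; group
      rw [e]; exact h4
    obtain ⟨h, hh, π, hπ, hhπ⟩ : ∃ h ∈ H, ∃ π ∈ (P : Subgroup G), h * π = z :=
      Subgroup.mem_sup_of_normal_left.1
        (show z ∈ H ⊔ (P : Subgroup G) from mul_mem (Subgroup.mem_inf.1 c.2).2 (Subgroup.mem_sup_left hm))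
    have hu : z * g * z⁻¹ * (g : G)⁻¹ ∈ PH := by
      refine Subgroup.mem_inf.2 ⟨mul_mem (hzP g g.2) (inv_mem g.2), ?_⟩
      have e : z * g * z⁻¹ * (g : G)⁻¹ = h * ((g : G) * h⁻¹ * (g : G)⁻¹) := by
        rw [← hhπ]
        calc h * π * g * (h * π)⁻¹ * (g : G)⁻¹ = h * (π * g) * π⁻¹ * h⁻¹ * (g : G)⁻¹ := by group
          _ = h * (g * π) * π⁻¹ * h⁻¹ * (g : G)⁻¹ := by rw [hcommP π hπ g g.2]
          _ = _ := by group
      rw [e]
      exact mul_mem hh (Subgroup.Normal.conj_mem inferInstance _ (inv_mem hh) _)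
    obtain ⟨j, hj⟩ := hgen _ hu.1
    have hpj : (p : ℤ) ∣ j := by
      by_contra hnd
      refine hPHne (le_antisymm (fun x hx => ?_) inf_le_left)
      have hmem : (g : G) ^ j ∈ PH := hj ▸ hu
      have hcop : Int.gcd j ((p ^ n : ℕ) : ℤ) = 1 := by
        rw [Int.gcd_def, Int.natAbs_natCast]
        refine Nat.Coprime.pow_right n (hp.coprime_iff_not_dvd.2 fun h => hnd ?_).symm
        exact Int.natCast_dvd.2 h
      obtain ⟨i, hi⟩ := hgen x hx
      rw [← hi]
      refine Subgroup.zpow_mem _ ?_ _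
      have e : (g : G) = ((g : G) ^ j) ^ (Int.gcdA j ((p ^ n : ℕ) : ℤ)) := by
        rw [← zpow_mul]
        have hb := Int.gcd_eq_gcd_ab j ((p ^ n : ℕ) : ℤ)
        rw [hcop, Nat.cast_one] at hb
        have hg1 : (g : G) ^ ((p ^ n : ℕ) : ℤ) = 1 := by
          rw [zpow_natCast, ← hgord, pow_orderOf_eq_one]
        conv_lhs => rw [← zpow_one (g : G), hb, zpow_add, zpow_mul (g : G) ((p ^ n : ℕ) : ℤ), hg1,
          one_zpow, mul_one]
      rw [e]
      exact Subgroup.zpow_mem _ hmem _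
    have hzg : z * g * z⁻¹ = (g : G) ^ (j + 1) := by
      rw [zpow_add_one, hj]; group
    have hzn := conj_pow_commute hgord hzg (by simpa using hpj)
    intro x hx
    have hzx : ∀ y ∈ PH, m * y * m⁻¹ = z * y * z⁻¹ := by
      intro y hy
      have h1 : m * y * m⁻¹ ∈ PH := (Subgroup.mem_normalizer_iff.1 hmN y).1 hy
      have h2 := Subgroup.mem_centralizer_iff.1 (Subgroup.mem_inf.1 c.2).1 _ h1
      calc m * y * m⁻¹ = (m * y * m⁻¹) * c * (c : G)⁻¹ := by group
        _ = c * (m * y * m⁻¹) * (c : G)⁻¹ := by rw [h2]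
        _ = _ := by rw [hz]; group
    have hpow : ∀ (k : ℕ) (y : G), y ∈ PH → m ^ k * y * (m ^ k)⁻¹ = z ^ k * y * (z ^ k)⁻¹ ∧
        z ^ k * y * (z ^ k)⁻¹ ∈ PH := by
      intro k
      induction k with
      | zero => intro y hy; simpa using hy
      | succ k ih =>
        intro y hy
        have h1 : m * y * m⁻¹ ∈ PH := (Subgroup.mem_normalizer_iff.1 hmN y).1 hy
        obtain ⟨h2, h3⟩ := ih _ h1
        rw [hzx y hy] at h2 h3
        have e1 : m ^ (k + 1) * y * (m ^ (k + 1))⁻¹ = m ^ k * (m * y * m⁻¹) * (m ^ k)⁻¹ := by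
          rw [pow_succ]; group
        have e2 : z ^ (k + 1) * y * (z ^ (k + 1))⁻¹ = z ^ k * (z * y * z⁻¹) * (z ^ k)⁻¹ := by
          rw [pow_succ]; group
        rw [e1, e2, hzx y hy]
        exact ⟨h2, h3⟩
    have hfix : m ^ p ^ n * x = x * m ^ p ^ n := by
      obtain ⟨i, hi⟩ := hgen x hx.1
      have hc : Commute (z ^ p ^ n) x := hi ▸ Commute.zpow_right hzn i
      exact mul_inv_eq_iff_eq_mul.1 ((hpow (p ^ n) x hx).1.trans (mul_inv_eq_iff_eq_mul.2 hc.eq))
    obtain ⟨k, hk⟩ := exists_pow_eq_self_of_coprime (x := m) (n := p ^ n) (hmo.symm.pow_left n)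
    rw [← hk]
    exact (Commute.pow_left (show Commute (m ^ p ^ n) x from hfix) k).eq
  have hnpc : Cfsg.HasNormalPComplement p H := by
    refine CfsgLib.Transfer.hasNormalPComplement_of_normalizer_le_centralizer S fun y hy => ?_
    obtain ⟨a, b, hka, hb, hab', -⟩ := CfsgLib.FGS.exists_p_parts (G := H) p y
    rw [← hab']
    refine mul_mem ?_ ?_
    · have hya := CfsgLib.FGS.mem_of_mem_normalizer S hka (Subgroup.pow_mem _ hy a)
      refine Subgroup.mem_centralizer_iff.2 fun x hx => Subtype.ext ?_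
      have h1 : (x : G) ∈ PH := hx
      have h2 : ((y ^ a : H) : G) ∈ PH := hya
      exact hcommP _ h1.1 _ h2.1
    · refine Subgroup.mem_centralizer_iff.2 fun x hx => Subtype.ext ?_
      have h1 : (x : G) ∈ PH := hx
      refine (hHcent ((y ^ b : H) : G) (y ^ b).2 ?_ (by rwa [Subgroup.orderOf_coe]) x h1).symm
      refine CfsgLib.Solvable.mem_normalizer_of_conj_mem fun z hz => ?_
      have hzH : z ∈ H := hz.2
      exact (Subgroup.mem_normalizer_iff.1 (Subgroup.pow_mem _ hy b) ⟨z, hzH⟩).1 hz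
  refine ⟨hnpc, ?_⟩
  obtain ⟨K, hKn, hKc, k, hk⟩ := CfsgLib.Transfer.hasNormalPComplement_iff.1 hnpc
  haveI := hKn
  set K' : Subgroup G := K.map H.subtype with hK'
  have hK'n : K'.Normal := normal_map_complement H K hKc k hk
  haveI := hK'n
  set π' := QuotientGroup.mk' K' with hπ'
  have hKcard : Nat.card K' = Nat.card K := Subgroup.card_map_of_injective H.subtype_injective
  have hK'H : K' ≤ H := Subgroup.map_subtype_le K
  -- the quotient by the complement
  set Pb : Sylow p (G ⧸ K') := P.mapSurjective (QuotientGroup.mk'_surjective K') with hPb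
  set Hb : Subgroup (G ⧸ K') := H.map π' with hHb
  haveI : Hb.Normal := (inferInstance : H.Normal).map π' (QuotientGroup.mk'_surjective K')
  have hHbcard : Nat.card Hb = p ^ k := by
    have h1 := Subgroup.card_map_of_injective (f := H.subtype) H.subtype_injective (K := K)
    have h2 := K.index_mul_card
    rw [hk] at h2
    have h3 : Nat.card H = Nat.card K' * Nat.card Hb := by
      rw [← CfsgLib.Solvable.card_comap_mk', hHb, Subgroup.comap_map_eq, QuotientGroup.ker_mk',
        sup_eq_left.2 hK'H]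
    rw [hKcard, ← h2, mul_comm (p ^ k)] at h3
    exact (Nat.eq_of_mul_eq_mul_left Nat.card_pos h3).symm
  have hHbP : Hb ≤ (Pb : Subgroup (G ⧸ K')) := by
    obtain ⟨Q, hQ⟩ := (IsPGroup.of_card hHbcard).exists_le_sylow
    obtain ⟨c, hc⟩ := MulAction.exists_smul_eq (G ⧸ K') Pb Q
    intro x hx
    have h1 : c * x * c⁻¹ ∈ (((c • Pb) : Sylow p (G ⧸ K')) : Subgroup (G ⧸ K')) := by
      rw [hc]; exact hQ (Subgroup.Normal.conj_mem inferInstance x hx c)
    obtain ⟨y, hy, hye⟩ := h1
    have hye' : c * y * c⁻¹ = c * x * c⁻¹ := hye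
    rwa [show y = x from mul_left_cancel (mul_right_cancel hye')] at hy
  set Cb : Subgroup (G ⧸ K') := Subgroup.centralizer (Hb : Set (G ⧸ K')) with hCb
  have hPbC : (Pb : Subgroup (G ⧸ K')) ≤ Cb := by
    intro x hx
    refine Subgroup.mem_centralizer_iff.2 fun y hy => ?_
    obtain ⟨a, ha, rfl⟩ := hx
    obtain ⟨b, hb, hb'⟩ := hHbP hy
    rw [← hb', ← map_mul, ← map_mul, hcommP b hb a ha]
  haveI : Cb.Normal := Subgroup.normal_centralizer
  have hCnpc : Cfsg.HasNormalPComplement p Cb := by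
    refine CfsgLib.Transfer.hasNormalPComplement_of_normalizer_le_centralizer (Pb.subtype hPbC) fun y hy => ?_
    obtain ⟨a, b, hka, hb, hab', -⟩ := CfsgLib.FGS.exists_p_parts (G := Cb) p y
    have hPbcomm : ∀ u ∈ (Pb : Subgroup (G ⧸ K')), ∀ v ∈ (Pb : Subgroup (G ⧸ K')), u * v = v * u := by
      rintro _ ⟨u, hu, rfl⟩ _ ⟨v, hv, rfl⟩
      rw [← map_mul, ← map_mul, hcommP u hu v hv]
    rw [← hab']
    refine mul_mem ?_ ?_
    · have hya := CfsgLib.FGS.mem_of_mem_normalizer (Pb.subtype hPbC) hka (Subgroup.pow_mem _ hy a)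
      exact Subgroup.mem_centralizer_iff.2 fun x hx => Subtype.ext (hPbcomm _ hx _ hya)
    · set w : G ⧸ K' := ((y ^ b : Cb) : G ⧸ K') with hw
      set gb : G ⧸ K' := π' g with hgb
      obtain ⟨n', hn'⟩ := Pb.isPGroup'.exists_card_eq
      have hgbgen : ∀ u ∈ (Pb : Subgroup (G ⧸ K')), ∃ j : ℤ, gb ^ j = u := by
        rintro _ ⟨u, hu, rfl⟩
        obtain ⟨j, rfl⟩ := hgen u hu
        exact ⟨j, (map_zpow π' _ _).symm⟩
      have hgbP : gb ∈ (Pb : Subgroup (G ⧸ K')) := ⟨g, g.2, rfl⟩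
      have hgbord : orderOf gb = p ^ n' := by
        rw [← hn', ← Nat.card_zpowers]
        refine Nat.card_congr (Equiv.setCongr ?_)
        exact congrArg SetLike.coe (le_antisymm (Subgroup.zpowers_le.2 hgbP)
          fun u hu => hgbgen u hu)
      have hwN : ∀ u ∈ (Pb : Subgroup (G ⧸ K')), w * u * w⁻¹ ∈ (Pb : Subgroup (G ⧸ K')) :=
        fun u hu => (Subgroup.mem_normalizer_iff.1 (Subgroup.pow_mem _ hy b) ⟨u, hPbC hu⟩).1 hu
      obtain ⟨j, hj⟩ := hgbgen _ (hwN gb hgbP)
      have hpj : (p : ℤ) ∣ j - 1 := by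
        obtain ⟨z, hz, hz1⟩ : ∃ z ∈ Hb, z ≠ 1 := by
          by_contra hno
          push Not at hno
          have hk1 : k = 0 := by
            rw [(Subgroup.eq_bot_iff_forall Hb).2 hno, Subgroup.card_bot] at hHbcard
            by_contra hk0
            exact hp.one_lt.ne' (Nat.eq_one_of_dvd_one (hHbcard ▸ dvd_pow_self p hk0))
          rw [hk1, pow_zero, Subgroup.index_eq_one] at hk
          rw [hk, Subgroup.card_top] at hKc
          exact hp.ne_one (Nat.eq_one_of_dvd_coprimes hKc h1 dvd_rfl)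
        obtain ⟨i, hi⟩ := hgbgen z (hHbP hz)
        have hfix : w * z * w⁻¹ = z := by
          rw [mul_inv_eq_iff_eq_mul]
          exact (Subgroup.mem_centralizer_iff.1 (y ^ b).2 z hz).symm
        have h5 : gb ^ (j * i - i) = 1 := by
          rw [zpow_sub, zpow_mul, hj, conj_zpow, hi, hfix, mul_inv_cancel]
        rw [← orderOf_dvd_iff_zpow_eq_one, hgbord, show j * i - i = (j - 1) * i by ring] at h5
        by_contra hnd
        refine hz1 ?_
        have h6 : ((p ^ n' : ℕ) : ℤ) ∣ i := by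
          refine Int.dvd_of_dvd_mul_right_of_gcd_one h5 ?_
          rw [Int.gcd_comm, Int.gcd_def, Int.natAbs_natCast]
          refine Nat.Coprime.pow_right _ (hp.coprime_iff_not_dvd.2 fun h => hnd ?_).symm
          exact Int.natCast_dvd.2 h
        rw [← hi, ← orderOf_dvd_iff_zpow_eq_one, hgbord]
        exact h6
      have hwn := conj_pow_commute (j := j - 1) hgbord
        (by rw [sub_add_cancel]; exact hj.symm) hpj
      obtain ⟨t, ht⟩ := exists_pow_eq_self_of_coprime (x := w) (n := p ^ n')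
        ((by rw [hw, Subgroup.orderOf_coe]; exact hb.symm : Nat.Coprime p (orderOf w)).pow_left n')
      refine Subgroup.mem_centralizer_iff.2 fun x hx => Subtype.ext ?_
      obtain ⟨i, hi⟩ := hgbgen (x : G ⧸ K') hx
      show (x : G ⧸ K') * w = w * x
      rw [← hi, ← ht]
      exact ((Commute.zpow_right (show Commute (w ^ p ^ n') gb from hwn) i).pow_left t).eq.symm
  obtain ⟨L, hLn, hLc, l, hl⟩ := CfsgLib.Transfer.hasNormalPComplement_iff.1 hCnpc
  set L' : Subgroup (G ⧸ K') := L.map Cb.subtype with hL'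
  haveI : L'.Normal := normal_map_complement Cb L hLc l hl
  have hHbC : Hb ≤ Cb := hHbP.trans hPbC
  have hL'C : L' ≤ Cb := Subgroup.map_subtype_le L
  let B : Fin 6 → Subgroup G := ![⊥, K', H, (Hb ⊔ L').comap π', Cb.comap π', ⊤]
  have hB : ∀ i : Fin 5, B i.castSucc ≤ B i.succ := by
    intro i
    fin_cases i
    · exact bot_le
    · exact hK'H
    · exact fun x hx => Subgroup.mem_sup_left ⟨x, hx, rfl⟩
    · exact Subgroup.comap_mono (sup_le hHbC hL'C)
    · exact le_top
  refine ⟨5, B, rfl, rfl, Fin.monotone_iff_le_succ.2 hB, fun i => ?_, fun i => ?_⟩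
  · fin_cases i
    · exact (inferInstance : (⊥ : Subgroup G).Normal)
    · exact hK'n
    · exact (inferInstance : H.Normal)
    · exact (inferInstance : (Hb ⊔ L').Normal).comap π'
    · exact (inferInstance : Cb.Normal).comap π'
    · exact (inferInstance : (⊤ : Subgroup G).Normal)
  · fin_cases i
    · right
      show ((⊥ : Subgroup G).relIndex K').Coprime p
      rw [Subgroup.relIndex_bot_left, hKcard]
      exact hKc
    · left
      refine ⟨k, ?_⟩
      show K'.relIndex H = p ^ k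
      rw [← hk, hK', ← Subgroup.relIndex_top_right (H := K),
        ← Subgroup.relIndex_map_map_of_injective K ⊤ H.subtype_injective, ← MonoidHom.range_eq_map,
        Subgroup.range_subtype]
    · right
      show (H.relIndex ((Hb ⊔ L').comap π')).Coprime p
      rw [show H = Hb.comap π' by rw [hHb, Subgroup.comap_map_eq, QuotientGroup.ker_mk', sup_eq_left.2 hK'H],
        Subgroup.relIndex_comap, Subgroup.map_comap_eq_self_of_surjective (QuotientGroup.mk'_surjective K'),
        sup_comm, Subgroup.relIndex_sup_right]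
      refine Nat.Coprime.coprime_dvd_left (Subgroup.relIndex_dvd_card _ _) ?_
      rw [hL', Subgroup.card_map_of_injective Cb.subtype_injective]
      exact hLc
    · left
      show ∃ m, ((Hb ⊔ L').comap π').relIndex (Cb.comap π') = p ^ m
      rw [Subgroup.relIndex_comap, Subgroup.map_comap_eq_self_of_surjective (QuotientGroup.mk'_surjective K')]
      have h1 : L'.relIndex Cb = p ^ l := by
        rw [← hl, ← Subgroup.relIndex_top_right (H := L),
          ← Subgroup.relIndex_map_map_of_injective L ⊤ Cb.subtype_injective, ← MonoidHom.range_eq_map,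
          Subgroup.range_subtype]
      obtain ⟨m, -, hm⟩ := (Nat.dvd_prime_pow hp).1
        (h1 ▸ Subgroup.relIndex_dvd_of_le_left Cb (le_sup_right : L' ≤ Hb ⊔ L'))
      exact ⟨m, hm⟩
    · right
      show ((Cb.comap π').relIndex ⊤).Coprime p
      rw [Subgroup.relIndex_top_right, Subgroup.index_comap_of_surjective _ (QuotientGroup.mk'_surjective K')]
      exact ((hp.coprime_iff_not_dvd).2 fun h => Pb.not_dvd_index (h.trans (Subgroup.index_dvd_of_le hPbC))).symm

end Cfsg.Agent.S4145
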