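import Cfsg.Statements.S4146
import Cfsg.Agent.Lib.ConjVector.Main

set_option autoImplicit false
open Cfsg

namespace Cfsg.Agent.S4146

/-- Let G be a finite group whose conjugacy class sizes are exactly 1, n, m and nm for coprime integers n, m > 1. Then G is nilpotent and n and m are prime powers. -/
theorem result {G : Type*} [Group G] [Finite G] (n m : ℕ) (hn : 1 < n) (hm : 1 < m) (hcop : n.Coprime m)
    (h : Set.range (fun x : G => (Subgroup.centralizer ({x} : Set G)).index) = ({1, n, m, n * m} : Set ℕ)) :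
    Group.IsNilpotent G ∧ IsPrimePow n ∧ IsPrimePow m := by
  have hr : ∀ a, (a ∈ Set.range fun x : G => (Subgroup.centralizer ({x} : Set G)).index) ↔
      a = 1 ∨ a = n ∨ a = m ∨ a = n * m := fun a => by
    rw [h]; simp
  refine CfsgLib.ConjVector.Sizes.main ⟨hn, hm, hcop, fun g => (hr _).1 ⟨g, rfl⟩,
    (hr n).2 (Or.inr (Or.inl rfl)), (hr m).2 (Or.inr (Or.inr (Or.inl rfl))),
    (hr (n * m)).2 (Or.inr (Or.inr (Or.inr rfl)))⟩

end Cfsg.Agent.S4146
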