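import Cfsg.Statements.S4149
import Cfsg.Agent.Lib.FGS.CoverCount
import Mathlib

set_option autoImplicit false
open Cfsg

namespace Cfsg.Agent.S4149

/-- Let G be a finite group that has a normal p-complement for at most one prime p dividing its order, and let σ be a natural number such that every conjugacy class size of G has at most σ distinct prime divisors. Then the number of primes dividing at least one conjugacy class size of G is at most 2σ. -/
theorem result {G : Type*} [Group G] [Finite G] (σ : ℕ)
    (hσ : ∀ x : G, ((Subgroup.centralizer ({x} : Set G)).index).primeFactors.card ≤ σ)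
    (hnil : ∀ p q : ℕ, p.Prime → q.Prime → p ∣ Nat.card G → q ∣ Nat.card G →
      Cfsg.HasNormalPComplement p G → Cfsg.HasNormalPComplement q G → p = q) :
    Nat.card {p : ℕ | p.Prime ∧ ∃ x : G, p ∣ (Subgroup.centralizer ({x} : Set G)).index} ≤ 2 * σ := by
  classical
  have := Fintype.ofFinite G
  set T : Finset ℕ := (Nat.card G).primeFactors.filter
    fun p => ∃ x : G, p ∣ (Subgroup.centralizer ({x} : Set G)).index with hT
  have hset : {p : ℕ | p.Prime ∧ ∃ x : G, p ∣ (Subgroup.centralizer ({x} : Set G)).index} = ↑T := by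
    ext p
    simp only [hT, Finset.coe_filter, Set.mem_setOf_eq, Nat.mem_primeFactors]
    refine ⟨fun ⟨hp, x, hx⟩ => ⟨⟨hp, hx.trans (Subgroup.index_dvd_card _), Nat.card_pos.ne'⟩, x, hx⟩,
      fun h => ⟨h.1.1, h.2⟩⟩
  rw [hset, Nat.card_coe_set_eq, Set.ncard_coe_finset]
  have hprime : ∀ p ∈ T, p.Prime := fun p hp =>
    Nat.prime_of_mem_primeFactors (Finset.mem_filter.1 hp).1
  by_contra hbig
  push Not at hbig
  -- each element has class size prime to at least T.card - σ of the primes
  have hlow : Fintype.card G * (T.card - σ) ≤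
      ∑ p ∈ T, (CfsgLib.FGS.CoverCount.free G p).ncard := by
    have e : ∀ p ∈ T, (CfsgLib.FGS.CoverCount.free G p).ncard =
        ∑ x : G, if p ∣ (Subgroup.centralizer ({x} : Set G)).index then 0 else 1 := by
      intro p _
      rw [CfsgLib.FGS.CoverCount.free, Set.ncard_eq_toFinset_card', Set.toFinset_setOf,
        Finset.card_filter]
      exact Finset.sum_congr rfl fun x _ => by split_ifs <;> simp_all
    rw [Finset.sum_congr rfl e, Finset.sum_comm, ← Finset.card_univ, ← smul_eq_mul]
    refine Finset.card_nsmul_le_sum _ _ _ fun x _ => ?_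
    have h1 : (T.filter fun p => p ∣ (Subgroup.centralizer ({x} : Set G)).index).card ≤ σ := by
      refine le_trans (Finset.card_le_card fun p hp => ?_) (hσ x)
      rw [Finset.mem_filter] at hp
      exact Nat.mem_primeFactors.2 ⟨hprime p hp.1, hp.2, Subgroup.index_ne_zero_of_finite⟩
    have h2 := Finset.card_filter_add_card_filter_not (s := T)
      (p := fun p => p ∣ (Subgroup.centralizer ({x} : Set G)).index)
    rw [Finset.sum_ite, Finset.sum_const_zero, zero_add, Finset.sum_const, smul_eq_mul, mul_one]
    omega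
  have hup : ∀ p ∈ T, ¬ Cfsg.HasNormalPComplement p G →
      2 * (CfsgLib.FGS.CoverCount.free G p).ncard ≤ Nat.card G := fun p hp h => by
    have : Fact p.Prime := ⟨hprime p hp⟩
    exact CfsgLib.FGS.CoverCount.two_mul_free_le p h
  rw [← Nat.card_eq_fintype_card] at hlow
  have hg : 0 < Nat.card G := Nat.card_pos
  obtain ⟨d, hd⟩ : ∃ d, T.card = σ + d := Nat.exists_eq_add_of_le (by omega)
  rw [hd, Nat.add_sub_cancel_left] at hlow
  by_cases hex : ∃ p ∈ T, Cfsg.HasNormalPComplement p G
  · obtain ⟨p₀, hp₀, hnp⟩ := hex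
    have h0 := CfsgLib.FGS.CoverCount.free_lt (G := G) (p := p₀) (Finset.mem_filter.1 hp₀).2
    have hrest : 2 * ∑ p ∈ T.erase p₀, (CfsgLib.FGS.CoverCount.free G p).ncard ≤
        (T.erase p₀).card * Nat.card G := by
      rw [Finset.mul_sum, ← smul_eq_mul]
      refine Finset.sum_le_card_nsmul _ _ _ fun p hp => hup p (Finset.mem_of_mem_erase hp) fun h => ?_
      have hp' := Finset.mem_of_mem_erase hp
      exact Finset.ne_of_mem_erase hp (hnil p p₀ (hprime p hp') (hprime p₀ hp₀)
        (Nat.dvd_of_mem_primeFactors (Finset.mem_filter.1 hp').1)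
        (Nat.dvd_of_mem_primeFactors (Finset.mem_filter.1 hp₀).1) h hnp)
    rw [← Finset.add_sum_erase _ _ hp₀] at hlow
    have hce := Finset.card_erase_add_one hp₀
    nlinarith
  · push Not at hex
    have hrest : 2 * ∑ p ∈ T, (CfsgLib.FGS.CoverCount.free G p).ncard ≤ T.card * Nat.card G := by
      rw [Finset.mul_sum, ← smul_eq_mul]
      exact Finset.sum_le_card_nsmul _ _ _ fun p hp => hup p hp (hex p hp)
    nlinarith

end Cfsg.Agent.S4149
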