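import Cfsg.Statements.S4150
import Cfsg.Agent.Lib.FGS.DegreeThirteen
import Cfsg.Agent.Lib.FGS.ThreePrimes

set_option autoImplicit false
open Cfsg

namespace Cfsg.Agent.S4150

open MulAction Equiv
open scoped Pointwise

/-- The orbit of a moved point under a permutation of prime order has that many points. -/
theorem card_cycle_of_prime {α : Type*} [Fintype α] [DecidableEq α] {x : Perm α} {p : ℕ} (hp : p.Prime)
    (hx : orderOf x = p) {z : α} (hz : x z ≠ z) : (x.cycleOf z).support.card = p := by
  obtain ⟨n, hn⟩ := Perm.cycleType_prime_order (hx ▸ hp : (orderOf x).Prime)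
  have hmem : (x.cycleOf z).support.card ∈ x.cycleType := by
    rw [Perm.cycleType_def]
    exact Multiset.mem_map_of_mem _
      (Perm.cycleOf_mem_cycleFactorsFinset_iff.2 (Perm.mem_support.2 hz))
  rw [hn] at hmem
  rw [Multiset.eq_of_mem_replicate hmem, hx]

/-- A transitive group with a cycle of prime length more than half the degree is primitive. -/
theorem isPreprimitive_of_cycle {α : Type*} [Fintype α] [DecidableEq α] {H : Subgroup (Perm α)}
    [IsPretransitive H α] {y : Perm α} (hy : y ∈ H) {q : ℕ} (hq : q.Prime) (hyc : y.IsCycle)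
    (hys : y.support.card = q) (hd : Fintype.card α < 2 * q) : IsPreprimitive H α := by
  classical
  constructor
  intro B hB
  by_cases hsub : B.Subsingleton
  · exact Or.inl hsub
  refine Or.inr ?_
  obtain ⟨b, hb, -⟩ := Set.not_subsingleton_iff.1 hsub
  obtain ⟨z, hz⟩ : y.support.Nonempty := Finset.card_pos.1 (by rw [hys]; exact hq.pos)
  obtain ⟨g, hg⟩ := exists_smul_eq H b z
  set C := g • B with hC
  have hCb : IsBlock H C := hB.translate g
  have hzC : z ∈ C := ⟨b, hb, hg⟩
  have hcard : C.ncard = B.ncard := Set.ncard_smul_set g B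
  have hB2 : 2 ≤ B.ncard := by
    have h := (Set.one_lt_ncard_iff_nontrivial (s := B)).2 (Set.not_subsingleton_iff.1 hsub)
    omega
  set Y : H := ⟨y, hy⟩
  suffices hCu : C = Set.univ by
    refine Set.eq_of_subset_of_ncard_le (Set.subset_univ B) ?_ (Set.toFinite _)
    rw [← hcard, hCu]
  by_cases hYC : Y • C = C
  · have hsupp : (y.support : Set α) ⊆ C := by
      intro u hu
      obtain ⟨i, hi⟩ := hyc.exists_pow_eq (Perm.mem_support.1 hz) (Perm.mem_support.1 hu)
      have hpow : Y ^ i • C = C := by
        induction i generalizing u with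
        | zero => rw [pow_zero, one_smul]
        | succ i ih =>
          rw [pow_succ, mul_smul, hYC]
          exact ih (Finset.mem_coe.2 (Perm.pow_apply_mem_support.2 hz)) rfl
      rw [← hpow]
      exact ⟨z, hzC, hi⟩
    have h1 : q ≤ C.ncard := by
      rw [← hys, ← Set.ncard_coe_finset]
      exact Set.ncard_le_ncard hsupp (Set.toFinite _)
    obtain ⟨k, hk⟩ := hCb.ncard_dvd_card ⟨z, hzC⟩
    have hk1 : k = 1 := by
      rw [Nat.card_eq_fintype_card] at hk
      rcases Nat.lt_or_ge k 2 with h | h
      · rcases Nat.eq_zero_or_pos k with h0 | h0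
        · exfalso
          have := Fintype.card_pos_iff.2 (⟨z⟩ : Nonempty α)
          rw [h0, mul_zero] at hk
          omega
        · omega
      · exfalso
        have : 2 * q ≤ C.ncard * k := by
          calc 2 * q = q * 2 := mul_comm _ _
            _ ≤ C.ncard * k := Nat.mul_le_mul h1 h
        omega
    refine Set.eq_of_subset_of_ncard_le (Set.subset_univ C) ?_ (Set.toFinite _)
    rw [Set.ncard_univ, hk, hk1, mul_one]
  · exfalso
    have hinj : Function.Injective (fun i : ZMod q => Y ^ i.val • C) := by
      intro i j hij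
      by_contra hne
      apply hYC
      have hq' := Fact.mk hq
      have hstab : Y ^ ((i.val : ℤ) - j.val) ∈ stabilizer H C := by
        rw [mem_stabilizer_iff, sub_eq_neg_add, zpow_add, mul_smul, zpow_natCast,
          show Y ^ i.val • C = Y ^ j.val • C from hij, zpow_neg, zpow_natCast, inv_smul_smul]
      have hYq : Y ^ (q : ℤ) = 1 := by
        rw [zpow_natCast]
        refine Subtype.ext ?_
        show y ^ q = 1
        rw [← hys, ← hyc.orderOf, pow_orderOf_eq_one]
      have hcop : IsCoprime ((i.val : ℤ) - j.val) (q : ℤ) := by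
        refine ((Nat.prime_iff_prime_int.1 hq).coprime_iff_not_dvd.2 fun hdvd => hne ?_).symm
        have h0 : (((i.val : ℤ) - j.val : ℤ) : ZMod q) = 0 := (ZMod.intCast_zmod_eq_zero_iff_dvd _ q).2 hdvd
        push_cast at h0
        rwa [ZMod.natCast_zmod_val, ZMod.natCast_zmod_val, sub_eq_zero] at h0
      obtain ⟨u, v, huv⟩ := hcop
      have : Y ∈ stabilizer H C := by
        rw [show Y = (Y ^ ((i.val : ℤ) - j.val)) ^ u * (Y ^ (q : ℤ)) ^ v by
          rw [← zpow_mul, ← zpow_mul, ← zpow_add, mul_comm _ u, mul_comm _ v, huv, zpow_one], hYq, one_zpow, mul_one]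
        exact zpow_mem hstab u
      exact this
    haveI := Fact.mk hq
    have hdisj : ∀ i j : ZMod q, i ≠ j → Disjoint (Y ^ i.val • C) (Y ^ j.val • C) :=
      fun i j hij => hCb (fun e => hij (hinj e))
    have hle : ∀ s : Finset (ZMod q), s.card * B.ncard ≤ (⋃ i ∈ s, (Y ^ i.val • C)).ncard := by
      intro s
      induction s using Finset.induction with
      | empty => simp
      | @insert i s hi ih =>
        rw [Finset.card_insert_of_notMem hi, Finset.set_biUnion_insert,
          Set.ncard_union_eq (Set.disjoint_iUnion₂_right.2 fun j hj => hdisj i j (fun e => hi (e ▸ hj)))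
            (Set.toFinite _) (Set.toFinite _), add_mul, one_mul]
        have he : (Y ^ i.val • C).ncard = B.ncard := (Set.ncard_smul_set _ _).trans hcard
        omega
    have h := (hle Finset.univ).trans (Set.ncard_le_ncard (Set.subset_univ _) (Set.toFinite _))
    rw [Finset.card_univ, ZMod.card, Set.ncard_univ, Nat.card_eq_fintype_card] at h
    have : q * 2 ≤ q * B.ncard := Nat.mul_le_mul_left q hB2
    omega

/-- The group generated by two even permutations of prime orders `p, q` with big supports. -/
theorem main_case {m p q : ℕ} (hp : p.Prime) (hq : q.Prime) (hm : m ≤ 2 * p) (hpq : p < q) (hqm : q ≤ m)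
    (x y : alternatingGroup (Fin m)) (hx : orderOf x = p) (hy : orderOf y = q)
    (hcase : ∀ {β : Type} [Fintype β] [DecidableEq β] (H : Subgroup (Perm β)), IsPretransitive H β →
      IsPreprimitive H β → H ≤ alternatingGroup β → ∀ u ∈ H, ∀ v ∈ H, orderOf u = p → orderOf v = q →
      v.IsCycle → Fintype.card β ≤ m →
      (u.support.card = p ∨ (u.support.card = 2 * p ∧ 2 * p = m ∧ Fintype.card β = m)) →
      q ≤ Fintype.card β → ∃ d : ℕ, 5 ≤ d ∧ Nonempty (H ≃* alternatingGroup (Fin d))) :
    ∃ d : ℕ, 5 ≤ d ∧ Nonempty (Subgroup.closure ({x, y} : Set (alternatingGroup (Fin m))) ≃* alternatingGroup (Fin d)) := by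
  classical
  set X : Perm (Fin m) := (x : Perm (Fin m))
  set Y : Perm (Fin m) := (y : Perm (Fin m))
  have hX : orderOf X = p := by rw [Subgroup.orderOf_coe, hx]
  have hY : orderOf Y = q := by rw [Subgroup.orderOf_coe, hy]
  have hYc : Y.IsCycle := Perm.isCycle_of_prime_order' (hY ▸ hq) (by rw [Fintype.card_fin, hY]; omega)
  have hYs : Y.support.card = q := by rw [← hYc.orderOf, hY]
  set Δ := X.support ∪ Y.support with hΔ
  have hpX : ∀ z, X z ∈ Δ ↔ z ∈ Δ := fun z => by
    by_cases h : X z = z
    · rw [h]
    · exact iff_of_true (Finset.mem_union_left _ (Perm.apply_mem_support.2 (Perm.mem_support.2 h)))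
        (Finset.mem_union_left _ (Perm.mem_support.2 h))
  have hpY : ∀ z, Y z ∈ Δ ↔ z ∈ Δ := fun z => by
    by_cases h : Y z = z
    · rw [h]
    · exact iff_of_true (Finset.mem_union_right _ (Perm.apply_mem_support.2 (Perm.mem_support.2 h)))
        (Finset.mem_union_right _ (Perm.mem_support.2 h))
  have hX2 : ∀ z, X z ≠ z → z ∈ Δ := fun z h => Finset.mem_union_left _ (Perm.mem_support.2 h)
  have hY2 : ∀ z, Y z ≠ z → z ∈ Δ := fun z h => Finset.mem_union_right _ (Perm.mem_support.2 h)
  set u : Perm {z // z ∈ Δ} := X.subtypePerm hpX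
  set v : Perm {z // z ∈ Δ} := Y.subtypePerm hpY
  have hu : Perm.ofSubtype u = X := Perm.ofSubtype_subtypePerm hpX hX2
  have hv : Perm.ofSubtype v = Y := Perm.ofSubtype_subtypePerm hpY hY2
  have hou : orderOf u = p := by rw [← hX, ← hu, orderOf_injective _ Perm.ofSubtype_injective]
  have hov : orderOf v = q := by rw [← hY, ← hv, orderOf_injective _ Perm.ofSubtype_injective]
  set H : Subgroup (Perm {z // z ∈ Δ}) := Subgroup.closure {u, v} with hH
  have huH : u ∈ H := Subgroup.subset_closure (Or.inl rfl)
  have hvH : v ∈ H := Subgroup.subset_closure (Or.inr rfl)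
  have hdle : Fintype.card {z // z ∈ Δ} ≤ m := by
    rw [Fintype.card_coe]; exact (Finset.card_le_univ Δ).trans_eq (Fintype.card_fin m)
  have hqd : q ≤ Fintype.card {z // z ∈ Δ} := by
    rw [Fintype.card_coe, ← hYs]; exact Finset.card_le_card Finset.subset_union_right
  have hvc : v.IsCycle := Perm.isCycle_of_prime_order' (hov ▸ hq) (by rw [hov]; omega)
  have hHA : H ≤ alternatingGroup {z // z ∈ Δ} := by
    rw [hH, Subgroup.closure_le]
    rintro w (rfl | rfl)
    · rw [SetLike.mem_coe, Perm.mem_alternatingGroup]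
      rw [← Perm.sign_ofSubtype, hu]
      exact Perm.mem_alternatingGroup.1 x.2
    · rw [SetLike.mem_coe, Perm.mem_alternatingGroup]
      rw [← Perm.sign_ofSubtype, hv]
      exact Perm.mem_alternatingGroup.1 y.2
  have hsuppu : u.support.card = X.support.card := by
    rw [← hu, Perm.support_ofSubtype, Finset.card_map]
    convert rfl
  have hsuppv : v.support.card = q := by rw [← hvc.orderOf, hov]
  -- transitivity
  obtain ⟨z₀, hz₀⟩ : v.support.Nonempty := Finset.card_pos.1 (by rw [hsuppv]; exact hq.pos)
  have horb : ∀ z, z ∈ MulAction.orbit H z₀ := by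
    have hY' : ∀ z ∈ v.support, z ∈ MulAction.orbit H z₀ := fun z hz => by
      obtain ⟨i, hi⟩ := hvc.exists_pow_eq (Perm.mem_support.1 hz₀) (Perm.mem_support.1 hz)
      exact ⟨⟨v ^ i, pow_mem hvH i⟩, hi⟩
    intro z
    by_cases hzv : z ∈ v.support
    · exact hY' z hzv
    have hzu : u z ≠ z := by
      intro e
      rcases Finset.mem_union.1 z.2 with h | h
      · exact Perm.mem_support.1 h (congrArg Subtype.val e)
      · exact hzv (Perm.mem_support.2 fun e' => Perm.mem_support.1 h (congrArg Subtype.val e'))
    have hc := card_cycle_of_prime hp hou hzu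
    obtain ⟨w, hw⟩ : ((u.cycleOf z).support ∩ v.support).Nonempty := by
      rw [← Finset.card_pos]
      have h1 := Finset.card_union_add_card_inter (u.cycleOf z).support v.support
      have h2 := Finset.card_le_univ ((u.cycleOf z).support ∪ v.support)
      omega
    obtain ⟨hw1, hw2⟩ := Finset.mem_inter.1 hw
    obtain ⟨i, hi⟩ := ((Perm.mem_support_cycleOf_iff' hzu).1 hw1)
    obtain ⟨g, hg⟩ := hY' w hw2
    refine ⟨(⟨u ^ i, zpow_mem huH i⟩ : H)⁻¹ * g, ?_⟩
    show (((⟨u ^ i, zpow_mem huH i⟩ : H)⁻¹ * g : H)) • z₀ = z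
    rw [mul_smul, show g • z₀ = w from hg, inv_smul_eq_iff]
    exact hi.symm
  haveI hpre : IsPretransitive H {z // z ∈ Δ} :=
    ⟨fun a b => by
      obtain ⟨g, hg⟩ := horb a
      obtain ⟨g', hg'⟩ := horb b
      exact ⟨g' * g⁻¹, by rw [mul_smul, ← show g • z₀ = a from hg, inv_smul_smul]; exact hg'⟩⟩
  have hprim := isPreprimitive_of_cycle hvH hq hvc hsuppv (by omega)
  have hus : u.support.card = p ∨
      (u.support.card = 2 * p ∧ 2 * p = m ∧ Fintype.card {z // z ∈ Δ} = m) := by
    obtain ⟨n, hn⟩ := Perm.cycleType_prime_order (hou ▸ hp : (orderOf u).Prime)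
    have hs := u.sum_cycleType
    rw [hn, Multiset.sum_replicate, hou, smul_eq_mul] at hs
    have hle := Finset.card_le_univ u.support
    rcases Nat.lt_or_ge n 1 with h0 | h0
    · left; rw [← hs, show n = 0 by omega, zero_add, one_mul]
    · right
      have h2 : 2 * p ≤ (n + 1) * p := Nat.mul_le_mul_right p (by omega)
      omega
  obtain ⟨d, hd, ⟨e⟩⟩ := hcase H hpre hprim hHA u huH v hvH hou hov hvc hdle hus hqd
  refine ⟨d, hd, ⟨MulEquiv.trans ?_ e⟩⟩
  have e1 : (Subgroup.closure ({x, y} : Set (alternatingGroup (Fin m)))).map (alternatingGroup (Fin m)).subtype =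
      H.map (Perm.ofSubtype : Perm {z // z ∈ Δ} →* Perm (Fin m)) := by
    rw [MonoidHom.map_closure, hH, MonoidHom.map_closure, Set.image_pair, Set.image_pair, hu, hv]
    rfl
  exact ((Subgroup.equivMapOfInjective _ _ (alternatingGroup (Fin m)).subtype_injective).trans
    (MulEquiv.subgroupCongr e1)).trans (Subgroup.equivMapOfInjective H _ Perm.ofSubtype_injective).symm

theorem iso_of_le {β : Type} [Fintype β] [DecidableEq β] {H : Subgroup (Perm β)}
    (hH : H ≤ alternatingGroup β) (hA : alternatingGroup β ≤ H) (h5 : 5 ≤ Fintype.card β) :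
    ∃ d : ℕ, 5 ≤ d ∧ Nonempty (H ≃* alternatingGroup (Fin d)) := by
  obtain ⟨e⟩ := CfsgLib.FGS.nonempty_altCongr (Fintype.equivFin β)
  exact ⟨_, h5, ⟨(MulEquiv.subgroupCongr (le_antisymm hH hA)).trans e⟩⟩

/-- Let m ≥ 5. Then there are primes p < q with m/2 ≤ p and q ≤ m such that any two elements x, y of the alternating group of degree m with x of order p and y of order q generate a subgroup isomorphic to an alternating group of some degree d ≥ 5. -/
theorem result (m : ℕ) (hm : 5 ≤ m) :
    ∃ p q : ℕ, p.Prime ∧ q.Prime ∧ m ≤ 2 * p ∧ p < q ∧ q ≤ m ∧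
      ∀ x y : alternatingGroup (Fin m), orderOf x = p → orderOf y = q →
        ∃ d : ℕ, 5 ≤ d ∧ Nonempty (Subgroup.closure ({x, y} : Set (alternatingGroup (Fin m))) ≃* alternatingGroup (Fin d)) := by
  -- the primes
  rcases Nat.lt_or_ge m 18 with hsmall | hlarge
  · by_cases h5 : m = 5
    · subst h5
      refine ⟨3, 5, by norm_num, by norm_num, by norm_num, by norm_num, le_rfl, fun x y hx hy =>
        main_case (by norm_num) (by norm_num) (by norm_num) (by norm_num) le_rfl x y hx hy ?_⟩
      intro β _ _ H hpre hprim hHA u hu v hv hou hov hvc hdle hus hqd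
      refine iso_of_le hHA (CfsgLib.SmallGroups.alternatingGroup_le_of_small_support hprim hu ?_ ?_) (by omega)
      · intro e; rw [e, orderOf_one] at hou; omega
      · omega
    by_cases h6 : m = 6
    · subst h6
      refine ⟨3, 5, by norm_num, by norm_num, by norm_num, by norm_num, by norm_num, fun x y hx hy =>
        main_case (by norm_num) (by norm_num) (by norm_num) (by norm_num) (by norm_num) x y hx hy ?_⟩
      intro β _ _ H hpre hprim hHA u hu v hv hou hov hvc hdle hus hqd
      rcases Nat.lt_or_ge (Fintype.card β) 6 with h | h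
      · refine iso_of_le hHA (CfsgLib.SmallGroups.alternatingGroup_le_of_small_support hprim hu ?_ ?_) (by omega)
        · intro e; rw [e, orderOf_one] at hou; omega
        · omega
      · exact CfsgLib.FGS.degree_six (by omega) hHA hv hov hu hou
    by_cases h10 : m ≤ 10
    · refine ⟨5, 7, by norm_num, by norm_num, by omega, by norm_num, by omega, fun x y hx hy =>
        main_case (by norm_num) (by norm_num) (by omega) (by norm_num) (by omega) x y hx hy ?_⟩
      intro β _ _ H hpre hprim hHA u hu v hv hou hov hvc hdle hus hqd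
      rcases Nat.lt_or_ge (Fintype.card β) 8 with h | h
      · exact iso_of_le hHA (CfsgLib.FGS.degree_seven (by omega) hHA hu hou) (by omega)
      · refine iso_of_le hHA ?_ (by omega)
        rcases hus with h1 | ⟨h1, h2, h3⟩
        · exact Cfsg.Agent.S0713.result H hprim (p := 5) (by norm_num) (by omega) (by omega)
            (Equiv.Perm.isCycle_of_prime_order (by rw [hou]; norm_num) (by rw [h1, hou]; norm_num)) h1 hu
        · exact Cfsg.Agent.S0713.result H hprim (p := 7) (by norm_num) (by omega) (by omega) hvc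
            (by rw [← hvc.orderOf, hov]) hv
    by_cases h12 : m ≤ 12
    · refine ⟨7, 11, by norm_num, by norm_num, by omega, by norm_num, by omega, fun x y hx hy =>
        main_case (by norm_num) (by norm_num) (by omega) (by norm_num) (by omega) x y hx hy ?_⟩
      intro β _ _ H hpre hprim hHA u hu v hv hou hov hvc hdle hus hqd
      have h1 : u.support.card = 7 := hus.resolve_right (by omega)
      exact iso_of_le hHA (Cfsg.Agent.S0713.result H hprim (p := 7) (by norm_num) (by omega) (by omega)
        (Equiv.Perm.isCycle_of_prime_order (by rw [hou]; norm_num) (by rw [h1, hou]; norm_num)) h1 hu) (by omega)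
    by_cases h16 : m ≤ 16
    · refine ⟨11, 13, by norm_num, by norm_num, by omega, by norm_num, by omega, fun x y hx hy =>
        main_case (by norm_num) (by norm_num) (by omega) (by norm_num) (by omega) x y hx hy ?_⟩
      intro β _ _ H hpre hprim hHA u hu v hv hou hov hvc hdle hus hqd
      have h1 : u.support.card = 11 := hus.resolve_right (by omega)
      rcases Nat.lt_or_ge (Fintype.card β) 14 with h | h
      · exact iso_of_le hHA (CfsgLib.FGS.degree_thirteen (by omega) hHA hu hou) (by omega)
      · exact iso_of_le hHA (Cfsg.Agent.S0713.result H hprim (p := 11) (by norm_num) (by omega) (by omega)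
          (Equiv.Perm.isCycle_of_prime_order (by rw [hou]; norm_num) (by rw [h1, hou]; norm_num)) h1 hu) (by omega)
    refine ⟨11, 17, by norm_num, by norm_num, by omega, by norm_num, by omega, fun x y hx hy =>
      main_case (by norm_num) (by norm_num) (by omega) (by norm_num) (by omega) x y hx hy ?_⟩
    intro β _ _ H hpre hprim hHA u hu v hv hou hov hvc hdle hus hqd
    have h1 : u.support.card = 11 := hus.resolve_right (by omega)
    exact iso_of_le hHA (Cfsg.Agent.S0713.result H hprim (p := 11) (by norm_num) (by omega) (by omega)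
      (Equiv.Perm.isCycle_of_prime_order (by rw [hou]; norm_num) (by rw [h1, hou]; norm_num)) h1 hu) (by omega)
  · obtain ⟨p, q, hp, hq, hnp, hqn, hgap⟩ := CfsgLib.FGS.exists_two_primes (m / 2) (by omega)
    refine ⟨p, q, hp, hq, by omega, by omega, by omega, fun x y hx hy =>
      main_case hp hq (by omega) (by omega) (by omega) x y hx hy ?_⟩
    intro β _ _ H hpre hprim hHA u hu v hv hou hov hvc hdle hus hqd
    have h1 : u.support.card = p := hus.resolve_right (by omega)
    exact iso_of_le hHA (Cfsg.Agent.S0713.result H hprim hp (by omega) (by omega)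
      (Equiv.Perm.isCycle_of_prime_order (by rw [hou]; exact hp) (by rw [h1, hou]; have := hp.pos; omega)) h1 hu) (by omega)

end Cfsg.Agent.S4150
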