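import Cfsg.Statements.S4151
import Cfsg.Agent.Lib.FGS.TIHallStructure
import Cfsg.Agent.S4117

set_option autoImplicit false
open Cfsg

namespace Cfsg.Agent.S4151

/-- Let G be a finite group and H a non-normal subgroup meeting each of its conjugates by elements outside N_G(H) trivially, with the order of H coprime to its index in N_G(H), such that G is π-separable for π the set of primes dividing the order of H (G has a chain of normal subgroups from 1 to G each of whose factors has order divisible only by primes dividing the order of H or coprime to it). Suppose a Sylow 2-subgroup of H is abelian and Q is a complement of H in N_G(H). Then C_H(Q), the subgroup of elements of H commuting with Q, has order coprime to its index in G and has a normal complement in G. -/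
theorem result {G : Type*} [Group G] [Finite G] (H : Subgroup G)
    (hTI : Cfsg.IsTISubset (H : Set G)) (hnn : ¬ H.Normal)
    (hHall : (Nat.card H).Coprime (H.subgroupOf (Subgroup.normalizer (H : Set G))).index)
    (hsep : ∃ (n : ℕ) (M : Fin (n + 1) → Subgroup G), M 0 = ⊥ ∧ M (Fin.last n) = ⊤ ∧ Monotone M ∧ (∀ i, (M i).Normal) ∧
      ∀ i : Fin n, (∀ q : ℕ, q.Prime → q ∣ (M i.castSucc).relIndex (M i.succ) → q ∣ Nat.card H) ∨
        ((M i.castSucc).relIndex (M i.succ)).Coprime (Nat.card H))
    (h2 : ∀ P : Sylow 2 H, IsMulCommutative (P : Subgroup H))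
    (Q : Subgroup G) (hQ : Q ≤ Subgroup.normalizer (H : Set G)) (hQH : Q ⊓ H = ⊥) (hQH' : Q ⊔ H = Subgroup.normalizer (H : Set G)) :
    (Nat.card ↥(H ⊓ Subgroup.centralizer (Q : Set G))).Coprime (H ⊓ Subgroup.centralizer (Q : Set G)).index ∧
    ∃ N : Subgroup G, N.Normal ∧ N.IsComplement' (H ⊓ Subgroup.centralizer (Q : Set G)) := by
  classical
  set M := Subgroup.normalizer (H : Set G) with hM
  set O := sSup {K : Subgroup G | K.Normal ∧ (Nat.card K).Coprime (Nat.card H)} with hO
  obtain ⟨hOn, hOc, hOH, hOM, hOHn, F, _, _, C, hC, ⟨e⟩⟩ :=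
    CfsgLib.FGS.TI_hall_structure H hTI hnn hHall hsep O hO
  have := hOn
  have hHM : H ≤ M := Subgroup.le_normalizer
  have hMcard : Nat.card M = Nat.card H * Nat.card Q := by
    rw [← hQH', sup_comm]
    exact CfsgLib.Solvable.card_sup_of_disjoint hQ (by rw [inf_comm]; exact hQH)
  have hQc : (Nat.card Q).Coprime (Nat.card H) := by
    have h1 := (H.subgroupOf M).card_mul_index
    rw [Nat.card_congr (Subgroup.subgroupOfEquivOfLe hHM).toEquiv, hMcard] at h1
    rw [← Nat.eq_of_mul_eq_mul_left Nat.card_pos h1]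
    exact hHall.symm
  -- every Sylow subgroup of `H` is cyclic
  have hcyc : ∀ (p : ℕ) [Fact p.Prime] (P : Sylow p H), IsCyclic (P : Subgroup H) := by
    intro p hp P
    let f : H →* F := C.subtype.comp e.toMonoidHom
    have hf : Function.Injective f := Subtype.coe_injective.comp e.injective
    haveI : IsCyclic ((P : Subgroup H).map f) := by
      refine CfsgLib.FGS.isCyclic_le_frobeniusComplement hC _ ?_ ?_
      · rintro _ ⟨x, -, rfl⟩
        exact (e x).2
      · by_cases hp2 : p = 2
        · subst hp2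
          have := h2 P
          exact Or.inl ⟨⟨fun a b => by
            obtain ⟨_, x, hx, rfl⟩ := a
            obtain ⟨_, y, hy, rfl⟩ := b
            exact Subtype.ext (by
              show f x * f y = f y * f x
              rw [← map_mul, ← map_mul]
              exact congrArg f (congrArg Subtype.val (this.1.1 ⟨x, hx⟩ ⟨y, hy⟩)))⟩⟩
        · exact Or.inr ⟨p, Fact.out, hp2, P.isPGroup'.map f⟩
    exact isCyclic_of_surjective ((P : Subgroup H).equivMapOfInjective f hf).symm.toMonoidHom
      ((P : Subgroup H).equivMapOfInjective f hf).symm.surjective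
  -- the action of `Q` on `H`
  letI : MulDistribMulAction Q H :=
    MulDistribMulAction.compHom H ((H.normalizerMonoidHom).comp (Subgroup.inclusion hQ))
  have hsmul : ∀ (q : Q) (h : H), ((q • h : H) : G) = (q : G) * h * (q : G)⁻¹ := fun q h => rfl
  obtain ⟨hHallC, -, hDn, hDC, hDsup⟩ := Cfsg.Agent.S4117.result (G := H) (A := Q) hQc hcyc
  set D := Subgroup.closure {y : H | ∃ (a : Q) (g : H), y = g⁻¹ * a • g} with hD
  set D' := D.map H.subtype with hD'
  set C₀ := H ⊓ Subgroup.centralizer (Q : Set G) with hC₀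
  have hfix : ∀ h : H, h ∈ MulAction.fixedPoints Q H ↔ (h : G) ∈ C₀ := by
    intro h
    constructor
    · intro hh
      refine Subgroup.mem_inf.2 ⟨h.2, Subgroup.mem_centralizer_iff.2 fun q hq => ?_⟩
      have := congrArg Subtype.val (hh ⟨q, hq⟩)
      rw [hsmul] at this
      exact mul_inv_eq_iff_eq_mul.1 this
    · intro hh q
      refine Subtype.ext ?_
      rw [hsmul, mul_inv_eq_iff_eq_mul]
      exact Subgroup.mem_centralizer_iff.1 (Subgroup.mem_inf.1 hh).2 q q.2
  have hCcard : Nat.card C₀ = Nat.card (MulAction.fixedPoints Q H : Set H) := by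
    refine Nat.card_congr
      { toFun := fun c => ⟨⟨c, (Subgroup.mem_inf.1 c.2).1⟩, (hfix _).2 c.2⟩
        invFun := fun h => ⟨(h.1 : G), (hfix h.1).1 h.2⟩
        left_inv := fun c => rfl
        right_inv := fun h => rfl }
  have hD'H : D' ≤ H := Subgroup.map_subtype_le _
  have hHsup : H ≤ D' ⊔ C₀ := by
    intro h hh
    have h1 : (⟨h, hh⟩ : H) ∈ D ⊔ Subgroup.closure (MulAction.fixedPoints Q H) := hDsup ▸ Subgroup.mem_top _
    have h2 : D ⊔ Subgroup.closure (MulAction.fixedPoints Q H) ≤ (D' ⊔ C₀).comap H.subtype := by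
      refine sup_le (fun x hx => Subgroup.mem_sup_left ⟨x, hx, rfl⟩) ((Subgroup.closure_le _).2 fun x hx => ?_)
      exact Subgroup.mem_sup_right ((hfix x).1 hx)
    exact h2 h1
  have hQD : Q ≤ Subgroup.normalizer (D' : Set G) := by
    intro q hq
    refine CfsgLib.FGS.mem_normalizer_of_forall D' q ?_
    rintro _ ⟨x, hx, rfl⟩
    refine ⟨(⟨q, hq⟩ : Q) • x, ?_, hsmul _ _⟩
    have hle : D ≤ D.comap (MulDistribMulAction.toMonoidHom H (⟨q, hq⟩ : Q)) := by
      conv_lhs => rw [hD]
      rw [Subgroup.closure_le]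
      rintro _ ⟨a, g, rfl⟩
      show (⟨q, hq⟩ : Q) • (g⁻¹ * a • g) ∈ D
      have h1 : (g⁻¹ * (⟨q, hq⟩ : Q) • g)⁻¹ * (g⁻¹ * ((⟨q, hq⟩ : Q) * a) • g) ∈ D :=
        mul_mem (inv_mem (Subgroup.subset_closure ⟨_, g, rfl⟩)) (Subgroup.subset_closure ⟨_, g, rfl⟩)
      convert h1 using 1
      simp only [smul_mul', smul_inv', mul_smul]
      group
    exact hle hx
  have hHD : H ≤ Subgroup.normalizer (D' : Set G) := by
    intro h hh
    refine CfsgLib.FGS.mem_normalizer_of_forall D' h ?_
    rintro _ ⟨x, hx, rfl⟩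
    exact ⟨_, hDn.conj_mem x hx ⟨h, hh⟩, rfl⟩
  have hC₀H : C₀ ≤ H := inf_le_left
  set N := O ⊔ (D' ⊔ Q) with hN
  have hNn : N.Normal := by
    rw [← Subgroup.normalizer_eq_top_iff, eq_top_iff, ← hOM]
    refine sup_le (le_sup_left.trans Subgroup.le_normalizer) ?_
    show M ≤ _
    rw [← hQH']
    refine sup_le ((le_sup_right.trans le_sup_right).trans Subgroup.le_normalizer) (hHsup.trans ?_)
    refine sup_le ((le_sup_left.trans le_sup_right).trans Subgroup.le_normalizer) fun c hc => ?_
    refine CfsgLib.FGS.mem_normalizer_of_forall N c fun x hx => ?_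
    have hcomap : N ≤ N.comap (MulAut.conj c).toMonoidHom := by
      conv_lhs => rw [hN]
      refine sup_le (fun y hy => Subgroup.mem_sup_left (hOn.conj_mem y hy c)) (sup_le ?_ ?_)
      · intro y hy
        exact Subgroup.mem_sup_right (Subgroup.mem_sup_left
          ((Subgroup.mem_normalizer_iff.1 (hHD (hC₀H hc)) y).1 hy))
      · intro y hy
        show c * y * c⁻¹ ∈ N
        rw [← Subgroup.mem_centralizer_iff.1 (Subgroup.mem_inf.1 hc).2 y hy, mul_inv_cancel_right]
        exact Subgroup.mem_sup_right (Subgroup.mem_sup_right hy)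
    exact hcomap hx
  haveI := hNn
  have hcopD : (Nat.card D').Coprime (Nat.card C₀) := by
    rw [hCcard]
    have hDcard : Nat.card D' = Nat.card D := Subgroup.card_map_of_injective H.subtype_injective
    let Cf : Subgroup H :=
      { carrier := MulAction.fixedPoints Q H
        mul_mem' := fun hx hy q => by rw [smul_mul', hx q, hy q]
        one_mem' := fun q => smul_one q
        inv_mem' := fun hx q => by rw [smul_inv', hx q] }
    have hcl : Subgroup.closure (MulAction.fixedPoints Q H) = Cf := Subgroup.closure_eq Cf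
    have hc : D.IsComplement' Cf := by
      haveI := hDn
      refine Subgroup.isComplement'_of_disjoint_and_mul_eq_univ ?_ ?_
      · rw [disjoint_iff, eq_bot_iff]
        intro x hx
        exact Subgroup.mem_bot.2 (Set.mem_singleton_iff.1 (hDC.le ⟨hx.1, hx.2⟩))
      · rw [← Subgroup.normal_mul, ← hcl, hDsup]; rfl
    have hcard := hc.card_mul_card
    have h3 : Nat.card H / Nat.card (MulAction.fixedPoints Q H : Set H) = Nat.card D := by
      rw [← hcard]
      exact Nat.mul_div_cancel _ Nat.card_pos
    rw [h3] at hHallC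
    rw [hDcard]
    exact hHallC.symm
  have hNc : (Nat.card N).Coprime (Nat.card C₀) := by
    have hCH : Nat.card C₀ ∣ Nat.card H := Subgroup.card_dvd_of_le hC₀H
    refine Nat.Coprime.coprime_dvd_left (CfsgLib.Cores.card_sup_dvd_mul O (D' ⊔ Q)) ?_
    refine (hOc.coprime_dvd_right hCH).mul_left ?_
    rw [CfsgLib.Solvable.card_sup_of_disjoint hQD
      (le_bot_iff.1 ((inf_le_inf_right Q hD'H).trans (by rw [inf_comm, hQH])))]
    exact hcopD.mul_left (hQc.coprime_dvd_right hCH)
  have hcompl : N.IsComplement' C₀ := by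
    refine Subgroup.isComplement'_of_disjoint_and_mul_eq_univ ?_ ?_
    · rw [disjoint_iff, Subgroup.eq_bot_iff_forall]
      intro x hx
      rw [← orderOf_eq_one_iff, ← Nat.dvd_one, ← hNc.gcd_eq_one]
      exact Nat.dvd_gcd (N.orderOf_dvd_natCard (Subgroup.mem_inf.1 hx).1)
        (C₀.orderOf_dvd_natCard (Subgroup.mem_inf.1 hx).2)
    · rw [← Subgroup.normal_mul, ← Subgroup.coe_top, SetLike.coe_set_eq, eq_top_iff, ← hOM]
      refine sup_le (le_sup_left.trans le_sup_left) ?_
      show M ≤ _
      rw [← hQH']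
      exact sup_le ((le_sup_right.trans le_sup_right).trans le_sup_left)
        (hHsup.trans (sup_le_sup_right (le_sup_left.trans le_sup_right) C₀))
  exact ⟨by rw [hcompl.index_eq_card]; exact hNc.symm, N, hNn, hcompl⟩

end Cfsg.Agent.S4151
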