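import Cfsg.Statements.S4152
import Cfsg.Agent.Lib.FGS.FrobeniusCount
import Mathlib

set_option autoImplicit false
open Cfsg

namespace Cfsg.Agent.S4152

open Subgroup

theorem isPi_iff_pow {G : Type*} [Group G] [Finite G] (π : Set ℕ) {A B : ℕ} (hG : Nat.card G = A * B)
    (hA : ∀ q : ℕ, q.Prime → q ∣ A → q ∈ π) (hB : ∀ q : ℕ, q.Prime → q ∣ B → q ∉ π) (g : G) :
    (∀ q : ℕ, q.Prime → q ∣ orderOf g → q ∈ π) ↔ g ^ A = 1 := by
  refine ⟨fun h => orderOf_dvd_iff_pow_eq_one.1 ?_, fun h q hq hd =>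
    hA q hq (hd.trans (orderOf_dvd_of_pow_eq_one h))⟩
  refine Nat.Coprime.dvd_of_dvd_mul_right ?_ (hG ▸ orderOf_dvd_natCard g)
  exact Nat.coprime_of_dvd fun q hq h1 h2 => hB q hq h2 (h q hq h1)

theorem class_pi_iff {G : Type*} [Group G] (π : Set ℕ) (g : G) :
    (∀ q : ℕ, q.Prime → (∃ h : G, ConjClasses.mk h = ConjClasses.mk g ∧ q ∣ orderOf h) → q ∈ π) ↔
      (∀ q : ℕ, q.Prime → q ∣ orderOf g → q ∈ π) := by
  refine ⟨fun h q hq hd => h q hq ⟨g, rfl, hd⟩, fun h q hq ⟨k, hk, hd⟩ => h q hq ?_⟩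
  obtain ⟨c, hc⟩ := isConj_iff.1 (ConjClasses.mk_eq_mk_iff_isConj.1 hk)
  rwa [← hc, (SemiconjBy.conj_mk c k).orderOf_eq.symm]

theorem exists_split (n : ℕ) (hn : n ≠ 0) (π : Set ℕ) :
    ∃ A B : ℕ, A * B = n ∧ A.Coprime B ∧ (∀ q : ℕ, q.Prime → q ∣ A → q ∈ π) ∧
      ∀ q : ℕ, q.Prime → q ∣ B → q ∉ π := by
  classical
  have key : ∀ (s : Finset ℕ) (q : ℕ), (∀ p ∈ s, p.Prime) → q.Prime →
      q ∣ ∏ p ∈ s, p ^ n.factorization p → q ∈ s := fun s q hs hq h => by
    obtain ⟨p, hp, hd⟩ := hq.prime.exists_mem_finset_dvd h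
    rwa [(Nat.prime_dvd_prime_iff_eq hq (hs p hp)).1 (hq.dvd_of_dvd_pow hd)]
  have hs : ∀ (P : ℕ → Prop) [DecidablePred P], ∀ p ∈ n.primeFactors.filter P, p.Prime :=
    fun P _ p hp => Nat.prime_of_mem_primeFactors (Finset.mem_filter.1 hp).1
  refine ⟨∏ p ∈ n.primeFactors.filter (· ∈ π), p ^ n.factorization p,
    ∏ p ∈ n.primeFactors.filter (fun p => ¬ p ∈ π), p ^ n.factorization p, ?_, ?_, ?_, ?_⟩
  · rw [Finset.prod_filter_mul_prod_filter_not]
    exact Nat.prod_factorization_pow_eq_self hn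
  · exact Nat.coprime_of_dvd fun q hq h1 h2 =>
      (Finset.mem_filter.1 (key _ q (hs fun p => ¬ p ∈ π) hq h2)).2
        (Finset.mem_filter.1 (key _ q (hs (· ∈ π)) hq h1)).2
  · exact fun q hq h => (Finset.mem_filter.1 (key _ q (hs (· ∈ π)) hq h)).2
  · exact fun q hq h => (Finset.mem_filter.1 (key _ q (hs fun p => ¬ p ∈ π) hq h)).2

theorem core {G : Type*} [Group G] [Finite G] (N : Subgroup G) [N.Normal] {A B : ℕ}
    (hAB : A.Coprime B) (hG : Nat.card G = A * B) :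
    Nat.card {C : ConjClasses G // ∃ g : G, ConjClasses.mk g = C ∧ g ^ A = 1} ≤
      Nat.card {C : ConjClasses N // ∃ g : N, ConjClasses.mk g = C ∧ g ^ A = 1} *
        Nat.card {C : ConjClasses (G ⧸ N) // ∃ g : G ⧸ N, ConjClasses.mk g = C ∧ g ^ A = 1} := by
  classical
  obtain ⟨E, F, hE1, hEB, hF1, hFA, hEF⟩ := CfsgLib.FGS.exists_idempotent_exponents hAB
  have hx : ∀ x : G, x ^ (A * B) = 1 := fun x => hG ▸ pow_card_eq_one'
  have hEA : ∀ x : G, (x ^ E) ^ A = 1 := fun x => by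
    rw [← pow_mul]; exact CfsgLib.FGS.pow_eq_one_of_dvd' (hx x) (mul_comm A B ▸ Nat.mul_dvd_mul hEB dvd_rfl)
  have hFB : ∀ x : G, (x ^ F) ^ B = 1 := fun x => by
    rw [← pow_mul]; exact CfsgLib.FGS.pow_eq_one_of_dvd' (hx x) (Nat.mul_dvd_mul hFA dvd_rfl)
  have hprod : ∀ x : G, x ^ E * x ^ F = x := fun x => by
    rw [← pow_add]; exact CfsgLib.FGS.pow_eq_self_of_modEq (hx x) hEF
  have hpart : ∀ a b : G, a ^ A = 1 → b ^ B = 1 → Commute a b → (a * b) ^ E = a := fun a b ha hb hc => by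
    rw [hc.mul_pow, CfsgLib.FGS.pow_eq_self_of_modEq ha hE1, CfsgLib.FGS.pow_eq_one_of_dvd' hb hEB, mul_one]
  set TG := {C : ConjClasses G // ∃ g : G, ConjClasses.mk g = C ∧ g ^ A = 1}
  set TN := {C : ConjClasses N // ∃ g : N, ConjClasses.mk g = C ∧ g ^ A = 1}
  set TQ := {C : ConjClasses (G ⧸ N) // ∃ g : G ⧸ N, ConjClasses.mk g = C ∧ g ^ A = 1}
  let r : TG → G := fun C => Classical.choose C.2
  have hr : ∀ C : TG, ConjClasses.mk (r C) = C.1 ∧ r C ^ A = 1 := fun C => Classical.choose_spec C.2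
  let im : TG → TQ := fun C => ⟨ConjClasses.mk (r C : G ⧸ N), _, rfl, by
    rw [← QuotientGroup.mk_pow, (hr C).2]; rfl⟩
  let xb : TQ → G := fun d => if h : ∃ C, im C = d then r (Classical.choose h) else 1
  have hgc : ∀ C : TG, ∃ g : G, ConjClasses.mk g = C.1 ∧ g ^ A = 1 ∧
      (g : G ⧸ N) = (xb (im C) : G ⧸ N) := by
    intro C
    have h : ∃ C', im C' = im C := ⟨C, rfl⟩
    have h2 : ConjClasses.mk (r (Classical.choose h) : G ⧸ N) = ConjClasses.mk (r C : G ⧸ N) :=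
      congrArg Subtype.val (Classical.choose_spec h)
    obtain ⟨c, hc⟩ := isConj_iff.1 (ConjClasses.mk_eq_mk_iff_isConj.1 h2.symm)
    obtain ⟨c, rfl⟩ := QuotientGroup.mk_surjective c
    refine ⟨c * r C * c⁻¹, ?_, ?_, ?_⟩
    · rw [← (hr C).1]
      exact ConjClasses.mk_eq_mk_iff_isConj.2 (isConj_iff.2 ⟨c⁻¹, by group⟩)
    · rw [conj_pow, (hr C).2, mul_one, mul_inv_cancel]
    · simp only [xb, dif_pos h, QuotientGroup.mk_mul, QuotientGroup.mk_inv]
      exact hc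
  choose gc hgc1 hgc2 hgc3 using hgc
  let σ1 : G → G → N := fun a g' => if h : ∃ y : N, (y : G) * a * (y : G)⁻¹ = g' then Classical.choose h else 1
  have hσ1 : ∀ (a g' : G), (∃ y : N, (y : G) * a * (y : G)⁻¹ = g') →
      (σ1 a g' : G) * a * (σ1 a g' : G)⁻¹ = g' := fun a g' h => by
    simp only [σ1, dif_pos h]; exact Classical.choose_spec h
  let g0 : G → G → G := fun x n => if h : ∃ g : G, (g : G ⧸ N) = (x : G ⧸ N) ∧ Commute n g then Classical.choose h else 1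
  -- the data attached to a pair
  let k : TG → N → N := fun C m => m * (σ1 (gc C) ((m : G) * gc C * (m : G)⁻¹))⁻¹
  have hk : ∀ C m, Commute ((k C m : N) : G) ((m : G) * gc C * (m : G)⁻¹) := fun C m => by
    have h1 := hσ1 (gc C) ((m : G) * gc C * (m : G)⁻¹) ⟨m, rfl⟩
    show ((k C m : N) : G) * _ = _
    simp only [k, Subgroup.coe_mul, Subgroup.coe_inv]
    set s := (σ1 (gc C) ((m : G) * gc C * (m : G)⁻¹) : G)
    clear_value s
    generalize gc C = a at h1 ⊢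
    calc (m : G) * s⁻¹ * ((m : G) * a * (m : G)⁻¹) = (m : G) * s⁻¹ * (s * a * s⁻¹) := by rw [h1]
      _ = (m : G) * a * (m : G)⁻¹ * ((m : G) * s⁻¹) := by group
  let nn : TG → N → N := fun C m => k C m ^ E
  let gg : TG → N → G := fun C m => (m : G) * gc C * (m : G)⁻¹ * ((k C m : G) ^ F)
  have hggE : ∀ C m, gg C m ^ E = (m : G) * gc C * (m : G)⁻¹ := fun C m =>
    hpart _ _ (by rw [conj_pow, hgc2, mul_one, mul_inv_cancel]) (hFB _) ((hk C m).symm.pow_right F)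
  have hggq : ∀ C m, (gg C m : G ⧸ N) = (xb (im C) : G ⧸ N) := fun C m => by
    have h1 : ∀ y : N, ((y : G) : G ⧸ N) = 1 := fun y => (QuotientGroup.eq_one_iff _).2 y.2
    simp only [gg, QuotientGroup.mk_mul, QuotientGroup.mk_inv, QuotientGroup.mk_pow, h1, hgc3,
      one_pow, one_mul, mul_one, inv_one]
  have hcomm : ∀ C m, Commute ((nn C m : N) : G) (gg C m) := fun C m => by
    simp only [nn, gg, Subgroup.coe_pow]
    exact (((hk C m).pow_left E)).mul_right ((Commute.refl _).pow_pow E F)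
  have hg0 : ∀ C m, (g0 (xb (im C)) (nn C m) : G ⧸ N) = (gg C m : G ⧸ N) ∧
      Commute ((nn C m : N) : G) (g0 (xb (im C)) (nn C m)) := fun C m => by
    have h : ∃ g : G, (g : G ⧸ N) = (xb (im C) : G ⧸ N) ∧ Commute ((nn C m : N) : G) g :=
      ⟨gg C m, hggq C m, hcomm C m⟩
    simp only [g0, dif_pos h]
    exact ⟨(Classical.choose_spec h).1.trans (hggq C m).symm, (Classical.choose_spec h).2⟩
  let mm : TG → N → N := fun C m => ⟨(g0 (xb (im C)) (nn C m))⁻¹ * gg C m,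
    QuotientGroup.eq.1 (hg0 C m).1⟩
  let cl : TG → N → TN := fun C m => ⟨ConjClasses.mk (nn C m), _, rfl, Subtype.ext (by
    simpa [nn] using hEA (k C m : G))⟩
  let rn : TN → N := fun c => Classical.choose c.2
  let σ2 : N → N → N := fun a n => if h : ∃ y : N, y * a * y⁻¹ = n then Classical.choose h else 1
  have hσ2 : ∀ C m, σ2 (rn (cl C m)) (nn C m) * rn (cl C m) * (σ2 (rn (cl C m)) (nn C m))⁻¹ = nn C m := by
    intro C m
    have h : ∃ y : N, y * rn (cl C m) * y⁻¹ = nn C m :=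
      isConj_iff.1 (ConjClasses.mk_eq_mk_iff_isConj.1 (Classical.choose_spec (cl C m).2).1)
    simp only [σ2, dif_pos h]
    exact Classical.choose_spec h
  let Φ : TG × N → (TN × TQ) × N := fun p =>
    ((cl p.1 p.2, im p.1), mm p.1 p.2 * σ2 (rn (cl p.1 p.2)) (nn p.1 p.2))
  have hrec : ∀ C m, (Φ (C, m)).2 * rn (cl C m) * ((Φ (C, m)).2)⁻¹ = nn C m := fun C m => by
    have hc : Commute (nn C m) (mm C m) := Subtype.ext (by
      simp only [Subgroup.coe_mul, mm]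
      exact ((hg0 C m).2.inv_right.mul_right (hcomm C m)).eq)
    show mm C m * σ2 _ _ * rn _ * (mm C m * σ2 _ _)⁻¹ = _
    calc _ = mm C m * (σ2 (rn (cl C m)) (nn C m) * rn (cl C m) * (σ2 (rn (cl C m)) (nn C m))⁻¹) * (mm C m)⁻¹ := by group
      _ = _ := by rw [hσ2, ← hc.eq, mul_inv_cancel_right]
  have hinj : Function.Injective Φ := by
    rintro ⟨C, m⟩ ⟨C', m'⟩ h
    have h1 : cl C m = cl C' m' := congrArg (fun z => z.1.1) h
    have h2 : im C = im C' := congrArg (fun z => z.1.2) h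
    have h3 : (Φ (C, m)).2 = (Φ (C', m')).2 := congrArg Prod.snd h
    have hn : nn C m = nn C' m' := by rw [← hrec C m, ← hrec C' m', h1, h3]
    have hmm : mm C m = mm C' m' := by
      have h4 : mm C m * σ2 (rn (cl C m)) (nn C m) = mm C' m' * σ2 (rn (cl C' m')) (nn C' m') := h3
      rw [h1, hn] at h4
      exact mul_right_cancel h4
    have hg : gg C m = gg C' m' := by
      have h4 := congrArg Subtype.val hmm
      simp only [mm] at h4
      rw [h2, hn] at h4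
      exact mul_left_cancel h4
    have hg' : (m : G) * gc C * (m : G)⁻¹ = (m' : G) * gc C' * (m' : G)⁻¹ := by
      rw [← hggE, ← hggE, hg]
    have hC : C = C' := by
      refine Subtype.ext ?_
      rw [← hgc1 C, ← hgc1 C']
      exact ConjClasses.mk_eq_mk_iff_isConj.2 (isConj_iff.2 ⟨(m' : G)⁻¹ * m, by
        calc (m' : G)⁻¹ * m * gc C * ((m' : G)⁻¹ * m)⁻¹ = (m' : G)⁻¹ * ((m : G) * gc C * (m : G)⁻¹) * m' := by group
          _ = gc C' := by rw [hg']; group⟩)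
    subst hC
    have hkF : (k C m : G) ^ F = (k C m' : G) ^ F := by
      have h4 : (m : G) * gc C * (m : G)⁻¹ * ((k C m : G) ^ F) = (m' : G) * gc C * (m' : G)⁻¹ * ((k C m' : G) ^ F) := hg
      rw [hg'] at h4
      exact mul_left_cancel h4
    have hkE : (k C m : G) ^ E = (k C m' : G) ^ E := by simpa [nn] using congrArg Subtype.val hn
    have hk' : k C m = k C m' := Subtype.ext (by rw [← hprod (k C m : G), hkE, hkF, hprod])
    have hm : m = m' := by
      simp only [k] at hk'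
      rw [hg'] at hk'
      exact mul_right_cancel hk'
    rw [hm]
  have hle := Nat.card_le_card_of_injective Φ hinj
  rw [Nat.card_prod, Nat.card_prod, Nat.card_prod] at hle
  exact Nat.le_of_mul_le_mul_right hle Nat.card_pos


/-- Let G be a finite group, N a normal subgroup and π a set of primes. Then the number of conjugacy classes of π-elements of G (elements whose order is divisible only by primes in π) is at most the number of conjugacy classes of π-elements of N (under conjugation by N) times the number of conjugacy classes of π-elements of G/N. -/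
theorem result {G : Type*} [Group G] [Finite G] (N : Subgroup G) [N.Normal] (π : Set ℕ) :
    Nat.card {C : ConjClasses G // ∀ q : ℕ, q.Prime → (∃ g : G, ConjClasses.mk g = C ∧ q ∣ orderOf g) → q ∈ π} ≤ Nat.card {C : ConjClasses N // ∀ q : ℕ, q.Prime → (∃ g : N, ConjClasses.mk g = C ∧ q ∣ orderOf g) → q ∈ π} * Nat.card {C : ConjClasses (G ⧸ N) // ∀ q : ℕ, q.Prime → (∃ g : (G ⧸ N), ConjClasses.mk g = C ∧ q ∣ orderOf g) → q ∈ π} := by
  obtain ⟨A, B, hG, hAB, hA, hB⟩ := exists_split (Nat.card G) Nat.card_pos.ne' π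
  have key := core N hAB hG.symm
  have hiffG : ∀ g : G, (∀ q : ℕ, q.Prime → q ∣ orderOf g → q ∈ π) ↔ g ^ A = 1 :=
    isPi_iff_pow π hG.symm hA hB
  have e1 : ∀ (C : ConjClasses G), (∀ q : ℕ, q.Prime → (∃ g : G, ConjClasses.mk g = C ∧ q ∣ orderOf g) → q ∈ π) ↔
      ∃ g : G, ConjClasses.mk g = C ∧ g ^ A = 1 := by
    intro C
    obtain ⟨g, rfl⟩ := ConjClasses.mk_surjective C
    exact ⟨fun h => ⟨g, rfl, (hiffG g).1 ((class_pi_iff π g).1 h)⟩, fun ⟨k, hk, hkA⟩ => hk ▸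
      (class_pi_iff π k).2 ((hiffG k).2 hkA)⟩
  have hiffN : ∀ g : N, (∀ q : ℕ, q.Prime → q ∣ orderOf g → q ∈ π) ↔ g ^ A = 1 := fun g => by
    rw [← Subgroup.orderOf_coe, hiffG, ← Subgroup.coe_pow, OneMemClass.coe_eq_one]
  have e2 : ∀ (C : ConjClasses N), (∀ q : ℕ, q.Prime → (∃ g : N, ConjClasses.mk g = C ∧ q ∣ orderOf g) → q ∈ π) ↔
      ∃ g : N, ConjClasses.mk g = C ∧ g ^ A = 1 := by
    intro C
    obtain ⟨g, rfl⟩ := ConjClasses.mk_surjective C
    exact ⟨fun h => ⟨g, rfl, (hiffN g).1 ((class_pi_iff π g).1 h)⟩, fun ⟨k, hk, hkA⟩ => hk ▸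
      (class_pi_iff π k).2 ((hiffN k).2 hkA)⟩
  have hiffQ : ∀ g : G ⧸ N, (∀ q : ℕ, q.Prime → q ∣ orderOf g → q ∈ π) ↔ g ^ A = 1 := fun g => by
    refine ⟨fun h => orderOf_dvd_iff_pow_eq_one.1 (Nat.Coprime.dvd_of_dvd_mul_right
      (Nat.coprime_of_dvd fun q hq h1 h2 => hB q hq h2 (h q hq h1)) ?_),
      fun h q hq hd => hA q hq (hd.trans (orderOf_dvd_of_pow_eq_one h))⟩
    rw [hG]
    exact (orderOf_dvd_natCard g).trans (Subgroup.card_quotient_dvd_card N)
  have e3 : ∀ (C : ConjClasses (G ⧸ N)), (∀ q : ℕ, q.Prime → (∃ g : G ⧸ N, ConjClasses.mk g = C ∧ q ∣ orderOf g) → q ∈ π) ↔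
      ∃ g : G ⧸ N, ConjClasses.mk g = C ∧ g ^ A = 1 := by
    intro C
    obtain ⟨g, rfl⟩ := ConjClasses.mk_surjective C
    exact ⟨fun h => ⟨g, rfl, (hiffQ g).1 ((class_pi_iff π g).1 h)⟩, fun ⟨k, hk, hkA⟩ => hk ▸
      (class_pi_iff π k).2 ((hiffQ k).2 hkA)⟩
  rwa [Nat.card_congr (Equiv.subtypeEquivRight e1), Nat.card_congr (Equiv.subtypeEquivRight e2),
    Nat.card_congr (Equiv.subtypeEquivRight e3)]

end Cfsg.Agent.S4152
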