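import Cfsg.Statements.S4153
import Cfsg.Agent.Lib.FGS.Basics

set_option autoImplicit false
open Cfsg

namespace Cfsg.Agent.S4153

/-- Let G be a finite group, p a prime, N a normal subgroup, P a Sylow p-subgroup of G and P̄ a Sylow p-subgroup of G/N. Count the elements of p-power order, the identity included. Then (number of such elements of G/N)/#P̄ ≤ (number of such elements of G)/#P, stated as a cross-multiplied inequality, with equality when N is central. -/
theorem result {G : Type*} [Group G] [Finite G] (p : ℕ) [Fact p.Prime] (N : Subgroup G) [N.Normal]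
    (P : Sylow p G) (Pbar : Sylow p (G ⧸ N)) :
    Nat.card {g : (G ⧸ N) // ∃ k : ℕ, orderOf g = p ^ k} * Nat.card (P : Subgroup G) ≤ Nat.card {g : G // ∃ k : ℕ, orderOf g = p ^ k} * Nat.card (Pbar : Subgroup (G ⧸ N)) ∧
    (N ≤ Subgroup.center G → Nat.card {g : (G ⧸ N) // ∃ k : ℕ, orderOf g = p ^ k} * Nat.card (P : Subgroup G) = Nat.card {g : G // ∃ k : ℕ, orderOf g = p ^ k} * Nat.card (Pbar : Subgroup (G ⧸ N))) := by
  classical
  set π := QuotientGroup.mk' N with hπ
  have hsur : Function.Surjective π := QuotientGroup.mk'_surjective N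
  have hlift : ∀ y : {g : (G ⧸ N) // ∃ k : ℕ, orderOf g = p ^ k},
      ∃ x : G, π x = y.1 ∧ ∃ S : Sylow p G, x ∈ (S : Subgroup G) := by
    rintro ⟨y, k, hk⟩
    obtain ⟨x₀, hx₀⟩ := hsur y
    obtain ⟨e, f, ⟨i, hi⟩, hf, hef, -⟩ := CfsgLib.FGS.exists_p_parts p x₀
    have hf1 : π (x₀ ^ f) = 1 := by
      refine orderOf_eq_one_iff.1 (Nat.eq_one_of_dvd_coprimes (hf.pow_right k) (orderOf_map_dvd _ _) ?_)
      rw [map_pow, hx₀, ← hk]; exact orderOf_pow_dvd f
    obtain ⟨S, hS⟩ := (CfsgLib.FGS.isPGroup_zpowers hi).exists_le_sylow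
    refine ⟨x₀ ^ e, ?_, S, hS (Subgroup.mem_zpowers _)⟩
    show π (x₀ ^ e) = y
    have h := congrArg π hef
    rw [map_mul, hf1, mul_one, hx₀] at h
    exact h
  choose x hx S hxS using hlift
  -- the order of a kernel of a Sylow subgroup in the quotient map
  have hcard : ∀ T : Sylow p G, Nat.card (N.subgroupOf (T : Subgroup G)) * Nat.card (Pbar : Subgroup (G ⧸ N)) =
      Nat.card (P : Subgroup G) := by
    intro T
    have e1 : Nat.card (Pbar : Subgroup (G ⧸ N)) = Nat.card (T.mapSurjective hsur : Subgroup (G ⧸ N)) :=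
      Pbar.card_eq_multiplicity.trans (T.mapSurjective hsur).card_eq_multiplicity.symm
    have e2 : (π.comp (T : Subgroup G).subtype).ker = N.subgroupOf (T : Subgroup G) := by
      ext z
      simp [hπ, Subgroup.mem_subgroupOf, QuotientGroup.eq_one_iff]
    have e3 : (π.comp (T : Subgroup G).subtype).range = (T.mapSurjective hsur : Subgroup (G ⧸ N)) := by
      rw [Sylow.coe_mapSurjective, MonoidHom.range_comp, Subgroup.range_subtype]
    rw [show Nat.card (P : Subgroup G) = Nat.card (T : Subgroup G) from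
      P.card_eq_multiplicity.trans T.card_eq_multiplicity.symm, e1, ← e3, ← e2,
      ← Subgroup.index_ker, mul_comm, Subgroup.index_mul_card]
  let F : (Σ y : {g : (G ⧸ N) // ∃ k : ℕ, orderOf g = p ^ k}, N.subgroupOf (S y : Subgroup G)) →
      {g : G // ∃ k : ℕ, orderOf g = p ^ k} := fun z =>
    ⟨x z.1 * ((z.2.1 : (S z.1 : Subgroup G)) : G), by
      obtain ⟨k, hk⟩ := IsPGroup.iff_orderOf.1 (S z.1).isPGroup'
        ⟨_, mul_mem (hxS z.1) z.2.1.2⟩
      exact ⟨k, by rw [← hk, Subgroup.orderOf_mk]⟩⟩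
  have hFπ : ∀ z, π (F z).1 = z.1.1 := fun z => by
    show π (x z.1 * _) = _
    rw [map_mul, hx, show π ((z.2.1 : (S z.1 : Subgroup G)) : G) = 1 from
      (QuotientGroup.eq_one_iff _).2 (Subgroup.mem_subgroupOf.1 z.2.2), mul_one]
  have hinj : Function.Injective F := by
    rintro ⟨y, a⟩ ⟨y', b⟩ e
    have hy : y = y' := Subtype.ext (by rw [← hFπ ⟨y, a⟩, ← hFπ ⟨y', b⟩, e])
    subst hy
    congr 1
    exact Subtype.ext (Subtype.ext (mul_left_cancel (congrArg Subtype.val e)))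
  haveI := Fintype.ofFinite {g : (G ⧸ N) // ∃ k : ℕ, orderOf g = p ^ k}
  have hsigma : Nat.card (Σ y : {g : (G ⧸ N) // ∃ k : ℕ, orderOf g = p ^ k}, N.subgroupOf (S y : Subgroup G)) *
      Nat.card (Pbar : Subgroup (G ⧸ N)) =
      Nat.card {g : (G ⧸ N) // ∃ k : ℕ, orderOf g = p ^ k} * Nat.card (P : Subgroup G) := by
    rw [Nat.card_sigma, Finset.sum_mul, Finset.sum_congr rfl (fun y _ => hcard (S y)), Finset.sum_const,
      Finset.card_univ, smul_eq_mul, ← Nat.card_eq_fintype_card]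
  refine ⟨?_, fun hZ => ?_⟩
  · rw [← hsigma]
    exact Nat.mul_le_mul_right _ (Nat.card_le_card_of_injective F hinj)
  · rw [← hsigma]
    congr 1
    refine Nat.card_eq_of_bijective F ⟨hinj, ?_⟩
    rintro ⟨g, k, hk⟩
    set y : {g : (G ⧸ N) // ∃ k : ℕ, orderOf g = p ^ k} := ⟨π g, by
      obtain ⟨i, -, hi⟩ := (Nat.dvd_prime_pow (Fact.out : p.Prime)).1 (hk ▸ orderOf_map_dvd π g)
      exact ⟨i, hi⟩⟩
    have hn : (x y)⁻¹ * g ∈ N := by
      rw [← QuotientGroup.eq_one_iff]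
      show π _ = 1
      rw [map_mul, map_inv, hx, inv_mul_cancel]
    set n := (x y)⁻¹ * g with hndef
    have hcn := Subgroup.mem_center_iff.1 (hZ hn)
    obtain ⟨j, hj⟩ := IsPGroup.iff_orderOf.1 (S y).isPGroup' ⟨x y, hxS y⟩
    rw [Subgroup.orderOf_mk] at hj
    obtain ⟨i, hi⟩ : ∃ i, orderOf n = p ^ i := by
      have h1 : n ^ p ^ (k + j) = 1 := by
        rw [hndef]
        have hc : Commute (x y)⁻¹ g := by
          have h := hcn (x y)
          rw [hndef] at h
          show (x y)⁻¹ * g = g * (x y)⁻¹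
          calc (x y)⁻¹ * g = (x y)⁻¹ * g * (x y) * (x y)⁻¹ := by group
            _ = x y * ((x y)⁻¹ * g) * (x y)⁻¹ := by rw [h]
            _ = g * (x y)⁻¹ := by group
        rw [hc.mul_pow, inv_pow, orderOf_dvd_iff_pow_eq_one.1 (show orderOf g ∣ p ^ (k + j) from hk ▸ pow_dvd_pow p (by omega)),
          orderOf_dvd_iff_pow_eq_one.1 (show orderOf (x y) ∣ p ^ (k + j) from hj ▸ pow_dvd_pow p (by omega)), inv_one, one_mul]
      obtain ⟨i, -, hi⟩ := (Nat.dvd_prime_pow (Fact.out : p.Prime)).1 (orderOf_dvd_of_pow_eq_one h1)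
      exact ⟨i, hi⟩
    have hnS : n ∈ (S y : Subgroup G) := by
      refine CfsgLib.FGS.mem_of_mem_normalizer (S y) ⟨i, hi⟩ ?_
      refine Subgroup.mem_normalizer_iff.2 fun s => ?_
      rw [show n * s * n⁻¹ = s by rw [← hcn s, mul_inv_cancel_right]]
    refine ⟨⟨y, ⟨⟨n, hnS⟩, hn⟩⟩, Subtype.ext ?_⟩
    show x y * n = g
    rw [hndef]; group

end Cfsg.Agent.S4153
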