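import Cfsg.Statements.S4154


set_option autoImplicit false
open Cfsg

namespace Cfsg.Agent.S4154

/-- In a `CCP` group an element `g⁻¹ α(g)` fixed modulo `N` lies in `N`. -/
theorem key {G : Type*} [Group G] [Finite G] (α : MulAut G)
    (hccp : ∀ x : G, ∃ c g : G, α c = c ∧ x = c * (g⁻¹ * α g))
    (N : Subgroup G) [N.Normal] (hN : ∀ n ∈ N, α n ∈ N) (g : G)
    (hd : (g⁻¹ * α g)⁻¹ * α (g⁻¹ * α g) ∈ N) : g⁻¹ * α g ∈ N := by
  classical
  -- the induced map on the quotient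
  let f : G ⧸ N →* G ⧸ N := QuotientGroup.map N N α.toMonoidHom (fun n hn => hN n hn)
  have hf : ∀ x : G, f (x : G ⧸ N) = ((α x : G) : G ⧸ N) := fun x => rfl
  -- cosets of the fixed subgroup
  let C : Subgroup (G ⧸ N) := f.eqLocus (MonoidHom.id _)
  let δ : (G ⧸ N) → (G ⧸ N) := fun y => y⁻¹ * f y
  have hsurj : ∀ y : G ⧸ N, ∃ c ∈ C, ∃ z, y = c * δ z := by
    intro y
    induction y using QuotientGroup.induction_on with
    | _ x =>
      obtain ⟨c, h, hc, rfl⟩ := hccp x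
      refine ⟨c, ?_, h, ?_⟩
      · show f (c : G ⧸ N) = c
        rw [hf, hc]
      · show _ = (c : G ⧸ N) * ((h : G ⧸ N)⁻¹ * f h)
        rw [hf]; simp
  have hconst : ∀ a b, δ a = δ b ↔ a * b⁻¹ ∈ C := by
    intro a b
    show a⁻¹ * f a = b⁻¹ * f b ↔ f (a * b⁻¹) = a * b⁻¹
    rw [map_mul, map_inv]
    constructor
    · intro e
      have : f a = a * b⁻¹ * f b := by rw [mul_assoc, ← e]; group
      rw [this]; group
    · intro e
      have : f a = a * b⁻¹ * f b := by rw [← e]; group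
      rw [this]; group
  let Φ : C × ((G ⧸ N) ⧸ C) → (G ⧸ N) := fun z => z.1.1 * δ (Quotient.out z.2)⁻¹
  have hΦ : Function.Surjective Φ := by
    intro y
    obtain ⟨c, hc, z, rfl⟩ := hsurj y
    refine ⟨(⟨c, hc⟩, (QuotientGroup.mk z⁻¹ : (G ⧸ N) ⧸ C)), ?_⟩
    show c * δ _⁻¹ = c * δ z
    congr 1
    rw [hconst]
    obtain ⟨k, hk⟩ := QuotientGroup.mk_out_eq_mul C z⁻¹
    rw [hk]
    simp
  have hinj : Function.Injective Φ :=
    (hΦ.bijective_of_nat_card_le (le_of_eq (by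
      rw [Nat.card_prod, mul_comm, ← C.card_eq_card_quotient_mul_card_subgroup]))).1
  have hdC : δ (g : G ⧸ N) ∈ C := by
    show f (δ (g : G ⧸ N)) = δ (g : G ⧸ N)
    have : δ (g : G ⧸ N) = ((g⁻¹ * α g : G) : G ⧸ N) := by
      show (g : G ⧸ N)⁻¹ * f g = _
      rw [hf]; simp
    rw [this, hf]
    exact (QuotientGroup.eq.2 hd).symm
  -- two factorisations of `δ g`
  obtain ⟨k, hk⟩ := QuotientGroup.mk_out_eq_mul C (g : G ⧸ N)⁻¹
  obtain ⟨k', hk'⟩ := QuotientGroup.mk_out_eq_mul C (1 : G ⧸ N)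
  have h1 : Φ (1, ((g : G ⧸ N)⁻¹ : G ⧸ N)) = δ (g : G ⧸ N) := by
    show (1 : G ⧸ N) * δ _⁻¹ = _
    rw [one_mul, hconst, hk]
    simp
  have h2 : Φ (⟨δ (g : G ⧸ N), hdC⟩, ((1 : G ⧸ N) : (G ⧸ N) ⧸ C)) = δ (g : G ⧸ N) := by
    show δ (g : G ⧸ N) * δ _⁻¹ = _
    have : δ (Quotient.out ((1 : G ⧸ N) : (G ⧸ N) ⧸ C))⁻¹ = δ 1 := by
      rw [hconst, hk']; simp
    rw [this]
    show _ * (1⁻¹ * f 1) = _
    simp
  have := congrArg (fun z => (z.1 : G ⧸ N)) (hinj (h1.trans h2.symm))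
  simp only [OneMemClass.coe_one] at this
  rw [← QuotientGroup.eq_one_iff]
  rw [this]
  show _ = (g : G ⧸ N)⁻¹ * f g
  rw [hf]; simp


/-- Let G be a finite group and α an automorphism of G such that every element of G is the product of an element fixed by α and an element of the form g⁻¹α(g). If N is a normal α-invariant subgroup, then the automorphism ᾱ induced on G/N has the same property, and every coset fixed by ᾱ contains an element fixed by α (so the fixed points of ᾱ are the images of the fixed points of α). -/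
theorem result {G : Type*} [Group G] [Finite G] (α : MulAut G)
    (hccp : ∀ x : G, ∃ c g : G, α c = c ∧ x = c * (g⁻¹ * α g))
    (N : Subgroup G) [N.Normal] (hN : ∀ n ∈ N, α n ∈ N) :
    (∀ x : G, ∃ c g : G, c⁻¹ * α c ∈ N ∧ x⁻¹ * (c * (g⁻¹ * α g)) ∈ N) ∧
    (∀ x : G, x⁻¹ * α x ∈ N → ∃ c : G, α c = c ∧ c⁻¹ * x ∈ N) := by
  refine ⟨fun x => ?_, fun x hx => ?_⟩
  · obtain ⟨c, g, hc, rfl⟩ := hccp x
    exact ⟨c, g, by rw [hc]; simp, by simp⟩
  · obtain ⟨c, g, hc, rfl⟩ := hccp x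
    refine ⟨c, hc, ?_⟩
    -- `α` moves `d = g⁻¹ α(g)` inside its coset, so `d` has trivial image
    obtain ⟨c', g', hc', hgc⟩ := hccp g
    set d := g⁻¹ * α g
    have hd : d⁻¹ * α d ∈ N := by
      have e : (c * d)⁻¹ * α (c * d) = d⁻¹ * α d := by rw [map_mul, hc]; group
      rwa [e] at hx
    rw [← mul_assoc, inv_mul_cancel, one_mul]
    exact key α hccp N hN g hd

end Cfsg.Agent.S4154
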