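import Cfsg.Statements.S4155
import Cfsg.Agent.Lib.FGS.EqualOrder

set_option autoImplicit false
open Cfsg

namespace Cfsg.Agent.S4155

/-- Let G be a finite group and N a proper non-trivial normal nilpotent subgroup whose order is not a prime power, such that for every x outside N all elements of the coset xN have the same order as x. Then N is the Fitting subgroup of G, and for every prime q every Sylow q-subgroup of G/N is cyclic or generalized quaternion. -/
theorem result {G : Type*} [Group G] [Finite G] (N : Subgroup G) [N.Normal] (hN1 : N ≠ ⊥) (hN2 : N ≠ ⊤)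
    (heq : ∀ x : G, x ∉ N → ∀ n ∈ N, orderOf (x * n) = orderOf x)
    (hnil : Group.IsNilpotent N) (hnpp : ¬ IsPrimePow (Nat.card N)) :
    N = Cfsg.fittingSubgroup G ∧
    ∀ (q : ℕ) [Fact q.Prime] (Q : Sylow q (G ⧸ N)), IsCyclic (Q : Subgroup (G ⧸ N)) ∨ ∃ n : ℕ, Nonempty ((Q : Subgroup (G ⧸ N)) ≃* QuaternionGroup (2 ^ n)) := by
  refine ⟨le_antisymm (CfsgLib.Cores.le_fittingSubgroup hnil) ?_,
    fun q _ Q => CfsgLib.FGS.equalOrder_sylow hN1 heq hnil hnpp q Q⟩
  by_contra hF
  have hlt : N < Cfsg.fittingSubgroup G :=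
    lt_of_le_not_ge (CfsgLib.Cores.le_fittingSubgroup hnil) hF
  obtain ⟨p, k, hp, hk, hpk⟩ := (isPrimePow_def _).1
    ((CfsgLib.FGS.equalOrder_fitting hN1 heq).2 hlt)
  obtain ⟨j, -, hj⟩ := (Nat.dvd_prime_pow (Nat.prime_iff.2 hp)).1
    (hpk ▸ Subgroup.card_dvd_of_le hlt.le)
  refine hnpp (hj ▸ hp.isPrimePow.pow fun h0 => hN1 ?_)
  rw [h0, pow_zero] at hj
  exact Subgroup.eq_bot_of_card_eq _ hj

end Cfsg.Agent.S4155
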