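import Cfsg.Statements.S4156
import Cfsg.Prelude.Def_Perm

set_option autoImplicit false
open Cfsg

namespace Cfsg.Agent.S4156

/-- Let n ≥ 5 and F a finite field. Then the projective special linear group PSL_n(F) contains a subgroup isomorphic to the alternating group of degree n + 1. -/
theorem result (n : ℕ) (hn : 5 ≤ n) (F : Type*) [Field F] [Finite F] :
    ∃ f : alternatingGroup (Fin (n + 1)) →* Matrix.ProjectiveSpecialLinearGroup (Fin n) F, Function.Injective f := by
  classical
  let A := alternatingGroup (Fin (n + 1))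
  haveI : IsSimpleGroup A := alternatingGroup.isSimpleGroup (by simp; omega)
  have hnab : ∃ a b : A, a * b ≠ b * a := by
    refine ⟨⟨Equiv.swap (⟨0, by omega⟩ : Fin (n + 1)) ⟨1, by omega⟩ * Equiv.swap ⟨1, by omega⟩ ⟨2, by omega⟩,
      Equiv.Perm.mem_alternatingGroup.2 (by simp [Fin.ext_iff])⟩,
      ⟨Equiv.swap (⟨0, by omega⟩ : Fin (n + 1)) ⟨1, by omega⟩ * Equiv.swap ⟨2, by omega⟩ ⟨3, by omega⟩,
      Equiv.Perm.mem_alternatingGroup.2 (by simp [Fin.ext_iff])⟩, fun h => ?_⟩
    have := congrArg (fun z : A => (z : Equiv.Perm (Fin (n + 1))) ⟨0, by omega⟩) h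
    simp [Equiv.swap_apply_def] at this
  let W := Cfsg.permSumZero F A (Fin (n + 1))
  let ρ : Representation F A W.toSubmodule := W.toRepresentation
  have hrank : Module.finrank F W.toSubmodule = n := by
    let σ : (Fin (n + 1) → F) →ₗ[F] F :=
      { toFun := fun v => ∑ x, v x
        map_add' := fun u v => by simp [Finset.sum_add_distrib]
        map_smul' := fun c v => by simp [Finset.mul_sum] }
    have hker : W.toSubmodule = LinearMap.ker σ := by
      ext v
      exact Iff.rfl
    have hsurj : LinearMap.range σ = ⊤ := LinearMap.range_eq_top.2 fun c =>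
      ⟨Pi.single 0 c, by simp [σ]⟩
    have := LinearMap.finrank_range_add_finrank_ker σ
    rw [hsurj, finrank_top, Module.finrank_self, Module.finrank_fin_fun] at this
    rw [hker]
    omega
  let b := Module.finBasisOfFinrankEq F W.toSubmodule hrank
  let M : A →* Matrix (Fin n) (Fin n) F :=
    (LinearMap.toMatrixAlgEquiv b).toAlgHom.toMonoidHom.comp ρ
  let M' : A →* Fˣ := (Matrix.detMonoidHom.comp M).toHomUnits
  have hdet : ∀ a : A, (M a).det = 1 := by
    intro a
    have hk : M'.ker = ⊤ := by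
      refine (IsSimpleGroup.eq_bot_or_eq_top_of_normal _ (MonoidHom.normal_ker M')).resolve_left fun h => ?_
      obtain ⟨a, b, hab⟩ := hnab
      exact hab ((MonoidHom.ker_eq_bot_iff M').1 h (by rw [map_mul, map_mul, mul_comm]))
    have := congrArg Units.val (MonoidHom.mem_ker.1 (hk.ge (Subgroup.mem_top a) : a ∈ M'.ker))
    exact this
  let S : A →* Matrix.SpecialLinearGroup (Fin n) F :=
    { toFun := fun a => ⟨M a, hdet a⟩
      map_one' := Subtype.ext (map_one M)
      map_mul' := fun a b => Subtype.ext (map_mul M a b) }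
  let f : A →* Matrix.ProjectiveSpecialLinearGroup (Fin n) F :=
    (QuotientGroup.mk' (Subgroup.center (Matrix.SpecialLinearGroup (Fin n) F))).comp S
  refine ⟨f, (MonoidHom.ker_eq_bot_iff f).1 ?_⟩
  refine (IsSimpleGroup.eq_bot_or_eq_top_of_normal _ (MonoidHom.normal_ker f)).resolve_right fun h => ?_
  have hcomm : ∀ a c : A, ρ a * ρ c = ρ c * ρ a := by
    intro a c
    have hc : S c ∈ Subgroup.center (Matrix.SpecialLinearGroup (Fin n) F) :=
      (QuotientGroup.eq_one_iff _).1 (MonoidHom.mem_ker.1 (h.ge (Subgroup.mem_top c) : c ∈ f.ker))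
    have h1 : M a * M c = M c * M a := congrArg Subtype.val (Subgroup.mem_center_iff.1 hc (S a))
    exact (LinearMap.toMatrixAlgEquiv b).injective (by rw [map_mul, map_mul]; exact h1)
  obtain ⟨a, c, hac⟩ := hnab
  refine hac ?_
  have hrep : ρ (a * c) = ρ (c * a) := by rw [map_mul, map_mul, hcomm]
  by_contra hne
  obtain ⟨i, hi⟩ : ∃ i : Fin (n + 1), ((a * c : A) : Equiv.Perm (Fin (n + 1)))⁻¹ i ≠ ((c * a : A) : Equiv.Perm (Fin (n + 1)))⁻¹ i := by
    by_contra hall
    push Not at hall
    exact hne (Subtype.ext (inv_injective (Equiv.ext hall)))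
  set u := ((a * c : A) : Equiv.Perm (Fin (n + 1)))⁻¹ i with hu
  set w := ((c * a : A) : Equiv.Perm (Fin (n + 1)))⁻¹ i with hw
  obtain ⟨z, hzu, hzw⟩ : ∃ z : Fin (n + 1), z ≠ u ∧ z ≠ w := by
    by_contra hall
    push Not at hall
    have hsub : (Finset.univ : Finset (Fin (n + 1))) ⊆ {u, w} := fun z _ => by
      by_cases hz : z = u
      · simp [hz]
      · simp [hall z hz]
    have := (Finset.card_le_card hsub).trans Finset.card_le_two
    rw [Finset.card_univ, Fintype.card_fin] at this
    omega
  let v : Fin (n + 1) → F := Pi.single u 1 - Pi.single z 1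
  have hv : v ∈ W.toSubmodule := by
    show ∑ x, v x = 0
    simp [v, Finset.sum_sub_distrib]
  have h2 : v u = v w := congrFun (congrArg Subtype.val (LinearMap.congr_fun hrep ⟨v, hv⟩)) i
  have hwu : w ≠ u := fun e => hi e.symm
  simp [v, hzu.symm, hwu, hzw.symm] at h2

end Cfsg.Agent.S4156
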