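import Cfsg.Statements.S4160
import Cfsg.Agent.Lib.FGS.CoverCount
import Mathlib

set_option autoImplicit false
open Cfsg

namespace Cfsg.Agent.S4160

/-- Let G be a finite group and p ≠ q primes each dividing the size of some conjugacy class of G, such that no conjugacy class size is divisible by pq. Then G has a normal p-complement or a normal q-complement. -/
theorem result {G : Type*} [Group G] [Finite G] (p q : ℕ) (hp : p.Prime) (hq : q.Prime) (hpq : p ≠ q)
    (hp' : ∃ x : G, p ∣ (Subgroup.centralizer ({x} : Set G)).index) (hq' : ∃ x : G, q ∣ (Subgroup.centralizer ({x} : Set G)).index) (h : ∀ x : G, ¬ p * q ∣ (Subgroup.centralizer ({x} : Set G)).index) :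
    Cfsg.HasNormalPComplement p G ∨ Cfsg.HasNormalPComplement q G := by
  by_contra hcon
  rw [not_or] at hcon
  have : Fact p.Prime := ⟨hp⟩
  have : Fact q.Prime := ⟨hq⟩
  open CfsgLib.FGS.CoverCount in
  have key : Nat.card G < (free G p).ncard + (free G q).ncard := by
    have hU : free G p ∪ free G q = Set.univ := by
      ext x
      simp only [Set.mem_union, Set.mem_univ, iff_true]
      by_contra hx
      rw [not_or] at hx
      simp only [free, Set.mem_setOf_eq, not_not] at hx
      exact h x (((Nat.coprime_primes hp hq).2 hpq).mul_dvd_of_dvd_of_dvd hx.1 hx.2)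
    have hI : 0 < (free G p ∩ free G q).ncard :=
      (Set.ncard_pos (Set.toFinite _)).2 ⟨1, one_mem_free hp.ne_one, one_mem_free hq.ne_one⟩
    have := Set.ncard_union_add_ncard_inter (free G p) (free G q)
    rw [hU, Set.ncard_univ] at this
    omega
  have h1 := CfsgLib.FGS.CoverCount.two_mul_free_le (G := G) p hcon.1
  have h2 := CfsgLib.FGS.CoverCount.two_mul_free_le (G := G) q hcon.2
  omega

end Cfsg.Agent.S4160
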