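import Cfsg.Statements.S4168
import Mathlib.GroupTheory.Transfer
import Mathlib.GroupTheory.Sylow

set_option autoImplicit false
open Cfsg

namespace Cfsg.Agent.S4168

/-- Let L be a finite quasisimple group (perfect with L/Z(L) simple). Then every prime dividing the order of the centre Z(L) also divides the order of L/Z(L). -/
theorem result {L : Type*} [Group L] [Finite L] (hL : Cfsg.IsQuasisimple L)
    (p : ℕ) (hp : p.Prime) (hdiv : p ∣ Nat.card (Subgroup.center L)) : p ∣ (Subgroup.center L).index := by
  classical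
  haveI := Fact.mk hp
  by_contra hcon
  obtain ⟨P⟩ : Nonempty (Sylow p L) := inferInstance
  have hPZ : (P : Subgroup L) ≤ Subgroup.center L := by
    intro z hz
    rw [← QuotientGroup.eq_one_iff, ← orderOf_eq_one_iff]
    obtain ⟨k, hk⟩ := IsPGroup.iff_orderOf.1 P.isPGroup' ⟨z, hz⟩
    rw [Subgroup.orderOf_mk] at hk
    refine Nat.eq_one_of_dvd_coprimes (Nat.Coprime.pow_left k (hp.coprime_iff_not_dvd.2 hcon))
      (hk ▸ orderOf_map_dvd (QuotientGroup.mk' _) z) ?_
    rw [Subgroup.index_eq_card]
    exact orderOf_dvd_natCard _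
  have hNC : Subgroup.normalizer ((P : Subgroup L) : Set L) ≤ Subgroup.centralizer (P : Set L) :=
    fun g _ => Subgroup.mem_centralizer_iff.2 fun z hz =>
      (Subgroup.mem_center_iff.1 (hPZ hz) g).symm
  set φ := MonoidHom.transferSylow P hNC
  have hcompl := MonoidHom.ker_transferSylow_isComplement' P hNC
  have hcom : commutator L ≤ φ.ker := by
    rw [commutator_def, Subgroup.commutator_le]
    intro a _ b _
    rw [MonoidHom.mem_ker, map_commutatorElement, commutatorElement_eq_one_iff_mul_comm]
    exact Subtype.ext (Subgroup.mem_center_iff.1 (hPZ (φ b).2) (φ a))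
  have htop : φ.ker = ⊤ := top_le_iff.1 (Group.isPerfect_def.1 hL.1 ▸ hcom)
  have hPbot : (P : Subgroup L) = ⊥ := by
    have := hcompl.disjoint
    rwa [htop, top_disjoint] at this
  refine absurd hPbot (P.ne_bot_of_dvd_card (hdiv.trans (Subgroup.card_subgroup_dvd_card _)))

end Cfsg.Agent.S4168
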