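import Cfsg.Statements.S4169
import Cfsg.Agent.Lib.FGS.SmallClasses
import Cfsg.Agent.Lib.PGroup.Basic

set_option autoImplicit false
open Cfsg

namespace Cfsg.Agent.S4169

/-- Let P be a finite p-group whose conjugacy classes have exactly two sizes (1 and one other value). Then P has nilpotency class at most 3. -/
theorem result {P : Type*} [Group P] [Finite P] {p : ℕ} [Fact p.Prime] (hP : IsPGroup p P)
    (m : ℕ) (hm : 1 < m) (h : ∀ x : P, (Subgroup.centralizer ({x} : Set P)).index = 1 ∨ (Subgroup.centralizer ({x} : Set P)).index = m) :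
    upperCentralSeries P 3 = ⊤ := by
  obtain ⟨A, -, hAn, hA, hCA⟩ := CfsgLib.PGroup.exists_normal_abelian_centralizer_eq hP
    (⊥ : Subgroup P) inferInstance (by simp)
  haveI := hAn
  have h3 := CfsgLib.FGS.upperCentralSeries_three_of_small_classes A hA hCA m (fun y hy =>
    ((h y).resolve_left hy.ne').ge)
  rw [show {x : P | (Subgroup.centralizer ({x} : Set P)).index = 1 ∨
    (Subgroup.centralizer ({x} : Set P)).index = m} = Set.univ from Set.eq_univ_of_forall h,
    Subgroup.closure_univ] at h3
  show Subgroup.upperCentralSeries P 3 = ⊤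
  rw [← Subgroup.comap_upperCentralSeries (Subgroup.topEquiv (G := P).symm) 3, h3,
    Subgroup.comap_top]

end Cfsg.Agent.S4169
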