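import Cfsg.Statements.S4170
import Mathlib

set_option autoImplicit false
open scoped Pointwise
open Cfsg

namespace Cfsg.Agent.S4170

/-- Let p be an odd prime and G a nontrivial group of permutations of a finite set Ω that is generated by its elements of p-power order. Then Ω has two disjoint nonempty subsets Δ₁ and Δ₂ such that the index in G of the subgroup of elements mapping Δ₁ onto Δ₁ and Δ₂ onto Δ₂ (and hence also the complement of their union onto itself) is divisible by p. -/
theorem result {Ω : Type*} [Fintype Ω] (p : ℕ) [Fact p.Prime] (hp : p ≠ 2) (G : Subgroup (Equiv.Perm Ω)) (hG : G ≠ ⊥) (hgen : Subgroup.closure {g : G | ∃ k : ℕ, orderOf g = p ^ k} = ⊤) :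
    ∃ Δ₁ Δ₂ : Set Ω, Δ₁.Nonempty ∧ Δ₂.Nonempty ∧ Disjoint Δ₁ Δ₂ ∧ p ∣ (MulAction.stabilizer G Δ₁ ⊓ MulAction.stabilizer G Δ₂).index := by
  classical
  haveI : Finite G := inferInstance
  obtain ⟨P⟩ : Nonempty (Sylow p G) := inferInstance
  set F : Set Ω := {x | ∀ g ∈ (P : Subgroup G), g • x = x} with hFdef
  have hPF : (P : Subgroup G) ≤ MulAction.stabilizer G F := by
    intro g hg
    rw [MulAction.mem_stabilizer_iff]
    apply Set.ext
    intro y
    constructor
    · rintro ⟨x, hx, rfl⟩
      show g • x ∈ F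
      rw [hx g hg]; exact hx
    · intro hy
      exact ⟨y, hy, hy g hg⟩
  -- a Sylow subgroup stabilizing `F` has the same fixed points
  have key : ∀ Q : Sylow p G, (Q : Subgroup G) ≤ MulAction.stabilizer G F → ∀ x : Ω,
      (∀ g ∈ (Q : Subgroup G), g • x = x) → x ∈ F := by
    intro Q hQ x hx
    obtain ⟨k, hk⟩ := MulAction.exists_smul_eq ↥(MulAction.stabilizer G F) (P.subtype hPF) (Q.subtype hQ)
    have hy : (k : G)⁻¹ • x ∈ F := by
      intro g hg
      have h1 : k * ⟨g, hPF hg⟩ * k⁻¹ ∈ ((Q.subtype hQ : Sylow p ↥(MulAction.stabilizer G F)) :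
          Subgroup ↥(MulAction.stabilizer G F)) := by
        rw [← hk, Sylow.coe_subgroup_smul]
        exact ⟨⟨g, hPF hg⟩, (show g ∈ (P : Subgroup G) from hg), rfl⟩
      have h2 := hx _ (show ((k * ⟨g, hPF hg⟩ * k⁻¹ : ↥(MulAction.stabilizer G F)) : G) ∈ (Q : Subgroup G) from h1)
      simp only [Subgroup.coe_mul, InvMemClass.coe_inv, mul_smul] at h2
      rw [← inv_smul_smul (k : G) (g • (k : G)⁻¹ • x), h2]
    have h3 : (k : G) • (k : G)⁻¹ • x ∈ (k : G) • F := Set.smul_mem_smul_set hy
    rwa [smul_inv_smul, MulAction.mem_stabilizer_iff.1 k.2] at h3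
  have hP1 : (P : Subgroup G) ≠ ⊥ := by
    have hdvd : p ∣ Nat.card G := by
      by_contra hnd
      have h1 : Subgroup.closure {g : G | ∃ k : ℕ, orderOf g = p ^ k} = ⊥ := by
        rw [Subgroup.closure_eq_bot_iff]
        rintro g ⟨k, hk⟩
        rcases k with _ | k
        · rw [pow_zero, orderOf_eq_one_iff] at hk
          exact hk
        · exact absurd ((dvd_pow_self p k.succ_ne_zero).trans (hk ▸ orderOf_dvd_natCard g)) hnd
      have h2 : (⊤ : Subgroup G) = ⊥ := hgen.symm.trans h1
      refine hG (eq_bot_iff.2 fun g hg => ?_)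
      have h3 : (⟨g, hg⟩ : G) ∈ (⊤ : Subgroup G) := Subgroup.mem_top _
      rw [h2, Subgroup.mem_bot] at h3
      exact Subgroup.mem_bot.2 (congrArg Subtype.val h3)
    exact P.ne_bot_of_dvd_card hdvd
  obtain ⟨x, hx⟩ : ∃ x, x ∉ F := by
    by_contra hc
    push Not at hc
    refine hP1 ((Subgroup.eq_bot_iff_forall _).2 fun g hg => ?_)
    exact Subtype.ext (Equiv.ext fun z => hc z g hg)
  have main : ∀ Δ : Set Ω, (∀ Q : Sylow p G, (Q : Subgroup G) ≤ MulAction.stabilizer G Δ →
      ¬ (∀ g ∈ (Q : Subgroup G), g • x = x)) →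
      p ∣ (MulAction.stabilizer G Δ ⊓ MulAction.stabilizer G ({x} : Set Ω)).index := by
    intro Δ hΔ
    by_contra hnd
    set S := MulAction.stabilizer G Δ ⊓ MulAction.stabilizer G ({x} : Set Ω)
    obtain ⟨Q'⟩ : Nonempty (Sylow p ↥S) := inferInstance
    have hp' : IsPGroup p ↥((Q' : Subgroup ↥S).map S.subtype) := Q'.2.map _
    have hindex : ¬ p ∣ ((Q' : Subgroup ↥S).map S.subtype).index := by
      rw [Subgroup.index_map_subtype]
      exact (Fact.out : p.Prime).not_dvd_mul Q'.not_dvd_index hnd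
    have hle : (Q' : Subgroup ↥S).map S.subtype ≤ S := Subgroup.map_subtype_le _
    refine hΔ (hp'.toSylow hindex) (hle.trans inf_le_left) fun g hg => ?_
    have h := MulAction.mem_stabilizer_iff.1 (hle.trans inf_le_right hg)
    simpa [Set.smul_set_singleton] using h
  rcases F.eq_empty_or_nonempty with hF | hF
  · -- no fixed point at all
    obtain ⟨y, hy⟩ : ∃ y, y ≠ x := by
      by_contra hc
      push Not at hc
      exact hx fun g _ => hc _
    refine ⟨{y}, {x}, Set.singleton_nonempty y, Set.singleton_nonempty x, Set.disjoint_singleton.2 hy,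
      main _ fun Q _ hQx => hx (key Q ?_ x hQx)⟩
    intro g _
    rw [MulAction.mem_stabilizer_iff, hF, Set.smul_set_empty]
  · exact ⟨F, {x}, hF, Set.singleton_nonempty x, Set.disjoint_singleton_right.2 hx,
      main _ fun Q hQ hQx => hx (key Q hQ x hQx)⟩

end Cfsg.Agent.S4170
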