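import Cfsg.Statements.S4172
import Cfsg.Agent.Lib.FGS.TwoGenSylow
import Cfsg.Agent.Lib.PGroup.Basic
import Cfsg.Agent.Lib.Solvable.FrobeniusComplement

set_option autoImplicit false
open Cfsg
open scoped commutatorElement

namespace Cfsg.Agent.S4172

/-- Let p be a prime and G a finite group with a non-commutative Sylow p-subgroup P whose Frattini subgroup has index p² in P (P is generated by two elements). Suppose G has no nontrivial normal subgroup of order prime to p and the Frattini subgroup of P contains no nontrivial normal subgroup of G. Then the generalized Fitting subgroup F*(G) is the unique minimal normal subgroup of G, the image of P in G/F*(G) is cyclic, and if F*(G) is not commutative then P permutes the components of G transitively by conjugation. -/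
theorem result {G : Type*} [Group G] [Finite G] (p : ℕ) [Fact p.Prime] (P : Sylow p G) (hna : ¬ IsMulCommutative (P : Subgroup G)) (hgen : (frattini ↥(P : Subgroup G)).index = p ^ 2) (hcore : Cfsg.pPrimeCore p G = ⊥) (hfrat : ((frattini ↥(P : Subgroup G)).map (P : Subgroup G).subtype).normalCore = ⊥) [hFn : (Cfsg.generalizedFittingSubgroup G).Normal] :
    (Cfsg.generalizedFittingSubgroup G ≠ ⊥ ∧ ∀ K : Subgroup G, K.Normal → K ≠ ⊥ → Cfsg.generalizedFittingSubgroup G ≤ K) ∧
      IsCyclic ↥((P : Subgroup G).map (QuotientGroup.mk' (Cfsg.generalizedFittingSubgroup G))) ∧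
      (¬ IsMulCommutative (Cfsg.generalizedFittingSubgroup G) → ∀ K L : Subgroup G, Cfsg.IsComponent K → Cfsg.IsComponent L → ∃ x ∈ (P : Subgroup G), L = K.map (MulAut.conj x).toMonoidHom) := by
  classical
  have hp : Fact p.Prime := inferInstance
  haveI hGnt : Nontrivial G := by
    by_contra h
    rw [not_nontrivial_iff_subsingleton] at h
    exact hna ⟨⟨fun a b => Subtype.ext (Subsingleton.elim _ _)⟩⟩
  -- normal subgroups meet `P` outside its Frattini subgroup
  have hA : ∀ N : Subgroup G, N.Normal → N ≠ ⊥ →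
      ¬ (N.subgroupOf (P : Subgroup G)) ≤ frattini (P : Subgroup G) := by
    intro N hN hne hle
    haveI := hN
    have hp1 : IsPGroup p N := CfsgLib.FGS.TwoGenSylow.isPGroup_of_inf_le_frattini hcore P
      hN.isSubnormal (by rw [Subgroup.normalizer_eq_top]; exact le_top) fun x hx => hle hx
    have hNP : N ≤ (P : Subgroup G) :=
      (CfsgLib.Cores.le_pCore hp1).trans (CfsgLib.Cores.pCore_le_sylow P)
    apply hne
    rw [eq_bot_iff, ← hfrat]
    refine Subgroup.normal_le_normalCore.2 fun x hx => ?_
    exact ⟨⟨x, hNP hx⟩, hle hx, rfl⟩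
  -- uniqueness of the minimal normal subgroup
  obtain ⟨N, hNn, hN0, -, hNmin0⟩ := CfsgLib.Solvable.exists_minimal_normal_le (⊤ : Subgroup G)
    (fun h => (top_ne_bot (α := Subgroup G)) h)
  have hNmin : ∀ X : Subgroup G, X.Normal → X ≠ ⊥ → X ≤ N → X = N := fun X h1 h2 h3 =>
    (hNmin0 X h1 h3).resolve_left h2
  haveI := hNn
  have huniq : ∀ K : Subgroup G, K.Normal → K ≠ ⊥ → N ≤ K := by
    intro K hK hK0
    haveI := hK
    rcases eq_or_ne (N ⊓ K) ⊥ with h | h
    · exfalso
      refine CfsgLib.FGS.TwoGenSylow.false_of_disjoint hna hgen (N.subgroupOf (P : Subgroup G))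
        (K.subgroupOf (P : Subgroup G)) (hA N hNn hN0) (hA K hK hK0) ?_
      rw [Subgroup.subgroupOf, Subgroup.subgroupOf, ← Subgroup.comap_inf, h,
        MonoidHom.comap_bot, Subgroup.ker_subtype]
    · have := hNmin (N ⊓ K) inferInstance h inf_le_left
      exact inf_eq_left.1 this
  -- the image of `P` modulo `N` is cyclic
  obtain ⟨y, hy, -⟩ := CfsgLib.FGS.TwoGenSylow.cyclic_quotient hna hgen
    (N.subgroupOf (P : Subgroup G)) (hA N hNn hN0)
  have hdec : ∀ x ∈ (P : Subgroup G), ∃ n ∈ N, n ∈ (P : Subgroup G) ∧ ∃ i : ℤ,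
      x = n * (y : G) ^ i := by
    intro x hx
    have h1 : (⟨x, hx⟩ : (P : Subgroup G)) ∈
        N.subgroupOf (P : Subgroup G) ⊔ Subgroup.zpowers y := by
      rw [hy]; exact Subgroup.mem_top _
    obtain ⟨a, ha, b, hb, hab⟩ := Subgroup.mem_sup_of_normal_left.1 h1
    obtain ⟨i, rfl⟩ := Subgroup.mem_zpowers_iff.1 hb
    exact ⟨a, ha, a.2, i, by simpa using (congrArg Subtype.val hab).symm⟩
  have hcyc : IsCyclic ↥((P : Subgroup G).map (QuotientGroup.mk' N)) := by
    refine ⟨⟨⟨QuotientGroup.mk' N (y : G), Subgroup.mem_map_of_mem _ y.2⟩, ?_⟩⟩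
    rintro ⟨_, ⟨x, hx, rfl⟩⟩
    obtain ⟨n, hn, -, i, rfl⟩ := hdec x hx
    refine ⟨i, Subtype.ext ?_⟩
    have h1 : QuotientGroup.mk' N n = 1 := (QuotientGroup.eq_one_iff n).2 hn
    show (QuotientGroup.mk' N (y : G)) ^ i = QuotientGroup.mk' N (n * (y : G) ^ i)
    rw [map_mul, h1, one_mul, map_zpow]
  have hF : Cfsg.fittingSubgroup G = Cfsg.pCore p G := CfsgLib.Cores.fittingSubgroup_eq_pCore hcore
  have hVn : (Cfsg.pCore p G).Normal := by
    haveI := CfsgLib.Cores.pCore_characteristic (G := G) p
    infer_instance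
  haveI := hVn
  have hmin' : ∀ X : Subgroup G, X.Normal → X < N → X = ⊥ := fun X hX hXN => by
    by_contra h
    exact hXN.ne (hNmin X hX h hXN.le)
  have hEn : (Cfsg.layer G).Normal := CfsgLib.Cores.layer_normal
  haveI := hEn
  by_cases hab : ⁅N, N⁆ = ⊥
  · -- abelian socle
    have hNc : ∀ a ∈ N, ∀ b ∈ N, a * b = b * a := fun a ha b hb =>
      commutatorElement_eq_one_iff_mul_comm.1
        (Subgroup.mem_bot.1 (hab ▸ Subgroup.commutator_mem_commutator ha hb))
    haveI : IsMulCommutative N := ⟨⟨fun a b => Subtype.ext (hNc _ a.2 _ b.2)⟩⟩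
    have hV0 : Cfsg.pCore p G ≠ ⊥ := by
      rw [← hF]
      intro h
      refine hN0 (eq_bot_iff.2 ?_)
      rw [← h]
      letI : CommGroup N := { (inferInstance : Group N) with
        mul_comm := fun a b => Subtype.ext (hNc _ a.2 _ b.2) }
      exact le_sSup ⟨hNn, CommGroup.isNilpotent⟩
    have hNV : N ≤ Cfsg.pCore p G := huniq _ hVn hV0
    have hpV := CfsgLib.Cores.isPGroup_pCore (G := G) p
    have hVP := CfsgLib.Cores.pCore_le_sylow (p := p) P
    have hNP : N ≤ (P : Subgroup G) := hNV.trans hVP
    have hVN : Cfsg.pCore p G = N := by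
      by_contra hne
      have hlt : N < Cfsg.pCore p G := lt_of_le_of_ne hNV (Ne.symm hne)
      have hVbar : (Cfsg.pCore p G).map (QuotientGroup.mk' N) ≠ ⊥ := by
        rw [Ne, Subgroup.map_eq_bot_iff, QuotientGroup.ker_mk']
        exact hlt.not_ge
      haveI : ((Cfsg.pCore p G).map (QuotientGroup.mk' N)).Normal :=
        hVn.map _ (QuotientGroup.mk'_surjective N)
      obtain ⟨Wb, hWbn, hWb0, hWbV, hWbmin0⟩ :=
        CfsgLib.Solvable.exists_minimal_normal_le _ hVbar
      have hWbmin : ∀ X : Subgroup (G ⧸ N), X.Normal → X ≠ ⊥ → X ≤ Wb → X = Wb :=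
        fun X h1 h2 h3 => (hWbmin0 X h1 h3).resolve_left h2
      haveI := hWbn
      set W := Wb.comap (QuotientGroup.mk' N) with hW
      have hNW : N ≤ W := fun n hn => by
        rw [hW, Subgroup.mem_comap, QuotientGroup.mk'_apply, (QuotientGroup.eq_one_iff n).2 hn]
        exact one_mem _
      have hWV : W ≤ Cfsg.pCore p G := by
        refine (Subgroup.comap_mono hWbV).trans ?_
        rw [Subgroup.comap_map_eq, QuotientGroup.ker_mk']
        exact sup_le le_rfl hNV
      haveI hWn : W.Normal := inferInstance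
      have hWbp : IsPGroup p Wb := (hpV.map _).to_le hWbV
      have hWbcyc : IsCyclic Wb :=
        isCyclic_of_injective (Subgroup.inclusion (hWbV.trans (Subgroup.map_mono hVP)))
          (Subgroup.inclusion_injective _)
      -- order `p`
      have hWbcard : Nat.card Wb = p := by
        haveI : Nontrivial Wb := (Subgroup.nontrivial_iff_ne_bot Wb).2 hWb0
        obtain ⟨k, hk0, hk⟩ := hWbp.nontrivial_iff_card.1 inferInstance
        obtain ⟨g, hg⟩ := IsCyclic.exists_ofOrder_eq_natCard (α := Wb)
        have hd : p ∣ orderOf g := by rw [hg, hk]; exact dvd_pow_self p hk0.ne'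
        set u := g ^ (orderOf g / p) with hu
        have hou : orderOf u = p := orderOf_pow_orderOf_div (orderOf_pos g).ne' hd
        set X := (Subgroup.zpowers u).map Wb.subtype with hX
        haveI hXn : X.Normal := by
          haveI : (Subgroup.zpowers u).Characteristic := by
            rw [Subgroup.characteristic_iff_map_le]
            intro φ
            rw [MonoidHom.map_zpowers, Subgroup.zpowers_le]
            exact CfsgLib.Solvable.mem_zpowers_of_isCyclic
              (MulEquiv.orderOf_eq φ u)
          rw [hX]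
          infer_instance
        have hX0 : X ≠ ⊥ := by
          rw [hX, Ne, Subgroup.map_eq_bot_iff_of_injective _ Wb.subtype_injective,
            Subgroup.zpowers_eq_bot]
          intro h
          rw [h, orderOf_one] at hou
          exact hp.out.one_lt.ne hou
        have h1 := hWbmin X hXn hX0 (Subgroup.map_subtype_le _)
        rw [← h1, hX, Subgroup.card_map_of_injective Wb.subtype_injective, Nat.card_zpowers, hou]
      have hidx : N.relIndex W = p := by
        have h1 := Subgroup.relIndex_comap (H := (⊥ : Subgroup (G ⧸ N))) (QuotientGroup.mk' N) W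
        rw [MonoidHom.comap_bot, QuotientGroup.ker_mk', hW,
          Subgroup.map_comap_eq_self_of_surjective (QuotientGroup.mk'_surjective N),
          Subgroup.relIndex_bot_left, hWbcard] at h1
        exact h1
      have hWp : IsPGroup p W := hpV.to_le hWV
      have hNWc : ⁅N, W⁆ = ⊥ := by
        refine hmin' _ inferInstance (lt_of_le_of_ne (Subgroup.commutator_le_left N W) fun e => ?_)
        haveI : Group.IsNilpotent W := hWp.isNilpotent
        refine hN0 ?_
        rw [← Subgroup.map_subgroupOf_eq_of_le hNW]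
        have h1 : ⁅N.subgroupOf W, (⊤ : Subgroup W)⁆ = N.subgroupOf W := by
          apply Subgroup.map_injective W.subtype_injective
          rw [Subgroup.map_commutator, ← MonoidHom.range_eq_map, Subgroup.range_subtype,
            Subgroup.map_subgroupOf_eq_of_le hNW, e]
        have h2 : ∀ n, N.subgroupOf W ≤ (⊤ : Subgroup W).lowerCentralSeries n := by
          intro n
          induction n with
          | zero => exact le_top
          | succ n ih =>
            rw [Subgroup.lowerCentralSeries_succ, ← h1]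
            exact Subgroup.commutator_mono ih le_rfl
        have h3 := h2 (Group.nilpotencyClass W)
        rw [Subgroup.lowerCentralSeries_nilpotencyClass, le_bot_iff] at h3
        rw [h3, Subgroup.map_bot]
      haveI : Fact p.Prime := hp
      have hcom : ∀ n ∈ N, ∀ x ∈ W, n * x = x * n := fun n hn x hx =>
        commutatorElement_eq_one_iff_mul_comm.1
          (Subgroup.mem_bot.1 (hNWc ▸ Subgroup.commutator_mem_commutator hn hx))
      obtain ⟨v, hv, hvN⟩ := SetLike.exists_of_lt (lt_of_le_of_ne hNW (fun e => by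
        rw [← e, Subgroup.relIndex_self] at hidx; exact hp.out.one_lt.ne hidx))
      have hgenW : ∀ x ∈ W, ∃ n ∈ N, ∃ i : ℤ, x = n * v ^ i := by
        intro x hx
        haveI : (N.subgroupOf W).Normal := inferInstance
        have hc : Nat.card (W ⧸ N.subgroupOf W) = p := by
          rw [← Subgroup.index_eq_card]; exact hidx
        have h1 : (QuotientGroup.mk' (N.subgroupOf W)) ⟨x, hx⟩ ∈
            Subgroup.zpowers (QuotientGroup.mk' (N.subgroupOf W) ⟨v, hv⟩) :=
          mem_zpowers_of_prime_card hc fun h =>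
            hvN ((QuotientGroup.eq_one_iff (⟨v, hv⟩ : W)).1 h)
        obtain ⟨i, hi⟩ := Subgroup.mem_zpowers_iff.1 h1
        rw [← map_zpow, QuotientGroup.mk'_apply, QuotientGroup.mk'_apply, eq_comm,
          QuotientGroup.eq_iff_div_mem] at hi
        exact ⟨x / v ^ i, by simpa [Subgroup.mem_subgroupOf] using hi, i, by simp⟩
      have hWc : ∀ a ∈ W, ∀ b ∈ W, a * b = b * a := by
        intro a ha b hb
        obtain ⟨n, hn, i, rfl⟩ := hgenW a ha
        obtain ⟨n', hn', j, rfl⟩ := hgenW b hb
        have c0 : Commute (v ^ i) (v ^ j) := (Commute.refl v).zpow_zpow i j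
        have c1 : Commute n n' := hNc _ hn _ hn'
        have c2 : Commute n (v ^ j) := hcom _ hn _ (Subgroup.zpow_mem _ hv j)
        have c3 : Commute (v ^ i) n' := (hcom _ hn' _ (Subgroup.zpow_mem _ hv i)).symm
        exact ((c1.mul_right c2).mul_left (c3.mul_right c0)).eq
      have hWexp : ∀ x ∈ W, x ^ p = 1 := by
        letI : CommGroup W := { (inferInstance : Group W) with
          mul_comm := fun x z => Subtype.ext (hWc _ x.2 _ z.2) }
        set R := (powMonoidHom p : W →* W).range.map W.subtype with hR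
        haveI hRn : R.Normal := ⟨by
          rintro _ ⟨_, ⟨a, rfl⟩, rfl⟩ g
          exact ⟨_, ⟨⟨g * a * g⁻¹, hWn.conj_mem _ a.2 g⟩, rfl⟩, by simp [conj_pow]⟩⟩
        have hR0 : R = ⊥ := by
          by_contra hR0
          have hNR := huniq R hRn hR0
          refine hA N hNn hN0 fun x hx => ?_
          obtain ⟨_, ⟨a, rfl⟩, ha⟩ := hNR (show (x : G) ∈ N from hx)
          have h1 : x = (⟨(a : G), hVP (hWV a.2)⟩ : (P : Subgroup G)) ^ p :=
            Subtype.ext (by simpa using ha.symm)
          rw [h1]
          exact CfsgLib.PGroup.pow_mem_frattini P.isPGroup' _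
        intro x hx
        have h1 : ((⟨x, hx⟩ : W) ^ p : W).1 ∈ R := ⟨_, ⟨⟨x, hx⟩, rfl⟩, rfl⟩
        rw [hR0, Subgroup.mem_bot] at h1
        exact h1
      -- a fixed element outside `N`
      obtain ⟨n, hn, -, i, hvy⟩ := hdec v (hVP (hWV hv))
      have hw : (y : G) ^ i ∈ W := by
        have : (y : G) ^ i = n⁻¹ * v := by rw [hvy]; group
        rw [this]
        exact W.mul_mem (inv_mem (hNW hn)) hv
      have hwN : (y : G) ^ i ∉ N := fun h => hvN (hvy ▸ N.mul_mem hn h)
      have hfix : ∀ h ∈ (P : Subgroup G), h * (y : G) ^ i * h⁻¹ = (y : G) ^ i := by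
        intro h hh
        obtain ⟨a, ha, -, j, rfl⟩ := hdec h hh
        have c : Commute (a * (y : G) ^ j) ((y : G) ^ i) :=
          Commute.mul_left (hcom a ha _ hw) ((Commute.refl _).zpow_zpow j i)
        rw [c.eq, mul_inv_cancel_right]
      obtain ⟨L, hL, hL0, hLN⟩ := CfsgLib.FGS.TwoGenSylow.exists_disjoint_normal P N W hidx hWc
        hWexp hw hwN hfix
      refine hN0 (eq_bot_iff.2 ?_)
      rw [← hLN]
      exact le_inf (huniq L hL hL0) le_rfl
    have hE : Cfsg.layer G = ⊥ := by
      by_contra hE
      have hNE : N ≤ Cfsg.layer G := huniq _ hEn hE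
      have hcEN : ∀ e ∈ Cfsg.layer G, ∀ n ∈ N, e * n = n * e := by
        intro e he n hn
        have h := CfsgLib.Cores.commutator_layer_fittingSubgroup (G := G)
        rw [hF, hVN] at h
        exact commutatorElement_eq_one_iff_mul_comm.1
          (Subgroup.mem_bot.1 (h ▸ Subgroup.commutator_mem_commutator he hn))
      haveI hperf : Group.IsPerfect (Cfsg.layer G) := CfsgLib.Cores.isPerfect_layer
      set PE := (P : Subgroup G).subgroupOf (Cfsg.layer G) with hPE
      have hPEidx : (Nat.card PE).Coprime PE.index := by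
        obtain ⟨k, hk⟩ := (P.isPGroup'.comap_of_injective (Cfsg.layer G).subtype
          (Subgroup.subtype_injective _)).exists_card_eq
        change Nat.card ((P : Subgroup G).comap (Cfsg.layer G).subtype) = _ at hk
        rw [show PE = (P : Subgroup G).comap (Cfsg.layer G).subtype from rfl, hk]
        refine Nat.Coprime.pow_left k (hp.out.coprime_iff_not_dvd.2 fun hd => P.not_dvd_index ?_)
        have e1 := Subgroup.relIndex_mul_relIndex (Cfsg.layer G ⊓ (P : Subgroup G))
          (Cfsg.layer G) (Cfsg.layer G ⊔ (P : Subgroup G)) inf_le_left le_sup_left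
        have e2 := Subgroup.relIndex_mul_relIndex (Cfsg.layer G ⊓ (P : Subgroup G))
          (P : Subgroup G) (Cfsg.layer G ⊔ (P : Subgroup G)) inf_le_right le_sup_right
        rw [Subgroup.inf_relIndex_left, Subgroup.relIndex_sup_left] at e1
        rw [Subgroup.inf_relIndex_right, ← e1, mul_comm] at e2
        have e3 := Nat.eq_of_mul_eq_mul_right
          (Nat.pos_of_dvd_of_pos (Subgroup.relIndex_dvd_card _ _) Nat.card_pos) e2
        refine hd.trans ?_
        show (P : Subgroup G).relIndex (Cfsg.layer G) ∣ _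
        rw [← e3]
        exact Dvd.intro _ (Subgroup.relIndex_mul_index le_sup_right)
      have hPEc : IsMulCommutative PE := by
        refine ⟨⟨fun a b => ?_⟩⟩
        apply Subtype.ext; apply Subtype.ext
        obtain ⟨na, hna', -, i, hi⟩ := hdec _ a.2
        obtain ⟨nb, hnb', -, j, hj⟩ := hdec _ b.2
        have hai : (y : G) ^ i ∈ Cfsg.layer G := by
          rw [show (y : G) ^ i = na⁻¹ * ((a : Cfsg.layer G) : G) by
            rw [show ((a : Cfsg.layer G) : G) = na * (y : G) ^ i from hi]; group]
          exact mul_mem (inv_mem (hNE hna')) (a : Cfsg.layer G).2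
        have hbj : (y : G) ^ j ∈ Cfsg.layer G := by
          rw [show (y : G) ^ j = nb⁻¹ * ((b : Cfsg.layer G) : G) by
            rw [show ((b : Cfsg.layer G) : G) = nb * (y : G) ^ j from hj]; group]
          exact mul_mem (inv_mem (hNE hnb')) (b : Cfsg.layer G).2
        have c0 : Commute ((y : G) ^ i) ((y : G) ^ j) := (Commute.refl _).zpow_zpow i j
        have c1 : Commute na nb := hNc _ hna' _ hnb'
        have c2 : Commute na ((y : G) ^ j) := (hcEN _ hbj _ hna').symm
        have c3 : Commute ((y : G) ^ i) nb := hcEN _ hai _ hnb'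
        have hc := ((c1.mul_right c2).mul_left (c3.mul_right c0)).eq
        show ((a : Cfsg.layer G) : G) * ((b : Cfsg.layer G) : G) =
          ((b : Cfsg.layer G) : G) * ((a : Cfsg.layer G) : G)
        rw [show ((a : Cfsg.layer G) : G) = _ from hi, show ((b : Cfsg.layer G) : G) = _ from hj]
        exact hc
      have h0 := CfsgLib.Transfer.inf_commutator_inf_center PE hPEc hPEidx
      refine hN0 (eq_bot_iff.2 fun n hn => ?_)
      have h1 : (⟨n, hNE hn⟩ : Cfsg.layer G) ∈
          PE ⊓ commutator (Cfsg.layer G) ⊓ Subgroup.center (Cfsg.layer G) := by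
        refine Subgroup.mem_inf.2 ⟨Subgroup.mem_inf.2 ⟨hNP hn, ?_⟩, ?_⟩
        · rw [hperf.commutator_eq_top]; exact Subgroup.mem_top _
        · exact Subgroup.mem_center_iff.2 fun e => Subtype.ext (hcEN _ e.2 _ hn)
      rw [h0, Subgroup.mem_bot] at h1
      exact Subgroup.mem_bot.2 (congrArg Subtype.val h1)
    have hFeq : Cfsg.generalizedFittingSubgroup G = N := by
      rw [Cfsg.generalizedFittingSubgroup, hE, hF, hVN, bot_sup_eq]
    revert hFn
    rw [hFeq]
    intro _
    exact ⟨⟨hN0, huniq⟩, hcyc, fun h => absurd (⟨⟨fun a b => Subtype.ext (hNc _ a.2 _ b.2)⟩⟩ : IsMulCommutative N) h⟩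
  · -- semisimple socle
    have hCN : Subgroup.centralizer (N : Set G) = ⊥ := by
      by_contra h
      have h1 := huniq _ inferInstance h
      exact hab (Subgroup.commutator_eq_bot_iff_le_centralizer.2 h1)
    have hF0 : Cfsg.fittingSubgroup G = ⊥ := by
      rw [hF]
      by_contra h
      have hNV : N ≤ Cfsg.pCore p G := huniq _ hVn h
      haveI : Group.IsNilpotent N :=
        ((CfsgLib.Cores.isPGroup_pCore (G := G) p).to_le hNV).isNilpotent
      rcases eq_or_ne (⁅N, N⁆ : Subgroup G) N with e | e
      · have h2 : ∀ n, (⊤ : Subgroup N) ≤ (⊤ : Subgroup N).lowerCentralSeries n := by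
          have h1 : ⁅(⊤ : Subgroup N), (⊤ : Subgroup N)⁆ = ⊤ := by
            apply Subgroup.map_injective N.subtype_injective
            rw [Subgroup.map_commutator, ← MonoidHom.range_eq_map, Subgroup.range_subtype, e]
          intro n
          induction n with
          | zero => exact le_top
          | succ n ih =>
            rw [Subgroup.lowerCentralSeries_succ]
            exact h1.ge.trans (Subgroup.commutator_mono ih le_rfl)
        have h3 := h2 (Group.nilpotencyClass N)
        rw [Subgroup.lowerCentralSeries_nilpotencyClass, le_bot_iff] at h3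
        refine hN0 ?_
        have h4 := congrArg (Subgroup.map N.subtype) h3
        rwa [← MonoidHom.range_eq_map, Subgroup.range_subtype, Subgroup.map_bot] at h4
      · exact hab (hmin' _ inferInstance
          (lt_of_le_of_ne (Subgroup.commutator_le_left N N) e))
    have hEN : ∀ L : Subgroup G, Cfsg.IsComponent L → L ≤ N := by
      intro L hL
      refine (CfsgLib.Cores.component_le_or_commutator_eq_bot hL hNn.isSubnormal).resolve_right
        fun h => CfsgLib.Cores.component_ne_bot hL ?_
      rw [eq_bot_iff, ← hCN]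
      exact Subgroup.commutator_eq_bot_iff_le_centralizer.1 h
    have hE : Cfsg.layer G = N := by
      refine le_antisymm (sSup_le hEN) (huniq _ hEn ?_)
      intro h
      exact CfsgLib.Cores.generalizedFittingSubgroup_ne_bot (G := G)
        (by rw [Cfsg.generalizedFittingSubgroup, h, hF0, bot_sup_eq])
    have hFeq : Cfsg.generalizedFittingSubgroup G = N := by
      rw [Cfsg.generalizedFittingSubgroup, hF0, sup_bot_eq, hE]
    revert hFn
    rw [hFeq]
    intro _
    refine ⟨⟨hN0, huniq⟩, hcyc, fun _ K L hK hL => ?_⟩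
    by_contra hcon
    push_neg at hcon
    let O₁ : Set (Subgroup G) := {M | ∃ x ∈ (P : Subgroup G), M = K.map (MulAut.conj x).toMonoidHom}
    let O₂ : Set (Subgroup G) := {M | Cfsg.IsComponent M ∧ M ∉ O₁}
    have hconj : ∀ (M : Subgroup G) (x : G), Cfsg.IsComponent M →
        Cfsg.IsComponent (M.map (MulAut.conj x).toMonoidHom) := fun M x hM =>
      CfsgLib.Cores.isComponent_map_equiv (MulAut.conj x) hM
    have hmm : ∀ (M : Subgroup G) (x z : G), (M.map (MulAut.conj z).toMonoidHom).map
        (MulAut.conj x).toMonoidHom = M.map (MulAut.conj (x * z)).toMonoidHom := by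
      intro M x z
      rw [Subgroup.map_map, map_mul]
      rfl
    have hO₁c : ∀ M ∈ O₁, Cfsg.IsComponent M := by
      rintro _ ⟨x, -, rfl⟩; exact hconj K x hK
    have h1n : ∀ x ∈ (P : Subgroup G), ∀ M ∈ O₁, M.map (MulAut.conj x).toMonoidHom ∈ O₁ := by
      rintro x hx _ ⟨z, hz, rfl⟩
      exact ⟨x * z, mul_mem hx hz, hmm K x z⟩
    have h2n : ∀ x ∈ (P : Subgroup G), ∀ M ∈ O₂, M.map (MulAut.conj x).toMonoidHom ∈ O₂ := by
      rintro x hx M ⟨hM, hM1⟩
      refine ⟨hconj M x hM, fun ⟨z, hz, e⟩ => hM1 ⟨x⁻¹ * z, mul_mem (inv_mem hx) hz, ?_⟩⟩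
      rw [← hmm, ← e, hmm, inv_mul_cancel]
      ext a; simp
    -- properties of a product of components over an invariant set
    have hgood : ∀ O : Set (Subgroup G), (∀ M ∈ O, Cfsg.IsComponent M) → O.Nonempty →
        (∀ x ∈ (P : Subgroup G), ∀ M ∈ O, M.map (MulAut.conj x).toMonoidHom ∈ O) →
        (P : Subgroup G) ≤ Subgroup.normalizer ((sSup O : Subgroup G) : Set G) ∧
          ¬ (sSup O : Subgroup G).subgroupOf (P : Subgroup G) ≤ frattini (P : Subgroup G) := by
      intro O hOc hOne hOinv
      have hnorm : (P : Subgroup G) ≤ Subgroup.normalizer ((sSup O : Subgroup G) : Set G) := by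
        intro x hx
        rw [Subgroup.mem_normalizer_iff]
        have key : ∀ z ∈ (P : Subgroup G), ∀ a ∈ (sSup O : Subgroup G), z * a * z⁻¹ ∈ sSup O := by
          intro z hz a ha
          have hle : (sSup O : Subgroup G).map (MulAut.conj z).toMonoidHom ≤ sSup O := by
            rw [Subgroup.map_le_iff_le_comap]
            refine sSup_le fun M hM => ?_
            rw [← Subgroup.map_le_iff_le_comap]
            exact le_sSup (hOinv z hz M hM)
          exact hle ⟨a, ha, rfl⟩
        intro a
        refine ⟨key x hx a, fun h => ?_⟩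
        simpa [mul_assoc] using key x⁻¹ (inv_mem hx) _ h
      refine ⟨hnorm, fun hle => ?_⟩
      have hOE : (sSup O : Subgroup G) ≤ Cfsg.layer G :=
        sSup_le fun M hM => CfsgLib.Cores.component_le_layer (hOc M hM)
      have hnE : Cfsg.layer G ≤ Subgroup.normalizer ((sSup O : Subgroup G) : Set G) := by
        intro e he
        have key : ∀ z ∈ Cfsg.layer G, ∀ a ∈ (sSup O : Subgroup G), z * a * z⁻¹ ∈ sSup O := by
          intro z hz a ha
          have hle : (sSup O : Subgroup G).map (MulAut.conj z).toMonoidHom ≤ sSup O := by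
            rw [Subgroup.map_le_iff_le_comap]
            refine sSup_le fun M hM b hb => ?_
            have h := (Subgroup.mem_normalizer_iff.1
              (CfsgLib.Cores.layer_le_normalizer_component (hOc M hM) hz) b).1 hb
            exact (le_sSup hM : M ≤ sSup O) h
          exact hle ⟨a, ha, rfl⟩
        rw [Subgroup.mem_normalizer_iff]
        intro a
        refine ⟨key e he a, fun h => ?_⟩
        simpa [mul_assoc] using key e⁻¹ (inv_mem he) _ h
      have hsub : (sSup O : Subgroup G).IsSubnormal := by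
        have h1 : ((sSup O : Subgroup G).subgroupOf (Cfsg.layer G)).Normal :=
          Subgroup.normal_subgroupOf_of_le_normalizer hnE
        have h2 := h1.isSubnormal.trans' hEn.isSubnormal
        rwa [Subgroup.map_subgroupOf_eq_of_le hOE] at h2
      have hpO := CfsgLib.FGS.TwoGenSylow.isPGroup_of_inf_le_frattini hcore P hsub hnorm
        fun x hx => hle hx
      obtain ⟨M, hM⟩ := hOne
      haveI := hpO.isNilpotent
      exact CfsgLib.Cores.component_not_le_of_isSolvable (hOc M hM)
        (inferInstance : Group.IsSolvable ↥(sSup O : Subgroup G)) (le_sSup hM)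
    obtain ⟨hn1, hf1⟩ := hgood O₁ hO₁c ⟨_, 1, one_mem _, rfl⟩ h1n
    obtain ⟨hn2, hf2⟩ := hgood O₂ (fun M hM => hM.1)
      ⟨L, hL, fun ⟨x, hx, e⟩ => hcon x hx e⟩ h2n
    have hdisj : (sSup O₁ : Subgroup G) ⊓ sSup O₂ = ⊥ := by
      have h12 : ⁅(sSup O₁ : Subgroup G), sSup O₂⁆ = ⊥ := by
        rw [Subgroup.commutator_eq_bot_iff_le_centralizer]
        refine sSup_le fun M₁ hM₁ => ?_
        rw [← Subgroup.commutator_eq_bot_iff_le_centralizer, Subgroup.commutator_comm,
          Subgroup.commutator_eq_bot_iff_le_centralizer]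
        refine sSup_le fun M₂ hM₂ => ?_
        rw [← Subgroup.commutator_eq_bot_iff_le_centralizer]
        exact CfsgLib.Cores.commutator_components_eq_bot hM₂.1 (hO₁c _ hM₁)
          fun e => hM₂.2 (e ▸ hM₁)
      rw [eq_bot_iff, ← hCN]
      intro d hd
      obtain ⟨hd1, hd2⟩ := Subgroup.mem_inf.1 hd
      rw [← hE]
      have hcov : Cfsg.layer G ≤ Subgroup.centralizer ({d} : Set G) := by
        refine sSup_le fun M hM m hm => ?_
        rw [Subgroup.mem_centralizer_singleton_iff]
        by_cases hM1 : M ∈ O₁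
        · exact commutatorElement_eq_one_iff_mul_comm.1
            (Subgroup.mem_bot.1 (h12 ▸ Subgroup.commutator_mem_commutator
              ((le_sSup hM1 : M ≤ sSup O₁) hm) hd2))
        · exact (commutatorElement_eq_one_iff_mul_comm.1
            (Subgroup.mem_bot.1 (h12 ▸ Subgroup.commutator_mem_commutator hd1
              ((le_sSup (show M ∈ O₂ from ⟨hM, hM1⟩) : M ≤ sSup O₂) hm)))).symm
      exact Subgroup.mem_centralizer_iff.2 fun z hz =>
        Subgroup.mem_centralizer_singleton_iff.1 (hcov hz)
    haveI := Subgroup.normal_subgroupOf_of_le_normalizer hn1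
    haveI := Subgroup.normal_subgroupOf_of_le_normalizer hn2
    refine CfsgLib.FGS.TwoGenSylow.false_of_disjoint hna hgen _ _ hf1 hf2 ?_
    rw [Subgroup.subgroupOf, Subgroup.subgroupOf, ← Subgroup.comap_inf, hdisj,
      MonoidHom.comap_bot, Subgroup.ker_subtype]

end Cfsg.Agent.S4172
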