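import Cfsg.Statements.S4176
import Cfsg.Agent.Lib.Transfer.PSolvable

set_option autoImplicit false
open Cfsg

namespace Cfsg.Agent.S4176

variable {k V H : Type*} [Field k] [AddCommGroup V] [Module k V] [Group H] [Finite H]

/-- One step up a normal series: an element of `M` is an element of `N` times one of `P`. -/
theorem mem_sup_sylow (p : ℕ) [Fact p.Prime] (P : Sylow p H) (N M : Subgroup H) [N.Normal] [M.Normal]
    (hNM : N ≤ M) (m : ℕ) (hm : N.relIndex M = p ^ m) : M ≤ N ⊔ (P : Subgroup H) := by
  set M' := M.map (QuotientGroup.mk' N) with hM'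
  have : M'.Normal := Subgroup.Normal.map inferInstance _ (QuotientGroup.mk'_surjective N)
  have hcard : Nat.card M' = p ^ m := by
    rw [hM', ← Subgroup.relIndex_bot_left, ← QuotientGroup.map_mk'_self N,
      Subgroup.relIndex_map_map, QuotientGroup.ker_mk', sup_idem, sup_eq_left.2 hNM, hm]
  have hp : IsPGroup p M' := IsPGroup.of_card hcard
  let P' := P.mapSurjective (QuotientGroup.mk'_surjective N)
  have hle : M' ≤ (P' : Subgroup (H ⧸ N)) := by
    obtain ⟨T, hT⟩ := hp.exists_le_sylow
    obtain ⟨g, hg⟩ := MulAction.exists_smul_eq (H ⧸ N) T P'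
    rw [← hg, Sylow.coe_subgroup_smul]
    intro x hx
    rw [Subgroup.mem_pointwise_smul_iff_inv_smul_mem]
    refine hT ?_
    rw [← map_inv, MulAut.smul_def, MulAut.conj_apply]
    exact Subgroup.Normal.conj_mem inferInstance x hx _
  intro x hx
  have h1 : QuotientGroup.mk' N x ∈ (P' : Subgroup (H ⧸ N)) := hle ⟨x, hx, rfl⟩
  rw [Sylow.coe_mapSurjective] at h1
  have h2 : x ∈ ((P : Subgroup H).map (QuotientGroup.mk' N)).comap (QuotientGroup.mk' N) := h1
  rw [Subgroup.comap_map_eq, QuotientGroup.ker_mk', sup_comm] at h2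
  exact h2

/-- In a `p`-soluble group, the fixed points of a module spanned by the orbit of a vector fixed by
a Sylow `p`-subgroup are multiples of the orbit sum. -/
theorem invariant_mem_span_sum (p : ℕ) [Fact p.Prime] [CharP k p]
    (hsol : Cfsg.IsPSolvable p H) (ρ : Representation k H V) (a : V) (P : Sylow p H)
    (hfix : ∀ x ∈ (P : Subgroup H), ρ x a = a) (O : Finset V)
    (hO : ∀ u, u ∈ O ↔ ∃ h : H, ρ h a = u)
    (hspan : Submodule.span k (O : Set V) = ⊤) (v : V) (hv : ∀ h : H, ρ h v = v) :
    ∃ c : k, v = c • ∑ u ∈ O, u := by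
  classical
  have := Fintype.ofFinite H
  obtain ⟨n, S, h0, hn, hmono, hnor, hfac⟩ := hsol
  have hmul : ∀ (g h : H) (u : V), ρ g (ρ h u) = ρ (g * h) u := fun g h u => by
    rw [map_mul]; rfl
  -- invariant of the induction
  suffices key : ∀ i, ∃ w : V → k, (∀ g ∈ S i, ∀ u, w (ρ g u) = w u) ∧
      (∀ g ∈ (P : Subgroup H), ∀ u, w (ρ g u) = w u) ∧
      v ∈ Submodule.span k (Set.range fun h : H => ρ h (∑ u ∈ O, w u • u)) by
    obtain ⟨w, hw, -, hvs⟩ := key (Fin.last n)
    rw [hn] at hw
    have hsum : ∑ u ∈ O, w u • u = w a • ∑ u ∈ O, u := by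
      rw [Finset.smul_sum]
      refine Finset.sum_congr rfl fun u hu => ?_
      obtain ⟨h, rfl⟩ := (hO u).1 hu
      rw [hw h (Subgroup.mem_top h)]
    have hinv : ∀ h : H, ρ h (∑ u ∈ O, u) = ∑ u ∈ O, u := by
      intro h
      rw [map_sum]
      refine Finset.sum_nbij' (fun u => ρ h u) (fun u => ρ h⁻¹ u) ?_ ?_ ?_ ?_ ?_
      · intro u hu
        obtain ⟨g, rfl⟩ := (hO u).1 hu
        exact (hO _).2 ⟨h * g, (hmul h g a).symm⟩
      · intro u hu
        obtain ⟨g, rfl⟩ := (hO u).1 hu
        exact (hO _).2 ⟨h⁻¹ * g, (hmul h⁻¹ g a).symm⟩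
      · intro u _; simp [hmul]
      · intro u _; simp [hmul]
      · intro u _; rfl
    have hle : Submodule.span k (Set.range fun h : H => ρ h (∑ u ∈ O, w u • u)) ≤
        Submodule.span k {∑ u ∈ O, u} := by
      refine Submodule.span_le.2 ?_
      rintro _ ⟨h, rfl⟩
      refine Submodule.mem_span_singleton.2 ⟨w a, ?_⟩
      simp only [hsum, map_smul, hinv]
    obtain ⟨c, hc⟩ := Submodule.mem_span_singleton.1 (hle hvs)
    exact ⟨c, hc.symm⟩
  intro i
  induction i using Fin.induction with
  | zero =>
    refine ⟨fun u => if u = a then 1 else 0, ?_, ?_, ?_⟩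
    · intro g hg u
      rw [h0, Subgroup.mem_bot] at hg
      subst hg
      simp
    · intro g hg u
      have : ρ g u = a ↔ u = a := by
        constructor
        · intro h
          have h1 := congrArg (ρ g⁻¹) h
          rw [hmul, inv_mul_cancel, map_one] at h1
          rw [hfix _ (inv_mem hg)] at h1
          exact h1
        · rintro rfl
          exact hfix _ hg
      simp only [this]
    · have hsum : ∑ u ∈ O, (if u = a then (1 : k) else 0) • u = a := by
        simp [ite_smul, (hO a).2 ⟨1, by simp⟩]
      rw [hsum]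
      have : (O : Set V) = Set.range fun h : H => ρ h a := Set.ext fun u => hO u
      rw [← this, hspan]
      exact Submodule.mem_top
  | succ i ih =>
    obtain ⟨w, hwN, hwP, hvs⟩ := ih
    set N := S i.castSucc with hN
    set M := S i.succ with hM
    have := hnor i.castSucc
    have := hnor i.succ
    have hNM : N ≤ M := hmono (Fin.castSucc_le_succ i)
    rcases hfac i with ⟨m, hm⟩ | hcop
    · refine ⟨w, fun g hg u => ?_, hwP, hvs⟩
      obtain ⟨a₁, ha₁, b₁, hb₁, rfl⟩ :=
        Subgroup.mem_sup_of_normal_left.1 (mem_sup_sylow p P N M hNM m hm hg)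
      rw [← hmul, hwN a₁ ha₁, hwP b₁ hb₁]
    · -- average over `M ⧸ N`
      have hwN' : ∀ g ∈ N, ∀ (x : H) (u : V), w (ρ (x * g)⁻¹ u) = w (ρ x⁻¹ u) := by
        intro g hg x u
        rw [mul_inv_rev, ← hmul, hwN _ (inv_mem hg)]
      let F : V → M ⧸ N.subgroupOf M → k := fun u =>
        Quotient.lift (fun q : M => w (ρ (q : H)⁻¹ u)) fun q r hqr => by
          have h1 := Subgroup.mem_subgroupOf.1 (QuotientGroup.leftRel_apply.1 hqr)
          have h2 := hwN' _ h1 (q : H) u
          rw [Subgroup.coe_mul, Subgroup.coe_inv, mul_inv_cancel_left] at h2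
          exact h2.symm
      let w' : V → k := fun u => ∑ q : M ⧸ N.subgroupOf M, F u q
      refine ⟨w', fun g hg u => ?_, fun g hg u => ?_, ?_⟩
      · refine (Fintype.sum_equiv (MulAction.toPerm (⟨g, hg⟩ : M)) (fun q => F u q)
          (fun q => F (ρ g u) q) fun q => ?_).symm
        induction q using QuotientGroup.induction_on with
        | H q =>
          show w (ρ (q : H)⁻¹ u) = w (ρ ((g * q : H))⁻¹ (ρ g u))
          rw [hmul]
          simp [mul_assoc]
      · -- conjugation by an element of `P` permutes `M ⧸ N`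
        let c : M ⧸ N.subgroupOf M → M ⧸ N.subgroupOf M :=
          Quotient.lift (fun q : M => QuotientGroup.mk
            (⟨g * q * g⁻¹, ‹M.Normal›.conj_mem q q.2 g⟩ : M)) fun q r hqr => by
              refine QuotientGroup.eq.2 (Subgroup.mem_subgroupOf.2 ?_)
              have h1 := Subgroup.mem_subgroupOf.1 (QuotientGroup.leftRel_apply.1 hqr)
              rw [Subgroup.coe_mul, Subgroup.coe_inv] at h1
              have h2 := ‹N.Normal›.conj_mem _ h1 g
              simpa [mul_assoc] using h2
        have hc : Function.Bijective c := by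
          refine Finite.injective_iff_bijective.1 fun q r => ?_
          refine QuotientGroup.induction_on q (fun q => QuotientGroup.induction_on r fun r h => ?_)
          refine QuotientGroup.eq.2 (Subgroup.mem_subgroupOf.2 ?_)
          have h1 := Subgroup.mem_subgroupOf.1 (QuotientGroup.eq.1 h)
          rw [Subgroup.coe_mul, Subgroup.coe_inv] at h1 ⊢
          have h2 := ‹N.Normal›.conj_mem _ h1 g⁻¹
          simpa [mul_assoc] using h2
        refine (Fintype.sum_bijective c hc (fun q => F u q) (fun q => F (ρ g u) q) fun q => ?_).symm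
        induction q using QuotientGroup.induction_on with
        | H q =>
          show w (ρ (q : H)⁻¹ u) = w (ρ (g * q * g⁻¹)⁻¹ (ρ g u))
          rw [hmul, show (g * (q : H) * g⁻¹)⁻¹ * g = g * (q : H)⁻¹ by group, ← hmul, hwP g hg]
      · set t := ∑ u ∈ O, w u • u with ht
        have htN : ∀ g ∈ N, ρ g t = t := by
          intro g hg
          rw [ht, map_sum]
          refine Finset.sum_nbij' (fun u => ρ g u) (fun u => ρ g⁻¹ u) ?_ ?_ ?_ ?_ ?_
          · intro u hu
            obtain ⟨x, rfl⟩ := (hO u).1 hu
            exact (hO _).2 ⟨g * x, (hmul g x a).symm⟩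
          · intro u hu
            obtain ⟨x, rfl⟩ := (hO u).1 hu
            exact (hO _).2 ⟨g⁻¹ * x, (hmul g⁻¹ x a).symm⟩
          · intro u _; simp [hmul]
          · intro u _; simp [hmul]
          · intro u _; rw [map_smul, hwN g hg]
        have hqt : ∀ q : M, ρ (q : H) t = ∑ u ∈ O, w (ρ (q : H)⁻¹ u) • u := by
          intro q
          rw [ht, map_sum]
          refine Finset.sum_nbij' (fun u => ρ (q : H) u) (fun u => ρ (q : H)⁻¹ u) ?_ ?_ ?_ ?_ ?_
          · intro u hu
            obtain ⟨x, rfl⟩ := (hO u).1 hu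
            exact (hO _).2 ⟨q * x, (hmul q x a).symm⟩
          · intro u hu
            obtain ⟨x, rfl⟩ := (hO u).1 hu
            exact (hO _).2 ⟨(q : H)⁻¹ * x, (hmul _ x a).symm⟩
          · intro u _; simp [hmul]
          · intro u _; simp [hmul]
          · intro u _; simp [map_smul, hmul]
        set t' := ∑ u ∈ O, w' u • u with ht'
        let A : V →ₗ[k] V := ∑ q : M ⧸ N.subgroupOf M, ρ ((q.out : M) : H)
        have hout : ∀ q : M, ∃ z ∈ N, (((QuotientGroup.mk q : M ⧸ N.subgroupOf M).out : M) : H) = q * z := by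
          intro q
          obtain ⟨z, hz⟩ := QuotientGroup.mk_out_eq_mul (N.subgroupOf M) q
          exact ⟨_, Subgroup.mem_subgroupOf.1 z.2, congrArg Subtype.val hz⟩
        have hAt : A t = t' := by
          rw [ht']
          simp only [A, w', LinearMap.sum_apply, Finset.sum_smul]
          rw [Finset.sum_comm]
          refine Finset.sum_congr rfl fun q _ => ?_
          rw [hqt]
          refine Finset.sum_congr rfl fun u _ => ?_
          congr 1
          induction q using QuotientGroup.induction_on with
          | H q =>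
            obtain ⟨z, hz, hzq⟩ := hout q
            rw [hzq, hwN' z hz]
            rfl
        have hrange : ∀ h : H, A (ρ h t) = ρ h t' := by
          intro h
          let c : M ⧸ N.subgroupOf M → M ⧸ N.subgroupOf M :=
            Quotient.lift (fun q : M => QuotientGroup.mk
              (⟨h⁻¹ * q * h, by simpa using ‹M.Normal›.conj_mem q q.2 h⁻¹⟩ : M)) fun q r hqr => by
                refine QuotientGroup.eq.2 (Subgroup.mem_subgroupOf.2 ?_)
                have h1 := Subgroup.mem_subgroupOf.1 (QuotientGroup.leftRel_apply.1 hqr)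
                rw [Subgroup.coe_mul, Subgroup.coe_inv] at h1
                have h2 := ‹N.Normal›.conj_mem _ h1 h⁻¹
                simpa [mul_assoc] using h2
          have hc : Function.Bijective c := by
            refine Finite.injective_iff_bijective.1 fun q r => ?_
            refine QuotientGroup.induction_on q (fun q => QuotientGroup.induction_on r fun r h' => ?_)
            refine QuotientGroup.eq.2 (Subgroup.mem_subgroupOf.2 ?_)
            have h1 := Subgroup.mem_subgroupOf.1 (QuotientGroup.eq.1 h')
            rw [Subgroup.coe_mul, Subgroup.coe_inv] at h1 ⊢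
            have h2 := ‹N.Normal›.conj_mem _ h1 h
            simpa [mul_assoc] using h2
          rw [← hAt]
          simp only [A, LinearMap.sum_apply, map_sum]
          refine Fintype.sum_bijective c hc _ _ fun q => ?_
          induction q using QuotientGroup.induction_on with
          | H q =>
            obtain ⟨z, hz, hzq⟩ := hout q
            obtain ⟨z', hz', hzq'⟩ := hout ⟨h⁻¹ * q * h, by simpa using ‹M.Normal›.conj_mem q q.2 h⁻¹⟩
            show ρ (((QuotientGroup.mk q : M ⧸ N.subgroupOf M).out : M) : H) (ρ h t) = ρ h (ρ (((QuotientGroup.mk _ : M ⧸ N.subgroupOf M).out : M) : H) t)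
            rw [hzq, hzq', hmul, hmul, show (q : H) * z * h = (q : H) * h * (h⁻¹ * z * h) by group,
              ← hmul, htN _ (by simpa using ‹N.Normal›.conj_mem z hz h⁻¹),
              show h * (h⁻¹ * (q : H) * h * z') = (q : H) * h * z' by group,
              ← hmul ((q : H) * h) z', htN z' hz']
        have hAv : A v = ((N.relIndex M : ℕ) : k) • v := by
          simp only [A, LinearMap.sum_apply, hv, Finset.sum_const, Finset.card_univ, Nat.cast_smul_eq_nsmul]
          rw [← Nat.card_eq_fintype_card]
          rfl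
        have hne : ((N.relIndex M : ℕ) : k) ≠ 0 := by
          rw [Ne, CharP.cast_eq_zero_iff k p]
          exact (Fact.out : p.Prime).coprime_iff_not_dvd.1 hcop.symm
        have h1 : A v ∈ (Submodule.span k (Set.range fun h : H => ρ h t)).map A :=
          Submodule.mem_map_of_mem hvs
        rw [Submodule.map_span, ← Set.range_comp, hAv] at h1
        have h2 := Submodule.smul_mem _ ((N.relIndex M : k))⁻¹ h1
        rw [inv_smul_smul₀ hne] at h2
        convert h2 using 3
        funext h
        exact (hrange h).symm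

/-- Let k be a field of prime characteristic p, H a finite p-soluble group and ρ a k-linear representation of H on V. Let a be a vector that is fixed by some Sylow p-subgroup of H and whose H-orbit spans V. Then the space of H-fixed vectors has dimension at most 1, and every vector b whose H-orbit has size coprime to the size of the orbit of a is fixed by H. -/
theorem result {k V H : Type*} [Field k] (p : ℕ) [Fact p.Prime] [CharP k p] [AddCommGroup V] [Module k V]
    [Group H] [Finite H] (hsol : Cfsg.IsPSolvable p H) (ρ : Representation k H V) (a : V)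
    (hfix : ∃ P : Sylow p H, ∀ x : H, x ∈ (P : Subgroup H) → ρ x a = a)
    (hspan : Submodule.span k {u : V | ∃ h : H, ρ h a = u} = ⊤) :
    Module.finrank k ρ.invariants ≤ 1 ∧
    ∀ b : V, (Nat.card {u : V | ∃ h : H, ρ h a = u}).Coprime (Nat.card {u : V | ∃ h : H, ρ h b = u}) → ∀ h : H, ρ h b = b := by
  classical
  have := Fintype.ofFinite H
  obtain ⟨P, hP⟩ := hfix
  have hmul : ∀ (g h : H) (u : V), ρ g (ρ h u) = ρ (g * h) u := fun g h u => by
    rw [map_mul]; rfl
  set O : Finset V := Finset.univ.image fun h : H => ρ h a with hOdef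
  have hO : ∀ u, u ∈ O ↔ ∃ h : H, ρ h a = u := fun u => by simp [hOdef]
  have hspan' : Submodule.span k (O : Set V) = ⊤ := by
    rw [← hspan]
    congr 1
    exact Set.ext fun u => hO u
  refine ⟨?_, fun b hb => ?_⟩
  · refine le_trans (Submodule.finrank_mono (t := Submodule.span k {∑ u ∈ O, u}) fun v hv => ?_)
      ((finrank_span_le_card ({∑ u ∈ O, u} : Set V)).trans (by simp))
    obtain ⟨c, hc⟩ := invariant_mem_span_sum p hsol ρ a P hP O hO hspan' v hv
    exact Submodule.mem_span_singleton.2 ⟨c, hc.symm⟩
  let stab : V → Subgroup H := fun u =>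
    { carrier := {h | ρ h u = u}
      mul_mem' := fun {x y} hx hy => by
        show ρ (x * y) u = u
        rw [← hmul]
        exact (congrArg (ρ x) hy).trans hx
      one_mem' := by simp
      inv_mem' := fun {x} hx => by
        show ρ x⁻¹ u = u
        calc ρ x⁻¹ u = ρ x⁻¹ (ρ x u) := by rw [show ρ x u = u from hx]
          _ = u := by rw [hmul, inv_mul_cancel, map_one]; rfl }
  have hcard : ∀ u : V, Nat.card {z : V | ∃ h : H, ρ h u = z} = (stab u).index := by
    intro u
    rw [Subgroup.index_eq_card]
    refine (Nat.card_congr (Equiv.ofBijective (Quotient.lift (fun h : H =>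
      (⟨ρ h u, h, rfl⟩ : {z : V | ∃ h : H, ρ h u = z})) ?_) ⟨?_, ?_⟩)).symm
    · intro x y hxy
      have h1 : ρ (x⁻¹ * y) u = u := QuotientGroup.leftRel_apply.1 hxy
      refine Subtype.ext ?_
      show ρ x u = ρ y u
      conv_lhs => rw [← h1]
      rw [hmul, mul_inv_cancel_left]
    · intro x y
      refine QuotientGroup.induction_on x (fun x => QuotientGroup.induction_on y fun y h => ?_)
      refine QuotientGroup.eq.2 ?_
      have h1 : ρ x u = ρ y u := congrArg Subtype.val h
      show ρ (x⁻¹ * y) u = u
      rw [← hmul, ← h1, hmul, inv_mul_cancel, map_one]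
      rfl
    · rintro ⟨z, h, rfl⟩
      exact ⟨QuotientGroup.mk h, rfl⟩
  rw [hcard, hcard] at hb
  set A := stab a with hA
  set B := stab b with hB
  have hp : p.Prime := Fact.out
  have hAp : ¬ p ∣ A.index := fun hd => P.not_dvd_index (hd.trans (Subgroup.index_dvd_of_le hP))
  have hrel : A.relIndex B = A.index := by
    refine le_antisymm ?_ (Nat.le_of_dvd (Nat.pos_of_ne_zero ?_) (hb.dvd_of_dvd_mul_right
      (?_ : A.index ∣ A.relIndex B * B.index)))
    · rw [← Subgroup.relIndex_top_right]
      exact Subgroup.relIndex_le_of_le_right le_top (by simp [Subgroup.index_ne_zero_of_finite])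
    · simp [Subgroup.relIndex, Subgroup.index_ne_zero_of_finite]
    · rw [← Subgroup.inf_relIndex_right, Subgroup.relIndex_mul_index inf_le_right]
      exact Subgroup.index_dvd_of_le inf_le_left
  have hsurj : ∀ h : H, ∃ x ∈ B, ρ x a = ρ h a := by
    let f : B ⧸ A.subgroupOf B → H ⧸ A :=
      Quotient.lift (fun x : B => ((x : H) : H ⧸ A)) fun x y hxy =>
        QuotientGroup.eq.2 (Subgroup.mem_subgroupOf.1 (QuotientGroup.leftRel_apply.1 hxy))
    have hinj : Function.Injective f := by
      intro u v
      refine QuotientGroup.induction_on u (fun x => QuotientGroup.induction_on v (fun y h => ?_))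
      exact QuotientGroup.eq.2 (Subgroup.mem_subgroupOf.2 (QuotientGroup.eq.1 h))
    intro h
    obtain ⟨u, hu⟩ := (hinj.bijective_of_nat_card_le hrel.ge).2 (h : H ⧸ A)
    induction u using QuotientGroup.induction_on with
    | H x =>
      refine ⟨x, x.2, ?_⟩
      have h1 : ρ ((x : H)⁻¹ * h) a = a := QuotientGroup.eq.1 hu
      conv_lhs => rw [← h1]
      rw [hmul, mul_inv_cancel_left]
  obtain ⟨Q⟩ : Nonempty (Sylow p (A.subgroupOf B)) := inferInstance
  obtain ⟨PB, hPB⟩ := (Q.isPGroup'.map (A.subgroupOf B).subtype).exists_le_sylow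
  have hPBeq : (Q : Subgroup (A.subgroupOf B)).map (A.subgroupOf B).subtype = PB := by
    refine Subgroup.eq_of_le_of_card_ge hPB ?_
    rw [Subgroup.card_map_of_injective (Subgroup.subtype_injective _), Sylow.card_eq_multiplicity,
      Sylow.card_eq_multiplicity]
    refine Nat.pow_le_pow_right hp.pos (le_of_eq ?_)
    rw [← (A.subgroupOf B).card_mul_index, Nat.factorization_mul Nat.card_pos.ne'
      Subgroup.index_ne_zero_of_finite, Finsupp.add_apply,
      Nat.factorization_eq_zero_of_not_dvd (show ¬ p ∣ (A.subgroupOf B).index from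
        fun hd => hAp (hrel ▸ hd)), add_zero]
  have hPBfix : ∀ x ∈ (PB : Subgroup B), (ρ.comp B.subtype) x a = a := by
    intro x hx
    rw [← hPBeq] at hx
    obtain ⟨y, -, rfl⟩ := hx
    exact Subgroup.mem_subgroupOf.1 y.2
  obtain ⟨c, hc⟩ := invariant_mem_span_sum p (CfsgLib.Transfer.isPSolvable_subgroup hsol B)
    (ρ.comp B.subtype) a PB hPBfix O (fun u => by
      rw [hO]
      constructor
      · rintro ⟨h, rfl⟩
        obtain ⟨x, hx, hxh⟩ := hsurj h
        exact ⟨⟨x, hx⟩, hxh⟩
      · rintro ⟨x, rfl⟩
        exact ⟨x, rfl⟩) hspan' b (fun x => x.2)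
  intro h
  rw [hc, map_smul, map_sum]
  congr 1
  refine Finset.sum_nbij' (fun u => ρ h u) (fun u => ρ h⁻¹ u) ?_ ?_ ?_ ?_ ?_
  · intro u hu
    obtain ⟨g, rfl⟩ := (hO u).1 hu
    exact (hO _).2 ⟨h * g, (hmul h g a).symm⟩
  · intro u hu
    obtain ⟨g, rfl⟩ := (hO u).1 hu
    exact (hO _).2 ⟨h⁻¹ * g, (hmul h⁻¹ g a).symm⟩
  · intro u _; simp [hmul]
  · intro u _; simp [hmul]
  · intro u _; rfl

end Cfsg.Agent.S4176
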