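import Cfsg.Statements.S4177
import Mathlib

set_option autoImplicit false
open Cfsg

namespace Cfsg.Agent.S4177

/-- Let k be a field whose characteristic does not divide the order of the finite group H (for instance a field of characteristic zero), and ρ a k-linear representation of H on V. Let a be a vector whose H-orbit spans V. Then the space of H-fixed vectors has dimension at most 1, and every vector b whose H-orbit has size coprime to the size of the orbit of a is fixed by H. -/
theorem result {k V H : Type*} [Field k] [AddCommGroup V] [Module k V] [Group H] [Finite H]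
    (hchar : ¬ ringChar k ∣ Nat.card H) (ρ : Representation k H V) (a : V)
    (hspan : Submodule.span k {u : V | ∃ h : H, ρ h a = u} = ⊤) :
    Module.finrank k ρ.invariants ≤ 1 ∧
    ∀ b : V, (Nat.card {u : V | ∃ h : H, ρ h a = u}).Coprime (Nat.card {u : V | ∃ h : H, ρ h b = u}) → ∀ h : H, ρ h b = b := by
  classical
  haveI := Fintype.ofFinite H
  have hH0 : ((Fintype.card H : ℕ) : k) ≠ 0 := by
    rw [Ne, ringChar.spec, ← Nat.card_eq_fintype_card]
    exact hchar
  let e : V →ₗ[k] V := ∑ h : H, ρ h
  have heρ : ∀ (h : H) (v : V), ρ h (e v) = e v := by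
    intro h v
    simp only [e, LinearMap.sum_apply, map_sum]
    exact Fintype.sum_equiv (Equiv.mulLeft h) _ _ fun g => by simp [map_mul]
  have hρe : ∀ (h : H) (v : V), e (ρ h v) = e v := by
    intro h v
    simp only [e, LinearMap.sum_apply]
    exact Fintype.sum_equiv (Equiv.mulRight h) _ _ fun g => by simp [map_mul]
  have hrange : ∀ v : V, e v ∈ Submodule.span k {e a} := by
    intro v
    have hv : v ∈ Submodule.span k {u : V | ∃ h : H, ρ h a = u} := hspan ▸ Submodule.mem_top
    suffices hle : Submodule.span k {u : V | ∃ h : H, ρ h a = u} ≤ (Submodule.span k {e a}).comap e from hle hv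
    rw [Submodule.span_le]
    rintro _ ⟨h, rfl⟩
    show e (ρ h a) ∈ Submodule.span k {e a}
    rw [hρe]; exact Submodule.mem_span_singleton_self _
  refine ⟨?_, fun b hcop h => ?_⟩
  · have hle : ρ.invariants ≤ Submodule.span k {e a} := by
      intro v hv
      have hev : e v = (Fintype.card H : k) • v := by
        simp only [e, LinearMap.sum_apply]
        rw [Finset.sum_congr rfl (fun g _ => hv g), Finset.sum_const, Finset.card_univ, Nat.cast_smul_eq_nsmul]
      have h2 := hrange v
      rw [hev] at h2
      simpa [hH0] using Submodule.smul_mem _ ((Fintype.card H : k)⁻¹) h2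
    refine (Submodule.finrank_mono hle).trans ?_
    simpa using finrank_span_le_card ({e a} : Set V)
  · letI : MulAction H V :=
      { smul := fun h v => ρ h v
        one_smul := fun v => by show ρ 1 v = v; simp
        mul_smul := fun g g' v => by show ρ (g * g') v = ρ g (ρ g' v); simp [map_mul] }
    set A := MulAction.stabilizer H a with hA
    set B := MulAction.stabilizer H b with hB
    have hOa : {u : V | ∃ h : H, ρ h a = u} = MulAction.orbit H a := rfl
    have hOb : {u : V | ∃ h : H, ρ h b = u} = MulAction.orbit H b := rfl
    rw [hOa, hOb, Nat.card_coe_set_eq, Nat.card_coe_set_eq, ← MulAction.index_stabilizer,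
      ← MulAction.index_stabilizer] at hcop
    have hrel : (A.subgroupOf B).index = A.index := by
      have h1 := Subgroup.relIndex_mul_index (inf_le_right : A ⊓ B ≤ B)
      rw [Subgroup.inf_relIndex_right] at h1
      have h2 : (A ⊓ B).index = A.index * B.index :=
        le_antisymm Subgroup.index_inf_le (Nat.le_of_dvd (Nat.pos_of_ne_zero Subgroup.index_ne_zero_of_finite)
          (hcop.mul_dvd_of_dvd_of_dvd (Subgroup.index_dvd_of_le inf_le_left) (Subgroup.index_dvd_of_le inf_le_right)))
      rw [h2] at h1
      exact mul_right_cancel₀ Subgroup.index_ne_zero_of_finite h1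
    have horb : MulAction.orbit B a = MulAction.orbit H a := by
      haveI : Finite (MulAction.orbit H a) := (Set.finite_range _).to_subtype
      refine Set.eq_of_subset_of_ncard_le ?_ ?_ (Set.finite_range _)
      · rintro _ ⟨t, rfl⟩; exact ⟨(t : H), rfl⟩
      · rw [← MulAction.index_stabilizer, ← MulAction.index_stabilizer]
        exact hrel.ge
    haveI := Fintype.ofFinite B
    let eB : V →ₗ[k] V := ∑ t : B, ρ (t : H)
    have hB0 : ((Fintype.card B : ℕ) : k) ≠ 0 := by
      intro h0
      apply hH0
      obtain ⟨c, hc⟩ := B.card_subgroup_dvd_card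
      rw [← Nat.card_eq_fintype_card, hc, Nat.cast_mul, Nat.card_eq_fintype_card, h0, zero_mul]
    have hBe : ∀ (g : H), eB (ρ g a) = eB a := by
      intro g
      obtain ⟨t, ht⟩ : ρ g a ∈ MulAction.orbit B a := horb ▸ ⟨g, rfl⟩
      have ht' : ρ (t : H) a = ρ g a := ht
      rw [← ht']
      simp only [eB, LinearMap.sum_apply]
      exact Fintype.sum_equiv (Equiv.mulRight t) _ _ fun u => by simp [map_mul]
    -- the `B`-average of `a` is fixed by `H`
    have hkey : (Fintype.card H : k) • eB a = (Fintype.card B : k) • e a := by
      have e1 : eB (e a) = (Fintype.card B : k) • e a := by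
        simp only [eB, LinearMap.sum_apply]
        refine (Finset.sum_congr rfl (fun (t : B) _ => heρ (t : H) a)).trans ?_
        rw [Finset.sum_const, Finset.card_univ, Nat.cast_smul_eq_nsmul]
      have e2 : eB (e a) = (Fintype.card H : k) • eB a := by
        simp only [e, LinearMap.sum_apply, map_sum]
        rw [Finset.sum_congr rfl (fun g _ => hBe g), Finset.sum_const, Finset.card_univ, Nat.cast_smul_eq_nsmul]
      rw [← e2, e1]
    have hfix : ρ h (eB a) = eB a := by
      have h1 := congrArg (ρ h) hkey
      rw [map_smul, map_smul, heρ, ← hkey] at h1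
      exact smul_right_injective V hH0 h1
    have hbspan : eB b ∈ Submodule.span k {eB a} := by
      have hv : b ∈ Submodule.span k {u : V | ∃ h : H, ρ h a = u} := hspan ▸ Submodule.mem_top
      suffices hle : Submodule.span k {u : V | ∃ h : H, ρ h a = u} ≤ (Submodule.span k {eB a}).comap eB from hle hv
      rw [Submodule.span_le]
      rintro _ ⟨g, rfl⟩
      show eB (ρ g a) ∈ Submodule.span k {eB a}
      rw [hBe]; exact Submodule.mem_span_singleton_self _
    have hbb : eB b = (Fintype.card B : k) • b := by
      simp only [eB, LinearMap.sum_apply]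
      rw [Finset.sum_congr rfl (fun (t : B) _ => (show ρ (t : H) b = b from t.2)), Finset.sum_const,
        Finset.card_univ, Nat.cast_smul_eq_nsmul]
    obtain ⟨c, hc⟩ := Submodule.mem_span_singleton.1 hbspan
    rw [hbb] at hc
    apply smul_right_injective V hB0
    show (Fintype.card B : k) • ρ h b = (Fintype.card B : k) • b
    rw [← map_smul, ← hc, map_smul, hfix]

end Cfsg.Agent.S4177
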