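import Cfsg.Statements.S4178
import Mathlib

set_option autoImplicit false
open Cfsg

namespace Cfsg.Agent.S4178

/-- Let F be a finite field with q elements, V a non-zero finite-dimensional F-space of dimension d, H a group of invertible linear maps of V, and R the subgroup of H generated by the elements of H that fix some non-zero vector (have eigenvalue 1). Then the index of R in H is at most q^d − 1; and if H leaves invariant some proper non-zero subspace, the index is at most q^(d/2) − 1. -/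
theorem result {F V : Type*} [Field F] [Fintype F] [AddCommGroup V] [Module F V] [FiniteDimensional F V] [Nontrivial V]
    (H : Subgroup (V ≃ₗ[F] V)) :
    (Subgroup.closure {h : ↥H | ∃ v : V, v ≠ 0 ∧ (h : V ≃ₗ[F] V) v = v}).index ≤ Fintype.card F ^ Module.finrank F V - 1 ∧
    ((∃ W : Submodule F V, W ≠ ⊥ ∧ W ≠ ⊤ ∧ ∀ h ∈ H, ∀ w ∈ W, h w ∈ W) →
      ((Subgroup.closure {h : ↥H | ∃ v : V, v ≠ 0 ∧ (h : V ≃ₗ[F] V) v = v}).index : ℝ) ≤ Real.sqrt ((Fintype.card F : ℝ) ^ Module.finrank F V) - 1) := by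
  classical
  set R := Subgroup.closure {h : ↥H | ∃ v : V, v ≠ 0 ∧ (h : V ≃ₗ[F] V) v = v} with hR
  haveI : Finite V := Module.finite_of_finite F
  haveI : Finite (V ≃ₗ[F] V) := Finite.of_injective (fun f : V ≃ₗ[F] V => (f : V → V)) DFunLike.coe_injective
  -- an orbit map with stabilizer inside `R` bounds the index
  have key : ∀ (X : Type _) [Finite X] (x0 : X) (f : H → X),
      (∀ a b : H, f a = f b → a⁻¹ * b ∈ R) → (∀ a, f a ≠ x0) → R.index ≤ Nat.card X - 1 := by
    intro X _ x0 f hf hf0
    haveI := Fintype.ofFinite X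
    have h1 : Nat.card (H ⧸ R) ≤ Nat.card {x : X // x ≠ x0} := by
      refine Nat.card_le_card_of_injective (fun q => ⟨f q.out, hf0 _⟩) fun q q' e => ?_
      rw [← QuotientGroup.out_eq' q, ← QuotientGroup.out_eq' q', QuotientGroup.eq]
      exact hf _ _ (congrArg Subtype.val e)
    rw [Subgroup.index_eq_card]
    refine h1.trans (le_of_eq ?_)
    rw [Nat.card_eq_fintype_card, Nat.card_eq_fintype_card, Fintype.card_subtype_compl,
      Fintype.card_subtype_eq]
  have hV : Nat.card V = Fintype.card F ^ Module.finrank F V := by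
    rw [Module.natCard_eq_pow_finrank (K := F), Nat.card_eq_fintype_card]
  constructor
  · obtain ⟨v, hv⟩ := exists_ne (0 : V)
    rw [← hV]
    refine key V 0 (fun h => (h : V ≃ₗ[F] V) v) (fun a b e => Subgroup.subset_closure ⟨v, hv, ?_⟩)
      fun a e => hv ((a : V ≃ₗ[F] V).map_eq_zero_iff.1 e)
    show (a : V ≃ₗ[F] V)⁻¹ ((b : V ≃ₗ[F] V) v) = v
    rw [← e]
    exact (a : V ≃ₗ[F] V).symm_apply_apply v
  · rintro ⟨W, hW0, hW1, hinv⟩
    set q := Fintype.card F with hq
    have hq1 : 1 ≤ q := Fintype.card_pos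
    have hW : R.index ≤ q ^ Module.finrank F W - 1 := by
      obtain ⟨⟨v, hvW⟩, hv⟩ := Submodule.ne_bot_iff _ |>.1 hW0 |> fun ⟨v, hv, hv0⟩ =>
        (⟨⟨v, hv⟩, hv0⟩ : ∃ v : W, (v : V) ≠ 0)
      haveI : Finite W := inferInstance
      rw [hq, ← Nat.card_eq_fintype_card, ← Module.natCard_eq_pow_finrank (K := F) (V := W)]
      refine key W 0 (fun h => ⟨(h : V ≃ₗ[F] V) v, hinv _ h.2 v hvW⟩)
        (fun a b e => Subgroup.subset_closure ⟨v, hv, ?_⟩)
        fun a e => hv ((a : V ≃ₗ[F] V).map_eq_zero_iff.1 (congrArg Subtype.val e))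
      show (a : V ≃ₗ[F] V)⁻¹ ((b : V ≃ₗ[F] V) v) = v
      rw [← show (a : V ≃ₗ[F] V) v = (b : V ≃ₗ[F] V) v from congrArg Subtype.val e]
      exact (a : V ≃ₗ[F] V).symm_apply_apply v
    have hQ : R.index ≤ q ^ Module.finrank F (V ⧸ W) - 1 := by
      obtain ⟨v, hv⟩ : ∃ v : V, v ∉ W := by
        by_contra h
        push_neg at h
        exact hW1 (eq_top_iff.2 fun v _ => h v)
      haveI : Finite (V ⧸ W) := Finite.of_surjective _ W.mkQ_surjective
      rw [hq, ← Nat.card_eq_fintype_card, ← Module.natCard_eq_pow_finrank (K := F) (V := V ⧸ W)]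
      refine key (V ⧸ W) 0 (fun h => Submodule.Quotient.mk ((h : V ≃ₗ[F] V) v)) (fun a b e => ?_) fun a e => ?_
      · set g : V ≃ₗ[F] V := ((a⁻¹ * b : H) : V ≃ₗ[F] V) with hg
        have hgW : g v - v ∈ W := by
          have e' := (Submodule.Quotient.eq W).1 e.symm
          have h2 := hinv _ (inv_mem a.2) _ e'
          rw [map_sub] at h2
          rw [show g v = (a : V ≃ₗ[F] V)⁻¹ ((b : V ≃ₗ[F] V) v) from rfl,
            show v = (a : V ≃ₗ[F] V)⁻¹ ((a : V ≃ₗ[F] V) v) from ((a : V ≃ₗ[F] V).symm_apply_apply v).symm]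
          convert h2 using 4 <;> simp
        by_cases hfix : ∃ w ∈ W, w ≠ 0 ∧ g w = w
        · obtain ⟨w, -, hw0, hw⟩ := hfix
          exact Subgroup.subset_closure ⟨w, hw0, hw⟩
        · push_neg at hfix
          let f : W →ₗ[F] W :=
            (((g : V →ₗ[F] V) - LinearMap.id).restrict fun w hw => sub_mem (hinv _ (a⁻¹ * b).2 w hw) hw)
          have hf : Function.Injective f := by
            rw [← LinearMap.ker_eq_bot, LinearMap.ker_eq_bot']
            intro w hw
            by_contra hw0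
            have h1 : g (w : V) - (w : V) = 0 := congrArg Subtype.val hw
            exact hfix w w.2 (fun e => hw0 (Subtype.ext e)) (sub_eq_zero.1 h1)
          obtain ⟨w, hw⟩ := (LinearMap.injective_iff_surjective.1 hf) ⟨g v - v, hgW⟩
          have h1 : g (w : V) - (w : V) = g v - v := congrArg Subtype.val hw
          refine Subgroup.subset_closure ⟨v - w, fun e => hv (sub_eq_zero.1 e ▸ w.2), ?_⟩
          show g (v - w) = v - w
          rw [map_sub]
          rw [sub_eq_sub_iff_add_eq_add] at h1 ⊢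
          rw [h1.symm]
          abel
      · have h1 := hinv _ (inv_mem a.2) _ ((Submodule.Quotient.mk_eq_zero W).1 e)
        exact hv (by simpa using h1)
    have hdim := Submodule.finrank_quotient_add_finrank W
    set j := min (Module.finrank F W) (Module.finrank F (V ⧸ W)) with hj
    have hle : R.index ≤ q ^ j - 1 := by
      rcases min_choice (Module.finrank F W) (Module.finrank F (V ⧸ W)) with h | h <;> rw [hj, h]
      · exact hW
      · exact hQ
    have hsq : ((q ^ j : ℕ) : ℝ) ≤ Real.sqrt ((q : ℝ) ^ Module.finrank F V) := by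
      refine Real.le_sqrt_of_sq_le ?_
      rw [← Nat.cast_pow, ← Nat.cast_pow, Nat.cast_le, ← pow_mul]
      exact Nat.pow_le_pow_right hq1 (by omega)
    have h1 : (R.index : ℝ) ≤ ((q ^ j - 1 : ℕ) : ℝ) := Nat.cast_le.2 hle
    rw [Nat.cast_sub (Nat.one_le_pow _ _ hq1), Nat.cast_one] at h1
    linarith

end Cfsg.Agent.S4178
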