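import Cfsg.Statements.S4184
import Cfsg.Agent.Lib.FGS.CoverCount
import Mathlib

set_option autoImplicit false
open Cfsg

namespace Cfsg.Agent.S4184

open Subgroup

/-- A Sylow subgroup for a prime dividing no class size is central. -/
theorem sylow_le_center {G : Type*} [Group G] [Finite G] {r : ℕ} [Fact r.Prime] (R : Sylow r G)
    (hr : ∀ x : G, ¬ r ∣ (centralizer ({x} : Set G)).index) : (R : Subgroup G) ≤ center G := by
  have hfree : CfsgLib.FGS.CoverCount.free G r = Set.univ := Set.eq_univ_of_forall hr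
  have h1 := CfsgLib.FGS.CoverCount.ncard_free_le r R
  rw [hfree, Set.ncard_univ] at h1
  set C := centralizer ((R : Subgroup G) : Set G) with hC
  have h2 : Nat.card (Sylow r G) * Nat.card C ≤ Nat.card G := by
    rw [R.card_eq_index_normalizer]
    refine le_trans (Nat.mul_le_mul_left _ (card_le_of_le (centralizer_le_normalizer _))) ?_
    exact (Subgroup.index_mul_card _).le
  have hn1 : 0 < Nat.card (Sylow r G) := Nat.card_pos
  have hn : Nat.card (Sylow r G) = 1 := by omega
  rw [hn, one_mul] at h1
  have hCtop : C = ⊤ := eq_top_of_le_card C (by omega)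
  intro y hy
  rw [mem_center_iff]
  intro g
  exact (mem_centralizer_iff.1 ((hCtop ▸ mem_top g : g ∈ C)) y hy).symm

theorem index_dvd_card' {G : Type*} [Group G] [Finite G] {x : G} {r : ℕ} :
    ((centralizer ({x} : Set G)).index).factorization r +
      (Nat.card (centralizer ({x} : Set G))).factorization r = (Nat.card G).factorization r := by
  conv_rhs => rw [← (centralizer ({x} : Set G)).index_mul_card]
  rw [Nat.factorization_mul index_ne_zero_of_finite Nat.card_pos.ne', Finsupp.add_apply]

theorem one_of_index {G : Type*} [Group G] (hZ : center G = ⊥) {g : G}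
    (h : (centralizer ({g} : Set G)).index = 1) : g = 1 := by
  rw [← Subgroup.mem_bot, ← hZ, mem_center_iff]
  exact fun u => mem_centralizer_singleton_iff.1 ((index_eq_one.1 h) ▸ mem_top u)

theorem not_both {G M : Type*} [Group G] [Finite G] [Group M] [Finite M]
    (hZG : center G = ⊥) (hZM : center M = ⊥)
    (h : Set.range (fun g : G => (centralizer ({g} : Set G)).index) =
      Set.range (fun g : M => (centralizer ({g} : Set M)).index))
    (A : ℕ → Prop)
    (hfull : ∀ x : M, x ≠ 1 →
      (∀ r : ℕ, r.Prime → A r → r ∣ Nat.card M → ¬ r ∣ Nat.card (centralizer ({x} : Set M))) ∨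
      (∀ r : ℕ, r.Prime → ¬ A r → r ∣ Nat.card M → ¬ r ∣ Nat.card (centralizer ({x} : Set M))))
    {p q : ℕ} [Fact p.Prime] [Fact q.Prime] (hpA : A p) (hqA : ¬ A q) (hpM : p ∣ Nat.card M)
    (hqM : q ∣ Nat.card M) (hMG : Nat.card M ∣ Nat.card G)
    (hk : (Nat.card M).factorization p < (Nat.card G).factorization p) : False := by
  set f := fun r => (Nat.card G).factorization r with hf
  set m := fun r => (Nat.card M).factorization r with hm
  -- the class sizes of `G` come from `M`
  have hcls : ∀ g : G, g ≠ 1 → ∃ x : M, x ≠ 1 ∧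
      (centralizer ({x} : Set M)).index = (centralizer ({g} : Set G)).index := by
    intro g hg
    obtain ⟨x, hx⟩ : (centralizer ({g} : Set G)).index ∈
        Set.range (fun g : M => (centralizer ({g} : Set M)).index) := h ▸ ⟨g, rfl⟩
    refine ⟨x, fun hx1 => hg (one_of_index hZG ?_), hx⟩
    rw [← hx]
    show (centralizer ({x} : Set M)).index = 1
    rw [hx1, index_eq_one, eq_top_iff]
    exact fun u _ => mem_centralizer_singleton_iff.2 (by rw [mul_one, one_mul])
  have hle : ∀ g : G, g ≠ 1 → ∀ r, ((centralizer ({g} : Set G)).index).factorization r ≤ m r := by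
    intro g hg r
    obtain ⟨x, -, hx⟩ := hcls g hg
    rw [← hx, hm]
    exact (Nat.factorization_le_iff_dvd index_ne_zero_of_finite Nat.card_pos.ne').2
      (index_dvd_card _) r
  have hside : ∀ g : G, g ≠ 1 →
      (∀ r : ℕ, r.Prime → A r → r ∣ Nat.card M → ((centralizer ({g} : Set G)).index).factorization r = m r) ∨
      (∀ r : ℕ, r.Prime → ¬ A r → r ∣ Nat.card M → ((centralizer ({g} : Set G)).index).factorization r = m r) := by
    intro g hg
    obtain ⟨x, hx1, hx⟩ := hcls g hg
    have key : ∀ r, ¬ r ∣ Nat.card (centralizer ({x} : Set M)) →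
        ((centralizer ({g} : Set G)).index).factorization r = m r := fun r hr => by
      have := index_dvd_card' (x := x) (r := r)
      rw [Nat.factorization_eq_zero_of_not_dvd hr, add_zero, hx] at this
      exact this
    exact (hfull x hx1).imp (fun h r a b c => key r (h r a b c)) (fun h r a b c => key r (h r a b c))
  have hm1 : ∀ r : ℕ, r.Prime → r ∣ Nat.card M → 0 < m r := fun r hr hd =>
    hr.factorization_pos_of_dvd Nat.card_pos.ne' hd
  -- a central element of a Sylow subgroup
  have hcent : ∀ (r : ℕ) [Fact r.Prime] (P : Subgroup G), IsPGroup r P → P ≠ ⊥ →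
      ∃ z ∈ P, z ≠ 1 ∧ P ≤ centralizer ({z} : Set G) ∧ ∃ k, orderOf z = r ^ k := by
    intro r _ P hP hne
    haveI : Nontrivial P := (nontrivial_iff_ne_bot P).2 hne
    haveI := hP.center_nontrivial
    obtain ⟨⟨⟨z, hzP⟩, hzc⟩, hz1⟩ := exists_ne (1 : center P)
    refine ⟨z, hzP, fun e => hz1 (Subtype.ext (Subtype.ext e)), fun u hu =>
      mem_centralizer_singleton_iff.2 (congrArg Subtype.val (mem_center_iff.1 hzc ⟨u, hu⟩)), ?_⟩
    obtain ⟨k, hk⟩ := hP ⟨z, hzP⟩
    obtain ⟨i, -, hi⟩ := (Nat.dvd_prime_pow (Fact.out : r.Prime)).1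
      (orderOf_dvd_of_pow_eq_one (congrArg Subtype.val hk : z ^ r ^ k = 1))
    exact ⟨i, hi⟩
  obtain ⟨Q⟩ : Nonempty (Sylow q G) := inferInstance
  obtain ⟨y, hyQ, hy1, hQy, ky, hky⟩ := hcent q (Q : Subgroup G) Q.isPGroup'
    (Q.ne_bot_of_dvd_card (hqM.trans hMG))
  have hyA : ∀ r : ℕ, r.Prime → A r → r ∣ Nat.card M →
      ((centralizer ({y} : Set G)).index).factorization r = m r := by
    refine (hside y hy1).resolve_right fun hB => ?_
    have h1 := hB q Fact.out hqA hqM
    rw [Nat.factorization_eq_zero_of_not_dvd (fun hd => Q.not_dvd_index (hd.trans (index_dvd_of_le hQy)))] at h1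
    exact absurd h1.symm (hm1 q Fact.out hqM).ne'
  -- the `p`-part of its centraliser
  obtain ⟨W₀⟩ : Nonempty (Sylow p (centralizer ({y} : Set G))) := inferInstance
  set W := (W₀ : Subgroup (centralizer ({y} : Set G))).map (Subgroup.subtype _) with hW
  have hWp : IsPGroup p W := W₀.isPGroup'.map _
  have hWy : W ≤ centralizer ({y} : Set G) := map_subtype_le _
  have hWcard : Nat.card W = p ^ (f p - m p) := by
    rw [hW, card_map_of_injective (Subgroup.subtype_injective _), Sylow.card_eq_multiplicity]
    have h1 := index_dvd_card' (x := y) (r := p)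
    rw [hyA p Fact.out hpA hpM] at h1
    congr 1
    simp only [hf]
    omega
  have hkp : 0 < f p - m p := by simp only [hf, hm]; omega
  have hWne : W ≠ ⊥ := fun e => by
    rw [e, card_bot] at hWcard
    exact (Nat.one_lt_pow hkp.ne' (Fact.out : p.Prime).one_lt).ne hWcard
  obtain ⟨P, hWP⟩ := hWp.exists_le_sylow
  obtain ⟨z, hzP, hz1, hPz, kz, hkz⟩ := hcent p (P : Subgroup G) P.isPGroup'
    (fun e => hWne (le_bot_iff.1 (hWP.trans e.le)))
  obtain ⟨w, hwy, hw1, hwlt, kw, hkw⟩ : ∃ w ∈ centralizer ({y} : Set G), w ≠ 1 ∧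
      ((centralizer ({w} : Set G)).index).factorization p < m p ∧ ∃ k, orderOf w = p ^ k := by
    by_cases hzW : z ∈ W
    · refine ⟨z, hWy hzW, hz1, ?_, kz, hkz⟩
      rw [Nat.factorization_eq_zero_of_not_dvd
        (fun hd => P.not_dvd_index (hd.trans (index_dvd_of_le hPz)))]
      exact hm1 p Fact.out hpM
    · obtain ⟨w, hwW, hw1, hWw, hwo⟩ := hcent p W hWp hWne
      refine ⟨w, hWy hwW, hw1, ?_, hwo⟩
      set K := W ⊔ zpowers z
      have hKP : K ≤ (P : Subgroup G) := sup_le hWP (zpowers_le.2 hzP)
      have hKw : K ≤ centralizer ({w} : Set G) := sup_le hWw (zpowers_le.2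
        (mem_centralizer_singleton_iff.2 (mem_centralizer_singleton_iff.1 (hPz (hWP hwW))).symm))
      obtain ⟨j, hj⟩ := IsPGroup.iff_card.1 (P.isPGroup'.to_le hKP)
      have hlt : f p - m p < j := by
        by_contra hcon
        have : W = K := Subgroup.eq_of_le_of_card_ge le_sup_left (by
          rw [hj, hWcard]; exact Nat.pow_le_pow_right (Fact.out : p.Prime).pos (by omega))
        exact hzW (this ▸ mem_sup_right (mem_zpowers z))
      have h1 : j ≤ (Nat.card (centralizer ({w} : Set G))).factorization p :=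
        ((Fact.out : p.Prime).pow_dvd_iff_le_factorization Nat.card_pos.ne').1
          (hj ▸ card_dvd_of_le hKw)
      have h2 := index_dvd_card' (x := w) (r := p)
      simp only [hf, hm] at *
      omega
  have hwB := (hside w hw1).resolve_left fun hA => hwlt.ne (hA p Fact.out hpA hpM)
  -- the product has too small a centraliser
  set u := y * w
  have hc : Commute y w := (mem_centralizer_singleton_iff.1 hwy).symm
  have hcop : (orderOf y).Coprime (orderOf w) := by
    rw [hky, hkw]
    exact Nat.coprime_pow_primes _ _ Fact.out Fact.out (fun e => hqA (e ▸ hpA))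
  have hpart : ∀ a b : G, Commute a b → (orderOf a).Coprime (orderOf b) →
      centralizer ({a * b} : Set G) ≤ centralizer ({a} : Set G) := by
    intro a b hab hco g hg
    obtain ⟨i, hi⟩ := exists_pow_eq_self_of_coprime hco.symm
    have h1 : Commute g ((a * b) ^ orderOf b) :=
      (show Commute g (a * b) from mem_centralizer_singleton_iff.1 hg).pow_right _
    rw [hab.mul_pow, pow_orderOf_eq_one, mul_one] at h1
    exact mem_centralizer_singleton_iff.2 (hi ▸ h1.pow_right i).eq
  have hu1 : u ≠ 1 := by
    intro e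
    refine hy1 ?_
    have h1 := hc.orderOf_mul_eq_mul_orderOf_of_coprime hcop
    rw [show y * w = 1 from e, orderOf_one] at h1
    exact orderOf_eq_one_iff.1 (Nat.eq_one_of_mul_eq_one_right h1.symm)
  have huy : ∀ r, ((centralizer ({y} : Set G)).index).factorization r ≤
      ((centralizer ({u} : Set G)).index).factorization r := fun r =>
    (Nat.factorization_le_iff_dvd index_ne_zero_of_finite index_ne_zero_of_finite).2
      (index_dvd_of_le (hpart y w hc hcop)) r
  have huw : ∀ r, ((centralizer ({w} : Set G)).index).factorization r ≤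
      ((centralizer ({u} : Set G)).index).factorization r := fun r =>
    (Nat.factorization_le_iff_dvd index_ne_zero_of_finite index_ne_zero_of_finite).2
      (index_dvd_of_le (by
        have e : u = w * y := hc.eq
        rw [e]
        exact hpart w y hc.symm hcop.symm)) r
  obtain ⟨x, hx1, hx⟩ := hcls u hu1
  have hidx : Nat.card M ∣ (centralizer ({x} : Set M)).index := by
    rw [← Nat.factorization_le_iff_dvd Nat.card_pos.ne' index_ne_zero_of_finite, hx]
    intro r
    by_cases hr : r ∈ (Nat.card M).primeFactors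
    · have hrp := Nat.prime_of_mem_primeFactors hr
      have hrd := Nat.dvd_of_mem_primeFactors hr
      by_cases hA : A r
      · exact (hyA r hrp hA hrd).ge.trans (huy r)
      · exact (hwB r hrp hA hrd).ge.trans (huw r)
    · rw [← Nat.support_factorization, Finsupp.notMem_support_iff] at hr
      rw [hr]; exact Nat.zero_le _
  have h1 : Nat.card (centralizer ({x} : Set M)) = 1 := by
    have h2 := (centralizer ({x} : Set M)).card_mul_index
    obtain ⟨c, hcc⟩ := hidx
    rw [hcc, ← mul_assoc, mul_comm, mul_comm _ (Nat.card M)] at h2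
    have : Nat.card M * (Nat.card (centralizer ({x} : Set M)) * c) = Nat.card M * 1 := by
      rw [mul_one]
      calc Nat.card M * (Nat.card (centralizer ({x} : Set M)) * c) = c * (Nat.card M *
            Nat.card (centralizer ({x} : Set M))) := by ring
        _ = Nat.card M := h2
    exact Nat.eq_one_of_mul_eq_one_right (Nat.eq_of_mul_eq_mul_left Nat.card_pos this)
  exact hx1 (Subgroup.mem_bot.1
    (Subgroup.eq_bot_of_card_eq _ h1 ▸ mem_centralizer_singleton_iff.2 rfl))


/-- Let G and M be finite groups with trivial centres and the same set of conjugacy class sizes, and suppose the prime graph of M is disconnected: the prime divisors of #M split into two non-empty parts such that M has no element of order pq with p in one part and q in the other. Then #G = #M. -/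
theorem result {G M : Type*}
    [Group G] [Finite G] [Group M] [Finite M] (hZG : Subgroup.center G = ⊥) (hZM : Subgroup.center M = ⊥)
    (h : Set.range (fun g : G => (Subgroup.centralizer ({g} : Set G)).index) = Set.range (fun g : M => (Subgroup.centralizer ({g} : Set M)).index))
    (hdisc : ∃ A : Set ℕ, (∃ a ∈ A, a.Prime ∧ a ∣ Nat.card M) ∧ (∃ b ∉ A, b.Prime ∧ b ∣ Nat.card M) ∧
      ∀ a ∈ A, ∀ b ∉ A, a.Prime → b.Prime → a ∣ Nat.card M → b ∣ Nat.card M → ¬ ∃ x : M, orderOf x = a * b) :
    Nat.card G = Nat.card M := by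
  classical
  obtain ⟨A, ⟨a, haA, ha, had⟩, ⟨b, hbA, hb, hbd⟩, hno⟩ := hdisc
  -- centralisers in `M` see one side only
  have hfull : ∀ x : M, x ≠ 1 →
      (∀ r : ℕ, r.Prime → r ∈ A → r ∣ Nat.card M → ¬ r ∣ Nat.card (Subgroup.centralizer ({x} : Set M))) ∨
      (∀ r : ℕ, r.Prime → ¬ r ∈ A → r ∣ Nat.card M → ¬ r ∣ Nat.card (Subgroup.centralizer ({x} : Set M))) := by
    intro x hx
    obtain ⟨s, hs, hsd⟩ := Nat.exists_prime_and_dvd (mt orderOf_eq_one_iff.1 hx)
    have hsM : s ∣ Nat.card M := hsd.trans (orderOf_dvd_natCard x)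
    have key : ∀ r : ℕ, r.Prime → r ≠ s → r ∣ Nat.card (Subgroup.centralizer ({x} : Set M)) →
        ∃ g : M, orderOf g = r * s := by
      intro r hr hrs hd
      haveI : Fact r.Prime := ⟨hr⟩
      obtain ⟨⟨c, hc⟩, hco⟩ := exists_prime_orderOf_dvd_card' r hd
      rw [← Subgroup.orderOf_coe] at hco
      set x' := x ^ (orderOf x / s)
      have hx' : orderOf x' = s := by
        rw [orderOf_pow_of_dvd (Nat.div_ne_zero_iff.2 ⟨hs.ne_zero,
          Nat.le_of_dvd (orderOf_pos x) hsd⟩) (Nat.div_dvd_of_dvd hsd),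
          Nat.div_div_self hsd (orderOf_pos x).ne']
      refine ⟨c * x', ?_⟩
      have hcc : Commute c x' := (show Commute c x from
        Subgroup.mem_centralizer_singleton_iff.1 hc).pow_right _
      rw [hcc.orderOf_mul_eq_mul_orderOf_of_coprime (by
        rw [hx', hco]; exact (Nat.coprime_primes hr hs).2 hrs), hx', hco]
    by_cases hsA : s ∈ A
    · refine Or.inr fun r hr hrA hrM hd => ?_
      obtain ⟨g, hg⟩ := key r hr (fun e => hrA (e ▸ hsA)) hd
      exact hno s hsA r hrA hs hr hsM hrM ⟨g, by rw [hg, mul_comm]⟩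
    · refine Or.inl fun r hr hrA hrM hd => ?_
      obtain ⟨g, hg⟩ := key r hr (fun e => hsA (e ▸ hrA)) hd
      exact hno r hrA s hsA hr hs hrM hsM ⟨g, hg⟩
  have hfullpart : ∀ r : ℕ, r.Prime → r ∣ Nat.card M → ∃ x : M,
      ((Subgroup.centralizer ({x} : Set M)).index).factorization r = (Nat.card M).factorization r := by
    intro r hr hrd
    obtain ⟨s, hs, hsd, hside⟩ : ∃ s, s.Prime ∧ s ∣ Nat.card M ∧ ((r ∈ A ∧ s ∉ A) ∨ (r ∉ A ∧ s ∈ A)) :=
      if hrA : r ∈ A then ⟨b, hb, hbd, Or.inl ⟨hrA, hbA⟩⟩ else ⟨a, ha, had, Or.inr ⟨hrA, haA⟩⟩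
    haveI : Fact s.Prime := ⟨hs⟩
    obtain ⟨x, hx⟩ := exists_prime_orderOf_dvd_card' (G := M) s hsd
    refine ⟨x, ?_⟩
    have hx1 : x ≠ 1 := fun e => hs.one_lt.ne (by rw [← hx, e, orderOf_one])
    have hsC : s ∣ Nat.card (Subgroup.centralizer ({x} : Set M)) := by
      rw [← hx, ← Nat.card_zpowers]
      exact Subgroup.card_dvd_of_le (Subgroup.zpowers_le.2 (Subgroup.mem_centralizer_singleton_iff.2 rfl))
    have hrC : ¬ r ∣ Nat.card (Subgroup.centralizer ({x} : Set M)) := by
      rcases hfull x hx1 with h1 | h1 <;> rcases hside with ⟨p1, p2⟩ | ⟨p1, p2⟩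
      · exact h1 r hr p1 hrd
      · exact absurd hsC (h1 s hs p2 hsd)
      · exact absurd hsC (h1 s hs p2 hsd)
      · exact h1 r hr p1 hrd
    have := index_dvd_card' (x := x) (r := r)
    rwa [Nat.factorization_eq_zero_of_not_dvd hrC, add_zero] at this
  have hMG : Nat.card M ∣ Nat.card G := by
    rw [← Nat.factorization_le_iff_dvd Nat.card_pos.ne' Nat.card_pos.ne']
    intro r
    by_cases hr : r ∈ (Nat.card M).primeFactors
    · obtain ⟨x, hx⟩ := hfullpart r (Nat.prime_of_mem_primeFactors hr) (Nat.dvd_of_mem_primeFactors hr)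
      obtain ⟨g, hg⟩ : (Subgroup.centralizer ({x} : Set M)).index ∈
          Set.range (fun g : G => (Subgroup.centralizer ({g} : Set G)).index) := h ▸ ⟨x, rfl⟩
      have := index_dvd_card' (x := g) (r := r)
      rw [← hx, ← hg]
      show ((Subgroup.centralizer ({g} : Set G)).index).factorization r ≤ _
      omega
    · rw [← Nat.support_factorization, Finsupp.notMem_support_iff] at hr
      rw [hr]; exact Nat.zero_le _
  by_contra hne
  have hex : ∃ p : ℕ, p.Prime ∧ (Nat.card M).factorization p < (Nat.card G).factorization p := by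
    by_contra hcon
    push Not at hcon
    refine hne (Nat.dvd_antisymm ?_ hMG)
    rw [← Nat.factorization_le_iff_dvd Nat.card_pos.ne' Nat.card_pos.ne']
    intro r
    by_cases hr : r.Prime
    · exact hcon r hr
    · rw [Nat.factorization_eq_zero_of_not_prime _ hr]; exact Nat.zero_le _
  obtain ⟨p, hp, hlt⟩ := hex
  haveI : Fact p.Prime := ⟨hp⟩
  by_cases hpM : p ∣ Nat.card M
  · by_cases hpA : p ∈ A
    · haveI : Fact b.Prime := ⟨hb⟩
      exact not_both hZG hZM h (fun r => r ∈ A) hfull hpA hbA hpM hbd hMG hlt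
    · haveI : Fact a.Prime := ⟨ha⟩
      exact not_both hZG hZM h (fun r => r ∉ A) (fun x hx => (hfull x hx).symm.imp id
        (fun h r hr hrA => h r hr (not_not.1 hrA))) hpA (not_not.2 haA) hpM had hMG hlt
  · obtain ⟨P⟩ : Nonempty (Sylow p G) := inferInstance
    have hle := sylow_le_center P fun g hd => by
      obtain ⟨x, hx⟩ : (Subgroup.centralizer ({g} : Set G)).index ∈
          Set.range (fun g : M => (Subgroup.centralizer ({g} : Set M)).index) := h ▸ ⟨g, rfl⟩
      rw [← hx] at hd
      exact hpM (hd.trans (Subgroup.index_dvd_card _))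
    rw [hZG, le_bot_iff] at hle
    refine P.ne_bot_of_dvd_card ?_ hle
    exact Nat.dvd_of_factorization_pos (by omega)

end Cfsg.Agent.S4184
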