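import Cfsg.Statements.S4186
import Mathlib.GroupTheory.PGroup

set_option autoImplicit false
open Cfsg

namespace Cfsg.Agent.S4186

/-- Let T and X be subgroups of a group with T a finite 2-group normalizing X but not centralizing it. Then some element of T inverts some non-identity element of X under conjugation. -/
theorem result {G : Type*} [Group G] (T X : Subgroup G) [Finite ↥T] (hT : IsPGroup 2 ↥T) (hTN : T ≤ Subgroup.normalizer (X : Set G)) (hTC : ¬ T ≤ Subgroup.centralizer (X : Set G)) : ∃ t ∈ T, ∃ x ∈ X, x ≠ 1 ∧ t * x * t⁻¹ = x⁻¹ := by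
  classical
  have key : ∀ (k : ℕ) (t : G), t ∈ T → t ^ 2 ^ k = 1 → t ∉ Subgroup.centralizer (X : Set G) →
      ∃ t ∈ T, ∃ x ∈ X, x ≠ 1 ∧ t * x * t⁻¹ = x⁻¹ := by
    intro k
    induction k with
    | zero => intro t _ h1 hC; exfalso; apply hC; simp at h1; simp [h1]
    | succ k ih =>
      intro t ht h1 hC
      by_cases h2 : t ^ 2 ∈ Subgroup.centralizer (X : Set G)
      · obtain ⟨x, hx, hne⟩ : ∃ x ∈ X, x * t ≠ t * x := by
          by_contra hcon
          push Not at hcon
          exact hC (Subgroup.mem_centralizer_iff.2 fun x hx => hcon x hx)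
        have hy : t * x * t⁻¹ ∈ X := (Subgroup.mem_normalizer_iff.1 (hTN ht) x).1 hx
        refine ⟨t, ht, x⁻¹ * (t * x * t⁻¹), mul_mem (inv_mem hx) hy, ?_, ?_⟩
        · intro h
          rw [inv_mul_eq_one] at h
          exact hne (eq_mul_inv_iff_mul_eq.1 h)
        · have h3 := Subgroup.mem_centralizer_iff.1 h2 x hx
          rw [pow_two] at h3
          calc t * (x⁻¹ * (t * x * t⁻¹)) * t⁻¹ = (t * x⁻¹ * t⁻¹) * (t * t * x * (t * t)⁻¹) := by group
            _ = (t * x⁻¹ * t⁻¹) * x := by rw [← h3]; group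
            _ = (x⁻¹ * (t * x * t⁻¹))⁻¹ := by group
      · exact ih (t ^ 2) (pow_mem ht 2) (by rwa [← pow_mul, ← pow_succ']) h2
  obtain ⟨t, ht, htC⟩ := SetLike.not_le_iff_exists.1 hTC
  obtain ⟨k, hk⟩ := hT ⟨t, ht⟩
  exact key k t ht (congrArg Subtype.val hk) htC

end Cfsg.Agent.S4186
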