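import Cfsg.Statements.S4188
import Cfsg.Agent.Lib.FGS.TwoGroupRank
import Mathlib

set_option autoImplicit false
open Cfsg

namespace Cfsg.Agent.S4188

/-- Let G be a finite group that is the semidirect product of a normal abelian subgroup N of odd order by a 2-subgroup P, and suppose N is the unique minimal normal subgroup of G. Then the index of the Frattini subgroup of P in P is at most #N − 1. -/
theorem result {G : Type*} [Group G] [Finite G] (N P : Subgroup G) (hN : N.Normal) (hNab : IsMulCommutative ↥N) (hNodd : Odd (Nat.card ↥N)) (hP : IsPGroup 2 ↥P) (hdisj : N ⊓ P = ⊥) (hprod : N ⊔ P = ⊤) (hmin : N ≠ ⊥ ∧ ∀ M : Subgroup G, M.Normal → M ≠ ⊥ → N ≤ M) : (frattini ↥P).index ≤ Nat.card ↥N - 1 := by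
  haveI := hN
  letI : CommGroup ↥N := { (inferInstance : Group ↥N) with mul_comm := fun a b => hNab.is_comm.comm a b }
  let φ : ↥P →* MulAut ↥N := (MulAut.conjNormal (H := N)).comp P.subtype
  have hval : ∀ (x : ↥P) (n : ↥N), ((φ x n : ↥N) : G) = (x : G) * n * (x : G)⁻¹ := fun x n =>
    MulAut.conjNormal_apply _ _
  -- the action is faithful
  set K : Subgroup G := P ⊓ Subgroup.centralizer (N : Set G) with hK
  have hKn : K.Normal := by
    have htop : N ⊔ P ≤ Subgroup.normalizer (K : Set G) := by
      refine sup_le ?_ ?_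
      · refine le_trans ?_ (Subgroup.centralizer_le_normalizer (K : Set G))
        intro n hn
        rw [Subgroup.mem_centralizer_iff]
        intro x hx
        exact (Subgroup.mem_centralizer_iff.1 (Subgroup.mem_inf.1 hx).2 n hn).symm
      · haveI : (Subgroup.centralizer (N : Set G)).Normal := inferInstance
        refine le_trans (le_inf Subgroup.le_normalizer ?_) Subgroup.inf_normalizer_le_normalizer_inf
        rw [Subgroup.normalizer_eq_top_iff.2 inferInstance]
        exact le_top
    rw [hprod, top_le_iff] at htop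
    exact Subgroup.normalizer_eq_top_iff.1 htop
  have hKb : K = ⊥ := by
    by_contra h
    exact hmin.1 (eq_bot_iff.2 ((le_inf le_rfl (hmin.2 K hKn h |>.trans inf_le_left)).trans hdisj.le))
  have hinj : Function.Injective φ := by
    rw [injective_iff_map_eq_one]
    intro x hx
    refine Subtype.ext (Subgroup.mem_bot.1 (hKb ▸ Subgroup.mem_inf.2 ⟨x.2, ?_⟩))
    rw [Subgroup.mem_centralizer_iff]
    intro n hn
    have := hval x ⟨n, hn⟩
    rw [hx, MulAut.one_apply] at this
    exact (eq_mul_inv_iff_mul_eq.1 this)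
  have h1 : 1 < Nat.card ↥N := (Subgroup.one_lt_card_iff_ne_bot _).2 hmin.1
  rcases CfsgLib.FGS.TwoGroupRank.bound_aux _ rfl h1 hNodd hP φ hinj with h | ⟨h3, h⟩
  · have : 0 < (frattini ↥P).index := Nat.pos_of_ne_zero Subgroup.index_ne_zero_of_finite
    omega
  · omega

end Cfsg.Agent.S4188
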