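import Cfsg.Statements.S4192
import Cfsg.Agent.Lib.FGS.RealGraph.Structure

set_option autoImplicit false
open Cfsg

namespace Cfsg.Agent.S4192

/-- Let G be a finite group; call an element real when it is conjugate to its inverse, and say that the real-class-size graph of a group is disconnected when the primes dividing its real class sizes split into two non-empty disjoint parts with no real class size divisible by a prime from each part. If the real-class-size graph of G is disconnected, then some real class size of G is even, and either the Sylow 2-subgroups of G are normal, or the subgroup K generated by the 2-elements of G (the smallest normal subgroup of odd index) again has a disconnected real-class-size graph and every real class size of K is odd or a power of 2. -/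
theorem result {G : Type*} [Group G] [Finite G] (h : (∃ π₁ π₂ : Set ℕ, π₁.Nonempty ∧ π₂.Nonempty ∧ Disjoint π₁ π₂ ∧ (∀ q ∈ π₁ ∪ π₂, q.Prime ∧ ∃ n ∈ {n : ℕ | ∃ x : G, IsConj x x⁻¹ ∧ (Subgroup.centralizer ({x} : Set G)).index = n}, q ∣ n) ∧ (∀ q : ℕ, q.Prime → (∃ n ∈ {n : ℕ | ∃ x : G, IsConj x x⁻¹ ∧ (Subgroup.centralizer ({x} : Set G)).index = n}, q ∣ n) → q ∈ π₁ ∨ q ∈ π₂) ∧ ∀ a ∈ π₁, ∀ b ∈ π₂, ∀ n ∈ {n : ℕ | ∃ x : G, IsConj x x⁻¹ ∧ (Subgroup.centralizer ({x} : Set G)).index = n}, ¬ (a ∣ n ∧ b ∣ n))) : (∃ n ∈ {n : ℕ | ∃ x : G, IsConj x x⁻¹ ∧ (Subgroup.centralizer ({x} : Set G)).index = n}, 2 ∣ n) ∧ ((∀ P : Sylow 2 G, (P : Subgroup G).Normal) ∨ ((∃ π₁ π₂ : Set ℕ, π₁.Nonempty ∧ π₂.Nonempty ∧ Disjoint π₁ π₂ ∧ (∀ q ∈ π₁ ∪ π₂, q.Prime ∧ ∃ n ∈ {n : ℕ | ∃ x : ↥(Subgroup.closure {g : G | ∃ k : ℕ, orderOf g = 2 ^ k}), IsConj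 x x⁻¹ ∧ (Subgroup.centralizer ({x} : Set ↥(Subgroup.closure {g : G | ∃ k : ℕ, orderOf g = 2 ^ k}))).index = n}, q ∣ n) ∧ (∀ q : ℕ, q.Prime → (∃ n ∈ {n : ℕ | ∃ x : ↥(Subgroup.closure {g : G | ∃ k : ℕ, orderOf g = 2 ^ k}), IsConj x x⁻¹ ∧ (Subgroup.centralizer ({x} : Set ↥(Subgroup.closure {g : G | ∃ k : ℕ, orderOf g = 2 ^ k}))).index = n}, q ∣ n) → q ∈ π₁ ∨ q ∈ π₂) ∧ ∀ a ∈ π₁, ∀ b ∈ π₂, ∀ n ∈ {n : ℕ | ∃ x : ↥(Subgroup.closure {g : G | ∃ k : ℕ, orderOf g = 2 ^ k}), IsConj x x⁻¹ ∧ (Subgroup.centralizer ({x} : Set ↥(Subgroup.closure {g : G | ∃ k : ℕ, orderOf g = 2 ^ k}))).index = n}, ¬ (a ∣ n ∧ b ∣ n)) ∧ ∀ n ∈ {n : ℕ | ∃ x : ↥(Subgroup.closure {g : G | ∃ k : ℕ, orderOf g = 2 ^ k}), IsConj x x⁻¹ ∧ (Subgroup.centralizer ({x} : Set ↥(Subgroup.closure {g : G | ∃ k : ℕ, orderOf g = 2 ^ k}))).index = n}, Odd n ∨ ∃ j : ℕ,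 n = 2 ^ j)) := by
  classical
  obtain ⟨π₁, π₂, h₁, h₂, hdisj, hsub, hcover, hnoedge⟩ := h
  wlog h2w : 2 ∉ π₂ generalizing π₁ π₂
  · refine this π₂ π₁ h₂ h₁ hdisj.symm (fun q hq => hsub q hq.symm)
      (fun q hq hn => (hcover q hq hn).symm)
      (fun a ha b hb n hn hab => hnoedge b hb a ha n hn hab.symm)
      (fun hm => h2w fun hm2 => Set.disjoint_left.1 hdisj hm hm2)
  have hcov : ∀ q : ℕ, q.Prime → ∀ x g : G, g * x * g⁻¹ = x⁻¹ →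
      q ∣ CfsgLib.FGS.RealGraph.cls x → q ∈ π₁ ∨ q ∈ π₂ :=
    fun q hq x g hx hd => hcover q hq ⟨_, ⟨x, isConj_iff.2 ⟨g, hx⟩, rfl⟩, hd⟩
  have hedge : ∀ a ∈ π₁, ∀ b ∈ π₂, ∀ x g : G, g * x * g⁻¹ = x⁻¹ →
      ¬ (a ∣ CfsgLib.FGS.RealGraph.cls x ∧ b ∣ CfsgLib.FGS.RealGraph.cls x) :=
    fun a ha b hb x g hx => hnoedge a ha b hb _ ⟨x, isConj_iff.2 ⟨g, hx⟩, rfl⟩
  have hvert : ∀ q ∈ π₁ ∪ π₂, q.Prime ∧ ∃ x g : G, g * x * g⁻¹ = x⁻¹ ∧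
      q ∣ CfsgLib.FGS.RealGraph.cls x := by
    intro q hq
    obtain ⟨hqp, n, ⟨x, hx, rfl⟩, hd⟩ := hsub q hq
    obtain ⟨g, hg⟩ := isConj_iff.1 hx
    exact ⟨hqp, x, g, hg, hd⟩
  obtain ⟨p₁, hp₁⟩ := h₁
  obtain ⟨p₂, hp₂⟩ := h₂
  obtain ⟨x, g, hx, hev⟩ := CfsgLib.FGS.RealGraph.exists_even_real π₁ π₂ hcov
    ⟨p₁, hp₁, hvert p₁ (Or.inl hp₁)⟩ ⟨p₂, hp₂, hvert p₂ (Or.inr hp₂)⟩ hedge
  refine ⟨⟨_, ⟨x, isConj_iff.2 ⟨g, hx⟩, rfl⟩, hev⟩, ?_⟩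
  have h21 : 2 ∈ π₁ := (hcov 2 Nat.prime_two x g hx hev).resolve_right h2w
  by_cases hn : ∀ P : Sylow 2 G, (P : Subgroup G).Normal
  · exact Or.inl hn
  refine Or.inr ?_
  push Not at hn
  obtain ⟨P, hP⟩ := hn
  set K := Subgroup.closure {g : G | ∃ k : ℕ, orderOf g = 2 ^ k} with hKdef
  haveI : K.Normal := CfsgLib.FGS.RealGraph.normal_closure_of_conj fun y ⟨a, ha⟩ c =>
    ⟨a, (CfsgLib.Invol.orderOf_conj_eq c y).trans ha⟩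
  obtain ⟨⟨x₁, g₁, hx₁, hev₁⟩, ⟨p, hp, hpp, x₂, g₂, hx₂, hd₂⟩, hpow⟩ :=
    CfsgLib.FGS.RealGraph.structure_of_split π₁ π₂ ⟨p₂, hp₂⟩ hcov
      (fun q hq => hvert q (Or.inr hq)) h21 hdisj hedge K hKdef P hP
  have hdown : ∀ (q : ℕ) (y c : K), c * y * c⁻¹ = y⁻¹ → q ∣ CfsgLib.FGS.RealGraph.cls y →
      q ∣ CfsgLib.FGS.RealGraph.cls (y : G) :=
    fun q y c _ hd => hd.trans (CfsgLib.FGS.RealGraph.map_cls_dvd K y)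
  refine ⟨⟨{q | q ∈ π₁ ∧ q.Prime ∧ ∃ n ∈ {n : ℕ | ∃ x : K, IsConj x x⁻¹ ∧
      (Subgroup.centralizer ({x} : Set K)).index = n}, q ∣ n},
    {q | q ∈ π₂ ∧ q.Prime ∧ ∃ n ∈ {n : ℕ | ∃ x : K, IsConj x x⁻¹ ∧
      (Subgroup.centralizer ({x} : Set K)).index = n}, q ∣ n},
    ⟨2, h21, Nat.prime_two, _, ⟨x₁, isConj_iff.2 ⟨g₁, hx₁⟩, rfl⟩, hev₁⟩,
    ⟨p, hp, hpp, _, ⟨x₂, isConj_iff.2 ⟨g₂, hx₂⟩, rfl⟩, hd₂⟩, ?_, ?_, ?_, ?_⟩, ?_⟩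
  · exact Set.disjoint_left.2 fun q hq hq' => Set.disjoint_left.1 hdisj hq.1 hq'.1
  · rintro q (hq | hq) <;> exact ⟨hq.2.1, hq.2.2⟩
  · rintro q hq ⟨n, ⟨y, hy, rfl⟩, hd⟩
    obtain ⟨c, hc⟩ := isConj_iff.1 hy
    rcases hcov q hq y c (congrArg Subtype.val hc) (hdown q y c hc hd) with h | h
    · exact Or.inl ⟨h, hq, _, ⟨y, hy, rfl⟩, hd⟩
    · exact Or.inr ⟨h, hq, _, ⟨y, hy, rfl⟩, hd⟩
  · rintro a ha b hb n ⟨y, hy, rfl⟩ ⟨hda, hdb⟩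
    obtain ⟨c, hc⟩ := isConj_iff.1 hy
    exact hedge a ha.1 b hb.1 y c (congrArg Subtype.val hc) ⟨hdown a y c hc hda, hdown b y c hc hdb⟩
  · rintro n ⟨y, hy, rfl⟩
    obtain ⟨c, hc⟩ := isConj_iff.1 hy
    exact hpow y c hc


end Cfsg.Agent.S4192
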