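import Cfsg.Statements.S4195

set_option autoImplicit false
open Cfsg

namespace Cfsg.Agent.S4195

theorem mulinv_of_isConj {G : Type*} [Group G] [Finite G] (x : G) (P : Sylow 2 G)
    (hP : (P : Subgroup G) ≤ Subgroup.centralizer ({x} : Set G)) (hreal : IsConj x x⁻¹) : x⁻¹ = x := by
  by_contra hne
  obtain ⟨g, hg⟩ := isConj_iff.1 hreal
  let E : Subgroup G :=
  { carrier := {h | h * x * h⁻¹ = x ∨ h * x * h⁻¹ = x⁻¹}
    one_mem' := by simp
    mul_mem' := by
      intro a b ha hb
      have e : a * b * x * (a * b)⁻¹ = a * (b * x * b⁻¹) * a⁻¹ := by group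
      have e2 : a * x⁻¹ * a⁻¹ = (a * x * a⁻¹)⁻¹ := by group
      simp only [Set.mem_setOf_eq] at *
      rw [e]
      rcases hb with hb | hb <;> rcases ha with ha | ha <;> simp [hb, ha, e2]
    inv_mem' := by
      intro a ha
      simp only [Set.mem_setOf_eq] at *
      rcases ha with ha | ha
      · left; conv_lhs => rw [← ha]
        group
      · right; conv_lhs => rw [← inv_inv x, ← ha]
        group }
  have hCE : Subgroup.centralizer ({x} : Set G) ≤ E := by
    intro h hh
    rw [Subgroup.mem_centralizer_singleton_iff] at hh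
    exact Or.inl (by rw [hh]; group)
  have hne2 : Subgroup.centralizer ({x} : Set G) ≠ E := by
    intro h
    have hgE : g ∈ E := Or.inr hg
    rw [← h, Subgroup.mem_centralizer_singleton_iff] at hgE
    exact hne (by rw [← hg, hgE]; group)
  let C := (Subgroup.centralizer ({x} : Set G)).subgroupOf E
  have h2 : C.index = 2 := by
    refine Subgroup.index_eq_two_iff.2 ⟨⟨g, Or.inr hg⟩, fun b => ?_⟩
    have hmem : ∀ c : E, c ∈ C ↔ (c : G) * x * (c : G)⁻¹ = x := fun c => by
      rw [Subgroup.mem_subgroupOf, Subgroup.mem_centralizer_singleton_iff, mul_inv_eq_iff_eq_mul]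
    rw [hmem, hmem]
    rcases b.2 with hb | hb
    · refine Or.inr ⟨hb, ?_⟩
      intro hc
      simp only [Subgroup.coe_mul] at hc
      apply hne
      calc x⁻¹ = (b : G) * x⁻¹ * (b : G)⁻¹ := by
            conv_lhs => rw [← hb]
            group
        _ = (b : G) * g * x * ((b : G) * g)⁻¹ := by rw [← hg]; group
        _ = x := hc
    · refine Or.inl ⟨?_, fun hc => hne (hb.symm.trans hc)⟩
      simp only [Subgroup.coe_mul]
      calc (b : G) * g * x * ((b : G) * g)⁻¹ = (b : G) * x⁻¹ * (b : G)⁻¹ := by rw [← hg]; group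
        _ = ((b : G) * x * (b : G)⁻¹)⁻¹ := by group
        _ = x := by rw [hb, inv_inv]
  have h3 : 2 ∣ (P : Subgroup G).index := by
    rw [← Subgroup.relIndex_mul_index (hP.trans hCE), ← Subgroup.relIndex_mul_relIndex (P : Subgroup G) _ E hP hCE]
    exact Dvd.dvd.mul_right (Dvd.dvd.mul_left (dvd_of_eq h2.symm) _) _
  exact P.not_dvd_index h3


/-- Let x be a non-identity element of a finite group G whose centralizer contains a Sylow 2-subgroup of G. If x is conjugate to its inverse, then x has order 2. -/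
theorem result {G : Type*} [Group G] [Finite G] (x : G) (hx : x ≠ 1) (P : Sylow 2 G) (hP : (P : Subgroup G) ≤ Subgroup.centralizer ({x} : Set G)) (hreal : IsConj x x⁻¹) : orderOf x = 2 := by
  refine orderOf_eq_prime ?_ hx
  rw [pow_two]
  nth_rw 1 [← mulinv_of_isConj x P hP hreal]
  exact inv_mul_cancel x

end Cfsg.Agent.S4195
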