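import Cfsg.Statements.S4198
import Mathlib.GroupTheory.SpecificGroups.Alternating.Centralizer
import Mathlib.Combinatorics.Enumerative.Partition.Basic

set_option autoImplicit false
open Cfsg

namespace Cfsg.Agent.S4198
open Equiv Finset

theorem parts_of_no_one (N : ℕ) (hN : N + 1 ≤ 5) (q : Nat.Partition (N + 1)) (h1 : 1 ∉ q.parts) :
    q.parts = {N + 1} ∨ (3 ≤ N ∧ q.parts = {2, N - 1}) := by
  have h2 : ∀ i ∈ q.parts, 2 ≤ i := fun i hi => by
    have := q.parts_pos hi
    rcases eq_or_ne i 1 with rfl | h
    · exact absurd hi h1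
    · omega
  have hs := q.parts_sum
  rcases Multiset.empty_or_exists_mem q.parts with h | ⟨a, ha⟩
  · rw [h] at hs; simp at hs
  obtain ⟨t, ht⟩ := Multiset.exists_cons_of_mem ha
  rw [ht, Multiset.sum_cons] at hs
  rcases Multiset.empty_or_exists_mem t with h | ⟨b, hb⟩
  · subst h; rw [Multiset.sum_zero, add_zero] at hs
    exact Or.inl (by rw [ht, hs]; rfl)
  obtain ⟨u, hu⟩ := Multiset.exists_cons_of_mem hb
  rw [hu, Multiset.sum_cons] at hs
  have ha2 := h2 a ha
  have hb2 := h2 b (by rw [ht]; exact Multiset.mem_cons_of_mem hb)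
  rcases Multiset.empty_or_exists_mem u with h | ⟨c, hc⟩
  · subst h; rw [Multiset.sum_zero, add_zero] at hs
    refine Or.inr ⟨by omega, ?_⟩
    rw [ht, hu]
    rcases (show (a = 2 ∧ b = N - 1) ∨ (b = 2 ∧ a = N - 1) by omega) with ⟨rfl, rfl⟩ | ⟨rfl, rfl⟩
    · rfl
    · exact Multiset.cons_swap _ _ _
  · have hc2 := h2 c (by rw [ht, hu]; exact Multiset.mem_cons_of_mem (Multiset.mem_cons_of_mem hc))
    have := Multiset.le_sum_of_mem hc
    omega

theorem card_partition_step (N : ℕ) (hN : N + 1 ≤ 5) :
    Fintype.card (Nat.Partition (N + 1)) ≤ Fintype.card (Nat.Partition N) + (if 3 ≤ N then 2 else 1) := by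
  classical
  have hA : Fintype.card {q : Nat.Partition (N + 1) // 1 ∈ q.parts} = Fintype.card (Nat.Partition N) := by
    rw [← Nat.card_eq_fintype_card, ← Nat.card_eq_fintype_card]
    exact Nat.card_congr (Nat.Partition.partitionWithPartEquiv le_rfl (by omega))
  let F : {q : Nat.Partition (N + 1) // ¬ 1 ∈ q.parts} → Fin (if 3 ≤ N then 2 else 1) := fun q =>
    ⟨if q.1.parts = {N + 1} then 0 else 1, by
      rcases parts_of_no_one N hN q.1 q.2 with h | ⟨h3, -⟩
      · rw [if_pos h]; split_ifs <;> omega
      · rw [if_pos h3]; split_ifs <;> omega⟩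
  have hF : Function.Injective F := by
    intro a b h
    have h' := congrArg Fin.val h
    simp only [F] at h'
    refine Subtype.ext (Nat.Partition.ext ?_)
    by_cases ha : a.1.parts = {N + 1} <;> by_cases hb : b.1.parts = {N + 1}
    · rw [ha, hb]
    · rw [if_pos ha, if_neg hb] at h'; omega
    · rw [if_neg ha, if_pos hb] at h'; omega
    · rw [((parts_of_no_one N hN a.1 a.2).resolve_left ha).2, ((parts_of_no_one N hN b.1 b.2).resolve_left hb).2]
  have hB := Fintype.card_le_of_injective F hF
  rw [Fintype.card_fin] at hB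
  have := Fintype.card_subtype_compl (fun q : Nat.Partition (N + 1) => 1 ∈ q.parts)
  have := Fintype.card_subtype_le (fun q : Nat.Partition (N + 1) => 1 ∈ q.parts)
  omega

theorem card_partition_five : Fintype.card (Nat.Partition 5) ≤ 8 := by
  have e4 := card_partition_step 4 (by norm_num)
  have e3 := card_partition_step 3 (by norm_num)
  have e2 := card_partition_step 2 (by norm_num)
  have e1 := card_partition_step 1 (by norm_num)
  have e0 : Fintype.card (Nat.Partition 1) = 1 := Fintype.card_unique
  norm_num at e1 e2 e3 e4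
  omega

theorem card_partition_succ (n : ℕ) :
    Fintype.card (Nat.Partition (n + 2)) ≤ 2 * Fintype.card (Nat.Partition (n + 1)) := by
  classical
  have hne : ∀ q : Nat.Partition (n + 2), q.parts.toFinset.Nonempty := fun q => by
    rw [Multiset.toFinset_nonempty]
    intro h
    have := q.parts_sum
    rw [h] at this
    simp at this
  let m : Nat.Partition (n + 2) → ℕ := fun q => q.parts.toFinset.min' (hne q)
  have hm : ∀ q, m q ∈ q.parts := fun q => Multiset.mem_toFinset.1 (Finset.min'_mem _ (hne q))
  have hle : ∀ q, ∀ i ∈ q.parts, m q ≤ i := fun q i hi => Finset.min'_le _ _ (Multiset.mem_toFinset.2 hi)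
  have hsum : ∀ q, m q + (q.parts.erase (m q)).sum = n + 2 := fun q => by
    have := congrArg Multiset.sum (Multiset.cons_erase (hm q))
    rwa [Multiset.sum_cons, q.parts_sum] at this
  have hA : Fintype.card {q : Nat.Partition (n + 2) // 1 ∈ q.parts} = Fintype.card (Nat.Partition (n + 1)) := by
    rw [← Nat.card_eq_fintype_card, ← Nat.card_eq_fintype_card]
    exact Nat.card_congr (Nat.Partition.partitionWithPartEquiv le_rfl (by omega))
  have h1 : ∀ q : {q : Nat.Partition (n + 2) // ¬ 1 ∈ q.parts}, 2 ≤ m q.1 := fun q => by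
    have h0 := q.1.parts_pos (hm q.1)
    have : m q.1 ≠ 1 := fun h => q.2 (Eq.subst (motive := fun i => i ∈ q.1.parts) h (hm q.1))
    omega
  let F : {q : Nat.Partition (n + 2) // ¬ 1 ∈ q.parts} → Nat.Partition (n + 1) := fun q =>
    ⟨(m q.1 - 1) ::ₘ q.1.parts.erase (m q.1), by
      intro i hi
      rcases Multiset.mem_cons.1 hi with rfl | hi
      · have := h1 q; omega
      · exact q.1.parts_pos (Multiset.mem_of_mem_erase hi), by
      rw [Multiset.sum_cons]; have := h1 q; have := hsum q.1; omega⟩
  have hF : Function.Injective F := by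
    intro a b h
    have h' : (m a.1 - 1) ::ₘ a.1.parts.erase (m a.1) = (m b.1 - 1) ::ₘ b.1.parts.erase (m b.1) :=
      congrArg Nat.Partition.parts h
    have key : ∀ a b : {q : Nat.Partition (n + 2) // ¬ 1 ∈ q.parts},
        (m a.1 - 1) ::ₘ a.1.parts.erase (m a.1) = (m b.1 - 1) ::ₘ b.1.parts.erase (m b.1) → m a.1 ≤ m b.1 := by
      intro a b h
      have hb : m b.1 - 1 ∈ (m a.1 - 1) ::ₘ a.1.parts.erase (m a.1) := by rw [h]; exact Multiset.mem_cons_self _ _
      rcases Multiset.mem_cons.1 hb with e | e
      · have := h1 a; omega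
      · have := hle a.1 _ (Multiset.mem_of_mem_erase e); omega
    have e := le_antisymm (key a b h') (key b a h'.symm)
    rw [← e, Multiset.cons_inj_right] at h'
    refine Subtype.ext (Nat.Partition.ext ?_)
    rw [← Multiset.cons_erase (hm a.1), ← Multiset.cons_erase (hm b.1), ← e, h']
  have hB := Fintype.card_le_of_injective F hF
  have := Fintype.card_subtype_compl (fun q : Nat.Partition (n + 2) => 1 ∈ q.parts)
  have := Fintype.card_subtype_le (fun q : Nat.Partition (n + 2) => 1 ∈ q.parts)
  omega

theorem card_partition_le : ∀ n : ℕ, 5 ≤ n → Fintype.card (Nat.Partition n) ≤ 2 ^ (n - 2) := by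
  intro n hn
  induction n, hn using Nat.le_induction with
  | base => exact card_partition_five
  | succ k hk ih =>
    obtain ⟨j, rfl⟩ : ∃ j, k = j + 1 := ⟨k - 1, by omega⟩
    refine (card_partition_succ j).trans ?_
    rw [show j + 1 + 1 - 2 = (j + 1 - 2) + 1 by omega, pow_succ]
    omega


/-- For n ≥ 5 the alternating group of degree n has strictly fewer conjugacy classes than the symmetric group of degree n, and the symmetric group of degree n (whose classes correspond to the partitions of n) has at most 2^(n−2) conjugacy classes. -/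
theorem result (n : ℕ) (hn : 5 ≤ n) : Nat.card (ConjClasses (alternatingGroup (Fin n))) < Nat.card (ConjClasses (Equiv.Perm (Fin n))) ∧ Nat.card (ConjClasses (Equiv.Perm (Fin n))) ≤ 2 ^ (n - 2) := by
  classical
  have hcard : Fintype.card (Fin n) = n := Fintype.card_fin n
  let fS : Equiv.Perm (Fin n) → Nat.Partition n := fun σ => ⟨σ.partition.parts, σ.partition.parts_pos, σ.partition.parts_sum.trans hcard⟩
  have hfS : ∀ σ τ, fS σ = fS τ ↔ IsConj σ τ := fun σ τ => by
    rw [Equiv.Perm.partition_eq_of_isConj]
    simp only [fS, Nat.Partition.ext_iff]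
  let f : ConjClasses (Equiv.Perm (Fin n)) → Nat.Partition n :=
    Quotient.lift fS fun σ τ h => (hfS σ τ).2 h
  have hfi : Function.Injective f := by
    intro a b h
    induction a using Quotient.inductionOn
    induction b using Quotient.inductionOn
    exact Quotient.sound ((hfS _ _).1 h)
  have hfs : Function.Surjective f := by
    intro q
    set ct := q.parts.filter (fun i => 2 ≤ i) with hct
    have hsum : ct.sum ≤ n := by
      have := congrArg Multiset.sum (Multiset.filter_add_not (fun i => 2 ≤ i) q.parts)
      rw [Multiset.sum_add, q.parts_sum, ← hct] at this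
      omega
    obtain ⟨σ, hσ⟩ := (Equiv.Perm.exists_with_cycleType_iff (α := Fin n) (m := ct)).2
      ⟨by rw [hcard]; exact hsum, fun a ha => (Multiset.mem_filter.1 ha).2⟩
    refine ⟨ConjClasses.mk σ, Nat.Partition.ext ?_⟩
    show σ.cycleType + Multiset.replicate (Fintype.card (Fin n) - σ.support.card) 1 = q.parts
    rw [← Equiv.Perm.sum_cycleType, hσ, hcard]
    conv_rhs => rw [← Multiset.filter_add_not (fun i => 2 ≤ i) q.parts]
    congr 1
    have h1 : ∀ i ∈ q.parts.filter (fun i => ¬ 2 ≤ i), i = 1 := fun i hi => by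
      have := q.parts_pos (Multiset.mem_of_mem_filter hi)
      have := (Multiset.mem_filter.1 hi).2
      omega
    rw [Multiset.eq_replicate_card.2 h1]
    congr 1
    have h2 := congrArg Multiset.sum (Multiset.filter_add_not (fun i => 2 ≤ i) q.parts)
    rw [Multiset.sum_add, q.parts_sum, ← hct, Multiset.eq_replicate_card.2 h1, Multiset.sum_replicate, smul_eq_mul, mul_one] at h2
    omega
  have hS : Nat.card (ConjClasses (Equiv.Perm (Fin n))) = Fintype.card (Nat.Partition n) := by
    rw [Nat.card_eq_of_bijective f ⟨hfi, hfs⟩, Nat.card_eq_fintype_card]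
  refine ⟨?_, hS ▸ card_partition_le n hn⟩
  -- parity
  have hsign : ∀ σ : Equiv.Perm (Fin n), Equiv.Perm.sign σ = (-1) ^ (n + Multiset.card (fS σ).parts) := by
    intro σ
    show _ = (-1 : ℤˣ) ^ (n + Multiset.card (σ.cycleType + Multiset.replicate (Fintype.card (Fin n) - σ.support.card) 1))
    have hle : σ.support.card ≤ n := (Finset.card_le_univ σ.support).trans_eq hcard
    rw [Equiv.Perm.sign_of_cycleType, Multiset.card_add, Multiset.card_replicate, hcard, Equiv.Perm.sum_cycleType,
      show n + (Multiset.card σ.cycleType + (n - σ.support.card)) =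
        (σ.support.card + Multiset.card σ.cycleType) + 2 * (n - σ.support.card) by omega,
      pow_add _ (σ.support.card + Multiset.card σ.cycleType) (2 * (n - σ.support.card)), pow_mul, Int.units_sq, one_pow, mul_one]
  set E := (Finset.univ : Finset (Nat.Partition n)).filter (fun q => Even (n + Multiset.card q.parts)) with hE
  set T := (Finset.univ : Finset (Nat.Partition n)).filter (fun q => (∀ i ∈ q.parts, Odd i) ∧ q.parts.Nodup) with hT
  -- the classes of the alternating group
  let g : ConjClasses (alternatingGroup (Fin n)) → Nat.Partition n :=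
    fun C => f (ConjClasses.map (alternatingGroup (Fin n)).subtype C)
  have hgE : ∀ C, g C ∈ E := by
    intro C
    induction C using Quotient.inductionOn with
    | h x =>
      simp only [hE, Finset.mem_filter, Finset.mem_univ, true_and]
      have h1 := hsign (x : Equiv.Perm (Fin n))
      rw [x.2] at h1
      rcases Nat.even_or_odd (n + Multiset.card (fS (x : Equiv.Perm (Fin n))).parts) with h | h
      · exact h
      · rw [h.neg_one_pow] at h1; exact absurd h1 (by decide)
  have keyA : ∀ (x y : alternatingGroup (Fin n)) (π : Equiv.Perm (Fin n)), Equiv.Perm.sign π = 1 →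
      π * x * π⁻¹ = y → IsConj x y := fun x y π hπ h =>
    isConj_iff.2 ⟨⟨π, hπ⟩, Subtype.ext h⟩
  have h2fib : ∀ (x y z : alternatingGroup (Fin n)), g (ConjClasses.mk x) = g (ConjClasses.mk y) →
      g (ConjClasses.mk x) = g (ConjClasses.mk z) → IsConj x y ∨ IsConj x z ∨ IsConj y z := by
    intro x y z hxy hxz
    obtain ⟨π, hπ⟩ := isConj_iff.1 ((hfS _ _).1 hxy)
    replace hπ : π * (x : Equiv.Perm (Fin n)) * π⁻¹ = y := hπ
    obtain ⟨ρ, hρ⟩ := isConj_iff.1 ((hfS _ _).1 hxz)
    replace hρ : ρ * (x : Equiv.Perm (Fin n)) * ρ⁻¹ = z := hρ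
    rcases Int.units_eq_one_or (Equiv.Perm.sign π) with e | e
    · exact Or.inl (keyA x y π e hπ)
    rcases Int.units_eq_one_or (Equiv.Perm.sign ρ) with e' | e'
    · exact Or.inr (Or.inl (keyA x z ρ e' hρ))
    refine Or.inr (Or.inr (keyA y z (ρ * π⁻¹) (by simp [e, e']) ?_))
    rw [← hπ, ← hρ]
    group
  have h1fib : ∀ (x y : alternatingGroup (Fin n)), g (ConjClasses.mk x) ∉ T →
      g (ConjClasses.mk x) = g (ConjClasses.mk y) → IsConj x y := by
    intro x y hxT hxy
    obtain ⟨π, hπ⟩ := isConj_iff.1 ((hfS _ _).1 hxy)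
    replace hπ : π * (x : Equiv.Perm (Fin n)) * π⁻¹ = y := hπ
    rcases Int.units_eq_one_or (Equiv.Perm.sign π) with e | e
    · exact keyA x y π e hπ
    have hnc : ¬ Subgroup.centralizer {(x : Equiv.Perm (Fin n))} ≤ alternatingGroup (Fin n) := by
      rw [Equiv.Perm.centralizer_le_alternating_iff]
      rintro ⟨hodd, hfix, hcnt⟩
      apply hxT
      simp only [hT, Finset.mem_filter, Finset.mem_univ, true_and]
      show (∀ i ∈ (x : Equiv.Perm (Fin n)).cycleType + Multiset.replicate (Fintype.card (Fin n) - (x : Equiv.Perm (Fin n)).support.card) 1, Odd i) ∧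
        ((x : Equiv.Perm (Fin n)).cycleType + Multiset.replicate (Fintype.card (Fin n) - (x : Equiv.Perm (Fin n)).support.card) 1).Nodup
      rw [Equiv.Perm.sum_cycleType] at hfix
      refine ⟨fun i hi => ?_, ?_⟩
      · rcases Multiset.mem_add.1 hi with hi | hi
        · exact hodd i hi
        · rw [Multiset.eq_of_mem_replicate hi]; exact odd_one
      · refine Multiset.nodup_add.2 ⟨Multiset.nodup_iff_count_le_one.2 hcnt, ?_, ?_⟩
        · rw [Multiset.nodup_iff_count_le_one]
          intro i
          refine (Multiset.count_le_card i _).trans ?_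
          rw [Multiset.card_replicate]; omega
        · rw [Multiset.disjoint_left]
          intro i hi hi'
          have := Equiv.Perm.two_le_of_mem_cycleType hi
          rw [Multiset.eq_of_mem_replicate hi'] at this
          omega
    obtain ⟨z, hz, hzA⟩ := SetLike.not_le_iff_exists.1 hnc
    have hz1 : Equiv.Perm.sign z = -1 := (Int.units_eq_one_or _).resolve_left fun h => hzA h
    refine keyA x y (π * z) (by simp [e, hz1]) ?_
    rw [← hπ, mul_inv_rev, mul_assoc π z, ← mul_assoc, Subgroup.mem_centralizer_singleton_iff.1 hz]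
    group
  have hA : Nat.card (ConjClasses (alternatingGroup (Fin n))) ≤ E.card + (E.filter (· ∈ T)).card := by
    rw [Nat.card_eq_fintype_card, ← Finset.card_univ, Finset.card_eq_sum_card_fiberwise (fun C _ => hgE C)]
    calc _ ≤ ∑ q ∈ E, (1 + if q ∈ T then 1 else 0) := Finset.sum_le_sum fun q _ => ?_
      _ = _ := by rw [Finset.sum_add_distrib, ← Finset.card_eq_sum_ones, ← Finset.card_filter]
    by_cases hq : q ∈ T
    · rw [if_pos hq]
      by_contra! h
      obtain ⟨A, hA, B, hB, C, hC, hAB, hAC, hBC⟩ := Finset.two_lt_card.1 h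
      simp only [Finset.mem_filter] at hA hB hC
      obtain ⟨x, rfl⟩ := ConjClasses.exists_rep A
      obtain ⟨y, rfl⟩ := ConjClasses.exists_rep B
      obtain ⟨z, rfl⟩ := ConjClasses.exists_rep C
      rcases h2fib x y z (hA.2.trans hB.2.symm) (hA.2.trans hC.2.symm) with h | h | h
      exacts [hAB (ConjClasses.mk_eq_mk_iff_isConj.2 h), hAC (ConjClasses.mk_eq_mk_iff_isConj.2 h),
        hBC (ConjClasses.mk_eq_mk_iff_isConj.2 h)]
    · rw [if_neg hq, add_zero]
      refine Finset.card_le_one.2 fun A hA B hB => ?_
      simp only [Finset.mem_filter] at hA hB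
      obtain ⟨x, rfl⟩ := ConjClasses.exists_rep A
      obtain ⟨y, rfl⟩ := ConjClasses.exists_rep B
      exact ConjClasses.mk_eq_mk_iff_isConj.2 (h1fib x y (hA.2 ▸ hq) (hA.2.trans hB.2.symm))
  -- split classes are fewer than odd classes
  set O := (Finset.univ : Finset (Nat.Partition n)).filter (fun q => ¬ Even (n + Multiset.card q.parts)) with hO
  have hTO : T.card < O.card := by
    have mx : ∀ q ∈ T, ∃ a ∈ q.parts, 3 ≤ a ∧ ∀ i ∈ q.parts, i ≤ a := by
      intro q hq
      simp only [hT, Finset.mem_filter, Finset.mem_univ, true_and] at hq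
      have hne : q.parts.toFinset.Nonempty := by
        rw [Multiset.toFinset_nonempty]
        intro h
        have := q.parts_sum
        rw [h] at this
        simp at this
        omega
      refine ⟨_, Multiset.mem_toFinset.1 (Finset.max'_mem _ hne), ?_, fun i hi => Finset.le_max' _ _ (Multiset.mem_toFinset.2 hi)⟩
      by_contra! h
      have hall : ∀ i ∈ q.parts, i = 1 := fun i hi => by
        have := Finset.le_max' _ _ (Multiset.mem_toFinset.2 hi)
        obtain ⟨j, rfl⟩ := hq.1 i hi
        omega
      have hc : Multiset.card q.parts ≤ 1 := by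
        rw [Multiset.eq_replicate_card.2 hall] at hq
        by_contra! hc
        have := Multiset.nodup_iff_count_le_one.1 hq.2 1
        rw [Multiset.count_replicate_self] at this
        omega
      have := q.parts_sum
      rw [Multiset.eq_replicate_card.2 hall, Multiset.sum_replicate, smul_eq_mul, mul_one] at this
      omega
    choose a ha ha3 hamax using mx
    let F : (q : Nat.Partition n) → q ∈ T → Nat.Partition n := fun q hq =>
      ⟨(a q hq - 1) ::ₘ 1 ::ₘ q.parts.erase (a q hq), by
        intro i hi
        rcases Multiset.mem_cons.1 hi with rfl | hi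
        · have := ha3 q hq; omega
        rcases Multiset.mem_cons.1 hi with rfl | hi
        · omega
        · exact q.parts_pos (Multiset.mem_of_mem_erase hi), by
        have h1 := congrArg Multiset.sum (Multiset.cons_erase (ha q hq))
        rw [Multiset.sum_cons, q.parts_sum] at h1
        rw [Multiset.sum_cons, Multiset.sum_cons]
        have := ha3 q hq
        omega⟩
    have hodd : ∀ q (hq : q ∈ T), (∀ i ∈ q.parts, Odd i) ∧ q.parts.Nodup := fun q hq => (Finset.mem_filter.1 hq).2
    have hFinj : ∀ q₁ (h₁ : q₁ ∈ T) q₂ (h₂ : q₂ ∈ T), F q₁ h₁ = F q₂ h₂ → q₁ = q₂ := by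
      intro q₁ h₁ q₂ h₂ h
      have h' := congrArg Nat.Partition.parts h
      simp only [F] at h'
      have he : a q₁ h₁ - 1 = a q₂ h₂ - 1 := by
        have hm : a q₁ h₁ - 1 ∈ (a q₂ h₂ - 1) ::ₘ 1 ::ₘ q₂.parts.erase (a q₂ h₂) := h' ▸ Multiset.mem_cons_self _ _
        have hev : ¬ Odd (a q₁ h₁ - 1) := by
          obtain ⟨j, hj⟩ := (hodd q₁ h₁).1 _ (ha q₁ h₁)
          rw [hj, Nat.not_odd_iff_even]; exact ⟨j, by omega⟩
        rcases Multiset.mem_cons.1 hm with e | e
        · exact e
        rcases Multiset.mem_cons.1 e with e | e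
        · exact absurd (by rw [e]; exact odd_one) hev
        · exact absurd ((hodd q₂ h₂).1 _ (Multiset.mem_of_mem_erase e)) hev
      have := ha3 q₁ h₁
      have := ha3 q₂ h₂
      have e : a q₁ h₁ = a q₂ h₂ := by omega
      rw [he, Multiset.cons_inj_right, Multiset.cons_inj_right] at h'
      refine Nat.Partition.ext ?_
      rw [← Multiset.cons_erase (ha q₁ h₁), ← Multiset.cons_erase (ha q₂ h₂), h', e]
    have himg : T.attach.image (fun q => F q.1 q.2) ⊆ O := by
      intro r hr
      obtain ⟨⟨q, hq⟩, -, rfl⟩ := Finset.mem_image.1 hr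
      simp only [hO, Finset.mem_filter, Finset.mem_univ, true_and, F, Multiset.card_cons]
      have h1 := congrArg Multiset.card (Multiset.cons_erase (ha q hq))
      rw [Multiset.card_cons] at h1
      have h2 : (n : ℕ) % 2 = Multiset.card q.parts % 2 := by
        have key : ∀ s : Multiset ℕ, (∀ i ∈ s, Odd i) → s.sum % 2 = Multiset.card s % 2 := by
          intro s
          induction s using Multiset.induction with
          | empty => simp
          | cons x s ih =>
            intro h
            have := ih fun i hi => h i (Multiset.mem_cons_of_mem hi)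
            obtain ⟨j, rfl⟩ := h _ (Multiset.mem_cons_self _ _)
            rw [Multiset.sum_cons, Multiset.card_cons]
            omega
        rw [← key q.parts (hodd q hq).1, q.parts_sum]
      rw [Nat.even_iff]
      omega
    have hcardimg : (T.attach.image (fun q => F q.1 q.2)).card = T.card := by
      rw [Finset.card_image_of_injective _ (fun x y h => Subtype.ext (hFinj _ x.2 _ y.2 h)), Finset.card_attach]
    refine hcardimg ▸ Finset.card_lt_card (Finset.ssubset_iff_of_subset himg |>.2 ?_)
    let r : Nat.Partition n := ⟨2 ::ₘ Multiset.replicate (n - 2) 1, by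
      intro i hi
      rcases Multiset.mem_cons.1 hi with rfl | hi
      · omega
      · rw [Multiset.eq_of_mem_replicate hi]; omega, by simp; omega⟩
    refine ⟨r, ?_, ?_⟩
    · simp only [hO, Finset.mem_filter, Finset.mem_univ, true_and, r, Multiset.card_cons, Multiset.card_replicate,
        Nat.even_iff]
      omega
    · intro hr
      obtain ⟨⟨q, hq⟩, -, he⟩ := Finset.mem_image.1 hr
      have h' : (a q hq - 1) ::ₘ 1 ::ₘ q.parts.erase (a q hq) = 2 ::ₘ Multiset.replicate (n - 2) 1 :=
        congrArg Nat.Partition.parts he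
      have h2 : a q hq - 1 = 2 := by
        have hm : a q hq - 1 ∈ 2 ::ₘ Multiset.replicate (n - 2) 1 := h' ▸ Multiset.mem_cons_self _ _
        rcases Multiset.mem_cons.1 hm with e | e
        · exact e
        · have := Multiset.eq_of_mem_replicate e; have := ha3 q hq; omega
      rw [h2, Multiset.cons_inj_right] at h'
      have hc := congrArg (Multiset.count 1) h'
      rw [Multiset.count_cons_self, Multiset.count_replicate_self] at hc
      have := Multiset.nodup_iff_count_le_one.1 (hodd q hq).2 1
      have := Multiset.count_le_of_le 1 (Multiset.erase_le (a q hq) q.parts)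
      omega
  have hsplit : E.card + O.card = Fintype.card (Nat.Partition n) := Finset.card_filter_add_card_filter_not _
  have hsub : (E.filter (· ∈ T)).card ≤ T.card := Finset.card_le_card fun q hq => (Finset.mem_filter.1 hq).2
  omega

end Cfsg.Agent.S4198
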