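import Cfsg.Statements.S4200
import Mathlib.GroupTheory.CommutingProbability
import Mathlib.Algebra.BigOperators.Ring.Finset

set_option autoImplicit false
open Cfsg

namespace Cfsg.Agent.S4200

noncomputable def pairs (G : Type*) [Group G] : ℕ := Nat.card {p : G × G // Commute p.1 p.2}

theorem pairs_eq (G : Type*) [Group G] [Finite G] : pairs G = Nat.card (ConjClasses G) * Nat.card G :=
  card_comm_eq_card_conjClasses_mul_card G

theorem pairs_eq_sum {G : Type*} [Group G] [Fintype G] :
    pairs G = ∑ x : G, Nat.card (Subgroup.centralizer ({x} : Set G)) := by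
  rw [pairs, Nat.card_congr ((Equiv.subtypeProdEquivSigmaSubtype fun a b : G => Commute a b)), Nat.card_sigma]
  refine Finset.sum_congr rfl fun x _ => Nat.card_congr (Equiv.subtypeEquivRight fun y => ?_)
  rw [Subgroup.mem_centralizer_singleton_iff]
  exact ⟨fun h => h.eq.symm, fun h => h.symm⟩

theorem card_centralizer_eq {G : Type*} [Group G] [Finite G] (Y C : Subgroup G) :
    Nat.card C = Nat.card ↥(C ⊓ Y) * Y.relIndex C := by
  rw [← Subgroup.inf_relIndex_left, ← Subgroup.relIndex_bot_left C, ← Subgroup.relIndex_bot_left (C ⊓ Y)]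
  exact (Subgroup.relIndex_mul_relIndex ⊥ _ C bot_le inf_le_left).symm

theorem card_le {G : Type*} [Group G] [Finite G] (Y C : Subgroup G) :
    Nat.card C ≤ Y.index * Nat.card ↥(C ⊓ Y) ∧
      ((∃ g : G, ∀ c ∈ C, c⁻¹ * g ∉ Y) → Nat.card C < Y.index * Nat.card ↥(C ⊓ Y)) := by
  rw [card_centralizer_eq Y C, mul_comm Y.index]
  let ι : C ⧸ Y.subgroupOf C → G ⧸ Y := Quotient.map' (fun c : C => (c : G)) fun a b h => by
    rw [QuotientGroup.leftRel_apply] at h ⊢
    exact h
  have hι : Function.Injective ι := by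
    intro a b h
    induction a using QuotientGroup.induction_on with | H a => ?_
    induction b using QuotientGroup.induction_on with | H b => ?_
    exact QuotientGroup.eq.2 (QuotientGroup.eq (s := Y).1 h : _)
  refine ⟨Nat.mul_le_mul_left _ (Nat.card_le_card_of_injective ι hι), fun ⟨g, hg⟩ => ?_⟩
  refine Nat.mul_lt_mul_of_pos_left (lt_of_le_of_ne (Nat.card_le_card_of_injective ι hι) fun e => ?_) Nat.card_pos
  obtain ⟨c, hc⟩ := ((Nat.bijective_iff_injective_and_card ι).2 ⟨hι, e⟩).2 (QuotientGroup.mk g)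
  induction c using QuotientGroup.induction_on with | H c => ?_
  exact hg c c.2 (QuotientGroup.eq.1 hc)


/-- Let Y be a subgroup of the finite group X, of index m. Then the numbers of conjugacy classes satisfy k(Y) ≤ m·k(X) and k(X) ≤ m·k(Y), and the second inequality is strict unless Y is normal in X. -/
theorem result {X : Type*} [Group X] [Finite X] (Y : Subgroup X) : Nat.card (ConjClasses Y) ≤ Y.index * Nat.card (ConjClasses X) ∧ Nat.card (ConjClasses X) ≤ Y.index * Nat.card (ConjClasses Y) ∧ (¬ Y.Normal → Nat.card (ConjClasses X) < Y.index * Nat.card (ConjClasses Y)) := by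
  have := Fintype.ofFinite X
  have := Fintype.ofFinite Y
  have hX := pairs_eq X
  have hY := pairs_eq Y
  have hm : Nat.card X = Nat.card Y * Y.index := Y.card_mul_index.symm
  have hYpos : 0 < Nat.card Y := Nat.card_pos
  have h1 : pairs Y ≤ pairs X :=
    Nat.card_le_card_of_injective (fun p => ⟨(p.1.1, p.1.2), congrArg Subtype.val p.2.eq⟩) (by
      rintro ⟨⟨a, b⟩, _⟩ ⟨⟨c, d⟩, _⟩ h
      obtain ⟨h1, h2⟩ := Prod.ext_iff.1 (congrArg Subtype.val h)
      exact Subtype.ext (Prod.ext (Subtype.ext h1) (Subtype.ext h2)))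
  have hswap : ∑ x : X, Nat.card ↥(Subgroup.centralizer ({x} : Set X) ⊓ Y) =
      ∑ y : Y, Nat.card (Subgroup.centralizer ({(y : X)} : Set X)) := by
    rw [← Nat.card_sigma, ← Nat.card_sigma]
    refine Nat.card_congr ⟨fun s => ⟨⟨s.2.1, s.2.2.2⟩, ⟨s.1, ?_⟩⟩, fun s => ⟨s.2.1, ⟨s.1.1, ⟨?_, s.1.2⟩⟩⟩,
      fun s => rfl, fun s => rfl⟩
    · have := Subgroup.mem_centralizer_singleton_iff.1 s.2.2.1
      exact Subgroup.mem_centralizer_singleton_iff.2 this.symm
    · have := Subgroup.mem_centralizer_singleton_iff.1 s.2.2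
      exact Subgroup.mem_centralizer_singleton_iff.2 this.symm
  have h2 : ∀ y : Y, Nat.card (Subgroup.centralizer ({(y : X)} : Set X)) ≤
      Y.index * Nat.card (Subgroup.centralizer ({y} : Set Y)) := by
    intro y
    refine (card_le Y _).1.trans (Nat.mul_le_mul_left _ (le_of_eq (Nat.card_congr
      ⟨fun z => ⟨⟨z.1, z.2.2⟩, ?_⟩, fun z => ⟨z.1, ⟨?_, z.1.2⟩⟩, fun z => rfl, fun z => rfl⟩)))
    · exact Subgroup.mem_centralizer_singleton_iff.2 (Subtype.ext (Subgroup.mem_centralizer_singleton_iff.1 z.2.1))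
    · exact Subgroup.mem_centralizer_singleton_iff.2 (congrArg Subtype.val (Subgroup.mem_centralizer_singleton_iff.1 z.2))
  have h3 : (∑ x : X, Y.index * Nat.card ↥(Subgroup.centralizer ({x} : Set X) ⊓ Y)) ≤
      Y.index * (Y.index * pairs Y) := by
    rw [← Finset.mul_sum, hswap]
    refine Nat.mul_le_mul_left _ ?_
    rw [pairs_eq_sum, Finset.mul_sum]
    exact Finset.sum_le_sum fun y _ => h2 y
  refine ⟨?_, ?_, ?_⟩
  · rw [hX, hY, hm] at h1
    exact Nat.le_of_mul_le_mul_right (h1.trans_eq (by ring)) hYpos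
  · have h4 : pairs X ≤ Y.index * (Y.index * pairs Y) := by
      rw [pairs_eq_sum]
      exact (Finset.sum_le_sum fun x _ => (card_le Y _).1).trans h3
    rw [hX, hY, hm] at h4
    refine Nat.le_of_mul_le_mul_right (a := Nat.card (ConjClasses X)) (c := Y.index * Nat.card Y) ?_
      (Nat.mul_pos (Nat.pos_of_ne_zero (Subgroup.index_ne_zero_of_finite (H := Y))) hYpos)
    calc _ = Nat.card (ConjClasses X) * (Nat.card Y * Y.index) := by ring
      _ ≤ _ := h4
      _ = _ := by ring
  · intro hn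
    obtain ⟨y, hy, g, hg⟩ : ∃ y ∈ Y, ∃ g : X, g * y * g⁻¹ ∉ Y := by
      by_contra h
      push Not at h
      exact hn ⟨h⟩
    have hbad : ∀ c ∈ Subgroup.centralizer ({g * y * g⁻¹} : Set X), c⁻¹ * g ∉ Y := by
      intro c hc hcY
      apply hg
      rw [Subgroup.mem_centralizer_singleton_iff] at hc
      have e : g * y * g⁻¹ = (c⁻¹ * g) * y * (c⁻¹ * g)⁻¹ := by
        calc g * y * g⁻¹ = c⁻¹ * (c * (g * y * g⁻¹)) := by group
          _ = c⁻¹ * (g * y * g⁻¹ * c) := by rw [hc]
          _ = _ := by group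
      rw [e]
      exact mul_mem (mul_mem hcY hy) (inv_mem hcY)
    have h4 : pairs X < Y.index * (Y.index * pairs Y) := by
      rw [pairs_eq_sum]
      refine lt_of_lt_of_le (Finset.sum_lt_sum (fun x _ => (card_le Y _).1)
        ⟨g * y * g⁻¹, Finset.mem_univ _, (card_le Y _).2 ⟨g, hbad⟩⟩) h3
    rw [hX, hY, hm] at h4
    refine Nat.lt_of_mul_lt_mul_right (a := Nat.card Y * Y.index) ?_
    calc _ < _ := h4
      _ = _ := by ring

end Cfsg.Agent.S4200
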