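import Cfsg.Statements.S4201
import Cfsg.Agent.S4200

set_option autoImplicit false
open Cfsg

namespace Cfsg.Agent.S4201

open Cfsg.Agent.S4200


/-- If N is a normal subgroup of the finite group X then k(X) ≤ k(N)·k(X ⧸ N), where k denotes the number of conjugacy classes. -/
theorem result {X : Type*} [Group X] [Finite X] (N : Subgroup X) [N.Normal] : Nat.card (ConjClasses X) ≤ Nat.card (ConjClasses N) * Nat.card (ConjClasses (X ⧸ N)) := by
  classical
  have := Fintype.ofFinite X
  have := Fintype.ofFinite N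
  have := Fintype.ofFinite (X ⧸ N)
  have hm : Nat.card X = Nat.card (X ⧸ N) * Nat.card N := Subgroup.card_eq_card_quotient_mul_card_subgroup N
  have hC : ∀ x : X, Nat.card (Subgroup.centralizer ({x} : Set X)) ≤
      Nat.card ↥(Subgroup.centralizer ({x} : Set X) ⊓ N) *
        Nat.card (Subgroup.centralizer ({(QuotientGroup.mk x : X ⧸ N)} : Set (X ⧸ N))) := by
    intro x
    rw [card_centralizer_eq N (Subgroup.centralizer ({x} : Set X))]
    refine Nat.mul_le_mul_left _ ?_
    let f : Subgroup.centralizer ({x} : Set X) →* Subgroup.centralizer ({(QuotientGroup.mk x : X ⧸ N)} : Set (X ⧸ N)) :=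
      ((QuotientGroup.mk' N).comp (Subgroup.centralizer ({x} : Set X)).subtype).codRestrict _ fun c => by
        rw [Subgroup.mem_centralizer_singleton_iff]
        have h := congrArg (QuotientGroup.mk' N) (Subgroup.mem_centralizer_singleton_iff.1 c.2)
        rw [map_mul, map_mul] at h
        exact h
    have hk : f.ker = N.subgroupOf _ := by
      ext c
      rw [MonoidHom.mem_ker, Subgroup.mem_subgroupOf]
      exact Subtype.ext_iff.trans (QuotientGroup.eq_one_iff _)
    rw [Subgroup.relIndex, ← hk, Subgroup.index_ker]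
    exact Subgroup.card_le_card_group _
  have hfib : ∀ q : X ⧸ N, ∑ x : {x : X // (QuotientGroup.mk x : X ⧸ N) = q},
      Nat.card ↥(Subgroup.centralizer ({(x : X)} : Set X) ⊓ N) ≤ pairs N := by
    intro q
    rw [← Nat.card_sigma]
    have hsw : Nat.card ((x : {x : X // (QuotientGroup.mk x : X ⧸ N) = q}) ×
        ↥(Subgroup.centralizer ({(x : X)} : Set X) ⊓ N)) =
        ∑ n : N, Nat.card {x : X // (QuotientGroup.mk x : X ⧸ N) = q ∧ x * n = n * x} := by
      rw [← Nat.card_sigma]
      refine Nat.card_congr ⟨fun s => ⟨⟨s.2.1, s.2.2.2⟩, ⟨s.1.1, s.1.2, ?_⟩⟩,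
        fun s => ⟨⟨s.2.1, s.2.2.1⟩, ⟨s.1.1, ⟨?_, s.1.2⟩⟩⟩, fun s => rfl, fun s => rfl⟩
      · exact (Subgroup.mem_centralizer_singleton_iff.1 s.2.2.1).symm
      · exact Subgroup.mem_centralizer_singleton_iff.2 s.2.2.2.symm
    rw [hsw, pairs_eq_sum]
    refine Finset.sum_le_sum fun n _ => ?_
    rcases isEmpty_or_nonempty {x : X // (QuotientGroup.mk x : X ⧸ N) = q ∧ x * n = n * x} with h | ⟨⟨x0, hq0, h0⟩⟩
    · simp
    refine Nat.card_le_card_of_injective
      (fun x => ⟨⟨x0⁻¹ * x.1, QuotientGroup.eq.1 (hq0.trans x.2.1.symm)⟩, ?_⟩) ?_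
    · rw [Subgroup.mem_centralizer_singleton_iff]
      refine Subtype.ext ?_
      have ha : Commute x0 (n : X) := h0
      have hb : Commute x.1 (n : X) := x.2.2
      exact (ha.inv_left.mul_left hb).eq
    · intro a b e
      refine Subtype.ext ?_
      exact mul_left_cancel (congrArg (fun z => ((z.1 : N) : X)) e)
  have key : pairs X ≤ pairs N * pairs (X ⧸ N) := by
    rw [pairs_eq_sum, pairs_eq_sum (G := X ⧸ N), Finset.mul_sum]
    refine (Finset.sum_le_sum fun x _ => hC x).trans ?_
    rw [← Fintype.sum_fiberwise (fun x : X => (QuotientGroup.mk x : X ⧸ N))]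
    refine Finset.sum_le_sum fun q _ => ?_
    refine le_trans (le_of_eq ?_) (Nat.mul_le_mul_right _ (hfib q))
    rw [Finset.sum_mul]
    exact Finset.sum_congr rfl fun x _ => by rw [x.2]
  rw [pairs_eq, pairs_eq, pairs_eq, hm] at key
  refine Nat.le_of_mul_le_mul_right (key.trans_eq ?_) (Nat.mul_pos (Nat.card_pos (α := X ⧸ N)) (Nat.card_pos (α := N)))
  ring

end Cfsg.Agent.S4201
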