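import Cfsg.Statements.S4203
import Cfsg.Agent.Lib.Solvable.Maximal
import Cfsg.Agent.Lib.Char.Burnside

set_option autoImplicit false
open Cfsg

namespace Cfsg.Agent.S4203

universe u0 in
theorem key (c : ℕ) : ∀ (G : Type u0) [Group G] [Finite G], Nat.card G = c →
    (∀ M : Subgroup G, IsCoatom M → ∃ p : ℕ, p.Prime ∧ (M.index = p ∨ M.index = p ^ 2)) →
    Group.IsSolvable G := by
  induction c using Nat.strong_induction_on with
  | _ c ih =>
  intro G _ _ hc h
  subst hc
  rcases subsingleton_or_nontrivial G with hs | hnt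
  · infer_instance
  obtain ⟨N, ⟨hNn, hNne⟩, hNmin⟩ := (Set.toFinite {N : Subgroup G | N.Normal ∧ N ≠ (⊥ : Subgroup G)}).exists_minimal
    ⟨⊤, inferInstance, top_ne_bot⟩
  have hsurj := QuotientGroup.mk'_surjective N
  have hq : Group.IsSolvable (G ⧸ N) := ih _ (CfsgLib.Solvable.card_quotient_lt N hNne) _ rfl fun M hM => by
    have := h _ (CfsgLib.Solvable.isCoatom_comap_mk' hM)
    rwa [Subgroup.index_comap_of_surjective _ hsurj] at this
  suffices hN : Group.IsSolvable N from (Group.isSolvable_iff_subgroup_quotient N).2 ⟨hN, hq⟩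
  have : Nontrivial N := (Subgroup.nontrivial_iff_ne_bot N).2 hNne
  have hne : (Nat.card N).primeFactors.Nonempty := by
    rw [Nat.nonempty_primeFactors]; exact Finite.one_lt_card
  set p := (Nat.card N).primeFactors.max' hne with hpdef
  have hp := Nat.mem_primeFactors.1 ((Nat.card N).primeFactors.max'_mem hne)
  have hpf : Fact p.Prime := ⟨hp.1⟩
  obtain ⟨P⟩ := (inferInstance : Nonempty (Sylow p N))
  have htop := P.normalizer_sup_eq_top
  rcases eq_top_or_exists_le_coatom (Subgroup.normalizer (((P : Subgroup N).map N.subtype : Subgroup G) : Set G))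
    with htn | ⟨M, hM, hPM⟩
  · have hn : ((P : Subgroup N).map N.subtype).Normal := Subgroup.normalizer_eq_top_iff.1 htn
    have hne' : (P : Subgroup N).map N.subtype ≠ ⊥ := by
      rw [Ne, Subgroup.map_eq_bot_iff_of_injective _ N.subtype_injective]
      exact P.ne_bot_of_dvd_card hp.2.1
    have hle := hNmin ⟨hn, hne'⟩ (Subgroup.map_subtype_le _)
    have hPtop : (P : Subgroup N) = ⊤ := by
      refine eq_top_iff.2 fun x _ => ?_
      obtain ⟨y, hy, hyx⟩ := hle x.2
      rwa [← Subtype.ext (show (y : G) = x from hyx)]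
    have hNp : IsPGroup p N := (hPtop ▸ P.2 : IsPGroup p (⊤ : Subgroup N)).of_equiv Subgroup.topEquiv
    have := hNp.isNilpotent
    infer_instance
  · have hNM : ¬ N ≤ M := fun hle => hM.1 (top_le_iff.1 (htop ▸ sup_le hPM hle))
    have hprod : ∀ g : G, ∃ x ∈ N, ∃ y ∈ M, g = x * y := fun g =>
      CfsgLib.Solvable.exists_mul_of_mem_sup Subgroup.le_normalizer_of_normal
        (by rw [show N ⊔ M = ⊤ by rw [sup_comm]; exact hM.2 _ (left_lt_sup.2 hNM)]; trivial)
    have hMi : M.index = (M.subgroupOf N).index := (CfsgLib.Solvable.relIndex_eq_index_of_mul hprod).symm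
    have hdvd : M.index ∣ Nat.card N := hMi ▸ Subgroup.index_dvd_card _
    have hnP : Subgroup.normalizer ((P : Subgroup N) : Set N) ≤ M.subgroupOf N := by
      intro x hx
      rw [Subgroup.mem_subgroupOf]
      refine hPM (Subgroup.mem_normalizer_iff.2 fun g => ⟨?_, ?_⟩)
      · rintro ⟨y, hy, rfl⟩
        exact ⟨x * y * x⁻¹, (Subgroup.mem_normalizer_iff.1 hx y).1 hy, rfl⟩
      · rintro ⟨y, hy, he⟩
        refine ⟨x⁻¹ * y * x, (Subgroup.mem_normalizer_iff.1 hx _).2 (show x * (x⁻¹ * y * x) * x⁻¹ ∈ (P : Subgroup N) by rw [show x * (x⁻¹ * y * x) * x⁻¹ = y by group]; exact hy), ?_⟩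
        rw [map_mul, map_mul, map_inv, he]
        simp [mul_assoc]
    have hle : (P : Subgroup N) ≤ M.subgroupOf N := Subgroup.le_normalizer.trans hnP
    have h1 := card_sylow_modEq_one p N
    have h2 := card_sylow_modEq_one p (M.subgroupOf N)
    rw [P.card_eq_index_normalizer] at h1
    change (Subgroup.normalizer ((P : Subgroup N) : Set N)).index ≡ 1 [MOD p] at h1
    rw [← Subgroup.relIndex_mul_index hnP] at h1
    rw [(P.subtype hle).card_eq_index_normalizer] at h2
    change (Subgroup.normalizer (((P.subtype hle : Sylow p (M.subgroupOf N)) : Subgroup (M.subgroupOf N)) : Set (M.subgroupOf N))).index ≡ 1 [MOD p] at h2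
    rw [Sylow.coe_subtype, ← Subgroup.subgroupOf_normalizer_eq hle] at h2
    have h3 : M.index ≡ 1 [MOD p] := by
      have h4 := (Nat.ModEq.mul_right (M.subgroupOf N).index h2).symm.trans h1
      rwa [one_mul, ← hMi] at h4
    obtain ⟨q, hq', hMq⟩ := h M hM
    have hqN : q ∣ Nat.card N := by
      rcases hMq with e | e <;> rw [e] at hdvd
      exacts [hdvd, (dvd_pow_self q two_ne_zero).trans hdvd]
    have hqp : q ≤ p := Finset.le_max' _ q (Nat.mem_primeFactors.2 ⟨hq', hqN, Nat.card_pos.ne'⟩)
    rcases hMq with e | e <;> rw [e] at h3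
    · exfalso
      rcases hqp.lt_or_eq with hlt | heq
      · rw [Nat.ModEq, Nat.mod_eq_of_lt hlt, Nat.mod_eq_of_lt hp.1.one_lt] at h3
        exact hq'.one_lt.ne' h3
      · rw [heq, Nat.ModEq, Nat.mod_self, Nat.mod_eq_of_lt hp.1.one_lt] at h3
        exact zero_ne_one h3
    · have h5 : p ∣ (q - 1) * (q + 1) := by
        have h6 := (Nat.modEq_iff_dvd' (Nat.one_le_pow 2 q hq'.pos)).1 h3.symm
        rwa [show q ^ 2 - 1 = (q - 1) * (q + 1) by rw [mul_comm, ← Nat.sq_sub_sq, one_pow]] at h6
      have hne2 : q ≠ p := fun e' => by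
        rw [e', Nat.ModEq, Nat.mod_eq_of_lt hp.1.one_lt, pow_two, Nat.mul_mod_right] at h3
        exact zero_ne_one h3
      have hq2 : q = 2 := by
        rcases (Nat.Prime.dvd_mul hp.1).1 h5 with h6 | h6
        · have := Nat.le_of_dvd (Nat.sub_pos_of_lt hq'.one_lt) h6; omega
        · have := Nat.le_of_dvd (Nat.succ_pos q) h6
          have hpe : p = q + 1 := by omega
          rcases hq'.eq_two_or_odd' with h7 | h7
          · exact h7
          · rcases hp.1.eq_two_or_odd' with h8 | h8
            · have := hq'.two_le; omega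
            · rw [← hpdef, hpe] at h8
              exact absurd h7.add_one (Nat.not_even_iff_odd.2 h8)
      subst hq2
      let f : N →* Equiv.Perm (G ⧸ M) := (MulAction.toPermHom G (G ⧸ M)).comp N.subtype
      have hcore : N ⊓ M.normalCore = ⊥ := by
        by_contra hne'
        exact hNM ((hNmin ⟨inferInstance, hne'⟩ inf_le_left).trans (inf_le_right.trans M.normalCore_le))
      have hf : Function.Injective f := (injective_iff_map_eq_one f).2 fun x hx => by
        have h7 : (x : G) ∈ (⊥ : Subgroup G) := hcore ▸ ⟨x.2, by rw [M.normalCore_eq_ker]; exact hx⟩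
        exact Subtype.ext (Subgroup.mem_bot.1 h7)
      have hc4 : Nat.card (G ⧸ M) = 4 := e
      have : Group.IsSolvable (Equiv.Perm (G ⧸ M)) := CfsgLib.Char.isSolvable_of_card_eq_pow_mul_pow
        Nat.prime_two Nat.prime_three (a := 3) (b := 1) (by rw [Nat.card_perm, hc4]; rfl)
      exact Group.isSolvable_of_isSolvable_injective hf


/-- A finite group in which every maximal subgroup has index a prime or the square of a prime is solvable. -/
theorem result {G : Type*} [Group G] [Finite G] (h : ∀ M : Subgroup G, IsCoatom M → ∃ p : ℕ, p.Prime ∧ (M.index = p ∨ M.index = p ^ 2)) : Group.IsSolvable G := by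
  exact key _ G rfl h

end Cfsg.Agent.S4203
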