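import Cfsg.Statements.S4204

set_option autoImplicit false
open Cfsg

namespace Cfsg.Agent.S4204

theorem commutator_iSup_le {G : Type*} [Group G] {ι : Sort*} (X : ι → Subgroup G) (S M : Subgroup G) [M.Normal]
    (h : ∀ i, ⁅X i, S⁆ ≤ M) : ⁅⨆ i, X i, S⁆ ≤ M := by
  have key : ∀ Y : Subgroup G, ⁅Y, S⁆ ≤ M ↔
      Y ≤ (Subgroup.centralizer ((S.map (QuotientGroup.mk' M) : Subgroup (G ⧸ M)) : Set (G ⧸ M))).comap
        (QuotientGroup.mk' M) := by
    intro Y
    rw [← Subgroup.map_le_iff_le_comap, ← Subgroup.commutator_eq_bot_iff_le_centralizer, ← Subgroup.map_commutator,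
      Subgroup.map_eq_bot_iff, QuotientGroup.ker_mk']
  rw [key]
  exact iSup_le fun i => (key _).1 (h i)

theorem commutator_sup_le {G : Type*} [Group G] (H K S M : Subgroup G) [M.Normal]
    (h1 : ⁅H, S⁆ ≤ M) (h2 : ⁅K, S⁆ ≤ M) : ⁅H ⊔ K, S⁆ ≤ M := by
  rw [sup_eq_iSup]
  exact commutator_iSup_le _ S M fun b => by cases b <;> assumption

/-- `chain H 0 = ⊤` and `chain H (i+1)` is the `i`-th lower central term. -/
def chain {G : Type*} [Group G] (H : Subgroup G) : ℕ → Subgroup G
  | 0 => ⊤
  | i + 1 => H.lowerCentralSeries i

theorem chain_normal {G : Type*} [Group G] (H : Subgroup G) [H.Normal] : ∀ i, (chain H i).Normal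
  | 0 => ⟨fun _ _ _ => Subgroup.mem_top _⟩
  | i + 1 => by
    induction i with
    | zero => rw [chain, Subgroup.lowerCentralSeries_zero]; infer_instance
    | succ i ih =>
      have : (H.lowerCentralSeries i).Normal := ih
      rw [chain, Subgroup.lowerCentralSeries_succ]
      infer_instance

theorem chain_step {G : Type*} [Group G] (H : Subgroup G) [H.Normal] : ∀ i, ⁅chain H i, H⁆ ≤ chain H (i + 1)
  | 0 => by rw [chain, chain, Subgroup.lowerCentralSeries_zero]; exact Subgroup.commutator_le_right _ _
  | i + 1 => (Subgroup.lowerCentralSeries_succ H i).ge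

theorem chain_anti {G : Type*} [Group G] (H : Subgroup G) [H.Normal] : Antitone (chain H) := by
  refine antitone_nat_of_succ_le fun i => ?_
  rcases i with _ | i
  · exact le_top
  · have h1 : (chain H (i + 1)).Normal := chain_normal H _
    calc chain H (i + 1 + 1) = ⁅H.lowerCentralSeries i, H⁆ := Subgroup.lowerCentralSeries_succ H i
      _ ≤ chain H (i + 1) := @Subgroup.commutator_le_left _ _ _ _ h1


/-- If `H` and `K` are normal subgroups of a finite group with `H` nilpotent of class at most `c` and `K` nilpotent of class at most `d` (the terms with index `c`, respectively `d`, of their lower central series are trivial, indices starting at `0`), then `HK` is nilpotent of class at most `c + d`. -/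
theorem result {G : Type*} [Group G] [Finite G] (H K : Subgroup G) [H.Normal] [K.Normal] (c d : ℕ) (hH : H.lowerCentralSeries c = ⊥) (hK : K.lowerCentralSeries d = ⊥) : (H ⊔ K).lowerCentralSeries (c + d) = ⊥ := by
  let T : ℕ → Subgroup G := fun m => ⨆ i : Fin (m + 1), chain H i ⊓ chain K (m - i)
  have hTn : ∀ m, (T m).Normal := fun m =>
    Subgroup.sSup_normal _ (by rintro _ ⟨i, rfl⟩
                               have := chain_normal H i
                               have := chain_normal K (m - i)
                               exact Subgroup.normal_inf_normal _ _)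
  have hle : ∀ m i j, i + j = m → chain H i ⊓ chain K j ≤ T m := by
    intro m i j h
    refine le_iSup_of_le ⟨i, by omega⟩ ?_
    rw [show m - (⟨i, by omega⟩ : Fin (m+1)).val = j by simp; omega]
  suffices key : ∀ m, (H ⊔ K).lowerCentralSeries m ≤ T (m + 1) by
    refine le_bot_iff.1 ((key _).trans (iSup_le fun i => ?_))
    by_cases hi : c + 1 ≤ (i : ℕ)
    · exact inf_le_left.trans ((chain_anti H hi).trans hH.le)
    · exact inf_le_right.trans ((chain_anti K (show d + 1 ≤ c + d + 1 - i by omega)).trans hK.le)
  intro m
  induction m with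
  | zero =>
    rw [Subgroup.lowerCentralSeries_zero]
    exact sup_le ((le_inf le_rfl le_top).trans (hle 1 1 0 rfl)) ((le_inf le_top le_rfl).trans (hle 1 0 1 rfl))
  | succ m ih =>
    rw [Subgroup.lowerCentralSeries_succ]
    have := hTn (m + 1 + 1)
    refine (Subgroup.commutator_mono ih le_rfl).trans (commutator_iSup_le _ _ _ fun i => ?_)
    rw [Subgroup.commutator_comm]
    have h1 : chain H i ⊓ chain K (m + 1 - i) ≤ chain H i := inf_le_left
    have h2 : chain H i ⊓ chain K (m + 1 - i) ≤ chain K (m + 1 - i) := inf_le_right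
    have := chain_normal H i
    have := chain_normal K (m + 1 - i)
    refine commutator_sup_le _ _ _ _ ?_ ?_ <;> rw [Subgroup.commutator_comm]
    · refine le_trans (le_inf ((Subgroup.commutator_mono h1 le_rfl).trans (chain_step H _))
        ((Subgroup.commutator_mono h2 le_rfl).trans (Subgroup.commutator_le_left _ _))) ?_
      exact hle _ _ _ (by omega)
    · refine le_trans (le_inf ((Subgroup.commutator_mono h1 le_rfl).trans (Subgroup.commutator_le_left _ _))
        ((Subgroup.commutator_mono h2 le_rfl).trans (chain_step K _))) ?_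
      exact hle _ _ _ (by omega)

end Cfsg.Agent.S4204
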