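import Cfsg.Statements.S4205

set_option autoImplicit false
open Cfsg

namespace Cfsg.Agent.S4205

/-- In a finite group whose upper central series reaches the whole group at step `c` (nilpotent of class at most `c`), starting from any subgroup and taking normalizers `c` times reaches the whole group. -/
theorem result {G : Type*} [Group G] [Finite G] (c : ℕ) (hG : Subgroup.upperCentralSeries G c = ⊤) (H : Subgroup G) : (fun K : Subgroup G => Subgroup.normalizer (K : Set G))^[c] H = ⊤ := by
  suffices key : ∀ k, Subgroup.upperCentralSeries G k ≤
      (fun K : Subgroup G => Subgroup.normalizer (K : Set G))^[k] H from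
    top_le_iff.1 (hG ▸ key c)
  intro k
  induction k with
  | zero => simp
  | succ k ih =>
    intro z hz
    rw [Subgroup.mem_upperCentralSeries_succ_iff] at hz
    rw [Function.iterate_succ_apply']
    set K := (fun K : Subgroup G => Subgroup.normalizer (K : Set G))^[k] H with hK
    change z ∈ Subgroup.normalizer (K : Set G)
    rw [Subgroup.mem_normalizer_iff]
    intro y
    have hy : z * y * z⁻¹ * y⁻¹ ∈ K := ih (hz y)
    constructor
    · intro h
      simpa using mul_mem hy h
    · intro h
      have := mul_mem (inv_mem hy) h
      simpa [mul_assoc] using this

end Cfsg.Agent.S4205
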