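import Cfsg.Statements.S4208
import Mathlib
import Cfsg.Agent.Lib.PGroup.Basic

set_option autoImplicit false
open Cfsg

namespace Cfsg.Agent.S4208

variable {P : Type*} [Group P] [Finite P]

theorem dvd_card_of_free {A X : Type*} [Group A] [MulAction A X] [Finite X] (h : ∀ a : A, ∀ x : X, a • x = x → a = 1) :
    Nat.card A ∣ Nat.card X := by
  rcases isEmpty_or_nonempty X with hX | ⟨⟨x0⟩⟩
  · rw [Nat.card_of_isEmpty (α := X)]
    exact dvd_zero _
  have : Finite A := Finite.of_injective (fun a : A => a • x0) fun a b e =>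
    (inv_mul_eq_one.1 (h (b⁻¹ * a) x0 (by rw [mul_smul, inv_smul_eq_iff]; exact e))).symm
  rw [Nat.card_congr (MulAction.selfEquivSigmaOrbitsQuotientStabilizer A X)]
  classical
  have := Fintype.ofFinite (Quotient (MulAction.orbitRel A X))
  rw [Nat.card_sigma]
  refine Finset.dvd_sum fun ω _ => ?_
  have hst : MulAction.stabilizer A ω.out = ⊥ :=
    (Subgroup.eq_bot_iff_forall _).2 fun a ha => h a ω.out ha
  rw [hst, ← Subgroup.index, Subgroup.index_bot]

theorem card_fibre {r : ℕ} (N : Subgroup P) (t : Fin r → P ⧸ N) :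
    Nat.card {f : Fin r → P // ∀ i, (QuotientGroup.mk (f i) : P ⧸ N) = t i} = Nat.card N ^ r := by
  let e : {f : Fin r → P // ∀ i, (QuotientGroup.mk (f i) : P ⧸ N) = t i} ≃ (Fin r → N) :=
  { toFun := fun f i => ⟨(t i).out⁻¹ * f.1 i, QuotientGroup.eq.1 ((QuotientGroup.out_eq' (t i)).trans (f.2 i).symm)⟩
    invFun := fun u => ⟨fun i => (t i).out * (u i : P), fun i => by
      rw [QuotientGroup.mk_mul_of_mem _ (u i).2, QuotientGroup.out_eq']⟩
    left_inv := fun f => Subtype.ext (funext fun i => mul_inv_cancel_left _ _)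
    right_inv := fun u => funext fun i => Subtype.ext (inv_mul_cancel_left _ _) }
  rw [Nat.card_congr e, Nat.card_fun, Nat.card_fin]

theorem gen_iff {r : ℕ} [(frattini P).Normal] (f : Fin r → P) :
    Subgroup.closure (Set.range f) = ⊤ ↔
      Subgroup.closure (Set.range fun i => (QuotientGroup.mk (f i) : P ⧸ frattini P)) = ⊤ := by
  have e : Subgroup.closure (Set.range fun i => (QuotientGroup.mk (f i) : P ⧸ frattini P)) =
      (Subgroup.closure (Set.range f)).map (QuotientGroup.mk' (frattini P)) := by
    rw [MonoidHom.map_closure]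
    congr 1
    rw [← Set.range_comp]
    rfl
  rw [e]
  constructor
  · intro h
    rw [h]
    exact Subgroup.map_top_of_surjective _ (QuotientGroup.mk'_surjective _)
  · intro h
    apply CfsgLib.PGroup.eq_top_of_sup_frattini
    rw [← Subgroup.comap_top (QuotientGroup.mk' (frattini P)), ← h, Subgroup.comap_map_eq, QuotientGroup.ker_mk']

theorem card_gen_quotient {Q : Type*} [CommGroup Q] [Finite Q] {p r : ℕ} [Fact p.Prime]
    (hp : ∀ x : Q, x ^ p = 1) (hQ : Nat.card Q = p ^ r) :
    Nat.card {t : Fin r → Q // Subgroup.closure (Set.range t) = ⊤} = ∏ i ∈ Finset.range r, (p ^ r - p ^ i) := by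
  let _ : Module (ZMod p) (Additive Q) := AddCommGroup.zmodModule (n := p) (fun x => (hp x.toMul : _))
  have := Fintype.ofFinite Q
  have hfd : FiniteDimensional (ZMod p) (Additive Q) := Module.Finite.of_finite
  have hfr : Module.finrank (ZMod p) (Additive Q) = r := by
    have h1 : Fintype.card (Additive Q) = p ^ Module.finrank (ZMod p) (Additive Q) := by
      rw [Module.card_eq_pow_finrank (K := ZMod p), ZMod.card]
    rw [← Nat.card_eq_fintype_card, show Nat.card (Additive Q) = Nat.card Q from Nat.card_congr Additive.toMul, hQ] at h1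
    exact (Nat.pow_right_injective (Fact.out : p.Prime).two_le h1).symm
  have key := card_linearIndependent (K := ZMod p) (V := Additive Q) (k := r) (le_of_eq hfr.symm)
  rw [ZMod.card, hfr, Fin.prod_univ_eq_prod_range (fun i => p ^ r - p ^ i)] at key
  rw [← key]
  refine Nat.card_congr ((Equiv.arrowCongr (Equiv.refl _) Additive.ofMul).subtypeEquiv fun t => ?_)
  rw [linearIndependent_iff_card_eq_finrank_span, Fintype.card_fin, Set.finrank]
  let e : Subgroup Q → AddSubgroup (Additive Q) := fun H => Subgroup.toAddSubgroup H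
  have hspan : (Submodule.span (ZMod p) (Set.range ((Equiv.refl (Fin r)).arrowCongr Additive.ofMul t))).toAddSubgroup =
      Subgroup.toAddSubgroup (Subgroup.closure (Set.range t)) := by
    rw [Subgroup.toAddSubgroup_closure]
    have hset : Set.range ((Equiv.refl (Fin r)).arrowCongr Additive.ofMul t) = Additive.toMul ⁻¹' Set.range t := rfl
    rw [hset]
    refine le_antisymm ?_ ((AddSubgroup.closure_le _).2 Submodule.subset_span)
    exact fun x hx => (Submodule.span_le (p := AddSubgroup.toZModSubmodule p (AddSubgroup.closure _))).2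
      AddSubgroup.subset_closure hx
  revert hspan
  generalize hS : Submodule.span (ZMod p) (Set.range ((Equiv.refl (Fin r)).arrowCongr Additive.ofMul t)) = S
  intro hspan
  have hiff : Subgroup.closure (Set.range t) = ⊤ ↔ S = ⊤ := by
    constructor
    · intro h
      rw [h] at hspan
      apply Submodule.toAddSubgroup_injective
      rw [hspan]
      rfl
    · intro h
      rw [h] at hspan
      apply Subgroup.toAddSubgroup.injective
      exact hspan.symm
  rw [hiff]
  constructor
  · intro h
    rw [h]
    exact hfr.symm.trans (finrank_top (ZMod p) (Additive Q)).symm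
  · intro h
    exact @Submodule.eq_top_of_finrank_eq _ _ _ _ _ hfd _ (h.symm.trans hfr.symm)

theorem quot_facts {p n r : ℕ} [Fact p.Prime] (hP : Nat.card P = p ^ n) (hr : (frattini P).index = p ^ r) :
    Nat.card (frattini P) = p ^ (n - r) ∧
      Nat.card {t : Fin r → P ⧸ frattini P // Subgroup.closure (Set.range t) = ⊤} =
        ∏ i ∈ Finset.range r, (p ^ r - p ^ i) := by
  have hPG : IsPGroup p P := IsPGroup.of_card hP
  refine ⟨?_, ?_⟩
  · have h := (frattini P).card_mul_index
    rw [hr, hP] at h
    have hle : r ≤ n := by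
      have : p ^ r ∣ p ^ n := ⟨_, h.symm.trans (mul_comm _ _)⟩
      exact (Nat.pow_dvd_pow_iff_le_right (Fact.out : p.Prime).one_lt).1 this
    refine Nat.eq_of_mul_eq_mul_right (pow_pos (Fact.out : p.Prime).pos r) ?_
    rw [h, ← pow_add, Nat.sub_add_cancel hle]
  · let _ : CommGroup (P ⧸ frattini P) :=
      { (inferInstance : Group (P ⧸ frattini P)) with mul_comm := CfsgLib.PGroup.quotient_frattini_comm hPG }
    exact card_gen_quotient (fun x => CfsgLib.PGroup.quotient_frattini_pow hPG x) hr

theorem eq_one_of_fix {r : ℕ} {f : Fin r → P} (hf : Subgroup.closure (Set.range f) = ⊤) (a : MulAut P)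
    (h : ∀ i, a (f i) = f i) : a = 1 := by
  refine MulEquiv.toMonoidHom_injective (MonoidHom.eq_of_eqOn_dense hf ?_)
  rintro _ ⟨i, rfl⟩
  exact h i


/-- Let `P` be a group of order `p^n` whose Frattini subgroup has index `p^r`. Then the order of the automorphism group of `P` divides `p^(r(n-r)) · (p^r - 1)(p^r - p) ⋯ (p^r - p^(r-1))`. -/
theorem result {P : Type*} [Group P] [Finite P] {p n r : ℕ} [Fact p.Prime] (hP : Nat.card P = p ^ n) (hr : (frattini P).index = p ^ r) : Nat.card (MulAut P) ∣ p ^ (r * (n - r)) * ∏ i ∈ Finset.range r, (p ^ r - p ^ i) := by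
  obtain ⟨h1, h2⟩ := quot_facts hP hr
  let T := {f : Fin r → P // Subgroup.closure (Set.range f) = ⊤}
  let _ : MulAction (MulAut P) T :=
  { smul := fun a f => ⟨fun i => a (f.1 i), by
      rw [show Set.range (fun i => a (f.1 i)) = a.toMonoidHom '' Set.range f.1 from (Set.range_comp _ _),
        ← MonoidHom.map_closure, f.2, Subgroup.map_top_of_surjective _ a.surjective]⟩
    one_smul := fun f => rfl
    mul_smul := fun a b f => rfl }
  have hdvd := dvd_card_of_free (A := MulAut P) (X := T)
    (fun a f hf => eq_one_of_fix f.2 a fun i => congrFun (congrArg Subtype.val hf) i)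
  refine dvd_trans hdvd (dvd_of_eq ?_)
  classical
  let g : T → {t : Fin r → P ⧸ frattini P // Subgroup.closure (Set.range t) = ⊤} :=
    fun f => ⟨fun i => QuotientGroup.mk (f.1 i), (gen_iff f.1).1 f.2⟩
  have := Fintype.ofFinite {t : Fin r → P ⧸ frattini P // Subgroup.closure (Set.range t) = ⊤}
  rw [← Nat.card_congr (Equiv.sigmaFiberEquiv g), Nat.card_sigma, Finset.sum_eq_card_nsmul (b := p ^ (r * (n - r)))]
  · rw [smul_eq_mul, Finset.card_univ, ← Nat.card_eq_fintype_card, h2, mul_comm]
  intro t _
  rw [mul_comm r, pow_mul, ← h1, ← card_fibre (frattini P) t.1]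
  refine Nat.card_congr ⟨fun f => ⟨f.1.1, fun i => congrFun (congrArg Subtype.val f.2) i⟩,
    fun f => ⟨⟨f.1, (gen_iff f.1).2 ((congrArg (fun u => Subgroup.closure (Set.range u)) (funext f.2 : (fun i => (QuotientGroup.mk (f.1 i) : P ⧸ frattini P)) = t.1)).trans t.2)⟩,
      Subtype.ext (funext f.2)⟩, fun f => rfl, fun f => rfl⟩

end Cfsg.Agent.S4208
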