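import Cfsg.Statements.S4207
import Cfsg.Agent.S4208

set_option autoImplicit false
open Cfsg

namespace Cfsg.Agent.S4207

open Cfsg.Agent.S4208


/-- Let `P` be a group of order `p^n` whose Frattini subgroup has index `p^r`. Then any group of automorphisms of `P` each of which induces the identity on the Frattini quotient has order dividing `p^(r(n-r))`; in particular it is a `p`-group. -/
theorem result {P : Type*} [Group P] [Finite P] {p n r : ℕ} [Fact p.Prime] (hP : Nat.card P = p ^ n) (hr : (frattini P).index = p ^ r) (A : Subgroup (MulAut P)) (hA : ∀ α ∈ A, ∀ x : P, α x * x⁻¹ ∈ frattini P) : Nat.card A ∣ p ^ (r * (n - r)) := by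
  obtain ⟨h1, h2⟩ := quot_facts hP hr
  have hne : Nonempty {t : Fin r → P ⧸ frattini P // Subgroup.closure (Set.range t) = ⊤} := by
    refine (Nat.card_pos_iff.1 ?_).1
    rw [h2]
    refine Finset.prod_pos fun i hi => Nat.sub_pos_of_lt ?_
    exact Nat.pow_lt_pow_right (Fact.out : p.Prime).one_lt (Finset.mem_range.1 hi)
  obtain ⟨t, ht⟩ := hne
  let T := {f : Fin r → P // ∀ i, (QuotientGroup.mk (f i) : P ⧸ frattini P) = t i}
  let _ : MulAction A T :=
  { smul := fun a f => ⟨fun i => (a : MulAut P) (f.1 i), fun i => by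
      rw [← f.2 i, QuotientGroup.eq]
      have hn : (frattini P).Normal := inferInstance
      have h := inv_mem (hn.conj_mem _ (hA a a.2 (f.1 i)) ((f.1 i)⁻¹))
      rw [inv_inv] at h
      simpa [mul_assoc] using h⟩
    one_smul := fun f => rfl
    mul_smul := fun a b f => rfl }
  have hdvd := dvd_card_of_free (A := A) (X := T) (fun a f hf => Subtype.ext (eq_one_of_fix (f := f.1)
    ((gen_iff f.1).2 ((congrArg (fun u => Subgroup.closure (Set.range u)) (funext f.2 : (fun i => (QuotientGroup.mk (f.1 i) : P ⧸ frattini P)) = t)).trans ht)) a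
    (fun i => congrFun (congrArg Subtype.val hf) i)))
  rwa [card_fibre, h1, ← pow_mul, mul_comm] at hdvd

end Cfsg.Agent.S4207
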