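import Cfsg.Statements.S4212
import Cfsg.Agent.Lib.FGS.FrobeniusCount

set_option autoImplicit false
open Cfsg

namespace Cfsg.Agent.S4212

universe u

open Finset

/-- Roots of prime power degree of a nontrivial element of prime power order fall into blocks. -/
theorem dvd_card_roots {G : Type u} [Group G] [Finite G] {p a m : ℕ} (hp : p.Prime) {z : G}
    (hz : orderOf z = p ^ (m + 1)) : p ^ a ∣ Nat.card {u : G // u ^ p ^ a = z} := by
  classical
  have := Fintype.ofFinite G
  have := Fintype.ofFinite (Subgroup G)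
  rw [Nat.subtype_card (univ.filter fun u : G => u ^ p ^ a = z) (by simp),
    Finset.card_eq_sum_card_image Subgroup.zpowers]
  refine Finset.dvd_sum fun K hK => dvd_of_eq ?_
  obtain ⟨u, hu, rfl⟩ := Finset.mem_image.1 hK
  rw [Finset.mem_filter] at hu
  have := Fact.mk hp
  have hou : orderOf u = p ^ (a + m + 1) := by
    refine orderOf_eq_prime_pow (fun h => ?_) ?_
    · have h2 : z ^ p ^ m = 1 := by rw [← hu.2, ← pow_mul, ← pow_add]; exact h
      have h3 := Nat.le_of_dvd (pow_pos hp.pos _) (hz ▸ orderOf_dvd_of_pow_eq_one h2)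
      exact absurd h3 (not_le.2 (Nat.pow_lt_pow_right hp.one_lt (Nat.lt_succ_self m)))
    · rw [add_assoc, pow_add, pow_mul, hu.2, ← hz, pow_orderOf_eq_one]
  refine (Finset.card_range (p ^ a)).symm.trans ?_
  refine Finset.card_bij (fun j _ => u ^ (1 + j * p ^ (m + 1))) (fun j _ => ?_) ?_ ?_
  · have h4 : (u ^ (1 + j * p ^ (m + 1))) ^ p ^ a = z := by
      rw [← pow_mul, mul_comm, pow_mul, hu.2, pow_add, pow_one, mul_comm j, pow_mul, ← hz,
        pow_orderOf_eq_one, one_pow, mul_one]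
    refine Finset.mem_filter.2 ⟨Finset.mem_filter.2 ⟨Finset.mem_univ _, h4⟩, ?_⟩
    refine Subgroup.eq_of_le_of_card_ge (Subgroup.zpowers_le.2
      (Subgroup.pow_mem _ (Subgroup.mem_zpowers u) _)) ?_
    rw [Nat.card_zpowers, Nat.card_zpowers]
    have hcop : (orderOf u).Coprime (1 + j * p ^ (m + 1)) := by
      rw [hou]
      refine Nat.Coprime.pow_left _ ((hp.coprime_iff_not_dvd).2 fun hd => ?_)
      have : p ∣ j * p ^ (m + 1) := Dvd.dvd.mul_left (dvd_pow_self p (Nat.succ_ne_zero m)) j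
      exact hp.ne_one (Nat.dvd_one.1 ((Nat.dvd_add_left this).1 hd))
    exact (Nat.Coprime.orderOf_pow hcop).ge
  · intro i hi j hj hij
    rw [Finset.mem_range] at hi hj
    rw [pow_eq_pow_iff_modEq, hou] at hij
    have h5 : i * p ^ (m + 1) ≡ j * p ^ (m + 1) [MOD p ^ a * p ^ (m + 1)] := by
      rw [← pow_add, ← add_assoc]
      exact Nat.ModEq.add_left_cancel' 1 hij
    exact Nat.ModEq.eq_of_lt_of_lt (Nat.ModEq.mul_right_cancel' (pow_ne_zero _ hp.ne_zero) h5) hi hj
  · intro w hw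
    rw [Finset.mem_filter, Finset.mem_filter] at hw
    have hwu : w ∈ Subgroup.zpowers u := hw.2 ▸ Subgroup.mem_zpowers w
    rw [← mem_powers_iff_mem_zpowers, Submonoid.mem_powers_iff] at hwu
    obtain ⟨i, rfl⟩ := hwu
    have hiz : z ^ i = z ^ 1 := by
      rw [pow_one]
      conv_rhs => rw [← hw.1.2]
      rw [← hu.2, ← pow_mul, ← pow_mul, mul_comm]
    rw [pow_eq_pow_iff_modEq, hz] at hiz
    -- reduce `i` modulo the order of `u`
    set i' := (i + orderOf u) % orderOf u with hi'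
    have hi'' : u ^ i' = u ^ i := by
      rw [hi', pow_mod_orderOf, pow_add, pow_orderOf_eq_one, mul_one]
    have hmod : i' ≡ 1 [MOD p ^ (m + 1)] := by
      have h6 : i' ≡ i [MOD p ^ (m + 1)] := by
        have h7 : i' ≡ i [MOD orderOf u] := pow_eq_pow_iff_modEq.1 hi''
        refine h7.of_dvd ?_
        rw [hou]
        exact pow_dvd_pow p (by omega)
      exact h6.trans hiz
    have hlt : i' < p ^ a * p ^ (m + 1) := by
      rw [← pow_add, ← add_assoc, ← hou, hi']
      exact Nat.mod_lt _ (orderOf_pos u)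
    have hm1 : 1 < p ^ (m + 1) := Nat.one_lt_pow (Nat.succ_ne_zero m) hp.one_lt
    refine ⟨i' / p ^ (m + 1), Finset.mem_range.2 ?_, ?_⟩
    · exact (Nat.div_lt_iff_lt_mul (by omega)).2 hlt
    · have h8 := Nat.mod_add_div i' (p ^ (m + 1))
      rw [hmod, Nat.mod_eq_of_lt hm1, mul_comm] at h8
      rw [h8, hi'']

/-- Roots of a central element in the centraliser, for a fixed prime power. -/
theorem gcd_dvd_card_roots {G : Type u} [Group G] [Finite G] {p a : ℕ} (hp : p.Prime) {z : G}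
    (hz : ∃ m, orderOf z ∣ p ^ m) :
    Nat.gcd (p ^ a) (Nat.card G) ∣ Nat.card {u : G // u ^ p ^ a = z} := by
  obtain ⟨m, hm⟩ := hz
  obtain ⟨k, -, hk⟩ := (Nat.dvd_prime_pow hp).1 hm
  cases k with
  | zero =>
    rw [pow_zero, orderOf_eq_one_iff] at hk
    subst hk
    exact CfsgLib.FGS.gcd_dvd_card_pow_eq_one _
  | succ k => exact (Nat.gcd_dvd_left _ _).trans (dvd_card_roots hp hk)

/-- The part at one prime of the theorem on roots of a central element. -/
theorem dvd_card_roots_central {G : Type u} [Group G] [Finite G] {p k n : ℕ} (hp : p.Prime) {c : G}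
    (hc : c ∈ Subgroup.center G) (hn : p ^ k ∣ n) (hG : p ^ k ∣ Nat.card G) :
    p ^ k ∣ Nat.card {x : G // x ^ n = c} := by
  classical
  have := Fact.mk hp
  rcases Nat.eq_zero_or_pos n with rfl | hn0
  · by_cases h : c = 1
    · subst h
      simpa [Nat.card_congr (Equiv.subtypeUnivEquiv fun x : G => pow_zero x)] using hG
    · have : IsEmpty {x : G // x ^ 0 = c} := ⟨fun x => h (by simpa using x.2.symm)⟩
      rw [Nat.card_of_isEmpty]
      exact dvd_zero _
  obtain ⟨a, r, hr, rfl⟩ := Nat.exists_eq_pow_mul_and_not_dvd hn0.ne' p hp.ne_one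
  have hka : k ≤ a := by
    have h1 := (Nat.Coprime.pow_left k (hp.coprime_iff_not_dvd.2 hr)).dvd_of_dvd_mul_right hn
    exact (Nat.pow_dvd_pow_iff_le_right hp.one_lt).1 h1
  obtain ⟨b, s, hs, hg⟩ := Nat.exists_eq_pow_mul_and_not_dvd (Nat.card_pos (α := G)).ne' p hp.ne_one
  have hcop : (p ^ b).Coprime s := Nat.Coprime.pow_left _ (hp.coprime_iff_not_dvd.2 hs)
  obtain ⟨E, F, hE, hsE, hF, hPF, hEF⟩ := CfsgLib.FGS.exists_idempotent_exponents hcop
  have hord : ∀ x : G, x ^ (p ^ b * s) = 1 := fun x => hg ▸ pow_card_eq_one'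
  have hsplit : ∀ x : G, x ^ E * x ^ F = x := fun x => by
    rw [← pow_add]
    exact CfsgLib.FGS.pow_eq_self_of_modEq (hord x) hEF
  have := Fintype.ofFinite G
  have hfib : Nat.card {x : G // x ^ (p ^ a * r) = c} =
      ∑ v ∈ univ.filter (fun v : G => v ^ s = 1),
        Nat.card {x : G // x ^ (p ^ a * r) = c ∧ x ^ F = v} := by
    rw [Nat.subtype_card (univ.filter fun x : G => x ^ (p ^ a * r) = c) (by simp),
      Finset.card_eq_sum_card_fiberwise (f := fun x => x ^ F) (t := univ.filter fun v : G => v ^ s = 1)]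
    · exact Finset.sum_congr rfl fun v _ => (Nat.subtype_card _ (by simp)).symm
    · intro x _
      simp only [Finset.coe_filter, Finset.mem_univ, true_and, Set.mem_setOf_eq]
      rw [← pow_mul]
      exact CfsgLib.FGS.pow_eq_one_of_dvd' (hord x) (mul_dvd_mul_right hPF s)
  rw [hfib]
  refine CfsgLib.FGS.dvd_sum_of_classes (fun v : G => v ^ s = 1)
    (fun g x hx => by rw [conj_pow, hx, mul_one, mul_inv_cancel])
    (fun v => Nat.card {x : G // x ^ (p ^ a * r) = c ∧ x ^ F = v}) (fun g v => ?_) _ fun v _ => ?_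
  · symm
    refine Nat.card_congr ((MulAut.conj g).toEquiv.subtypeEquiv fun x => ?_)
    simp only [MulEquiv.toEquiv_eq_coe, EquivLike.coe_coe, MulAut.conj_apply, conj_pow]
    constructor
    · rintro ⟨h1, h2⟩
      refine ⟨?_, by rw [h2]⟩
      rw [h1, Subgroup.mem_center_iff.1 hc g, mul_inv_cancel_right]
    · rintro ⟨h1, h2⟩
      refine ⟨?_, mul_left_cancel (mul_right_cancel h2)⟩
      have h3 : g * x ^ (p ^ a * r) * g⁻¹ = g * c * g⁻¹ := by
        rw [h1, Subgroup.mem_center_iff.1 hc g, mul_inv_cancel_right]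
      exact mul_left_cancel (mul_right_cancel h3)
  by_cases hne : IsEmpty {x : G // x ^ (p ^ a * r) = c ∧ x ^ F = v}
  · simp [Nat.card_of_isEmpty]
  rw [not_isEmpty_iff] at hne
  obtain ⟨⟨x₀, hx₀, hx₀F⟩⟩ := hne
  set C := Subgroup.centralizer ({v} : Set G) with hC
  have hcv : ∀ j : ℕ, c ^ j ∈ C := fun j => Subgroup.mem_centralizer_singleton_iff.2
    ((Subgroup.mem_center_iff.1 (Subgroup.pow_mem _ hc j) v).symm)
  obtain ⟨r', hr'⟩ : ∃ r', r * r' ≡ 1 [MOD p ^ b] := by
    rcases Nat.eq_zero_or_pos b with rfl | hb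
    · exact ⟨0, by simp [Nat.modEq_one]⟩
    · obtain ⟨r', -, h⟩ := Nat.exists_mul_mod_eq_one_of_coprime
        (Nat.Coprime.pow_right b (hp.coprime_iff_not_dvd.2 hr).symm) (Nat.one_lt_pow hb.ne' hp.one_lt)
      exact ⟨r', h.trans (Nat.one_mod_eq_one.2 (Nat.one_lt_pow hb.ne' hp.one_lt).ne').symm⟩
  have hcE : (c ^ E) ^ p ^ b = 1 := by
    rw [← pow_mul]
    exact CfsgLib.FGS.pow_eq_one_of_dvd' (hord c) (mul_comm E (p ^ b) ▸ mul_dvd_mul_left _ hsE)
  let z : C := ⟨(c ^ E) ^ r', Subgroup.pow_mem _ (hcv E) r'⟩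
  have hzb : orderOf z ∣ p ^ b := by
    refine orderOf_dvd_of_pow_eq_one (Subtype.ext ?_)
    simp only [z, SubmonoidClass.mk_pow, OneMemClass.coe_one]
    rw [← pow_mul, mul_comm, pow_mul, hcE, one_pow]
  have key : Nat.card {x : G // x ^ (p ^ a * r) = c ∧ x ^ F = v} = Nat.card {u : C // u ^ p ^ a = z} := by
    have hvF : v ^ F = v := by
      rw [← hx₀F, ← pow_mul, pow_eq_pow_iff_modEq]
      refine Nat.ModEq.of_dvd (orderOf_dvd_of_pow_eq_one (hord x₀)) ?_
      refine (Nat.modEq_and_modEq_iff_modEq_mul hcop).1 ⟨?_, ?_⟩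
      · exact (Nat.modEq_zero_iff_dvd.2 (hPF.mul_left F)).trans (Nat.modEq_zero_iff_dvd.2 hPF).symm
      · simpa using hF.mul_left F
    have hvn : v ^ (p ^ a * r) = c ^ F := by rw [← hx₀, ← hx₀F, ← pow_mul, ← pow_mul, mul_comm]
    have hvE : v ^ E = 1 := by
      rw [← hx₀F, ← pow_mul]
      exact CfsgLib.FGS.pow_eq_one_of_dvd' (hord x₀) (mul_dvd_mul hPF hsE)
    have hupb : ∀ u : C, u ^ p ^ a = z → (u : G) ^ p ^ b = 1 := fun u hu => by
      have h1 : (u : G) ^ p ^ (a + b) = 1 := by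
        rw [pow_add, pow_mul, show (u : G) ^ p ^ a = (z : G) from congrArg Subtype.val hu]
        exact congrArg Subtype.val (orderOf_dvd_iff_pow_eq_one.1 hzb)
      have h2 : orderOf (u : G) ∣ p ^ b * s := hg ▸ orderOf_dvd_natCard _
      refine orderOf_dvd_iff_pow_eq_one.1 (Nat.Coprime.dvd_of_dvd_mul_right ?_ h2)
      exact Nat.Coprime.coprime_dvd_left (orderOf_dvd_of_pow_eq_one h1)
        (Nat.Coprime.pow_left _ (hp.coprime_iff_not_dvd.2 hs))
    refine Nat.card_congr
      { toFun := fun x => ⟨⟨x.1 ^ E, Subgroup.mem_centralizer_singleton_iff.2 (by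
            have h := ((Commute.refl x.1).pow_pow E F).eq
            rwa [x.2.2] at h)⟩, Subtype.ext ?_⟩
        invFun := fun u => ⟨(u.1 : G) * v, ?_, ?_⟩
        left_inv := fun x => Subtype.ext (by
          show x.1 ^ E * v = x.1
          conv_rhs => rw [← hsplit x.1, x.2.2])
        right_inv := fun u => ?_ }
    · show (x.1 ^ E) ^ p ^ a = (c ^ E) ^ r'
      suffices h : ∀ w : G, w ^ (p ^ a * r) = c → (w ^ E) ^ p ^ a = (c ^ E) ^ r' from h x.1 x.2.1
      intro w hw
      rw [← hw, ← pow_mul, ← pow_mul, ← pow_mul]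
      refine pow_eq_pow_iff_modEq.2 (Nat.ModEq.of_dvd (orderOf_dvd_of_pow_eq_one (hord w)) ?_)
      refine (Nat.modEq_and_modEq_iff_modEq_mul hcop).1 ⟨?_, ?_⟩
      · calc E * p ^ a ≡ 1 * p ^ a * 1 [MOD p ^ b] := by simpa using hE.mul_right (p ^ a)
          _ ≡ 1 * p ^ a * (r * r') [MOD p ^ b] := (hr'.mul_left _).symm
          _ = p ^ a * r * 1 * r' := by ring
          _ ≡ p ^ a * r * E * r' [MOD p ^ b] := ((hE.mul_left _).mul_right _).symm
          _ = p ^ a * r * (E * r') := by ring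
      · exact (Nat.modEq_zero_iff_dvd.2 (hsE.mul_right _)).trans
          (Nat.modEq_zero_iff_dvd.2 (hsE.mul_right r' |>.mul_left _)).symm
    · have hcm : Commute (u.1 : G) v := Subgroup.mem_centralizer_singleton_iff.1 u.1.2
      have h3 : (u.1 : G) ^ (p ^ a * r) = c ^ E := by
        rw [pow_mul, show (u.1 : G) ^ p ^ a = (c ^ E) ^ r' from congrArg Subtype.val u.2, ← pow_mul (c ^ E),
          mul_comm]
        exact CfsgLib.FGS.pow_eq_self_of_modEq hcE hr'
      rw [hcm.mul_pow, h3, hvn, hsplit]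
    · have hcm : Commute (u.1 : G) v := Subgroup.mem_centralizer_singleton_iff.1 u.1.2
      rw [hcm.mul_pow, hvF, CfsgLib.FGS.pow_eq_one_of_dvd' (hupb _ u.2) hPF, one_mul]
    · apply Subtype.ext
      apply Subtype.ext
      have hcm : Commute (u.1 : G) v := Subgroup.mem_centralizer_singleton_iff.1 u.1.2
      show ((u.1 : G) * v) ^ E = u.1
      rw [hcm.mul_pow, hvE, mul_one]
      exact CfsgLib.FGS.pow_eq_self_of_modEq (hupb _ u.2) hE
  show p ^ k ∣ C.index * _
  rw [key]
  have h9 := Nat.mul_dvd_mul_left C.index (gcd_dvd_card_roots (G := C) (a := a) hp ⟨b, hzb⟩)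
  refine Dvd.dvd.trans ?_ h9
  rw [← Nat.gcd_mul_left, C.index_mul_card]
  exact Nat.dvd_gcd ((pow_dvd_pow p hka).mul_left _) hG


/-- Let `G` be a finite group of order `g`, `c` an element whose conjugacy class has `h` elements, and `n` a natural number. Then the number of elements `x` of `G` with `x^n` conjugate to `c` is a multiple of `gcd(hn, g)`. -/
theorem result {G : Type*} [Group G] [Finite G] (c : G) (n : ℕ) : Nat.gcd (Nat.card {y : G // IsConj c y} * n) (Nat.card G) ∣ Nat.card {x : G // IsConj c (x ^ n)} := by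
  classical
  have := Fintype.ofFinite G
  set C := Subgroup.centralizer ({c} : Set G) with hC
  have hh : Nat.card {y : G // IsConj c y} = C.index := by
    rw [CfsgLib.FGS.index_centralizer_eq_ncard, ← Nat.card_coe_set_eq]
    rfl
  have hc : (⟨c, Subgroup.mem_centralizer_singleton_iff.2 rfl⟩ : C) ∈ Subgroup.center C :=
    Subgroup.mem_center_iff.2 fun u => Subtype.ext (Subgroup.mem_centralizer_singleton_iff.1 u.2)
  have hfib : Nat.card {x : G // IsConj c (x ^ n)} =
      C.index * Nat.card {u : C // u ^ n = ⟨c, Subgroup.mem_centralizer_singleton_iff.2 rfl⟩} := by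
    rw [Nat.subtype_card (univ.filter fun x : G => IsConj c (x ^ n)) (by simp),
      Finset.card_eq_sum_card_fiberwise (f := fun x => x ^ n) (t := univ.filter fun y : G => IsConj c y)
        (fun x hx => by simpa using hx), ← hh, Nat.subtype_card (univ.filter fun y : G => IsConj c y) (by simp)]
    rw [← smul_eq_mul, ← Finset.sum_const]
    refine Finset.sum_congr rfl fun y hy => ?_
    obtain ⟨g, hg⟩ := isConj_iff.1 (Finset.mem_filter.1 hy).2
    rw [← Nat.subtype_card (p := fun x : G => x ^ n = y) _ (fun x => by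
      simp only [Finset.mem_filter, Finset.mem_univ, true_and, and_iff_right_iff_imp]
      rintro rfl
      exact (Finset.mem_filter.1 hy).2)]
    refine Nat.card_congr
      { toFun := fun x => ⟨⟨g⁻¹ * x.1 * g, ?_⟩, Subtype.ext ?_⟩
        invFun := fun u => ⟨g * u.1 * g⁻¹, ?_⟩
        left_inv := fun x => Subtype.ext (by simp [mul_assoc])
        right_inv := fun u => Subtype.ext (Subtype.ext (by simp [mul_assoc])) }
    · rw [Subgroup.mem_centralizer_singleton_iff]
      have h1 : (g⁻¹ * x.1 * g) ^ n = c := by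
        rw [show g⁻¹ * x.1 * g = g⁻¹ * x.1 * (g⁻¹)⁻¹ by rw [inv_inv], conj_pow, x.2, ← hg]
        group
      rw [← h1]
      exact ((Commute.refl _).pow_right n).eq
    · show (g⁻¹ * x.1 * g) ^ n = c
      rw [show g⁻¹ * x.1 * g = g⁻¹ * x.1 * (g⁻¹)⁻¹ by rw [inv_inv], conj_pow, x.2, ← hg]
      group
    · rw [conj_pow, show (u.1 : G) ^ n = c from congrArg Subtype.val u.2, hg]
  rw [hfib, hh, ← C.index_mul_card, Nat.gcd_mul_left]
  refine mul_dvd_mul_left _ ?_
  rw [Nat.dvd_iff_prime_pow_dvd_dvd]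
  intro p k hp hk
  exact dvd_card_roots_central hp hc (hk.trans (Nat.gcd_dvd_left _ _)) (hk.trans (Nat.gcd_dvd_right _ _))

end Cfsg.Agent.S4212
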