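import Cfsg.Statements.S4213
import Cfsg.Agent.Lib.FGS.FrobeniusCount
import Cfsg.Agent.Lib.Solvable.MinimalNormal

set_option autoImplicit false
open Cfsg

namespace Cfsg.Agent.S4213

universe u

theorem normal_of_eq {G : Type u} [Group G] {n : ℕ} (H : Subgroup G) (h : (H : Set G) = {x : G | x ^ n = 1}) :
    H.Normal := ⟨fun x hx g => by
  rw [← SetLike.mem_coe, h] at hx ⊢
  show (g * x * g⁻¹) ^ n = 1
  rw [conj_pow, show x ^ n = 1 from hx, mul_one, mul_inv_cancel]⟩

/-- A subgroup of order `n` consists of all solutions when there are exactly `n`. -/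
theorem eq_solutions {G : Type u} [Group G] [Finite G] {n : ℕ} (H : Subgroup G) (hH : Nat.card H = n)
    (hcount : Nat.card {x : G // x ^ n = 1} = n) : (H : Set G) = {x : G | x ^ n = 1} := by
  have hsub : (H : Set G) ⊆ {x : G | x ^ n = 1} := fun x hx => by
    show x ^ n = 1
    rw [← hH]
    exact congrArg Subtype.val (pow_card_eq_one' (x := (⟨x, hx⟩ : H)))
  refine Set.eq_of_subset_of_ncard_le hsub ?_ (Set.toFinite _)
  rw [← Nat.card_coe_set_eq, ← Nat.card_coe_set_eq]
  exact (hcount.trans hH.symm).le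

theorem solutions_subgroup : ∀ (N : ℕ) {G : Type u} [Group G] [Finite G] [Group.IsSolvable G],
    Nat.card G = N → ∀ n : ℕ, n ∣ Nat.card G → Nat.card {x : G // x ^ n = 1} = n →
      ∃ H : Subgroup G, Nat.card H = n := by
  intro N
  induction N using Nat.strong_induction_on with
  | _ N IH =>
  intro G _ _ _ hN n hn hcount
  rcases subsingleton_or_nontrivial G with hs | hs
  · refine ⟨⊥, ?_⟩
    rw [Subgroup.card_bot]
    exact (Nat.dvd_one.1 ((Nat.card_of_subsingleton (1 : G)) ▸ hn)).symm
  obtain ⟨M, p, a, hMn, hp, ha, hMp, hMc, hM1, hMab, hMmin⟩ :=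
    CfsgLib.Solvable.exists_normal_prime_pow_card (G := G)
  have hlt : Nat.card (G ⧸ M) < N := by
    rw [← hN, Subgroup.card_eq_card_quotient_mul_card_subgroup M]
    exact lt_mul_of_one_lt_right Nat.card_pos ((Subgroup.one_lt_card_iff_ne_bot M).2 hM1)
  have hG : Nat.card G = Nat.card (G ⧸ M) * p ^ a := by
    rw [Subgroup.card_eq_card_quotient_mul_card_subgroup M, hMc]
  have hn0 : n ≠ 0 := fun e => by
    rw [e] at hcount
    have : Nonempty {x : G // x ^ 0 = 1} := ⟨⟨1, one_pow 0⟩⟩
    exact Nat.card_pos.ne' hcount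
  let π : G →* G ⧸ M := QuotientGroup.mk' M
  by_cases hpn : p ∣ n
  · obtain ⟨s, hr⟩ := hpn
    obtain ⟨b, r, hpr, hnr⟩ := Nat.exists_eq_pow_mul_and_not_dvd hn0 p hp.ne_one
    set i := min a b
    set n' := p ^ (b - i) * r with hn'
    have hb1 : 1 ≤ b := by
      rcases Nat.eq_zero_or_pos b with rfl | hb
      · exact absurd ⟨s, by rw [← hr, hnr, pow_zero, one_mul]⟩ hpr
      · exact hb
    have hi : 1 ≤ i := le_min ha hb1
    have hnn' : n = p ^ i * n' := by
      rw [hn', ← mul_assoc, ← pow_add, Nat.add_sub_cancel' (min_le_right a b), hnr]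
    have hd : n' ∣ Nat.card (G ⧸ M) := by
      rcases le_total a b with hab | hab
      · have hia : i = a := min_eq_left hab
        rw [hnn', hia, hG, mul_comm (Nat.card (G ⧸ M))] at hn
        exact (Nat.mul_dvd_mul_iff_left (pow_pos hp.pos a)).1 hn
      · have hib : i = b := min_eq_right hab
        rw [hn', hib, Nat.sub_self, pow_zero, one_mul]
        refine (Nat.Coprime.pow_right a (hp.coprime_iff_not_dvd.2 hpr).symm).dvd_of_dvd_mul_right ?_
        rw [← hG]
        exact (Dvd.intro_left _ hnr.symm).trans hn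
    -- all preimages of solutions are solutions
    have hsub : ∀ y : G, (π y) ^ n' = 1 → y ^ n = 1 := fun y hy => by
      have h1 : y ^ n' ∈ M := by rw [← QuotientGroup.eq_one_iff]; rwa [← map_pow] at hy
      have h2 : (y ^ n') ^ p = 1 := by
        have h3 := CfsgLib.Solvable.exists_prime_pow_eq_one_of_minimal_normal M hM1 hMmin (inferInstance)
        obtain ⟨q, hq, hqx⟩ := h3
        have hqp : q = p := by
          obtain ⟨x, hx, hx1⟩ := (Subgroup.bot_or_exists_ne_one M).resolve_left hM1
          have h4 : orderOf x = q := orderOf_eq_prime (hp := ⟨hq⟩) (hqx x hx) hx1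
          have h5 : orderOf x ∣ p ^ a := by
            rw [← hMc]; exact M.orderOf_dvd_natCard hx
          rw [h4] at h5
          exact (Nat.prime_dvd_prime_iff_eq hq hp).1 (hq.dvd_of_dvd_pow h5)
        rw [← hqp]
        exact hqx _ h1
      rw [hnn', mul_comm, pow_mul, ← Nat.add_sub_cancel' hi, pow_add, pow_one, pow_mul, h2, one_pow]
    have hle : p ^ a * Nat.card {z : G ⧸ M // z ^ n' = 1} ≤ n := by
      conv_rhs => rw [← hcount]
      rw [← hMc, ← Nat.card_prod]
      refine Nat.card_le_card_of_injective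
        (fun z : M × {z : G ⧸ M // z ^ n' = 1} => (⟨z.2.1.out * z.1, hsub _ ?_⟩ : {x : G // x ^ n = 1})) ?_
      · have h6 : π (z.2.1.out * z.1) = z.2.1 := by
          rw [map_mul, show π (z.1 : G) = 1 from (QuotientGroup.eq_one_iff _).2 z.1.2, mul_one]
          exact QuotientGroup.out_eq' _
        rw [h6]
        exact z.2.2
      · intro z w hzw
        have h7 : z.2.1.out * (z.1 : G) = w.2.1.out * w.1 := congrArg Subtype.val hzw
        have h8 : z.2 = w.2 := by
          apply Subtype.ext
          have h9 := congrArg π h7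
          rw [map_mul, map_mul, show π (z.1 : G) = 1 from (QuotientGroup.eq_one_iff _).2 z.1.2,
            show π (w.1 : G) = 1 from (QuotientGroup.eq_one_iff _).2 w.1.2, mul_one, mul_one] at h9
          rwa [show π z.2.1.out = z.2.1 from QuotientGroup.out_eq' _,
            show π w.2.1.out = w.2.1 from QuotientGroup.out_eq' _] at h9
        refine Prod.ext ?_ h8
        rw [h8] at h7
        exact Subtype.ext (mul_left_cancel h7)
    have hn'0 : 0 < n' := by
      refine Nat.pos_of_ne_zero fun e => hn0 ?_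
      rw [hnn', e, mul_zero]
    have hdvd : n' ∣ Nat.card {z : G ⧸ M // z ^ n' = 1} := by
      have := CfsgLib.FGS.gcd_dvd_card_pow_eq_one (G := G ⧸ M) n'
      rwa [Nat.gcd_eq_left hd] at this
    have hpos : 0 < Nat.card {z : G ⧸ M // z ^ n' = 1} := by
      have : Nonempty {z : G ⧸ M // z ^ n' = 1} := ⟨⟨1, one_pow _⟩⟩
      exact Nat.card_pos
    have hge := Nat.le_of_dvd hpos hdvd
    have hia : i = a := by
      by_contra hne
      have hlt' : p ^ i < p ^ a := Nat.pow_lt_pow_right hp.one_lt (lt_of_le_of_ne (min_le_left a b) hne)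
      rw [hnn'] at hle
      exact absurd hle (not_le.2 (lt_of_lt_of_le (Nat.mul_lt_mul_of_pos_right hlt' hn'0) (Nat.mul_le_mul_left _ hge)))
    rw [hnn', hia] at hle
    obtain ⟨K, hK⟩ := IH _ hlt (G := G ⧸ M) rfl n' hd
      (le_antisymm (Nat.le_of_mul_le_mul_left hle (pow_pos hp.pos a)) hge)
    refine ⟨K.comap π, ?_⟩
    have h10 : M ≤ K.comap π := fun x hx => by
      show π x ∈ K
      rw [show π x = 1 from (QuotientGroup.eq_one_iff x).2 hx]
      exact K.one_mem
    rw [← Subgroup.card_mul_index (M.subgroupOf (K.comap π)),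
      Nat.card_congr (Subgroup.subgroupOfEquivOfLe h10).toEquiv, hMc, hnn', hia, ← hK]
    congr 1
    conv_rhs => rw [← Subgroup.map_comap_eq_self_of_surjective (QuotientGroup.mk'_surjective M) K]
    rw [← Subgroup.relIndex_bot_left, ← Subgroup.relIndex_comap, MonoidHom.comap_bot, QuotientGroup.ker_mk']
    rfl
  · have hcopn : n.Coprime (p ^ a) := ((hp.coprime_iff_not_dvd.2 hpn).symm).pow_right a
    have hd : n ∣ Nat.card (G ⧸ M) := hcopn.dvd_of_dvd_mul_right (hG ▸ hn)
    obtain ⟨e, he1, he2⟩ : ∃ e, e ≡ 1 [MOD n] ∧ p ^ a ∣ e := by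
      obtain ⟨e, h1, h2⟩ := Nat.chineseRemainder hcopn 1 0
      exact ⟨e, h1, Nat.modEq_zero_iff_dvd.1 h2⟩
    have hle : Nat.card {z : G ⧸ M // z ^ n = 1} ≤ n := by
      conv_rhs => rw [← hcount]
      refine Nat.card_le_card_of_surjective
        (fun x : {x : G // x ^ n = 1} => (⟨π x.1, by rw [← map_pow, x.2, map_one]⟩ : {z : G ⧸ M // z ^ n = 1})) ?_
      rintro ⟨z, hz⟩
      obtain ⟨y, rfl⟩ := QuotientGroup.mk'_surjective M z
      have h1 : y ^ n ∈ M := by rw [← QuotientGroup.eq_one_iff]; rwa [← map_pow] at hz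
      refine ⟨⟨y ^ e, ?_⟩, Subtype.ext ?_⟩
      · rw [← pow_mul, mul_comm, pow_mul]
        refine CfsgLib.FGS.pow_eq_one_of_dvd' ?_ he2
        rw [← hMc]
        exact congrArg Subtype.val (pow_card_eq_one' (x := (⟨y ^ n, h1⟩ : M)))
      · show π (y ^ e) = π y
        rw [map_pow]
        exact CfsgLib.FGS.pow_eq_self_of_modEq hz he1
    have hpos : 0 < Nat.card {z : G ⧸ M // z ^ n = 1} := by
      have : Nonempty {z : G ⧸ M // z ^ n = 1} := ⟨⟨1, one_pow _⟩⟩
      exact Nat.card_pos
    have hdvd : n ∣ Nat.card {z : G ⧸ M // z ^ n = 1} := by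
      have := CfsgLib.FGS.gcd_dvd_card_pow_eq_one (G := G ⧸ M) n
      rwa [Nat.gcd_eq_left hd] at this
    obtain ⟨K, hK⟩ := IH _ hlt (G := G ⧸ M) rfl n hd (le_antisymm hle (Nat.le_of_dvd hpos hdvd))
    set L := K.comap π
    have h10 : M ≤ L := fun x hx => by
      show π x ∈ K
      rw [show π x = 1 from (QuotientGroup.eq_one_iff x).2 hx]
      exact K.one_mem
    have hidx : (M.subgroupOf L).index = n := by
      rw [← hK]
      conv_rhs => rw [← Subgroup.map_comap_eq_self_of_surjective (QuotientGroup.mk'_surjective M) K]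
      rw [← Subgroup.relIndex_bot_left, ← Subgroup.relIndex_comap, MonoidHom.comap_bot, QuotientGroup.ker_mk']
      rfl
    have : (M.subgroupOf L).Normal := hMn.subgroupOf L
    obtain ⟨H, hH⟩ := Subgroup.exists_right_complement'_of_coprime (N := M.subgroupOf L) (by
      rw [Nat.card_congr (Subgroup.subgroupOfEquivOfLe h10).toEquiv, hMc, hidx]
      exact hcopn.symm)
    refine ⟨H.map L.subtype, ?_⟩
    rw [Subgroup.card_map_of_injective L.subtype_injective, ← hidx, hH.symm.index_eq_card]


/-- If `G` is a finite solvable group and `n` divides the order of `G` and exactly `n` elements `x` of `G` satisfy `x^n = 1`, then these elements form a normal subgroup. -/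
theorem result {G : Type*} [Group G] [Finite G] [Group.IsSolvable G] (n : ℕ) (hn : n ∣ Nat.card G) (hcount : Nat.card {x : G // x ^ n = 1} = n) : ∃ H : Subgroup G, H.Normal ∧ (H : Set G) = {x : G | x ^ n = 1} := by
  obtain ⟨H, hH⟩ := solutions_subgroup _ rfl n hn hcount
  exact ⟨H, normal_of_eq H (eq_solutions H hH hcount), eq_solutions H hH hcount⟩

end Cfsg.Agent.S4213
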