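import Cfsg.Statements.S4217
import Cfsg.Agent.Lib.Solvable.Gaschutz

set_option autoImplicit false
open Cfsg

namespace Cfsg.Agent.S4217

/-- For every prime there is a complemented overgroup of index prime to it. -/
def LocalSplit {G : Type*} [Group G] (A : Subgroup G) : Prop :=
  ∀ r : ℕ, r.Prime → ∃ U K : Subgroup G, A ≤ U ∧ ¬ r ∣ U.index ∧ K ⊓ A = ⊥ ∧ K ⊔ A = U

theorem LocalSplit.quotient {G : Type*} [Group G] {A : Subgroup G} (h : LocalSplit A) (C : Subgroup G)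
    [C.Normal] (hCA : C ≤ A) : LocalSplit (A.map (QuotientGroup.mk' C)) := by
  intro r hr
  obtain ⟨U, K, hAU, hi, hKA, hsup⟩ := h r hr
  set π := QuotientGroup.mk' C
  refine ⟨U.map π, K.map π, Subgroup.map_mono hAU, ?_, ?_, ?_⟩
  · rw [Subgroup.index_map_eq U (QuotientGroup.mk'_surjective C) (by rw [QuotientGroup.ker_mk']; exact hCA.trans hAU)]
    exact hi
  · rw [Subgroup.eq_bot_iff_forall]
    rintro x ⟨⟨k, hk, rfl⟩, a, ha, hae⟩
    have h1 : k ∈ A := by
      have h2 : (π a)⁻¹ * π k = 1 := by rw [hae, inv_mul_cancel]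
      rw [← map_inv, ← map_mul] at h2
      have h3 := hCA ((QuotientGroup.eq_one_iff _).1 h2)
      simpa using A.mul_mem ha h3
    have h4 : k ∈ K ⊓ A := ⟨hk, h1⟩
    rw [hKA, Subgroup.mem_bot] at h4
    rw [h4, map_one]
  · rw [← Subgroup.map_sup, hsup]

theorem exists_complement : ∀ (n : ℕ) {G : Type*} [Group G] [Finite G] (A : Subgroup G) [A.Normal],
    (∀ x ∈ A, ∀ y ∈ A, x * y = y * x) → Nat.card A = n → LocalSplit A →
      ∃ K : Subgroup G, K ⊓ A = ⊥ ∧ K ⊔ A = ⊤ := by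
  intro n
  induction n using Nat.strong_induction_on with
  | _ n IH =>
  intro G _ _ A _ hab hn hloc
  by_cases h1 : n = 1
  · exact ⟨⊤, by rw [Subgroup.eq_bot_of_card_eq A (hn.trans h1), inf_bot_eq], top_sup_eq A⟩
  obtain ⟨p, hp, hpn⟩ := Nat.exists_prime_and_dvd h1
  have := Fact.mk hp
  have hn0 : n ≠ 0 := by rw [← hn]; exact Nat.card_pos.ne'
  obtain ⟨a, m, hpm, hnm⟩ := Nat.exists_eq_pow_mul_and_not_dvd hn0 p hp.ne_one
  have hcop : (p ^ a).Coprime m := (hp.coprime_iff_not_dvd.2 hpm).pow_left a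
  by_cases hm : m = 1
  · obtain ⟨U, K, hAU, hi, hKA, hsup⟩ := hloc p hp
    have hc : (Nat.card A).Coprime U.index := by
      rw [hn, hnm, hm, mul_one]
      exact (hp.coprime_iff_not_dvd.2 hi).pow_left a
    obtain ⟨H, hH⟩ := CfsgLib.Solvable.gaschutz_exists A U hab hAU hc K (hsup ▸ le_sup_left) hKA
      (by rw [sup_comm]; exact hsup)
    exact ⟨H, by rw [inf_comm]; exact hH.disjoint.eq_bot, by rw [sup_comm]; exact hH.sup_eq_top⟩
  let mk : ℕ → Subgroup G := fun e =>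
    { carrier := {x | x ∈ A ∧ x ^ e = 1}
      one_mem' := ⟨A.one_mem, one_pow e⟩
      mul_mem' := fun {x y} hx hy =>
        ⟨A.mul_mem hx.1 hy.1, by rw [(show Commute x y from hab x hx.1 y hy.1).mul_pow, hx.2, hy.2, one_mul]⟩
      inv_mem' := fun {x} hx => ⟨A.inv_mem hx.1, by rw [inv_pow, hx.2, inv_one]⟩ }
  have hmkn : ∀ e, (mk e).Normal := fun e => ⟨fun x hx g =>
    ⟨Subgroup.Normal.conj_mem inferInstance x hx.1 g, by rw [conj_pow, hx.2]; simp⟩⟩
  set P := mk (p ^ a)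
  set B := mk m
  have hPA : P ≤ A := fun x hx => hx.1
  have hBA : B ≤ A := fun x hx => hx.1
  have hPB : ∀ x, x ∈ P → x ∈ B → x = 1 := fun x h2 h3 => by
    have := Nat.dvd_gcd (orderOf_dvd_of_pow_eq_one h2.2) (orderOf_dvd_of_pow_eq_one h3.2)
    rwa [hcop.gcd_eq_one, Nat.dvd_one, orderOf_eq_one_iff] at this
  have hdec : ∀ x ∈ A, ∃ u ∈ P, ∃ v ∈ B, x = u * v := fun x hx => by
    obtain ⟨s, t, hst⟩ : IsCoprime ((p ^ a : ℕ) : ℤ) (m : ℤ) :=
      Int.isCoprime_iff_nat_coprime.2 (by simpa only [Int.natAbs_natCast] using hcop)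
    have hxn : x ^ n = 1 := by
      rw [← hn]; exact congrArg Subtype.val (pow_card_eq_one' (x := (⟨x, hx⟩ : A)))
    refine ⟨x ^ (t * (m : ℤ)), ⟨A.zpow_mem hx _, ?_⟩, x ^ (s * ((p ^ a : ℕ) : ℤ)), ⟨A.zpow_mem hx _, ?_⟩, ?_⟩
    · rw [← zpow_natCast, ← zpow_mul, mul_assoc, mul_comm t, zpow_mul,
        show (m : ℤ) * ((p ^ a : ℕ) : ℤ) = (n : ℤ) by rw [hnm]; push_cast; ring, zpow_natCast, hxn, one_zpow]
    · rw [← zpow_natCast, ← zpow_mul, mul_assoc, mul_comm s, zpow_mul,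
        show ((p ^ a : ℕ) : ℤ) * (m : ℤ) = (n : ℤ) by rw [hnm]; push_cast; ring, zpow_natCast, hxn, one_zpow]
    · rw [← zpow_add, add_comm, hst, zpow_one]
  have hquot : ∀ C : Subgroup G, C.Normal → C ≤ A → C ≠ ⊥ →
      ∃ M : Subgroup G, M ⊓ A = C ∧ M ⊔ A = ⊤ := by
    intro C hC hCA hne
    set π := QuotientGroup.mk' C
    have hker : π.ker = C := QuotientGroup.ker_mk' C
    have hlt : Nat.card (A.map π) < n := by
      have h2 := Subgroup.card_mul_index (C.subgroupOf A)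
      rw [Nat.card_congr (Subgroup.subgroupOfEquivOfLe hCA).toEquiv, hn] at h2
      have h3 : Nat.card (A.map π) = (C.subgroupOf A).index := by
        rw [← Subgroup.relIndex, ← Subgroup.relIndex_bot_left, ← Subgroup.relIndex_comap,
          MonoidHom.comap_bot, hker]
      rw [h3, ← h2]
      exact lt_mul_of_one_lt_left (Nat.pos_of_ne_zero (Subgroup.index_ne_zero_of_finite))
        (Subgroup.one_lt_card_iff_ne_bot C |>.2 hne)
    have : (A.map π).Normal := Subgroup.Normal.map inferInstance π (QuotientGroup.mk'_surjective C)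
    obtain ⟨M, hM1, hM2⟩ := IH _ hlt (A.map π)
      (by rintro _ ⟨x, hx, rfl⟩ _ ⟨y, hy, rfl⟩; rw [← map_mul, ← map_mul, hab x hx y hy]) rfl
      (hloc.quotient C hCA)
    refine ⟨M.comap π, le_antisymm ?_ (le_inf ?_ hCA), ?_⟩
    · rintro x ⟨hx1, hx2⟩
      have : π x ∈ M ⊓ A.map π := ⟨hx1, x, hx2, rfl⟩
      rw [hM1, Subgroup.mem_bot] at this
      exact (QuotientGroup.eq_one_iff x).1 this
    · intro x hx
      show π x ∈ M
      rw [show π x = 1 from (QuotientGroup.eq_one_iff x).2 hx]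
      exact M.one_mem
    · have e : A = (A.map π).comap π := by rw [Subgroup.comap_map_eq, hker, sup_eq_left.2 hCA]
      rw [e, Subgroup.comap_sup_eq _ _ _ (QuotientGroup.mk'_surjective C), hM2, Subgroup.comap_top]
  have hone : Nat.card A ≠ p ^ a ∧ Nat.card A ≠ m := by
    rw [hn, hnm]
    constructor
    · intro e
      exact hm (Nat.eq_of_mul_eq_mul_left (pow_pos hp.pos a) (e.trans (mul_one _).symm))
    · intro e
      rcases Nat.eq_zero_or_pos a with ha | ha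
      · apply hpm
        rw [hnm, ha, pow_zero, one_mul] at hpn
        exact hpn
      · have h4 : p ^ a = 1 := Nat.eq_of_mul_eq_mul_right
          (Nat.pos_of_ne_zero fun e0 => hn0 (by rw [hnm, e0, mul_zero])) (e.trans (one_mul _).symm)
        exact (Nat.one_lt_pow ha.ne' hp.one_lt).ne' h4
  have hPne : P ≠ ⊥ := fun e => by
    obtain ⟨x, hx⟩ := exists_prime_orderOf_dvd_card' (G := A) p (hn.symm ▸ hpn)
    have hxP : (x : G) ∈ P := ⟨x.2, by
      have h5 : p ∣ p ^ a := dvd_pow_self p fun ha => by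
        apply hpm; rw [hnm, ha, pow_zero, one_mul] at hpn; exact hpn
      rw [← SubgroupClass.coe_pow, orderOf_dvd_iff_pow_eq_one.1 (hx.symm ▸ h5)]
      rfl⟩
    rw [e, Subgroup.mem_bot] at hxP
    rw [Subtype.ext hxP (a2 := (1 : A)), orderOf_one] at hx
    exact hp.ne_one hx.symm
  have hBne : B ≠ ⊥ := fun e => by
    obtain ⟨r, hr, hrm⟩ := Nat.exists_prime_and_dvd hm
    have := Fact.mk hr
    obtain ⟨x, hx⟩ := exists_prime_orderOf_dvd_card' (G := A) r (by rw [hn, hnm]; exact hrm.mul_left _)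
    have hxB : (x : G) ∈ B := ⟨x.2, by
      rw [← SubgroupClass.coe_pow, orderOf_dvd_iff_pow_eq_one.1 (hx.symm ▸ hrm)]; rfl⟩
    rw [e, Subgroup.mem_bot] at hxB
    rw [Subtype.ext hxB (a2 := (1 : A)), orderOf_one] at hx
    exact hr.ne_one hx.symm
  obtain ⟨M, hM1, hM2⟩ := hquot P (hmkn _) hPA hPne
  obtain ⟨N, hN1, hN2⟩ := hquot B (hmkn _) hBA hBne
  refine ⟨M ⊓ N, ?_, ?_⟩
  · rw [Subgroup.eq_bot_iff_forall]
    rintro x ⟨⟨hxM, hxN⟩, hxA⟩
    exact hPB x (hM1.le ⟨hxM, hxA⟩) (hN1.le ⟨hxN, hxA⟩)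
  · rw [eq_top_iff]
    intro g _
    have hPM : P ≤ M := hM1.ge.trans inf_le_left
    have hBN : B ≤ N := hN1.ge.trans inf_le_left
    obtain ⟨m₁, hm₁, a₁, ha₁, rfl⟩ := Subgroup.mem_sup_of_normal_right.1 (hM2 ▸ Subgroup.mem_top g)
    obtain ⟨n₁, hn₁, a₂, ha₂, he⟩ := Subgroup.mem_sup_of_normal_right.1 (hN2 ▸ Subgroup.mem_top m₁)
    obtain ⟨u, hu, v, hv, rfl⟩ := hdec a₂ ha₂
    have huv : u * v = v * u := hab u (hPA hu) v (hBA hv)
    have hh : m₁ * u⁻¹ = n₁ * v := by rw [← he, huv]; group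
    refine Subgroup.mem_sup_of_normal_right.2 ⟨m₁ * u⁻¹, ⟨M.mul_mem hm₁ (M.inv_mem (hPM hu)), ?_⟩,
      u * a₁, A.mul_mem (hPA hu) ha₁, by group⟩
    rw [hh]
    exact N.mul_mem hn₁ (hBN hv)


/-- Let `A` be an abelian normal subgroup of the finite group `G`. Then `A` has a complement in `G` if and only if, for every prime `p` dividing the index of `A`, there are a Sylow `p`-subgroup `S` of `G/A` and a subgroup `K` of `G` with `K ∩ A = 1` and `KA` equal to the preimage of `S` (that is, `A` has a complement in the preimage of a Sylow `p`-subgroup of `G/A`). -/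
theorem result {G : Type*} [Group G] [Finite G] (A : Subgroup G) [A.Normal] (hA : IsMulCommutative A) : (∃ K : Subgroup G, K.IsComplement' A) ↔ ∀ p : ℕ, p.Prime → p ∣ A.index → ∃ (S : Sylow p (G ⧸ A)) (K : Subgroup G), K ⊓ A = ⊥ ∧ K ⊔ A = (S : Subgroup (G ⧸ A)).comap (QuotientGroup.mk' A) := by
  have hab : ∀ x ∈ A, ∀ y ∈ A, x * y = y * x := fun x hx y hy =>
    congrArg Subtype.val (hA.is_comm.comm ⟨x, hx⟩ ⟨y, hy⟩)
  constructor
  · rintro ⟨K, hK⟩ p hp -
    have := Fact.mk hp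
    obtain ⟨S⟩ : Nonempty (Sylow p (G ⧸ A)) := inferInstance
    set U := (S : Subgroup (G ⧸ A)).comap (QuotientGroup.mk' A)
    have hAU : A ≤ U := fun x hx => by
      show QuotientGroup.mk' A x ∈ (S : Subgroup (G ⧸ A))
      rw [show QuotientGroup.mk' A x = 1 from (QuotientGroup.eq_one_iff x).2 hx]
      exact one_mem _
    refine ⟨S, K ⊓ U, le_bot_iff.1 ((inf_le_inf_right A inf_le_left).trans hK.disjoint.eq_bot.le),
      le_antisymm (sup_le inf_le_right hAU) fun x hx => ?_⟩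
    obtain ⟨k, hk, a, ha, rfl⟩ := Subgroup.mem_sup_of_normal_right.1 (hK.sup_eq_top ▸ Subgroup.mem_top x)
    exact Subgroup.mem_sup_of_normal_right.2 ⟨k, ⟨hk, (Subgroup.mul_mem_cancel_right U (hAU ha)).1 hx⟩, a, ha, rfl⟩
  · intro h
    have hloc : LocalSplit A := fun r hr => by
      by_cases hd : r ∣ A.index
      · obtain ⟨S, K, hKA, hKS⟩ := h r hr hd
        have := Fact.mk hr
        refine ⟨_, K, hKS ▸ le_sup_right, ?_, hKA, hKS⟩
        rw [Subgroup.index_comap_of_surjective _ (QuotientGroup.mk'_surjective A)]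
        exact S.not_dvd_index
      · exact ⟨A, ⊥, le_rfl, hd, bot_inf_eq A, bot_sup_eq A⟩
    obtain ⟨K, hKA, hsup⟩ := exists_complement _ A hab rfl hloc
    refine ⟨K, Subgroup.isComplement'_of_disjoint_and_mul_eq_univ (disjoint_iff.2 hKA) ?_⟩
    rw [← Subgroup.mul_normal, hsup, Subgroup.coe_top]

end Cfsg.Agent.S4217
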