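import Cfsg.Statements.S4218
import Cfsg.Agent.Lib.Transfer.PSolvable
import Cfsg.Agent.Lib.Cores.PConstrained
import Cfsg.Agent.Lib.FGS.S3Basic
import Cfsg.Agent.Lib.PGroup.Basic

set_option autoImplicit false
open Cfsg

namespace Cfsg.Agent.S4218

/-- An automorphism of coprime order of a `p`-group which is trivial modulo the Frattini subgroup
is trivial. -/
theorem eq_id_of_frattini {P : Type*} [Group P] [Finite P] {p : ℕ} [hp : Fact p.Prime] (hP : IsPGroup p P) :
    ∀ (n : ℕ) (e : MulAut P), e ^ n = 1 → n.Coprime p → (∀ x, x⁻¹ * e x ∈ frattini P) → e = 1 := by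
  intro n
  induction n using Nat.strong_induction_on with
  | _ n ih =>
  intro e he hn hmod
  rcases eq_or_ne n 1 with rfl | hn1
  · rwa [pow_one] at he
  obtain ⟨q, hq, hqn⟩ := Nat.exists_prime_and_dvd hn1
  obtain ⟨m, rfl⟩ := hqn
  haveI : Fact q.Prime := ⟨hq⟩
  have hm0 : m ≠ 0 := by
    rintro rfl
    rw [mul_zero, Nat.coprime_zero_left] at hn
    exact hp.out.ne_one hn
  have hmod' : ∀ (k : ℕ) (x : P), x⁻¹ * (e ^ k) x ∈ frattini P := by
    intro k
    induction k with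
    | zero => intro x; simp
    | succ k ihk =>
      intro x
      rw [pow_succ', MulAut.mul_apply]
      have := (frattini P).mul_mem (ihk x) (hmod ((e ^ k) x))
      rwa [show x⁻¹ * (e ^ k) x * (((e ^ k) x)⁻¹ * e ((e ^ k) x)) = x⁻¹ * e ((e ^ k) x) by group] at this
  have hem : e ^ m = 1 := by
    have hfr : ∀ k ∈ frattini P, (e ^ m) k ∈ frattini P := fun k hk =>
      (SetLike.ext_iff.1 (Subgroup.characteristic_iff_comap_eq.1 inferInstance (e ^ m)) k).2 hk
    have hcop : ¬ q ∣ Nat.card (frattini P) := by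
      obtain ⟨j, hj⟩ := IsPGroup.iff_card.1 (hP.to_subgroup (frattini P))
      rw [hj]
      intro hd
      have := (Nat.prime_dvd_prime_iff_eq hq hp.out).1 (hq.dvd_of_dvd_pow hd)
      exact hq.ne_one (Nat.eq_one_of_dvd_coprimes hn (dvd_mul_right q m) (this ▸ dvd_rfl))
    let F : Subgroup P := MonoidHom.eqLocus (e ^ m).toMonoidHom (MonoidHom.id P)
    have hFtop : F = ⊤ := by
      refine CfsgLib.PGroup.eq_top_of_sup_frattini (eq_top_iff.2 fun x _ => ?_)
      obtain ⟨k, hk, hfix⟩ := CfsgLib.FGS.S3.exists_fixed_mul (e ^ m) (q := q)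
        (by rw [← pow_mul, mul_comm, he]) (frattini P) hfr hcop (hmod' m x)
      rw [show x = x * k * k⁻¹ by group]
      exact Subgroup.mul_mem _ (Subgroup.mem_sup_left hfix) (Subgroup.mem_sup_right ((frattini P).inv_mem hk))
    exact MulEquiv.ext fun x => (hFtop ▸ Subgroup.mem_top x : x ∈ F)
  exact ih m (lt_mul_of_one_lt_left (Nat.pos_of_ne_zero hm0) hq.one_lt) e hem hn.coprime_mul_left hmod


/-- Let `G` be a finite `p`-solvable group, `N₀ = O_{p'}(G)`, `P₁ = O_{p',p}(G)`, and let `F ≤ P₁` be the preimage of the Frattini subgroup of `P₁/N₀`. Then an element `g` of `G` induces the identity on `P₁/F` by conjugation (that is, `g x g⁻¹ x⁻¹ ∈ F` for all `x ∈ P₁`) if and only if `g ∈ P₁`: the group `G/P₁` acts faithfully on `P₁/F`. -/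
theorem result {G : Type*} [Group G] [Finite G] {p : ℕ} [Fact p.Prime] (hG : Cfsg.IsPSolvable p G) (g : G) : (∀ x ∈ Cfsg.pPrimePCore p G, g * x * g⁻¹ * x⁻¹ ∈ ((frattini (↥(Cfsg.pPrimePCore p G) ⧸ (Cfsg.pPrimeCore p G).subgroupOf (Cfsg.pPrimePCore p G))).comap (QuotientGroup.mk' ((Cfsg.pPrimeCore p G).subgroupOf (Cfsg.pPrimePCore p G)))).map (Cfsg.pPrimePCore p G).subtype) ↔ g ∈ Cfsg.pPrimePCore p G := by
  classical
  set N := Cfsg.pPrimeCore p G with hNdef
  set P₁ := Cfsg.pPrimePCore p G with hP₁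
  haveI hP₁n : P₁.Normal := CfsgLib.Cores.pPrimePCore_normal
  haveI hNn : N.Normal := by infer_instance
  have hNP : N ≤ P₁ := CfsgLib.Cores.pPrimeCore_le_pPrimePCore
  set π := QuotientGroup.mk' N with hπ
  let ρ : P₁ ⧸ N.subgroupOf P₁ →* G ⧸ N := QuotientGroup.map _ _ P₁.subtype (fun x hx => hx)
  have hρ : Function.Injective ρ := by
    rw [injective_iff_map_eq_one]
    intro x hx
    induction x using QuotientGroup.induction_on with
    | H x => exact (QuotientGroup.eq_one_iff x).2 ((QuotientGroup.eq_one_iff (x : G)).1 hx)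
  have hρmem : ∀ x, ρ x ∈ Cfsg.pCore p (G ⧸ N) := by
    intro x
    induction x using QuotientGroup.induction_on with
    | H x => exact x.2
  have hcoreP : IsPGroup p (Cfsg.pCore p (G ⧸ N)) := CfsgLib.Cores.isPGroup_pCore p
  have hQp : IsPGroup p (P₁ ⧸ N.subgroupOf P₁) :=
    hcoreP.of_injective (ρ.codRestrict _ hρmem) fun a b h => hρ (congrArg Subtype.val h)
  let c : G → MulAut P₁ := fun g => MulAut.conjNormal g
  have hcN : ∀ g, (N.subgroupOf P₁).map (c g).toMonoidHom = N.subgroupOf P₁ := fun g =>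
    Subgroup.eq_of_le_of_card_ge
      (by rintro _ ⟨k, hk, rfl⟩; exact hNn.conj_mem _ hk g)
      (le_of_eq (Nat.card_congr (Subgroup.equivMapOfInjective _ (c g).toMonoidHom (c g).injective).toEquiv))
  let E : G → MulAut (P₁ ⧸ N.subgroupOf P₁) := fun g => QuotientGroup.congr _ _ (c g) (hcN g)
  have hE : ∀ g (x : P₁), E g (x : P₁ ⧸ N.subgroupOf P₁) = ((c g x : P₁) : P₁ ⧸ N.subgroupOf P₁) := fun g x => rfl
  set Φ' := (frattini (P₁ ⧸ N.subgroupOf P₁)).comap (QuotientGroup.mk' (N.subgroupOf P₁)) with hΦ'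
  set F := Φ'.map P₁.subtype with hF
  have hFmem : ∀ x : P₁, (x : G) ∈ F ↔ (x : P₁ ⧸ N.subgroupOf P₁) ∈ frattini (P₁ ⧸ N.subgroupOf P₁) := fun x => by
    rw [hF, ← P₁.coe_subtype, Subgroup.mem_map_iff_mem P₁.subtype_injective]
    rfl
  have hFle : F ≤ P₁ := Subgroup.map_subtype_le _
  have hFn : ∀ g, ∀ y ∈ F, g * y * g⁻¹ ∈ F := by
    intro g y hy
    have h1 := (hFmem ⟨y, hFle hy⟩).1 hy
    refine (hFmem (c g ⟨y, hFle hy⟩)).2 ?_
    rw [← hE]
    exact (SetLike.ext_iff.1 (Subgroup.characteristic_iff_comap_eq.1 inferInstance (E g)) _).2 h1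
  let K : Subgroup G :=
    { carrier := {g | ∀ x ∈ P₁, g * x * g⁻¹ * x⁻¹ ∈ F}
      one_mem' := fun x _ => by simp [F.one_mem]
      mul_mem' := fun {a b} ha hb x hx => by
        have h1 := F.mul_mem (hFn a _ (hb x hx)) (ha x hx)
        rwa [show a * (b * x * b⁻¹ * x⁻¹) * a⁻¹ * (a * x * a⁻¹ * x⁻¹) = a * b * x * (a * b)⁻¹ * x⁻¹ by group] at h1
      inv_mem' := fun {a} ha x hx => by
        have h1 := hFn a⁻¹ _ (F.inv_mem (ha x hx))
        rwa [show a⁻¹ * (a * x * a⁻¹ * x⁻¹)⁻¹ * a⁻¹⁻¹ = a⁻¹ * x * a⁻¹⁻¹ * x⁻¹ by group] at h1 }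
  have hcore := CfsgLib.Transfer.centralizer_pCore_le_of_isPSolvable (G := G ⧸ N) (p := p)
    (CfsgLib.Transfer.isPSolvable_quotient hG N) (CfsgLib.Cores.pPrimeCore_quotient_self p)
  have hprime : ∀ k ∈ K, (orderOf k).Coprime p → k ∈ P₁ := by
    intro k hk hco
    have hid : E k = 1 := by
      refine eq_id_of_frattini hQp (orderOf k) (E k) ?_ hco ?_
      · have : ∀ j : ℕ, ∀ x : P₁, (E k ^ j) (x : P₁ ⧸ N.subgroupOf P₁) = ((c (k ^ j) x : P₁) : P₁ ⧸ N.subgroupOf P₁) := by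
          intro j
          induction j with
          | zero => intro x; simp [c]
          | succ j ih =>
            intro x
            rw [pow_succ', MulAut.mul_apply, ih, hE]
            congr 1
            refine Subtype.ext ?_
            show k * (k ^ j * x * (k ^ j)⁻¹) * k⁻¹ = k ^ (j + 1) * x * (k ^ (j + 1))⁻¹
            rw [pow_succ']; group
        ext x
        induction x using QuotientGroup.induction_on with
        | H x =>
          rw [this, pow_orderOf_eq_one, MulAut.one_apply]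
          congr 1
          exact Subtype.ext (by show (1 : G) * x * 1⁻¹ = x; simp)
      · intro x
        induction x using QuotientGroup.induction_on with
        | H x =>
          rw [hE]
          have h1 : ((x⁻¹ * c k x : P₁) : G) ∈ F := by
            have := hFn (x : G)⁻¹ _ (hk x x.2)
            show (x : G)⁻¹ * (k * x * k⁻¹) ∈ F
            rwa [show (x : G)⁻¹ * (k * x * k⁻¹ * (x : G)⁻¹) * ((x : G)⁻¹)⁻¹ = (x : G)⁻¹ * (k * x * k⁻¹) by group] at this
          exact (hFmem _).1 h1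
    show π k ∈ Cfsg.pCore p (G ⧸ N)
    refine hcore (Subgroup.mem_centralizer_iff.2 fun y hy => ?_)
    obtain ⟨x, rfl⟩ := QuotientGroup.mk'_surjective N y
    have h1 := congrArg ρ (DFunLike.congr_fun hid ((⟨x, hy⟩ : P₁) : P₁ ⧸ N.subgroupOf P₁))
    have h2 : ((k * x * k⁻¹ : G) : G ⧸ N) = (x : G ⧸ N) := h1
    show (x : G ⧸ N) * (k : G ⧸ N) = (k : G ⧸ N) * (x : G ⧸ N)
    rw [QuotientGroup.mk_mul, QuotientGroup.mk_mul, QuotientGroup.mk_inv] at h2
    exact (mul_inv_eq_iff_eq_mul.1 h2).symm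
  constructor
  · intro hg
    have hgK : g ∈ K := hg
    have hKn : K.Normal := ⟨fun k hk a x hx => by
      have h1 := hFn a _ (hk _ (hP₁n.conj_mem x hx a⁻¹))
      rwa [show a * (k * (a⁻¹ * x * a⁻¹⁻¹) * k⁻¹ * (a⁻¹ * x * a⁻¹⁻¹)⁻¹) * a⁻¹
        = a * k * a⁻¹ * x * (a * k * a⁻¹)⁻¹ * x⁻¹ by group] at h1⟩
    haveI : (K.map π).Normal := hKn.map π (QuotientGroup.mk'_surjective N)
    have hKp : IsPGroup p (K.map π) := by
      rintro ⟨_, k, hk, rfl⟩
      obtain ⟨e, m, hpm, hord⟩ := Nat.exists_eq_pow_mul_and_not_dvd (orderOf_pos k).ne' p (Fact.out : p.Prime).ne_one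
      have h1 : k ^ p ^ e ∈ P₁ := by
        refine hprime _ (K.pow_mem hk _) (Nat.Coprime.coprime_dvd_left ?_ (((Fact.out : p.Prime).coprime_iff_not_dvd.2 hpm).symm))
        refine orderOf_dvd_of_pow_eq_one ?_
        rw [← pow_mul, ← hord, pow_orderOf_eq_one]
      obtain ⟨j, hj⟩ := hcoreP ⟨π (k ^ p ^ e), h1⟩
      refine ⟨e + j, Subtype.ext ?_⟩
      have h2 : (π (k ^ p ^ e)) ^ p ^ j = 1 := congrArg Subtype.val hj
      show (π k) ^ p ^ (e + j) = 1
      rw [pow_add, pow_mul, ← map_pow]; exact h2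
    exact (le_sSup ⟨inferInstance, hKp⟩ : K.map π ≤ Cfsg.pCore p (G ⧸ N)) ⟨g, hgK, rfl⟩
  · intro hg x hx
    refine (hFmem ⟨g * x * g⁻¹ * x⁻¹, P₁.mul_mem (P₁.mul_mem (P₁.mul_mem hg hx) (P₁.inv_mem hg)) (P₁.inv_mem hx)⟩).2 ?_
    have h1 := CfsgLib.PGroup.commutator_le_frattini hQp (Subgroup.commutator_mem_commutator
      (Subgroup.mem_top (((⟨g, hg⟩ : P₁)) : P₁ ⧸ N.subgroupOf P₁)) (Subgroup.mem_top (((⟨x, hx⟩ : P₁)) : P₁ ⧸ N.subgroupOf P₁)))
    exact h1

end Cfsg.Agent.S4218
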