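import Cfsg.Statements.S4223

set_option autoImplicit false
open Cfsg

namespace Cfsg.Agent.S4223
/-- No decomposition as the direct product of two nontrivial normal subgroups. -/
def Indec (A : Type*) [Group A] : Prop :=
  Nontrivial A ∧ ∀ H K : Subgroup A, H.Normal → K.Normal → H ⊓ K = ⊥ → H ⊔ K = ⊤ → H = ⊥ ∨ K = ⊥

theorem fitting {A : Type*} [Group A] [Finite A] (hA : Indec A) (f : A →* A)
    (hf : ∀ g x, f (g * x * g⁻¹) = g * f x * g⁻¹) (hni : ¬ Function.Injective f) : ∀ x, f x = x → x = 1 := by
  classical
  obtain ⟨n, hn⟩ : ∃ n : ℕ, Nat.card A ≤ n := ⟨_, le_rfl⟩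
  -- iterates
  let F : ℕ → (A →* A) := fun k => { toFun := f^[k], map_one' := iterate_map_one f k, map_mul' := iterate_map_mul f k }
  have hFn : ∀ k g x, F k (g * x * g⁻¹) = g * F k x * g⁻¹ := by
    intro k
    induction k with
    | zero => intro g x; rfl
    | succ k ih =>
      intro g x
      show f^[k + 1] _ = g * f^[k + 1] x * g⁻¹
      rw [Function.iterate_succ_apply', Function.iterate_succ_apply', show f^[k] (g * x * g⁻¹) = g * f^[k] x * g⁻¹ from ih g x, hf]
  have hFadd : ∀ a b x, F (a + b) x = F a (F b x) := fun a b x => Function.iterate_add_apply f a b x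
  obtain ⟨a, b, hab, he⟩ : ∃ a b, a < b ∧ F a = F b := by
    haveI : Finite (A →* A) := Finite.of_injective _ DFunLike.coe_injective
    obtain ⟨a, b, hne, he⟩ := Finite.exists_ne_map_eq_of_infinite F
    rcases lt_or_gt_of_ne hne with h | h
    · exact ⟨a, b, h, he⟩
    · exact ⟨b, a, h, he.symm⟩
  obtain ⟨d, rfl⟩ : ∃ d, b = a + (d + 1) := ⟨b - a - 1, by omega⟩
  -- an idempotent iterate
  have hper : ∀ k, a ≤ k → ∀ j x, F (k + j * (d + 1)) x = F k x := by
    intro k hk j x
    induction j with
    | zero => simp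
    | succ j ih =>
      obtain ⟨i, rfl⟩ : ∃ i, k = i + a := ⟨k - a, by omega⟩
      rw [show i + a + (j + 1) * (d + 1) = (i + j * (d + 1)) + (a + (d + 1)) by ring, hFadd, ← he, ← hFadd, ← ih]
      congr 2; ring
  set N := (a + 1) * (d + 1) with hN
  have hidem : ∀ x, F N (F N x) = F N x := fun x => by
    rw [← hFadd]
    exact hper N (by rw [hN]; nlinarith) (a + 1) x
  have hK : (F N).ker.Normal := inferInstance
  have hR : (F N).range.Normal := ⟨by rintro _ ⟨x, rfl⟩ g; exact ⟨g * x * g⁻¹, hFn N g x⟩⟩
  rcases hA.2 (F N).range (F N).ker hR hK (eq_bot_iff.2 fun y hy => by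
      obtain ⟨⟨x, rfl⟩, hy2⟩ := hy
      exact (hidem x).symm.trans hy2)
    (eq_top_iff.2 fun x _ => by
      have : x = F N x * ((F N x)⁻¹ * x) := by group
      rw [this]
      exact Subgroup.mul_mem_sup ⟨x, rfl⟩ (MonoidHom.mem_ker.2 (by rw [map_mul, map_inv, hidem, inv_mul_cancel]))) with h | h
  · intro x hx
    have : F N x = x := Function.iterate_fixed hx N
    have h2 : F N x ∈ (F N).range := ⟨x, rfl⟩
    rw [h, this] at h2
    exact h2
  · refine absurd ?_ hni
    have hinj : Function.Injective (F N) := (MonoidHom.ker_eq_bot_iff _).1 h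
    obtain ⟨M, hM⟩ : ∃ M, N = M + 1 := ⟨N - 1, by
      have : 0 < N := by rw [hN]; positivity
      omega⟩
    intro x y hxy
    apply hinj
    show f^[N] x = f^[N] y
    rw [hM, Function.iterate_succ_apply, Function.iterate_succ_apply, hxy]

theorem exists_iso_factor {A : Type*} [Group A] [Finite A] (hA : Indec A) {n : ℕ} {B : Fin n → Type*}
    [∀ j, Group (B j)] [∀ j, Finite (B j)] (hB : ∀ j, Indec (B j)) {X : Type*} [Group X]
    (ι : A →* X) (π : X →* A) (hπι : ∀ a, π (ι a) = a)
    (e : X ≃* ((j : Fin n) → B j)) (hconj : ∀ g x, π (ι g * x * (ι g)⁻¹) = g * π x * g⁻¹)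
    (hι : (ι.range).Normal) :
    ∃ j, Function.Bijective (fun y : B j => π (e.symm (Pi.mulSingle j y))) := by
  classical
  let P : Finset (Fin n) → (((j : Fin n) → B j) →* ((j : Fin n) → B j)) := fun s =>
    { toFun := fun x j => if j ∈ s then x j else 1
      map_one' := funext fun j => by simp
      map_mul' := fun x y => funext fun j => by by_cases h : j ∈ s <;> simp [h] }
  let S : Finset (Fin n) → (A →* A) := fun s =>
    π.comp (e.symm.toMonoidHom.comp ((P s).comp (e.toMonoidHom.comp ι)))
  have hS : ∀ s a, S s a = π (e.symm (P s (e (ι a)))) := fun _ _ => rfl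
  let α : Fin n → (A →* A) := fun j =>
    (π.comp (e.symm.toMonoidHom.comp (MonoidHom.mulSingle B j))).comp
      ((Pi.evalMonoidHom B j).comp (e.toMonoidHom.comp ι))
  have hSn : ∀ s g x, S s (g * x * g⁻¹) = g * S s x * g⁻¹ := by
    intro s g x
    rw [hS, hS]
    have : P s (e (ι (g * x * g⁻¹))) = e (ι g) * P s (e (ι x)) * (e (ι g))⁻¹ := by
      funext j
      show (if j ∈ s then e (ι (g * x * g⁻¹)) j else 1) = e (ι g) j * (if j ∈ s then e (ι x) j else 1) * (e (ι g) j)⁻¹
      by_cases h : j ∈ s <;> simp [h]
    rw [this]; simp [hπι]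
  have huniv : Function.Injective (S Finset.univ) := fun a b h => by
    have : ∀ c, S Finset.univ c = c := fun c => by
      rw [hS, show P Finset.univ (e (ι c)) = e (ι c) from funext fun j => if_pos (Finset.mem_univ j),
        e.symm_apply_apply, hπι]
    rwa [this, this] at h
  have hempty : ¬ Function.Injective (S ∅) := fun h => by
    obtain ⟨x, hx⟩ := (haveI := hA.1; exists_ne (1 : A))
    refine hx (h ?_)
    rw [hS, hS, show P ∅ (e (ι x)) = P ∅ (e (ι 1)) from funext fun j => by simp [P]]
  obtain ⟨j, hj⟩ : ∃ j, Function.Injective (α j) := by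
    suffices H : ∀ s, Function.Injective (S s) → ∃ j, Function.Injective (α j) from H _ huniv
    intro s
    induction s using Finset.induction_on with
    | empty => exact fun h => absurd h hempty
    | insert j t hjt ih =>
      intro hins
      by_cases ht : Function.Injective (S t)
      · exact ih ht
      refine ⟨j, (injective_iff_map_eq_one _).2 fun x hx => ?_⟩
      have hsum : ∀ x, S (insert j t) x = S t x * α j x := fun x => by
        show π (e.symm (P (insert j t) (e (ι x)))) = π (e.symm (P t (e (ι x)))) * π (e.symm (Pi.mulSingle j (e (ι x) j)))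
        rw [← map_mul, ← map_mul]
        congr 2
        funext i
        show (if i ∈ insert j t then _ else 1) = (if i ∈ t then e (ι x) i else 1) * Pi.mulSingle j (e (ι x) j) i
        rcases eq_or_ne i j with rfl | hi
        · simp [hjt]
        · simp [Finset.mem_insert, hi]
      let h : A ≃* A := MulEquiv.ofBijective (S (insert j t)) (Finite.injective_iff_bijective.1 hins)
      have hh : ∀ y, S (insert j t) (h.symm y) = y := fun y => h.apply_symm_apply y
      let f' : A →* A := h.symm.toMonoidHom.comp (S t)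
      refine fitting hA f' (fun g y => ?_) (fun hi => ht fun a b e' => hi (congrArg h.symm e')) x ?_
      · show h.symm (S t (g * y * g⁻¹)) = g * h.symm (S t y) * g⁻¹
        rw [hSn]
        apply hins
        rw [hh, hSn, hh]
      · apply hins
        show S (insert j t) (h.symm (S t x)) = S (insert j t) x
        rw [hh, hsum, hx, mul_one]
  refine ⟨j, ?_⟩
  let b : A →* B j := (Pi.evalMonoidHom B j).comp (e.toMonoidHom.comp ι)
  let a : B j →* A := π.comp (e.symm.toMonoidHom.comp (MonoidHom.mulSingle B j))
  have hab : Function.Bijective fun x => a (b x) := Finite.injective_iff_bijective.1 hj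
  have hbn : b.range.Normal := by
    have : b.range = ι.range.map ((Pi.evalMonoidHom B j).comp e.toMonoidHom) := by
      rw [MonoidHom.map_range]; rfl
    rw [this]
    exact hι.map _ ((Function.surjective_eval j).comp e.surjective)
  rcases (hB j).2 b.range a.ker hbn inferInstance (eq_bot_iff.2 fun y hy => by
      obtain ⟨⟨x, rfl⟩, hy⟩ := hy
      have : x = 1 := hab.1 (show a (b x) = a (b 1) by rw [MonoidHom.mem_ker.1 hy, map_one, map_one])
      rw [this, map_one]; exact one_mem _)
    (eq_top_iff.2 fun y _ => by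
      obtain ⟨x, hx⟩ := hab.2 (a y)
      have : y = b x * ((b x)⁻¹ * y) := by group
      rw [this]
      exact Subgroup.mul_mem_sup ⟨x, rfl⟩ (MonoidHom.mem_ker.2 (by rw [map_mul, map_inv, ← hx]; group))) with h | h
  · obtain ⟨x, hx⟩ := (haveI := hA.1; exists_ne (1 : A))
    have hb1 : b x ∈ b.range := ⟨x, rfl⟩
    rw [h] at hb1
    exact absurd (hab.1 (show a (b x) = a (b 1) by rw [Subgroup.mem_bot.1 hb1, map_one b])) hx
  · exact ⟨(MonoidHom.ker_eq_bot_iff a).1 h, fun y => by
      obtain ⟨x, hx⟩ := hab.2 y; exact ⟨b x, hx⟩⟩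

theorem main : ∀ (m : ℕ) {n : ℕ} {A : Fin m → Type*} {B : Fin n → Type*} [∀ i, Group (A i)] [∀ j, Group (B j)]
    [∀ i, Finite (A i)] [∀ j, Finite (B j)], (∀ i, Indec (A i)) → (∀ j, Indec (B j)) →
    ∀ (_ : ((i : Fin m) → A i) ≃* ((j : Fin n) → B j)), ∃ σ : Fin m ≃ Fin n, ∀ i, Nonempty (A i ≃* B (σ i)) := by
  intro m
  induction m with
  | zero =>
    intro n A B _ _ _ _ _ hB e
    classical
    rcases n with _ | n
    · exact ⟨Equiv.refl _, fun i => i.elim0⟩
    · obtain ⟨y, hy⟩ := (haveI := (hB 0).1; exists_ne (1 : B 0))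
      refine absurd ?_ hy
      have : (Pi.mulSingle 0 y : (j : Fin (n + 1)) → B j) = 1 :=
        e.symm.injective (funext fun i => i.elim0)
      simpa using congrFun this 0
  | succ m ih =>
    intro n A B _ _ _ _ hA hB e
    classical
    obtain ⟨j, hj⟩ := exists_iso_factor (hA 0) hB (MonoidHom.mulSingle A 0) (Pi.evalMonoidHom A 0)
      (fun a => by simp) e (fun g x => by simp)
      ⟨by
        rintro _ ⟨a, rfl⟩ g
        refine ⟨g 0 * a * (g 0)⁻¹, funext fun i => ?_⟩
        rcases eq_or_ne i 0 with rfl | hi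
        · simp
        · simp [hi]⟩
    rcases n with _ | n
    · exact j.elim0
    let a : B j →* A 0 := (Pi.evalMonoidHom A 0).comp (e.symm.toMonoidHom.comp (MonoidHom.mulSingle B j))
    have ha : Function.Bijective a := hj
    let E : (i : Fin m) → A i.succ → A i.succ := fun _ x => x
    let F : ((i : Fin m) → A i.succ) →* ((i : Fin n) → B (j.succAbove i)) :=
      { toFun := fun f i => e (Fin.cons 1 f) (j.succAbove i)
        map_one' := funext fun i => by
          rw [show (Fin.cons 1 1 : (i : Fin (m + 1)) → A i) = 1 from funext (Fin.cases rfl fun _ => rfl), map_one]; rfl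
        map_mul' := fun f g => funext fun i => by
          rw [show (Fin.cons 1 (f * g) : (i : Fin (m + 1)) → A i) = Fin.cons 1 f * Fin.cons 1 g from
            funext (Fin.cases (by simp) fun _ => by simp), map_mul]; rfl }
    have hFbij : Function.Bijective F := by
      refine ⟨(injective_iff_map_eq_one F).2 fun f hf => ?_, fun g => ?_⟩
      · set x := e (Fin.cons 1 f) with hx
        have hsingle : x = Pi.mulSingle j (x j) := by
          funext i
          rcases Fin.eq_self_or_eq_succAbove j i with rfl | ⟨k, rfl⟩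
          · simp
          · rw [Pi.mulSingle_eq_of_ne (Fin.succAbove_ne j k)]
            exact congrFun hf k
        have h1 : a (x j) = 1 := by
          show e.symm (Pi.mulSingle j (x j)) 0 = 1
          rw [← hsingle, hx, e.symm_apply_apply]; rfl
        have h2 : x = 1 := by
          rw [hsingle, ha.1 (h1.trans (map_one a).symm), Pi.mulSingle_one]
        have h3 : (Fin.cons 1 f : (i : Fin (m + 1)) → A i) = 1 := e.injective (by rw [← hx, h2, map_one])
        funext i
        simpa using congrFun h3 i.succ
      · let g1 : (i : Fin (n + 1)) → B i := Fin.insertNth j 1 g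
        obtain ⟨y, hy⟩ := ha.2 (e.symm g1 0)⁻¹
        set x := e.symm (Pi.mulSingle j y * g1) with hx
        have h0 : x 0 = 1 := by
          rw [hx, map_mul, Pi.mul_apply, show e.symm (Pi.mulSingle j y) 0 = a y from rfl, hy, inv_mul_cancel]
        refine ⟨fun i => x i.succ, funext fun k => ?_⟩
        show e (Fin.cons 1 fun i => x i.succ) (j.succAbove k) = g k
        rw [show (Fin.cons 1 fun i => x i.succ : (i : Fin (m + 1)) → A i) = x from
          funext (Fin.cases h0.symm fun _ => rfl), hx, e.apply_symm_apply, Pi.mul_apply,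
          Pi.mulSingle_eq_of_ne (Fin.succAbove_ne j k), one_mul]
        simp [g1]
    obtain ⟨σ', hσ'⟩ := ih (A := fun i => A i.succ) (B := fun i => B (j.succAbove i))
      (fun i => hA _) (fun i => hB _) (MulEquiv.ofBijective F hFbij)
    refine ⟨(finSuccEquiv' 0).trans ((Equiv.optionCongr σ').trans (finSuccEquiv' j).symm), ?_⟩
    intro i
    refine Fin.cases ?_ (fun k => ?_) i
    · have h0 : ((finSuccEquiv' (0 : Fin (m + 1))).trans ((Equiv.optionCongr σ').trans (finSuccEquiv' j).symm)) 0 = j := by
        simp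
      rw [h0]
      exact ⟨(MulEquiv.ofBijective a ha).symm⟩
    · have hk : ((finSuccEquiv' (0 : Fin (m + 1))).trans ((Equiv.optionCongr σ').trans (finSuccEquiv' j).symm)) k.succ =
          j.succAbove (σ' k) := by
        rw [← show (0 : Fin (m + 1)).succAbove k = k.succ from congrFun Fin.succAbove_zero k]
        simp only [Equiv.trans_apply, finSuccEquiv'_succAbove, Equiv.optionCongr_apply, Option.map_some,
          finSuccEquiv'_symm_some]
      rw [hk]
      exact hσ' k


/-- If a finite group is isomorphic both to a direct product of `m` directly indecomposable nontrivial groups and to a direct product of `n` such groups (a group is directly indecomposable when it is not the internal direct product of two nontrivial normal subgroups), then `m = n` and the factors are isomorphic in pairs after a suitable matching. -/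
theorem result {m n : ℕ} {A : Fin m → Type*} {B : Fin n → Type*} [∀ i, Group (A i)] [∀ j, Group (B j)] [∀ i, Finite (A i)] [∀ j, Finite (B j)] (hA : ∀ i, Nontrivial (A i) ∧ ∀ H K : Subgroup (A i), H.Normal → K.Normal → H ⊓ K = ⊥ → H ⊔ K = ⊤ → H = ⊥ ∨ K = ⊥) (hB : ∀ j, Nontrivial (B j) ∧ ∀ H K : Subgroup (B j), H.Normal → K.Normal → H ⊓ K = ⊥ → H ⊔ K = ⊤ → H = ⊥ ∨ K = ⊥) (e : ((i : Fin m) → A i) ≃* ((j : Fin n) → B j)) : ∃ σ : Fin m ≃ Fin n, ∀ i, Nonempty (A i ≃* B (σ i)) := by
  exact main m hA hB e

end Cfsg.Agent.S4223
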