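import Cfsg.Statements.S4227
import Cfsg.Agent.Lib.Transfer.PSolvable
import Cfsg.Agent.Lib.Solvable.Fitting
import Cfsg.Agent.Lib.Char.Burnside
import Cfsg.Agent.S4218

set_option autoImplicit false
open Cfsg

namespace Cfsg.Agent.S4227
open Subgroup

theorem pow_p_eq_one {G : Type*} [Group G] {p : ℕ} [hp : Fact p.Prime] {x : G} (h6 : x ^ 6 = 1) (hpg : ∃ k : ℕ, x ^ p ^ k = 1)
    (hp6 : p = 2 ∨ p = 3) : x ^ p = 1 := by
  obtain ⟨k, hk⟩ := hpg
  obtain ⟨j, -, hj⟩ := (Nat.dvd_prime_pow hp.out).1 (orderOf_dvd_of_pow_eq_one hk)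
  have h := orderOf_dvd_of_pow_eq_one h6
  rw [hj] at h
  refine orderOf_dvd_iff_pow_eq_one.1 ?_
  rw [hj]
  rcases j with _ | _ | j
  · simp
  · simp
  · exfalso
    have := (pow_dvd_pow p (show 2 ≤ j + 2 by omega)).trans h
    rcases hp6 with rfl | rfl <;> norm_num at this

theorem isSolvable_exp_six {G : Type*} [Group G] [Finite G] (h : ∀ x : G, x ^ 6 = 1) : Group.IsSolvable G := by
  refine CfsgLib.Char.isSolvable_of_card_eq_pow_mul_pow Nat.prime_two Nat.prime_three
    (a := Nat.card G) (b := Nat.card G) ?_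
  rw [← Nat.factorization_le_iff_dvd Nat.card_pos.ne' (by positivity), Finsupp.le_iff]
  intro r hr
  have hrp := Nat.prime_of_mem_primeFactors hr
  haveI : Fact r.Prime := ⟨hrp⟩
  obtain ⟨g, hg⟩ := exists_prime_orderOf_dvd_card' (G := G) r (Nat.dvd_of_mem_primeFactors hr)
  have h6 : r ∣ 6 := hg ▸ orderOf_dvd_of_pow_eq_one (h g)
  have hr6 : r ≤ 6 := Nat.le_of_dvd (by norm_num) h6
  have hv := (Nat.factorization_lt r (n := Nat.card G) Nat.card_pos.ne').le
  rw [Nat.factorization_mul (by positivity) (by positivity), Nat.Prime.factorization_pow Nat.prime_two,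
    Nat.Prime.factorization_pow Nat.prime_three, Finsupp.add_apply]
  interval_cases r <;> simp_all (config := {decide := true}) [Finsupp.single_apply]

theorem two_length {H : Type*} [Group H] [Finite H] (h : ∀ x : H, x ^ 6 = 1) (hc : Cfsg.pPrimeCore 2 H = ⊥) :
    ∀ g : H, g * g = 1 → g ∈ Cfsg.pCore 2 H := by
  intro g hg
  haveI := isSolvable_exp_six h
  refine CfsgLib.Solvable.centralizer_pCore_le 2 hc (mem_centralizer_iff.2 fun v hv => ?_)
  have hgp : IsPGroup 2 (zpowers g) := by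
    rcases eq_or_ne g 1 with rfl | h1
    · rw [zpowers_one_eq_bot]; exact IsPGroup.of_bot
    · exact IsPGroup.of_card (n := 1) (by rw [Nat.card_zpowers, orderOf_eq_prime (by rw [pow_two]; exact hg) h1, pow_one])
  have hS := hgp.to_sup_of_normal_right (CfsgLib.Cores.isPGroup_pCore (G := H) 2)
  have key : ∀ x ∈ zpowers g ⊔ Cfsg.pCore 2 H, x * x = 1 := fun x hx => by
    obtain ⟨k, hk⟩ := hS ⟨x, hx⟩
    have := pow_p_eq_one (p := 2) (h x) ⟨k, congrArg Subtype.val hk⟩ (Or.inl rfl)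
    rwa [pow_two] at this
  have a := key g (mem_sup_left (mem_zpowers g))
  have b := key v (mem_sup_right hv)
  have c := key (g * v) (mul_mem (mem_sup_left (mem_zpowers g)) (mem_sup_right hv))
  calc v * g = g * g * (v * g) * (v * v) := by rw [a, b]; simp
    _ = g * (g * v * (g * v)) * v := by group
    _ = g * v := by rw [c, mul_one]

theorem char_lemma {M : Type*} [CommGroup M] (hM : ∀ v : M, v * v = 1 → v = 1) (X A B C : MulAut M)
    (hA : A * A = 1) (hB : B * B = 1) (hC : C * C = 1) (hAB : A * B = B * A) (hABC : A * B * C = 1)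
    (hXA : X * A = B * X) (hXB : X * B = C * X) (hXC : X * C = A * X)
    (hN : ∀ m, m * X m * X (X m) = 1) : ∀ m, A m = m := by
  have hAe : ∀ x, A (A x) = x := fun x => by rw [← MulAut.mul_apply, hA, MulAut.one_apply]
  have hBe : ∀ x, B (B x) = x := fun x => by rw [← MulAut.mul_apply, hB, MulAut.one_apply]
  have hCe : C = A * B := by
    rw [← mul_one (A * B), ← hC, ← mul_assoc, hABC, one_mul]
  have ap : ∀ (P Q : MulAut M) (x : M), P * Q = 1 → P (Q x) = x := fun P Q x h => by rw [← MulAut.mul_apply, h, MulAut.one_apply]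
  have sw : ∀ (P Q : MulAut M) (x : M), X * P = Q * X → X (P x) = Q (X x) := fun P Q x h => by
    rw [← MulAut.mul_apply, h, MulAut.mul_apply]
  have kill : ∀ m : M, A m = m⁻¹ → (B m = m ∨ B m = m⁻¹) → m = 1 := by
    intro m h1 h2
    have hABe : A (B m) = B (A m) := by rw [← MulAut.mul_apply, hAB, MulAut.mul_apply]
    have e1 : A (X m) = X (C m) := (sw C A m hXC).symm
    have e2 : A (X (X m)) = X (X (B m)) := by rw [sw B C m hXB, sw C A _ hXC]
    have hN1 := congrArg A (hN m)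
    rw [map_mul, map_mul, map_one, h1, e1, e2, hCe, MulAut.mul_apply] at hN1
    have hm := hN m
    rcases h2 with h2 | h2
    · rw [h2, h1, map_inv] at hN1
      have h3 : X (X m) * X (X m) = 1 := by
        calc _ = (m * X m * X (X m)) * (m⁻¹ * (X m)⁻¹ * X (X m)) := by
              rw [mul_mul_mul_comm (m * X m), ← mul_inv_rev, mul_comm (X m) m, mul_inv_cancel, one_mul]
          _ = 1 := by rw [hm, hN1, mul_one]
      exact X.injective (X.injective ((hM _ h3).trans ((map_one X).symm.trans (congrArg X (map_one X).symm))))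
    · rw [h2, map_inv, h1, inv_inv, map_inv, map_inv] at hN1
      have h3 : X m * X m = 1 := by
        calc _ = (m * X m * X (X m)) * (m⁻¹ * X m * (X (X m))⁻¹) := by
              rw [mul_mul_mul_comm (m * X m), mul_inv_cancel, mul_one, mul_mul_mul_comm, mul_inv_cancel, one_mul]
          _ = 1 := by rw [hm, hN1, mul_one]
      exact X.injective ((hM _ h3).trans (map_one X).symm)
  intro m
  obtain ⟨v, hv⟩ : ∃ v, v = m * (A m)⁻¹ := ⟨_, rfl⟩
  have hAv : A v = v⁻¹ := by rw [hv, map_mul, map_inv, hAe, mul_inv_rev, inv_inv]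
  have hAB' : A (B v) = (B v)⁻¹ := by
    rw [← MulAut.mul_apply, hAB, MulAut.mul_apply, hAv, map_inv]
  have k1 := kill (v * B v) (by rw [map_mul, hAv, hAB', mul_inv]) (Or.inl (by rw [map_mul, hBe, mul_comm]))
  have k2 := kill (v * (B v)⁻¹) (by rw [map_mul, map_inv, hAv, hAB', mul_inv]) (Or.inr (by rw [map_mul, map_inv, hBe, mul_inv_rev, inv_inv]))
  have h3 : v = 1 := hM v (by
    calc v * v = (v * B v) * (v * (B v)⁻¹) := by rw [mul_mul_mul_comm, mul_inv_cancel, mul_one]
      _ = 1 := by rw [k1, k2, mul_one])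
  rw [hv, mul_inv_eq_one] at h3
  exact h3.symm

theorem three_length {H : Type*} [Group H] [Finite H] (h : ∀ x : H, x ^ 6 = 1) (hc : Cfsg.pPrimeCore 3 H = ⊥) :
    ∀ g : H, g ^ 3 = 1 → g ∈ Cfsg.pCore 3 H := by
  intro g hg
  haveI : Fact (Nat.Prime 3) := ⟨Nat.prime_three⟩
  haveI : Fact (Nat.Prime 2) := ⟨Nat.prime_two⟩
  haveI := isSolvable_exp_six h
  set V := Cfsg.pCore 3 H with hVd
  haveI hVn : V.Normal := by infer_instance
  haveI hVc : IsPGroup 3 V := CfsgLib.Cores.isPGroup_pCore 3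
  set π := QuotientGroup.mk' V with hπ
  have hK6 : ∀ k : H ⧸ V, k ^ 6 = 1 := fun k => by
    obtain ⟨y, rfl⟩ := QuotientGroup.mk'_surjective V k
    rw [← map_pow, h, map_one]
  -- the 2'-core of the quotient is trivial
  have hc2 : Cfsg.pPrimeCore 2 (H ⧸ V) = ⊥ := by
    set D := Cfsg.pPrimeCore 2 (H ⧸ V)
    haveI : D.Normal := by infer_instance
    have hD : IsPGroup 3 (D.comap π) := fun x => by
      have hcop := CfsgLib.Cores.coprime_card_pPrimeCore (G := H ⧸ V) 2
      have h1 : orderOf (⟨π x, x.2⟩ : D) ∣ 3 := by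
        have hd6 : orderOf (⟨π x, x.2⟩ : D) ∣ 2 * 3 := orderOf_dvd_of_pow_eq_one (Subtype.ext (hK6 _))
        exact (Nat.Coprime.coprime_dvd_left (orderOf_dvd_natCard _) hcop).dvd_of_dvd_mul_left hd6
      have h2 : (π x) ^ 3 = 1 := congrArg Subtype.val (orderOf_dvd_iff_pow_eq_one.1 h1)
      rw [← map_pow] at h2
      obtain ⟨j, hj⟩ := hVc ⟨_, (QuotientGroup.eq_one_iff _).1 h2⟩
      refine ⟨1 + j, Subtype.ext ?_⟩
      rw [SubmonoidClass.coe_pow, pow_add, pow_one, pow_mul]
      exact congrArg Subtype.val hj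
    haveI : (D.comap π).Normal := Subgroup.Normal.comap inferInstance π
    rw [eq_bot_iff]
    intro z hz
    obtain ⟨y, rfl⟩ := QuotientGroup.mk'_surjective V z
    exact (QuotientGroup.eq_one_iff y).2 (CfsgLib.Cores.le_pCore hD (show y ∈ D.comap π from hz))
  set W := Cfsg.pCore 2 (H ⧸ V) with hW
  haveI hWn : W.Normal := by infer_instance
  have hW2 : ∀ w ∈ W, w * w = 1 := fun w hw => by
    obtain ⟨k, hk⟩ := CfsgLib.Cores.isPGroup_pCore 2 ⟨w, hw⟩
    have := pow_p_eq_one (p := 2) (hK6 w) ⟨k, congrArg Subtype.val hk⟩ (Or.inl rfl)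
    rwa [pow_two] at this
  have hWinv : ∀ w ∈ W, w⁻¹ = w := fun w hw => inv_eq_of_mul_eq_one_right (hW2 w hw)
  have hWab : ∀ u ∈ W, ∀ w ∈ W, u * w = w * u := fun u hu w hw => by
    rw [← hWinv _ (W.mul_mem hu hw), mul_inv_rev, hWinv u hu, hWinv w hw]
  -- the Frattini quotient of `V`
  set Φ := frattini V with hΦ
  have hMc : ∀ a b : V ⧸ Φ, a * b = b * a := CfsgLib.PGroup.quotient_frattini_comm hVc
  letI : CommGroup (V ⧸ Φ) := { (inferInstance : Group (V ⧸ Φ)) with mul_comm := hMc }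
  have hcn : ∀ a : H, Φ.map (MulAut.conjNormal a : MulAut V).toMonoidHom = Φ := fun a =>
    Subgroup.characteristic_iff_map_eq.1 inferInstance _
  let φ : H →* MulAut (V ⧸ Φ) :=
    { toFun := fun a => QuotientGroup.congr Φ Φ (MulAut.conjNormal a) (hcn a)
      map_one' := MulEquiv.ext fun x => by
        induction x using QuotientGroup.induction_on with
        | H x => show (((MulAut.conjNormal (1 : H)) x : V) : V ⧸ Φ) = x; rw [map_one]; rfl
      map_mul' := fun a b => MulEquiv.ext fun x => by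
        induction x using QuotientGroup.induction_on with
        | H x => show (((MulAut.conjNormal (a * b)) x : V) : V ⧸ Φ) = _; rw [map_mul]; rfl }
  have hφV : V ≤ φ.ker := fun v hv => MulEquiv.ext fun x => by
    induction x using QuotientGroup.induction_on with
    | H x =>
      show (((⟨v, hv⟩ * x * (⟨v, hv⟩ : V)⁻¹ : V)) : V ⧸ Φ) = x
      rw [QuotientGroup.mk_mul, QuotientGroup.mk_mul, QuotientGroup.mk_inv, hMc _ (x : V ⧸ Φ), mul_inv_cancel_right]
  let ψ : H ⧸ V →* MulAut (V ⧸ Φ) := QuotientGroup.lift V φ hφV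
  have hN : ∀ m, m * φ g m * φ g (φ g m) = 1 := by
    intro m
    induction m using QuotientGroup.induction_on with
    | H v =>
      have hgp : IsPGroup 3 (zpowers g) := by
        rcases eq_or_ne g 1 with rfl | h1
        · rw [zpowers_one_eq_bot]; exact IsPGroup.of_bot
        · exact IsPGroup.of_card (n := 1) (by rw [Nat.card_zpowers, orderOf_eq_prime hg h1, pow_one])
      have hS := hgp.to_sup_of_normal_right hVc
      obtain ⟨k, hk⟩ := hS ⟨(v : H) * g, mul_mem (mem_sup_right v.2) (mem_sup_left (mem_zpowers g))⟩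
      have h3 := pow_p_eq_one (p := 3) (h ((v : H) * g)) ⟨k, congrArg Subtype.val hk⟩ (Or.inr rfl)
      show ((v * MulAut.conjNormal g v * MulAut.conjNormal g (MulAut.conjNormal g v) : V) : V ⧸ Φ) = 1
      rw [show v * MulAut.conjNormal g v * MulAut.conjNormal g (MulAut.conjNormal g v) = 1 from Subtype.ext (by
        show (v : H) * (g * v * g⁻¹) * (g * (g * v * g⁻¹) * g⁻¹) = 1
        calc _ = ((v : H) * g) ^ 3 * (g ^ 3)⁻¹ := by simp only [pow_succ, pow_zero, one_mul]; group
          _ = 1 := by rw [h3, hg, inv_one, mul_one]), QuotientGroup.mk_one]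
  have hM : ∀ v : V ⧸ Φ, v * v = 1 → v = 1 := fun v hv => by
    refine orderOf_eq_one_iff.1 (Nat.eq_one_of_dvd_coprimes (by norm_num : Nat.Coprime 2 3) ?_ ?_)
    · exact orderOf_dvd_of_pow_eq_one (by rw [pow_two]; exact hv)
    · exact orderOf_dvd_of_pow_eq_one (CfsgLib.PGroup.quotient_frattini_pow hVc v)
  set x := π g with hx
  have hx3 : x ^ 3 = 1 := by rw [hx, ← map_pow, hg, map_one]
  -- every `[w,x]` acts trivially, hence is trivial
  have key : ∀ w ∈ W, w * (x * w * x⁻¹) = 1 := by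
    intro w' hw'
    set w₁ := x * w' * x⁻¹ with hw₁
    set w₂ := x * w₁ * x⁻¹ with hw₂
    have h1 : w₁ ∈ W := hWn.conj_mem _ hw' x
    have h2 : w₂ ∈ W := hWn.conj_mem _ h1 x
    have h0 : x * w₂ * x⁻¹ = w' := by
      rw [hw₂, hw₁, show x * (x * (x * w' * x⁻¹) * x⁻¹) * x⁻¹ = x ^ 3 * w' * (x ^ 3)⁻¹ by
        simp only [pow_succ, pow_zero, one_mul]; group, hx3]
      simp
    have sq := fun (a : H ⧸ V) (ha : a ∈ W) => show ψ a * ψ a = 1 by rw [← map_mul, hW2 a ha, map_one]
    have hψ := char_lemma hM (ψ x) (ψ (w' * w₁)) (ψ (w₁ * w₂)) (ψ (w₂ * w'))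
      (sq _ (W.mul_mem hw' h1)) (sq _ (W.mul_mem h1 h2)) (sq _ (W.mul_mem h2 hw'))
      (by rw [← map_mul, ← map_mul, hWab _ (W.mul_mem hw' h1) _ (W.mul_mem h1 h2)])
      (by
        rw [← map_mul, ← map_mul, show w' * w₁ * (w₁ * w₂) * (w₂ * w') = w' * (w₁ * w₁) * (w₂ * w₂) * w' by group,
          hW2 _ h1, hW2 _ h2, mul_one, mul_one, hW2 _ hw', map_one])
      (by rw [← map_mul, ← map_mul]; congr 1; rw [hw₂, hw₁]; group)
      (by
        rw [← map_mul, ← map_mul]; congr 1
        calc x * (w₁ * w₂) = (x * w₁ * x⁻¹) * (x * w₂ * x⁻¹) * x := by group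
          _ = _ := by rw [h0])
      (by
        rw [← map_mul, ← map_mul]; congr 1
        calc x * (w₂ * w') = (x * w₂ * x⁻¹) * (x * w' * x⁻¹) * x := by group
          _ = _ := by rw [h0])
      hN
    obtain ⟨a, ha⟩ := QuotientGroup.mk'_surjective V (w' * w₁)
    have hwmem : w' * w₁ ∈ W := W.mul_mem hw' h1
    have hka : ∀ m, φ (a ^ 3) m = m := by
      intro m
      have e : π (a ^ 3) = w' * w₁ := by
        rw [map_pow, ha, pow_succ, pow_two, hW2 _ hwmem, one_mul]
      calc φ (a ^ 3) m = ψ (π (a ^ 3)) m := rfl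
        _ = m := by rw [e]; exact hψ m
    have he : MulAut.conjNormal (a ^ 3) = (1 : MulAut V) := by
      refine Cfsg.Agent.S4218.eq_id_of_frattini hVc 2 _ ?_ (by norm_num) fun v => ?_
      · rw [← map_pow, ← pow_mul, show 3 * 2 = 6 from rfl, h, map_one]
      · exact (QuotientGroup.eq).1 (hka (v : V ⧸ Φ)).symm
    have hmem : a ^ 3 ∈ V := CfsgLib.Solvable.centralizer_pCore_le 3 hc (mem_centralizer_iff.2 fun v hv => by
      have := congrArg Subtype.val (DFunLike.congr_fun he (⟨v, hv⟩ : V))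
      change a ^ 3 * v * (a ^ 3)⁻¹ = v at this
      exact (mul_inv_eq_iff_eq_mul.1 this).symm)
    have := (QuotientGroup.eq_one_iff (a ^ 3)).2 hmem
    calc w' * w₁ = π a := ha.symm
      _ = π (a ^ 3) := by rw [map_pow, ha, pow_succ, pow_two, hW2 _ hwmem, one_mul]
      _ = 1 := this
  have hxW : x ∈ W := CfsgLib.Solvable.centralizer_pCore_le 2 hc2 (mem_centralizer_iff.2 fun w hw => by
    have := key w hw
    rw [mul_eq_one_iff_eq_inv] at this
    have h4 : x * w * x⁻¹ = w := inv_injective (this.symm.trans (hWinv w hw).symm)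
    exact (mul_inv_eq_iff_eq_mul.1 h4).symm)
  exact (QuotientGroup.eq_one_iff g).1 (show x = 1 by
    calc x = x * (x * x) * (x * x) * ((x * x) * (x * x))⁻¹ := by group
      _ = 1 := by rw [hW2 _ hxW, mul_one, mul_one, mul_one, inv_one, mul_one]
                  exact orderOf_eq_one_iff.1 (Nat.eq_one_of_dvd_coprimes (by norm_num : Nat.Coprime 2 3)
                    (orderOf_dvd_of_pow_eq_one (by rw [pow_two]; exact hW2 _ hxW)) (orderOf_dvd_of_pow_eq_one hx3)))

theorem pLength_one {G : Type*} [Group G] [Finite G] (p : ℕ) [hp : Fact p.Prime] (h : ∀ x : G, x ^ 6 = 1)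
    (hcore : ∀ (N : Subgroup G) [N.Normal], Cfsg.pPrimeCore p (G ⧸ N) = ⊥ →
      ∀ g : G ⧸ N, g ^ p = 1 → g ∈ Cfsg.pCore p (G ⧸ N)) : Cfsg.PLengthLE p 1 G := by
  have h1 := CfsgLib.Transfer.pPrimeCore_quotient_upperPSeries (G := G) p (n := 0) Even.zero
  have hmem := hcore _ h1
  rw [Cfsg.PLengthLE, CfsgLib.Transfer.upperPSeries_succ_of_even p G ⟨1, rfl⟩]
  set N := (Cfsg.upperPSeries p G (2 * 1)).1 with hN
  have hQ : (Nat.card (G ⧸ N)).Coprime p := by
    rw [CfsgLib.Cores.coprime_iff_not_dvd hp.out]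
    intro hd
    obtain ⟨y, hy⟩ := exists_prime_orderOf_dvd_card' (G := G ⧸ N) p hd
    obtain ⟨a, rfl⟩ := QuotientGroup.mk'_surjective N y
    -- pass to a `p`-element above `y`
    obtain ⟨e, m, hm, hord⟩ := Nat.exists_eq_pow_mul_and_not_dvd (orderOf_pos a).ne' p hp.out.ne_one
    have h6 := h (a ^ m)
    have hb : (a ^ m) ^ p ^ e = 1 := by rw [← pow_mul, mul_comm, ← hord, pow_orderOf_eq_one]
    have hp6 : p ∣ 6 := by
      rw [← hy]
      refine orderOf_dvd_of_pow_eq_one ?_
      rw [← map_pow, h, map_one]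
    have hp23 : p = 2 ∨ p = 3 := by
      rcases hp.out.dvd_mul.1 (show p ∣ 2 * 3 from hp6) with h2 | h3
      · exact Or.inl ((Nat.prime_dvd_prime_iff_eq hp.out Nat.prime_two).1 h2)
      · exact Or.inr ((Nat.prime_dvd_prime_iff_eq hp.out Nat.prime_three).1 h3)
    have hbp := pow_p_eq_one (p := p) h6 ⟨e, hb⟩ hp23
    have hin : a ^ m ∈ N := by
      rw [hN, show 2 * 1 = 1 + 1 from rfl, CfsgLib.Transfer.upperPSeries_succ_of_odd p G (by decide), Subgroup.mem_comap]
      exact hmem _ (by rw [← map_pow, hbp, map_one])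
    have h7 : (QuotientGroup.mk' N a) ^ m = 1 := by rw [← map_pow]; exact (QuotientGroup.eq_one_iff _).2 hin
    exact hm (hy ▸ orderOf_dvd_of_pow_eq_one h7)
  have : (⊤ : Subgroup (G ⧸ N)) ≤ Cfsg.pPrimeCore p (G ⧸ N) :=
    CfsgLib.Cores.le_pPrimeCore (by rwa [Subgroup.card_top])
  rw [top_le_iff.1 this, Subgroup.comap_top]


/-- A finite group in which every element has order dividing `6` has `2`-length at most `1` and `3`-length at most `1`. -/
theorem result {G : Type*} [Group G] [Finite G] (h : ∀ x : G, x ^ 6 = 1) : Cfsg.PLengthLE 2 1 G ∧ Cfsg.PLengthLE 3 1 G := by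
  haveI : Fact (Nat.Prime 2) := ⟨Nat.prime_two⟩
  haveI : Fact (Nat.Prime 3) := ⟨Nat.prime_three⟩
  have h6 : ∀ (N : Subgroup G) [N.Normal] (x : G ⧸ N), x ^ 6 = 1 := fun N _ x => by
    obtain ⟨y, rfl⟩ := QuotientGroup.mk'_surjective N x
    rw [← map_pow, h, map_one]
  exact ⟨pLength_one 2 h fun N _ hc g hg => two_length (h6 N) hc g (by rw [← pow_two]; exact hg),
    pLength_one 3 h fun N _ hc g hg => three_length (h6 N) hc g hg⟩

end Cfsg.Agent.S4227
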