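import Cfsg.Statements.S4230
import Mathlib

set_option autoImplicit false
open Cfsg

namespace Cfsg.Agent.S4230

/-- Let p be an odd prime, q a natural number not divisible by p, and e the multiplicative order of q modulo p. For a natural number f, p divides the value at q of the f-th cyclotomic polynomial if and only if f = e·p^j for some j ≥ 0. -/
theorem result (p q f : ℕ) (hp : p.Prime) (hp2 : p ≠ 2) (hpq : ¬ p ∣ q) :
    ((p : ℤ) ∣ (Polynomial.cyclotomic f ℤ).eval (q : ℤ)) ↔ ∃ j : ℕ, f = orderOf (q : ZMod p) * p ^ j := by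
  have : Fact p.Prime := ⟨hp⟩
  have hq : (q : ZMod p) ≠ 0 := by rwa [Ne, ZMod.natCast_eq_zero_iff]
  have hroot : ((p : ℤ) ∣ (Polynomial.cyclotomic f ℤ).eval (q : ℤ)) ↔
      (Polynomial.cyclotomic f (ZMod p)).IsRoot (q : ZMod p) := by
    rw [← ZMod.intCast_zmod_eq_zero_iff_dvd, Polynomial.IsRoot, ← Polynomial.map_cyclotomic_int f (ZMod p)]
    rw [← Int.cast_natCast (R := ZMod p) q, Polynomial.eval_intCast_map]
    rfl
  rw [hroot]
  have hepos : 0 < orderOf (q : ZMod p) := by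
    have := orderOf_dvd_of_pow_eq_one (ZMod.pow_card_sub_one_eq_one hq)
    exact Nat.pos_of_dvd_of_pos this (Nat.sub_pos_of_lt hp.one_lt)
  have hep : ¬ p ∣ orderOf (q : ZMod p) := fun h => by
    have h2 := Nat.le_of_dvd (Nat.sub_pos_of_lt hp.one_lt)
      (h.trans (orderOf_dvd_of_pow_eq_one (ZMod.pow_card_sub_one_eq_one hq)))
    have := hp.one_lt
    omega
  rcases eq_or_ne f 0 with rfl | hf
  · simp only [Polynomial.cyclotomic_zero, Polynomial.IsRoot, Polynomial.eval_one, one_ne_zero, false_iff, not_exists]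
    exact fun j h => (Nat.mul_pos hepos (pow_pos hp.pos j)).ne h
  obtain ⟨k, m, hm, rfl⟩ := Nat.exists_eq_pow_mul_and_not_dvd hf p hp.ne_one
  have : NeZero (m : ZMod p) := ⟨by rwa [Ne, ZMod.natCast_eq_zero_iff]⟩
  rw [Polynomial.isRoot_cyclotomic_prime_pow_mul_iff_of_charP]
  constructor
  · intro h
    exact ⟨k, by rw [← h.eq_orderOf, mul_comm]⟩
  · rintro ⟨j, hj⟩
    suffices m = orderOf (q : ZMod p) by rw [this]; exact IsPrimitiveRoot.orderOf _
    have h1 : m.Coprime (p ^ j) := ((hp.coprime_iff_not_dvd.2 hm).pow_left j).symm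
    have h2 : (orderOf (q : ZMod p)).Coprime (p ^ k) := ((hp.coprime_iff_not_dvd.2 hep).pow_left k).symm
    exact Nat.dvd_antisymm (h1.dvd_of_dvd_mul_right ⟨p ^ k, by rw [← hj, mul_comm]⟩)
      (h2.dvd_of_dvd_mul_left ⟨p ^ j, hj⟩)

end Cfsg.Agent.S4230
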