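import Cfsg.Statements.S4236
import Cfsg.Agent.Lib.SylowNumbers.TwoPrimeAddOne

set_option autoImplicit false
open Cfsg

namespace Cfsg.Agent.S4236

/-- No finite group has exactly 35 Sylow 17-subgroups. -/
theorem result {G : Type*} [Group G] [Finite G] : Nat.card (Sylow 17 G) ≠ 35 := by
  have : Fact (Nat.Prime 17) := ⟨by norm_num⟩
  refine CfsgLib.SylowNumbers.reduce 17 ?_ G
  intro G _ _ h
  obtain ⟨P⟩ : Nonempty (Sylow 17 G) := inferInstance
  obtain ⟨e, he, hG, -, -⟩ := CfsgLib.SylowNumbers.exists_card_eq (by norm_num) h P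
  have hodd : Odd e := CfsgLib.SylowNumbers.odd_of_minimal (by norm_num) h P hG
  have : Fact (Nat.Prime 5) := ⟨by norm_num⟩
  obtain ⟨Q⟩ : Nonempty (Sylow 5 G) := inferInstance
  have hcop : Nat.Coprime e 5 := by
    have h6 : e ≤ 16 := Nat.le_of_dvd (by norm_num) he
    rw [Nat.coprime_comm, (show Nat.Prime 5 by norm_num).coprime_iff_not_dvd]
    intro hd
    have h5 : 5 ∣ 17 - 1 := hd.trans he
    norm_num at h5
  have hQ : Nat.card (Q : Subgroup G) = 5 := by
    have hne : e ≠ 0 := fun h0 => by subst h0; norm_num at he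
    rw [Q.card_eq_multiplicity, hG, Nat.factorization_mul (by norm_num) hne, Finsupp.add_apply,
      Nat.factorization_eq_zero_of_not_dvd ((Nat.Prime.coprime_iff_not_dvd (by norm_num)).1 hcop.symm)]
    have : Nat.factorization ((2 * 17 + 1) * 17) 5 = 1 := by
      rw [show (2 * 17 + 1) * 17 = 5 * 119 by norm_num, Nat.factorization_mul (by norm_num) (by norm_num),
        Finsupp.add_apply, Nat.Prime.factorization_self (by norm_num),
        Nat.factorization_eq_zero_of_not_dvd (by norm_num : ¬ 5 ∣ 119)]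
    rw [this]
    norm_num
  refine CfsgLib.SylowNumbers.false_of_burnside h (by norm_num) ⟨119 * e, by rw [hG]; ring⟩ Q ?_
  refine CfsgLib.SylowNumbers.normalizer_le_centralizer_of_coprime _ (by norm_num) hQ ?_
  refine Nat.Coprime.coprime_dvd_left (Subgroup.card_subgroup_dvd_card _) ?_
  rw [hG, show (5 - 1 : ℕ) = 2 ^ 2 by norm_num]
  refine Nat.Coprime.pow_right _ ?_
  rw [Nat.coprime_two_right]
  exact (by decide : Odd ((2 * 17 + 1) * 17)).mul hodd

end Cfsg.Agent.S4236
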