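import Cfsg.Statements.S4238
import Cfsg.Agent.Lib.Transfer.Frobenius
import Cfsg.Agent.Lib.Cores.Basic
import Cfsg.Agent.Lib.PGroup.Basic
import Cfsg.Agent.S4218

set_option autoImplicit false
open Cfsg

namespace Cfsg.Agent.S4238
open Subgroup

/-- The section from a prime order automorphism acting irreducibly on a `p`-subgroup. -/
theorem bad_section {G : Type*} [Group G] [Finite G] {p q : ℕ} [hp : Fact p.Prime] [hq : Fact q.Prime]
    (hpq : q ≠ p) (U : Subgroup G) (hU : IsPGroup p U) (y : G) (hyp : (orderOf y).Coprime p)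
    (hyU : y ∈ normalizer (U : Set G)) (hyq : ∀ u ∈ U, y ^ q * u = u * y ^ q)
    (hy : ¬ ∀ u ∈ U, y * u = u * y)
    (hmin : ∀ V : Subgroup G, V < U → (∀ v ∈ V, y * v * y⁻¹ ∈ V) → ∀ v ∈ V, y * v = v * y) :
    ∃ (H : Subgroup G) (N : Subgroup H) (_ : N.Normal), Cfsg.pPrimeCore p (H ⧸ N) = ⊥ ∧
        ∀ k : H ⧸ N, orderOf k ≠ Monoid.exponent (H ⧸ N) := by
  classical
  let ee : MulAut U :=
    { toFun := fun u => ⟨y * u * y⁻¹, (mem_normalizer_iff.1 hyU u).1 u.2⟩
      invFun := fun u => ⟨y⁻¹ * u * y, (mem_normalizer_iff.1 hyU _).2 (by simp [mul_assoc])⟩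
      left_inv := fun u => Subtype.ext (by simp [mul_assoc])
      right_inv := fun u => Subtype.ext (by simp [mul_assoc])
      map_mul' := fun u v => Subtype.ext (by simp [mul_assoc]) }
  have hee : ∀ u : U, ((ee u : U) : G) = y * u * y⁻¹ := fun u => rfl
  have heek : ∀ (k : ℕ) (u : U), (((ee ^ k) u : U) : G) = y ^ k * u * (y ^ k)⁻¹ := by
    intro k
    induction k with
    | zero => intro u; simp
    | succ k ih => intro u; rw [pow_succ', MulAut.mul_apply, hee, ih, pow_succ']; group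
  have heq : ee ^ q = 1 := MulEquiv.ext fun u => Subtype.ext (by
    rw [heek, hyq u u.2]; simp)
  have hne : ee ≠ 1 := fun h => hy fun u hu => by
    have := congrArg Subtype.val (DFunLike.congr_fun h (⟨u, hu⟩ : U))
    rw [hee] at this
    exact mul_inv_eq_iff_eq_mul.1 this
  have hqp : q.Coprime p := (Nat.coprime_primes hq.out hp.out).2 hpq
  set Φ := frattini U with hΦ
  have hΦe : ∀ u : U, ee u ∈ Φ ↔ u ∈ Φ := fun u =>
    SetLike.ext_iff.1 (Subgroup.characteristic_iff_comap_eq.1 (inferInstance : (frattini U).Characteristic) ee) u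
  have hcomm : ∀ a b : U ⧸ Φ, a * b = b * a := CfsgLib.PGroup.quotient_frattini_comm hU
  -- the map `u ↦ u⁻¹ eu` modulo `Φ`
  let D : U →* U ⧸ Φ := MonoidHom.mk' (fun u => ((u⁻¹ * ee u : U) : U ⧸ Φ)) (fun u v => by
    simp only [map_mul, mul_inv_rev, QuotientGroup.mk_mul, QuotientGroup.mk_inv]
    calc _ = (v : U ⧸ Φ)⁻¹ * (((u : U ⧸ Φ)⁻¹ * (ee u : U ⧸ Φ)) * (ee v : U ⧸ Φ)) := by simp only [mul_assoc]
      _ = _ := by rw [← mul_assoc, hcomm ((v : U ⧸ Φ)⁻¹) _, mul_assoc])
  have hΦD : Φ ≤ D.ker := fun u hu =>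
    (QuotientGroup.eq_one_iff _).2 (Φ.mul_mem (Φ.inv_mem hu) ((hΦe u).2 hu))
  have hsurj : Function.Surjective D := by
    by_contra hns
    set U₁ := D.range.comap (QuotientGroup.mk' Φ) with hU₁
    have hlt : U₁.map U.subtype < U := by
      refine lt_of_le_of_ne (map_subtype_le _) fun h => hns (MonoidHom.range_eq_top.1 (eq_top_iff.2 fun w _ => ?_))
      obtain ⟨u, rfl⟩ := QuotientGroup.mk'_surjective Φ w
      exact (mem_map_iff_mem U.subtype_injective).1 (h.ge u.2)
    have hinv : ∀ u : U, u ∈ U₁ → ee u ∈ U₁ := by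
      intro u hu
      obtain ⟨w, hw⟩ := hu
      refine ⟨ee w, ?_⟩
      have h1 : (u : U ⧸ Φ) = ((w⁻¹ * ee w : U) : U ⧸ Φ) := hw.symm
      rw [QuotientGroup.eq] at h1
      show (((ee w)⁻¹ * ee (ee w) : U) : U ⧸ Φ) = (ee u : U ⧸ Φ)
      refine (QuotientGroup.eq.2 ?_).symm
      have := (hΦe _).2 h1
      simpa only [map_mul, map_inv] using this
    have hfix : ∀ u ∈ U₁, ee u = u := fun u hu => Subtype.ext (by
      rw [hee]
      refine mul_inv_eq_iff_eq_mul.2 (hmin _ hlt ?_ _ ⟨u, hu, rfl⟩)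
      rintro _ ⟨v, hv, rfl⟩
      exact ⟨ee v, hinv v hv, rfl⟩)
    apply hne
    refine MulEquiv.ext fun u => ?_
    set d := u⁻¹ * ee u with hd
    have hdm : d ∈ U₁ := ⟨u, rfl⟩
    have hk : ∀ k : ℕ, (ee ^ k) u = u * d ^ k := by
      intro k
      induction k with
      | zero => simp
      | succ k ih =>
        rw [pow_succ', MulAut.mul_apply, ih, map_mul, map_pow, hfix d hdm, pow_succ' d,
          show ee u = u * d by rw [hd]; group, mul_assoc]
    have hdq : d ^ q = 1 := by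
      have := hk q
      rw [heq, MulAut.one_apply] at this
      exact left_eq_mul.1 this
    obtain ⟨j, hj⟩ := hU d
    have : d = 1 := orderOf_eq_one_iff.1 (Nat.eq_one_of_dvd_coprimes (hqp.pow_right j)
      (orderOf_dvd_of_pow_eq_one hdq) (orderOf_dvd_of_pow_eq_one hj))
    rw [hd, inv_mul_eq_one] at this
    rw [MulAut.one_apply]; exact this.symm
  have hfpf : ∀ u : U, u⁻¹ * ee u ∈ Φ → u ∈ Φ := by
    intro u hu
    let D' : U ⧸ Φ →* U ⧸ Φ := QuotientGroup.lift Φ D hΦD
    have hs' : Function.Surjective D' := fun w => by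
      obtain ⟨v, hv⟩ := hsurj w
      exact ⟨(v : U ⧸ Φ), hv⟩
    have hi : Function.Injective D' := (Finite.injective_iff_surjective).2 hs'
    refine (QuotientGroup.eq_one_iff u).1 (hi ?_)
    rw [map_one]
    exact (QuotientGroup.eq_one_iff _).2 hu
  haveI : Nontrivial U := by
    rw [Subgroup.nontrivial_iff_ne_bot]
    rintro rfl
    exact hy fun u hu => by simp [mem_bot.1 hu]
  obtain ⟨v₀, hv₀⟩ : ∃ v : U, v ∉ Φ := by
    by_contra! h
    exact CfsgLib.PGroup.frattini_ne_top hU (eq_top_iff.2 fun v _ => h v)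
  -- powers of `y`
  have hyU' : ∀ i : ℕ, y ^ i ∈ U → y ^ i = 1 := fun i hi => by
    obtain ⟨j, hj⟩ := hU ⟨y ^ i, hi⟩
    exact orderOf_eq_one_iff.1 (Nat.eq_one_of_dvd_coprimes (hyp.pow_right j)
      (orderOf_dvd_of_pow_eq_one (by rw [← pow_mul, mul_comm, pow_mul, pow_orderOf_eq_one, one_pow]))
      (orderOf_dvd_of_pow_eq_one (congrArg Subtype.val hj)))
  have hmove : ∀ (i : ℕ) (u : U), y ^ i * u = ((ee ^ i) u : U) * y ^ i := fun i u => by
    rw [heek]; group
  -- the subgroup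
  let M : Submonoid G :=
    { carrier := {g | ∃ (u : U) (i : ℕ), g = u * y ^ i}
      one_mem' := ⟨1, 0, by simp⟩
      mul_mem' := by
        rintro _ _ ⟨u, i, rfl⟩ ⟨v, j, rfl⟩
        refine ⟨u * (ee ^ i) v, i + j, ?_⟩
        rw [Subgroup.coe_mul, mul_assoc (u : G) (y ^ i), ← mul_assoc (y ^ i), hmove, pow_add]
        simp [mul_assoc] }
  have hMpow : ∀ g ∈ M, g⁻¹ ∈ M := fun g hg => by
    have h : g⁻¹ = g ^ (orderOf g - 1) := by
      rw [inv_eq_iff_mul_eq_one, ← pow_succ', Nat.sub_add_cancel (orderOf_pos g), pow_orderOf_eq_one]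
    rw [h]; exact M.pow_mem hg _
  let H : Subgroup G := { M with inv_mem' := fun {g} hg => hMpow g hg }
  have hyqi : ∀ (j : ℕ) (u : U), y ^ (q * j) * u = u * y ^ (q * j) := fun j u => by
    rw [pow_mul]; exact (Commute.pow_left (hyq u u.2) j).eq
  have heeq : ∀ j : ℕ, ee ^ (q * j) = 1 := fun j => by rw [pow_mul, heq, one_pow]
  have hΦk : ∀ (i : ℕ) (u : U), u ∈ Φ → (ee ^ i) u ∈ Φ := by
    intro i
    induction i with
    | zero => intro u hu; simpa using hu
    | succ i ih => intro u hu; rw [pow_succ', MulAut.mul_apply]; exact (hΦe _).2 (ih u hu)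
  let N₀ : Submonoid H :=
    { carrier := {h | ∃ (f : U) (j : ℕ), f ∈ Φ ∧ (h : G) = f * y ^ (q * j)}
      one_mem' := ⟨1, 0, Φ.one_mem, by simp⟩
      mul_mem' := by
        rintro a b ⟨f, i, hf, ha⟩ ⟨g, j, hg, hb⟩
        refine ⟨f * g, i + j, Φ.mul_mem hf hg, ?_⟩
        rw [Subgroup.coe_mul, ha, hb, mul_add, pow_add, Subgroup.coe_mul, mul_assoc (f : G),
          ← mul_assoc (y ^ (q * i)), hyqi]
        simp [mul_assoc] }
  let N : Subgroup H :=
    { N₀ with
      inv_mem' := fun {g} hg => by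
        have h : g⁻¹ = g ^ (orderOf g - 1) := by
          rw [inv_eq_iff_mul_eq_one, ← pow_succ', Nat.sub_add_cancel (orderOf_pos g), pow_orderOf_eq_one]
        rw [h]; exact N₀.pow_mem hg _ }
  have hNn : N.Normal := by
    refine ⟨fun n hn g => ?_⟩
    obtain ⟨f, j, hf, hn⟩ := hn
    obtain ⟨u, i, hg⟩ := g.2
    refine ⟨u * (ee ^ i) f * u⁻¹, j, (inferInstance : Φ.Normal).conj_mem _ (hΦk i f hf) u, ?_⟩
    simp only [Subgroup.coe_mul, Subgroup.coe_inv, hn, hg, heek, mul_assoc, mul_inv_rev]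
    have h1 : y ^ (q * j) * ((y ^ i)⁻¹ * (u : G)⁻¹) = (y ^ i)⁻¹ * ((u : G)⁻¹ * y ^ (q * j)) := by
      have := hyqi j u⁻¹
      rw [Subgroup.coe_inv] at this
      rw [← this, ← mul_assoc, ← mul_assoc, ((Commute.pow_pow_self y (q * j) i).inv_right).eq]
    rw [h1]
  refine ⟨H, N, hNn, ?_⟩
  let ι : U →* H := MonoidHom.mk' (fun u => ⟨u, u, 0, by simp⟩) (fun u v => rfl)
  let ty : H := ⟨y, 1, 1, by simp⟩
  set π := QuotientGroup.mk' N
  set W := (π.comp ι).range with hW
  have hrep : ∀ z : H ⧸ N, ∃ (u : U) (i : ℕ), z = π (ι u * ty ^ i) := fun z => by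
    obtain ⟨h, rfl⟩ := QuotientGroup.mk'_surjective N z
    obtain ⟨u, i, hh⟩ := h.2
    exact ⟨u, i, congrArg π (Subtype.ext (by rw [hh]; simp [ι, ty]))⟩
  have hιN : ∀ u : U, ι u ∈ N → u ∈ Φ := by
    rintro u ⟨f, j, hf, h⟩
    have h' : (u : G) = f * y ^ (q * j) := h
    have h1 : y ^ (q * j) = 1 := hyU' _ (by
      rw [show y ^ (q * j) = (f : G)⁻¹ * u by rw [h']; group]; exact U.mul_mem (U.inv_mem f.2) u.2)
    rw [h1, mul_one] at h'
    exact (Subtype.ext h' : u = f) ▸ hf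
  have htN : ∀ (u : U) (i : ℕ), ι u * ty ^ i ∈ N → ee ^ i = 1 := by
    rintro u i ⟨f, j, hf, h⟩
    have h' : (u : G) * y ^ i = f * y ^ (q * j) := by simpa [ι, ty] using h
    refine MulEquiv.ext fun v => Subtype.ext ?_
    rw [heek, MulAut.one_apply, mul_inv_eq_iff_eq_mul]
    -- `y ^ i` agrees with `y ^ (q * j)`
    have h2 : y ^ i = ((u⁻¹ * f : U) : G) * y ^ (q * j) := by
      rw [Subgroup.coe_mul, Subgroup.coe_inv, mul_assoc, ← h', inv_mul_cancel_left]
    have h3 : ((u⁻¹ * f : U) : G) = 1 := by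
      obtain ⟨e, he⟩ := hU (u⁻¹ * f)
      have h4 : ((u⁻¹ * f : U) : G) = y ^ i * (y ^ (q * j))⁻¹ := by rw [h2, mul_inv_cancel_right]
      refine orderOf_eq_one_iff.1 (Nat.eq_one_of_dvd_coprimes (hyp.pow_right e)
        (orderOf_dvd_of_pow_eq_one ?_) (orderOf_dvd_of_pow_eq_one (congrArg Subtype.val he)))
      rw [h4, ((Commute.pow_pow_self y i (q * j)).inv_right).mul_pow, inv_pow, ← pow_mul, ← pow_mul,
        mul_comm i, mul_comm (q * j), pow_mul, pow_mul, pow_orderOf_eq_one, one_pow, one_pow, inv_one, mul_one]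
    rw [h2, h3, one_mul, hyqi]
  have hee1 : ∀ i : ℕ, ¬ q ∣ i → ∀ v : U, v⁻¹ * (ee ^ i) v ∈ Φ → v ∈ Φ := by
    intro i hi v hv
    obtain ⟨m, hm⟩ := Nat.exists_mul_mod_eq_one_of_coprime ((hq.out.coprime_iff_not_dvd).2 hi).symm hq.out.one_lt
    have key : ∀ k : ℕ, v⁻¹ * (ee ^ (i * k)) v ∈ Φ := by
      intro k
      induction k with
      | zero => simp
      | succ k ih =>
        have h1 := hΦk i _ ih
        rw [map_mul, map_inv] at h1
        have h2 := Φ.mul_mem hv h1
        rw [show v⁻¹ * (ee ^ i) v * (((ee ^ i) v)⁻¹ * (ee ^ i) ((ee ^ (i * k)) v)) = v⁻¹ * (ee ^ i) ((ee ^ (i * k)) v) by group] at h2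
        rwa [Nat.mul_succ, add_comm, pow_add, MulAut.mul_apply]
    refine hfpf v ?_
    have := key m
    rwa [← Nat.div_add_mod (i * m) q, pow_add, heeq, one_mul, hm.2, pow_one] at this
  have hWmem : ∀ u : U, π (ι u) ∈ W := fun u => ⟨u, rfl⟩
  -- elements commuting with a point of `W`
  have hcent : ∀ (u : U) (i : ℕ) (v : U), π (ι u * ty ^ i) * π (ι v) = π (ι v) * π (ι u * ty ^ i) →
      v⁻¹ * (ee ^ i) v ∈ Φ := by
    intro u i v h
    rw [← map_mul, ← map_mul] at h
    have h1 := QuotientGroup.eq.1 h.symm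
    set w : U := v⁻¹ * (u * (ee ^ i) v * u⁻¹)
    have h2 : ((ι v * (ι u * ty ^ i))⁻¹ * (ι u * ty ^ i * ι v) : H) = (ι u * ty ^ i)⁻¹ * ι w * (ι u * ty ^ i) := by
      refine Subtype.ext ?_
      simp only [w, ι, ty, MonoidHom.mk'_apply, Subgroup.coe_mul, Subgroup.coe_inv, SubmonoidClass.coe_pow, heek]
      group
    rw [h2] at h1
    have h3 := hNn.conj_mem _ h1 (ι u * ty ^ i)
    rw [show ι u * ty ^ i * ((ι u * ty ^ i)⁻¹ * ι w * (ι u * ty ^ i)) * (ι u * ty ^ i)⁻¹ = ι w by group] at h3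
    have h4 := hιN w h3
    refine (QuotientGroup.eq_one_iff _).1 ?_
    have h5 : (w : U ⧸ Φ) = 1 := (QuotientGroup.eq_one_iff _).2 h4
    simp only [w, QuotientGroup.mk_mul, QuotientGroup.mk_inv] at h5 ⊢
    rwa [hcomm (u : U ⧸ Φ) _, mul_inv_cancel_right] at h5
  have hWp : IsPGroup p W := by
    rintro ⟨_, u, rfl⟩
    obtain ⟨j, hj⟩ := hU u
    exact ⟨j, Subtype.ext (by rw [SubmonoidClass.coe_pow, ← map_pow, hj, map_one, Subgroup.coe_one])⟩
  have hdvdW : ∀ (u : U) (i : ℕ), q ∣ i → π (ι u * ty ^ i) ∈ W := by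
    rintro u i ⟨j, rfl⟩
    refine ⟨u, ?_⟩
    have : ty ^ (q * j) ∈ N := ⟨1, j, Φ.one_mem, by simp [ty]⟩
    rw [map_mul, show π (ty ^ (q * j)) = 1 from (QuotientGroup.eq_one_iff _).2 this, mul_one]
    rfl
  constructor
  · refine eq_bot_iff.2 fun z hz => ?_
    set K := Cfsg.pPrimeCore p (H ⧸ N)
    haveI : K.Normal := by infer_instance
    have hKW : ∀ (v : U), z * π (ι v) = π (ι v) * z := by
      intro v
      have hWn : W.Normal := by
        refine ⟨?_⟩
        rintro _ ⟨u, rfl⟩ g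
        obtain ⟨u', i, rfl⟩ := hrep g
        refine ⟨u' * (ee ^ i) u * u'⁻¹, ?_⟩
        show π (ι _) = π _ * π (ι u) * (π _)⁻¹
        rw [← map_mul, ← map_inv, ← map_mul]
        congr 1
        refine Subtype.ext ?_
        simp only [ι, ty, MonoidHom.mk'_apply, Subgroup.coe_mul, Subgroup.coe_inv, SubmonoidClass.coe_pow, heek]
        group
      refine Subgroup.commute_of_normal_of_disjoint K W inferInstance hWn ?_ z _ hz (hWmem v)
      obtain ⟨e, he⟩ := IsPGroup.iff_card.1 hWp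
      exact disjoint_iff.2 (inf_eq_bot_of_coprime (he ▸ (CfsgLib.Cores.coprime_card_pPrimeCore p).pow_right e))
    obtain ⟨u, i, rfl⟩ := hrep z
    by_cases hi : q ∣ i
    · obtain ⟨e, he⟩ := IsPGroup.iff_card.1 hWp
      exact (inf_eq_bot_of_coprime (he ▸ (CfsgLib.Cores.coprime_card_pPrimeCore p).pow_right e)).le
        ⟨hz, hdvdW u i hi⟩
    · exact absurd (hee1 i hi v₀ (hcent u i v₀ (hKW v₀))) hv₀
  · intro k hk
    have hdq : q ∣ orderOf k := by
      have h : orderOf (π ty) = q := orderOf_eq_prime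
        (by rw [← map_pow]; exact (QuotientGroup.eq_one_iff _).2 ⟨1, 1, Φ.one_mem, by simp [ty]⟩)
        (fun h => hne (by simpa using htN 1 1 (by simpa using (QuotientGroup.eq_one_iff _).1 h)))
      exact hk ▸ h ▸ Monoid.order_dvd_exponent _
    have hdp : p ∣ orderOf k := by
      have h : orderOf (π (ι v₀)) = p := orderOf_eq_prime
        (by
          rw [← map_pow, ← map_pow]
          refine (QuotientGroup.eq_one_iff _).2 ⟨v₀ ^ p, 0, CfsgLib.PGroup.pow_mem_frattini hU v₀, ?_⟩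
          simp [ι])
        (fun h => hv₀ (hιN _ ((QuotientGroup.eq_one_iff _).1 h)))
      exact hk ▸ h ▸ Monoid.order_dvd_exponent _
    set s := k ^ (orderOf k / q)
    set w := k ^ (orderOf k / p)
    have hs : orderOf s = q := orderOf_pow_orderOf_div (orderOf_pos k).ne' hdq
    have hw : orderOf w = p := orderOf_pow_orderOf_div (orderOf_pos k).ne' hdp
    obtain ⟨u, i, hsr⟩ := hrep s
    obtain ⟨v, l, hwr⟩ := hrep w
    have hi : ¬ q ∣ i := fun h => by
      obtain ⟨j, hj⟩ := hWp ⟨s, hsr ▸ hdvdW u i h⟩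
      have := orderOf_dvd_of_pow_eq_one (congrArg Subtype.val hj : s ^ p ^ j = 1)
      rw [hs] at this
      exact hpq ((Nat.prime_dvd_prime_iff_eq hq.out hp.out).1 (hq.out.dvd_of_dvd_pow this))
    have hl : q ∣ l := by
      by_contra hl
      -- compare with the action
      have hpl : ¬ q ∣ l * p := fun h => (hq.out.dvd_mul.1 h).elim hl fun h => hpq ((Nat.prime_dvd_prime_iff_eq hq.out hp.out).1 h)
      have hpow : ∀ n : ℕ, ∃ v' : U, (ι v * ty ^ l) ^ n = ι v' * ty ^ (l * n) := by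
        intro n
        induction n with
        | zero => exact ⟨1, by simp⟩
        | succ n ih =>
          obtain ⟨v', hv'⟩ := ih
          refine ⟨v' * (ee ^ (l * n)) v, Subtype.ext ?_⟩
          rw [pow_succ, hv']
          simp only [ι, ty, MonoidHom.mk'_apply, Subgroup.coe_mul, SubmonoidClass.coe_pow, heek, Nat.mul_succ]
          group
      obtain ⟨v', hv'⟩ := hpow p
      have h1 : ι v' * ty ^ (l * p) ∈ N := by
        rw [← hv', ← QuotientGroup.eq_one_iff]
        show π ((ι v * ty ^ l) ^ p) = 1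
        rw [map_pow, ← hwr, ← hw, pow_orderOf_eq_one]
      exact hv₀ (hee1 _ hpl v₀ (by rw [htN _ _ h1, MulAut.one_apply, inv_mul_cancel]; exact Φ.one_mem))
    obtain ⟨v', hv'⟩ : w ∈ W := hwr ▸ hdvdW v l hl
    have hc : π (ι u * ty ^ i) * π (ι v') = π (ι v') * π (ι u * ty ^ i) := by
      rw [← hsr, show π (ι v') = w from hv']
      exact ((Commute.refl k).pow_pow _ _).eq
    have : π (ι v') = 1 := (QuotientGroup.eq_one_iff _).2 (by
      have := hee1 i hi v' (hcent u i v' hc)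
      exact ⟨v', 0, this, by simp [ι]⟩)
    rw [show π (ι v') = w from hv'] at this
    rw [this, orderOf_one] at hw
    exact hp.out.ne_one hw.symm


/-- Let G be a finite group and p a prime. Then G has a normal p-complement if and only if every section K = H/N of G (N a normal subgroup of a subgroup H) whose largest normal subgroup of order prime to p is trivial contains an element whose order equals the exponent of K. -/
theorem result {G : Type*} [Group G] [Finite G] (p : ℕ) [Fact p.Prime] :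
    Cfsg.HasNormalPComplement p G ↔
      ∀ (H : Subgroup G) (N : Subgroup H) [N.Normal], Cfsg.pPrimeCore p (H ⧸ N) = ⊥ →
        ∃ k : H ⧸ N, orderOf k = Monoid.exponent (H ⧸ N) := by
  constructor
  · intro h H N _ hK
    have hK' : HasNormalPComplement p (H ⧸ N) := CfsgLib.Transfer.hasNormalPComplement_of_surjective
      (QuotientGroup.mk' N) (QuotientGroup.mk'_surjective N) (CfsgLib.Transfer.hasNormalPComplement_subgroup h H)
    obtain ⟨M, hM, hc, e, he⟩ := CfsgLib.Transfer.hasNormalPComplement_iff.1 hK'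
    haveI := hM
    have hMb : M = ⊥ := eq_bot_iff.2 (hK ▸ CfsgLib.Cores.le_pPrimeCore hc)
    rw [hMb, Subgroup.index_bot] at he
    have hexp : Monoid.exponent (H ⧸ N) = p ^ (Monoid.exponent (H ⧸ N)).factorization p := by
      obtain ⟨k, -, hk⟩ := (Nat.dvd_prime_pow (Fact.out : p.Prime)).1 (he ▸ Group.exponent_dvd_nat_card)
      rw [hk, Nat.Prime.factorization_pow (Fact.out : p.Prime), Finsupp.single_eq_same]
    obtain ⟨k, hk⟩ := Nat.Prime.exists_orderOf_eq_pow_factorization_exponent (G := H ⧸ N) (Fact.out : p.Prime)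
    exact ⟨k, hk.trans hexp.symm⟩
  · intro h
    by_contra hn
    have hF : ¬ CfsgLib.Transfer.FrobeniusCond p G := fun hF => hn (CfsgLib.Transfer.hasNormalPComplement_of_frobeniusCond hF)
    classical
    have hex : ∃ n, ∃ U : Subgroup G, Nat.card U = n ∧ IsPGroup p U ∧ ∃ g ∈ Subgroup.normalizer (U : Set G),
        (orderOf g).Coprime p ∧ ¬ ∀ u ∈ U, g * u = u * g := by
      simp only [CfsgLib.Transfer.FrobeniusCond, not_forall] at hF
      obtain ⟨U, hU, g, hg, hgo, hgc⟩ := hF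
      exact ⟨_, U, rfl, hU, g, hg, hgo, fun hc => hgc (Subgroup.mem_centralizer_iff.2 fun u hu => (hc u hu).symm)⟩
    obtain ⟨U, hUc, hU, g, hg, hgo, hgc⟩ := Nat.find_spec hex
    have hr : ∃ r, 0 < r ∧ ∀ u ∈ U, g ^ r * u = u * g ^ r :=
      ⟨orderOf g, orderOf_pos g, fun u _ => by rw [pow_orderOf_eq_one, one_mul, mul_one]⟩
    obtain ⟨hr0, hrc⟩ := Nat.find_spec hr
    have hr1 : Nat.find hr ≠ 1 := fun h1 => hgc fun u hu => by simpa [h1] using hrc u hu
    obtain ⟨q, hq, ⟨m, hm⟩⟩ := Nat.exists_prime_and_dvd hr1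
    have hrdvd : Nat.find hr ∣ orderOf g := by
      rw [Nat.dvd_iff_mod_eq_zero]
      by_contra h0
      refine Nat.find_min hr (Nat.mod_lt _ hr0) ⟨Nat.pos_of_ne_zero h0, fun u hu => ?_⟩
      have hc : Commute (g ^ orderOf g) u := by rw [pow_orderOf_eq_one]; exact Commute.one_left u
      rw [← Nat.mod_add_div (orderOf g) (Nat.find hr), pow_add] at hc
      have hd : Commute (g ^ (Nat.find hr * (orderOf g / Nat.find hr))) u := by
        rw [pow_mul]; exact Commute.pow_left (hrc u hu) _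
      have := hc.mul_left hd.inv_left
      rw [mul_inv_cancel_right] at this
      exact this
    haveI : Fact q.Prime := ⟨hq⟩
    have hm0 : 0 < m := by
      rcases Nat.eq_zero_or_pos m with rfl | h
      · rw [mul_zero] at hm; omega
      · exact h
    have hpq : q ≠ p := fun e => hq.ne_one (Nat.eq_one_of_dvd_coprimes hgo
      ((hm ▸ dvd_mul_right q m).trans hrdvd) (e ▸ dvd_rfl))
    obtain ⟨H, N, hNn, hbot, hno⟩ := bad_section (q := q) hpq U hU (g ^ m)
      (hgo.coprime_dvd_left (orderOf_pow_dvd m))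
      (Subgroup.pow_mem _ hg m)
      (fun u hu => by rw [← pow_mul, mul_comm, ← hm]; exact hrc u hu)
      (fun hc => Nat.find_min hr (show m < Nat.find hr by rw [hm]; exact lt_mul_of_one_lt_left hm0 hq.one_lt) ⟨hm0, hc⟩)
      (fun V hV hinv v hv => by
        by_contra hne
        have hlt : Nat.card V < Nat.find hex := hUc ▸ (Set.Finite.card_lt_card (Set.toFinite _) hV)
        refine Nat.find_min hex hlt ⟨V, rfl, hU.to_le hV.le, g ^ m, ?_, hgo.coprime_dvd_left (orderOf_pow_dvd m), fun hc => hne (hc v hv)⟩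
        refine Subgroup.mem_normalizer_iff.2 fun x => ⟨hinv x, fun hx => ?_⟩
        have key : ∀ k : ℕ, ∀ z ∈ V, (g ^ m) ^ k * z * ((g ^ m) ^ k)⁻¹ ∈ V := by
          intro k
          induction k with
          | zero => intro z hz; simpa using hz
          | succ k ih =>
            intro z hz
            have := hinv _ (ih z hz)
            rw [pow_succ']; simpa [mul_assoc] using this
        have := key (orderOf (g ^ m) - 1) _ hx
        rw [← inv_eq_iff_mul_eq_one.2 (show g ^ m * (g ^ m) ^ (orderOf (g ^ m) - 1) = 1 by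
          rw [← pow_succ', Nat.sub_add_cancel (orderOf_pos _), pow_orderOf_eq_one])] at this
        simpa [mul_assoc] using this)
    obtain ⟨k, hk⟩ := h H N hbot
    exact hno k hk

end Cfsg.Agent.S4238
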