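import Cfsg.Statements.S4244

set_option autoImplicit false
open Cfsg

namespace Cfsg.Agent.S4244

theorem relIndex_dvd_index {G : Type*} [Group G] [Finite G] (N H : Subgroup G) [N.Normal] :
    H.relIndex N ∣ H.index := by
  have e1 : N.relIndex H = (H ⊓ N).relIndex H := by rw [Subgroup.inf_relIndex_left]
  have e3 := Subgroup.relIndex_mul_relIndex (H ⊓ N) H (H ⊔ N) inf_le_left le_sup_left
  have e4 := Subgroup.relIndex_mul_relIndex (H ⊓ N) N (H ⊔ N) inf_le_right le_sup_right
  have e5 : N.relIndex (H ⊔ N) = N.relIndex H := by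
    rw [sup_comm]; exact Subgroup.relIndex_sup_left H N
  have e6 : H.relIndex N = H.relIndex (H ⊔ N) := by
    have h7 : N.relIndex H ≠ 0 := Subgroup.index_ne_zero_of_finite
    rw [← e4, e5, Subgroup.inf_relIndex_right, ← e1, mul_comm (N.relIndex H)] at e3
    exact (Nat.eq_of_mul_eq_mul_right (Nat.pos_of_ne_zero h7) e3).symm
  rw [e6]
  exact ⟨_, (Subgroup.relIndex_mul_index le_sup_left).symm⟩


/-- Let H be a subnormal subgroup of a finite group G. Then for every subgroup K of G the index of H ∩ K in H divides the index of K in G. -/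
theorem result {G : Type*} [Group G] [Finite G] (H : Subgroup G) (hH : H.IsSubnormal) (K : Subgroup G) :
    (H ⊓ K).relIndex H ∣ K.index := by
  induction hH generalizing K with
  | top => rw [top_inf_eq, Subgroup.relIndex_top_right]
  | step A B h_le _ hN ih =>
    refine dvd_trans ?_ (ih K)
    rw [Subgroup.inf_relIndex_left, Subgroup.inf_relIndex_left]
    have hAn : (A.subgroupOf B).Normal := hN
    have e : K.relIndex A = (K.subgroupOf B).relIndex (A.subgroupOf B) := (Subgroup.relIndex_subgroupOf h_le).symm
    rw [e]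
    exact relIndex_dvd_index (A.subgroupOf B) (K.subgroupOf B)

end Cfsg.Agent.S4244
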