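import Cfsg.Statements.S4245
import Cfsg.Agent.Lib.Char.PrimePowerClass
import Cfsg.Agent.Lib.Invol.Quaternion

set_option autoImplicit false
open Cfsg

namespace Cfsg.Agent.S4245
open Subgroup
open CfsgLib.PrimePowerClass

theorem core {G : Type*} [Group G] [Finite G]
    (hrad : ∀ N : Subgroup G, N.Normal → Group.IsSolvable N → N = ⊥)
    (A B : Subgroup G) (hBA : B ≤ A) (hBn : A ≤ normalizer (B : Set G)) (hB : IsCyclic B)
    (a : G) (ha : a ∈ A) (hAa : A ≤ B ⊔ zpowers a) (r : ℕ) (har : a ^ (2 ^ r) ∈ B)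
    (p s : ℕ) (hp : p.Prime) (hA : A.index = p ^ s) : IsPGroup p G := by
  haveI := Fact.mk hp
  haveI : Fact (Nat.Prime 2) := ⟨Nat.prime_two⟩
  obtain ⟨R, hRn, hRs, hR⟩ := exists_radical G
  have hkill : ∀ x : G, (∃ k, (centralizer ({x} : Set G)).index = p ^ k) → x = 1 := fun x hx => by
    have h := mem_radical hp x hx R hRs hR
    rwa [hrad R hRn hRs, mem_bot] at h
  have hkillA : ∀ x : G, A ≤ centralizer ({x} : Set G) → x = 1 := fun x hx => by
    obtain ⟨k, -, hk⟩ := (Nat.dvd_prime_pow hp).1 (hA ▸ index_dvd_of_le hx)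
    exact hkill x ⟨k, hk⟩
  -- once `B` is trivial, so is `A`
  have hfin : B = ⊥ → IsPGroup p G := by
    intro hb
    rw [hb, bot_sup_eq] at hAa
    have ha1 : a = 1 := hkillA a fun g hg => by
      obtain ⟨i, rfl⟩ := mem_zpowers_iff.1 (hAa hg)
      exact mem_centralizer_singleton_iff.2 ((Commute.refl a).zpow_left i).eq
    have hAb : A = ⊥ := le_bot_iff.1 (hAa.trans (by rw [ha1, zpowers_one_eq_bot]))
    rw [hAb, index_bot] at hA
    exact IsPGroup.of_card hA
  obtain ⟨b, hb⟩ := isCyclic_iff_exists_zpowers_eq_top.1 hB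
  have hBb : B = zpowers (b : G) := by
    rw [← B.coe_subtype, ← MonoidHom.map_zpowers, hb, ← MonoidHom.range_eq_map, range_subtype]
  have hBC : B ≤ centralizer ({(b : G)} : Set G) :=
    hBb.le.trans (zpowers_le.2 (mem_centralizer_singleton_iff.2 rfl))
  -- `B` has odd order
  have hBodd : ¬ 2 ∣ Nat.card B := by
    intro h2
    obtain ⟨z, hz⟩ := exists_prime_orderOf_dvd_card' 2 h2
    refine absurd (hkillA (z : G) fun g hg => mem_centralizer_singleton_iff.2 ?_) (fun h => by
      rw [← orderOf_coe, h, orderOf_one] at hz; omega)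
    have hmem : g * (z : G) * g⁻¹ ∈ B := (mem_normalizer_iff.1 (hBn hg) _).1 z.2
    have ho : orderOf (⟨_, hmem⟩ : B) = 2 := by
      rw [← orderOf_coe]
      show orderOf (g * (z : G) * g⁻¹) = 2
      rw [← hz, ← orderOf_coe z]
      exact orderOf_injective (MulAut.conj g).toMonoidHom (MulAut.conj g).injective _
    haveI := hB
    classical
    haveI := Fintype.ofFinite B
    have heq : (⟨_, hmem⟩ : B) = z := by
      by_contra hne
      have h1 := IsCyclic.card_pow_eq_one_le (α := B) (n := 2) (by norm_num)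
      have hsub : ({1, z, ⟨_, hmem⟩} : Finset B) ⊆ Finset.univ.filter (fun u : B => u ^ 2 = 1) := by
        intro u hu
        simp only [Finset.mem_insert, Finset.mem_singleton] at hu
        refine Finset.mem_filter.2 ⟨Finset.mem_univ _, ?_⟩
        rcases hu with rfl | rfl | rfl
        · exact one_pow 2
        · rw [← hz]; exact pow_orderOf_eq_one _
        · rw [← ho]; exact pow_orderOf_eq_one _
      have h3 := Finset.card_le_card hsub
      have e1 : z ≠ 1 := fun h => by rw [h, orderOf_one] at hz; omega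
      have e2 : (⟨_, hmem⟩ : B) ≠ 1 := fun h => by rw [h, orderOf_one] at ho; omega
      rw [Finset.card_insert_of_notMem (by simp [e1.symm, e2.symm]),
        Finset.card_insert_of_notMem (by simp [Ne.symm hne]), Finset.card_singleton] at h3
      omega
    exact mul_inv_eq_iff_eq_mul.1 (congrArg Subtype.val heq)
  have hBA2 : ∃ i, B.relIndex A = 2 ^ i := by
    haveI : (B.subgroupOf A).Normal := normal_subgroupOf_of_le_normalizer hBn
    have hgen : ∀ y : A ⧸ B.subgroupOf A, ∃ i : ℤ, (QuotientGroup.mk' _ ⟨a, ha⟩) ^ i = y := by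
      intro y
      obtain ⟨⟨g, hg⟩, rfl⟩ := QuotientGroup.mk'_surjective _ y
      obtain ⟨c, hc, z, hz, he⟩ := CfsgLib.Solvable.exists_mul_of_mem_sup
        ((zpowers_le.2 (hBn ha))) (hAa hg)
      obtain ⟨i, rfl⟩ := mem_zpowers_iff.1 hz
      refine ⟨i, ?_⟩
      rw [show (⟨g, hg⟩ : A) = ⟨c, hBA hc⟩ * ⟨a, ha⟩ ^ i from Subtype.ext (by
        rw [coe_mul, coe_zpow]; exact he), map_mul,
        show QuotientGroup.mk' (B.subgroupOf A) ⟨c, hBA hc⟩ = 1 from (QuotientGroup.eq_one_iff _).2 hc,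
        one_mul, map_zpow]
    have hpg : IsPGroup 2 (A ⧸ B.subgroupOf A) := fun y => by
      obtain ⟨i, rfl⟩ := hgen y
      refine ⟨r, ?_⟩
      rw [← zpow_natCast, ← zpow_mul, mul_comm, zpow_mul, zpow_natCast, ← map_pow,
        show QuotientGroup.mk' (B.subgroupOf A) (⟨a, ha⟩ ^ (2 ^ r)) = 1 from (QuotientGroup.eq_one_iff _).2
          (by rw [mem_subgroupOf, SubgroupClass.coe_pow]; exact har), one_zpow]
    obtain ⟨i, hi⟩ := IsPGroup.iff_card.1 hpg
    exact ⟨i, hi⟩
  obtain ⟨i, hi⟩ := hBA2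
  have hCb : (centralizer ({(b : G)} : Set G)).index ∣ 2 ^ i * p ^ s := by
    rw [← hi, ← hA, relIndex_mul_index hBA]
    exact index_dvd_of_le hBC
  by_cases hp2 : p = 2
  · refine hfin ?_
    rw [hp2, ← pow_add] at hCb
    obtain ⟨k, -, hk⟩ := (Nat.dvd_prime_pow Nat.prime_two).1 hCb
    rw [hBb, zpowers_eq_bot]
    exact hkill _ ⟨k, by rw [hk, hp2]⟩
  -- a Sylow `2`-subgroup is cyclic
  obtain ⟨S⟩ : Nonempty (Sylow 2 A) := inferInstance
  obtain ⟨P, hP⟩ := (S.2.map A.subtype).exists_le_sylow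
  have hPS : (S : Subgroup A).map A.subtype = (P : Subgroup G) := by
    refine Subgroup.eq_of_le_of_card_ge hP ?_
    rw [card_map_of_injective A.subtype_injective, Sylow.card_eq_multiplicity,
      Sylow.card_eq_multiplicity, ← A.card_mul_index,
      Nat.factorization_mul Nat.card_pos.ne' index_ne_zero_of_finite, Finsupp.coe_add, Pi.add_apply, hA,
      hp.factorization_pow, Finsupp.single_eq_of_ne (Ne.symm hp2), add_zero]
  have hPc : IsCyclic (P : Subgroup G) := by
    haveI : (B.subgroupOf A).Normal := normal_subgroupOf_of_le_normalizer hBn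
    have hSc : IsCyclic (S : Subgroup A) := by
      haveI : IsCyclic (A ⧸ B.subgroupOf A) := ⟨⟨QuotientGroup.mk' _ ⟨a, ha⟩, fun y => by
        obtain ⟨⟨g, hg⟩, rfl⟩ := QuotientGroup.mk'_surjective _ y
        obtain ⟨c, hc, z, hz, he⟩ := CfsgLib.Solvable.exists_mul_of_mem_sup
          ((zpowers_le.2 (hBn ha))) (hAa hg)
        obtain ⟨j, rfl⟩ := mem_zpowers_iff.1 hz
        refine mem_zpowers_iff.2 ⟨j, ?_⟩
        rw [show (⟨g, hg⟩ : A) = ⟨c, hBA hc⟩ * ⟨a, ha⟩ ^ j from Subtype.ext (by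
          rw [coe_mul, coe_zpow]; exact he), map_mul,
          show QuotientGroup.mk' (B.subgroupOf A) ⟨c, hBA hc⟩ = 1 from (QuotientGroup.eq_one_iff _).2 hc,
          one_mul, map_zpow]⟩⟩
      refine isCyclic_of_injective ((QuotientGroup.mk' (B.subgroupOf A)).comp (S : Subgroup A).subtype) ?_
      rw [← MonoidHom.ker_eq_bot_iff, eq_bot_iff]
      intro u hu
      rw [MonoidHom.mem_ker, MonoidHom.comp_apply, QuotientGroup.mk'_apply, QuotientGroup.eq_one_iff,
        mem_subgroupOf] at hu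
      obtain ⟨k, hk⟩ := IsPGroup.iff_orderOf.1 S.2 u
      have h1 : orderOf u ∣ Nat.card B := by
        rw [← orderOf_coe u, ← orderOf_coe ((u : A))]
        exact orderOf_dvd_natCard B hu
      rw [hk] at h1
      have : k = 0 := by
        by_contra h0
        exact hBodd ((dvd_pow_self 2 h0).trans h1)
      rw [mem_bot, ← orderOf_eq_one_iff, hk, this, pow_zero]
    rw [← hPS]
    exact (((S : Subgroup A).equivMapOfInjective A.subtype A.subtype_injective)).isCyclic.1 hSc
  by_cases heven : Even (Nat.card G)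
  swap
  · refine hfin ?_
    have hodd : ¬ 2 ∣ (centralizer ({(b : G)} : Set G)).index := fun h =>
      heven (even_iff_two_dvd.2 (h.trans (index_dvd_card _)))
    obtain ⟨k, -, hk⟩ := (Nat.dvd_prime_pow hp).1
      ((Nat.Coprime.pow_right i (Nat.prime_two.coprime_iff_not_dvd.2 hodd).symm).dvd_of_dvd_mul_left hCb)
    rw [hBb, zpowers_eq_bot]
    exact hkill _ ⟨k, hk⟩
  obtain ⟨ψ, -, hψ⟩ := CfsgLib.Invol.exists_retraction_of_cyclic_sylow_two P hPc heven
  set K := ψ.ker
  refine hfin ?_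
  have hbK : (b : G) ∈ K := by
    rw [MonoidHom.mem_ker, hψ, ← Nat.not_even_iff_odd, even_iff_two_dvd]
    exact fun h => hBodd (h.trans (by rw [orderOf_coe]; exact orderOf_dvd_natCard b))
  have hKodd : ¬ 2 ∣ Nat.card K := fun h => by
    obtain ⟨z, hz⟩ := exists_prime_orderOf_dvd_card' 2 h
    have h1 := (hψ (z : G)).1 z.2
    rw [orderOf_coe, hz] at h1
    exact absurd h1 (by decide)
  have hidxK : ∃ k, (centralizer ({(⟨b, hbK⟩ : K)} : Set K)).index = p ^ k := by
    have hC : centralizer ({(⟨b, hbK⟩ : K)} : Set K) = (centralizer ({(b : G)} : Set G)).subgroupOf K := by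
      ext g
      rw [mem_subgroupOf, mem_centralizer_singleton_iff, mem_centralizer_singleton_iff]
      exact ⟨fun h => congrArg Subtype.val h, fun h => Subtype.ext h⟩
    have h1 : (centralizer ({(⟨b, hbK⟩ : K)} : Set K)).index ∣ 2 ^ i * p ^ s := by
      refine dvd_trans ?_ hCb
      rw [hC]
      show (centralizer ({(b : G)} : Set G)).relIndex K ∣ _
      rw [← CfsgLib.PGroup.relIndex_normalizing_sup (le_normalizer_of_normal (H := K))]
      exact ⟨_, (relIndex_mul_index le_sup_right).symm⟩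
    have hodd : ¬ 2 ∣ (centralizer ({(⟨b, hbK⟩ : K)} : Set K)).index :=
      fun h => hKodd (h.trans (index_dvd_card _))
    obtain ⟨k, -, hk⟩ := (Nat.dvd_prime_pow hp).1
      ((Nat.Coprime.pow_right i (Nat.prime_two.coprime_iff_not_dvd.2 hodd).symm).dvd_of_dvd_mul_left h1)
    exact ⟨k, hk⟩
  obtain ⟨RK, hRKn, hRKs, hRK⟩ := exists_radical K
  haveI := hRKn
  haveI : RK.Characteristic := characteristic_iff_map_le.2 fun e => by
    haveI : (RK.map e.toMonoidHom).Normal := hRKn.map _ e.surjective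
    haveI := hRKs
    exact hRK _ inferInstance (Group.isSolvable_of_surjective (f := e.toMonoidHom.subgroupMap RK)
      (e.toMonoidHom.subgroupMap_surjective RK))
  haveI : (RK.map K.subtype).Normal := ConjAct.normal_of_characteristic_of_normal
  have h0 := hrad _ inferInstance (by
    haveI := hRKs
    exact Group.isSolvable_of_surjective (f := K.subtype.subgroupMap RK)
      (K.subtype.subgroupMap_surjective RK))
  have hb1 : (b : G) ∈ RK.map K.subtype := ⟨⟨b, hbK⟩, mem_radical hp _ hidxK RK hRKs hRK, rfl⟩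
  rw [h0, mem_bot] at hb1
  rw [hBb, hb1, zpowers_one_eq_bot]

/-- Let G be a finite group with a subgroup A of prime-power index. Suppose A has a normal cyclic subgroup B such that A/B is cyclic of order a power of 2. Then G is solvable. -/
theorem result {G : Type*} [Group G] [Finite G] (A : Subgroup G) (p s : ℕ) (hp : p.Prime) (hA : A.index = p ^ s)
    (B : Subgroup A) [B.Normal] (hB : IsCyclic B) (hAB : IsCyclic (A ⧸ B)) (r : ℕ) (hr : Nat.card (A ⧸ B) = 2 ^ r) :
    Group.IsSolvable G := by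
  obtain ⟨R, hRn, hRs, hR⟩ := CfsgLib.PrimePowerClass.exists_radical G
  haveI := hRn
  set π := QuotientGroup.mk' R
  haveI hp' := Fact.mk hp
  obtain ⟨a, ha⟩ := isCyclic_iff_exists_zpowers_eq_top.1 hAB
  obtain ⟨a, rfl⟩ := QuotientGroup.mk'_surjective B a
  obtain ⟨t, -, ht⟩ := (Nat.dvd_prime_pow hp).1
    (hA ▸ Subgroup.index_map_dvd A (QuotientGroup.mk'_surjective R))
  have hpg : IsPGroup p (G ⧸ R) := by
    refine core (fun N hN hNs => ?_) (A.map π) ((B.map A.subtype).map π) (Subgroup.map_mono (Subgroup.map_subtype_le B))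
      ?_ ?_ (π a) ⟨a, a.2, rfl⟩ ?_ r ?_ p t hp ht
    · haveI := hN; haveI := hNs
      have h1 : N.comap π ≤ R := hR _ inferInstance (by
        haveI := hRs
        refine Group.isSolvable_of_ker_le_range (Subgroup.inclusion
          (show R ≤ N.comap π from fun r hr => by
            rw [Subgroup.mem_comap, show π r = 1 from (QuotientGroup.eq_one_iff r).2 hr]; exact one_mem _))
          (π.subgroupComap N) ?_
        intro z hz
        have : π (z : G) = 1 := congrArg Subtype.val hz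
        exact ⟨⟨z, (QuotientGroup.eq_one_iff (z : G)).1 this⟩, rfl⟩)
      rw [← Subgroup.map_comap_eq_self_of_surjective (QuotientGroup.mk'_surjective R) N, eq_bot_iff,
        Subgroup.map_le_iff_le_comap, MonoidHom.comap_bot, QuotientGroup.ker_mk']
      exact h1
    · rintro _ ⟨g, hg, rfl⟩
      refine CfsgLib.Solvable.mem_normalizer_of_conj_mem ?_
      rintro _ ⟨_, ⟨c, hc, rfl⟩, rfl⟩
      exact ⟨_, ⟨⟨g, hg⟩ * c * ⟨g, hg⟩⁻¹, ‹B.Normal›.conj_mem c hc _, rfl⟩, by simp⟩
    · rw [Subgroup.map_map]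
      haveI := hB
      exact isCyclic_of_surjective ((π.comp A.subtype).subgroupMap B) (MonoidHom.subgroupMap_surjective _ _)
    · rintro _ ⟨g, hg, rfl⟩
      have h1 : QuotientGroup.mk' B ⟨g, hg⟩ ∈ Subgroup.zpowers (QuotientGroup.mk' B a) := ha ▸ Subgroup.mem_top _
      obtain ⟨i, hi⟩ := Subgroup.mem_zpowers_iff.1 h1
      rw [← map_zpow] at hi
      have h2 := QuotientGroup.eq.1 hi
      have e : g = (a : G) ^ i * ((((a ^ i)⁻¹ * ⟨g, hg⟩ : A)) : G) := by simp
      rw [e, map_mul, map_zpow]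
      exact mul_mem (Subgroup.mem_sup_right (zpow_mem (Subgroup.mem_zpowers _) i))
        (Subgroup.mem_sup_left ⟨_, ⟨_, h2, rfl⟩, rfl⟩)
    · refine ⟨_, ⟨a ^ (2 ^ r), ?_, rfl⟩, by simp⟩
      rw [SetLike.mem_coe, ← QuotientGroup.eq_one_iff]
      show QuotientGroup.mk' B (a ^ (2 ^ r)) = 1
      rw [map_pow, ← hr, pow_card_eq_one']
  haveI := hpg.isNilpotent
  haveI := hRs
  exact Group.isSolvable_of_ker_le_range R.subtype π (by rw [QuotientGroup.ker_mk', Subgroup.range_subtype])

end Cfsg.Agent.S4245
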