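import Cfsg.Statements.S4249
import Cfsg.Agent.S0108
import Cfsg.Agent.Lib.Cores.Basic
import Cfsg.Agent.Lib.PGroup.Basic
import Cfsg.Agent.Lib.OddLocal.Puig
import Cfsg.Agent.Lib.OddLocal.Basic
import Cfsg.Agent.Lib.Transfer.Thompson
import Cfsg.Agent.Lib.Transfer.Frobenius
import Cfsg.Agent.S0602

set_option autoImplicit false
open Cfsg

namespace Cfsg.Agent.S4249

open Finset
open scoped Pointwise

/-- If every element of the coset `Q * y` gives, with every `v ∈ V`, an element of order dividing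
`p`, and `Q` has order prime to that of the abelian group `V`, then `Q` centralises `V`. -/
theorem key {G : Type*} [Group G] [Finite G] {p : ℕ} (hp : p.Prime) (Q V : Subgroup G) (y : G)
    (hab : ∀ u ∈ V, ∀ v ∈ V, u * v = v * u)
    (hQV : ∀ x ∈ Q, ∀ v ∈ V, x * v * x⁻¹ ∈ V) (hyV : ∀ v ∈ V, y * v * y⁻¹ ∈ V)
    (hyQ : ∀ x ∈ Q, y * x * y⁻¹ ∈ Q)
    (h : ∀ x ∈ Q, ∀ v ∈ V, (v * (x * y)) ^ p = 1)
    (hcop : (Nat.card Q).Coprime (Nat.card V)) :
    ∀ x ∈ Q, ∀ v ∈ V, x * v = v * x := by
  classical
  letI : CommGroup V :=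
    { (inferInstance : Group V) with mul_comm := fun a b => Subtype.ext (hab a a.2 b b.2) }
  have : Fintype Q := Fintype.ofFinite Q
  let Nn : Submonoid G :=
    { carrier := {g | ∀ v ∈ V, g * v * g⁻¹ ∈ V}
      one_mem' := fun v hv => by simpa using hv
      mul_mem' := fun {a b} ha hb v hv => by
        simpa [mul_assoc] using ha _ (hb v hv) }
  let c : Nn → V →* V := fun g =>
    { toFun := fun v => ⟨(g : G) * v * (g : G)⁻¹, g.2 v v.2⟩
      map_one' := Subtype.ext (by simp)
      map_mul' := fun u v => Subtype.ext (by simp [mul_assoc]) }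
  have hcc : ∀ (g k : Nn) v, c (g * k) v = c g (c k v) := fun g k v =>
    Subtype.ext (by simp [c, mul_assoc])
  have hc1 : ∀ v, c 1 v = v := fun v => Subtype.ext (by simp [c])
  let yN : Nn := ⟨y, hyV⟩
  let qN : Q → Nn := fun x => ⟨x, hQV x x.2⟩
  let g : Q → Nn := fun x => qN x * yN
  have hform : ∀ (x : Nn) (v : V) (n : ℕ),
      ((v : G) * x) ^ n = ((∏ i ∈ range n, c (x ^ i) v : V) : G) * (x : G) ^ n := by
    intro x v n
    induction n with
    | zero => simp
    | succ n ih =>
      rw [prod_range_succ, Subgroup.coe_mul, pow_succ, ih]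
      simp [c, mul_assoc, pow_succ]
  have hgp : ∀ x : Q, (g x : G) ^ p = 1 := fun x => by
    simpa [g, qN, yN] using h x x.2 1 V.one_mem
  have hrel : ∀ (x : Q) (v : V), ∏ i ∈ range p, c (g x ^ i) v = 1 := fun x v => by
    have h1 := hform (g x) v p
    rw [hgp x, mul_one] at h1
    exact Subtype.ext (h1.symm.trans (h x x.2 v v.2))
  have hyi : ∀ (i : ℕ), ∀ x ∈ Q, y ^ i * x * (y ^ i)⁻¹ ∈ Q := by
    intro i
    induction i with
    | zero => intro x hx; simpa using hx
    | succ i ih =>
      intro x hx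
      have := hyQ _ (ih x hx)
      simpa [pow_succ', mul_assoc] using this
  have hσmem : ∀ (x : Q) (i : ℕ), ((x : G) * y) ^ i * (y ^ i)⁻¹ ∈ Q := by
    intro x i
    induction i with
    | zero => simp
    | succ i ih =>
      have := Q.mul_mem ih (hyi i x x.2)
      simpa [pow_succ, mul_assoc] using this
  let σ : ℕ → Q → Q := fun i x => ⟨((x : G) * y) ^ i * (y ^ i)⁻¹, hσmem x i⟩
  have hσ : ∀ i x, g x ^ i = qN (σ i x) * yN ^ i := fun i x =>
    Subtype.ext (by simp [g, qN, yN, σ, mul_assoc])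
  have hσinj : ∀ i, 0 < i → i < p → Function.Bijective (σ i) := fun i h0 hi => by
    refine Finite.injective_iff_bijective.1 fun a b e => Subtype.ext ?_
    have e1 : ((a : G) * y) ^ i = ((b : G) * y) ^ i := mul_right_cancel (congrArg Subtype.val e)
    have hco : Nat.Coprime i p := (hp.coprime_iff_not_dvd.2 (Nat.not_dvd_of_pos_of_lt h0 hi)).symm
    obtain ⟨k, -, hk⟩ := Nat.exists_mul_mod_eq_one_of_coprime hco hp.one_lt
    have hpow : ∀ x : Q, ((x : G) * y) ^ (i * k) = (x : G) * y := fun x => by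
      rw [pow_eq_pow_mod (i * k) (show ((x : G) * y) ^ p = 1 by simpa [g, qN, yN] using hgp x), hk,
        pow_one]
    apply mul_right_cancel (b := y)
    rw [← hpow a, ← hpow b, pow_mul, pow_mul, e1]
  let S : V → V := fun w => ∏ x : Q, c (qN x) w
  have hSmul : ∀ u w, S (u * w) = S u * S w := fun u w => by simp [S, prod_mul_distrib]
  have hSfix : ∀ (a : Q) w, c (qN a) (S w) = S w := fun a w => by
    simp only [S, map_prod]
    refine Fintype.prod_equiv (Equiv.mulLeft a) _ _ fun x => ?_
    rw [← hcc]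
    exact congrArg (fun z => c z w) (Subtype.ext rfl)
  have hSv : ∀ v : V, v ^ Nat.card Q = S v := by
    intro v
    obtain ⟨m, rfl⟩ : ∃ m, p = m + 1 := ⟨p - 1, by have := hp.pos; omega⟩
    have h1 : ∏ i ∈ range (m + 1), ∏ x : Q, c (g x ^ i) v = 1 := by
      rw [prod_comm]
      exact prod_eq_one fun x _ => hrel x v
    rw [prod_range_succ'] at h1
    have h2 : ∏ x : Q, c (g x ^ 0) v = v ^ Nat.card Q := by
      simp [hc1, Nat.card_eq_fintype_card]
    have h3 : ∀ i ∈ range m, ∏ x : Q, c (g x ^ (i + 1)) v = S (c (yN ^ (i + 1)) v) := fun i hi => by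
      simp only [hσ, hcc, S]
      exact Fintype.prod_bijective (σ (i + 1)) (hσinj (i + 1) (by omega) (by simp at hi; omega)) _ _
        fun x => rfl
    rw [h2, prod_congr rfl h3] at h1
    have h4 : (∏ i ∈ range m, S (c (yN ^ (i + 1)) v)) * S v = 1 := by
      have h5 := hrel ⟨1, Q.one_mem⟩ v
      have e : g ⟨1, Q.one_mem⟩ = yN := Subtype.ext (by simp [g, qN, yN])
      rw [e, prod_range_succ'] at h5
      let Sh : V →* V := { toFun := S, map_one' := by simp [S], map_mul' := hSmul }
      have h6 := congrArg Sh h5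
      rw [map_mul, map_prod, map_one, pow_zero, hc1] at h6
      exact h6
    exact mul_left_cancel (h1.trans h4.symm)
  intro x hx v hv
  have h7 : c (qN ⟨x, hx⟩) ⟨v, hv⟩ = ⟨v, hv⟩ := by
    apply (powCoprime hcop.symm).injective
    simp only [powCoprime_apply]
    rw [← map_pow, hSv, hSfix]
  have h8 : x * v * x⁻¹ = v := congrArg Subtype.val h7
  rwa [mul_inv_eq_iff_eq_mul] at h8

/-- An element outside a normal subgroup with all outside elements of order dividing `p`. -/
theorem inf_le_of_extend {G : Type*} [Group G] [Finite G] {p : ℕ} (hp : p.Prime) {H B : Subgroup G}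
    (hBH : B ≤ H) {y : G} (hy : y ∉ H) (hy1 : y ^ p = 1)
    (hyB : Subgroup.zpowers y ≤ Subgroup.normalizer (B : Set G)) :
    (B ⊔ Subgroup.zpowers y) ⊓ H ≤ B := by
  rintro g ⟨hg, hgH⟩
  have hg' : g ∈ ((B : Set G) * (Subgroup.zpowers y : Set G)) := by
    rw [← Subgroup.coe_mul_of_right_le_normalizer_left B _ hyB]
    exact hg
  obtain ⟨b, hb, z, hz, rfl⟩ := hg'
  have hzH : z ∈ H := (Subgroup.mul_mem_cancel_left H (hBH hb)).1 hgH
  have := Fact.mk hp
  have hcard : Nat.card (Subgroup.zpowers y) = p := by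
    rw [Nat.card_zpowers, orderOf_eq_prime hy1 fun e => hy (e ▸ H.one_mem)]
  have : Fact (Nat.card (Subgroup.zpowers y)).Prime := ⟨hcard ▸ hp⟩
  rcases Subgroup.eq_bot_or_eq_top_of_prime_card (H.subgroupOf (Subgroup.zpowers y)) with h | h
  · have : (⟨z, hz⟩ : Subgroup.zpowers y) ∈ H.subgroupOf (Subgroup.zpowers y) := hzH
    rw [h, Subgroup.mem_bot] at this
    rw [show z = 1 from congrArg Subtype.val this]
    simpa using hb
  · exact absurd (show (⟨y, Subgroup.mem_zpowers y⟩ : Subgroup.zpowers y) ∈ H.subgroupOf _ from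
      h ▸ Subgroup.mem_top _) hy

/-- A finite nilpotent group has a normal complement at every prime. -/
theorem hasNormalPComplement_nilpotent {q : ℕ} [Fact q.Prime] {X : Type*} [Group X] [Finite X]
    [Group.IsNilpotent X] : Cfsg.HasNormalPComplement q X := by
  refine CfsgLib.Transfer.hasNormalPComplement_of_frobeniusCond fun Q hQ g _ hco => ?_
  refine Subgroup.mem_centralizer_iff.2 fun u hu => CfsgLib.OddLocal.commute_of_coprime_orderOf u g ?_
  obtain ⟨j, hj⟩ := hQ ⟨u, hu⟩
  have h1 : u ^ q ^ j = 1 := congrArg Subtype.val hj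
  exact Nat.Coprime.coprime_dvd_left (orderOf_dvd_of_pow_eq_one h1) (hco.symm.pow_left j)

/-- Normalisers of a subgroup normalise its characteristic subgroups. -/
theorem normalizer_le_of_char {G : Type*} [Group G] {X : Subgroup G} (K : Subgroup X) [K.Characteristic] :
    Subgroup.normalizer (X : Set G) ≤ Subgroup.normalizer (K.map X.subtype : Set G) := by
  intro g hg
  rw [Subgroup.mem_normalizer_iff]
  have hX := Subgroup.mem_normalizer_iff.1 hg
  let e : X ≃* X := X.normalizerMonoidHom ⟨g, hg⟩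
  have he : ∀ u : X, ((e u : X) : G) = g * u * g⁻¹ := fun u => rfl
  have hK : K.map e.toMonoidHom = K := Subgroup.characteristic_iff_map_eq.1 inferInstance e
  intro v
  constructor
  · rintro ⟨w, hw, rfl⟩
    exact ⟨e w, hK ▸ ⟨w, hw, rfl⟩, he w⟩
  · rintro ⟨w, hw, hwe⟩
    rw [← hK] at hw
    obtain ⟨u, hu, rfl⟩ := hw
    exact ⟨u, hu, mul_left_cancel (mul_right_cancel ((he u).symm.trans hwe))⟩

theorem mem_normalizer_inf {G : Type*} [Group G] {A B : Subgroup G} {y : G}
    (hA : y ∈ Subgroup.normalizer (A : Set G)) (hB : y ∈ Subgroup.normalizer (B : Set G)) :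
    y ∈ Subgroup.normalizer ((A ⊓ B : Subgroup G) : Set G) := by
  rw [Subgroup.mem_normalizer_iff] at hA hB ⊢
  exact fun v => ⟨fun h => ⟨(hA v).1 h.1, (hB v).1 h.2⟩, fun h => ⟨(hA v).2 h.1, (hB v).2 h.2⟩⟩

theorem mem_normalizer_centralizer {G : Type*} [Group G] {A : Subgroup G} {y : G}
    (hA : y ∈ Subgroup.normalizer (A : Set G)) :
    y ∈ Subgroup.normalizer (Subgroup.centralizer (A : Set G) : Set G) := by
  rw [Subgroup.mem_normalizer_iff] at hA ⊢
  intro v
  constructor
  · intro hv
    refine Subgroup.mem_centralizer_iff.2 fun a ha => ?_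
    have h1 : y⁻¹ * a * y ∈ A := (hA _).2 (by simpa [mul_assoc] using ha)
    have h2 := Subgroup.mem_centralizer_iff.1 hv _ h1
    calc a * (y * v * y⁻¹) = y * ((y⁻¹ * a * y) * v) * y⁻¹ := by group
      _ = y * (v * (y⁻¹ * a * y)) * y⁻¹ := by rw [h2]
      _ = _ := by group
  · intro hv
    refine Subgroup.mem_centralizer_iff.2 fun a ha => ?_
    have h2 := Subgroup.mem_centralizer_iff.1 hv _ ((hA a).1 ha)
    calc a * v = y⁻¹ * ((y * a * y⁻¹) * (y * v * y⁻¹)) * y := by group
      _ = y⁻¹ * ((y * v * y⁻¹) * (y * a * y⁻¹)) * y := by rw [h2]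
      _ = _ := by group

theorem normalizer_subgroupOf_eq {G : Type*} [Group G] (H : Subgroup G) (J : Subgroup H) :
    Subgroup.normalizer (J : Set H) = (Subgroup.normalizer (J.map H.subtype : Set G)).subgroupOf H := by
  ext x
  rw [Subgroup.mem_subgroupOf, Subgroup.mem_normalizer_iff, Subgroup.mem_normalizer_iff]
  constructor
  · intro hx v
    constructor
    · rintro ⟨w, hw, rfl⟩
      exact ⟨x * w * x⁻¹, (hx w).1 hw, rfl⟩
    · rintro ⟨w, hw, hwe⟩
      refine ⟨x⁻¹ * w * x, (hx _).2 (by simpa [mul_assoc] using hw), ?_⟩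
      simp only [map_mul, map_inv, hwe]
      simp [mul_assoc]
  · intro hx w
    have h := hx (w : G)
    have em : ∀ u : H, (u : G) ∈ J.map H.subtype ↔ u ∈ J := fun u =>
      ⟨fun ⟨v, hv, he⟩ => H.subtype_injective he ▸ hv, fun h => ⟨u, h, rfl⟩⟩
    have e1 := em w
    have e2 := em (x * w * x⁻¹)
    rw [← e1, ← e2]
    simpa using h

theorem centralizer_subgroupOf_eq {G : Type*} [Group G] (H : Subgroup G) (Z : Subgroup H) :
    Subgroup.centralizer (Z : Set H) = (Subgroup.centralizer (Z.map H.subtype : Set G)).subgroupOf H := by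
  ext x
  rw [Subgroup.mem_subgroupOf, Subgroup.mem_centralizer_iff, Subgroup.mem_centralizer_iff]
  exact ⟨fun h v ⟨w, hw, hwv⟩ => hwv ▸ congrArg Subtype.val (h w hw),
    fun h w hw => Subtype.ext (h w ⟨w, hw, rfl⟩)⟩

/-- The kernel of a group all whose elements outside a proper normal subgroup have order `p`. -/
theorem isNilpotent_of_outside {p : ℕ} (hp : p.Prime) :
    ∀ (n : ℕ) {G : Type*} [Group G] [Finite G] (H : Subgroup G) [H.Normal],
      Nat.card G = n → H ≠ ⊤ → (∀ g ∉ H, g ^ p = 1) → Group.IsNilpotent H := by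
  intro n
  induction n using Nat.strong_induction_on with
  | _ n IH =>
  intro G _ _ H hHn hn hne hout
  have hsub : ∀ B : Subgroup G, B ≤ H → B ≠ H → ∀ y ∉ H, y ∈ Subgroup.normalizer (B : Set G) →
      Group.IsNilpotent B := by
    intro B hBH hne' y hy hyB
    have hzB : Subgroup.zpowers y ≤ Subgroup.normalizer (B : Set G) := by simpa using hyB
    set G' := B ⊔ Subgroup.zpowers y with hG'
    have hyG : y ∈ G' := Subgroup.mem_sup_right (Subgroup.mem_zpowers y)
    have hinf := inf_le_of_extend hp hBH hy (hout y hy) hzB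
    have hlt : Nat.card G' < Nat.card G := by
      refine lt_of_le_of_ne (Subgroup.card_le_card_group _) fun e => hne' (le_antisymm hBH ?_)
      have htop : G' = ⊤ := Subgroup.eq_top_of_card_eq _ e
      exact fun x hx => hinf ⟨hG' ▸ htop ▸ Subgroup.mem_top x, hx⟩
    have hBn : (B.subgroupOf G').Normal :=
      (Subgroup.normal_subgroupOf_iff_le_normalizer le_sup_left).2
        (sup_le Subgroup.le_normalizer hzB)
    have := IH _ (hn ▸ hlt) (B.subgroupOf G') rfl
      (fun e => hy (hBH (Subgroup.subgroupOf_eq_top.1 e hyG)))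
      (fun g hg => Subtype.ext (by
        simpa using hout g fun hgH => hg (hinf ⟨g.2, hgH⟩)))
    exact Group.nilpotent_of_mulEquiv (Subgroup.subgroupOfEquivOfLe (le_sup_left : B ≤ G'))
  by_cases hH1 : H = ⊥
  · subst hH1
    infer_instance
  suffices hZ : Subgroup.center H ≠ ⊥ by
    set Z := (Subgroup.center H).map H.subtype with hZdef
    have hZn : Z.Normal := inferInstance
    have hZH : Z ≤ H := Subgroup.map_subtype_le _
    let π : G →* G ⧸ Z := QuotientGroup.mk' Z
    have hker : π.ker = Z := QuotientGroup.ker_mk' Z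
    have hlt : Nat.card (G ⧸ Z) < n := by
      rw [← hn, Subgroup.card_eq_card_quotient_mul_card_subgroup Z]
      refine lt_mul_of_one_lt_right Nat.card_pos ?_
      rw [Subgroup.one_lt_card_iff_ne_bot, hZdef, Ne,
        Subgroup.map_eq_bot_iff_of_injective _ H.subtype_injective]
      exact hZ
    have hcm : (H.map π).comap π = H := by rw [Subgroup.comap_map_eq, hker, sup_eq_left.2 hZH]
    have : (H.map π).Normal := hHn.map π (QuotientGroup.mk'_surjective Z)
    have := IH _ hlt (H.map π) rfl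
      (fun e => hne (by rw [← hcm, e, Subgroup.comap_top]))
      (fun g hg => by
        obtain ⟨g, rfl⟩ := QuotientGroup.mk'_surjective Z g
        rw [← map_pow, hout g (fun hgH => hg ⟨g, hgH, rfl⟩), map_one])
    refine Subgroup.isNilpotent_of_ker_le_center (π.subgroupMap H) (fun x hx => ?_)
    have h1 : π (x : G) = 1 := congrArg Subtype.val hx
    rw [← MonoidHom.mem_ker, hker, hZdef] at h1
    obtain ⟨w, hw, hwx⟩ := h1
    rwa [← (H.subtype_injective hwx : w = x)]
  by_contra hZ
  have hnp : ∀ q : ℕ, q.Prime → ¬ IsPGroup q H := fun q hq hpg => by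
    have := Fact.mk hq
    have : Nontrivial H := (Subgroup.nontrivial_iff_ne_bot H).2 hH1
    have := hpg.center_nontrivial
    exact (Subgroup.nontrivial_iff_ne_bot _).1 this hZ
  have hfrat : ∀ q : ℕ, q.Prime → ∀ R : Sylow q H,
      ∃ y ∉ H, y ∈ Subgroup.normalizer ((R : Subgroup H).map H.subtype : Set G) := by
    intro q hq R
    have := Fact.mk hq
    by_contra hcon
    push Not at hcon
    apply hne
    have h1 : Subgroup.normalizer ((R : Subgroup H).map H.subtype : Set G) ≤ H := fun y hy => by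
      by_contra hyH
      exact hcon y hyH hy
    have h2 := Sylow.normalizer_sup_eq_top (N := H) R
    rwa [sup_eq_right.2 h1] at h2
  -- a nontrivial proper normal subgroup
  obtain ⟨L, hLn, hLH, hLne, hL1⟩ : ∃ L : Subgroup G, L.Normal ∧ L ≤ H ∧ L ≠ H ∧ L ≠ ⊥ := by
    by_contra hnoL
    push Not at hnoL
    obtain ⟨q, hq, hq2, hqd⟩ : ∃ q : ℕ, q.Prime ∧ q ≠ 2 ∧ q ∣ Nat.card H := by
      by_contra hcon
      push Not at hcon
      refine hnp 2 Nat.prime_two (IsPGroup.of_card (Nat.eq_prime_pow_of_unique_prime_dvd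
        Nat.card_pos.ne' fun {d} hd hdd => ?_))
      by_contra hd2
      exact hcon d hd hd2 hdd
    have := Fact.mk hq
    obtain ⟨R⟩ : Nonempty (Sylow q H) := inferInstance
    obtain ⟨y, hy, hyR⟩ := hfrat q hq R
    have hnil : ∀ X : Subgroup H, X ≠ ⊤ → y ∈ Subgroup.normalizer (X.map H.subtype : Set G) →
        Cfsg.HasNormalPComplement q X := fun X hX hyX => by
      have h1 := hsub (X.map H.subtype) (Subgroup.map_subtype_le _)
        (fun e => hX (Subgroup.map_injective H.subtype_injective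
          (by rw [e, ← MonoidHom.range_eq_map, Subgroup.range_subtype]))) y hy hyX
      have : Group.IsNilpotent X :=
        Group.nilpotent_of_mulEquiv (Subgroup.equivMapOfInjective X _ H.subtype_injective).symm
      exact hasNormalPComplement_nilpotent
    have hRtop : (R : Subgroup H) ≠ ⊤ := fun e => hnp q hq (by
      have := R.2
      rw [e] at this
      exact this.of_equiv Subgroup.topEquiv)
    have hR1 : (R : Subgroup H) ≠ ⊥ := R.ne_bot_of_dvd_card hqd
    have : Nontrivial (R : Subgroup H) := (Subgroup.nontrivial_iff_ne_bot _).2 hR1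
    set R' := (R : Subgroup H).map H.subtype with hR'
    have hyH : y ∈ Subgroup.normalizer (H : Set G) := by
      rw [Subgroup.normalizer_eq_top_iff.2 hHn]; trivial
    have hqR : q ∣ Nat.card (R : Subgroup H) := by
      obtain ⟨i, hi⟩ := IsPGroup.iff_card.1 R.2
      rw [hi]
      refine dvd_pow_self q fun e => hR1 (Subgroup.eq_bot_of_card_eq _ ?_)
      rw [hi, e, pow_zero]
    have hJchar := (Cfsg.Agent.S0602.result (G := (R : Subgroup H)) (p := q)).1
    set J := Cfsg.thompsonSubgroupOf q (R : Subgroup H) with hJ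
    have hJne : J ≠ ⊥ := by
      rw [hJ, Cfsg.thompsonSubgroupOf, Ne,
        Subgroup.map_eq_bot_iff_of_injective _ (R : Subgroup H).subtype_injective]
      exact (Cfsg.Agent.S0602.result (G := (R : Subgroup H)) (p := q)).2 hqR
    have hJR : J ≤ R := Subgroup.map_subtype_le _
    set ε : (R : Subgroup H) ≃* R' := (R : Subgroup H).equivMapOfInjective _ H.subtype_injective with hε
    have hJG : J.map H.subtype = (Cfsg.thompsonSubgroup q R').map R'.subtype := by
      rw [← CfsgLib.Transfer.thompsonSubgroup_map ε, hJ, Cfsg.thompsonSubgroupOf, Subgroup.map_map,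
        Subgroup.map_map]
      rfl
    have hNR : ∀ g ∈ Subgroup.normalizer (R' : Set G), g ∈ Subgroup.normalizer (J.map H.subtype : Set G) :=
      fun g hg => by
        have := CfsgLib.Transfer.thompsonSubgroup_characteristic (G := R') q
        rw [hJG]
        exact normalizer_le_of_char _ hg
    set Z := (R : Subgroup H) ⊓ Subgroup.centralizer ((R : Subgroup H) : Set H) with hZ'
    have hP : Cfsg.HasNormalPComplement q H := by
      refine (Cfsg.Agent.S0108.result hq2 R).2 ⟨?_, ?_⟩
      · refine hnil _ (fun e => ?_) ?_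
        · have hJn : J.Normal := Subgroup.normalizer_eq_top_iff.1 e
          have hJGn : (J.map H.subtype).Normal := by
            rw [← Subgroup.normalizer_eq_top_iff, eq_top_iff, ← Sylow.normalizer_sup_eq_top (N := H) R]
            refine sup_le hNR fun u hu => ?_
            rw [normalizer_subgroupOf_eq] at e
            exact Subgroup.subgroupOf_eq_top.1 e hu
          by_cases hJH : J.map H.subtype = H
          · refine hRtop (eq_top_iff.2 (le_trans ?_ hJR))
            intro v _
            obtain ⟨w, hw, hwv⟩ : (v : G) ∈ J.map H.subtype := hJH.symm ▸ v.2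
            exact H.subtype_injective hwv ▸ hw
          · exact hJne ((Subgroup.map_eq_bot_iff_of_injective _ H.subtype_injective).1
              (hnoL _ hJGn (Subgroup.map_subtype_le _) hJH))
        · rw [normalizer_subgroupOf_eq, Subgroup.subgroupOf_map_subtype]
          exact mem_normalizer_inf (Subgroup.le_normalizer (hNR y hyR)) hyH
      · refine hnil _ (fun e => ?_) ?_
        · have hZc : Z ≤ Subgroup.center H := Subgroup.centralizer_eq_top_iff_subset.1 e
          have := R.2.center_nontrivial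
          obtain ⟨⟨z, hz⟩, hz1⟩ := exists_ne (1 : Subgroup.center (R : Subgroup H))
          have hzZ : (z : H) ∈ Z := ⟨z.2, Subgroup.mem_centralizer_iff.2 fun u hu =>
            congrArg Subtype.val (Subgroup.mem_center_iff.1 hz ⟨u, hu⟩)⟩
          have h2 := hZc hzZ
          rw [hZ, Subgroup.mem_bot] at h2
          exact hz1 (Subtype.ext (Subtype.ext h2))
        · change y ∈ Subgroup.normalizer ((Subgroup.centralizer (Z : Set H)).map H.subtype : Set G)
          rw [centralizer_subgroupOf_eq, Subgroup.subgroupOf_map_subtype]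
          refine mem_normalizer_inf (mem_normalizer_centralizer ?_) hyH
          rw [hZ', Subgroup.map_inf _ _ _ H.subtype_injective, centralizer_subgroupOf_eq,
            Subgroup.subgroupOf_map_subtype]
          exact mem_normalizer_inf hyR (mem_normalizer_inf (mem_normalizer_centralizer hyR) hyH)
    rw [CfsgLib.Transfer.hasNormalPComplement_iff_sylow R] at hP
    obtain ⟨K, hK, hKR⟩ := hP
    have hKc := CfsgLib.Transfer.coprime_card_of_isComplement' R hKR
    obtain ⟨k, hk⟩ := CfsgLib.Transfer.index_of_isComplement' R hKR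
    have hKchar : K.Characteristic := by
      refine Subgroup.characteristic_iff_map_le.2 fun ψ => ?_
      rintro _ ⟨w, hw, rfl⟩
      exact (CfsgLib.Transfer.mem_iff_coprime_orderOf hKc hk _).2
        (by simpa using (CfsgLib.Transfer.mem_iff_coprime_orderOf hKc hk w).1 hw)
    have : (K.map H.subtype).Normal := inferInstance
    have hKne : K ≠ ⊥ := fun e => hRtop (by
      rw [e, Subgroup.isComplement'_bot_left] at hKR
      exact hKR)
    have hKne' : K ≠ ⊤ := fun e => by
      rw [e, Subgroup.card_top] at hKc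
      exact (hq.coprime_iff_not_dvd.1 hKc.symm) hqd
    have h4 := hnoL (K.map H.subtype) this (Subgroup.map_subtype_le _)
      (fun e => hKne' (Subgroup.map_injective H.subtype_injective
        (by rw [e, ← MonoidHom.range_eq_map, Subgroup.range_subtype])))
    exact hKne (Subgroup.map_eq_bot_iff_of_injective _ H.subtype_injective |>.1 h4)
  obtain ⟨y₀, hy₀⟩ : ∃ y, y ∉ H := by
    by_contra hcon
    push Not at hcon
    exact hne (eq_top_iff.2 fun x _ => hcon x)
  have hLnil := hsub L hLH hLne y₀ hy₀ (by rw [Subgroup.normalizer_eq_top_iff.2 hLn]; trivial)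
  have : Nontrivial L := (Subgroup.nontrivial_iff_ne_bot L).2 hL1
  obtain ⟨z, -, hz1, hzc⟩ := CfsgLib.OddLocal.exists_central_mem_of_normal (G := L) ⊤ top_ne_bot
  obtain ⟨r, hr, hrd⟩ := Nat.exists_prime_and_dvd (fun e => hz1 (orderOf_eq_one_iff.1 e))
  have := Fact.mk hr
  let V : Subgroup G :=
    { carrier := {x | x ∈ L ∧ (∀ l ∈ L, l * x = x * l) ∧ x ^ r = 1}
      one_mem' := ⟨L.one_mem, fun l _ => by simp, one_pow r⟩
      mul_mem' := fun {a b} ha hb => ⟨L.mul_mem ha.1 hb.1,
        fun l hl => ((show Commute l a from ha.2.1 l hl).mul_right (hb.2.1 l hl)).eq,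
        by rw [(show Commute a b from hb.2.1 a ha.1).mul_pow, ha.2.2, hb.2.2, one_mul]⟩
      inv_mem' := fun {a} ha => ⟨L.inv_mem ha.1,
        fun l hl => (show Commute l a from ha.2.1 l hl).inv_right.eq,
        by rw [inv_pow, ha.2.2, inv_one]⟩ }
  have hVH : V ≤ H := fun x hx => hLH hx.1
  have hVab : ∀ u ∈ V, ∀ v ∈ V, u * v = v * u := fun u hu v hv => hv.2.1 u hu.1
  have hVn : V.Normal := ⟨fun x hx g => ⟨hLn.conj_mem x hx.1 g, fun l hl => by
      have h1 := hx.2.1 (g⁻¹ * l * g) (by simpa using hLn.conj_mem l hl g⁻¹)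
      calc l * (g * x * g⁻¹) = g * (g⁻¹ * l * g * x) * g⁻¹ := by group
        _ = g * (x * (g⁻¹ * l * g)) * g⁻¹ := by rw [h1]
        _ = _ := by group,
    by rw [conj_pow, hx.2.2]; simp⟩⟩
  have hVp : IsPGroup r V := fun x => ⟨1, Subtype.ext (by simpa using x.2.2.2)⟩
  have hV1 : V ≠ ⊥ := by
    intro hV
    set d := orderOf z / r with hd
    have hmem : ((z : L) : G) ^ d ∈ V := ⟨L.pow_mem z.2 _, fun l hl =>
      ((show Commute l (z : G) from congrArg Subtype.val (Subgroup.mem_center_iff.1 hzc ⟨l, hl⟩)).pow_right d).eq,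
      by rw [← pow_mul, hd, Nat.div_mul_cancel hrd, ← SubgroupClass.coe_pow, pow_orderOf_eq_one]; rfl⟩
    rw [hV, Subgroup.mem_bot] at hmem
    have h2 := orderOf_dvd_of_pow_eq_one (x := z) (Subtype.ext (by simpa using hmem) : z ^ d = 1)
    have hpos := orderOf_pos z
    have h3 : d < orderOf z := Nat.div_lt_self hpos hr.one_lt
    exact absurd (Nat.le_of_dvd (Nat.div_pos (Nat.le_of_dvd hpos hrd) hr.pos) h2) (not_le.2 h3)
  set V' := V.subgroupOf H with hV'
  let W : Subgroup H := Subgroup.centralizer (V' : Set H)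
  have hW : ∀ s : ℕ, s.Prime → s ≠ r → ∀ S : Sylow s H, (S : Subgroup H) ≤ W := by
    intro s hs hsr S w hw
    have := Fact.mk hs
    obtain ⟨y, hy, hyS⟩ := hfrat s hs S
    have hyS' := fun v hv => ((Subgroup.mem_normalizer_iff.1 hyS) v).1 hv
    have hk := key hp ((S : Subgroup H).map H.subtype) V y hVab
      (fun x _ v hv => hVn.conj_mem v hv x) (fun v hv => hVn.conj_mem v hv y) hyS'
      (fun x hx v hv => hout _ fun hmem => hy (by
        have hxH : x ∈ H := Subgroup.map_subtype_le _ hx
        exact (Subgroup.mul_mem_cancel_left H hxH).1 ((Subgroup.mul_mem_cancel_left H (hVH hv)).1 hmem)))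
      (by
        rw [Subgroup.card_map_of_injective H.subtype_injective]
        obtain ⟨i, hi⟩ := IsPGroup.iff_card.1 S.2
        obtain ⟨j, hj⟩ := IsPGroup.iff_card.1 hVp
        rw [hi, hj]
        exact Nat.Coprime.pow i j ((Nat.coprime_primes hs hr).2 hsr))
    refine Subgroup.mem_centralizer_iff.2 fun v hv => Subtype.ext ?_
    exact (hk w ⟨w, hw, rfl⟩ v hv).symm
  have hV'p : IsPGroup r V' := hVp.comap_of_injective H.subtype H.subtype_injective
  have : V'.Normal := hVn.subgroupOf H
  obtain ⟨R⟩ : Nonempty (Sylow r H) := inferInstance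
  have hVR : V' ≤ R := (CfsgLib.Cores.le_pCore hV'p).trans (CfsgLib.Cores.pCore_le_sylow R)
  have hV'1 : V'.subgroupOf (R : Subgroup H) ≠ ⊥ := by
    intro e
    rw [Subgroup.subgroupOf_eq_bot, disjoint_iff, inf_eq_left.2 hVR, hV', Subgroup.subgroupOf_eq_bot,
      disjoint_iff, inf_eq_left.2 hVH] at e
    exact hV1 e
  have h5 := CfsgLib.PGroup.inf_center_ne_bot R.2 (V'.subgroupOf (R : Subgroup H)) hV'1
  obtain ⟨w, ⟨hwV, hwc⟩, hw1⟩ := (Subgroup.bot_or_exists_ne_one _).resolve_left h5
  have hWR : W ⊔ R = ⊤ := by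
    rw [← Subgroup.index_eq_one]
    by_contra hcon
    obtain ⟨s, hs, hsd⟩ := Nat.exists_prime_and_dvd hcon
    have := Fact.mk hs
    by_cases hsr : s = r
    · subst hsr
      exact R.not_dvd_index (hsd.trans (Subgroup.index_dvd_of_le le_sup_right))
    · obtain ⟨S⟩ : Nonempty (Sylow s H) := inferInstance
      exact S.not_dvd_index (hsd.trans (Subgroup.index_dvd_of_le ((hW s hs hsr S).trans le_sup_left)))
  have h6 : (⊤ : Subgroup H) ≤ Subgroup.centralizer {(w : H)} := by
    rw [← hWR]
    refine sup_le (fun u hu => ?_) (fun u hu => ?_)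
    · rw [Subgroup.mem_centralizer_singleton_iff]
      exact (Subgroup.mem_centralizer_iff.1 hu (w : H) hwV).symm
    · rw [Subgroup.mem_centralizer_singleton_iff]
      exact congrArg Subtype.val (Subgroup.mem_center_iff.1 hwc ⟨u, hu⟩)
  have h7 : (w : H) ∈ Subgroup.center H := Subgroup.mem_center_iff.2 fun u =>
    Subgroup.mem_centralizer_singleton_iff.1 (h6 (Subgroup.mem_top u))
  rw [hZ, Subgroup.mem_bot] at h7
  exact hw1 (Subtype.ext h7)


/-- Let G be a finite group and p a prime such that G is not a p-group, and suppose the Hughes subgroup H_p(G), generated by all elements g with g^p ≠ 1, is a proper subgroup. Then H_p(G) is nilpotent and has index p in G. -/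
theorem result {G : Type*} [Group G] [Finite G] (p : ℕ) (hp : p.Prime) (hG : ¬ IsPGroup p G)
    (hH : Subgroup.closure {g : G | g ^ p ≠ 1} ≠ ⊤) :
    Group.IsNilpotent (Subgroup.closure {g : G | g ^ p ≠ 1}) ∧ (Subgroup.closure {g : G | g ^ p ≠ 1}).index = p := by
  set H := Subgroup.closure {g : G | g ^ p ≠ 1} with hHdef
  have := Fact.mk hp
  have hout : ∀ g ∉ H, g ^ p = 1 := fun g hg => by
    by_contra h
    exact hg (Subgroup.subset_closure h)
  have hHn : H.Normal := by
    refine ⟨fun x hx g => ?_⟩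
    have h1 : H.map (MulAut.conj g).toMonoidHom ≤ H := by
      rw [Subgroup.map_le_iff_le_comap, hHdef, Subgroup.closure_le]
      intro z hz
      refine Subgroup.subset_closure (fun e => hz ?_)
      have : (g * z * g⁻¹) ^ p = 1 := e
      rw [conj_pow] at this
      simpa using this
    exact h1 ⟨x, hx, rfl⟩
  have hnil := isNilpotent_of_outside hp _ H rfl hH hout
  refine ⟨hnil, ?_⟩
  obtain ⟨q, hq, hqp, hqd⟩ : ∃ q : ℕ, q.Prime ∧ q ≠ p ∧ q ∣ Nat.card H := by
    by_contra hcon
    push Not at hcon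
    apply hG
    intro g
    by_cases hg : g ∈ H
    · have hHp : IsPGroup p H := IsPGroup.of_card (Nat.eq_prime_pow_of_unique_prime_dvd
        Nat.card_pos.ne' fun {d} hd hdd => by_contra fun hne => hcon d hd hne hdd)
      obtain ⟨k, hk⟩ := hHp ⟨g, hg⟩
      exact ⟨k, by simpa using congrArg Subtype.val hk⟩
    · exact ⟨1, by simpa using hout g hg⟩
  have := Fact.mk hq
  obtain ⟨Q⟩ : Nonempty (Sylow q H) := inferInstance
  have hQn : (Q : Subgroup H).Normal := Q.normal_of_normalizerCondition Group.normalizerCondition_of_isNilpotent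
  have : (Q : Subgroup H).Characteristic := Sylow.characteristic_of_normal Q hQn
  set Q' := (Q : Subgroup H).map H.subtype with hQ'
  have hQ'n : Q'.Normal := inferInstance
  have hQp : IsPGroup q Q' := Q.2.map _
  have : Nontrivial Q' := by
    rw [Subgroup.nontrivial_iff_ne_bot, hQ', Ne, Subgroup.map_eq_bot_iff_of_injective _ H.subtype_injective]
    exact Q.ne_bot_of_dvd_card hqd
  have hVnt := hQp.center_nontrivial
  set V := (Subgroup.center Q').map Q'.subtype with hV
  have hVn : V.Normal := inferInstance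
  have hVH : V ≤ H := (Subgroup.map_subtype_le _).trans (Subgroup.map_subtype_le _)
  have hVq : IsPGroup q V := (hQp.to_subgroup _).map _
  have hVab : ∀ u ∈ V, ∀ v ∈ V, u * v = v * u := by
    rintro _ ⟨u, hu, rfl⟩ _ ⟨v, hv, rfl⟩
    exact congrArg Subtype.val (Subgroup.mem_center_iff.1 hv u)
  have hquot : IsPGroup p (G ⧸ H) := fun a => by
    obtain ⟨a, rfl⟩ := QuotientGroup.mk'_surjective H a
    by_cases ha : a ∈ H
    · exact ⟨0, by rw [pow_zero, pow_one]; exact (QuotientGroup.eq_one_iff a).2 ha⟩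
    · exact ⟨1, by rw [pow_one, ← map_pow, hout a ha, map_one]⟩
  obtain ⟨k, hk⟩ := IsPGroup.iff_card.1 hquot
  change H.index = p ^ k at hk
  rcases Nat.lt_or_ge k 2 with hk2 | hk2
  · interval_cases k
    · exact absurd (Subgroup.index_eq_one.1 (by simpa using hk)) hH
    · simpa using hk
  exfalso
  obtain ⟨M, hM⟩ : ∃ M : Subgroup (G ⧸ H), IsCoatom M := by
    have : Nontrivial (G ⧸ H) := QuotientGroup.nontrivial_iff.2 hH
    rcases eq_top_or_exists_le_coatom (⊥ : Subgroup (G ⧸ H)) with h | ⟨M, hM, -⟩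
    · exact absurd h bot_ne_top
    · exact ⟨M, hM⟩
  have hMn := CfsgLib.PGroup.normal_of_isCoatom hquot hM
  have hMi := CfsgLib.PGroup.index_of_isCoatom hquot hM
  obtain ⟨P⟩ : Nonempty (Sylow p G) := inferInstance
  let π : G →* G ⧸ H := QuotientGroup.mk' H
  have hPtop : (P : Subgroup G).map π = ⊤ := by
    have hs : Function.Surjective π := QuotientGroup.mk'_surjective H
    rw [← Sylow.coe_mapSurjective hs P]
    exact ((Sylow.mapSurjective hs P).is_maximal' (hquot.to_subgroup ⊤) le_top).symm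
  let M' : Subgroup G := (P : Subgroup G) ⊓ M.comap π
  obtain ⟨m, hm, hm1⟩ : ∃ m ∈ M, m ≠ 1 := by
    refine (Subgroup.bot_or_exists_ne_one M).resolve_left fun e => ?_
    rw [e, Subgroup.index_bot] at hMi
    change H.index = p at hMi
    rw [hk] at hMi
    have := Nat.pow_right_injective hp.two_le (a₁ := k) (a₂ := 1) (by simpa using hMi)
    omega
  obtain ⟨a, haP, rfl⟩ : m ∈ (P : Subgroup G).map π := hPtop ▸ Subgroup.mem_top m
  obtain ⟨b, hb⟩ : ∃ b : G ⧸ H, b ∉ M := by
    by_contra hcon
    push Not at hcon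
    exact hM.1 (eq_top_iff.2 fun x _ => hcon x)
  obtain ⟨y, hyP, rfl⟩ : b ∈ (P : Subgroup G).map π := hPtop ▸ Subgroup.mem_top b
  have haH : a ∉ H := fun h => hm1 ((QuotientGroup.eq_one_iff a).2 h)
  have hfix := key hp M' V y hVab (fun x _ v hv => hVn.conj_mem v hv x)
    (fun v hv => hVn.conj_mem v hv y)
    (fun x hx => ⟨(P : Subgroup G).mul_mem ((P : Subgroup G).mul_mem hyP hx.1) ((P : Subgroup G).inv_mem hyP),
      by
        change π (y * x * y⁻¹) ∈ M
        rw [map_mul, map_mul, map_inv]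
        exact hMn.conj_mem _ hx.2 _⟩)
    (fun x hx v hv => hout _ fun hmem => hb (by
      have h1 : x * y ∈ H := (Subgroup.mul_mem_cancel_left H (hVH hv)).1 hmem
      have h2 : π x * π y = 1 := by rw [← map_mul]; exact (QuotientGroup.eq_one_iff _).2 h1
      rw [eq_inv_of_mul_eq_one_right h2]
      exact M.inv_mem hx.2))
    (by
      obtain ⟨i, hi⟩ := IsPGroup.iff_card.1 (P.2.to_le (inf_le_left : M' ≤ P))
      obtain ⟨j, hj⟩ := IsPGroup.iff_card.1 hVq
      rw [hi, hj]
      exact Nat.Coprime.pow i j ((Nat.coprime_primes hp hq).2 hqp.symm))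
  obtain ⟨v, hv, hv1⟩ : ∃ v ∈ V, v ≠ 1 := by
    obtain ⟨⟨v, hv⟩, hv1⟩ := exists_ne (1 : Subgroup.center Q')
    exact ⟨v, ⟨v, hv, rfl⟩, fun e => hv1 (Subtype.ext (Subtype.ext e))⟩
  have hc : Commute a v := hfix a ⟨haP, hm⟩ v hv
  have h8 : (v * a) ^ p = 1 := hout _ fun hmem =>
    haH ((Subgroup.mul_mem_cancel_left H (hVH hv)).1 hmem)
  rw [hc.symm.mul_pow, hout a haH, mul_one] at h8
  obtain ⟨j, hj⟩ := hVq ⟨v, hv⟩
  have h9 : v ^ q ^ j = 1 := congrArg Subtype.val hj
  have h10 := Nat.dvd_gcd (orderOf_dvd_of_pow_eq_one h8) (orderOf_dvd_of_pow_eq_one h9)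
  rw [Nat.Coprime.pow_right j ((Nat.coprime_primes hp hq).2 hqp.symm), Nat.dvd_one,
    orderOf_eq_one_iff] at h10
  exact hv1 h10

end Cfsg.Agent.S4249
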