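import Cfsg.Statements.S4250
import Cfsg.Agent.Lib.FGS.TameFocal

set_option autoImplicit false
open Cfsg

namespace Cfsg.Agent.S4250
open scoped commutatorElement


/-- Let P be a Sylow p-subgroup of a finite group G. Call an intersection H = P ∩ Q with a Sylow p-subgroup Q tame when N_P(H) and N_Q(H) are Sylow p-subgroups of N_G(H). Then P ∩ G′ is generated by [P, N_G(P)] together with the commutator subgroups [P ∩ Q, ⟨x⟩] for all tame intersections P ∩ Q and all p-elements x of N_G(P ∩ Q). -/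
theorem result {G : Type*} [Group G] [Finite G] (p : ℕ) [Fact p.Prime] (P : Sylow p G) :
    (P : Subgroup G) ⊓ commutator G =
      ⁅(P : Subgroup G), Subgroup.normalizer ((P : Subgroup G) : Set G)⁆ ⊔
        ⨆ (Q : Sylow p G) (_ : (¬ p ∣ ((P : Subgroup G) ⊓ Subgroup.normalizer (((P : Subgroup G) ⊓ (Q : Subgroup G) : Subgroup G) : Set G)).relIndex (Subgroup.normalizer (((P : Subgroup G) ⊓ (Q : Subgroup G) : Subgroup G) : Set G)) ∧ ¬ p ∣ ((Q : Subgroup G) ⊓ Subgroup.normalizer (((P : Subgroup G) ⊓ (Q : Subgroup G) : Subgroup G) : Set G)).relIndex (Subgroup.normalizer (((P : Subgroup G) ⊓ (Q : Subgroup G) : Subgroup G) : Set G))))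
          (x : G) (_ : x ∈ Subgroup.normalizer (((P : Subgroup G) ⊓ (Q : Subgroup G) : Subgroup G) : Set G) ∧ ∃ k : ℕ, orderOf x = p ^ k),
          ⁅(P : Subgroup G) ⊓ (Q : Subgroup G), Subgroup.zpowers x⁆ := by
  set R := ⁅(P : Subgroup G), Subgroup.normalizer ((P : Subgroup G) : Set G)⁆ ⊔
    ⨆ (Q : Sylow p G) (_ : (¬ p ∣ ((P : Subgroup G) ⊓ Subgroup.normalizer (((P : Subgroup G) ⊓ (Q : Subgroup G) : Subgroup G) : Set G)).relIndex (Subgroup.normalizer (((P : Subgroup G) ⊓ (Q : Subgroup G) : Subgroup G) : Set G)) ∧ ¬ p ∣ ((Q : Subgroup G) ⊓ Subgroup.normalizer (((P : Subgroup G) ⊓ (Q : Subgroup G) : Subgroup G) : Set G)).relIndex (Subgroup.normalizer (((P : Subgroup G) ⊓ (Q : Subgroup G) : Subgroup G) : Set G))))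
      (x : G) (_ : x ∈ Subgroup.normalizer (((P : Subgroup G) ⊓ (Q : Subgroup G) : Subgroup G) : Set G) ∧ ∃ k : ℕ, orderOf x = p ^ k),
      ⁅(P : Subgroup G) ⊓ (Q : Subgroup G), Subgroup.zpowers x⁆ with hR
  have hcomm : ∀ (A B : Subgroup G), B ≤ Subgroup.normalizer (A : Set G) → A ≤ P →
      (⁅A, B⁆ : Subgroup G) ≤ (P : Subgroup G) ⊓ commutator G := fun A B hB hA => by
    refine le_inf (le_trans (Subgroup.commutator_le.2 fun a ha b hb => ?_) hA) ?_
    · rw [commutatorElement_def, mul_assoc a, mul_assoc a]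
      exact A.mul_mem ha ((Subgroup.mem_normalizer_iff.1 (hB hb) _).1 (A.inv_mem ha))
    · rw [commutator_def]; exact Subgroup.commutator_mono le_top le_top
  refine le_antisymm ?_ (sup_le (hcomm _ _ le_rfl le_rfl) (iSup₂_le fun Q _ => iSup₂_le fun x hx =>
    hcomm _ _ (Subgroup.zpowers_le.2 hx.1) inf_le_left))
  rw [commutator_def]
  refine CfsgLib.FGS.inf_commutator_le_of_tame P (fun x hx a ha => ?_) ?_
  · rw [show a⁻¹ * (x⁻¹ * a * x) = ⁅a⁻¹, x⁻¹⁆ by rw [commutatorElement_def]; group]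
    exact Subgroup.mem_sup_left (Subgroup.commutator_mem_commutator ((P : Subgroup G).inv_mem ha) (Subgroup.inv_mem _ hx))
  · rintro T ⟨Q, rfl, h1, h2⟩ x hx hk a ha
    rw [show a⁻¹ * (x⁻¹ * a * x) = ⁅a⁻¹, x⁻¹⁆ by rw [commutatorElement_def]; group]
    refine Subgroup.mem_sup_right ?_
    refine Subgroup.mem_iSup_of_mem Q (Subgroup.mem_iSup_of_mem ⟨h1, h2⟩
      (Subgroup.mem_iSup_of_mem x (Subgroup.mem_iSup_of_mem ⟨hx, hk⟩ ?_)))
    exact Subgroup.commutator_mem_commutator (Subgroup.inv_mem _ ha) (Subgroup.inv_mem _ (Subgroup.mem_zpowers x))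

end Cfsg.Agent.S4250
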