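import Cfsg.Statements.S4251
import Cfsg.Agent.Lib.FGS.TameFocal
import Cfsg.Agent.Lib.Transfer.Frobenius

set_option autoImplicit false
open Cfsg

namespace Cfsg.Agent.S4251
open CfsgLib.Fusion (conjSub mem_conjSub conjSub_eq_iff_mem_normalizer card_conjSub)


/-- Let P be a Sylow p-subgroup of a finite group G. Call an intersection H = P ∩ Q with a Sylow p-subgroup Q tame when N_P(H) and N_Q(H) are Sylow p-subgroups of N_G(H). If N_G(H)/C_G(H) is a p-group for every nontrivial tame intersection H = P ∩ Q, then G has a normal p-complement. -/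
theorem result {G : Type*} [Group G] [Finite G] (p : ℕ) [Fact p.Prime] (P : Sylow p G)
    (h : ∀ Q : Sylow p G, (P : Subgroup G) ⊓ (Q : Subgroup G) ≠ ⊥ → (¬ p ∣ ((P : Subgroup G) ⊓ Subgroup.normalizer (((P : Subgroup G) ⊓ (Q : Subgroup G) : Subgroup G) : Set G)).relIndex (Subgroup.normalizer (((P : Subgroup G) ⊓ (Q : Subgroup G) : Subgroup G) : Set G)) ∧ ¬ p ∣ ((Q : Subgroup G) ⊓ Subgroup.normalizer (((P : Subgroup G) ⊓ (Q : Subgroup G) : Subgroup G) : Set G)).relIndex (Subgroup.normalizer (((P : Subgroup G) ⊓ (Q : Subgroup G) : Subgroup G) : Set G))) →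
      IsPGroup p (Subgroup.normalizer (((P : Subgroup G) ⊓ (Q : Subgroup G) : Subgroup G) : Set G) ⧸
        (Subgroup.centralizer (((P : Subgroup G) ⊓ (Q : Subgroup G) : Subgroup G) : Set G)).subgroupOf
          (Subgroup.normalizer (((P : Subgroup G) ⊓ (Q : Subgroup G) : Subgroup G) : Set G)))) :
    Cfsg.HasNormalPComplement p G := by
  classical
  have key : ∀ (A : Subgroup G) (g : G), CfsgLib.Techniques.Functor.Fam (CfsgLib.Transfer.tameInter P) A g →
      ∃ u ∈ (P : Subgroup G), ∀ a ∈ A, g⁻¹ * a * g = u⁻¹ * a * u := by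
    intro A g hfam
    induction hfam with
    | nil A => exact ⟨1, Subgroup.one_mem _, fun a _ => rfl⟩
    | @cons A T x g hT hA hx _ ih =>
      obtain ⟨u', hu', hgu⟩ := ih
      rcases eq_or_ne T ⊥ with rfl | hT0
      · refine ⟨1, Subgroup.one_mem _, fun a ha => ?_⟩
        rw [Subgroup.mem_bot.1 (hA ha)]; group
      obtain ⟨Q, rfl, h1, h2⟩ := hT
      have hq := h Q hT0 ⟨h1, h2⟩
      set N := Subgroup.normalizer (((P : Subgroup G) ⊓ (Q : Subgroup G) : Subgroup G) : Set G) with hN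
      set C := (Subgroup.centralizer (((P : Subgroup G) ⊓ (Q : Subgroup G) : Subgroup G) : Set G)).subgroupOf N with hC
      obtain ⟨j, hj⟩ := IsPGroup.iff_card.1 hq
      have htop : ((P : Subgroup G) ⊓ N).subgroupOf N ⊔ C = ⊤ := by
        rw [← Subgroup.index_eq_one]
        have d1 : (((P : Subgroup G) ⊓ N).subgroupOf N ⊔ C).index ∣ ((P : Subgroup G) ⊓ N).relIndex N :=
          Subgroup.index_dvd_of_le le_sup_left
        have d2 : (((P : Subgroup G) ⊓ N).subgroupOf N ⊔ C).index ∣ p ^ j :=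
          hj ▸ (Subgroup.index_eq_card (H := C) ▸ Subgroup.index_dvd_of_le le_sup_right)
        obtain ⟨i, -, hi⟩ := (Nat.dvd_prime_pow (Fact.out)).1 d2
        rcases Nat.eq_zero_or_pos i with rfl | hi0
        · rw [hi, pow_zero]
        · exact absurd ((dvd_pow_self p hi0.ne').trans (hi ▸ d1)) h1
      obtain ⟨y, hy, c, hc, hxy⟩ := Subgroup.mem_sup_of_normal_right.1
        (show (⟨x, hx⟩ : N) ∈ ((P : Subgroup G) ⊓ N).subgroupOf N ⊔ C by rw [htop]; trivial)
      refine ⟨(y : G) * u', Subgroup.mul_mem _ (Subgroup.mem_subgroupOf.1 hy).1 hu', fun a ha => ?_⟩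
      have hm : (y : G)⁻¹ * a * (y : G) ∈ ((P : Subgroup G) ⊓ (Q : Subgroup G) : Subgroup G) :=
        (Subgroup.mem_normalizer_iff''.1 y.2 a).1 (hA ha)
      have hcm := Subgroup.mem_centralizer_iff.1 (Subgroup.mem_subgroupOf.1 hc) _ hm
      have e1 : x⁻¹ * a * x = (y : G)⁻¹ * a * (y : G) := by
        rw [show x = (y : G) * (c : G) from (congrArg Subtype.val hxy).symm]
        calc ((y : G) * (c : G))⁻¹ * a * ((y : G) * (c : G)) = (c : G)⁻¹ * (((y : G)⁻¹ * a * (y : G)) * (c : G)) := by group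
          _ = _ := by rw [hcm, inv_mul_cancel_left]
      have hmem : x⁻¹ * a * x ∈ conjSub x⁻¹ A := by
        rw [mem_conjSub]; simpa [mul_assoc] using ha
      calc (x * g)⁻¹ * a * (x * g) = g⁻¹ * (x⁻¹ * a * x) * g := by group
        _ = u'⁻¹ * (x⁻¹ * a * x) * u' := hgu _ hmem
        _ = _ := by rw [e1]; group
  refine CfsgLib.Transfer.hasNormalPComplement_of_frobeniusCond fun Q hQ g hg hco => ?_
  obtain ⟨S, hS⟩ := hQ.exists_le_sylow
  obtain ⟨z, hz⟩ := MulAction.exists_smul_eq G S P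
  let Q' : Subgroup G := conjSub z Q
  have hQ' : Q' ≤ (P : Subgroup G) := by
    rw [← hz, Sylow.coe_subgroup_smul]
    rintro _ ⟨q, hq, rfl⟩
    exact Subgroup.smul_mem_pointwise_smul q (MulAut.conj z) _ (hS hq)
  set g' := z * g * z⁻¹ with hg'
  have hg'N : g' ∈ Subgroup.normalizer (Q' : Set G) := by
    refine Subgroup.mem_normalizer_iff.2 fun w => ?_
    rw [mem_conjSub, mem_conjSub, show z⁻¹ * (g' * w * g'⁻¹) * z = g * (z⁻¹ * w * z) * g⁻¹ by rw [hg']; group]
    exact Subgroup.mem_normalizer_iff.1 hg _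
  obtain ⟨u, hu, hgu⟩ := key Q' g' (CfsgLib.Transfer.fam_tame P hQ' (by
    rw [conjSub_eq_iff_mem_normalizer.2 (Subgroup.inv_mem _ hg'N)]; exact hQ'))
  have hiter : ∀ j : ℕ, ∀ a ∈ Q', (g' ^ j)⁻¹ * a * g' ^ j = (u ^ j)⁻¹ * a * u ^ j := by
    intro j
    induction j with
    | zero => intro a _; simp
    | succ j ih =>
      intro a ha
      have hm : g'⁻¹ * a * g' ∈ Q' := (Subgroup.mem_normalizer_iff''.1 hg'N a).1 ha
      calc (g' ^ (j + 1))⁻¹ * a * g' ^ (j + 1) = (g' ^ j)⁻¹ * (g'⁻¹ * a * g') * g' ^ j := by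
            rw [pow_succ']; group
        _ = (u ^ j)⁻¹ * (g'⁻¹ * a * g') * u ^ j := ih _ hm
        _ = _ := by rw [hgu a ha, pow_succ']; group
  obtain ⟨k, hk⟩ := P.2 ⟨u, hu⟩
  have huk : u ^ p ^ k = 1 := congrArg Subtype.val hk
  have hcent : g' ^ p ^ k ∈ Subgroup.centralizer (Q' : Set G) := Subgroup.mem_centralizer_iff.2 fun a ha => by
    have h1 := hiter (p ^ k) a ha
    rw [huk, inv_one, one_mul, mul_one, mul_assoc, inv_mul_eq_iff_eq_mul] at h1
    exact h1
  have hord : orderOf g' = orderOf g := by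
    rw [hg', show z * g * z⁻¹ = MulAut.conj z g by simp]
    exact MulEquiv.orderOf_eq _ _
  obtain ⟨m, hm⟩ := exists_pow_eq_self_of_coprime (x := g') (n := p ^ k) (by rw [hord]; exact (hco.symm).pow_left k)
  have hg'C : g' ∈ Subgroup.centralizer (Q' : Set G) := hm ▸ Subgroup.pow_mem _ hcent m
  refine Subgroup.mem_centralizer_iff.2 fun q hq => ?_
  have h1 := Subgroup.mem_centralizer_iff.1 hg'C (z * q * z⁻¹) ⟨q, hq, rfl⟩
  rw [hg', show z * q * z⁻¹ * (z * g * z⁻¹) = z * (q * g) * z⁻¹ by group,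
    show z * g * z⁻¹ * (z * q * z⁻¹) = z * (g * q) * z⁻¹ by group] at h1
  exact mul_left_cancel (mul_right_cancel h1)

end Cfsg.Agent.S4251
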