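import Cfsg.Statements.S4255
import Cfsg.Agent.Lib.FGS.DisconnectedClassGraph

set_option autoImplicit false
open Cfsg

namespace Cfsg.Agent.S4255

open CfsgLib.FGS.Disconnected CfsgLib.FGS.TwoLargest

/-- Let G be a finite group. Call a prime a vertex if it divides some conjugacy class size of G, and two distinct vertices adjacent if their product divides some class size. Suppose this graph is disconnected: the vertices split into two nonempty parts with no vertex of one part adjacent to a vertex of the other. Then G/Z(G) is a Frobenius group with abelian Frobenius complement and with a Frobenius kernel all of whose elements commute. -/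
theorem result {G : Type*} [Group G] [Finite G] (S : Set ℕ) (hS : ∃ p ∈ S, (p.Prime ∧ ∃ g : G, p ∣ (Subgroup.centralizer ({g} : Set G)).index)) (hS' : ∃ q ∉ S, (q.Prime ∧ ∃ g : G, q ∣ (Subgroup.centralizer ({g} : Set G)).index))
    (hdisc : ∀ p q : ℕ, (p.Prime ∧ ∃ g : G, p ∣ (Subgroup.centralizer ({g} : Set G)).index) → (q.Prime ∧ ∃ g : G, q ∣ (Subgroup.centralizer ({g} : Set G)).index) → p ∈ S → q ∉ S → ¬ (∃ g : G, p * q ∣ (Subgroup.centralizer ({g} : Set G)).index)) :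
    ∃ H : Subgroup (G ⧸ Subgroup.center G), Cfsg.IsFrobeniusComplement H ∧ IsMulCommutative H ∧
      ∀ x ∈ Cfsg.frobeniusKernel H, ∀ y ∈ Cfsg.frobeniusKernel H, x * y = y * x := by
  classical
  have kinds : ∀ z : G, On S (cls z) ∨ On Sᶜ (cls z) := by
    intro z
    by_contra hcon
    rw [not_or] at hcon
    simp only [On, not_forall] at hcon
    obtain ⟨⟨p, hp, hpz, hpS⟩, ⟨q, hq, hqz, hqS⟩⟩ := hcon
    have hqS' : q ∈ S := not_not.1 hqS
    refine hdisc q p ⟨hq, z, hqz⟩ ⟨hp, z, hpz⟩ hqS' hpS ⟨z, ?_⟩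
    exact ((Nat.coprime_primes hq hp).2 fun e => hpS (e ▸ hqS')).mul_dvd_of_dvd_of_dvd hqz hpz
  obtain ⟨y, hy⟩ := Finite.exists_max (cls : G → ℕ)
  obtain ⟨p₀, hp₀S, hp₀, g₀, hg₀⟩ := hS
  obtain ⟨q₀, hq₀S, hq₀, g₁, hg₁⟩ := hS'
  have hnc : ∀ (r : ℕ) (g : G), r.Prime → r ∣ cls g → g ∉ Subgroup.center G := by
    intro r g hr hd h
    rw [cls_eq_one.2 h] at hd
    exact hr.ne_one (Nat.dvd_one.1 hd)
  have hyZ : y ∉ Subgroup.center G := by
    intro h
    have h1 := hy g₀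
    rw [cls_eq_one.2 h] at h1
    refine hnc p₀ g₀ hp₀ hg₀ (cls_eq_one.1 ?_)
    have := Nat.pos_of_ne_zero (cls_ne_zero g₀)
    omega
  rcases kinds y with h | h
  · exact (⟨kinds, ⟨y, hy, h, hyZ⟩, ⟨g₁, (kinds g₁).resolve_left (fun e => hq₀S (e q₀ hq₀ hg₁)), hnc q₀ g₁ hq₀ hg₁⟩⟩ :
      Split G S).main
  · refine (⟨fun z => ?_, ⟨y, hy, h, hyZ⟩, ⟨g₀, ?_, hnc p₀ g₀ hp₀ hg₀⟩⟩ : Split G Sᶜ).main
    · rw [compl_compl]; exact (kinds z).symm
    · rw [compl_compl]; exact (kinds g₀).resolve_right (fun e => e p₀ hp₀ hg₀ hp₀S)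

end Cfsg.Agent.S4255
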