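import Cfsg.Statements.S4261
import Mathlib

set_option autoImplicit false
open Cfsg

namespace Cfsg.Agent.S4261

/-- Let M be a maximal subgroup of a finite solvable group G such that x^[G : M] lies in M for every x in G. Then M is normal in G. -/
theorem result {G : Type*} [Group G] [Finite G] (hG : Group.IsSolvable G) (M : Subgroup G) (hM : IsCoatom M)
    (hexp : ∀ x : G, x ^ M.index ∈ M) : M.Normal := by
  set K := M.normalCore with hK
  have hKM : K ≤ M := Subgroup.normalCore_le M
  set π := QuotientGroup.mk' K with hπ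
  have hπs : Function.Surjective π := QuotientGroup.mk'_surjective K
  have hker : π.ker ≤ M := by rw [hπ, QuotientGroup.ker_mk']; exact hKM
  set M' := M.map π with hM'
  have hcomap : M'.comap π = M := by rw [hM', Subgroup.comap_map_eq, sup_eq_left.2 hker]
  have hM'top : M' ≠ ⊤ := fun e => hM.1 (by rw [← hcomap, e, Subgroup.comap_top])
  have hM'max : ∀ L, M' < L → L = ⊤ := by
    intro L hL
    have h1 : M < L.comap π := lt_of_eq_of_lt hcomap.symm ((Subgroup.comap_lt_comap_of_surjective hπs).2 hL)
    rw [← Subgroup.map_comap_eq_self_of_surjective hπs L, hM.2 _ h1, Subgroup.map_top_of_surjective _ hπs]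
  have hcore : ∀ N : Subgroup (G ⧸ K), N.Normal → N ≤ M' → N = ⊥ := by
    intro N hN hNM
    have h1 : N.comap π ≤ K := by
      have : (N.comap π).Normal := hN.comap π
      exact Subgroup.normal_le_normalCore.2 ((Subgroup.comap_mono hNM).trans hcomap.le)
    rw [← Subgroup.map_comap_eq_self_of_surjective hπs N, eq_bot_iff]
    refine (Subgroup.map_mono h1).trans ?_
    rw [hπ, QuotientGroup.map_mk'_self]
  rcases subsingleton_or_nontrivial (G ⧸ K) with hss | hnt
  · exact absurd (Subsingleton.elim M' ⊤) hM'top
  -- an abelian normal subgroup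
  obtain ⟨A, hAn, hAne, hAab⟩ : ∃ A : Subgroup (G ⧸ K), A.Normal ∧ A ≠ ⊥ ∧ IsMulCommutative A := by
    classical
    have hs : Group.IsSolvable (G ⧸ K) := Group.isSolvable_of_surjective hπs
    obtain ⟨n, hn⟩ := (Group.isSolvable_def _).1 hs
    have hex : ∃ n, derivedSeries (G ⧸ K) n = ⊥ := ⟨n, hn⟩
    obtain ⟨m, hm⟩ : ∃ m, Nat.find hex = m + 1 := by
      refine Nat.exists_eq_add_one.2 (Nat.pos_of_ne_zero fun e => ?_)
      have h := Nat.find_spec hex
      rw [e, derivedSeries_zero] at h
      exact top_ne_bot h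
    refine ⟨derivedSeries (G ⧸ K) m, derivedSeries_normal _ _, Nat.find_min hex (by omega), ⟨⟨fun a b => ?_⟩⟩⟩
    have h := Nat.find_spec hex
    rw [hm, derivedSeries_succ] at h
    refine Subtype.ext ?_
    exact (Subgroup.mem_centralizer_iff.1 ((Subgroup.commutator_eq_bot_iff_le_centralizer.1 h) b.2) a a.2)
  have hidx : ∀ B : Subgroup (G ⧸ K), B.Normal → B ≤ A → B ≠ ⊥ → M'.index = Nat.card B := by
    intro B hBn hBA hB
    have hsup : M' ⊔ B = ⊤ := by
      refine hM'max _ (lt_of_le_of_ne le_sup_left fun e => ?_)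
      exact hB (hcore B hBn (e.symm ▸ le_sup_right))
    have hinf : (M' ⊓ B).Normal := by
      rw [← Subgroup.normalizer_eq_top_iff, eq_top_iff, ← hsup, sup_le_iff]
      constructor
      · intro g hg
        rw [Subgroup.mem_normalizer_iff]
        intro x
        have h1 := Subgroup.mem_normalizer_iff.1 (Subgroup.le_normalizer (H := M') hg) x
        have h2 := Subgroup.mem_normalizer_iff.1 ((Subgroup.normalizer_eq_top (H := B)).symm ▸ Subgroup.mem_top g :
          g ∈ Subgroup.normalizer (B : Set (G ⧸ K))) x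
        exact and_congr h1 h2
      · intro g hg
        rw [Subgroup.mem_normalizer_iff]
        intro x
        have hfix : ∀ y ∈ M' ⊓ B, g * y * g⁻¹ = y := fun y hy => by
          have := congrArg Subtype.val (hAab.is_comm.comm ⟨g, hBA hg⟩ ⟨y, hBA hy.2⟩)
          simp only [Subgroup.coe_mul] at this
          rw [this, mul_inv_cancel_right]
        constructor
        · intro hx
          rw [hfix x hx]
          exact hx
        · intro hx
          have hxB : x ∈ B := by
            have := mul_mem (mul_mem (inv_mem hg) hx.2) hg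
            simpa [mul_assoc] using this
          have := congrArg Subtype.val (hAab.is_comm.comm ⟨g, hBA hg⟩ ⟨x, hBA hxB⟩)
          simp only [Subgroup.coe_mul] at this
          rwa [this, mul_inv_cancel_right] at hx
    have hbot := hcore _ hinf inf_le_left
    have e1 : M'.index = M'.relIndex (B ⊔ M') := by rw [sup_comm, hsup, Subgroup.relIndex_top_right]
    have e3 := Subgroup.relIndex_mul_relIndex (M' ⊓ B) M' (M' ⊔ B) inf_le_left le_sup_left
    have e4 := Subgroup.relIndex_mul_relIndex (M' ⊓ B) B (M' ⊔ B) inf_le_right le_sup_right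
    have e5 : B.relIndex (M' ⊔ B) = B.relIndex M' := by
      rw [sup_comm]; exact Subgroup.relIndex_sup_left M' B
    rw [← e4, e5, Subgroup.inf_relIndex_left, Subgroup.inf_relIndex_right, mul_comm (M'.relIndex B)] at e3
    have e6 := Nat.eq_of_mul_eq_mul_left (Nat.pos_of_ne_zero (Subgroup.index_ne_zero_of_finite : B.relIndex M' ≠ 0)) e3
    rw [e1, sup_comm, e6, ← Subgroup.relIndex_bot_left B, ← hbot, Subgroup.inf_relIndex_right]
  obtain ⟨q, hq, hqA⟩ := Nat.exists_prime_and_dvd (fun e => hAne (Subgroup.eq_bot_of_card_eq _ e) : Nat.card A ≠ 1)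
  have := Fact.mk hq
  obtain ⟨S⟩ : Nonempty (Sylow q A) := inferInstance
  have hSn : ((S : Subgroup A).map A.subtype).Normal := by
    have : (S : Subgroup A).Normal := ⟨fun a ha b => by rw [hAab.is_comm.comm b a]; simpa using ha⟩
    have : (S : Subgroup A).Characteristic := Sylow.characteristic_of_normal S this
    infer_instance
  have hSne : (S : Subgroup A).map A.subtype ≠ ⊥ := by
    rw [Ne, Subgroup.map_eq_bot_iff_of_injective _ A.subtype_injective]
    exact S.ne_bot_of_dvd_card hqA
  obtain ⟨k, hk⟩ := IsPGroup.iff_card.1 S.2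
  have hMidx : M.index = q ^ k := by
    rw [← hcomap, Subgroup.index_comap_of_surjective _ hπs, hidx _ hSn (Subgroup.map_subtype_le _) hSne,
      Subgroup.card_map_of_injective A.subtype_injective, hk]
  have hQ : IsPGroup q (G ⧸ K) := by
    intro x
    induction x using QuotientGroup.induction_on with | H g => ?_
    obtain ⟨j, m, hm, hgm⟩ := Nat.exists_eq_pow_mul_and_not_dvd (orderOf_pos g).ne' q hq.ne_one
    refine ⟨j, ?_⟩
    rw [← QuotientGroup.mk_pow, QuotientGroup.eq_one_iff]
    have hR : ∀ y : G, (orderOf y).Coprime q → y ∈ K := by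
      intro y hy a
      have hconj : orderOf (a * y * a⁻¹) = orderOf y := by
        rw [← MulAut.conj_apply]; exact orderOf_injective (MulAut.conj a).toMonoidHom (MulAut.conj a).injective y
      obtain ⟨l, hl⟩ := exists_pow_eq_self_of_coprime (n := q ^ k) (x := a * y * a⁻¹)
        (by rw [hconj]; exact (hy.pow_right k).symm)
      rw [← hl]
      exact pow_mem (hMidx ▸ hexp _) l
    apply hR
    rw [orderOf_pow_of_dvd (pow_ne_zero _ hq.ne_zero) (hgm ▸ dvd_mul_right _ _), hgm,
      Nat.mul_div_cancel_left _ (pow_pos hq.pos j), Nat.coprime_comm]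
    exact hq.coprime_iff_not_dvd.2 hm
  have : Group.IsNilpotent (G ⧸ K) := hQ.isNilpotent
  have hN : M'.Normal := Subgroup.NormalizerCondition.normal_of_coatom M' Group.normalizerCondition_of_isNilpotent ⟨hM'top, hM'max⟩
  rw [← hcomap]
  exact hN.comap π

end Cfsg.Agent.S4261
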