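import Cfsg.Statements.S4263
import Cfsg.Agent.Lib.Cores.Fitting

set_option autoImplicit false
open Cfsg

namespace Cfsg.Agent.S4263

open Subgroup

theorem pow_index_mem_of_nilpotent {N : Type*} [Group N] [Finite N] [Group.IsNilpotent N]
    (H : Subgroup N) (x : N) : x ^ H.index ∈ H := by
  induction H using WellFoundedGT.induction with
  | ind H ih =>
    rcases eq_or_ne H ⊤ with rfl | hH
    · exact Subgroup.mem_top _
    · have hlt : H < Subgroup.normalizer (H : Set N) :=
        Group.normalizerCondition_of_isNilpotent H hH.lt_top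
      have hn : (H.subgroupOf (Subgroup.normalizer (H : Set N))).Normal := Subgroup.normal_in_normalizer
      have h1 := ih _ hlt
      rw [← Subgroup.relIndex_mul_index hlt.le, mul_comm, pow_mul]
      exact Subgroup.pow_index_mem (H.subgroupOf (Subgroup.normalizer (H : Set N)))
        (⟨x ^ (Subgroup.normalizer (H : Set N)).index, h1⟩ : Subgroup.normalizer (H : Set N))

/-- Let G be a finite group. An element x lies in the Fitting subgroup F(G) if and only if, for every subgroup H of G, the power x^[G : H] lies in H. -/
theorem result {G : Type*} [Group G] [Finite G] (x : G) :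
    x ∈ Cfsg.fittingSubgroup G ↔ ∀ H : Subgroup G, x ^ H.index ∈ H := by
  constructor
  · intro hx H
    have hnil : Group.IsNilpotent (fittingSubgroup G) := CfsgLib.Cores.isNilpotent_fittingSubgroup
    have hn : (fittingSubgroup G).Normal := CfsgLib.Cores.fittingSubgroup_normal
    have h1 : (H.subgroupOf (fittingSubgroup G)).index ∣ H.index := by
      have h2 := Subgroup.relIndex_dvd_index_of_normal (fittingSubgroup G) H
      have e := Subgroup.card_mul_index H
      have e1 : (fittingSubgroup G).relIndex H = (H ⊓ fittingSubgroup G).relIndex H := by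
        rw [Subgroup.inf_relIndex_left]
      have e2 : (H ⊓ fittingSubgroup G).relIndex (H ⊔ fittingSubgroup G) * (H ⊔ fittingSubgroup G).index =
          (H ⊓ fittingSubgroup G).index :=
        Subgroup.relIndex_mul_index (inf_le_left.trans le_sup_left)
      have e3 := Subgroup.relIndex_mul_relIndex (H ⊓ fittingSubgroup G) H (H ⊔ fittingSubgroup G)
        inf_le_left le_sup_left
      have e4 := Subgroup.relIndex_mul_relIndex (H ⊓ fittingSubgroup G) (fittingSubgroup G)
        (H ⊔ fittingSubgroup G) inf_le_right le_sup_right
      have e5 : (fittingSubgroup G).relIndex (H ⊔ fittingSubgroup G) = (fittingSubgroup G).relIndex H := by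
        rw [sup_comm]; exact Subgroup.relIndex_sup_left H (fittingSubgroup G)
      have e6 : H.relIndex (fittingSubgroup G) = H.relIndex (H ⊔ fittingSubgroup G) := by
        have h7 : (fittingSubgroup G).relIndex H ≠ 0 := Subgroup.index_ne_zero_of_finite
        rw [← e4, e5, Subgroup.inf_relIndex_right, ← e1, mul_comm ((fittingSubgroup G).relIndex H)] at e3
        exact (Nat.eq_of_mul_eq_mul_right (Nat.pos_of_ne_zero h7) e3).symm
      have h8 : H.relIndex (fittingSubgroup G) ∣ H.index := by
        rw [e6]; exact ⟨_, (Subgroup.relIndex_mul_index le_sup_left).symm⟩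
      exact h8
    obtain ⟨k, hk⟩ := h1
    rw [hk, pow_mul]
    exact H.pow_mem (pow_index_mem_of_nilpotent (H.subgroupOf (fittingSubgroup G))
      ⟨x, hx⟩) k
  · intro h
    suffices key : ∀ y : G, IsPrimePow (orderOf y) → (∀ H : Subgroup G, y ^ H.index ∈ H) →
        y ∈ fittingSubgroup G by
      suffices aux : ∀ n : ℕ, ∀ y : G, orderOf y = n → (∀ H : Subgroup G, y ^ H.index ∈ H) →
          y ∈ fittingSubgroup G from aux _ x rfl h
      intro n
      induction n using Nat.recOnPosPrimePosCoprime with
      | prime_pow p m hp hm =>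
        intro y hy hH
        exact key y (hy ▸ (hp.isPrimePow.pow hm.ne')) hH
      | zero =>
        intro y hy
        exact absurd hy (orderOf_pos y).ne'
      | one =>
        intro y hy _
        rw [orderOf_eq_one_iff.1 hy]; exact one_mem _
      | coprime a b ha hb hab iha ihb =>
        intro y hy hH
        have hpow : ∀ (k : ℕ) (H : Subgroup G), (y ^ k) ^ H.index ∈ H := fun k H => by
          rw [← pow_mul, mul_comm, pow_mul]; exact H.pow_mem (hH H) k
        have h1 : y ^ b ∈ fittingSubgroup G := by
          refine iha _ ?_ (hpow b)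
          rw [orderOf_pow_of_dvd (by omega) (hy ▸ dvd_mul_left b a), hy]
          exact Nat.mul_div_cancel _ (by omega)
        have h2 : y ^ a ∈ fittingSubgroup G := by
          refine ihb _ ?_ (hpow a)
          rw [orderOf_pow_of_dvd (by omega) (hy ▸ dvd_mul_right a b), hy]
          exact Nat.mul_div_cancel_left _ (by omega)
        have h3 : y = (y ^ a) ^ Nat.gcdA a b * (y ^ b) ^ Nat.gcdB a b := by
          rw [← zpow_natCast y a, ← zpow_natCast y b, ← zpow_mul, ← zpow_mul, ← zpow_add,
            ← Nat.gcd_eq_gcd_ab a b, hab]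
          simp
        rw [h3]
        exact mul_mem (zpow_mem h2 _) (zpow_mem h1 _)
    intro y hy hH
    obtain ⟨q, m, hq, hm, he⟩ := hy
    have : Fact q.Prime := ⟨hq.nat_prime⟩
    have hmem : ∀ P : Sylow q G, y ∈ (P : Subgroup G) := by
      intro P
      have hc : (orderOf y).Coprime (P : Subgroup G).index := by
        rw [← he]
        exact Nat.Coprime.pow_left _ ((hq.nat_prime.coprime_iff_not_dvd).2 P.not_dvd_index)
      obtain ⟨k, hk⟩ := exists_pow_eq_self_of_coprime hc.symm
      rw [← hk]
      exact pow_mem (hH _) k
    have hker : (⨅ P : Sylow q G, (P : Subgroup G)) ≤ pCore q G := by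
      have : (⨅ P : Sylow q G, (P : Subgroup G)).Normal := ⟨fun a ha g => by
        rw [Subgroup.mem_iInf] at ha ⊢
        intro P
        have := ha (g⁻¹ • P)
        rw [Sylow.coe_subgroup_smul, Subgroup.mem_pointwise_smul_iff_inv_smul_mem] at this
        simpa using this⟩
      obtain ⟨P⟩ : Nonempty (Sylow q G) := inferInstance
      exact CfsgLib.Cores.le_pCore (P.2.to_le (iInf_le _ P))
    exact CfsgLib.Cores.pCore_le_fittingSubgroup q (hker (Subgroup.mem_iInf.2 hmem))

end Cfsg.Agent.S4263
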