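import Cfsg.Statements.S4265
import Cfsg.Agent.Lib.SolvClasses.Main

set_option autoImplicit false
open Cfsg

namespace Cfsg.Agent.S4265

/-- Let G be a finite solvable subgroup of GL_r(ℂ), r ≥ 1, with Fitting subgroup F(G) normal in G. Then for every subgroup H of G the quotient H/(H ∩ F(G)) has at most 3^{r−1} conjugacy classes. -/
theorem result (r : ℕ) (hr : 1 ≤ r) (G : Subgroup (GL (Fin r) ℂ)) [Finite ↥G] (hsolv : Group.IsSolvable ↥G) [hF : (Cfsg.fittingSubgroup ↥G).Normal] (H : Subgroup ↥G) : Nat.card (ConjClasses (↥H ⧸ (Cfsg.fittingSubgroup ↥G).subgroupOf H)) ≤ 3 ^ (r - 1) := by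
  let ρ : ↥G →* Module.End ℂ (Fin r → ℂ) :=
    (Matrix.toLinAlgEquiv' : Matrix (Fin r) (Fin r) ℂ ≃ₐ[ℂ] _).toMonoidHom.comp ((Units.coeHom _).comp G.subtype)
  have hρ : Function.Injective ρ := fun a b h =>
    Subtype.ext (Units.ext (Matrix.toLinAlgEquiv'.injective h))
  have hrk : Module.finrank ℂ (Fin r → ℂ) = r := by simp
  have hb : CfsgLib.SolvClasses.SubBound (↥G ⧸ fittingSubgroup ↥G) (3 ^ (r - 1)) := by
    have h := CfsgLib.SolvClasses.quotient_fitting_subBound CfsgLib.SolvClasses.sympBound r ↥G (Fin r → ℂ) ρ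
      hsolv hρ (by omega) (by omega)
    rwa [hrk] at h
  set π := (QuotientGroup.mk' (fittingSubgroup ↥G)).comp H.subtype with hπ
  have hker : π.ker = (fittingSubgroup ↥G).subgroupOf H := by
    rw [hπ, ← MonoidHom.comap_ker, QuotientGroup.ker_mk']
    rfl
  exact (CfsgLib.SolvClasses.k_congr ((QuotientGroup.quotientMulEquivOfEq hker.symm).trans
    (QuotientGroup.quotientKerEquivRange π))).trans_le (hb π.range)

end Cfsg.Agent.S4265
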