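import Cfsg.Statements.S4269

set_option autoImplicit false
open Cfsg

namespace Cfsg.Agent.S4269

open scoped commutatorElement

theorem conj_map_eq_iff {G : Type*} [Group G] (H : Subgroup G) (a b : G) :
    H.map (MulAut.conj a).toMonoidHom = H.map (MulAut.conj b).toMonoidHom ↔
      b⁻¹ * a ∈ Subgroup.normalizer (H : Set G) := by
  have hm : ∀ (c x : G), x ∈ H.map (MulAut.conj c).toMonoidHom ↔ c⁻¹ * x * c ∈ H := fun c x => by
    constructor
    · rintro ⟨y, hy, rfl⟩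
      simpa [mul_assoc] using hy
    · intro h
      exact ⟨_, h, by simp [mul_assoc]⟩
  rw [Subgroup.mem_normalizer_iff]
  constructor
  · intro h y
    have h1 := SetLike.ext_iff.1 h (a * y * a⁻¹)
    rw [hm, hm, show a⁻¹ * (a * y * a⁻¹) * a = y by group,
      show b⁻¹ * (a * y * a⁻¹) * b = b⁻¹ * a * y * (b⁻¹ * a)⁻¹ by group] at h1
    exact h1
  · intro h
    ext x
    rw [hm, hm, h (a⁻¹ * x * a), show b⁻¹ * a * (a⁻¹ * x * a) * (b⁻¹ * a)⁻¹ = b⁻¹ * x * b by group]


/-- Let G be a finite group, V an abelian normal subgroup and H a subgroup with HV = G. Then H is pronormal in G (H and gHg⁻¹ are conjugate inside the subgroup they generate, for every g) if and only if every H-invariant subgroup U of V satisfies U = N_U(H)·[H, U], that is, U is the join of U ∩ N_G(H) and the commutator subgroup [H, U]. -/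
theorem result {G : Type*} [Group G] [Finite G]
    (V : Subgroup G) [V.Normal] (hV : IsMulCommutative ↥V) (H : Subgroup G) (hHV : H ⊔ V = ⊤) :
    Cfsg.IsPronormal H ↔
      ∀ U : Subgroup G, U ≤ V → (∀ h ∈ H, U.map (MulAut.conj h).toMonoidHom = U) →
        U = (U ⊓ Subgroup.normalizer (H : Set G)) ⊔ ⁅H, U⁆ := by
  have hc : ∀ a ∈ V, ∀ b ∈ V, a * b = b * a := fun a ha b hb =>
    congrArg Subtype.val (hV.is_comm.comm ⟨a, ha⟩ ⟨b, hb⟩)
  have hHVmem : ∀ g : G, ∃ v ∈ V, ∃ h ∈ H, g = v * h := fun g => by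
    obtain ⟨y, hy, z, hz, hyz⟩ := Subgroup.mem_sup_of_normal_left.1
      (show g ∈ V ⊔ H by rw [sup_comm, hHV]; trivial)
    exact ⟨y, hy, z, hz, hyz.symm⟩
  have hinvU : ∀ U : Subgroup G, (∀ h ∈ H, U.map (MulAut.conj h).toMonoidHom = U) →
      ∀ h ∈ H, ∀ u ∈ U, h * u * h⁻¹ ∈ U := fun U hU h hh u hu => by
    rw [← hU h hh]; exact ⟨u, hu, rfl⟩
  constructor
  · intro hpro U hUV hU
    have hU' := hinvU U hU
    have hCU : ⁅H, U⁆ ≤ U := Subgroup.commutator_le.2 fun h hh u hu => by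
      rw [commutatorElement_def]
      exact U.mul_mem (hU' h hh u hu) (U.inv_mem hu)
    have hHn : H ≤ Subgroup.normalizer ((⁅H, U⁆ : Subgroup G) : Set G) := fun h hh =>
      Subgroup.mem_normalizer_iff.2 fun x => by
        have key : ∀ k ∈ H, ∀ y ∈ (⁅H, U⁆ : Subgroup G), k * y * k⁻¹ ∈ (⁅H, U⁆ : Subgroup G) := by
          intro k hk y hy
          have h1 : (⁅H, U⁆ : Subgroup G).map (MulAut.conj k).toMonoidHom ≤ ⁅H, U⁆ := by
            rw [Subgroup.map_commutator, hU k hk]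
            refine Subgroup.commutator_mono ?_ le_rfl
            rintro _ ⟨z, hz, rfl⟩
            exact H.mul_mem (H.mul_mem hk hz) (H.inv_mem hk)
          exact h1 ⟨y, hy, rfl⟩
        refine ⟨key h hh x, fun hx => ?_⟩
        simpa [mul_assoc] using key h⁻¹ (H.inv_mem hh) _ hx
    refine le_antisymm (fun u hu => ?_) (sup_le inf_le_left hCU)
    obtain ⟨x, hx, hxe⟩ := hpro u
    have hle : H ⊔ H.map (MulAut.conj u).toMonoidHom ≤ ⁅H, U⁆ ⊔ H := by
      refine sup_le le_sup_right ?_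
      rintro _ ⟨h, hh, rfl⟩
      show u * h * u⁻¹ ∈ ⁅H, U⁆ ⊔ H
      rw [show u * h * u⁻¹ = ⁅h, u⁆⁻¹ * h by rw [commutatorElement_def]; group]
      exact Subgroup.mul_mem _ (Subgroup.inv_mem _ (Subgroup.mem_sup_left
        (Subgroup.commutator_mem_commutator hh hu))) (Subgroup.mem_sup_right hh)
    have hx' : x ∈ ((⁅H, U⁆ ⊔ H : Subgroup G) : Set G) := hle hx
    rw [Subgroup.coe_mul_of_right_le_normalizer_left _ _ hHn] at hx'
    obtain ⟨c, hc', h, hh, rfl⟩ := hx'
    have h1 := (conj_map_eq_iff H u (c * h)).1 hxe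
    have h2 : c⁻¹ * u ∈ Subgroup.normalizer (H : Set G) := by
      have := Subgroup.mul_mem _ (Subgroup.le_normalizer hh) h1
      rwa [mul_inv_rev, ← mul_assoc, ← mul_assoc, mul_inv_cancel, one_mul] at this
    rw [show u = c * (c⁻¹ * u) by group]
    exact Subgroup.mul_mem _ (Subgroup.mem_sup_right hc')
      (Subgroup.mem_sup_left ⟨U.mul_mem (U.inv_mem (hCU hc')) hu, h2⟩)
  · intro h g
    obtain ⟨v, hv, k, hk, rfl⟩ := hHVmem g
    set J := H ⊔ H.map (MulAut.conj (v * k)).toMonoidHom with hJ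
    have hJH : H ≤ J := le_sup_left
    have hnorm : ∀ a ∈ H, ∀ u ∈ V, a * u * a⁻¹ ∈ V := fun a _ u hu =>
      (inferInstance : V.Normal).conj_mem u hu a
    have hcomm : ∀ a ∈ H, ∀ u ∈ V, ⁅a, u⁆ ∈ V := fun a ha u hu => by
      rw [commutatorElement_def]; exact V.mul_mem (hnorm a ha u hu) (V.inv_mem hu)
    let U : Subgroup G :=
      { carrier := {u | u ∈ V ∧ ∀ a ∈ H, ⁅a, u⁆ ∈ J}
        one_mem' := ⟨V.one_mem, fun a _ => by rw [commutatorElement_one_right]; exact J.one_mem⟩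
        mul_mem' := fun {p q} hp hq => ⟨V.mul_mem hp.1 hq.1, fun a ha => by
          rw [show ⁅a, p * q⁆ = ⁅a, p⁆ * (p * ⁅a, q⁆ * p⁻¹) by simp only [commutatorElement_def]; group,
            hc p hp.1 _ (hcomm a ha q hq.1), mul_inv_cancel_right]
          exact J.mul_mem (hp.2 a ha) (hq.2 a ha)⟩
        inv_mem' := fun {p} hp => ⟨V.inv_mem hp.1, fun a ha => by
          rw [show ⁅a, p⁻¹⁆ = p⁻¹ * ⁅a, p⁆⁻¹ * p by simp only [commutatorElement_def]; group,
            hc p⁻¹ (V.inv_mem hp.1) _ (V.inv_mem (hcomm a ha p hp.1)), inv_mul_cancel_right]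
          exact J.inv_mem (hp.2 a ha)⟩ }
    have hconj : ∀ a ∈ H, ∀ u ∈ U, a * u * a⁻¹ ∈ U := fun a ha u hu => ⟨hnorm a ha u hu.1, fun b hb => by
      rw [show ⁅b, a * u * a⁻¹⁆ = a * ⁅a⁻¹ * b * a, u⁆ * a⁻¹ by simp only [commutatorElement_def]; group]
      exact J.mul_mem (J.mul_mem (hJH ha) (hu.2 _ (H.mul_mem (H.mul_mem (H.inv_mem ha) hb) ha)))
        (J.inv_mem (hJH ha))⟩
    have hU := h U (fun u hu => hu.1) fun a ha => by
      refine le_antisymm ?_ fun u hu => ⟨a⁻¹ * u * a, ?_, ?_⟩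
      · rintro _ ⟨u, hu, rfl⟩; exact hconj a ha u hu
      · simpa using hconj a⁻¹ (H.inv_mem ha) u hu
      · simp [mul_assoc]
    have hvU : v ∈ U := ⟨hv, fun a ha => by
      rw [show ⁅a, v⁆ = a * (v * a * v⁻¹)⁻¹ by simp only [commutatorElement_def]; group]
      refine J.mul_mem (hJH ha) (J.inv_mem (Subgroup.mem_sup_right ⟨k⁻¹ * a * k,
        H.mul_mem (H.mul_mem (H.inv_mem hk) ha) hk, ?_⟩))
      simp [mul_assoc]⟩
    have hCU : ⁅H, U⁆ ≤ U := Subgroup.commutator_le.2 fun a ha u hu => by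
      rw [commutatorElement_def]; exact U.mul_mem (hconj a ha u hu) (U.inv_mem hu)
    have hCJ : ⁅H, U⁆ ≤ J := Subgroup.commutator_le.2 fun a ha u hu => hu.2 a ha
    have hv' : v ∈ (((U ⊓ Subgroup.normalizer (H : Set G)) ⊔ ⁅H, U⁆ : Subgroup G) : Set G) := hU ▸ hvU
    have hNC : (⁅H, U⁆ : Subgroup G) ≤ Subgroup.normalizer ((U ⊓ Subgroup.normalizer (H : Set G) : Subgroup G) : Set G) :=
      fun c hcC => Subgroup.mem_normalizer_iff.2 fun y => by
        constructor <;> intro hy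
        · rwa [hc c (hCU hcC).1 y hy.1.1, mul_inv_cancel_right]
        · have hcV := (hCU hcC).1
          have e : y = c * y * c⁻¹ := by
            have h1 := hc c⁻¹ (V.inv_mem hcV) (c * y * c⁻¹) hy.1.1
            calc y = c⁻¹ * (c * y * c⁻¹) * c := by group
              _ = _ := by rw [h1]; group
          rw [e]; exact hy
    rw [Subgroup.coe_mul_of_right_le_normalizer_left _ _ hNC] at hv'
    obtain ⟨n, hn, c, hcC, hnc⟩ := hv'
    replace hnc : n * c = v := hnc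
    refine ⟨c, hCJ hcC, (conj_map_eq_iff H (v * k) c).2 ?_⟩
    rw [← hnc, hc n hn.1.1 c (hCU hcC).1, show c⁻¹ * (c * n * k) = n * k by group]
    exact Subgroup.mul_mem _ hn.2 (Subgroup.le_normalizer hk)

end Cfsg.Agent.S4269
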