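import Cfsg.Statements.S4271
import Cfsg.Agent.Lib.FGS.PronormalExt

set_option autoImplicit false
open Cfsg

namespace Cfsg.Agent.S4271

/-- Let p be a prime and G a finite group with a normal subgroup A such that every subgroup of A containing a Sylow p-subgroup of A is pronormal in A, and the Sylow p-subgroups of G/A are self-normalizing. Let T be a Sylow p-subgroup of A. Then every subgroup of G containing a Sylow p-subgroup of G is pronormal in G if and only if every subgroup of N_G(T)/T containing a Sylow p-subgroup of N_G(T)/T is pronormal in N_G(T)/T. (Pronormal: H and gHg⁻¹ are conjugate inside the subgroup they generate, for every g.) -/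
theorem result {G : Type*} [Group G] [Finite G] {p : ℕ} [Fact p.Prime]
    (A : Subgroup G) [A.Normal] (hA : (∀ K : Subgroup ↥A, (∃ P : Sylow p ↥A, (P : Subgroup ↥A) ≤ K) → Cfsg.IsPronormal K))
    (hQ : ∀ P : Sylow p (G ⧸ A), Subgroup.normalizer ((P : Subgroup (G ⧸ A)) : Set (G ⧸ A)) = P)
    (T : Subgroup G) (hT : ∃ P : Sylow p ↥A, (P : Subgroup ↥A).map A.subtype = T) [(T.subgroupOf (Subgroup.normalizer (T : Set G))).Normal] :
    (∀ K : Subgroup G, (∃ P : Sylow p G, (P : Subgroup G) ≤ K) → Cfsg.IsPronormal K) ↔ (∀ K : Subgroup (↥(Subgroup.normalizer (T : Set G)) ⧸ T.subgroupOf (Subgroup.normalizer (T : Set G))), (∃ P : Sylow p (↥(Subgroup.normalizer (T : Set G)) ⧸ T.subgroupOf (Subgroup.normalizer (T : Set G))), (P : Subgroup (↥(Subgroup.normalizer (T : Set G)) ⧸ T.subgroupOf (Subgroup.normalizer (T : Set G)))) ≤ K) → Cfsg.IsPronormal K) := by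
  constructor
  · exact fun h K hK => CfsgLib.FGS.PronormalExt.normalizer_section T h (CfsgLib.FGS.PronormalExt.sylow_le_normalizer A T hT) K hK
  · intro h1 K hK
    refine CfsgLib.FGS.PronormalExt.pronormal_of_conditions A hA ?_ T hT h1 ?_ K hK
    · rintro L ⟨P, hP⟩
      exact CfsgLib.Known.isPronormal_of_normalizer_sylow_le P L hP ((hQ P).le.trans (hP.trans Subgroup.le_normalizer))
    · intro L hL gb hgb
      obtain ⟨S, hS⟩ := hL
      set π := QuotientGroup.mk' A
      set P := S.mapSurjective (QuotientGroup.mk'_surjective A) with hP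
      have hPL : (P : Subgroup (G ⧸ A)) ≤ L.map π := Subgroup.map_mono hS
      have hgP : ((gb • P : Sylow p (G ⧸ A)) : Subgroup (G ⧸ A)) ≤ L.map π := by
        rintro _ ⟨q, hq, rfl⟩
        exact (Subgroup.mem_normalizer_iff.1 hgb q).1 (hPL hq)
      obtain ⟨k, hk⟩ := MulAction.exists_smul_eq (L.map π) ((gb • P).subtype hgP) (P.subtype hPL)
      simp_rw [Sylow.smul_subtype, Subgroup.smul_def] at hk
      have hk' : (k : G ⧸ A) • gb • P = P := Sylow.subtype_injective hk
      rw [smul_smul, Sylow.smul_eq_iff_mem_normalizer] at hk'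
      have h3 : (k : G ⧸ A) * gb ∈ L.map π := hPL ((hQ P).le hk')
      have h4 : gb ∈ L.map π := by
        have := (L.map π).mul_mem ((L.map π).inv_mem k.2) h3
        rwa [inv_mul_cancel_left] at this
      exact Subgroup.map_mono Subgroup.le_normalizer h4

end Cfsg.Agent.S4271
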