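import Cfsg.Statements.S4275

set_option autoImplicit false
open Cfsg

namespace Cfsg.Agent.S4275

/-- Let G be a transitive group of permutations of a finite set Ω, let o ∈ Ω, and let α be an automorphism of G. Then α is induced by conjugation by a permutation of Ω normalizing G if and only if the image under α of the stabilizer of o fixes some point of Ω. -/
theorem result {Ω : Type*} [Fintype Ω] (G : Subgroup (Equiv.Perm Ω)) (htr : MulAction.IsPretransitive G Ω) (o : Ω) (α : G ≃* G) : (∃ σ : Equiv.Perm Ω, σ ∈ Subgroup.normalizer (G : Set (Equiv.Perm Ω)) ∧ ∀ g : G, ((α g : G) : Equiv.Perm Ω) = σ * (g : Equiv.Perm Ω) * σ⁻¹) ↔ ∃ ω : Ω, ∀ g ∈ (MulAction.stabilizer G o).map α.toMonoidHom, g • ω = ω := by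
  constructor
  · rintro ⟨σ, -, hσ⟩
    refine ⟨σ o, ?_⟩
    rintro g ⟨h, hh, rfl⟩
    change ((α h : G) : Equiv.Perm Ω) (σ o) = σ o
    rw [hσ h, Equiv.Perm.mul_apply, Equiv.Perm.mul_apply, Equiv.Perm.inv_def, σ.symm_apply_apply]
    exact congrArg σ hh
  · rintro ⟨ω, hω⟩
    have hst : ∀ g : G, g • o = o ↔ α g • ω = ω := by
      intro g
      have hle : (MulAction.stabilizer G o).map α.toMonoidHom ≤ MulAction.stabilizer G ω := fun y hy => hω y hy
      have heq := Subgroup.eq_of_le_of_card_ge hle (le_of_eq (by
        rw [Subgroup.card_map_of_injective α.injective]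
        obtain ⟨k, hk⟩ := htr.exists_smul_eq o ω
        rw [← hk, MulAction.stabilizer_smul_eq_stabilizer_map_conj,
          Subgroup.card_map_of_injective (MulAut.conj k).injective]))
      constructor
      · exact fun h => hω _ ⟨g, h, rfl⟩
      · intro h
        have : α g ∈ (MulAction.stabilizer G o).map α.toMonoidHom := heq ▸ h
        obtain ⟨g', hg', e⟩ := this
        rwa [← α.injective e]
    have key : ∀ g g' : G, g • o = g' • o ↔ α g • ω = α g' • ω := by
      intro g g'
      have := hst (g'⁻¹ * g)
      rw [map_mul, map_inv, mul_smul, mul_smul, inv_smul_eq_iff, inv_smul_eq_iff] at this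
      exact this
    choose r hr using fun z : Ω => htr.exists_smul_eq o z
    let f : Ω → Ω := fun z => α (r z) • ω
    have hf : ∀ g : G, f (g • o) = α g • ω := fun g => (key _ _).1 (hr (g • o))
    have hinj : Function.Injective f := by
      intro a b h
      have := (key _ _).2 h
      rwa [hr, hr] at this
    let σ := Equiv.ofBijective f ((Fintype.bijective_iff_injective_and_card f).2 ⟨hinj, rfl⟩)
    have hσ : ∀ g : G, ((α g : G) : Equiv.Perm Ω) = σ * (g : Equiv.Perm Ω) * σ⁻¹ := by
      intro g
      rw [eq_mul_inv_iff_mul_eq]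
      ext z
      change α g • f z = f (g • z)
      conv_rhs => rw [← hr z, ← mul_smul, hf, map_mul, mul_smul]
    refine ⟨σ, ?_, hσ⟩
    rw [Subgroup.mem_normalizer_iff]
    intro g
    constructor
    · intro hg
      have := hσ ⟨g, hg⟩
      simp only at this
      rw [← this]
      exact SetLike.coe_mem _
    · intro hg
      obtain ⟨g', hg'⟩ : ∃ g', α g' = ⟨_, hg⟩ := α.surjective _
      have h1 := (hσ g').symm.trans (congrArg Subtype.val hg')
      simp only at h1
      rw [← mul_left_cancel (mul_right_cancel h1)]
      exact g'.2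

end Cfsg.Agent.S4275
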