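import Cfsg.Statements.S4277
import Cfsg.Agent.S0675

set_option autoImplicit false
open Cfsg

namespace Cfsg.Agent.S4277

open MulAction in
section
variable {G Ω : Type*} [Group G] [MulAction G Ω] {p : ℕ}

/-- A matrix intertwining the action with its twist by `α`. -/
def Twisted (α : MulAut G) (M : Ω → Ω → ZMod p) : Prop :=
  ∀ (g : G) (x y : Ω), M (α g • x) (g • y) = M x y

/-- The product of two matrices. -/
def mprod [Fintype Ω] (M N : Ω → Ω → ZMod p) : Ω → Ω → ZMod p := fun x z => ∑ y, M x y * N y z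

theorem twisted_mprod [Fintype Ω] {α β : MulAut G} {M N : Ω → Ω → ZMod p}
    (hM : Twisted α M) (hN : Twisted β N) : Twisted (α * β) (mprod M N) := by
  intro g x z
  unfold mprod
  rw [← Equiv.sum_comp (MulAction.toPerm (β g : G))]
  refine Finset.sum_congr rfl fun y _ => ?_
  show M ((α * β) g • x) (β g • y) * N (β g • y) (g • z) = _
  rw [MulAut.mul_apply, hM, hN]

theorem colsum_mprod [Fintype Ω] {M N : Ω → Ω → ZMod p} (hM : ∀ y, ∑ x, M x y = 1)
    (hN : ∀ y, ∑ x, N x y = 1) (z : Ω) : ∑ x, mprod M N x z = 1 := by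
  unfold mprod
  rw [Finset.sum_comm]
  simp_rw [← Finset.sum_mul, hM, one_mul]
  exact hN z

theorem mprod_assoc [Fintype Ω] (L M N : Ω → Ω → ZMod p) :
    mprod (mprod L M) N = mprod L (mprod M N) := by
  funext x w
  unfold mprod
  simp_rw [Finset.sum_mul, Finset.mul_sum, mul_assoc]
  exact Finset.sum_comm

theorem mprod_comm [Fintype Ω] (P : Subgroup G) (hab : ∀ u ∈ P, ∀ v ∈ P, u * v = v * u) {ω : Ω}
    (hb : Function.Bijective fun u : P => (u : G) • ω) {α β : MulAut G}
    (hα : ∀ u ∈ P, α u = u) (hβ : ∀ u ∈ P, β u = u) {M N : Ω → Ω → ZMod p}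
    (hM : Twisted α M) (hN : Twisted β N) : mprod M N = mprod N M := by
  have hMP : ∀ u : P, ∀ x y : Ω, M ((u : G) • x) ((u : G) • y) = M x y := fun u x y => by
    have := hM u x y
    rwa [hα u u.2] at this
  have hNP : ∀ u : P, ∀ x y : Ω, N ((u : G) • x) ((u : G) • y) = N x y := fun u x y => by
    have := hN u x y
    rwa [hβ u u.2] at this
  have hsw : ∀ u v : P, ∀ x : Ω, (u : G) • (v : G) • x = (v : G) • (u : G) • x := fun u v x => by
    rw [← mul_smul, ← mul_smul, hab u u.2 v v.2]
  funext x z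
  obtain ⟨a, rfl⟩ := hb.2 x
  obtain ⟨c, rfl⟩ := hb.2 z
  let e : P ≃ Ω := Equiv.ofBijective _ hb
  unfold mprod
  haveI := Fintype.ofEquiv Ω e.symm
  rw [← e.sum_comp, ← e.sum_comp]
  let f : P ≃ P := (Equiv.inv P).trans (Equiv.mulLeft (a * c))
  refine Fintype.sum_equiv f _ _ fun b => ?_
  show M ((a : G) • ω) ((b : G) • ω) * N ((b : G) • ω) ((c : G) • ω) =
    N ((a : G) • ω) (((a * c * b⁻¹ : P) : G) • ω) * M (((a * c * b⁻¹ : P) : G) • ω) ((c : G) • ω)
  have h1 : M (((a * c * b⁻¹ : P) : G) • ω) ((c : G) • ω) = M ((a : G) • ω) ((b : G) • ω) := by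
    rw [← hMP (b * c⁻¹) (((a * c * b⁻¹ : P) : G) • ω) ((c : G) • ω)]
    congr 1
    · rw [← mul_smul, ← Subgroup.coe_mul]
      congr 2
      have hc : ∀ u v : P, u * v = v * u := fun u v => Subtype.ext (hab u u.2 v v.2)
      letI : CommGroup P := { (inferInstance : Group P) with mul_comm := hc }
      apply eq_of_div_eq_one
      simp [mul_comm, mul_assoc, mul_left_comm]
    · rw [← mul_smul, ← Subgroup.coe_mul, mul_assoc, inv_mul_cancel, mul_one]
  have h2 : N ((a : G) • ω) (((a * c * b⁻¹ : P) : G) • ω) = N ((b : G) • ω) ((c : G) • ω) := by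
    rw [← hNP (b * a⁻¹) ((a : G) • ω) (((a * c * b⁻¹ : P) : G) • ω)]
    congr 1
    · rw [← mul_smul, ← Subgroup.coe_mul, mul_assoc, inv_mul_cancel, mul_one]
    · rw [← mul_smul, ← Subgroup.coe_mul]
      congr 2
      have hc : ∀ u v : P, u * v = v * u := fun u v => Subtype.ext (hab u u.2 v v.2)
      letI : CommGroup P := { (inferInstance : Group P) with mul_comm := hc }
      apply eq_of_div_eq_one
      simp [mul_comm, mul_assoc, mul_left_comm]
  rw [h1, h2, mul_comm]

theorem exists_twisted [Finite G] [Fintype Ω] [Fact p.Prime] [MulAction.IsPretransitive G Ω]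
    (ω : Ω) (hS : ¬ p ∣ Nat.card (MulAction.stabilizer G ω)) (α : MulAut G) :
    ∃ M : Ω → Ω → ZMod p, Twisted α M ∧ ∀ y, ∑ x, M x y = 1 := by
  classical
  let S' : Subgroup G := (MulAction.stabilizer G ω).map α.toMonoidHom
  let O : Set Ω := MulAction.orbit S' ω
  have hO : (Nat.card O : ZMod p) ≠ 0 := by
    intro h
    rw [ZMod.natCast_eq_zero_iff] at h
    refine hS (h.trans ?_)
    rw [Nat.card_congr ((MulAction.stabilizer G ω).equivMapOfInjective α.toMonoidHom α.injective).toEquiv, Nat.card_coe_set_eq,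
      ← MulAction.index_stabilizer S' ω]
    exact Subgroup.index_dvd_card _
  let m : Ω → ZMod p := fun x => if x ∈ O then (Nat.card O : ZMod p)⁻¹ else 0
  have hm : ∀ s ∈ MulAction.stabilizer G ω, ∀ x, m (α s • x) = m x := by
    intro s hs x
    have hmem : α s • x ∈ O ↔ x ∈ O := by
      let σ : S' := ⟨α s, ⟨s, hs, rfl⟩⟩
      constructor
      · rintro ⟨τ, hτ⟩
        refine ⟨σ⁻¹ * τ, ?_⟩
        show (σ⁻¹ * τ) • ω = x
        rw [mul_smul, show τ • ω = σ • x from hτ, inv_smul_smul]
      · rintro ⟨τ, rfl⟩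
        exact ⟨σ * τ, mul_smul σ τ ω⟩
    simp only [m, hmem]
  choose g hg using fun y : Ω => MulAction.exists_smul_eq G ω y
  refine ⟨fun x y => m ((α (g y))⁻¹ • x), fun h x y => ?_, fun y => ?_⟩
  · have hs : (g (h • y))⁻¹ * h * g y ∈ MulAction.stabilizer G ω := by
      rw [MulAction.mem_stabilizer_iff, mul_smul, mul_smul, hg, inv_smul_eq_iff, hg]
    have := hm _ hs ((α (g y))⁻¹ • x)
    show m ((α (g (h • y)))⁻¹ • α h • x) = m ((α (g y))⁻¹ • x)
    rw [← this]
    congr 1
    simp [← mul_smul, mul_assoc]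
  · show ∑ x, m (MulAction.toPerm (α (g y))⁻¹ x) = 1
    rw [Equiv.sum_comp (MulAction.toPerm (α (g y))⁻¹) m]
    simp only [m, Finset.sum_ite, Finset.sum_const_zero, add_zero, Finset.sum_const, nsmul_eq_mul]
    rw [← Fintype.card_subtype, ← Nat.card_eq_fintype_card]
    exact mul_inv_cancel₀ hO

theorem twisted_eq_of_faithful [Fintype Ω] [FaithfulSMul G Ω]
    (h2 : MulAction.IsMultiplyPretransitive G Ω 2) (hp : (Fintype.card Ω : ZMod p) = 0) [Fact p.Prime]
    {γ : MulAut G} {K : Ω → Ω → ZMod p} (h1 : Twisted (1 : MulAut G) K) (hγ : Twisted γ K)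
    (hK : ∀ y, ∑ x, K x y = 1) : γ = 1 := by
  classical
  rw [MulAction.is_two_pretransitive_iff] at h2
  refine MulEquiv.ext fun g => eq_of_smul_eq_smul fun x : Ω => ?_
  rw [MulAut.one_apply]
  by_contra hne
  have hd : K (γ g • x) (g • x) = K (g • x) (g • x) := by
    rw [hγ, ← h1 g x x, MulAut.one_apply]
  set w := g • x
  set z := γ g • x
  have hoff : ∀ t, t ≠ w → K t w = K z w := by
    intro t ht
    obtain ⟨k, hk1, hk2⟩ := h2 ht hne
    have := h1 k t w
    rw [MulAut.one_apply, hk1, hk2] at this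
    exact this.symm
  have hall : ∀ t, K t w = K w w := fun t => by
    rcases eq_or_ne t w with rfl | ht
    · rfl
    · rw [hoff t ht, hd]
  have h := hK w
  simp only [hall, Finset.sum_const, Finset.card_univ, nsmul_eq_mul, hp, zero_mul] at h
  exact zero_ne_one h

end

/-- A case of the Schreier conjecture: if a finite simple group G has a subgroup of prime index, then the outer automorphism group of G is solvable. -/
theorem result {G : Type*} [Group G] [Finite G] [IsSimpleGroup G] (H : Subgroup G) (hH : H.index.Prime) : Group.IsSolvable (Cfsg.Out G) := by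
  classical
  haveI : Nontrivial G := IsSimpleGroup.toNontrivial
  by_cases hsol : Group.IsSolvable G
  · haveI := hsol
    have hc : ∀ a b : G, a * b = b * a := IsSimpleGroup.comm_iff_isSolvable.mpr hsol
    letI : CommGroup G := { (inferInstance : Group G) with mul_comm := hc }
    haveI : IsCyclic G := IsSimpleGroup.isCyclic
    have : ∀ a b : MulAut G, a * b = b * a := fun a b => by
      apply (IsCyclic.mulAutMulEquiv G).injective
      rw [map_mul, map_mul, mul_comm]
    haveI := Group.isSolvable_of_comm this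
    exact solvable_of_surjective (f := QuotientGroup.mk' (Cfsg.Inn G)) (QuotientGroup.mk'_surjective _)
  let Ω := G ⧸ H
  haveI := Fintype.ofFinite Ω
  set p := H.index with hpdef
  haveI : Fact p.Prime := ⟨hH⟩
  have hcard : Fintype.card Ω = p := (Nat.card_eq_fintype_card).symm
  have hHtop : H ≠ ⊤ := fun h => hH.ne_one (Subgroup.index_eq_one.mpr h)
  have hinj : Function.Injective (MulAction.toPermHom G Ω) := by
    rw [← MonoidHom.ker_eq_bot_iff, ← Subgroup.normalCore_eq_ker]
    rcases (Subgroup.normalCore_normal H).eq_bot_or_eq_top with h | h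
    · exact h
    · exact absurd (top_le_iff.mp (h ▸ H.normalCore_le)) hHtop
  haveI : FaithfulSMul G Ω := ⟨fun {a b} h => hinj (Equiv.ext h)⟩
  have h2 : MulAction.IsMultiplyPretransitive G Ω 2 := by
    set R := (MulAction.toPermHom G Ω).range
    haveI : MulAction.IsPretransitive R Ω := ⟨fun x y => by
      obtain ⟨g, hg⟩ := MulAction.exists_smul_eq G x y
      exact ⟨⟨_, g, rfl⟩, hg⟩⟩
    have hR : ¬ Group.IsSolvable R := fun h => by
      haveI := h
      exact hsol (solvable_of_solvable_injective (f := (MulAction.toPermHom G Ω).rangeRestrict)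
        (fun a b e => hinj (congrArg Subtype.val e)))
    have := (Cfsg.Agent.S0675.result (by rw [hcard]; exact hH) R).resolve_left hR
    rw [MulAction.is_two_pretransitive_iff] at this ⊢
    intro a b c d hab hcd
    obtain ⟨⟨_, g, rfl⟩, h1, h2⟩ := this hab hcd
    exact ⟨g, h1, h2⟩
  have hG : Nat.card G = p * Nat.card H := by rw [mul_comm, Subgroup.card_mul_index]
  have hpH : ¬ p ∣ Nat.card H := by
    intro h
    have h1 : p ^ 2 ∣ Nat.card G := by rw [hG, pow_two]; exact mul_dvd_mul_left _ h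
    have h2 := Subgroup.card_dvd_of_injective _ hinj
    rw [Nat.card_perm, Nat.card_eq_fintype_card (α := Ω), hcard] at h2
    have h3 := h1.trans h2
    rw [← Nat.mul_factorial_pred hH.ne_zero, pow_two] at h3
    have h4 := (Nat.Prime.dvd_factorial hH).mp (Nat.dvd_of_mul_dvd_mul_left hH.pos h3)
    have := hH.two_le
    omega
  obtain ⟨P⟩ : Nonempty (Sylow p G) := inferInstance
  have hPc : Nat.card (P : Subgroup G) = p := by
    rw [P.card_eq_multiplicity, hG, Nat.factorization_mul hH.ne_zero Nat.card_pos.ne',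
      Finsupp.add_apply, hH.factorization_self, Nat.factorization_eq_zero_of_not_dvd hpH,
      add_zero, pow_one]
  haveI : IsCyclic (P : Subgroup G) := isCyclic_of_prime_card hPc
  have hPab : ∀ u ∈ (P : Subgroup G), ∀ v ∈ (P : Subgroup G), u * v = v * u := fun u hu v hv => by
    letI := IsCyclic.commGroup (α := (P : Subgroup G))
    exact congrArg Subtype.val (mul_comm (⟨u, hu⟩ : (P : Subgroup G)) ⟨v, hv⟩)
  set ω : Ω := ((1 : G) : Ω) with hω
  have hst : MulAction.stabilizer G ω = H := MulAction.stabilizer_quotient H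
  have hb : Function.Bijective fun u : (P : Subgroup G) => (u : G) • ω := by
    haveI := Fintype.ofFinite (P : Subgroup G)
    rw [Fintype.bijective_iff_injective_and_card, ← Nat.card_eq_fintype_card (α := (P : Subgroup G)),
      hPc, hcard]
    refine ⟨fun u v e => ?_, rfl⟩
    by_contra hne
    have h1 : (v : G)⁻¹ * u ∈ H := by
      rw [← hst, MulAction.mem_stabilizer_iff, mul_smul, inv_smul_eq_iff]
      exact e
    have h2 : v⁻¹ * u ≠ 1 := fun h => hne (inv_mul_eq_one.mp h).symm
    have h3 : orderOf (v⁻¹ * u) = p := by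
      have := orderOf_dvd_natCard (v⁻¹ * u)
      rw [hPc] at this
      exact (hH.eq_one_or_self_of_dvd _ this).resolve_left (fun h => h2 (orderOf_eq_one_iff.mp h))
    have h4 := Subgroup.orderOf_dvd_natCard H h1
    rw [← h3, ← Subgroup.orderOf_coe] at hpH
    exact hpH h4
  let C : Subgroup (MulAut G) :=
    { carrier := {α | ∀ u ∈ (P : Subgroup G), α u = u}
      one_mem' := fun u _ => rfl
      mul_mem' := fun {α β} hα hβ u hu => by rw [MulAut.mul_apply, hβ u hu, hα u hu]
      inv_mem' := fun {α} hα u hu => by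
        conv_lhs => rw [← hα u hu]
        exact MulAut.inv_apply_self _ α u }
  have hCab : ∀ α ∈ C, ∀ β ∈ C, α * β = β * α := by
    intro α hα β hβ
    have hS : ¬ p ∣ Nat.card (MulAction.stabilizer G ω) := by rwa [hst]
    obtain ⟨M, hM, hMs⟩ := exists_twisted ω hS α
    obtain ⟨N, hN, hNs⟩ := exists_twisted ω hS β
    obtain ⟨M', hM', hMs'⟩ := exists_twisted ω hS α⁻¹
    obtain ⟨N', hN', hNs'⟩ := exists_twisted ω hS β⁻¹
    have hcm : mprod N M' = mprod M' N :=
      mprod_comm (P : Subgroup G) hPab hb hβ (C.inv_mem hα) hN hM'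
    have h1 : Twisted (1 : MulAut G) (mprod (mprod M M') (mprod N N')) := by
      have := twisted_mprod (twisted_mprod hM hM') (twisted_mprod hN hN')
      rwa [mul_inv_cancel, mul_inv_cancel, one_mul] at this
    have h3 : Twisted (α * β * (α⁻¹ * β⁻¹)) (mprod (mprod M M') (mprod N N')) := by
      have := twisted_mprod (twisted_mprod hM hN) (twisted_mprod hM' hN')
      rwa [mprod_assoc M N, ← mprod_assoc N M', hcm, mprod_assoc M' N, ← mprod_assoc M M'] at this
    have h4 := twisted_eq_of_faithful h2 (by rw [hcard, ZMod.natCast_self]) h1 h3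
      (colsum_mprod (colsum_mprod hMs hMs') (colsum_mprod hNs hNs'))
    rw [← mul_inv_eq_one]
    rw [← h4]
    group
  let T : Subgroup (MulAut G) :=
    { carrier := {α | ∀ u, α u ∈ (P : Subgroup G) ↔ u ∈ (P : Subgroup G)}
      one_mem' := fun u => Iff.rfl
      mul_mem' := fun {α β} hα hβ u => (hα (β u)).trans (hβ u)
      inv_mem' := fun {α} hα u => by
        conv_rhs => rw [← MulAut.apply_inv_self _ α u]
        exact (hα _).symm }
  let r : T →* MulAut (P : Subgroup G) :=
    { toFun := fun α =>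
        { toFun := fun u => ⟨(α : MulAut G) u, (α.2 _).mpr u.2⟩
          invFun := fun u => ⟨(α : MulAut G).symm u, (α.2 _).mp
            (by rw [MulEquiv.apply_symm_apply]; exact u.2)⟩
          left_inv := fun u => Subtype.ext (MulEquiv.symm_apply_apply _ _)
          right_inv := fun u => Subtype.ext (MulEquiv.apply_symm_apply _ _)
          map_mul' := fun u v => Subtype.ext (map_mul (α : MulAut G) (u : G) v) }
      map_one' := by ext u; rfl
      map_mul' := fun α β => by ext u; rfl }
  have hTs : Group.IsSolvable T := by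
    haveI : Group.IsSolvable (MulAut (P : Subgroup G)) := Group.isSolvable_of_comm fun a b => by
      apply (IsCyclic.mulAutMulEquiv (P : Subgroup G)).injective
      rw [map_mul, map_mul, mul_comm]
    haveI : Group.IsSolvable r.ker := Group.isSolvable_of_comm fun a b => by
      have hk : ∀ x : r.ker, ((x : T) : MulAut G) ∈ C := fun x u hu => by
        have hx : r (x : T) = 1 := x.2
        exact congrArg Subtype.val (DFunLike.congr_fun hx ⟨u, hu⟩)
      exact Subtype.ext (Subtype.ext (hCab _ (hk a) _ (hk b)))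
    exact solvable_of_ker_le_range r.ker.subtype r (by rw [Subgroup.range_subtype])
  haveI := hTs
  refine solvable_of_surjective (f := (QuotientGroup.mk' (Cfsg.Inn G)).comp T.subtype) ?_
  intro q
  obtain ⟨α, rfl⟩ := QuotientGroup.mk'_surjective _ q
  obtain ⟨g, hg⟩ := MulAction.exists_smul_eq G
    (α • P) P
  have hmem : ∀ u, g * α u * g⁻¹ ∈ (P : Subgroup G) ↔ u ∈ (P : Subgroup G) := by
    intro u
    have e := congrArg (fun Q : Sylow p G => g * α u * g⁻¹ ∈ (Q : Subgroup G)) hg
    simp [Sylow.coe_subgroup_smul, Sylow.pointwise_smul_def, Subgroup.mem_pointwise_smul_iff_inv_smul_mem, ← mul_assoc] at e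
    rw [← e]
  refine ⟨⟨MulAut.conj g * α, fun u => by simpa using hmem u⟩, ?_⟩
  show ((MulAut.conj g * α : MulAut G) : MulAut G ⧸ Cfsg.Inn G) = (α : MulAut G ⧸ Cfsg.Inn G)
  rw [QuotientGroup.mk_mul, (QuotientGroup.eq_one_iff _).mpr (show MulAut.conj g ∈ Cfsg.Inn G from MonoidHom.mem_range.mpr ⟨g, rfl⟩), one_mul]

end Cfsg.Agent.S4277
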