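import Cfsg.Statements.S4278
import Cfsg.Agent.Lib.Chev.Invol.G2Class
-- import your own Cfsg.Agent.* helpers here

set_option autoImplicit false
open Cfsg

namespace Cfsg.Agent.S4278

/-- In the Chevalley group of type G₂ over a finite field of odd order, any two involutions are conjugate. -/
theorem result {F : Type*} [Field F] [Fintype F] (hF : Odd (Fintype.card F)) (s t : ↥(Cfsg.Lie.chevG2.group F)) (hs : orderOf s = 2) (ht : orderOf t = 2) : IsConj s t := by
  have hodd : Odd (Nat.card F) := by rw [Nat.card_eq_fintype_card]; exact hF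
  have key : ∀ x : ↥(Cfsg.Lie.chevG2.group F), orderOf x = 2 → ∃ k ∈ Cfsg.Lie.chevG2.group F,
      k * (x : GL Cfsg.Lie.chevG2.Idx F) * k⁻¹ = CfsgLib.Chev.Invol.G2.tInv F := by
    intro x hx
    have h1 : (x : GL Cfsg.Lie.chevG2.Idx F) ≠ 1 := by
      intro h
      have : x = 1 := Subtype.ext h
      rw [this, orderOf_one] at hx
      omega
    have h2 : (x : GL Cfsg.Lie.chevG2.Idx F) * x = 1 := by
      have := pow_orderOf_eq_one x
      rw [hx, sq] at this
      exact congrArg Subtype.val this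
    exact CfsgLib.Chev.Invol.G2.exists_conj_tInv hodd x.2 h1 h2
  obtain ⟨k, hk, e⟩ := key s hs
  obtain ⟨l, hl, e'⟩ := key t ht
  refine isConj_iff.2 ⟨⟨l, hl⟩⁻¹ * ⟨k, hk⟩, Subtype.ext ?_⟩
  simp only [Subgroup.coe_mul, Subgroup.coe_inv, mul_inv_rev, inv_inv]
  rw [show l⁻¹ * k * (s : GL Cfsg.Lie.chevG2.Idx F) * (k⁻¹ * l) = l⁻¹ * (k * s * k⁻¹) * l by group, e, ← e']
  group

end Cfsg.Agent.S4278
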