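import Cfsg.Statements.S4279
import Cfsg.Agent.Lib.Chev.Invol.G2Cent
-- import your own Cfsg.Agent.* helpers here

set_option autoImplicit false
open Cfsg

namespace Cfsg.Agent.S4279

/-- In the Chevalley group G of type G₂ over a finite field F of odd order q, the centralizer of an involution t has order q²(q² − 1)² and contains two elementwise commuting subgroups, each isomorphic to SL(2, F), which meet exactly in the subgroup generated by t and whose join has index 2 in the centralizer. -/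
theorem result {F : Type*} [Field F] [Fintype F] (hF : Odd (Fintype.card F)) (t : ↥(Cfsg.Lie.chevG2.group F)) (ht : orderOf t = 2) : Nat.card (Subgroup.centralizer ({t} : Set ↥(Cfsg.Lie.chevG2.group F))) = Fintype.card F ^ 2 * (Fintype.card F ^ 2 - 1) ^ 2 ∧ ∃ L₁ L₂ : Subgroup ↥(Cfsg.Lie.chevG2.group F), Nonempty (L₁ ≃* Matrix.SpecialLinearGroup (Fin 2) F) ∧ Nonempty (L₂ ≃* Matrix.SpecialLinearGroup (Fin 2) F) ∧ (∀ x ∈ L₁, ∀ y ∈ L₂, x * y = y * x) ∧ L₁ ⊓ L₂ = Subgroup.zpowers t ∧ L₁ ⊔ L₂ ≤ Subgroup.centralizer ({t} : Set ↥(Cfsg.Lie.chevG2.group F)) ∧ (L₁ ⊔ L₂).relIndex (Subgroup.centralizer ({t} : Set ↥(Cfsg.Lie.chevG2.group F))) = 2 := by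
  have hodd : Odd (Nat.card F) := by rw [Nat.card_eq_fintype_card]; exact hF
  obtain ⟨k, hk, hkt⟩ : ∃ k ∈ Cfsg.Lie.chevG2.group F,
      k * (t : GL Cfsg.Lie.chevG2.Idx F) * k⁻¹ = CfsgLib.Chev.Invol.G2.tInv F := by
    have h1 : (t : GL Cfsg.Lie.chevG2.Idx F) ≠ 1 := by
      intro h
      have : t = 1 := Subtype.ext h
      rw [this, orderOf_one] at ht
      omega
    have h2 : (t : GL Cfsg.Lie.chevG2.Idx F) * t = 1 := by
      have := pow_orderOf_eq_one t
      rw [ht, sq] at this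
      exact congrArg Subtype.val this
    exact CfsgLib.Chev.Invol.G2.exists_conj_tInv hodd t.2 h1 h2
  obtain ⟨L₁, L₂, hc, ⟨e1⟩, ⟨e2⟩, hcomm, hinf, hle, hrel⟩ := CfsgLib.Chev.Invol.G2.centralizer_tG hodd
  let c : MulAut ↥(Cfsg.Lie.chevG2.group F) := MulAut.conj (⟨k, hk⟩⁻¹)
  have hct : c (CfsgLib.Chev.Invol.G2.tG F) = t := by
    refine Subtype.ext ?_
    show k⁻¹ * CfsgLib.Chev.Invol.G2.tInv F * (k⁻¹)⁻¹ = _
    rw [← hkt]; group
  have hcent : (Subgroup.centralizer ({CfsgLib.Chev.Invol.G2.tG F} : Set ↥(Cfsg.Lie.chevG2.group F))).map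
      c.toMonoidHom = Subgroup.centralizer ({t} : Set ↥(Cfsg.Lie.chevG2.group F)) := by
    ext x
    rw [Subgroup.mem_map_equiv, Subgroup.mem_centralizer_singleton_iff, Subgroup.mem_centralizer_singleton_iff,
      ← c.injective.eq_iff, map_mul, map_mul, c.apply_symm_apply, hct]
  have hm : ∀ (L : Subgroup ↥(Cfsg.Lie.chevG2.group F)), Nonempty (L ≃* L.map c.toMonoidHom) :=
    fun L => ⟨L.equivMapOfInjective _ c.injective⟩
  refine ⟨?_, L₁.map c.toMonoidHom, L₂.map c.toMonoidHom, ?_, ?_, ?_, ?_, ?_, ?_⟩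
  · rw [← hcent, Subgroup.card_map_of_injective c.injective, hc, Nat.card_eq_fintype_card]
  · obtain ⟨f⟩ := hm L₁; exact ⟨f.symm.trans e1⟩
  · obtain ⟨f⟩ := hm L₂; exact ⟨f.symm.trans e2⟩
  · rintro _ ⟨x, hx, rfl⟩ _ ⟨y, hy, rfl⟩
    rw [← map_mul, ← map_mul, hcomm x hx y hy]
  · rw [← Subgroup.map_inf_eq _ _ _ c.injective, hinf, MonoidHom.map_zpowers]
    exact congrArg _ hct
  · rw [← Subgroup.map_sup, ← hcent]; exact Subgroup.map_mono hle
  · rw [← Subgroup.map_sup, ← hcent, Subgroup.relIndex_map_map_of_injective _ _ c.injective, hrel]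

end Cfsg.Agent.S4279
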