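import Cfsg.Statements.S4281
import Cfsg.Agent.Lib.Chev.Orders
import Cfsg.Agent.Lib.Known.OddInvol.E8Classes
-- import your own Cfsg.Agent.* helpers here

set_option autoImplicit false
open scoped BigOperators
open Cfsg

namespace Cfsg.Agent.S4281

/-- In the Chevalley group of type E₈ over a finite field of odd order q there are exactly two conjugacy classes of involutions; the centralizer of an involution in one class has order q⁵⁶(q⁸ − 1)·∏_{i=1}^{7}(q^{2i} − 1), and in the other class q⁶⁴(q² − 1)²(q⁶ − 1)(q⁸ − 1)(q¹⁰ − 1)(q¹² − 1)(q¹⁴ − 1)(q¹⁸ − 1). -/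
theorem result {F : Type*} [Field F] [Fintype F] (hF : Odd (Fintype.card F)) : ∃ s t : ↥(Cfsg.Lie.chevE8.group F), orderOf s = 2 ∧ orderOf t = 2 ∧ ¬ IsConj s t ∧ (∀ u : ↥(Cfsg.Lie.chevE8.group F), orderOf u = 2 → IsConj u s ∨ IsConj u t) ∧ Nat.card (Subgroup.centralizer ({s} : Set ↥(Cfsg.Lie.chevE8.group F))) = Fintype.card F ^ 56 * (Fintype.card F ^ 8 - 1) * ∏ i ∈ Finset.Icc 1 7, (Fintype.card F ^ (2 * i) - 1) ∧ Nat.card (Subgroup.centralizer ({t} : Set ↥(Cfsg.Lie.chevE8.group F))) = Fintype.card F ^ 64 * (Fintype.card F ^ 2 - 1) ^ 2 * (Fintype.card F ^ 6 - 1) * (Fintype.card F ^ 8 - 1) * (Fintype.card F ^ 10 - 1) * (Fintype.card F ^ 12 - 1) * (Fintype.card F ^ 14 - 1) * (Fintype.card F ^ 18 - 1) := by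
  have h : Odd (Nat.card F) := by rwa [Nat.card_eq_fintype_card]
  obtain ⟨s, t, h1, h2, h3, h4, h5, h6⟩ :=
    CfsgLib.Chev.OddInvol.two_classes CfsgLib.Chev.OddInvol.E8.tabOK CfsgLib.Chev.card_diag_E8
      CfsgLib.Chev.good_E8.comm h CfsgLib.Chev.OddInvol.E8.reps_ok (by decide +kernel)
      CfsgLib.Chev.OddInvol.E8.cls_ok CfsgLib.Chev.DataE8.weyl_poincare.2
      CfsgLib.Chev.OddInvol.E8.sStab_ok CfsgLib.Chev.OddInvol.E8.tStab_ok
      CfsgLib.Chev.OddInvol.E8.sPoly_ok CfsgLib.Chev.OddInvol.E8.tPoly_ok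
      CfsgLib.Chev.OddInvol.E8.nontriv.1 CfsgLib.Chev.OddInvol.E8.nontriv.2
      (by rw [CfsgLib.Chev.OddInvol.E8.pos_eq.1, CfsgLib.Chev.OddInvol.E8.pos_eq.2]; omega)
      (by decide) (by decide)
  rw [CfsgLib.Chev.OddInvol.E8.pos_eq.1, Nat.card_eq_fintype_card (α := F)] at h5
  rw [CfsgLib.Chev.OddInvol.E8.pos_eq.2, Nat.card_eq_fintype_card (α := F)] at h6
  refine ⟨s, t, h1, h2, h3, h4, h5.trans ?_, h6.trans ?_⟩
  · rw [Finset.prod_Icc_succ_top (by norm_num), Finset.prod_Icc_succ_top (by norm_num),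
      Finset.prod_Icc_succ_top (by norm_num), Finset.prod_Icc_succ_top (by norm_num),
      Finset.prod_Icc_succ_top (by norm_num), Finset.prod_Icc_succ_top (by norm_num),
      Finset.Icc_self, Finset.prod_singleton]
    simp only [List.map_cons, List.map_nil, List.prod_cons, List.prod_nil]; ring
  · simp only [List.map_cons, List.map_nil, List.prod_cons, List.prod_nil]; ring

end Cfsg.Agent.S4281
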