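import Cfsg.Statements.S4282
import Cfsg.Agent.Lib.Transfer.HallHigmanB

set_option autoImplicit false
open Cfsg

open scoped Pointwise

namespace Cfsg.Agent.S4282

open CfsgLib.Solvable CfsgLib.Transfer.HHB
open scoped commutatorElement

universe u

/-- The degree is the order of `x`, or one less with the exceptional structure. -/
theorem component {G : Type u} [Group G] [Finite G] {p q : ℕ} [hp : Fact p.Prime] [hq : Fact q.Prime]
    (hpq : p ≠ q) (Q : Subgroup G) [Q.Normal] (hQ : IsPGroup q Q) (x : G)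
    (hgen : Q ⊔ Subgroup.zpowers x = ⊤)
    (hC : ∀ y ∈ Subgroup.zpowers x, y ≠ 1 →
      Subgroup.centralizer ({y} : Set G) = Subgroup.zpowers x ⊔ Subgroup.center G)
    {K : Type*} [Field K] [IsAlgClosed K] [CharP K p] {V : Type*} [AddCommGroup V] [Module K V]
    [FiniteDimensional K V] [Nontrivial V] (ρ : Representation K G V) (hfaith : Function.Injective ρ)
    (hirr : ∀ W : Submodule K V, (∀ g ∈ Q, Submodule.map (ρ g) W ≤ W) → W = ⊥ ∨ W = ⊤) {n : ℕ}
    (hn : orderOf x = p ^ n) (s : ℕ) (hs : (ρ x - 1) ^ s = 0)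
    (hmin : ∀ k < s, (ρ x - 1) ^ k ≠ 0) :
    p ^ n ≤ s ∨ (p ^ n - 1 ≤ s ∧ (∃ b : ℕ, p ^ n - 1 = q ^ b) ∧ ¬ IsMulCommutative Q) := by
  classical
  rcases Nat.eq_zero_or_pos n with rfl | hn0
  · left
    refine Nat.one_le_iff_ne_zero.2 fun h0 => ?_
    rw [h0, pow_zero] at hs
    exact one_ne_zero hs
  obtain ⟨y, hy⟩ : ∃ y, y = x ^ p ^ (n - 1) := ⟨_, rfl⟩
  have hy1 : y ≠ 1 := hy ▸ fun h => by
    have := orderOf_dvd_of_pow_eq_one h
    rw [hn, Nat.pow_dvd_pow_iff_le_right hp.out.one_lt] at this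
    omega
  have hyx : y ∈ Subgroup.zpowers x := hy ▸ pow_mem (Subgroup.mem_zpowers x) _
  have hCy := hC y hyx hy1
  have hρN : ρ x ^ p ^ n = 1 := by rw [← map_pow, ← hn, pow_orderOf_eq_one, map_one]
  have hirr' : ∀ W : Submodule K V, (∀ z : Q, ∀ v ∈ W, ρ z.1 v ∈ W) → W = ⊥ ∨ W = ⊤ :=
    fun W hW => hirr W fun g hg => by rintro _ ⟨v, hv, rfl⟩; exact hW ⟨g, hg⟩ v hv
  have hschur : ∀ c : G, (∀ z ∈ Q, c * z = z * c) → ∃ t : K, ρ c = t • 1 := fun c hc =>
    schur_scalar (MonoidHom.comp ρ Q.subtype) hirr' (T := ρ c) fun z => by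
      show ρ c * ρ z = ρ z * ρ c
      rw [← map_mul, hc z z.2, map_mul]
  let σ : MulAut Q := MulAut.conjNormal x
  have hσpow : ∀ (i : ℕ) (z : Q), (((σ ^ i) z : Q) : G) = x ^ i * z * (x ^ i)⁻¹ := by
    intro i z
    rw [show σ ^ i = MulAut.conjNormal (x ^ i) from (map_pow _ x i).symm]
    exact MulAut.conjNormal_apply ..
  have hσ : σ ^ p ^ n = 1 := MulEquiv.ext fun z => Subtype.ext (by
    rw [hσpow, ← hn, pow_orderOf_eq_one]; simp)
  have hcentQ : ∀ c ∈ Q, y * c = c * y → ∀ z ∈ Q, c * z = z * c := by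
    intro c hc hyc z hz
    obtain ⟨a, ha, w, hw, rfl⟩ := Subgroup.mem_sup_of_normal_right.1
      (hCy ▸ Subgroup.mem_centralizer_singleton_iff.2 hyc.symm : c ∈ Subgroup.zpowers x ⊔ Subgroup.center G)
    obtain ⟨i, rfl⟩ := ha
    obtain ⟨j, hj⟩ := hQ ⟨_, hc⟩
    have hj' : (x ^ i * w) ^ q ^ j = 1 := congrArg Subtype.val hj
    have hN : (x ^ i * w) ^ p ^ n = w ^ p ^ n := by
      rw [Commute.mul_pow (Subgroup.mem_center_iff.1 hw (x ^ i)), ← zpow_natCast (x ^ i),
        ← zpow_mul, mul_comm, zpow_mul, zpow_natCast, ← hn, pow_orderOf_eq_one, one_zpow, one_mul]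
    have h1 : Commute ((x ^ i * w) ^ p ^ n) z := by
      rw [hN]
      exact Commute.pow_left (Subgroup.mem_center_iff.1 hw z).symm _
    have h2 : (q ^ j).Coprime (p ^ n) := Nat.Coprime.pow j n ((Nat.coprime_primes hq.out hp.out).2 hpq.symm)
    have h3 : ((q ^ j : ℕ) : ℤ) * (q ^ j).gcdA (p ^ n) + ((p ^ n : ℕ) : ℤ) * (q ^ j).gcdB (p ^ n) = 1 := by
      rw [← Nat.gcd_eq_gcd_ab, h2.gcd_eq_one]; rfl
    have h4 : x ^ i * w = ((x ^ i * w) ^ p ^ n) ^ (q ^ j).gcdB (p ^ n) := by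
      conv_lhs => rw [← zpow_one (x ^ i * w), ← h3, zpow_add, zpow_mul, zpow_mul, zpow_natCast,
        zpow_natCast, hj', one_zpow, one_mul]
    rw [h4]
    exact (h1.zpow_left _).eq
  -- `y` moves `Q`
  have hmovedQ : ∃ z : Q, (σ ^ p ^ (n - 1)) z ≠ z := by
    by_contra hcon
    push Not at hcon
    have hall : ∀ z ∈ Q, y * z = z * y := fun z hz => by
      have h1 := congrArg Subtype.val (hcon ⟨z, hz⟩)
      rw [hσpow, ← hy] at h1
      exact mul_inv_eq_iff_eq_mul.1 h1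
    obtain ⟨t, ht⟩ := hschur y fun z hz => hall z hz
    obtain ⟨v, hv⟩ := exists_ne (0 : V)
    have ht1 : t ^ p = 1 := smul_left_injective K hv (show t ^ p • v = (1 : K) • v by
      have h2 : ρ y ^ p = 1 := by
        rw [← map_pow, hy, ← pow_mul, ← pow_succ, Nat.sub_add_cancel hn0, ← hn, pow_orderOf_eq_one,
          map_one]
      rw [ht, smul_pow, one_pow] at h2
      simpa using LinearMap.congr_fun h2 v)
    have ht2 : t = 1 := by
      have h3 : (t - 1) ^ p = 0 := by rw [sub_pow_char, one_pow, ht1, sub_self]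
      exact sub_eq_zero.1 (eq_zero_of_pow_eq_zero h3)
    exact hy1 (hfaith (by rw [ht, ht2, one_smul, map_one]))
  obtain ⟨H, ⟨hHσ, hHmov⟩, hmin'⟩ := (wellFounded_lt (α := Subgroup Q)).has_min
    {H : Subgroup Q | (∀ z ∈ H, σ z ∈ H) ∧ ∃ z ∈ H, (σ ^ p ^ (n - 1)) z ≠ z}
    ⟨⊤, fun z _ => Subgroup.mem_top _, hmovedQ.imp fun z hz => ⟨Subgroup.mem_top _, hz⟩⟩
  obtain ⟨γ, hγ⟩ := CfsgLib.FGS.exists_restrict_mulAut σ hHσ
  have hγN : γ ^ p ^ n = 1 := MulEquiv.ext fun z => Subtype.ext (by rw [hγ, hσ]; rfl)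
  have hsub : ∀ L : Subgroup H, L ≠ ⊤ → (∀ z ∈ L, γ z ∈ L) →
      ∀ z ∈ L, (γ ^ p ^ (n - 1)) z = z := by
    intro L hL hLγ z hz
    by_contra hne
    refine hmin' (L.map H.subtype) ⟨?_, z, ⟨z, hz, rfl⟩, fun h => hne (Subtype.ext ((hγ _ z).trans h))⟩
      (lt_of_le_of_ne (Subgroup.map_subtype_le _) fun h => hL ?_)
    · rintro _ ⟨w, hw, rfl⟩
      refine ⟨γ w, hLγ w hw, ?_⟩
      have h1 := hγ 1 w
      rwa [pow_one, pow_one] at h1
    · exact Subgroup.map_injective H.subtype_injective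
        (h.trans (by rw [← MonoidHom.range_eq_map, Subgroup.range_subtype]))
  obtain ⟨z₀, hz₀, hz₀m⟩ := hHmov
  have hmov : ∃ z, (γ ^ p ^ (n - 1)) z ≠ z :=
    ⟨⟨z₀, hz₀⟩, fun h => hz₀m (by rw [← hγ _ ⟨z₀, hz₀⟩, h])⟩
  have hHq : IsPGroup q H := hQ.to_subgroup H
  obtain ⟨C, hCcent, hCγ, hCtop, hDC, hCmem, hCfpf, -⟩ :=
    minimal_moved_structure (Ne.symm hpq) hHq γ hn0 hγN hsub hmov
  haveI : C.Normal := ⟨fun c hc g => by
    rw [Subgroup.mem_center_iff.1 (hCcent hc) g, mul_inv_cancel_right]; exact hc⟩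
  let ρH : H →* Module.End K V := MonoidHom.comp ρ (Q.subtype.comp H.subtype)
  have hρHinj : Function.Injective ρH :=
    hfaith.comp (Q.subtype_injective.comp H.subtype_injective)
  have hscal : ∀ c ∈ C, ∃ t : K, ρH c = t • 1 := fun c hc => by
    refine hschur _ fun z hz => hcentQ _ c.1.2 ?_ z hz
    have h1 := congrArg Subtype.val ((hγ _ c).symm.trans (congrArg Subtype.val ((hCmem c).1 hc)))
    rw [hσpow, ← hy] at h1
    exact mul_inv_eq_iff_eq_mul.1 h1
  have hqk : (q : K) ≠ 0 := fun h =>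
    hpq ((Nat.prime_dvd_prime_iff_eq hp.out hq.out).1 ((CharP.cast_eq_zero_iff K p q).1 h))
  obtain ⟨f₀, hf₀⟩ := IsPGroup.iff_card.1 hHq
  have hHk : (Nat.card H : K) ≠ 0 := by rw [hf₀, Nat.cast_pow]; exact pow_ne_zero _ hqk
  have hS : ∀ z : H, ρ x * ρH z = ρH (γ z) * ρ x := fun z => by
    show ρ x * ρ ((z : Q) : G) = ρ (((γ z : H) : Q) : G) * ρ x
    have h1 := hγ 1 z
    rw [pow_one] at h1
    rw [h1, hσpow, pow_one, ← map_mul, ← map_mul, inv_mul_cancel_right]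
  by_cases hab : ∀ a b : H, a * b = b * a
  · left
    obtain ⟨z, hz⟩ := hmov
    exact regular_bound (π := ρH) (fun a b => by rw [← map_mul, hab, map_mul]) hHk
      (fun a => by rw [← map_pow, pow_card_eq_one', map_one]) hS hn0 hγN hρN
      ⟨z, fun h => hz (hρHinj h)⟩ hs
  have hnd : ∀ z : H, z ∉ C → ∃ w : H, ρH ⁅w, z⁆ ≠ 1 := by
    intro z hz
    by_contra hcon
    push Not at hcon
    refine hz ((hCmem z).2 (hsub (Subgroup.center H) (fun h => hab fun a b =>
      (Subgroup.mem_center_iff.1 (h ▸ Subgroup.mem_top b : b ∈ Subgroup.center H) a))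
      (fun a ha => (Subgroup.characteristic_iff_le_comap.1
        (inferInstance : (Subgroup.center H).Characteristic) γ) ha) z
      (Subgroup.mem_center_iff.2 fun w => commutatorElement_eq_one_iff_mul_comm.1
        (hρHinj ((hcon w).trans (map_one ρH).symm)))))
  have hsemi : ∀ z : H, z ∉ C → ∀ i, 0 < i → i < p ^ n → z⁻¹ * (γ ^ i) z ∉ C := by
    intro z hz i hi hin hmem
    obtain ⟨t, ht⟩ := exists_mul_mod_prime_pow (p := p) (m := n) hi hin
    have hit : ∀ t, z⁻¹ * (γ ^ (i * t)) z ∈ C := by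
      intro t
      induction t with
      | zero => simp
      | succ t iht =>
        have e1 : z⁻¹ * (γ ^ (i * (t + 1))) z =
            (z⁻¹ * (γ ^ i) z) * (γ ^ i) (z⁻¹ * (γ ^ (i * t)) z) := by
          rw [map_mul, map_inv, mul_add, mul_one, add_comm, pow_add, MulAut.mul_apply]; group
        rw [e1]
        exact C.mul_mem hmem (pow_apply_invariant hCγ i _ iht)
    refine hz (hCfpf _ ?_)
    have h2 := hit t
    rwa [← Nat.mod_add_div (i * t) (p ^ n), pow_add, pow_mul γ (p ^ n), hγN, one_pow, mul_one, ht,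
      Nat.mod_eq_of_lt (Nat.pow_lt_pow_right hp.out.one_lt (by omega))] at h2
  rcases component_bound ρH hscal hDC hCtop hnd hHk γ hCγ hγN hsemi hS hρN with h | ⟨hcard, h⟩
  · exact Or.inl (h s hs)
  · refine Or.inr ⟨h s hs, ?_, fun hc => hab fun a b => Subtype.ext (hc.is_comm.comm a.1 b.1)⟩
    obtain ⟨i, hi⟩ := IsPGroup.iff_card.1 (hHq.to_quotient C)
    obtain ⟨m, -, hm⟩ := (Nat.dvd_prime_pow hq.out).1
      (hi ▸ hcard ▸ Dvd.intro _ rfl : p ^ n - 1 ∣ q ^ i)
    exact ⟨m, hm⟩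

/-- A critical case behind the Hall–Higman theorem. Let p ≠ q be primes and G a finite group generated by a normal q-subgroup Q and a cyclic p-subgroup generated by x, such that the centralizer of every non-identity element of that cyclic subgroup is its product with the centre of G. Let K be an algebraically closed field of characteristic p and ρ a faithful representation of G on a nonzero finite-dimensional K-space whose restriction to Q is irreducible. If s is the least exponent with (ρ(x) − 1)^s = 0, then |⟨x⟩| − 1 ≤ s ≤ |⟨x⟩|; and if s = |⟨x⟩| − 1 then |⟨x⟩| − 1 is a power of q and Q is non-abelian. -/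
theorem result {G : Type*} [Group G] [Finite G] (p q : ℕ) [Fact p.Prime] [Fact q.Prime] (hpq : p ≠ q) (Q : Subgroup G) [Q.Normal] (hQ : IsPGroup q Q) (x : G) (hx : IsPGroup p (Subgroup.zpowers x)) (hgen : Q ⊔ Subgroup.zpowers x = ⊤) (hC : ∀ y ∈ Subgroup.zpowers x, y ≠ 1 → Subgroup.centralizer ({y} : Set G) = Subgroup.zpowers x ⊔ Subgroup.center G) {K : Type*} [Field K] [IsAlgClosed K] [CharP K p] {V : Type*} [AddCommGroup V] [Module K V] [FiniteDimensional K V] [Nontrivial V] (ρ : Representation K G V) (hfaith : Function.Injective ρ) (hirr : ∀ W : Submodule K V, (∀ g ∈ Q, Submodule.map (ρ g) W ≤ W) → W = ⊥ ∨ W = ⊤) (s : ℕ) (hs : (ρ x - 1) ^ s = 0) (hmin : ∀ k < s, (ρ x - 1) ^ k ≠ 0) : Nat.card (Subgroup.zpowers x) - 1 ≤ s ∧ s ≤ Nat.card (Subgroup.zpowers x) ∧ (s = Nat.card (Subgroup.zpowers x) - 1 → (∃ b : ℕ, Nat.card (Subgroup.zpowers x) - 1 = q ^ b) ∧ ¬ IsMulCommutative Q) := by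
  classical
  obtain ⟨n, hn⟩ := IsPGroup.iff_card.1 hx
  rw [Nat.card_zpowers] at hn ⊢
  rw [hn]
  have hρN : ρ x ^ p ^ n = 1 := by rw [← map_pow, ← hn, pow_orderOf_eq_one, map_one]
  haveI : CharP (Module.End K V) p :=
    charP_of_injective_algebraMap (algebraMap K (Module.End K V)).injective p
  have hsle : s ≤ p ^ n := by
    by_contra hlt
    exact hmin (p ^ n) (by omega)
      (by rw [sub_pow_char_pow_of_commute _ _ (Commute.one_right _), one_pow, hρN, sub_self])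
  refine ⟨?_, hsle, ?_⟩ <;>
    rcases component hpq Q hQ x hgen hC ρ hfaith hirr hn s hs hmin with h | ⟨h1, h2, h3⟩
  · omega
  · exact h1
  · intro h'
    have := Nat.pow_pos (n := n) (Fact.out : p.Prime).pos
    omega
  · exact fun _ => ⟨h2, h3⟩

end Cfsg.Agent.S4282
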