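import Cfsg.Statements.S4283
import Cfsg.Agent.Lib.Solvable.Frobenius

set_option autoImplicit false
open Cfsg

namespace Cfsg.Agent.S4283

/-- Let G be a finite group with centre Z and let K, H be abelian subgroups of G containing Z such that G/Z is a Frobenius group with complement H/Z and kernel K/Z. Then the conjugacy class sizes of G are exactly 1, [G : K] and [G : H], and these two indices are coprime. (This is the converse half of the characterization of finite groups whose conjugacy class sizes are exactly 1, m and n with m and n coprime.) -/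
theorem result {G : Type*} [Group G] [Finite G] (K H : Subgroup G) (hZK : Subgroup.center G ≤ K) (hZH : Subgroup.center G ≤ H) (hK : IsMulCommutative K) (hH : IsMulCommutative H) (hFrob : Cfsg.IsFrobeniusComplement (H.map (QuotientGroup.mk' (Subgroup.center G)))) (hker : Cfsg.frobeniusKernel (H.map (QuotientGroup.mk' (Subgroup.center G))) = (K.map (QuotientGroup.mk' (Subgroup.center G)) : Set (G ⧸ Subgroup.center G))) : Set.range (fun x : G => (Subgroup.centralizer ({x} : Set G)).index) = ({1, K.index, H.index} : Set ℕ) ∧ K.index.Coprime H.index := by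
  classical
  set Z := Subgroup.center G with hZ
  set π := QuotientGroup.mk' Z with hπ
  set Hb := H.map π with hHb
  set Kb := K.map π with hKb
  have hπs : Function.Surjective π := QuotientGroup.mk'_surjective Z
  have hkerH : π.ker ≤ H := by rw [hπ, QuotientGroup.ker_mk']; exact hZH
  have hkerK : π.ker ≤ K := by rw [hπ, QuotientGroup.ker_mk']; exact hZK
  have memK : ∀ g, π g ∈ Kb ↔ g ∈ K := fun g => by
    rw [← Subgroup.mem_comap, hKb, Subgroup.comap_map_eq, sup_eq_left.2 hkerK]
  have memH : ∀ g, π g ∈ Hb ↔ g ∈ H := fun g => by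
    rw [← Subgroup.mem_comap, hHb, Subgroup.comap_map_eq, sup_eq_left.2 hkerH]
  have memK' : ∀ q, q ∈ Cfsg.frobeniusKernel Hb ↔ q ∈ Kb := fun q => by rw [hker]; rfl
  have cK : ∀ x ∈ K, x ∉ Z → Subgroup.centralizer ({x} : Set G) = K := by
    intro x hx hxZ
    refine le_antisymm (fun g hg => ?_) (fun g hg => Subgroup.mem_centralizer_singleton_iff.2 (congrArg Subtype.val (hK.is_comm.comm (⟨g, hg⟩ : K) ⟨x, hx⟩)))
    by_contra hgK
    have h1 : π g ∉ Cfsg.frobeniusKernel Hb := fun h => hgK ((memK g).1 ((memK' _).1 h))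
    rw [CfsgLib.Solvable.mem_frobeniusKernel_iff] at h1
    simp only [not_or, not_forall, not_not] at h1
    obtain ⟨hg1, c, hc⟩ := h1
    have hcomm : π g * π x = π x * π g := by rw [← map_mul, ← map_mul, Subgroup.mem_centralizer_singleton_iff.1 hg]
    have hin : c⁻¹ * π x * c ∈ Hb := by
      refine CfsgLib.Solvable.frobenius_mem_of_commute hFrob hc (fun h => hg1 ?_) ?_
      · rw [show π g = c * (c⁻¹ * π g * c) * c⁻¹ by group, h]; group
      · calc c⁻¹ * π x * c * (c⁻¹ * π g * c) = c⁻¹ * (π x * π g) * c := by group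
          _ = _ := by rw [← hcomm]; group
    have hk := CfsgLib.Solvable.frobeniusKernel_conj ((memK' _).2 ((memK x).2 hx)) c⁻¹
    rw [inv_inv] at hk
    have h2 := CfsgLib.Solvable.frobeniusKernel_inter hk hin
    apply hxZ
    rw [← QuotientGroup.eq_one_iff]
    show π x = 1
    rw [show π x = c * (c⁻¹ * π x * c) * c⁻¹ by group, h2]; group
  have cH : ∀ x ∈ H, x ∉ Z → Subgroup.centralizer ({x} : Set G) = H := by
    intro x hx hxZ
    refine le_antisymm (fun g hg => (memH g).1 (CfsgLib.Solvable.frobenius_mem_of_commute hFrob ((memH x).2 hx)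
      (fun h => hxZ ((QuotientGroup.eq_one_iff x).1 h)) ?_))
      (fun g hg => Subgroup.mem_centralizer_singleton_iff.2 (congrArg Subtype.val (hH.is_comm.comm (⟨g, hg⟩ : H) ⟨x, hx⟩)))
    rw [← map_mul, ← map_mul, Subgroup.mem_centralizer_singleton_iff.1 hg]
  have cZ : ∀ x ∈ Z, Subgroup.centralizer ({x} : Set G) = ⊤ := fun x hx => eq_top_iff.2 fun g _ =>
    Subgroup.mem_centralizer_singleton_iff.2 (Subgroup.mem_center_iff.1 hx g)
  have hiH : H.index = Hb.index := (Subgroup.index_map_eq H hπs hkerH).symm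
  have hiK : K.index = Kb.index := (Subgroup.index_map_eq K hπs hkerK).symm
  have hKcard : Nat.card Kb = Hb.index := by
    rw [← CfsgLib.Solvable.card_frobeniusKernel hFrob, hker]; rfl
  have hKidx : Kb.index = Nat.card Hb := by
    have h1 := Subgroup.card_mul_index Kb
    rw [hKcard, ← Subgroup.card_mul_index Hb, mul_comm (Nat.card Hb)] at h1
    exact Nat.eq_of_mul_eq_mul_left (Nat.pos_of_ne_zero Subgroup.index_ne_zero_of_finite) h1
  constructor
  · ext m
    simp only [Set.mem_range, Set.mem_insert_iff, Set.mem_singleton_iff]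
    constructor
    · rintro ⟨x, rfl⟩
      by_cases hxZ : x ∈ Z
      · exact Or.inl (by rw [cZ x hxZ, Subgroup.index_top])
      by_cases hxK : x ∈ K
      · exact Or.inr (Or.inl (by rw [cK x hxK hxZ]))
      refine Or.inr (Or.inr ?_)
      have h1 : π x ∉ Cfsg.frobeniusKernel Hb := fun h => hxK ((memK x).1 ((memK' _).1 h))
      rw [CfsgLib.Solvable.mem_frobeniusKernel_iff] at h1
      simp only [not_or, not_forall, not_not] at h1
      obtain ⟨-, c, hc⟩ := h1
      obtain ⟨c, rfl⟩ := hπs c
      rw [← map_inv, ← map_mul, ← map_mul, memH] at hc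
      have hcZ : c⁻¹ * x * c ∉ Z := fun h => hxZ (by
        have := (inferInstance : Z.Normal).conj_mem _ h c
        rwa [show c * (c⁻¹ * x * c) * c⁻¹ = x by group] at this)
      rw [← cH _ hc hcZ]
      have hmap : Subgroup.centralizer ({c⁻¹ * x * c} : Set G) = (Subgroup.centralizer ({x} : Set G)).map (MulAut.conj c⁻¹).toMonoidHom := by
        ext g
        constructor
        · intro hg
          rw [Subgroup.mem_centralizer_singleton_iff] at hg
          refine ⟨c * g * c⁻¹, Subgroup.mem_centralizer_singleton_iff.2 ?_, show c⁻¹ * (c * g * c⁻¹) * c⁻¹⁻¹ = g by group⟩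
          calc c * g * c⁻¹ * x = c * (g * (c⁻¹ * x * c)) * c⁻¹ := by group
            _ = _ := by rw [hg]; group
        · rintro ⟨u, hu, rfl⟩
          have hu' : u * x = x * u := Subgroup.mem_centralizer_singleton_iff.1 hu
          rw [Subgroup.mem_centralizer_singleton_iff]
          show c⁻¹ * u * c⁻¹⁻¹ * (c⁻¹ * x * c) = _ * (c⁻¹ * u * c⁻¹⁻¹)
          calc _ = c⁻¹ * (u * x) * c := by group
            _ = _ := by rw [hu']; group
      rw [hmap, Subgroup.index_map_of_bijective (f := (MulAut.conj c⁻¹).toMonoidHom) (MulAut.conj c⁻¹).bijective]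
    · rintro (rfl | rfl | rfl)
      · exact ⟨1, by rw [cZ 1 Z.one_mem, Subgroup.index_top]⟩
      · have : ¬ K ≤ Z := fun h => by
          have hb : Kb = ⊥ := (Subgroup.map_eq_bot_iff _).2 (by rw [hπ, QuotientGroup.ker_mk']; exact h)
          rw [hb, Subgroup.card_bot] at hKcard
          exact hFrob.2.1 (Subgroup.index_eq_one.1 hKcard.symm)
        obtain ⟨x, hx, hxZ⟩ := SetLike.not_le_iff_exists.1 this
        exact ⟨x, by rw [cK x hx hxZ]⟩
      · have : ¬ H ≤ Z := fun h => hFrob.1 ((Subgroup.map_eq_bot_iff _).2 (by rw [hπ, QuotientGroup.ker_mk']; exact h))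
        obtain ⟨x, hx, hxZ⟩ := SetLike.not_le_iff_exists.1 this
        exact ⟨x, by rw [cH x hx hxZ]⟩
  · rw [hiK, hiH, hKidx]
    refine Nat.Coprime.symm ?_
    rw [Nat.Coprime, Nat.gcd_comm, Nat.gcd_rec, CfsgLib.Solvable.index_mod_card hFrob, ← Nat.gcd_rec, Nat.gcd_one_right]

end Cfsg.Agent.S4283
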