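import Cfsg.Statements.S4291
import Cfsg.Agent.Lib.Icosa.SixTypes
import Cfsg.Agent.Lib.Icosa.Complement

set_option autoImplicit false
open Cfsg

open scoped Pointwise

namespace Cfsg.Agent.S4291

/-- Let G be a finite group that occurs as a Frobenius complement. Then G has exactly one normal subgroup N such that every Sylow subgroup of N is cyclic and the quotient of G by N is trivial or isomorphic to one of the following five groups: the Klein four-group, the alternating group of degree 4, the symmetric group of degree 4, the alternating group of degree 5, the symmetric group of degree 5. (The quotient is described by a surjective homomorphism with kernel N; the Klein four-group is written as the dihedral group of order 4.) -/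
theorem result {G : Type*} [Group G] [Finite G]
    (hFC : (∃ (L : Type) (_ : Group L) (_ : Finite L) (H : Subgroup L), Cfsg.IsFrobeniusComplement H ∧ Nonempty (G ≃* H))) :
    ∃! N : Subgroup G, N.Normal ∧ (∀ (p : ℕ) [Fact p.Prime] (P : Sylow p N), IsCyclic P) ∧
      (N = ⊤ ∨
        (∃ f : G →* DihedralGroup 2, Function.Surjective f ∧ f.ker = N) ∨
        (∃ f : G →* alternatingGroup (Fin 4), Function.Surjective f ∧ f.ker = N) ∨
        (∃ f : G →* Equiv.Perm (Fin 4), Function.Surjective f ∧ f.ker = N) ∨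
        (∃ f : G →* alternatingGroup (Fin 5), Function.Surjective f ∧ f.ker = N) ∨
        (∃ f : G →* Equiv.Perm (Fin 5), Function.Surjective f ∧ f.ker = N)) := by
  obtain ⟨V, _, _, _, _, ρ, h⟩ := CfsgLib.Icosa.exists_fpf_rep hFC
  obtain ⟨N, hN, hZ, hT⟩ := h.exists_six_type
  have conv : ∀ {M : Subgroup G}, (M = ⊤ ∨
        (∃ f : G →* DihedralGroup 2, Function.Surjective f ∧ f.ker = M) ∨
        (∃ f : G →* alternatingGroup (Fin 4), Function.Surjective f ∧ f.ker = M) ∨
        (∃ f : G →* Equiv.Perm (Fin 4), Function.Surjective f ∧ f.ker = M) ∨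
        (∃ f : G →* alternatingGroup (Fin 5), Function.Surjective f ∧ f.ker = M) ∨
        (∃ f : G →* Equiv.Perm (Fin 5), Function.Surjective f ∧ f.ker = M)) →
      (M = ⊤ ∨ (∃ f : G →* DihedralGroup 2, Function.Surjective f ∧ f.ker = M) ∨
        (∃ (X : Type) (_ : Group X) (f : G →* X), CfsgLib.Icosa.BigType X ∧ Function.Surjective f ∧ f.ker = M)) := by
    rintro M (e | e | ⟨f, hf, e⟩ | ⟨f, hf, e⟩ | ⟨f, hf, e⟩ | ⟨f, hf, e⟩)
    · exact Or.inl e
    · exact Or.inr (Or.inl e)
    · exact Or.inr (Or.inr ⟨_, _, f, CfsgLib.Icosa.bigType_four.1, hf, e⟩)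
    · exact Or.inr (Or.inr ⟨_, _, f, CfsgLib.Icosa.bigType_four.2, hf, e⟩)
    · exact Or.inr (Or.inr ⟨_, _, f, CfsgLib.Icosa.bigType_five.1, hf, e⟩)
    · exact Or.inr (Or.inr ⟨_, _, f, CfsgLib.Icosa.bigType_five.2, hf, e⟩)
  have := hN
  have := hZ
  refine ⟨N, ⟨hN, fun p hp P => hZ.isZGroup p hp.out P, hT⟩, fun N' h' => ?_⟩
  obtain ⟨hN', hP', hT'⟩ := h'
  have : IsZGroup N' := ⟨fun p hp P => @hP' p ⟨hp⟩ P⟩
  exact h.six_type_unique (conv hT') (conv hT)

end Cfsg.Agent.S4291
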