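import Cfsg.Statements.S4295
import Cfsg.Agent.Lib.FGS.QuaternionKernel

set_option autoImplicit false
open Cfsg

namespace Cfsg.Agent.S4295

theorem not_isCyclic_quat : ¬ IsCyclic (QuaternionGroup 2) := by
  intro h
  obtain ⟨g, hg⟩ := h.exists_generator
  have h2 : ∀ a b : QuaternionGroup 2, a * b = b * a := fun a b => by
    obtain ⟨i, rfl⟩ := hg a
    obtain ⟨j, rfl⟩ := hg b
    exact (Commute.zpow_zpow_self g i j).eq
  exact absurd (h2 (QuaternionGroup.a 1) (QuaternionGroup.xa 0)) (by decide)


/-- For a natural number m the following are equivalent: (a) some finite group has a Frobenius complement isomorphic to the quaternion group of order 8 whose Frobenius kernel (the identity together with the elements lying in no conjugate of the complement) has exactly m elements; (b) m is an odd perfect square greater than 1. -/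
theorem result (m : ℕ) :
    (∃ (L : Type) (_ : Group L) (_ : Finite L) (H : Subgroup L), Cfsg.IsFrobeniusComplement H ∧
        Nonempty (H ≃* QuaternionGroup 2) ∧ Nat.card (Cfsg.frobeniusKernel H) = m) ↔
    (Odd m ∧ IsSquare m ∧ 1 < m) := by
  constructor
  · rintro ⟨L, _, _, H, hF, ⟨e⟩, rfl⟩
    have h8 : Nat.card H = 8 := by
      rw [Nat.card_congr e.toEquiv, Nat.card_eq_fintype_card, QuaternionGroup.card]
    have hp : IsPGroup 2 H := IsPGroup.of_card (n := 3) (by rw [h8]; norm_num)
    haveI : Fact (Nat.Prime 2) := ⟨Nat.prime_two⟩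
    obtain ⟨P⟩ : Nonempty (Sylow 2 H) := inferInstance
    have hP : (P : Subgroup H) = ⊤ := P.is_maximal' (IsPGroup.to_subgroup hp ⊤) le_top |>.symm
    have hZ : ¬ IsCyclic (P : Subgroup H) := fun h => not_isCyclic_quat (by
      rw [hP] at h
      haveI := h
      exact isCyclic_of_surjective (Subgroup.topEquiv.trans e) (Subgroup.topEquiv.trans e).surjective)
    obtain ⟨ho, hs⟩ := CfsgLib.FGS.QuatKernel.odd_square H hF ⟨2, inferInstance, P, hZ⟩
    refine ⟨ho, hs, ?_⟩
    rw [CfsgLib.Solvable.card_frobeniusKernel hF]
    exact Subgroup.one_lt_index_of_ne_top hF.2.1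
  · rintro ⟨hodd, ⟨k, rfl⟩, h1⟩
    obtain ⟨V, _, _, ρ, hV, hone, hmul, hfpf⟩ := CfsgLib.FGS.QuatKernel.exists_action k (Nat.odd_mul.1 hodd).1
    haveI : Nontrivial V := Finite.one_lt_card_iff_nontrivial.1 (hV ▸ h1)
    let aut : QuaternionGroup 2 → MulAut (Multiplicative V) := fun h =>
      { toFun := fun v => Multiplicative.ofAdd (ρ h v.toAdd)
        invFun := fun v => Multiplicative.ofAdd (ρ h⁻¹ v.toAdd)
        left_inv := fun v => by simp [← hmul, hone]
        right_inv := fun v => by simp [← hmul, hone]
        map_mul' := fun u v => by simp }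
    let φ : QuaternionGroup 2 →* MulAut (Multiplicative V) :=
      { toFun := aut
        map_one' := MulEquiv.ext fun v => by simp [aut, hone]
        map_mul' := fun g h => MulEquiv.ext fun v => by simp [aut, hmul] }
    have hC := CfsgLib.FGS.isFrobeniusComplement_inr φ (fun g hg v hv => hfpf g hg v.toAdd
      (by simpa [φ, aut] using congrArg Multiplicative.toAdd hv))
    haveI : Finite (Multiplicative V ⋊[φ] QuaternionGroup 2) :=
      Finite.of_equiv _ (SemidirectProduct.equivProd (φ := φ)).symm
    have e := MonoidHom.ofInjective (SemidirectProduct.inr_injective (φ := φ))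
    refine ⟨_, inferInstance, inferInstance, _, hC, ⟨e.symm⟩, ?_⟩
    have hmul' := Subgroup.card_mul_index (SemidirectProduct.inr : QuaternionGroup 2 →* Multiplicative V ⋊[φ] QuaternionGroup 2).range
    rw [CfsgLib.Solvable.card_frobeniusKernel hC]
    rw [← Nat.card_congr e.toEquiv, SemidirectProduct.card, show Nat.card (Multiplicative V) = k * k from hV,
      Nat.card_eq_fintype_card (α := QuaternionGroup 2), QuaternionGroup.card, mul_comm (k * k) (4 * 2)] at hmul'
    exact Nat.eq_of_mul_eq_mul_left (by norm_num) hmul'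

end Cfsg.Agent.S4295
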