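import Cfsg.Statements.S4297
import Cfsg.Agent.Lib.FGS.FPFComplement

set_option autoImplicit false
open Cfsg

namespace Cfsg.Agent.S4297

open Quaternion

/-- The second imaginary unit. -/
def jq : ℍ[ℝ] := ⟨0, 0, 1, 0⟩

@[simp] theorem jq_re : jq.re = 0 := rfl
@[simp] theorem jq_imI : jq.imI = 0 := rfl
@[simp] theorem jq_imJ : jq.imJ = 1 := rfl
@[simp] theorem jq_imK : jq.imK = 0 := rfl

/-- The image of an element of the generalised quaternion group in the real quaternions. -/
noncomputable def qval (n : ℕ) [NeZero n] : QuaternionGroup n → ℍ[ℝ]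
  | .a i => ((ZMod.toCircle i : ℂ) : ℍ[ℝ])
  | .xa i => jq * ((ZMod.toCircle i : ℂ) : ℍ[ℝ])

theorem jmul (z : ℂ) : jq * ((starRingEnd ℂ z : ℂ) : ℍ[ℝ]) = (z : ℍ[ℝ]) * jq := by
  ext <;> simp [Quaternion.re_mul, Quaternion.imI_mul, Quaternion.imJ_mul, Quaternion.imK_mul, QuaternionAlgebra.re_mul] <;> rfl

theorem jj : jq * jq = -1 := by
  ext <;> simp [Quaternion.re_mul, Quaternion.imI_mul, Quaternion.imJ_mul, Quaternion.imK_mul, QuaternionAlgebra.re_mul]

variable {n : ℕ} [NeZero n]

theorem circle_half : (ZMod.toCircle (n : ZMod (2 * n)) : ℂ) = -1 := by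
  have h1 : (ZMod.toCircle (n : ZMod (2 * n)) : ℂ) * (ZMod.toCircle (n : ZMod (2 * n)) : ℂ) = 1 := by
    rw [← Circle.coe_mul, ← AddChar.map_add_eq_mul, ← Nat.cast_add]
    rw [show n + n = 2 * n by ring, ZMod.natCast_self, AddChar.map_zero_eq_one, Circle.coe_one]
  refine (mul_self_eq_one_iff.1 h1).resolve_left fun h => ?_
  have h2 : (n : ZMod (2 * n)) = 0 := ZMod.injective_toCircle (by
    rw [AddChar.map_zero_eq_one]; exact Circle.ext (by simpa using h))
  rw [ZMod.natCast_eq_zero_iff] at h2
  have := Nat.le_of_dvd (NeZero.pos n) h2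
  have := NeZero.pos n
  omega

theorem conj_circle (i : ZMod (2 * n)) :
    starRingEnd ℂ (ZMod.toCircle i : ℂ) = (ZMod.toCircle (-i) : ℂ) := by
  rw [AddChar.map_neg_eq_inv, Circle.coe_inv_eq_conj]

theorem qval_mul (u v : QuaternionGroup n) : qval n (u * v) = qval n u * qval n v := by
  cases u with
  | a i => cases v with
    | a j => simp [qval, AddChar.map_add_eq_mul]
    | xa j =>
      rw [QuaternionGroup.a_mul_xa]
      simp only [qval]
      rw [← mul_assoc, ← jmul, conj_circle, mul_assoc, ← Quaternion.coeComplex_mul, ← Circle.coe_mul,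
        ← AddChar.map_add_eq_mul, neg_add_eq_sub]
  | xa i => cases v with
    | a j => simp [qval, AddChar.map_add_eq_mul, mul_assoc]
    | xa j =>
      rw [QuaternionGroup.xa_mul_xa]
      simp only [qval]
      rw [mul_assoc, ← mul_assoc (_ : ℍ[ℝ]) jq, ← jmul, conj_circle, ← mul_assoc,
        ← mul_assoc, jj, mul_assoc, ← Quaternion.coeComplex_mul, ← Circle.coe_mul,
        ← AddChar.map_add_eq_mul, neg_add_eq_sub, add_sub_assoc, AddChar.map_add_eq_mul,
        Circle.coe_mul, circle_half]
      ext <;> simp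

/-- The homomorphism into the quaternions. -/
noncomputable def qhom (n : ℕ) [NeZero n] : QuaternionGroup n →* ℍ[ℝ] where
  toFun := qval n
  map_one' := by change (((ZMod.toCircle (0 : ZMod (2 * n)) : Circle) : ℂ) : ℍ[ℝ]) = 1; simp
  map_mul' := qval_mul


/-- For every n ≥ 2 the dicyclic group of order 4n (generated by an element a of order 2n and an element x with x² = aⁿ and x a x⁻¹ = a⁻¹) occurs as a Frobenius complement of some finite Frobenius group. -/
theorem result (n : ℕ) (hn : 2 ≤ n) :
    ∃ (L : Type) (_ : Group L) (_ : Finite L) (H : Subgroup L), Cfsg.IsFrobeniusComplement H ∧ Nonempty (H ≃* QuaternionGroup n) := by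
  have : NeZero n := ⟨by omega⟩
  let ψ : QuaternionGroup n →* ℍ[ℝ]ˣ := (qhom n).toHomUnits
  have hψ : Function.Injective ψ := by
    rw [injective_iff_map_eq_one]
    intro u hu
    have hu' : qval n u = 1 := congrArg Units.val hu
    cases u with
    | a i =>
      have : (ZMod.toCircle i : ℂ) = 1 := Complex.ext
        (by simpa [qval] using congrArg QuaternionAlgebra.re hu') (by simpa [qval] using congrArg QuaternionAlgebra.imI hu')
      have h1 : i = 0 := ZMod.injective_toCircle (by
        rw [AddChar.map_zero_eq_one]; exact Circle.ext (by simpa using this))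
      rw [h1]; rfl
    | xa i =>
      exfalso
      have h1 := congrArg QuaternionAlgebra.re hu'
      simp [qval, Quaternion.re_mul, QuaternionAlgebra.re_mul] at h1
  have : Nontrivial ψ.range := (MonoidHom.ofInjective hψ).symm.toEquiv.nontrivial
  have : Finite ψ.range := Finite.of_equiv _ (MonoidHom.ofInjective hψ).toEquiv
  obtain ⟨L, _, _, K, hK, ⟨f⟩⟩ := CfsgLib.FGS.exists_complement_of_subgroup_units ψ.range
  exact ⟨L, inferInstance, inferInstance, K, hK, ⟨((MonoidHom.ofInjective hψ).trans f).symm⟩⟩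

end Cfsg.Agent.S4297
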