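import Cfsg.Statements.S4298
import Cfsg.Agent.Lib.FGS.FPFComplement

set_option autoImplicit false
open Cfsg

namespace Cfsg.Agent.S4298

/-- An embedding of the group of order 24 into that of order 120, as a table on the entries. -/
def tab : List ℕ := [0, 0, 0, 0, 0, 0, 0, 0, 0, 0, 0, 0, 0, 0, 0, 382, 309, 94, 0, 0, 0, 273, 61, 471, 0, 0, 0, 0, 126, 0, 0, 292, 0, 0, 362, 0, 0, 49, 0, 0, 0, 541, 215, 0, 0, 0, 605, 0, 597, 0, 0, 0, 0, 328, 0, 0, 504, 0, 0, 418, 0, 0, 488, 0, 0, 170, 0, 427, 0, 183, 0, 0, 0, 0, 106, 560, 0, 0, 0, 239, 0]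

/-- The action of a matrix over the field of order 3 on the plane over the field of order 5. -/
def act (a b c d : ZMod 3) (v : ZMod 5 × ZMod 5) : ZMod 5 × ZMod 5 :=
  let t := tab.getD (27 * a.val + 9 * b.val + 3 * c.val + d.val) 0
  (((t / 125 : ℕ) : ZMod 5) * v.1 + ((t / 25 % 5 : ℕ) : ZMod 5) * v.2,
    ((t / 5 % 5 : ℕ) : ZMod 5) * v.1 + ((t % 5 : ℕ) : ZMod 5) * v.2)

theorem act_add (a b c d : ZMod 3) (u v : ZMod 5 × ZMod 5) :
    act a b c d (u + v) = act a b c d u + act a b c d v := by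
  simp only [act, Prod.fst_add, Prod.snd_add, Prod.mk_add_mk, mul_add]
  refine Prod.ext ?_ ?_ <;> simp <;> ring

set_option maxRecDepth 100000 in
theorem act_mul_basis : ∀ a b c d : ZMod 3, a * d - b * c = 1 → ∀ e f g h : ZMod 3, e * h - f * g = 1 →
    act (a * e + b * g) (a * f + b * h) (c * e + d * g) (c * f + d * h) (1, 0) = act a b c d (act e f g h (1, 0)) ∧
    act (a * e + b * g) (a * f + b * h) (c * e + d * g) (c * f + d * h) (0, 1) = act a b c d (act e f g h (0, 1)) := by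
  decide +kernel

theorem act_smul (a b c d : ZMod 3) (x : ZMod 5) (v : ZMod 5 × ZMod 5) :
    act a b c d (x * v.1, x * v.2) = (x * (act a b c d v).1, x * (act a b c d v).2) := by
  simp only [act]
  refine Prod.ext ?_ ?_ <;> simp <;> ring

theorem act_mul (a b c d e f g h : ZMod 3) (h1 : a * d - b * c = 1) (h2 : e * h - f * g = 1)
    (v : ZMod 5 × ZMod 5) :
    act (a * e + b * g) (a * f + b * h) (c * e + d * g) (c * f + d * h) v = act a b c d (act e f g h v) := by
  obtain ⟨k1, k2⟩ := act_mul_basis a b c d h1 e f g h h2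
  have hv : v = ((v.1 * 1, v.1 * 0) : ZMod 5 × ZMod 5) + (v.2 * 0, v.2 * 1) := by simp
  rw [hv]
  simp only [act_add, act_smul _ _ _ _ _ ((1 : ZMod 5), (0 : ZMod 5)), act_smul _ _ _ _ _ ((0 : ZMod 5), (1 : ZMod 5))]
  rw [k1, k2, act_smul, act_smul]

set_option maxRecDepth 100000 in
theorem act_fpf : ∀ a b c d : ZMod 3, a * d - b * c = 1 → ¬ (a = 1 ∧ b = 0 ∧ c = 0 ∧ d = 1) →
    ∀ x y : ZMod 5, act a b c d (x, y) = (x, y) → x = 0 ∧ y = 0 := by
  decide +kernel


/-- The group SL(2,3) of order 24 (the binary tetrahedral group) occurs as a Frobenius complement of some finite Frobenius group. -/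
theorem result :
    ∃ (L : Type) (_ : Group L) (_ : Finite L) (H : Subgroup L), Cfsg.IsFrobeniusComplement H ∧ Nonempty (H ≃* Matrix.SpecialLinearGroup (Fin 2) (ZMod 3)) := by
  have hdet : ∀ g : Matrix.SpecialLinearGroup (Fin 2) (ZMod 3), g 0 0 * g 1 1 - g 0 1 * g 1 0 = 1 :=
    fun g => by rw [← Matrix.det_fin_two]; exact g.2
  have : Nontrivial (Matrix.SpecialLinearGroup (Fin 2) (ZMod 3)) :=
    ⟨⟨⟨!![1, 1; 0, 1], by simp [Matrix.det_fin_two]⟩, 1, fun e => by
      have := congrFun (congrFun (congrArg Subtype.val e) 0) 1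
      simp at this⟩⟩
  have : Fact (1 < 5) := ⟨by norm_num⟩
  obtain ⟨L, _, _, K, hK, ⟨f⟩⟩ := CfsgLib.FGS.exists_complement_of_fpf
    (Matrix.SpecialLinearGroup (Fin 2) (ZMod 3)) (ZMod 5 × ZMod 5)
    (fun g v => act (g 0 0) (g 0 1) (g 1 0) (g 1 1) v) (fun g u v => act_add _ _ _ _ u v)
    (fun v => by simp [act, tab, ZMod.val_one, ZMod.val_zero])
    (fun g h v => by
      simp only [Matrix.SpecialLinearGroup.coe_mul, Matrix.mul_apply, Fin.sum_univ_two]
      exact act_mul _ _ _ _ _ _ _ _ (hdet g) (hdet h) v)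
    (fun g hg v hv => by
      have := act_fpf _ _ _ _ (hdet g) (fun e => hg (Matrix.SpecialLinearGroup.ext _ _ fun i j => by
        fin_cases i <;> fin_cases j <;> simp [e.1, e.2.1, e.2.2.1, e.2.2.2])) v.1 v.2 hv
      exact Prod.ext this.1 this.2)
  exact ⟨L, inferInstance, inferInstance, K, hK, ⟨f.symm⟩⟩

end Cfsg.Agent.S4298
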