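import Cfsg.Statements.S4299
import Cfsg.Agent.Lib.FGS.FPFComplement

set_option autoImplicit false
open Cfsg

namespace Cfsg.Agent.S4299

/-- Every nontrivial finite cyclic group occurs as a Frobenius complement of some finite Frobenius group. -/
theorem result {C : Type*} [Group C] [Finite C] [IsCyclic C] [Nontrivial C] :
    ∃ (L : Type) (_ : Group L) (_ : Finite L) (H : Subgroup L), Cfsg.IsFrobeniusComplement H ∧ Nonempty (C ≃* H) := by
  have : NeZero (Nat.card C) := ⟨Nat.card_pos.ne'⟩
  have hcard : Nat.card (rootsOfUnity (Nat.card C) ℂ) = Nat.card C := by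
    exact Complex.card_rootsOfUnity _
  let e : C ≃* rootsOfUnity (Nat.card C) ℂ := mulEquivOfCyclicCardEq hcard.symm
  have : Nontrivial (rootsOfUnity (Nat.card C) ℂ) := e.symm.toEquiv.nontrivial
  obtain ⟨L, _, _, K, hK, ⟨f⟩⟩ :=
    CfsgLib.FGS.exists_complement_of_subgroup_units (rootsOfUnity (Nat.card C) ℂ)
  exact ⟨L, inferInstance, inferInstance, K, hK, ⟨e.trans f⟩⟩

end Cfsg.Agent.S4299
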