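import Cfsg.Statements.S4300

set_option autoImplicit false
open Cfsg

namespace Cfsg.Agent.S4300

theorem fixedPoints_ne_univ {G : Type*} [Group G] {X : Type*} [MulAction G X] [FaithfulSMul G X]
    (N : Subgroup G) (hN : N ≠ ⊥) : MulAction.fixedPoints N X ≠ Set.univ := by
  intro h
  apply hN
  rw [Subgroup.eq_bot_iff_forall]
  intro σ hσ
  refine FaithfulSMul.eq_of_smul_eq_smul (α := X) fun y => ?_
  rw [one_smul]
  exact (Set.eq_univ_iff_forall.1 h y) ⟨σ, hσ⟩


/-- Let G act faithfully and primitively on a set X, and suppose the stabilizer of some point is a simple group. Then either G is simple, or G has a normal subgroup, neither trivial nor the whole group, that acts regularly on X (transitively with trivial point stabilizers). -/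
theorem result {G : Type*} [Group G] {X : Type*} [MulAction G X] [FaithfulSMul G X]
    (hprim : MulAction.IsPreprimitive G X) (x : X) (hsimple : IsSimpleGroup (MulAction.stabilizer G x)) :
    IsSimpleGroup G ∨ ∃ N : Subgroup G, N.Normal ∧ N ≠ ⊥ ∧ N ≠ ⊤ ∧
      MulAction.IsPretransitive N X ∧ ∀ y : X, MulAction.stabilizer N y = ⊥ := by
  by_cases hG : IsSimpleGroup G
  · exact Or.inl hG
  have hnt : Nontrivial G := by
    have := hsimple.toNontrivial
    exact Function.Injective.nontrivial (MulAction.stabilizer G x).subtype_injective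
  obtain ⟨N, hN, hNb, hNt⟩ : ∃ N : Subgroup G, N.Normal ∧ N ≠ ⊥ ∧ N ≠ ⊤ := by
    by_contra h
    push Not at h
    exact hG ⟨fun H hH => or_iff_not_imp_left.2 (h H hH)⟩
  have := hprim
  have htr : MulAction.IsPretransitive N X :=
    MulAction.IsQuasiPreprimitive.isPretransitive_of_normal (fixedPoints_ne_univ N hNb)
  right
  refine ⟨N, hN, hNb, hNt, htr, fun y => ?_⟩
  rw [Subgroup.eq_bot_iff_forall]
  intro n hn
  obtain ⟨m, rfl⟩ := htr.exists_smul_eq x y
  rcases hsimple.eq_bot_or_eq_top_of_normal (N.subgroupOf (MulAction.stabilizer G x)) inferInstance with h | h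
  · have hmem : (m : G)⁻¹ * n * m ∈ MulAction.stabilizer G x := by
      rw [MulAction.mem_stabilizer_iff, mul_smul, mul_smul, inv_smul_eq_iff]
      exact hn
    have hN' : (⟨_, hmem⟩ : MulAction.stabilizer G x) ∈ N.subgroupOf (MulAction.stabilizer G x) :=
      mul_mem (mul_mem (inv_mem m.2) n.2) m.2
    rw [h, Subgroup.mem_bot] at hN'
    have e : (m : G)⁻¹ * n * m = 1 := congrArg Subtype.val hN'
    refine Subtype.ext ?_
    calc (n : G) = m * ((m : G)⁻¹ * n * m) * (m : G)⁻¹ := by group
      _ = 1 := by rw [e]; group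
  · exfalso
    apply hNt
    rw [Subgroup.eq_top_iff']
    intro g
    obtain ⟨k, hk⟩ := htr.exists_smul_eq x (g • x)
    have hs : (k : G)⁻¹ * g ∈ MulAction.stabilizer G x := by
      rw [MulAction.mem_stabilizer_iff, mul_smul, inv_smul_eq_iff]
      exact hk.symm
    have hm : (⟨_, hs⟩ : MulAction.stabilizer G x) ∈ N.subgroupOf (MulAction.stabilizer G x) := h ▸ Subgroup.mem_top _
    have := mul_mem k.2 (show (k : G)⁻¹ * g ∈ N from hm)
    simpa using this

end Cfsg.Agent.S4300
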