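import Cfsg.Statements.S4301

set_option autoImplicit false
open Cfsg

namespace Cfsg.Agent.S4301

/-- One-point extension of a multiply transitive group. Let X be a set and G a group of permutations of Option X (the set X with one extra point ∗ = none) all of whose elements fix ∗, such that G is k-transitive on the points of X for some k ≥ 2, X having at least k points. Suppose a permutation h of Option X and an element g of G satisfy: h interchanges ∗ with a point x of X and fixes a point y of X; g interchanges x and y; (g h)³ and h² lie in G; and for every f in G fixing x, the product h f h lies in G and fixes x. Then an element of the group generated by G and h fixes ∗ exactly when it lies in G, and that group acts (k+1)-transitively on Option X. -/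
theorem result {X : Type*} (G : Subgroup (Equiv.Perm (Option X))) (hfix : ∀ f ∈ G, f none = none)
    (k : ℕ) (hk : 2 ≤ k) (hkX : Nonempty (Fin k ↪ X))
    (htrans : ∀ a b : Fin k ↪ X, ∃ f ∈ G, ∀ i, f (some (a i)) = some (b i))
    (h g : Equiv.Perm (Option X)) (hg : g ∈ G) (x y : X)
    (h1 : h none = some x) (h2 : h (some x) = none) (h3 : h (some y) = some y)
    (h4 : g (some x) = some y) (h5 : g (some y) = some x)
    (h6 : (g * h) ^ 3 ∈ G) (h7 : h ^ 2 ∈ G)
    (h8 : ∀ f ∈ G, f (some x) = some x → h * f * h ∈ G ∧ (h * f * h) (some x) = some x) :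
    (∀ f ∈ Subgroup.closure ((G : Set (Equiv.Perm (Option X))) ∪ {h}), f none = none ↔ f ∈ G) ∧
      MulAction.IsMultiplyPretransitive (Subgroup.closure ((G : Set (Equiv.Perm (Option X))) ∪ {h})) (Option X) (k + 1) := by
  classical
  obtain ⟨e⟩ := hkX
  have h20 : (⟨0, by omega⟩ : Fin k) ≠ ⟨1, by omega⟩ := fun h => by simp at h
  have htwo : ∀ p q p' q' : X, p ≠ q → p' ≠ q' → ∃ f ∈ G, f (some p) = some p' ∧ f (some q) = some q' := by
    intro p q p' q' hpq hpq'
    have ext : ∀ p q : X, p ≠ q → ∃ a : Fin k ↪ X, a ⟨0, by omega⟩ = p ∧ a ⟨1, by omega⟩ = q := by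
      intro p q hpq
      let σ := Equiv.swap (e ⟨0, by omega⟩) p
      have h1 : σ (e ⟨1, by omega⟩) ≠ p := fun h => by
        rw [show p = σ (e ⟨0, by omega⟩) from (Equiv.swap_apply_left _ _).symm] at h
        exact h20 (e.injective (σ.injective h)).symm
      let τ := Equiv.swap (σ (e ⟨1, by omega⟩)) q
      refine ⟨(e.trans σ.toEmbedding).trans τ.toEmbedding, ?_, ?_⟩
      · show τ (σ (e ⟨0, by omega⟩)) = p
        rw [Equiv.swap_apply_left, Equiv.swap_apply_of_ne_of_ne (Ne.symm h1) hpq]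
      · show τ (σ (e ⟨1, by omega⟩)) = q
        exact Equiv.swap_apply_left _ _
    obtain ⟨a, ha0, ha1⟩ := ext p q hpq
    obtain ⟨b, hb0, hb1⟩ := ext p' q' hpq'
    obtain ⟨f, hf, hfab⟩ := htrans a b
    exact ⟨f, hf, by rw [← ha0, ← hb0]; exact hfab _, by rw [← ha1, ← hb1]; exact hfab _⟩
  have hxy : x ≠ y := fun e => by
    have := h2
    rw [e, h3] at this
    exact Option.some_ne_none _ this
  have hh : h⁻¹ = h * (h ^ 2)⁻¹ := by group
  have hh' : h⁻¹ = (h ^ 2)⁻¹ * h := by group
  let inS : Equiv.Perm (Option X) → Prop := fun u => u ∈ G ∨ ∃ a ∈ G, ∃ b ∈ G, u = a * h * b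
  have hmid : inS (h * g * h) := by
    refine Or.inr ⟨g⁻¹ * (g * h) ^ 3 * (h ^ 2)⁻¹, G.mul_mem (G.mul_mem (G.inv_mem hg) h6) (G.inv_mem h7), g⁻¹, G.inv_mem hg, ?_⟩
    simp only [pow_succ, pow_zero, one_mul]; group
  have hmulG : ∀ a ∈ G, ∀ u, inS u → ∀ b ∈ G, inS (a * u * b) := by
    intro a ha u hu b hb
    rcases hu with hu | ⟨c, hc, d, hd, rfl⟩
    · exact Or.inl (G.mul_mem (G.mul_mem ha hu) hb)
    · exact Or.inr ⟨a * c, G.mul_mem ha hc, d * b, G.mul_mem hd hb, by group⟩
  have hhGh : ∀ f ∈ G, inS (h * f * h) := by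
    intro f hf
    by_cases hfx : f (some x) = some x
    · exact Or.inl (h8 f hf hfx).1
    obtain ⟨z, hz⟩ : ∃ z, f (some x) = some z := by
      cases hfs : f (some x) with
      | none => exact absurd (f.injective (hfs.trans (hfix f hf).symm)) (Option.some_ne_none x)
      | some z => exact ⟨z, rfl⟩
    have hzx : z ≠ x := fun e => hfx (by rw [hz, e])
    obtain ⟨f₁, hf₁, h11, h12⟩ := htwo x z x y (Ne.symm hzx) hxy
    set f₂ := g⁻¹ * f₁ * f with hf₂
    have hf₂G : f₂ ∈ G := G.mul_mem (G.mul_mem (G.inv_mem hg) hf₁) hf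
    have hf₂x : f₂ (some x) = some x := by
      rw [hf₂, Equiv.Perm.mul_apply, Equiv.Perm.mul_apply, hz, h12, Equiv.Perm.inv_eq_iff_eq, h4]
    have hf₁x : f₁⁻¹ (some x) = some x := by rw [Equiv.Perm.inv_eq_iff_eq, h11]
    have e : h * f * h = (h * f₁⁻¹ * h) * ((h ^ 2)⁻¹ * (h * g * h) * (h ^ 2)⁻¹) * (h * f₂ * h) := by
      rw [hf₂]; group
    rw [e]
    exact hmulG _ (h8 _ (G.inv_mem hf₁) hf₁x).1 _ (hmulG _ (G.inv_mem h7) _ hmid _ (G.inv_mem h7)) _ (h8 _ hf₂G hf₂x).1
  let K : Subgroup (Equiv.Perm (Option X)) :=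
    { carrier := {u | inS u}
      one_mem' := Or.inl G.one_mem
      mul_mem' := by
        intro u v hu hv
        rcases hu with hu | ⟨a, ha, b, hb, rfl⟩
        · simpa using hmulG u hu v hv 1 G.one_mem
        rcases hv with hv | ⟨c, hc, d, hd, rfl⟩
        · exact Or.inr ⟨a, ha, b * v, G.mul_mem hb hv, by group⟩
        show inS _
        rw [show a * h * b * (c * h * d) = a * (h * (b * c) * h) * d by group]
        exact hmulG a ha _ (hhGh _ (G.mul_mem hb hc)) d hd
      inv_mem' := by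
        intro u hu
        rcases hu with hu | ⟨a, ha, b, hb, rfl⟩
        · exact Or.inl (G.inv_mem hu)
        · exact Or.inr ⟨b⁻¹ * (h ^ 2)⁻¹, G.mul_mem (G.inv_mem hb) (G.inv_mem h7), a⁻¹, G.inv_mem ha, by group⟩ }
  set C := Subgroup.closure ((G : Set (Equiv.Perm (Option X))) ∪ {h}) with hC
  have hCK : C ≤ K := by
    rw [hC, Subgroup.closure_le]
    rintro u (hu | rfl)
    · exact Or.inl hu
    · exact Or.inr ⟨1, G.one_mem, 1, G.one_mem, by group⟩
  have hGC : ∀ f ∈ G, f ∈ C := fun f hf => Subgroup.subset_closure (Or.inl hf)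
  have hhC : h ∈ C := Subgroup.subset_closure (Or.inr rfl)
  refine ⟨fun f hf => ⟨fun hfn => ?_, fun hfG => hfix f hfG⟩, ⟨fun a b => ?_⟩⟩
  · rcases hCK hf with hG | ⟨a, ha, b, hb, rfl⟩
    · exact hG
    · rw [Equiv.Perm.mul_apply, Equiv.Perm.mul_apply, hfix b hb, h1] at hfn
      exact absurd (a.injective (hfn.trans (hfix a ha).symm)) (Option.some_ne_none x)
  · have toNone : ∀ z : Option X, ∃ u ∈ C, u z = none := by
      intro z
      cases z with
      | none => exact ⟨1, C.one_mem, rfl⟩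
      | some z =>
        rcases eq_or_ne z x with rfl | hzx
        · exact ⟨h, hhC, h2⟩
        obtain ⟨f, hf, hfx, -⟩ := htwo z x x z hzx (Ne.symm hzx)
        exact ⟨h * f, C.mul_mem hhC (hGC f hf), by rw [Equiv.Perm.mul_apply, hfx, h2]⟩
    obtain ⟨u, hu, hu0⟩ := toNone (a (Fin.last k))
    obtain ⟨v, hv, hv0⟩ := toNone (b (Fin.last k))
    have restrict : ∀ (c : Fin (k + 1) ↪ Option X) (w : Equiv.Perm (Option X)), w (c (Fin.last k)) = none →
        ∃ c' : Fin k ↪ X, ∀ i : Fin k, w (c i.castSucc) = some (c' i) := by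
      intro c w hw
      have hs : ∀ i : Fin k, ∃ z, w (c i.castSucc) = some z := fun i => by
        cases hc : w (c i.castSucc) with
        | none => exact absurd (c.injective (w.injective (hc.trans hw.symm))) (Fin.castSucc_lt_last i).ne
        | some z => exact ⟨z, rfl⟩
      choose c' hc' using hs
      exact ⟨⟨c', fun i j hij => Fin.castSucc_injective _ (c.injective (w.injective (by rw [hc', hc', hij])))⟩, hc'⟩
    obtain ⟨a', ha'⟩ := restrict a u hu0
    obtain ⟨b', hb'⟩ := restrict b v hv0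
    obtain ⟨f, hf, hfab⟩ := htrans a' b'
    refine ⟨⟨v⁻¹ * f * u, C.mul_mem (C.mul_mem (C.inv_mem hv) (hGC f hf)) hu⟩, Function.Embedding.ext fun i => ?_⟩
    show (v⁻¹ * f * u) (a i) = b i
    rw [Equiv.Perm.mul_apply, Equiv.Perm.mul_apply, Equiv.Perm.inv_eq_iff_eq]
    refine Fin.lastCases ?_ (fun j => ?_) i
    · rw [hu0, hv0, hfix f hf]
    · rw [ha', hb', hfab]

end Cfsg.Agent.S4301
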