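import Cfsg.Statements.S4303
import Cfsg.Agent.Lib.SylowNumbers.Product

set_option autoImplicit false
universe u
open Cfsg

namespace Cfsg.Agent.S4303

/-- For a finite group `G` and a prime `p`, the number of Sylow `p`-subgroups of `G` is a product of natural numbers each of which is either a prime power congruent to 1 modulo `p` or the number of Sylow `p`-subgroups of some finite simple group. -/
theorem result {G : Type u} [Group G] [Finite G]
    (p : ℕ) [Fact p.Prime] :
    ∃ l : List ℕ, l.prod = Nat.card (Sylow p G) ∧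
      ∀ m ∈ l, (IsPrimePow m ∧ m % p = 1) ∨
        ∃ (S : Type u) (_ : Group S) (_ : Finite S), IsSimpleGroup S ∧ m = Nat.card (Sylow p S) := by
  refine CfsgLib.SylowNumbers.sylow_number_induction.{u} (p := p)
    (fun n => ∃ l : List ℕ, l.prod = n ∧
      ∀ m ∈ l, (IsPrimePow m ∧ m % p = 1) ∨
        ∃ (S : Type u) (_ : Group S) (_ : Finite S), IsSimpleGroup S ∧ m = Nat.card (Sylow p S))
    ⟨[], rfl, by simp⟩ ?_ ?_ (fun _ _ => True) (fun _ _ _ _ _ _ => ⟨trivial, trivial⟩) ?_ _ G rfl trivial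
  · rintro a b ⟨l, rfl, hl⟩ ⟨l', rfl, hl'⟩
    exact ⟨l ++ l', List.prod_append, fun m hm => (List.mem_append.1 hm).elim (hl m) (hl' m)⟩
  · intro a ha
    refine ⟨(a.primeFactors.toList.map fun ℓ => ℓ ^ a.factorization ℓ), ?_, fun m hm => Or.inl ?_⟩
    · rw [Finset.prod_map_toList]
      exact Nat.prod_factorization_pow_eq_self ha.1
    · obtain ⟨ℓ, hℓ, rfl⟩ := List.mem_map.1 hm
      rw [Finset.mem_toList] at hℓ
      have hp' := Nat.prime_of_mem_primeFactors hℓ
      refine ⟨hp'.isPrimePow.pow ?_, ?_⟩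
      · exact (hp'.factorization_pos_of_dvd ha.1 (Nat.dvd_of_mem_primeFactors hℓ)).ne'
      · have := ha.2 ℓ hp'
        rwa [Nat.ModEq, Nat.one_mod_eq_one.2 (Fact.out : p.Prime).ne_one] at this
  · intro S _ _ hS _
    exact ⟨[Nat.card (Sylow p S)], by simp, fun m hm => Or.inr ⟨S, inferInstance, inferInstance, hS, List.mem_singleton.1 hm⟩⟩

end Cfsg.Agent.S4303
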