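import Cfsg.Statements.S4305
import Cfsg.Agent.Lib.FGS.S3Linear

set_option autoImplicit false
open Cfsg

namespace Cfsg.Agent.S4305
open CfsgLib.FGS.S3
open scoped commutatorElement

/-- An element fixed modulo an invariant subgroup lies in it. -/
theorem fixed_mem {G : Type*} [Group G] [Finite G] (hcop : (Nat.card G).Coprime 6) (s u : MulAut G)
    (hs3 : s ^ 3 = 1) (hu2 : u ^ 2 = 1) (hrel : u * s * u⁻¹ = s⁻¹)
    (hfix : ∀ g : G, s g = g → u g = g → g = 1) (K : Subgroup G) (hKs : ∀ k ∈ K, s k ∈ K)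
    (hKu : ∀ k ∈ K, u k ∈ K) {x : G} (h1 : x⁻¹ * s x ∈ K) (h2 : x⁻¹ * u x ∈ K) : x ∈ K := by
  haveI : Fact (Nat.Prime 3) := ⟨Nat.prime_three⟩
  haveI : Fact (Nat.Prime 2) := ⟨Nat.prime_two⟩
  have hd : ∀ (L : Subgroup G) (q : ℕ), q.Prime → q ∣ 6 → ¬ q ∣ Nat.card L := fun L q hq h6 hd =>
    hq.ne_one (Nat.eq_one_of_dvd_coprimes hcop (hd.trans (Subgroup.card_subgroup_dvd_card L)) h6)
  obtain ⟨k, hk, hk'⟩ := exists_fixed_mul s hs3 K hKs (hd K 3 Nat.prime_three (by norm_num)) h1
  set y := x * k with hy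
  let K2 : Subgroup G := K ⊓ MonoidHom.eqLocus s.toMonoidHom (MonoidHom.id G)
  have hsu : s * u = u * s⁻¹ := by
    have h : u * s = s⁻¹ * u := by rw [← hrel]; group
    calc s * u = s * (u * s) * s⁻¹ := by group
      _ = _ := by rw [h]; group
  have huc : ∀ c, s c = c → s (u c) = u c := fun c hc => by
    rw [← MulAut.mul_apply, hsu, MulAut.mul_apply]
    congr 1
    show s.symm c = c
    exact (MulEquiv.symm_apply_eq s).2 hc.symm
  have hK2u : ∀ c ∈ K2, u c ∈ K2 := fun c hc => ⟨hKu c hc.1, huc c hc.2⟩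
  obtain ⟨k2, hk2, hk2'⟩ := exists_fixed_mul u hu2 K2 hK2u (hd K2 2 Nat.prime_two (by norm_num)) (x := y) ⟨by
      have e : y⁻¹ * u y = k⁻¹ * (x⁻¹ * u x) * u k := by rw [hy, map_mul]; group
      rw [e]
      exact K.mul_mem (K.mul_mem (K.inv_mem hk) h2) (hKu k hk), by
      show s (y⁻¹ * u y) = y⁻¹ * u y
      rw [map_mul, map_inv, hk', huc y hk']⟩
  have hone := hfix (y * k2) (by rw [map_mul, hk', show s k2 = k2 from hk2.2]) hk2'
  rw [hy, mul_assoc] at hone
  rw [eq_inv_of_mul_eq_one_left hone]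
  exact K.inv_mem (K.mul_mem hk hk2.1)

universe u0 in
theorem key (c : ℕ) : ∀ (G : Type u0) [Group G] [Finite G] [Group.IsSolvable G], Nat.card G = c →
    (Nat.card G).Coprime 6 → ∀ s u : MulAut G, s ^ 3 = 1 → u ^ 2 = 1 → u * s * u⁻¹ = s⁻¹ →
    (∀ g : G, s g = g → u g = g → g = 1) → Group.IsNilpotent (commutator G) := by
  induction c using Nat.strong_induction_on with
  | _ c ih =>
  intro G _ _ _ hc hcop s u hs3 hu2 hrel hfix
  subst hc
  rcases subsingleton_or_nontrivial G with hsub | hnt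
  · infer_instance
  obtain ⟨N, ⟨hNn, hNne, hNs, hNu⟩, hNmin⟩ := (Set.toFinite {N : Subgroup G | N.Normal ∧ N ≠ ⊥ ∧
      (∀ x ∈ N, s x ∈ N) ∧ ∀ x ∈ N, u x ∈ N}).exists_minimal
    ⟨⊤, inferInstance, top_ne_bot, fun _ _ => trivial, fun _ _ => trivial⟩
  have hmap : ∀ (e : MulAut G), (∀ x ∈ N, e x ∈ N) → N.map e.toMonoidHom = N := fun e he =>
    Subgroup.eq_of_le_of_card_ge (by rintro _ ⟨k, hk, rfl⟩; exact he k hk)
      (by rw [Subgroup.card_map_of_injective e.injective])
  -- `N` is an elementary abelian `p`-group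
  have hNc : ∀ a ∈ N, ∀ b ∈ N, a * b = b * a := by
    haveI : Nontrivial N := (Subgroup.nontrivial_iff_ne_bot N).2 hNne
    have hlt : (⁅N, N⁆ : Subgroup G) < N := by
      rw [← Subgroup.map_subtype_commutator]
      conv_rhs => rw [← Subgroup.range_subtype N, MonoidHom.range_eq_map]
      exact (Subgroup.map_lt_map_iff_of_injective N.subtype_injective).2
        (Group.IsSolvable.commutator_lt_top_of_nontrivial N)
    have hbot : (⁅N, N⁆ : Subgroup G) = ⊥ := by
      by_contra hne
      have hinv : ∀ e : MulAut G, (∀ x ∈ N, e x ∈ N) → ∀ x ∈ (⁅N, N⁆ : Subgroup G), e x ∈ (⁅N, N⁆ : Subgroup G) := by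
        intro e he x hx
        have h1 : (⁅N, N⁆ : Subgroup G).map e.toMonoidHom = ⁅N, N⁆ := by
          rw [Subgroup.map_commutator, hmap e he]
        exact h1.le ⟨x, hx, rfl⟩
      exact hlt.not_ge (hNmin ⟨inferInstance, hne, hinv s hNs, hinv u hNu⟩ hlt.le)
    intro a ha b hb
    exact commutatorElement_eq_one_iff_mul_comm.1 (Subgroup.mem_bot.1
      (hbot ▸ Subgroup.commutator_mem_commutator ha hb))
  obtain ⟨p, hp, hpd⟩ := Nat.exists_prime_and_dvd (n := Nat.card N) (by
    rw [Ne, Subgroup.card_eq_one]; exact hNne)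
  haveI : Fact p.Prime := ⟨hp⟩
  have hNp : IsPGroup p N := by
    let P : Subgroup G :=
      { carrier := {x | x ∈ N ∧ x ^ p = 1}
        one_mem' := ⟨N.one_mem, one_pow p⟩
        mul_mem' := fun {a b} ha hb => ⟨N.mul_mem ha.1 hb.1, by
          rw [(show Commute a b from hNc a ha.1 b hb.1).mul_pow, ha.2, hb.2, one_mul]⟩
        inv_mem' := fun {a} ha => ⟨N.inv_mem ha.1, by rw [inv_pow, ha.2, inv_one]⟩ }
    have hPn : P.Normal := ⟨fun x hx g => ⟨hNn.conj_mem x hx.1 g, by rw [conj_pow, hx.2]; group⟩⟩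
    have hPne : P ≠ ⊥ := by
      obtain ⟨x, hx⟩ := exists_prime_orderOf_dvd_card' p hpd
      intro h
      have h1 : (x : G) ∈ P := ⟨x.2, by
        rw [← orderOf_dvd_iff_pow_eq_one, Subgroup.orderOf_coe, hx]⟩
      rw [h, Subgroup.mem_bot, OneMemClass.coe_eq_one] at h1
      rw [h1, orderOf_one] at hx
      exact hp.ne_one hx.symm
    have hle := hNmin ⟨hPn, hPne, fun x hx => ⟨hNs x hx.1, by rw [← map_pow, hx.2, map_one]⟩,
      fun x hx => ⟨hNu x hx.1, by rw [← map_pow, hx.2, map_one]⟩⟩ fun x hx => hx.1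
    exact fun x => ⟨1, Subtype.ext (by rw [pow_one]; exact (hle x.2).2)⟩
  -- the quotient
  let sq : MulAut (G ⧸ N) := QuotientGroup.congr N N s (hmap s hNs)
  let uq : MulAut (G ⧸ N) := QuotientGroup.congr N N u (hmap u hNu)
  have hsqm : ∀ x : G, sq (x : G ⧸ N) = ((s x : G) : G ⧸ N) := fun x => rfl
  have huqm : ∀ x : G, uq (x : G ⧸ N) = ((u x : G) : G ⧸ N) := fun x => rfl
  have hquot : Group.IsNilpotent (commutator (G ⧸ N)) := by
    haveI : Group.IsSolvable (G ⧸ N) := Group.isSolvable_of_surjective (QuotientGroup.mk'_surjective N)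
    refine ih _ ?_ (G ⧸ N) rfl (hcop.coprime_dvd_left ?_) sq uq ?_ ?_ ?_ ?_
    · rw [← Subgroup.index_eq_card]
      rw [← N.index_mul_card]
      exact lt_mul_of_one_lt_right (Nat.pos_of_ne_zero Subgroup.index_ne_zero_of_finite)
        ((Subgroup.one_lt_card_iff_ne_bot N).2 hNne)
    · rw [← Subgroup.index_eq_card]; exact N.index_dvd_card
    · ext x; induction x using QuotientGroup.induction_on with
      | H x => rw [pow_three, MulAut.mul_apply, MulAut.mul_apply, hsqm, hsqm, hsqm, ← MulAut.mul_apply,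
          ← MulAut.mul_apply, mul_assoc, ← pow_three, hs3]; rfl
    · ext x; induction x using QuotientGroup.induction_on with
      | H x => rw [pow_two, MulAut.mul_apply, huqm, huqm, ← MulAut.mul_apply, ← pow_two, hu2]; rfl
    · rw [eq_inv_iff_mul_eq_one, mul_assoc]
      have h : uq * sq = sq⁻¹ * uq := by
        ext x; induction x using QuotientGroup.induction_on with
        | H x =>
          have h1 : u * s = s⁻¹ * u := by rw [← hrel]; group
          rw [MulAut.mul_apply, MulAut.mul_apply, hsqm, huqm, ← MulAut.mul_apply, h1]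
          rfl
      rw [← mul_assoc, h]; group
    · intro g hg1 hg2
      induction g using QuotientGroup.induction_on with
      | H g =>
        rw [hsqm] at hg1; rw [huqm] at hg2
        exact (QuotientGroup.eq_one_iff g).2 (fixed_mem hcop s u hs3 hu2 hrel hfix N hNs hNu
          (QuotientGroup.eq.1 hg1.symm) (QuotientGroup.eq.1 hg2.symm))
  -- the action on `N`
  let V := Additive N
  letI : DistribMulAction (MulAut N) V :=
    { smul := fun e v => Additive.ofMul (e (Additive.toMul v))
      one_smul := fun v => rfl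
      mul_smul := fun a b v => rfl
      smul_zero := fun e => congrArg Additive.ofMul (map_one e)
      smul_add := fun e a b => congrArg Additive.ofMul (map_mul e (Additive.toMul a) (Additive.toMul b)) }
  haveI : Finite (MulAut N) := Finite.of_injective (β := N → N) _ DFunLike.coe_injective
  haveI : Finite V := inferInstanceAs (Finite N)
  letI : CommGroup N :=
    { (inferInstance : Group N) with mul_comm := fun a b => Subtype.ext (hNc a a.2 b b.2) }
  let restr : ∀ e : MulAut G, (∀ x ∈ N, e x ∈ N) → MulAut N := fun e he =>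
    (e.subgroupMap N).trans (MulEquiv.subgroupCongr (hmap e he))
  let sN := restr s hNs
  let uN := restr u hNu
  have hsN : ∀ x : N, (sN x : G) = s x := fun x => rfl
  have huN : ∀ x : N, (uN x : G) = u x := fun x => rfl
  let φ : G →* MulAut N := MulAut.conjNormal
  have hφ : ∀ g (x : N), (φ g x : G) = g * x * g⁻¹ := fun g x => rfl
  have hsφ : ∀ g, sN * φ g * sN⁻¹ = φ (s g) := fun g => by
    rw [mul_inv_eq_iff_eq_mul]
    ext x
    simp only [MulAut.mul_apply, hsN, hφ, map_mul, map_inv]
  have huφ : ∀ g, uN * φ g * uN⁻¹ = φ (u g) := fun g => by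
    rw [mul_inv_eq_iff_eq_mul]
    ext x
    simp only [MulAut.mul_apply, huN, hφ, map_mul, map_inv]
  have hker : ∀ (e : MulAut G) (eN : MulAut N), (∀ g, eN * φ g * eN⁻¹ = φ (e g)) →
      ∀ k ∈ φ.ker, e k ∈ φ.ker := fun e eN he k hk => by
    rw [MonoidHom.mem_ker] at hk ⊢
    rw [← he, hk, mul_one, mul_inv_cancel]
  have S : Setup V sN uN φ.range :=
    { faith := fun e he => MulEquiv.ext fun x => congrArg Additive.toMul (he (Additive.ofMul x))
      s3 := by
        ext x; rw [pow_three, MulAut.mul_apply, MulAut.mul_apply, hsN, hsN, hsN, ← MulAut.mul_apply,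
          ← MulAut.mul_apply, mul_assoc, ← pow_three, hs3]; rfl
      u2 := by
        ext x; rw [pow_two, MulAut.mul_apply, huN, huN, ← MulAut.mul_apply, ← pow_two, hu2]; rfl
      rel := by
        rw [eq_inv_iff_mul_eq_one, mul_assoc]
        have h : uN * sN = sN⁻¹ * uN := by
          rw [eq_inv_mul_iff_mul_eq]
          ext x
          have h1 : s * (u * s) = u := by
            rw [show u * s = s⁻¹ * u by rw [← hrel]; group]; group
          simp only [MulAut.mul_apply, hsN, huN]
          rw [← MulAut.mul_apply, ← MulAut.mul_apply, mul_assoc, h1]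
        rw [← mul_assoc, h]; group
      fixV := fun v h1 h2 => by
        have h := hfix (Additive.toMul v : N) (congrArg (fun t : V => ((Additive.toMul t : N) : G)) h1)
          (congrArg (fun t : V => ((Additive.toMul t : N) : G)) h2)
        exact congrArg Additive.ofMul (Subtype.ext h : Additive.toMul v = (1 : N))
      fixH := by
        rintro _ ⟨g, rfl⟩ h1 h2
        refine fixed_mem hcop s u hs3 hu2 hrel hfix φ.ker (hker s sN hsφ) (hker u uN huφ) ?_ ?_
        · rw [MonoidHom.mem_ker, map_mul, ← hsφ, h1, map_inv]; group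
        · rw [MonoidHom.mem_ker, map_mul, ← huφ, h2, map_inv]; group
      hs := mem_normalizer_of_conj (by rintro _ ⟨g, rfl⟩; exact ⟨s g, (hsφ g).symm⟩)
      hu := mem_normalizer_of_conj (by rintro _ ⟨g, rfl⟩; exact ⟨u g, (huφ g).symm⟩)
      cop := hcop.coprime_dvd_left (Subgroup.card_range_dvd φ)
      pp := ⟨p, (hNp.exists_card_eq).choose, hp, (hNp.exists_card_eq).choose_spec⟩
      irr := by
        intro W hW hWs hWu
        let M : Subgroup G :=
          { carrier := {x | ∃ h : x ∈ N, Additive.ofMul (⟨x, h⟩ : N) ∈ W}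
            one_mem' := ⟨N.one_mem, W.zero_mem⟩
            mul_mem' := fun {a b} ⟨ha, ha'⟩ ⟨hb, hb'⟩ => ⟨N.mul_mem ha hb, W.add_mem ha' hb'⟩
            inv_mem' := fun {a} ⟨ha, ha'⟩ => ⟨N.inv_mem ha, W.neg_mem ha'⟩ }
        by_cases hM : M = ⊥
        · left
          refine (AddSubgroup.eq_bot_iff_forall W).2 fun v hv => ?_
          have h1 : ((Additive.toMul v : N) : G) ∈ M := ⟨(Additive.toMul v).2, hv⟩
          rw [hM, Subgroup.mem_bot] at h1
          exact congrArg Additive.ofMul (Subtype.ext h1 : Additive.toMul v = (1 : N))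
        · right
          have hMn : M.Normal := ⟨fun x ⟨hx, hx'⟩ g => ⟨hNn.conj_mem x hx g, hW (φ g) ⟨g, rfl⟩ _ hx'⟩⟩
          have hle := hNmin ⟨hMn, hM, fun x ⟨hx, hx'⟩ => ⟨hNs x hx, hWs _ hx'⟩,
            fun x ⟨hx, hx'⟩ => ⟨hNu x hx, hWu _ hx'⟩⟩ fun x ⟨hx, _⟩ => hx
          refine eq_top_iff.2 fun v _ => ?_
          obtain ⟨_, h⟩ := hle (Additive.toMul v).2
          exact h }
  have hφN : N ≤ φ.ker := fun n hn => MonoidHom.mem_ker.2 (MulEquiv.ext fun x => Subtype.ext (by
    rw [hφ, hNc n hn x x.2, mul_inv_cancel_right]; rfl))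
  have hH : ∀ a ∈ φ.range, ∀ b ∈ φ.range, a * b = b * a := by
    refine S.commutative ?_
    let ψ : G ⧸ N →* MulAut N := QuotientGroup.lift N φ hφN
    have e : (⁅φ.range, φ.range⁆ : Subgroup (MulAut N)) = (commutator (G ⧸ N)).map ψ := by
      rw [commutator_def, Subgroup.map_commutator, ← MonoidHom.range_eq_map,
        show ψ.range = φ.range by
          ext y
          constructor
          · rintro ⟨x, rfl⟩
            induction x using QuotientGroup.induction_on with
            | H x => exact ⟨x, rfl⟩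
          · rintro ⟨x, rfl⟩; exact ⟨(x : G ⧸ N), rfl⟩]
    rw [e]
    exact Group.nilpotent_of_surjective (ψ.subgroupMap _) (ψ.subgroupMap_surjective _)
  have hcomle : commutator G ≤ φ.ker := by
    rw [commutator_def, Subgroup.commutator_le]
    intro a _ b _
    rw [MonoidHom.mem_ker, map_commutatorElement, commutatorElement_eq_one_iff_mul_comm]
    exact hH _ ⟨a, rfl⟩ _ ⟨b, rfl⟩
  have hle : (commutator G).map (QuotientGroup.mk' N) ≤ commutator (G ⧸ N) := by
    rw [commutator_def, commutator_def, Subgroup.map_commutator]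
    exact Subgroup.commutator_mono le_top le_top
  let f : commutator G →* commutator (G ⧸ N) :=
    ((QuotientGroup.mk' N).comp (commutator G).subtype).codRestrict _ fun x => hle ⟨x, x.2, rfl⟩
  haveI := hquot
  refine Subgroup.isNilpotent_of_ker_le_center f fun x hx => Subgroup.mem_center_iff.2 fun d => Subtype.ext ?_
  have hxN : (x : G) ∈ N := (QuotientGroup.eq_one_iff _).1 (congrArg Subtype.val hx)
  have h1 := MonoidHom.mem_ker.1 (hcomle d.2)
  have h2 := congrArg (fun e : MulAut N => ((e ⟨x, hxN⟩ : N) : G)) h1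
  exact mul_inv_eq_iff_eq_mul.1 (h2 : (d : G) * x * (d : G)⁻¹ = x)


/-- Let the symmetric group of degree 3 act by automorphisms on a finite solvable group `G` of order prime to 6, so that only the identity of `G` is fixed by all of it. Then the derived subgroup of `G` is nilpotent. -/
theorem result {G : Type*} [Group G] [Finite G] [Group.IsSolvable G]
    [MulDistribMulAction (Equiv.Perm (Fin 3)) G] (hcop : (Nat.card G).Coprime 6)
    (hfpf : ∀ g : G, (∀ a : Equiv.Perm (Fin 3), a • g = g) → g = 1) :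
    Group.IsNilpotent ↥(commutator G) := by
  let a : Equiv.Perm (Fin 3) := finRotate 3
  let b : Equiv.Perm (Fin 3) := Equiv.swap 0 1
  let τ : Equiv.Perm (Fin 3) →* MulAut G := MulDistribMulAction.toMulAut _ G
  refine key _ G rfl hcop (τ a) (τ b) ?_ ?_ ?_ ?_
  · rw [← map_pow, show a ^ 3 = 1 by decide, map_one]
  · rw [← map_pow, show b ^ 2 = 1 by decide, map_one]
  · rw [← map_inv, ← map_inv, ← map_mul, ← map_mul, show b * a * b⁻¹ = a⁻¹ by decide]
  intro g h1 h2
  refine hfpf g fun c => ?_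
  have h1' : a • g = g := h1
  have h2' : b • g = g := h2
  have hc : c = 1 ∨ c = a ∨ c = a * a ∨ c = b ∨ c = b * a ∨ c = b * a * a := by
    revert c; decide
  rcases hc with rfl | rfl | rfl | rfl | rfl | rfl
  · exact one_smul _ g
  · exact h1'
  · rw [mul_smul, h1', h1']
  · exact h2'
  · rw [mul_smul, h1', h2']
  · rw [mul_smul, mul_smul, h1', h1', h2']

end Cfsg.Agent.S4305
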