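import Cfsg.Statements.S4306
import Cfsg.Agent.Lib.Solvable.PQReduction

set_option autoImplicit false
open Cfsg

open scoped Pointwise

namespace Cfsg.Agent.S4306

/-- Let `A` be a non-abelian group of order `pq` with `p, q` distinct primes, acting by automorphisms on a finite solvable group `G` of order prime to `pq`, so that only the identity of `G` is fixed by all of `A`. Then `G` has Fitting height at most 2: there is a normal nilpotent subgroup `F` of `G` with `G/F` nilpotent. -/
theorem result {G A : Type*} [Group G] [Finite G]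
    [Group.IsSolvable G] [Group A] [Finite A] [MulDistribMulAction A G] (p q : ℕ) (hp : p.Prime) (hq : q.Prime) (hpq : p ≠ q)
    (hA : Nat.card A = p * q) (hAna : ¬ IsMulCommutative A) (hcop : (Nat.card G).Coprime (p * q))
    (hfpf : ∀ g : G, (∀ a : A, a • g = g) → g = 1) :
    ∃ F : Subgroup G, ∃ hF : F.Normal, Group.IsNilpotent ↥F ∧ Group.IsNilpotent (G ⧸ F) := by
  haveI hFn : (Cfsg.fittingSubgroup G).Normal := CfsgLib.Cores.fittingSubgroup_normal
  refine ⟨Cfsg.fittingSubgroup G, hFn, CfsgLib.Cores.isNilpotent_fittingSubgroup, ?_⟩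
  have key : ∀ a b : ℕ, a.Prime → b.Prime → a < b → Nat.card A = a * b →
      (Nat.card G).Coprime (a * b) → Group.IsNilpotent (G ⧸ Cfsg.fittingSubgroup G) := by
    intro a b ha hb hab hcard hc
    haveI := Fact.mk ha
    haveI := Fact.mk hb
    obtain ⟨f, hf⟩ := exists_prime_orderOf_dvd_card' (G := A) b (hcard ▸ dvd_mul_left b a)
    have hidx : (Subgroup.zpowers f).index = a := by
      have h := (Subgroup.zpowers f).card_mul_index
      rw [Nat.card_zpowers, hf, hcard, mul_comm a b] at h
      exact Nat.eq_of_mul_eq_mul_left hb.pos h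
    haveI hfn : (Subgroup.zpowers f).Normal := by
      refine Subgroup.normal_of_index_eq_minFac_card ?_
      rw [hidx, hcard]
      have hne1 : a * b ≠ 1 := fun h => ha.ne_one (mul_eq_one.1 h).1
      have hm := Nat.minFac_prime hne1
      refine le_antisymm ?_ (Nat.minFac_le_of_dvd ha.two_le (dvd_mul_right a b))
      rcases (Nat.Prime.dvd_mul hm).1 (Nat.minFac_dvd (a * b)) with h | h
      · exact ((Nat.prime_dvd_prime_iff_eq hm ha).1 h).ge
      · exact hab.le.trans ((Nat.prime_dvd_prime_iff_eq hm hb).1 h).ge
    have hna : ∃ x y : A, x * y ≠ y * x := by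
      by_contra hcon
      push Not at hcon
      exact hAna ⟨⟨hcon⟩⟩
    exact CfsgLib.Solvable.isNilpotent_quotient_fitting_pq hcard hf hna hc
      (MulDistribMulAction.toMulAut A G) hfpf
  rcases lt_or_gt_of_ne hpq with h | h
  · exact key p q hp hq h hA hcop
  · exact key q p hq hp h (by rw [hA, mul_comm]) (by rwa [mul_comm])

end Cfsg.Agent.S4306
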