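import Cfsg.Statements.S4309

set_option autoImplicit false
open Cfsg

namespace Cfsg.Agent.S4309

theorem relIndex_dvd_index {G : Type*} [Group G] [Finite G] (N H : Subgroup G) [N.Normal] :
    H.relIndex N ∣ H.index := by
  have e1 : N.relIndex H = (H ⊓ N).relIndex H := by rw [Subgroup.inf_relIndex_left]
  have e3 := Subgroup.relIndex_mul_relIndex (H ⊓ N) H (H ⊔ N) inf_le_left le_sup_left
  have e4 := Subgroup.relIndex_mul_relIndex (H ⊓ N) N (H ⊔ N) inf_le_right le_sup_right
  have e5 : N.relIndex (H ⊔ N) = N.relIndex H := by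
    rw [sup_comm]; exact Subgroup.relIndex_sup_left H N
  have e6 : H.relIndex N = H.relIndex (H ⊔ N) := by
    have h7 : N.relIndex H ≠ 0 := Subgroup.index_ne_zero_of_finite
    rw [← e4, e5, Subgroup.inf_relIndex_right, ← e1, mul_comm (N.relIndex H)] at e3
    exact (Nat.eq_of_mul_eq_mul_right (Nat.pos_of_ne_zero h7) e3).symm
  rw [e6]
  exact ⟨_, (Subgroup.relIndex_mul_index le_sup_left).symm⟩


/-- Let `π` be a set of primes, `G` a finite group with a Hall `π`-subgroup `H` (every prime divisor of the order of `H` lies in `π` and no prime of `π` divides its index), and `A` a normal subgroup of `G`. Then `H ∩ A` is a Hall `π`-subgroup of `A` and the image of `H` in `G/A` is a Hall `π`-subgroup of `G/A`. -/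
theorem result {G : Type*} [Group G] [Finite G] (π : Set ℕ)
    (H A : Subgroup G) [A.Normal] (hH : Cfsg.IsPiHall π H) :
    Cfsg.IsPiHall π ((H ⊓ A).subgroupOf A) ∧ Cfsg.IsPiHall π (H.map (QuotientGroup.mk' A)) := by
  obtain ⟨h1, h2⟩ := hH
  refine ⟨⟨fun q hq hd => h1 q hq ?_, fun q hq hqπ hd => ?_⟩, fun q hq hd => h1 q hq ?_, fun q hq hqπ hd => ?_⟩
  · rw [Nat.card_congr (Subgroup.subgroupOfEquivOfLe inf_le_right).toEquiv] at hd
    exact hd.trans (Subgroup.card_dvd_of_le inf_le_left)
  · apply h2 q hq hqπ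
    change q ∣ (H ⊓ A).relIndex A at hd
    rw [Subgroup.inf_relIndex_right] at hd
    exact hd.trans (relIndex_dvd_index A H)
  · exact hd.trans (Subgroup.card_map_dvd H _)
  · apply h2 q hq hqπ
    exact hd.trans (Subgroup.index_map_dvd _ (QuotientGroup.mk'_surjective A))

end Cfsg.Agent.S4309
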