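import Cfsg.Statements.S4314
import Cfsg.Agent.Lib.FGS.Covering

set_option autoImplicit false
open Cfsg

namespace Cfsg.Agent.S4314
open Subgroup
open scoped commutatorElement

set_option maxHeartbeats 1000000

variable {G : Type*} [Group G] [Finite G]

private theorem cs_eq {x : G} {y : G}
    (h : ∀ x : G, (centralizer ({x} : Set G)).index = 1 ∨ ((centralizer ({x} : Set G)).index).Prime)
    (hle : centralizer ({x} : Set G) ≤ centralizer ({y} : Set G)) (hy : y ∉ center G) :
    centralizer ({y} : Set G) = centralizer ({x} : Set G) := by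
  have hne : (centralizer ({y} : Set G)).index ≠ 1 := fun e => hy (by
    rw [mem_center_iff]
    intro g
    have : g ∈ centralizer ({y} : Set G) := by rw [index_eq_one.1 e]; exact mem_top g
    exact mem_centralizer_singleton_iff.1 this)
  have hdvd := index_dvd_of_le hle
  rcases h x with h1 | h1
  · rw [h1] at hdvd; exact absurd (Nat.dvd_one.1 hdvd) hne
  · rcases (Nat.dvd_prime h1).1 hdvd with e | e
    · exact absurd e hne
    · refine (eq_of_le_of_card_ge hle ?_).symm
      have h2 := (centralizer ({x} : Set G)).card_mul_index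
      have h3 := (centralizer ({y} : Set G)).card_mul_index
      rw [e] at h3
      exact (Nat.eq_of_mul_eq_mul_right h1.pos (h3.trans h2.symm)).le

private theorem cent_le_pow (g : G) (n : ℕ) :
    centralizer ({g} : Set G) ≤ centralizer ({g ^ n} : Set G) := fun c hc => by
  rw [mem_centralizer_singleton_iff] at hc ⊢
  exact (Commute.pow_right (show Commute c g from hc) n).eq

omit [Finite G] in
private theorem relIndex_sup_of_le_normalizer {K H : Subgroup G} (h : H ≤ normalizer (K : Set G)) :
    K.relIndex (K ⊔ H) = K.relIndex H := by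
  haveI : (K.subgroupOf (K ⊔ H)).Normal :=
    (normal_subgroupOf_iff_le_normalizer le_sup_left).2 (sup_le le_normalizer h)
  have := relIndex_sup_left (K := K.subgroupOf (K ⊔ H)) (H := H.subgroupOf (K ⊔ H))
  rw [← subgroupOf_sup le_sup_left le_sup_right, subgroupOf_self, relIndex_top_right,
    relIndex_subgroupOf le_sup_right] at this
  exact this

private theorem nilpotent_case
    (h : ∀ x : G, (centralizer ({x} : Set G)).index = 1 ∨ ((centralizer ({x} : Set G)).index).Prime)
    (hpr : ∀ (x : G) (r k : ℕ), r.Prime → orderOf x = r ^ k → x ∉ center G →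
      (centralizer ({x} : Set G)).index = r) : Subgroup.upperCentralSeries G 2 = ⊤ := by
  -- Sylow subgroups are normal
  have hnorm : ∀ (r : ℕ) (_ : Fact r.Prime) (R : Sylow r G), (R : Subgroup G).Normal := by
    intro r hr R
    refine normalizer_eq_top_iff.1 (CfsgLib.FGS.eq_top_of_forall_exists_conj fun g => ?_)
    suffices hs : ∃ R' : Sylow r G, g ∈ normalizer ((R' : Subgroup G) : Set G) by
      obtain ⟨R', hg⟩ := hs
      obtain ⟨c, hc⟩ := MulAction.exists_smul_eq G R' R
      refine ⟨c, ?_⟩
      rw [← hc, mem_normalizer_iff]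
      intro y
      rw [mem_normalizer_iff] at hg
      have hmem : ∀ z, z ∈ ((c • R' : Sylow r G) : Subgroup G) ↔ c⁻¹ * z * c ∈ (R' : Subgroup G) := by
        intro z
        rw [Sylow.coe_subgroup_smul, mem_pointwise_smul_iff_inv_smul_mem]
        simp [MulAut.smul_def]
      rw [hmem, hmem, hg (c⁻¹ * y * c),
        show c⁻¹ * (c * g * c⁻¹ * y * (c * g * c⁻¹)⁻¹) * c = g * (c⁻¹ * y * c) * g⁻¹ by group]
    by_cases hidx : r ∣ (centralizer ({g} : Set G)).index
    · -- every noncentral primary power is an `r`-element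
      set m := ordCompl[r] (orderOf g) with hm
      have hmp : IsPGroup r (zpowers (g ^ m)) := by
        refine IsPGroup.of_card (n := (orderOf g).factorization r) ?_
        rw [Nat.card_zpowers, hm, orderOf_pow_of_dvd (Nat.ordCompl_pos r (orderOf_pos g).ne').ne'
          (Nat.ordCompl_dvd _ _)]
        exact Nat.div_div_self (Nat.ordProj_dvd _ _) (orderOf_pos g).ne'
      obtain ⟨R', hR'⟩ := hmp.exists_le_sylow
      refine ⟨R', CfsgLib.FGS.mem_of_prime_powers _ g fun j ⟨q, k, hq, hqk⟩ => ?_⟩
      by_cases hc : g ^ j ∈ center G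
      · exact centralizer_le_normalizer _ fun y _ => mem_center_iff.1 hc y
      have hqr : q = r := by
        have e := hpr _ q k hq hqk hc
        rw [cs_eq h (cent_le_pow g j) hc] at e
        rw [e] at hidx
        exact ((Nat.prime_dvd_prime_iff_eq hr.out hq).1 hidx).symm
      subst hqr
      refine le_normalizer (hR' ?_)
      have h1 : g ^ (j * q ^ k) = 1 := by rw [pow_mul, ← hqk, pow_orderOf_eq_one]
      have h2 : m ∣ j * q ^ k := (Nat.ordCompl_dvd (orderOf g) q).trans (orderOf_dvd_of_pow_eq_one h1)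
      have h3 : m ∣ j := (Nat.Coprime.pow_right k
        (Nat.coprime_ordCompl hq (orderOf_pos g).ne').symm).dvd_of_dvd_mul_right h2
      obtain ⟨e, rfl⟩ := h3
      rw [pow_mul]
      exact npow_mem_zpowers _ _
    · obtain ⟨S⟩ : Nonempty (Sylow r (centralizer ({g} : Set G))) := inferInstance
      have hS : IsPGroup r ((S : Subgroup _).map (centralizer ({g} : Set G)).subtype) := S.2.map _
      refine ⟨hS.toSylow ?_, centralizer_le_normalizer _ fun y hy => ?_⟩
      · rw [index_map_subtype]
        exact Nat.Prime.not_dvd_mul hr.out S.not_dvd_index hidx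
      · obtain ⟨⟨z, hz⟩, -, rfl⟩ := hy
        exact mem_centralizer_singleton_iff.1 hz
  have hnil : Group.IsNilpotent G := (Group.isNilpotent_of_finite_tfae (G := G)).out 0 3 |>.2
    fun r hr R => hnorm r hr R
  have hcomm : _root_.commutator G ≤ center G := by
    rw [_root_.commutator_def, commutator_le]
    intro a _ b _
    rw [mem_center_iff]
    intro x
    rcases h x with h1 | h1
    · have : ⁅a, b⁆ ∈ centralizer ({x} : Set G) := by rw [index_eq_one.1 h1]; exact mem_top _
      exact (mem_centralizer_singleton_iff.1 this).symm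
    · have hco : IsCoatom (centralizer ({x} : Set G)) := by
        refine ⟨fun e => h1.ne_one (by rw [e, index_top]), fun K hK => ?_⟩
        rcases (Nat.dvd_prime h1).1 (index_dvd_of_le hK.le) with e | e
        · exact index_eq_one.1 e
        · exfalso
          have h2 := (centralizer ({x} : Set G)).card_mul_index
          have h3 := K.card_mul_index
          rw [e] at h3
          exact hK.ne (eq_of_le_of_card_ge hK.le (Nat.eq_of_mul_eq_mul_right h1.pos (h3.trans h2.symm)).le)
      haveI : (centralizer ({x} : Set G)).Normal :=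
        NormalizerCondition.normal_of_coatom _ Group.normalizerCondition_of_isNilpotent hco
      haveI : Fact _ := ⟨h1⟩
      haveI : IsCyclic (G ⧸ centralizer ({x} : Set G)) :=
        isCyclic_of_prime_card (p := (centralizer ({x} : Set G)).index) rfl
      letI : CommGroup (G ⧸ centralizer ({x} : Set G)) := IsCyclic.commGroup
      have : ⁅a, b⁆ ∈ centralizer ({x} : Set G) := by
        rw [← QuotientGroup.eq_one_iff]
        show QuotientGroup.mk' _ ⁅a, b⁆ = 1
        rw [map_commutatorElement, commutatorElement_eq_one_iff_mul_comm, mul_comm]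
      exact (mem_centralizer_singleton_iff.1 this).symm
  refine eq_top_iff.2 fun a _ => ?_
  rw [Subgroup.mem_upperCentralSeries_succ_iff]
  intro b
  rw [Subgroup.upperCentralSeries_one]
  exact hcomm (commutator_mem_commutator (mem_top a) (mem_top b))

private theorem main_case
    (h : ∀ x : G, (centralizer ({x} : Set G)).index = 1 ∨ ((centralizer ({x} : Set G)).index).Prime)
    {x : G} {r k p : ℕ} (hr : r.Prime) (hxo : orderOf x = r ^ k)
    (hx : x ∉ center G) (hpi : (centralizer ({x} : Set G)).index = p) (hpr : p ≠ r) :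
    ∃ p q : ℕ, p.Prime ∧ q.Prime ∧ p ≠ q ∧ Nat.card (G ⧸ center G) = p * q ∧
      ¬ IsMulCommutative (G ⧸ center G) := by
  classical
  haveI := Fact.mk hr
  set H := centralizer ({x} : Set G) with hH
  have hcen : ∀ y : G, (centralizer ({y} : Set G)).index = 1 → y ∈ center G := fun y e => by
    rw [mem_center_iff]
    intro g
    exact mem_centralizer_singleton_iff.1 (by rw [index_eq_one.1 e]; exact mem_top g)
  have hp : p.Prime := hpi ▸ (h x).resolve_left fun e => hx (hcen x e)
  haveI := Fact.mk hp
  -- the Sylow subgroup `R` of `H`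
  obtain ⟨S⟩ : Nonempty (Sylow r H) := inferInstance
  set R : Sylow r G := (S.2.map H.subtype).toSylow (by
    rw [index_map_subtype]
    exact Nat.Prime.not_dvd_mul hr S.not_dvd_index
      (hpi ▸ fun e => hpr ((Nat.prime_dvd_prime_iff_eq hr hp).1 e).symm)) with hR
  have hRH : (R : Subgroup G) ≤ H := map_subtype_le _
  have hmemR : ∀ (R' : Sylow r G) (y : G), IsPGroup r (zpowers y) →
      (∀ s ∈ (R' : Subgroup G), y * s = s * y) → y ∈ (R' : Subgroup G) := by
    intro R' y hy hc
    have hn : zpowers y ≤ normalizer ((R' : Subgroup G) : Set G) :=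
      zpowers_le.2 (centralizer_le_normalizer _ fun s hs => (hc s hs).symm)
    have := R'.3 (hy.to_sup_of_normal_right' R'.2 hn) le_sup_right
    rw [← this]
    exact mem_sup_left (mem_zpowers y)
  have hxR : x ∈ (R : Subgroup G) := hmemR R x (IsPGroup.of_card (n := k) (by rw [Nat.card_zpowers, hxo]))
    fun s hs => (mem_centralizer_singleton_iff.1 (hRH hs)).symm
  -- `r'`-elements of `H` are central in `H`
  have hH' : ∀ g ∈ H, (orderOf g).Coprime r → H ≤ centralizer ({g} : Set G) := by
    intro g hg hcop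
    have hxg : Commute x g := (mem_centralizer_singleton_iff.1 hg).symm
    have hle : centralizer ({x * g} : Set G) ≤ H ∧
        centralizer ({x * g} : Set G) ≤ centralizer ({g} : Set G) := by
      have hc' : (orderOf x).Coprime (orderOf g) := by rw [hxo]; exact Nat.Coprime.pow_left _ hcop.symm
      obtain ⟨u, hu⟩ := exists_pow_eq_self_of_coprime (n := orderOf g) (x := x) hc'.symm
      obtain ⟨v, hv⟩ := exists_pow_eq_self_of_coprime (n := orderOf x) (x := g) hc'
      constructor
      · have : x = (x * g) ^ (orderOf g * u) := by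
          rw [hxg.mul_pow, pow_mul, pow_mul, hu, pow_orderOf_eq_one, one_pow, mul_one]
        conv_rhs => rw [hH, this]
        exact cent_le_pow _ _
      · have : g = (x * g) ^ (orderOf x * v) := by
          rw [hxg.mul_pow, pow_mul, pow_mul, hv, pow_orderOf_eq_one, one_pow, one_mul]
        conv_rhs => rw [this]
        exact cent_le_pow _ _
    have := cs_eq h hle.1 hx
    rw [← hH] at this
    rw [this]
    exact hle.2
  set Z := center G with hZ
  have hZH : Z ≤ H := fun z hz => mem_centralizer_singleton_iff.2 (mem_center_iff.1 hz x).symm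
  -- a `p`-element in no conjugate of `H`
  obtain ⟨a, ⟨ka, hka⟩, haH⟩ : ∃ a : G, (∃ ka, orderOf a = p ^ ka) ∧ ∀ g : G, g⁻¹ * a * g ∉ H := by
    by_contra hall
    push_neg at hall
    obtain ⟨P⟩ : Nonempty (Sylow p G) := inferInstance
    have hmem : ∀ y ∈ (P : Subgroup G), ∃ q : G ⧸ H, q.out⁻¹ * y * q.out ∈ H := by
      intro y hy
      obtain ⟨n, hn⟩ := IsPGroup.iff_orderOf.1 P.2 ⟨y, hy⟩
      obtain ⟨g, hg⟩ := hall y ⟨n, by rw [← hn, ← orderOf_coe, Subgroup.coe_mk]⟩
      obtain ⟨u, hu⟩ := QuotientGroup.mk_out_eq_mul H g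
      refine ⟨g, ?_⟩
      rw [hu, show (g * u)⁻¹ * y * (g * u) = (u : G)⁻¹ * (g⁻¹ * y * g) * u by group]
      exact mul_mem (mul_mem (inv_mem u.2) hg) u.2
    letI := Fintype.ofFinite G
    letI := Fintype.ofFinite (G ⧸ H)
    let T : G ⧸ H → Finset G := fun q =>
      Finset.univ.filter fun y => y ∈ (P : Subgroup G) ∧ y ≠ 1 ∧ q.out⁻¹ * y * q.out ∈ H
    let PS : Finset G := Finset.univ.filter fun y => y ∈ (P : Subgroup G) ∧ y ≠ 1
    have hsub : PS ⊆ Finset.univ.biUnion T := by
      intro y hy
      simp only [PS, Finset.mem_filter] at hy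
      obtain ⟨q, hq⟩ := hmem y hy.2.1
      exact Finset.mem_biUnion.2 ⟨q, Finset.mem_univ _, by simp [T, hy.2.1, hy.2.2, hq]⟩
    have hcount : ∀ (K : Subgroup G), (Finset.univ.filter fun y : G => y ∈ K ∧ y ≠ 1).card + 1 = Nat.card K := by
      intro K
      have e : (Finset.univ.filter fun y : G => y ∈ K ∧ y ≠ 1) = (Finset.univ.filter fun y : G => y ∈ K).erase 1 := by
        ext y; simp [and_comm]
      rw [e, Finset.card_erase_add_one (by simp [one_mem]), Nat.card_eq_fintype_card, Fintype.card_subtype]
    have hT : ∀ q, ((T q).card + 1) * p ≤ Nat.card (P : Subgroup G) := by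
      intro q
      set K := (P : Subgroup G) ⊓ H.map (MulAut.conj q.out).toMonoidHom
      have e : T q = Finset.univ.filter fun y : G => y ∈ K ∧ y ≠ 1 := by
        ext y
        simp only [T, K, Finset.mem_filter, Finset.mem_univ, true_and, Subgroup.mem_inf, mem_map_equiv,
          MulAut.conj_symm_apply]
        constructor
        · exact fun ⟨h1, h2, h3⟩ => ⟨⟨h1, h3⟩, h2⟩
        · exact fun ⟨⟨h1, h3⟩, h2⟩ => ⟨h1, h2, h3⟩
      rw [e, hcount]
      have hdvd : Nat.card K ∣ Nat.card (P : Subgroup G) := card_dvd_of_le inf_le_left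
      obtain ⟨c, hc⟩ := hdvd
      have hne : c ≠ 1 := by
        rintro rfl
        have hKP : (P : Subgroup G) ≤ H.map (MulAut.conj q.out).toMonoidHom := by
          rw [← eq_of_le_of_card_ge (inf_le_left : K ≤ _) (by rw [hc, mul_one])]
          exact inf_le_right
        have := index_dvd_of_le hKP
        rw [index_map_of_bijective (f := (MulAut.conj q.out).toMonoidHom) (MulAut.conj q.out).bijective, hpi] at this
        exact P.not_dvd_index this
      obtain ⟨i, hi, hci⟩ := (Nat.dvd_prime_pow hp).1
        (show c ∣ p ^ (Nat.card G).factorization p from ⟨Nat.card K, by rw [← P.card_eq_multiplicity, hc]; ring⟩)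
      rw [hc]
      refine Nat.mul_le_mul_left _ ?_
      rcases i with _ | i
      · simp at hci; exact absurd hci hne
      · rw [hci, pow_succ]; exact Nat.le_mul_of_pos_left _ (pow_pos hp.pos _)
    have h1 : (PS.card) * p ≤ ∑ q : G ⧸ H, (T q).card * p := by
      rw [← Finset.sum_mul]
      exact Nat.mul_le_mul_right _ ((Finset.card_le_card hsub).trans Finset.card_biUnion_le)
    have h2 : ∑ q : G ⧸ H, ((T q).card * p + p) ≤ ∑ _q : G ⧸ H, Nat.card (P : Subgroup G) :=
      Finset.sum_le_sum fun q _ => by have := hT q; rw [add_mul, one_mul] at this; exact this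
    rw [Finset.sum_add_distrib, Finset.sum_const, Finset.sum_const, Finset.card_univ,
      ← Nat.card_eq_fintype_card, ← Subgroup.index_eq_card, hpi, smul_eq_mul, smul_eq_mul] at h2
    have h3 := hcount (P : Subgroup G)
    change PS.card + 1 = _ at h3
    rw [← h3] at h2
    have := hp.two_le
    nlinarith
  have haH1 : a ∉ H := by simpa using haH 1
  have hacen : a ∉ Z := fun e => haH1 (hZH e)
  -- the class size of `a` is `r`
  set C := centralizer ({a} : Set G) with hC
  have hCr : C.index = r := by
    by_contra hne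
    have hq := (h a).resolve_left fun e => hacen (hcen a e)
    rw [← hC] at hq
    obtain ⟨S'⟩ : Nonempty (Sylow r C) := inferInstance
    let R' : Sylow r G := (S'.2.map C.subtype).toSylow (by
      rw [index_map_subtype]
      exact Nat.Prime.not_dvd_mul hr S'.not_dvd_index
        fun e => hne ((Nat.prime_dvd_prime_iff_eq hr hq).1 e).symm)
    obtain ⟨g, hg⟩ := MulAction.exists_smul_eq G R R'
    refine haH g ?_
    rw [hH, mem_centralizer_singleton_iff]
    have hmem : g * x * g⁻¹ ∈ (R' : Subgroup G) := by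
      rw [← hg, Sylow.coe_subgroup_smul]
      exact ⟨x, hxR, rfl⟩
    have := mem_centralizer_singleton_iff.1 (map_subtype_le _ hmem : g * x * g⁻¹ ∈ C)
    calc g⁻¹ * a * g * x = g⁻¹ * (a * (g * x * g⁻¹)) * g := by group
      _ = x * (g⁻¹ * a * g) := by rw [← this]; group
  set K := C ⊓ H with hK
  have hKrel : K.relIndex H = r := by
    have h1 : p * r ∣ K.index := Nat.Coprime.mul_dvd_of_dvd_of_dvd ((Nat.coprime_primes hp hr).2 hpr)
      (hpi ▸ index_dvd_of_le inf_le_right) (hCr ▸ index_dvd_of_le inf_le_left)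
    have h2 : K.index ≤ r * p := (index_inf_le (H := C) (K := H)).trans_eq (by rw [hCr, hpi])
    have h3 : K.index = r * p := le_antisymm h2
      (by rw [mul_comm]; exact Nat.le_of_dvd (Nat.pos_of_ne_zero K.index_ne_zero_of_finite) h1)
    have := relIndex_mul_index (inf_le_right : K ≤ H)
    rw [h3, hpi] at this
    exact Nat.eq_of_mul_eq_mul_right hp.pos this
  -- `r'`-elements of `H` are central
  have hA : ∀ g ∈ H, (orderOf g).Coprime r → g ∈ Z := by
    intro g hg hcop
    have hc := hH' g hg hcop
    have hgK : g ∈ C := by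
      have h1 := relIndex_sup_of_le_normalizer (K := K.subgroupOf H) (H := (zpowers g).subgroupOf H) (by
        intro n hn
        refine centralizer_le_normalizer _ fun v _ => Subtype.ext ?_
        rw [mem_subgroupOf] at hn
        have hcm : Commute (v : G) g := mem_centralizer_singleton_iff.1 (hc v.2)
        obtain ⟨j, hj⟩ := mem_zpowers_iff.1 hn
        push_cast
        rw [← hj]
        exact (hcm.zpow_right j).eq)
      have hd1 : (K.subgroupOf H).relIndex ((zpowers g).subgroupOf H) ∣ r := by
        rw [← h1, ← hKrel]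
        exact relIndex_dvd_index_of_le le_sup_left
      have hd2 : (K.subgroupOf H).relIndex ((zpowers g).subgroupOf H) ∣ orderOf g := by
        refine (index_dvd_card _).trans ?_
        rw [Nat.card_congr (subgroupOfEquivOfLe (zpowers_le.2 hg)).toEquiv, Nat.card_zpowers]
      have h0 := Nat.eq_one_of_dvd_coprimes hcop hd2 hd1
      rw [relIndex_eq_one] at h0
      exact (h0 (show (⟨g, hg⟩ : H) ∈ (zpowers g).subgroupOf H from mem_zpowers g)).1
    by_contra hgc
    have := cs_eq h (x := x) hc hgc
    refine haH1 ?_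
    rw [hH, ← this, mem_centralizer_singleton_iff]
    exact (mem_centralizer_singleton_iff.1 hgK).symm
  have hSR : (R : Subgroup G).subgroupOf H = (S : Subgroup H) :=
    comap_map_eq_self_of_injective H.subtype_injective _
  have hHRZ : H = (R : Subgroup G) ⊔ Z := by
    refine le_antisymm ?_ (sup_le hRH hZH)
    rw [← relIndex_eq_one]
    refine Nat.eq_one_iff_not_exists_prime_dvd.2 fun s hs hdvd => ?_
    by_cases hsr : s = r
    · subst hsr
      have := hdvd.trans (relIndex_dvd_of_le_left H (le_sup_left : (R : Subgroup G) ≤ _ ⊔ Z))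
      rw [relIndex, hSR] at this
      exact S.not_dvd_index this
    · haveI := Fact.mk hs
      obtain ⟨T⟩ : Nonempty (Sylow s H) := inferInstance
      refine T.not_dvd_index (hdvd.trans (index_dvd_of_le fun y hy => ?_))
      obtain ⟨n, hn⟩ := IsPGroup.iff_orderOf.1 T.2 ⟨y, hy⟩
      rw [mem_subgroupOf]
      refine mem_sup_right (hA _ y.2 ?_)
      rw [orderOf_coe, ← orderOf_coe ⟨y, hy⟩] at *
      rw [hn]
      exact Nat.Coprime.pow_left _ ((Nat.coprime_primes hs hr).2 hsr)
  have hHnorm : H ≤ normalizer ((R : Subgroup G) : Set G) := by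
    rw [hHRZ]
    exact sup_le le_normalizer fun z hz => centralizer_le_normalizer _ fun y _ => mem_center_iff.1 hz y
  set R0 := (R : Subgroup G) ⊓ C with hR0
  have hxR0 : x ∉ R0 := fun hh => haH1 (mem_centralizer_singleton_iff.2
    (mem_centralizer_singleton_iff.1 hh.2).symm)
  have hR0rel : R0.relIndex R = r := by
    rw [hR0, inf_relIndex_left]
    obtain ⟨n, hn⟩ : ∃ n, C.relIndex (R : Subgroup G) = r ^ n := R.2.index (C.subgroupOf R)
    have hle : C.relIndex (R : Subgroup G) ≤ r :=
      (relIndex_le_of_le_right le_top (by rw [relIndex_top_right]; exact index_ne_zero_of_finite)).trans_eq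
        ((relIndex_top_right C).trans hCr)
    have h1 : C.relIndex (R : Subgroup G) ≠ 1 := fun e => hxR0 ⟨hxR, (relIndex_eq_one.1 e) hxR⟩
    rcases n with _ | n
    · exact absurd (by rw [hn, pow_zero]) h1
    · exact le_antisymm hle ((Nat.le_self_pow n.succ_ne_zero r).trans_eq hn.symm)
  haveI hR0N : (R0.subgroupOf R).Normal := by
    refine normal_of_index_eq_minFac_card ?_
    rw [show (R0.subgroupOf R).index = r from hR0rel]
    obtain ⟨n, hn⟩ := IsPGroup.iff_card.1 R.2
    rw [hn, Nat.Prime.pow_minFac hr]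
    rintro rfl
    have := card_dvd_of_le (zpowers_le.2 hxR)
    rw [Nat.card_zpowers, hn, pow_zero, Nat.dvd_one, orderOf_eq_one_iff] at this
    exact hx (this ▸ one_mem _)
  -- structure modulo the centre
  haveI : Z.Normal := by rw [hZ]; infer_instance
  set π := QuotientGroup.mk' Z with hπ
  obtain ⟨m, hm⟩ : ∃ m, Z.relIndex H = r ^ m := by
    rw [hHRZ, relIndex_sup_right]
    exact R.2.index (Z.subgroupOf R)
  have hZidx : Z.index = r ^ m * p := by rw [← relIndex_mul_index hZH, hm, hpi]
  have hap : a ^ p ∈ Z := by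
    have h1 : orderOf (π a) ∣ p ^ ka := hka ▸ orderOf_map_dvd π a
    have h2 : orderOf (π a) ∣ r ^ m * p := by
      rw [← hZidx, index_eq_card]; exact orderOf_dvd_natCard _
    obtain ⟨i, -, hi⟩ := (Nat.dvd_prime_pow hp).1 h1
    rw [hi] at h2
    have h3 : p ^ i ∣ p := (Nat.Coprime.pow _ _ ((Nat.coprime_primes hp hr).2 hpr)).dvd_of_dvd_mul_left h2
    rw [← hi] at h3
    rw [← QuotientGroup.eq_one_iff]
    exact orderOf_dvd_iff_pow_eq_one.1 h3
  have hcoset : ∀ g : G, ∃ i : ℕ, (a ^ i)⁻¹ * g ∈ H := by
    have hinj : Function.Injective fun i : Fin p => ((a ^ (i : ℕ) : G) : G ⧸ H) := by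
      intro i j e
      by_contra hne
      have hd : ((j : ℤ) - i).gcd p = 1 := by
        refine Nat.Coprime.symm ((Nat.Prime.coprime_iff_not_dvd hp).2 fun hd => hne ?_)
        have hd' : (p : ℤ) ∣ (j : ℤ) - i := Int.natCast_dvd.2 (by simpa using hd)
        obtain ⟨c, hc⟩ := hd'
        have := i.isLt
        have := j.isLt
        rcases lt_trichotomy c 0 with hc0 | hc0 | hc0
        · nlinarith
        · subst hc0; exact Fin.ext (by omega)
        · nlinarith
      have he : a ^ ((j : ℤ) - i) ∈ H := by
        have := QuotientGroup.eq.1 e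
        rwa [← zpow_natCast, ← zpow_natCast, ← zpow_neg, ← zpow_add, neg_add_eq_sub] at this
      refine haH1 ?_
      have hb := Int.gcd_eq_gcd_ab ((j : ℤ) - i) p
      rw [hd] at hb
      rw [show a = (a ^ ((j : ℤ) - i)) ^ (((j : ℤ) - i).gcdA p) * (a ^ p) ^ (((j : ℤ) - i).gcdB p) by
        rw [← zpow_mul, ← zpow_natCast a p, ← zpow_mul, ← zpow_add, ← hb, Nat.cast_one, zpow_one]]
      exact mul_mem (zpow_mem he _) (zpow_mem (hZH hap) _)
    intro g
    have hbij := (Nat.bijective_iff_injective_and_card _).2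
      ⟨hinj, by rw [Nat.card_fin, ← hpi, index_eq_card]⟩
    obtain ⟨i, hi⟩ := hbij.2 (g : G ⧸ H)
    exact ⟨i, QuotientGroup.eq.1 hi⟩
  -- `R` or `Z ⊔ ⟨a⟩` is normal
  have hcases : (zpowers (π a)).Normal ∨ (R : Subgroup G).Normal := by
    have hord : orderOf (π a) = p := by
      rcases (Nat.dvd_prime hp).1 (orderOf_dvd_of_pow_eq_one (show (π a) ^ p = 1 by
        rw [← map_pow]; exact (QuotientGroup.eq_one_iff _).2 hap)) with e | e
      · exact absurd ((QuotientGroup.eq_one_iff a).1 (orderOf_eq_one_iff.1 e)) hacen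
      · exact e
    have hidxP : (zpowers (π a)).index = r ^ m := by
      have := (zpowers (π a)).card_mul_index
      rw [Nat.card_zpowers, hord, ← index_eq_card, hZidx, mul_comm (r ^ m)] at this
      exact Nat.eq_of_mul_eq_mul_left hp.pos this
    let Pb : Sylow p (G ⧸ Z) := (IsPGroup.of_card (n := 1) (by rw [Nat.card_zpowers, hord, pow_one]) :
      IsPGroup p (zpowers (π a))).toSylow (by
        rw [hidxP]
        exact fun e => hpr ((Nat.prime_dvd_prime_iff_eq hp hr).1 (hp.dvd_of_dvd_pow e)))
    set N := normalizer ((zpowers (π a) : Subgroup (G ⧸ Z)) : Set (G ⧸ Z))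
    have hNP : zpowers (π a) ≤ N := le_normalizer
    have hNR : R0.map π ≤ N := by
      rintro _ ⟨y, hy, rfl⟩
      refine centralizer_le_normalizer _ ?_
      rw [zpowers_eq_closure, centralizer_closure, mem_centralizer_singleton_iff, ← map_mul, ← map_mul,
        mem_centralizer_singleton_iff.1 hy.2]
    have h1 : N.index ∣ r ^ m := hidxP ▸ index_dvd_of_le hNP
    have h2 : N.index ∣ p * r := by
      refine (index_dvd_of_le hNR).trans ?_
      rw [index_map, QuotientGroup.ker_mk', MonoidHom.range_eq_top.2 (QuotientGroup.mk'_surjective Z), index_top,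
        mul_one, ← relIndex_mul_index (sup_le (inf_le_left.trans hRH) hZH : R0 ⊔ Z ≤ H), hpi, mul_comm]
      refine Nat.mul_dvd_mul_left _ ?_
      have e : H = (R0 ⊔ Z) ⊔ (R : Subgroup G) := by
        rw [hHRZ, sup_comm R0 Z, sup_assoc, sup_of_le_right (inf_le_left : R0 ≤ R), sup_comm]
      have hle : (R : Subgroup G) ≤ normalizer ((R0 ⊔ Z : Subgroup G) : Set G) := by
        intro y hy
        have hn := (normal_subgroupOf_iff (inf_le_left : R0 ≤ (R : Subgroup G))).1 hR0N
        refine mem_normalizer_fintype fun c hc => ?_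
        obtain ⟨u, hu, z, hz, rfl⟩ := mem_sup_of_normal_right.1 hc
        show y * (u * z) * y⁻¹ ∈ R0 ⊔ Z
        rw [show y * (u * z) * y⁻¹ = (y * u * y⁻¹) * (y * z * y⁻¹) by group,
          mem_center_iff.1 hz y, mul_inv_cancel_right]
        exact mul_mem (mem_sup_left (hn u y hu hy)) (mem_sup_right hz)
      rw [e, relIndex_sup_of_le_normalizer hle]
      exact (relIndex_dvd_of_le_left _ le_sup_left).trans hR0rel.dvd
    have h3 : N.index ∣ r :=
      ((Nat.Coprime.pow_right m ((Nat.coprime_primes hp hr).2 hpr)).symm.coprime_dvd_left h1).dvd_of_dvd_mul_left h2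
    rcases (Nat.dvd_prime hr).1 h3 with e | e
    · exact Or.inl (normalizer_eq_top_iff.1 (index_eq_one.1 e))
    · refine Or.inr (normalizer_eq_top_iff.1 (index_eq_one.1 ?_))
      have h4 := card_sylow_modEq_one p (G ⧸ Z)
      rw [Pb.card_eq_index_normalizer] at h4
      change N.index ≡ 1 [MOD p] at h4
      rw [e] at h4
      have hrp : p < r := by
        by_contra hle
        push_neg at hle
        rw [Nat.ModEq, Nat.mod_eq_of_lt (lt_of_le_of_ne hle (Ne.symm hpr)), Nat.mod_eq_of_lt hp.one_lt] at h4
        exact hr.ne_one h4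
      have h5 := card_sylow_modEq_one r G
      rw [R.card_eq_index_normalizer] at h5
      have h6 := index_dvd_of_le hHnorm
      rw [hpi] at h6
      rcases (Nat.dvd_prime hp).1 h6 with e' | e'
      · exact e'
      · exfalso
        change (normalizer ((R : Subgroup G) : Set G)).index ≡ 1 [MOD r] at h5
        rw [e', Nat.ModEq, Nat.mod_eq_of_lt hrp, Nat.mod_eq_of_lt hr.one_lt] at h5
        exact hp.ne_one h5
  -- `R` is commutative
  have hR0mem : ∀ y ∈ (R : Subgroup G), y * a = a * y → y ∈ R0 := fun y hy e =>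
    ⟨hy, mem_centralizer_singleton_iff.2 e⟩
  have key : ∀ w ∈ (R : Subgroup G), w ∉ R0 → ∀ s ∈ (R : Subgroup G), w * s = s * w := by
    intro w hw hw0
    by_contra hnc
    have hwc : w ∉ Z := fun e => hnc fun s hs => (mem_center_iff.1 e s).symm
    have ht := (h w).resolve_left fun e => hwc (hcen w e)
    by_cases htr : (centralizer ({w} : Set G)).index = r
    · -- a conjugate of `a` centralizes `w`
      obtain ⟨T⟩ : Nonempty (Sylow p (centralizer ({w} : Set G))) := inferInstance
      let P' : Sylow p G := (T.2.map (centralizer ({w} : Set G)).subtype).toSylow (by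
        rw [index_map_subtype]
        exact Nat.Prime.not_dvd_mul hp T.not_dvd_index
          (htr ▸ fun e => hpr ((Nat.prime_dvd_prime_iff_eq hp hr).1 e)))
      obtain ⟨P1, hP1⟩ := (IsPGroup.of_card (n := ka) (by rw [Nat.card_zpowers, hka]) :
        IsPGroup p (zpowers a)).exists_le_sylow
      obtain ⟨g, hg⟩ := MulAction.exists_smul_eq G P1 P'
      have hga : g * a * g⁻¹ ∈ centralizer ({w} : Set G) := map_subtype_le _ (show _ ∈ (P' : Subgroup G) by
        rw [← hg, Sylow.coe_subgroup_smul]
        exact ⟨a, hP1 (mem_zpowers a), rfl⟩)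
      obtain ⟨i, hi⟩ := hcoset g⁻¹
      rw [hHRZ, mem_sup_of_normal_right] at hi
      obtain ⟨y, hy, z, hz, hyz⟩ := hi
      have hg' : g = z⁻¹ * y⁻¹ * (a ^ i)⁻¹ := by
        rw [eq_inv_mul_iff_mul_eq] at hyz
        rw [← inv_inv g, ← hyz]; group
      have hga' : g * a * g⁻¹ = y⁻¹ * a * y := by
        rw [hg', show z⁻¹ * y⁻¹ * (a ^ i)⁻¹ * a * (z⁻¹ * y⁻¹ * (a ^ i)⁻¹)⁻¹ =
          z⁻¹ * (y⁻¹ * ((a ^ i)⁻¹ * a * a ^ i) * y) * z by group,
          show (a ^ i)⁻¹ * a * a ^ i = a by rw [mul_assoc, ← pow_succ', pow_succ, inv_mul_cancel_left],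
          mul_assoc, mem_center_iff.1 hz, inv_mul_cancel_left]
      rw [hga'] at hga
      have h0 : y * w * y⁻¹ ∈ R0 := by
        refine hR0mem _ (mul_mem (mul_mem hy hw) (inv_mem hy)) ?_
        have e := mem_centralizer_singleton_iff.1 hga
        calc y * w * y⁻¹ * a = y * (w * (y⁻¹ * a * y)) * y⁻¹ := by group
          _ = y * ((y⁻¹ * a * y) * w) * y⁻¹ := by rw [e]
          _ = _ := by group
      have hn := (normal_subgroupOf_iff (inf_le_left : R0 ≤ (R : Subgroup G))).1 hR0N _ _ h0 (inv_mem hy)
      refine hw0 ?_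
      rwa [show y⁻¹ * (y * w * y⁻¹) * y⁻¹⁻¹ = w by group] at hn
    · -- a conjugate of `R` centralizes `w`
      obtain ⟨T⟩ : Nonempty (Sylow r (centralizer ({w} : Set G))) := inferInstance
      let R' : Sylow r G := (T.2.map (centralizer ({w} : Set G)).subtype).toSylow (by
        rw [index_map_subtype]
        exact Nat.Prime.not_dvd_mul hr T.not_dvd_index
          fun e => htr ((Nat.prime_dvd_prime_iff_eq hr ht).1 e).symm)
      obtain ⟨g, hg⟩ := MulAction.exists_smul_eq G R R'
      have hsR' : ∀ s ∈ (R : Subgroup G), g * s * g⁻¹ ∈ (R' : Subgroup G) := fun s hs => by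
        rw [← hg, Sylow.coe_subgroup_smul]; exact ⟨s, hs, rfl⟩
      have hcom : ∀ s ∈ (R : Subgroup G), w * (g * s * g⁻¹) = g * s * g⁻¹ * w := fun s hs =>
        (mem_centralizer_singleton_iff.1 (map_subtype_le _ (hsR' s hs))).symm
      rcases hcases with hPn | hRn
      · obtain ⟨i, hi⟩ := hcoset g
        set b := a ^ i with hb
        have hnor := hHnorm hi
        -- `R'` is the conjugate of `R` by `b`
        have hconj : ∀ s ∈ (R : Subgroup G), w * (b * s * b⁻¹) = b * s * b⁻¹ * w := by
          intro s hs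
          have := hcom ((b⁻¹ * g)⁻¹ * s * (b⁻¹ * g)) ((mem_normalizer_iff''.1 hnor s).1 hs)
          rwa [show g * ((b⁻¹ * g)⁻¹ * s * (b⁻¹ * g)) * g⁻¹ = b * s * b⁻¹ by group] at this
        set u := b⁻¹ * w * b with hu
        have hwp : IsPGroup r (zpowers w) := R.2.to_le (zpowers_le.2 hw)
        have huR : u ∈ (R : Subgroup G) := by
          refine hmemR R u ?_ fun s hs => ?_
          · obtain ⟨n, hn⟩ := IsPGroup.iff_orderOf.1 R.2 ⟨w, hw⟩
            refine IsPGroup.of_card (n := n) ?_
            rw [Nat.card_zpowers, hu, show b⁻¹ * w * b = MulAut.conj b⁻¹ w by simp [MulAut.conj_apply],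
              MulEquiv.orderOf_eq, ← hn, ← orderOf_coe, Subgroup.coe_mk]
          · calc u * s = b⁻¹ * (w * (b * s * b⁻¹)) * b := by rw [hu]; group
              _ = _ := by rw [hconj s hs, hu]; group
        set c := w⁻¹ * u with hc
        have hcR : c ∈ (R : Subgroup G) := mul_mem (inv_mem hw) huR
        have hcP : π c ∈ zpowers (π a) := by
          rw [show c = (w⁻¹ * b⁻¹ * w) * b by rw [hc, hu]; group, map_mul]
          refine mul_mem ?_ (by rw [hb, map_pow]; exact npow_mem_zpowers _ _)
          have := hPn.conj_mem (π b⁻¹) (by rw [hb, map_inv, map_pow]; exact inv_mem (npow_mem_zpowers _ _)) (π w⁻¹)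
          rwa [← map_inv, ← map_mul, ← map_mul, inv_inv] at this
        have hcZ : c ∈ Z := by
          have h1 : orderOf (π c) ∣ p := by
            refine orderOf_dvd_of_pow_eq_one ?_
            obtain ⟨j, hj⟩ := mem_zpowers_iff.1 hcP
            rw [← hj, ← zpow_natCast, ← zpow_mul, mul_comm, zpow_mul, zpow_natCast, ← map_pow,
              show π (a ^ p) = 1 from (QuotientGroup.eq_one_iff _).2 hap, one_zpow]
          obtain ⟨n, hn⟩ := IsPGroup.iff_orderOf.1 R.2 ⟨c, hcR⟩
          rw [← orderOf_coe, Subgroup.coe_mk] at hn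
          rw [← QuotientGroup.eq_one_iff]
          exact orderOf_eq_one_iff.1 (Nat.eq_one_of_dvd_coprimes
            (Nat.Coprime.pow_right n ((Nat.coprime_primes hp hr).2 hpr)) h1 (hn ▸ orderOf_map_dvd π c))
        have hit : ∀ n : ℕ, (b ^ n)⁻¹ * w * b ^ n = w * c ^ n := by
          intro n
          induction n with
          | zero => simp
          | succ n ih =>
            calc (b ^ (n + 1))⁻¹ * w * b ^ (n + 1) = b⁻¹ * ((b ^ n)⁻¹ * w * b ^ n) * b := by
                  rw [pow_succ]; group
              _ = (b⁻¹ * w * b) * (b⁻¹ * c ^ n * b) := by rw [ih]; group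
              _ = w * c ^ (n + 1) := by
                rw [mul_assoc b⁻¹ (c ^ n), ← mem_center_iff.1 (pow_mem hcZ n) b, inv_mul_cancel_left,
                  pow_succ', ← mul_assoc w, hc, hu, mul_inv_cancel_left]
        have hc1 : c = 1 := by
          have h1 := hit p
          rw [hb, ← pow_mul, mul_comm, pow_mul, mul_assoc,
            mem_center_iff.1 (pow_mem hap i) w, inv_mul_cancel_left, left_eq_mul] at h1
          obtain ⟨n, hn⟩ := IsPGroup.iff_orderOf.1 R.2 ⟨c, hcR⟩
          rw [← orderOf_coe, Subgroup.coe_mk] at hn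
          exact orderOf_eq_one_iff.1 (Nat.eq_one_of_dvd_coprimes
            (Nat.Coprime.pow_right n ((Nat.coprime_primes hp hr).2 hpr)) (orderOf_dvd_of_pow_eq_one h1)
            (hn ▸ dvd_rfl))
        have hbw : Commute b w := by
          rw [hc, inv_mul_eq_one, hu] at hc1
          show b * w = w * b
          conv_lhs => rw [hc1]
          group
        by_cases hpi' : p ∣ i
        · refine hnc fun s hs => ?_
          obtain ⟨e, rfl⟩ := hpi'
          have := hconj s hs
          rwa [hb, pow_mul, ← mem_center_iff.1 (pow_mem hap e) s, mul_inv_cancel_right] at this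
        · refine hw0 (hR0mem w hw ?_)
          obtain ⟨j, hj⟩ := Nat.exists_mul_mod_eq_one_of_coprime ((hp.coprime_iff_not_dvd.2 hpi').symm) hp.one_lt
          have e1 : a = b ^ j * ((a ^ p) ^ (i * j / p))⁻¹ := by
            rw [eq_mul_inv_iff_mul_eq, hb, ← pow_mul, ← pow_mul, ← pow_succ']
            congr 1
            have := Nat.div_add_mod (i * j) p
            omega
          rw [e1]
          exact ((hbw.pow_left j).mul_left (mem_center_iff.1 (inv_mem (pow_mem hap _)) w).symm).symm.eq
      · refine hnc fun s hs => ?_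
        have h1 := hcom (g⁻¹ * s * g) (by simpa using hRn.conj_mem s hs g⁻¹)
        rwa [show g * (g⁻¹ * s * g) * g⁻¹ = s by group] at h1
  have hRc : ∀ y ∈ (R : Subgroup G), ∀ s ∈ (R : Subgroup G), y * s = s * y := by
    intro y hy s hs
    by_cases hy0 : y ∈ R0
    · have hne : x * y ∉ R0 := fun e => hxR0 (by simpa using mul_mem e (inv_mem hy0))
      have h1 := key (x * y) (mul_mem hxR hy) hne s hs
      have h2 := key x hxR hxR0 s hs
      calc y * s = x⁻¹ * (x * y * s) := by group
        _ = x⁻¹ * (s * x * y) := by rw [h1, mul_assoc s x y]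
        _ = _ := by rw [← h2]; group
    · exact key y hy hy0 s hs
  -- `C ⊓ H` is the centre
  have hHc : ∀ u ∈ H, ∀ v ∈ H, u * v = v * u := by
    intro u hu v hv
    rw [hHRZ, mem_sup_of_normal_right] at hu hv
    obtain ⟨y, hy, z, hz, rfl⟩ := hu
    obtain ⟨y', hy', z', hz', rfl⟩ := hv
    have e1 := mem_center_iff.1 hz
    have e2 := mem_center_iff.1 hz'
    calc y * z * (y' * z') = y * y' * (z * z') := by rw [mul_assoc y, ← mul_assoc z, ← e1 y']; group
      _ = y' * y * (z' * z) := by rw [hRc y hy y' hy', e1 z']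
      _ = _ := by rw [mul_assoc y' z', ← mul_assoc z', ← e2 y]; group
  have hKZ : K = Z := by
    refine le_antisymm (fun g hg => ?_) (le_inf (fun z hz => mem_centralizer_singleton_iff.2
      (mem_center_iff.1 hz a).symm) hZH)
    rw [hZ, mem_center_iff]
    intro v
    obtain ⟨i, hi⟩ := hcoset v
    have h1 : Commute g a := mem_centralizer_singleton_iff.1 hg.1
    have h2 : Commute g ((a ^ i)⁻¹ * v) := hHc g hg.2 _ hi
    have := (h1.pow_right i).mul_right h2
    rw [mul_inv_cancel_left] at this
    exact this.symm.eq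
  refine ⟨p, r, hp, hr, hpr, ?_, fun hcq => ?_⟩
  · rw [← index_eq_card, ← hKrel, ← hpi, mul_comm, hKZ]
    exact (relIndex_mul_index hZH).symm
  · have h0 : x * a * x⁻¹ * a⁻¹ ∈ Z := by
      rw [← QuotientGroup.eq_one_iff]
      show π _ = 1
      rw [map_mul, map_mul, map_mul, map_inv, map_inv, hcq.is_comm.comm (π x) (π a), mul_inv_cancel_right,
        mul_inv_cancel]
    set c := x * a * x⁻¹ * a⁻¹ with hc
    have hxa : x * a * x⁻¹ = c * a := by rw [hc]; group
    have hcp : c ^ p = 1 := by
      have h1 : (x * a * x⁻¹) ^ p = a ^ p := by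
        rw [conj_pow, mem_center_iff.1 hap x, mul_inv_cancel_right]
      rw [hxa, (show Commute c a from (mem_center_iff.1 h0 a).symm).mul_pow, mul_eq_right] at h1
      exact h1
    have hit : ∀ n : ℕ, x ^ n * a * (x ^ n)⁻¹ = c ^ n * a := by
      intro n
      induction n with
      | zero => simp
      | succ n ih =>
        calc x ^ (n + 1) * a * (x ^ (n + 1))⁻¹ = x * (x ^ n * a * (x ^ n)⁻¹) * x⁻¹ := by
              rw [pow_succ']; group
          _ = x * c ^ n * (a * x⁻¹) := by rw [ih]; group
          _ = c ^ n * (x * a * x⁻¹) := by rw [mem_center_iff.1 (pow_mem h0 n) x]; group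
          _ = _ := by rw [hxa, ← mul_assoc, pow_succ]
    have h1 := hit (r ^ k)
    rw [← hxo, pow_orderOf_eq_one, one_mul, inv_one, mul_one, hxo, right_eq_mul] at h1
    have hc1 : c = 1 := orderOf_eq_one_iff.1 (Nat.eq_one_of_dvd_coprimes
      (Nat.Coprime.pow_right k ((Nat.coprime_primes hp hr).2 hpr))
      (orderOf_dvd_of_pow_eq_one hcp) (orderOf_dvd_of_pow_eq_one h1))
    rw [hc1, one_mul, mul_inv_eq_iff_eq_mul] at hxa
    exact haH1 (mem_centralizer_singleton_iff.2 hxa.symm)


/-- Let `G` be a finite group every conjugacy class of which has size 1 or a prime. Then either `G` is nilpotent of class at most 2, or `G/Z(G)` is a non-abelian group of order `pq` for distinct primes `p, q` (a Frobenius group of order `pq`). -/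
theorem result {G : Type*} [Group G] [Finite G]
    (h : ∀ x : G, (Subgroup.centralizer ({x} : Set G)).index = 1 ∨ ((Subgroup.centralizer ({x} : Set G)).index).Prime) :
    Subgroup.upperCentralSeries G 2 = ⊤ ∨
      ∃ p q : ℕ, p.Prime ∧ q.Prime ∧ p ≠ q ∧ Nat.card (G ⧸ Subgroup.center G) = p * q ∧ ¬ IsMulCommutative (G ⧸ Subgroup.center G) := by
  classical
  by_cases hall : ∀ (x : G) (r k : ℕ), r.Prime → orderOf x = r ^ k → x ∉ Subgroup.center G →
      (Subgroup.centralizer ({x} : Set G)).index = r
  · exact Or.inl (nilpotent_case h hall)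
  · push_neg at hall
    obtain ⟨x, r, k, hr, hxo, hx, hne⟩ := hall
    exact Or.inr (main_case h hr hxo hx rfl hne)

end Cfsg.Agent.S4314
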