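import Cfsg.Statements.S4316
import Cfsg.Agent.Lib.FixedDerived.Main

set_option autoImplicit false
universe u
open Cfsg

namespace Cfsg.Agent.S4316

open Subgroup in
theorem bound_semidirect (q m : ℕ) (A G : Type u) [Group A] [Finite A] [Group G] [Finite G]
    [MulDistribMulAction A G] (hq : q.Prime) (hA : Nat.card A = q ^ 3) (hc : ∀ a b : A, a * b = b * a)
    (he : ∀ a : A, a ^ q = 1) (hcop : ¬ q ∣ Nat.card G)
    (hm : ∀ a : A, a ≠ 1 →
      Nat.card ↥(commutator ↥(FixedPoints.subgroup (Subgroup.zpowers a) G)) ≤ m) :
    Nat.card ↥(commutator G) ≤ CfsgLib.FixedDerived.derBound q m := by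
  haveI : Fact q.Prime := ⟨hq⟩
  let φ : A →* MulAut G := MulDistribMulAction.toMulAut A G
  let iG : G →* G ⋊[φ] A := SemidirectProduct.inl
  let iA : A →* G ⋊[φ] A := SemidirectProduct.inr
  haveI : Finite (G ⋊[φ] A) :=
    Finite.of_equiv (G × A) SemidirectProduct.equivProd.symm
  haveI : (iG.range).Normal := by
    rw [show iG.range = (SemidirectProduct.rightHom : G ⋊[φ] A →* A).ker from
      SemidirectProduct.range_inl_eq_ker_rightHom]
    infer_instance
  have hiG : Function.Injective iG := SemidirectProduct.inl_injective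
  have hiA : Function.Injective iA := SemidirectProduct.inr_injective
  have hEl : Cfsg.IsElementaryAbelian q iA.range := by
    refine ⟨⟨⟨?_⟩⟩, ?_⟩
    · rintro ⟨_, a, rfl⟩ ⟨_, b, rfl⟩
      exact Subtype.ext (by simp [← map_mul, hc a b])
    · rintro _ ⟨a, rfl⟩
      rw [← map_pow, he, map_one]
  have hcA : Nat.card iA.range = q ^ 3 := by
    rw [← Nat.card_congr (MonoidHom.ofInjective hiA).toEquiv, hA]
  have hcG : Nat.card iG.range = Nat.card G :=
    (Nat.card_congr (MonoidHom.ofInjective hiG).toEquiv).symm
  have hcomm : ∀ (H : Subgroup G), Nat.card ↥(commutator ↥H) = Nat.card ↥⁅H.map iG, H.map iG⁆ := by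
    intro H
    rw [← Subgroup.map_commutator, Subgroup.card_map_of_injective hiG, ← Subgroup.map_subtype_commutator,
      Subgroup.card_map_of_injective H.subtype_injective]
  have h := CfsgLib.FixedDerived.derived_bound m hEl hcA (by rwa [hcG]) (by
    rintro _ ⟨a, rfl⟩ ha
    have ha' : a ≠ 1 := fun h => ha (by rw [h, map_one])
    have key : iG.range ⊓ centralizer {iA a} =
        (FixedPoints.subgroup (Subgroup.zpowers a) G).map iG := by
      ext x
      constructor
      · rintro ⟨⟨g, rfl⟩, hx⟩
        refine ⟨g, ?_, rfl⟩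
        have h1 := Subgroup.mem_centralizer_singleton_iff.1 hx
        have h2 : φ a g = g := hiG (by
          rw [SemidirectProduct.inl_aut]
          show iA a * iG g * iA a⁻¹ = iG g
          rw [← h1, map_inv, mul_inv_cancel_right])
        rintro ⟨b, hb⟩
        exact MulAction.mem_stabilizer_iff.1
          ((Subgroup.zpowers_le.2 (MulAction.mem_stabilizer_iff.2 (show a • g = g from h2))) hb)
      · rintro ⟨g, hg, rfl⟩
        refine ⟨⟨g, rfl⟩, Subgroup.mem_centralizer_singleton_iff.2 ?_⟩
        have h2 : a • g = g := hg ⟨a, Subgroup.mem_zpowers a⟩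
        have h1 := SemidirectProduct.inl_aut (φ := φ) a g
        rw [show φ a g = a • g from rfl, h2] at h1
        show iG g * iA a = iA a * iG g
        have h3 : iG g = iA a * iG g * iA a⁻¹ := h1
        conv_lhs => rw [h3, map_inv, inv_mul_cancel_right]
    rw [key, ← hcomm]
    exact hm a ha')
  refine le_trans (le_of_eq ?_) h
  rw [show iG.range = (⊤ : Subgroup G).map iG from MonoidHom.range_eq_map iG,
    ← Subgroup.map_commutator, Subgroup.card_map_of_injective hiG]
  rfl

/-- There is a function `f` of two natural-number arguments with the following property. Let `q` be a prime and `A` an elementary abelian group of order `q³` acting by automorphisms on a finite group `G` of order prime to `q`, and suppose that for every non-identity `a ∈ A` the derived subgroup of the fixed-point subgroup `C_G(a)` has order at most `m`. Then the derived subgroup of `G` has order at most `f(q, m)`. -/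
theorem result :
    ∃ f : ℕ → ℕ → ℕ, ∀ (q m : ℕ) (A G : Type u) [Group A] [Finite A] [Group G] [Finite G] [MulDistribMulAction A G],
      q.Prime → Nat.card A = q ^ 3 → (∀ a b : A, a * b = b * a) → (∀ a : A, a ^ q = 1) → ¬ q ∣ Nat.card G →
      (∀ a : A, a ≠ 1 → Nat.card ↥(commutator ↥(FixedPoints.subgroup (Subgroup.zpowers a) G)) ≤ m) →
      Nat.card ↥(commutator G) ≤ f q m := by
  refine ⟨CfsgLib.FixedDerived.derBound, ?_⟩
  intro q m A G _ _ _ _ _ hq hA hc he hcop hm
  exact bound_semidirect q m A G hq hA hc he hcop hm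

end Cfsg.Agent.S4316
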