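import Cfsg.Statements.S4320

set_option autoImplicit false
open Cfsg

namespace Cfsg.Agent.S4320
open MonoidAlgebra in
theorem det_trick {G : Type*} [Group G] [Finite G] [Fintype (Abelianization G)] {M : Type*} [AddCommGroup M]
    (ρ : Abelianization G →* AddMonoid.End M) (π : M →+ MonoidAlgebra ℤ (Abelianization G))
    (hπ : ∀ q m, π (ρ q m) = MonoidAlgebra.single q 1 * π m) (δ : G → M)
    (hδ : ∀ g h, δ (g * h) = δ g + ρ (Abelianization.of g) (δ h))
    (hπδ : ∀ g, π (δ g) = MonoidAlgebra.single (Abelianization.of g) 1 - 1) (g : G) :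
    ∑ q, ρ q (δ g) = 0 := by
  classical
  haveI := Fintype.ofFinite G
  let Φ := MonoidAlgebra.lift ℤ (AddMonoid.End M) (Abelianization G) ρ
  let ε := MonoidAlgebra.lift ℤ ℤ (Abelianization G) 1
  let ev : M → (MonoidAlgebra ℤ (Abelianization G) →+ M) := fun m =>
    (AddMonoidHom.eval m).comp Φ.toRingHom.toAddMonoidHom
  have hev : ∀ m x, ev m x = Φ x m := fun _ _ => rfl
  have hmul : ∀ x y m, ev m (x * y) = Φ x (ev m y) := fun x y m => by
    rw [hev, hev, map_mul]; rfl
  have hone : ∀ m, ev m 1 = m := fun m => by rw [hev, map_one]; rfl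
  have hsing : ∀ q n m, ev m (MonoidAlgebra.single q n) = n • ρ q m := fun q n m => by
    rw [hev, MonoidAlgebra.lift_single]; rfl
  have hπΦ : ∀ x m, π (ev m x) = x * π m := fun x m => by
    induction x using MonoidAlgebra.induction_linear with
    | zero => simp
    | add x y hx hy => rw [map_add, map_add, hx, hy, add_mul]
    | single q n => rw [hsing, map_zsmul, hπ, ← smul_mul_assoc, MonoidAlgebra.smul_single, smul_eq_mul, mul_one]
  -- the augmentation submodule
  let S : AddSubgroup M :=
    { carrier := {m | ∃ c : G → MonoidAlgebra ℤ (Abelianization G), (∀ h, ε (c h) = 0) ∧ m = ∑ h, ev (δ h) (c h)}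
      zero_mem' := ⟨0, by simp, by simp⟩
      add_mem' := by
        rintro a b ⟨c, hc, rfl⟩ ⟨d, hd, rfl⟩
        exact ⟨c + d, fun h => by simp [hc, hd], by simp [Finset.sum_add_distrib]⟩
      neg_mem' := by
        rintro a ⟨c, hc, rfl⟩
        exact ⟨-c, fun h => by simp [hc], by simp⟩ }
  have hS : ∀ q h, ρ q (δ h) - δ h ∈ S := fun q h => by
    refine ⟨Pi.single h (MonoidAlgebra.single q 1 - 1), fun k => ?_, ?_⟩
    · rcases eq_or_ne k h with rfl | hk
      · rw [Pi.single_eq_same]; simp [ε]
      · rw [Pi.single_eq_of_ne hk, map_zero]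
    · rw [Finset.sum_eq_single h (fun k _ hk => by rw [Pi.single_eq_of_ne hk, map_zero]) (by simp),
        Pi.single_eq_same, map_sub, hsing, one_smul, hone]
  let ψ : G →* Multiplicative (M ⧸ S) := MonoidHom.mk'
    (fun g => Multiplicative.ofAdd (QuotientAddGroup.mk (δ g))) fun a b => by
      refine congrArg Multiplicative.ofAdd ?_
      rw [hδ, QuotientAddGroup.mk_add]
      exact congrArg _ ((QuotientAddGroup.eq_iff_sub_mem).2 (hS _ b))
  let ψ' : Additive (Abelianization G) →+ M ⧸ S := MonoidHom.toAdditiveLeft (Abelianization.lift ψ)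
  let F : (G → ℤ) →+ Additive (Abelianization G) :=
    ∑ h, (zmultiplesHom _ (Additive.ofMul (Abelianization.of h))).comp (Pi.evalAddMonoidHom (fun _ : G => ℤ) h)
  have hF : ∀ v, F v = ∑ h, v h • Additive.ofMul (Abelianization.of h) := fun v => by
    simp [F, AddMonoidHom.finsetSum_apply]
  have hFsurj : Function.Surjective F := fun q => by
    obtain ⟨h, hh⟩ := QuotientGroup.mk_surjective (Additive.toMul q)
    refine ⟨Pi.single h 1, ?_⟩
    rw [hF, Finset.sum_eq_single h (fun k _ hk => by rw [Pi.single_eq_of_ne hk, zero_smul]) (by simp),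
      Pi.single_eq_same, one_smul]
    exact congrArg Additive.ofMul hh
  have hKS : ∀ v ∈ F.ker, ∑ h, v h • δ h ∈ S := fun v hv => by
    rw [← QuotientAddGroup.eq_zero_iff]
    have h1 : ψ' (F v) = 0 := by rw [AddMonoidHom.mem_ker.1 hv, map_zero]
    rw [hF, map_sum] at h1
    rw [← h1]
    show QuotientAddGroup.mk' S _ = _
    rw [map_sum]
    refine Finset.sum_congr rfl fun h _ => ?_
    rw [map_zsmul, map_zsmul]
    rfl
  let N : Submodule ℤ (G → ℤ) := AddSubgroup.toIntSubmodule F.ker
  have hN : Module.finrank ℤ N = Fintype.card G := by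
    refine le_antisymm ((Submodule.finrank_le N).trans (Module.finrank_fintype_fun_eq_card ℤ).le) ?_
    let n : ℤ := Nat.card (Abelianization G)
    let f : (G → ℤ) →ₗ[ℤ] N := LinearMap.codRestrict N (n • LinearMap.id) fun v => by
      show F (n • v) = 0
      rw [map_zsmul, natCast_zsmul]
      exact card_nsmul_eq_zero' (G := Additive (Abelianization G)) (x := F v)
    refine (Module.finrank_fintype_fun_eq_card ℤ).ge.trans (LinearMap.finrank_le_finrank_of_injective (f := f) ?_)
    intro v w hvw
    have : n • v = n • w := congrArg Subtype.val hvw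
    exact smul_right_injective _ (Int.natCast_ne_zero.2 Nat.card_pos.ne') this
  let bN := (Module.finBasisOfFinrankEq ℤ N hN).reindex (Fintype.equivFin G).symm
  have hdet : ((Pi.basisFun ℤ G).det fun i => ((bN i : N) : G → ℤ)).natAbs = Nat.card (Abelianization G) := by
    have h1 := Submodule.natAbs_det_basis_change (Pi.basisFun ℤ G) N bN
    have h2 : F.ker.index = Nat.card (Abelianization G) := by
      rw [AddSubgroup.index_ker, AddMonoidHom.range_eq_top.2 hFsurj, AddSubgroup.card_top]
      exact Nat.card_congr Additive.toMul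
    rw [← h2]
    exact h1
  let M0 : Matrix G G ℤ := Matrix.of fun i j => ((bN i : N) : G → ℤ) j
  have hM0 : (Pi.basisFun ℤ G).det (fun i => ((bN i : N) : G → ℤ)) = M0.det := by
    rw [← Matrix.det_transpose M0, Module.Basis.det_apply]
    rfl
  choose c hc hcsum using fun i => hKS _ (show ((bN i : N) : G → ℤ) ∈ F.ker from (bN i).2)
  let R' : Matrix G G (MonoidAlgebra ℤ (Abelianization G)) := Matrix.of fun i j =>
    algebraMap ℤ _ (M0 i j) - c i j
  have hrow : ∀ i, ∑ j, ev (δ j) (R' i j) = 0 := fun i => by
    show ∑ j, ev (δ j) (algebraMap ℤ _ (M0 i j) - c i j) = 0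
    rw [Finset.sum_congr rfl (fun j _ => map_sub (ev (δ j)) _ _), Finset.sum_sub_distrib, ← hcsum, sub_eq_zero]
    refine Finset.sum_congr rfl fun j _ => ?_
    rw [hev, AlgHom.commutes, eq_intCast]
    rfl
  set d := R'.det with hd
  have hkill : ∀ k, ev (δ k) d = 0 := fun k => by
    have h1 : ∀ j, (R'.adjugate * R') k j = if k = j then d else 0 := fun j => by
      rw [Matrix.adjugate_mul, Matrix.smul_apply, Matrix.one_apply]; split <;> simp [hd]
    have h2 : ∑ j, ev (δ j) ((R'.adjugate * R') k j) = 0 := by
      simp only [Matrix.mul_apply, map_sum, hmul]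
      rw [Finset.sum_comm]
      refine Finset.sum_eq_zero fun i _ => ?_
      rw [← map_sum, hrow, map_zero]
    rw [Finset.sum_eq_single k (fun j _ hj => by rw [h1, if_neg (Ne.symm hj), map_zero]) (by simp),
      h1, if_pos rfl] at h2
    exact h2
  have hconst : ∀ y, d.coeff y = d.coeff 1 := fun y => by
    obtain ⟨h, hh⟩ := QuotientGroup.mk_surjective y⁻¹
    have h1 := congrArg π (hkill h)
    rw [hπΦ, map_zero, hπδ, mul_sub, mul_one, sub_eq_zero] at h1
    have h2 := congrArg (fun x => MonoidAlgebra.coeff x 1) h1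
    simp only [MonoidAlgebra.coeff_mul_single_apply, mul_one, one_mul] at h2
    rw [← h2, show Abelianization.of h = y⁻¹ from hh, inv_inv]
  set n := d.coeff 1
  have hdN : d = ∑ q, MonoidAlgebra.single q n := by
    ext y
    simp [Finsupp.single_apply, hconst]
  have hεd : ε d = (Nat.card (Abelianization G) : ℤ) * n := by
    rw [hdN, map_sum]
    simp [ε, Nat.card_eq_fintype_card]
  have hεR : ε d = M0.det := by
    rw [hd, AlgHom.map_det]
    congr 1
    ext i j
    show ε (algebraMap ℤ _ (M0 i j) - c i j) = M0 i j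
    rw [map_sub, AlgHom.commutes, hc, sub_zero]
    simp
  have hn : n.natAbs = 1 := by
    have : (Nat.card (Abelianization G)) * n.natAbs = Nat.card (Abelianization G) := by
      conv_rhs => rw [← hdet, hM0, ← hεR, hεd, Int.natAbs_mul, Int.natAbs_natCast]
    exact Nat.eq_of_mul_eq_mul_left Nat.card_pos (this.trans (mul_one _).symm)
  have h3 := hkill g
  rw [hdN, map_sum, Finset.sum_congr rfl (fun q _ => hsing q n (δ g)), ← Finset.smul_sum] at h3
  rcases Int.natAbs_eq_iff.1 hn with h | h
  · rw [h] at h3; simpa using h3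
  · rw [h] at h3; simpa using h3

variable (G : Type*) [Group G]

/-- Abelian quotient of the derived subgroup, written additively. -/
abbrev V := Additive (Abelianization ↥(commutator G))

/-- The extension of the augmentation ideal by `V G`. -/
abbrev MM := V G × (Abelianization G →₀ ℤ)

theorem pit [Finite G] (g : G) :
    MonoidHom.transfer (Abelianization.of : ↥(commutator G) →* Abelianization ↥(commutator G)) g = 1 := by
  classical
  haveI : Fintype (Abelianization G) := Fintype.ofFinite _
  let of : G →* Abelianization G := Abelianization.of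
  have hsurj : Function.Surjective of := QuotientGroup.mk_surjective
  have hmem : ∀ x, x ∈ commutator G ↔ of x = 1 := fun x => by
    rw [← Abelianization.ker_of G]; rfl
  let t : Abelianization G → G := fun q => if q = 1 then 1 else Function.surjInv hsurj q
  have ht : ∀ q, of (t q) = q := fun q => by
    simp only [t]; split
    · next h => rw [h, map_one]
    · exact Function.surjInv_eq hsurj q
  have ht1 : t 1 = 1 := if_pos rfl
  let κ : G → V G := fun x => if h : x ∈ commutator G then Additive.ofMul (Abelianization.of ⟨x, h⟩) else 0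
  have κdef : ∀ x h, κ x = Additive.ofMul (Abelianization.of (⟨x, h⟩ : commutator G)) := fun x h => dif_pos h
  have κone : κ 1 = 0 := by rw [κdef 1 (one_mem _)]; exact congrArg Additive.ofMul (map_one Abelianization.of)
  have κmul : ∀ x y, of x = 1 → of y = 1 → κ (x * y) = κ x + κ y := fun x y hx hy => by
    rw [κdef x ((hmem x).2 hx), κdef y ((hmem y).2 hy), κdef (x * y) (mul_mem ((hmem x).2 hx) ((hmem y).2 hy))]
    exact congrArg Additive.ofMul (map_mul Abelianization.of (⟨x, (hmem x).2 hx⟩ : commutator G) ⟨y, (hmem y).2 hy⟩)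
  have κsurj : ∀ v : V G, ∃ x, of x = 1 ∧ κ x = v := fun v => by
    obtain ⟨⟨x, hx⟩, e⟩ := QuotientGroup.mk_surjective (Additive.toMul v)
    exact ⟨x, (hmem x).1 hx, (κdef x hx).trans (congrArg Additive.ofMul e)⟩
  have κconj : ∀ c x, of c = 1 → of x = 1 → κ (c * x * c⁻¹) = κ x := fun c x hc hx => by
    rw [κmul _ _ (by simp [hc, hx]) (by simp [hc]), κmul _ _ hc hx]
    have : κ c + κ c⁻¹ = 0 := by rw [← κmul _ _ hc (by simp [hc]), mul_inv_cancel, κone]
    rw [add_comm (κ c) (κ x), add_assoc, this, add_zero]
  let ν : Abelianization G → (V G →+ V G) := fun q =>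
    MonoidHom.toAdditive (Abelianization.map (MulAut.conjNormal (t q) : MulAut (commutator G)).toMonoidHom)
  have hν : ∀ q x, of x = 1 → ν q (κ x) = κ (t q * x * (t q)⁻¹) := fun q x hx => by
    rw [κdef x ((hmem x).2 hx), κdef (t q * x * (t q)⁻¹) ((hmem _).2 (by simp [hx]))]
    rfl
  let c : Abelianization G → Abelianization G → G := fun q r => t q * t r * (t (q * r))⁻¹
  have hc : ∀ q r, of (c q r) = 1 := fun q r => by simp [c, ht]
  let E : Abelianization G → Abelianization G → MM G := fun q s =>
    (κ (c q s), Finsupp.single (q * s) 1 - Finsupp.single q 1 + Finsupp.single 1 1)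
  let T : Abelianization G → (MM G →+ MM G) := fun q =>
    AddMonoidHom.coprod ((AddMonoidHom.inl _ _).comp (ν q))
      (Finsupp.liftAddHom fun s => zmultiplesHom (MM G) (E q s))
  have T1 : ∀ q v, T q (v, 0) = (ν q v, 0) := fun q v => by simp [T]
  have T2 : ∀ q s, T q (0, Finsupp.single s 1) = E q s := fun q s => by simp [T]
  have split_M : ∀ v f, ((v, f) : MM G) = (v, 0) + (0, f) := fun v f => by simp
  have hext : ∀ φ χ : (MM G →+ MM G), (∀ x, of x = 1 → φ (κ x, 0) = χ (κ x, 0)) →
      (∀ s, φ (0, Finsupp.single s 1) = χ (0, Finsupp.single s 1)) → φ = χ := by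
    intro φ χ h1 h2
    refine AddMonoidHom.ext fun ⟨v, f⟩ => ?_
    rw [split_M v f, map_add, map_add]
    congr 1
    · obtain ⟨x, hx, rfl⟩ := κsurj v; exact h1 x hx
    · have : φ.comp (AddMonoidHom.inr _ _) = χ.comp (AddMonoidHom.inr _ _) :=
        Finsupp.addHom_ext fun s n => by
          rw [← smul_eq_mul n 1 |>.trans (mul_one n), ← Finsupp.smul_single, map_zsmul, map_zsmul]
          exact congrArg (n • ·) (h2 s)
      exact DFunLike.congr_fun this f
  have hT1 : T 1 = AddMonoidHom.id (MM G) := hext _ _
    (fun x hx => by rw [T1, hν 1 x hx, ht1, one_mul, inv_one, mul_one]; rfl)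
    (fun s => by
      rw [T2]; show E 1 s = _
      simp only [E, c, ht1, one_mul, mul_inv_cancel, κone, sub_add_cancel]; rfl)
  have hTmul : ∀ q r, T (q * r) = (T q).comp (T r) := fun q r => by
    refine hext _ _ (fun x hx => ?_) (fun s => ?_)
    · show T (q * r) (κ x, 0) = T q (T r (κ x, 0))
      rw [T1, T1, T1, hν r x hx, hν q _ (by simp [hx]), hν _ x hx]
      rw [show t q * (t r * x * (t r)⁻¹) * (t q)⁻¹ = c q r * (t (q * r) * x * (t (q * r))⁻¹) * (c q r)⁻¹ by
        simp only [c]; group, κconj _ _ (hc q r) (by simp [hx])]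
    · show T (q * r) (0, Finsupp.single s 1) = T q (T r (0, Finsupp.single s 1))
      rw [T2, T2]
      show E (q * r) s = T q (κ (c r s), Finsupp.single (r * s) 1 - Finsupp.single r 1 + Finsupp.single 1 1)
      rw [split_M (κ (c r s)), show ((0, Finsupp.single (r * s) 1 - Finsupp.single r 1 + Finsupp.single 1 1) : MM G) =
        (0, Finsupp.single (r * s) 1) - (0, Finsupp.single r 1) + (0, Finsupp.single 1 1) by simp]
      rw [map_add, map_add, map_sub, T1, T2, T2, T2, hν q _ (hc r s)]
      have e : κ (c (q * r) s) = κ (t q * c r s * (t q)⁻¹) + (κ (c q (r * s)) - κ (c q r) + κ (c q 1)) := by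
        have h1 : κ (c q 1) = 0 := by simp [c, ht1, κone]
        have h2 : κ (c q r) + κ (c (q * r) s) = κ (t q * c r s * (t q)⁻¹) + κ (c q (r * s)) := by
          rw [← κmul _ _ (hc _ _) (hc _ _), ← κmul _ _ (by simp [hc]) (hc _ _)]
          congr 1
          simp only [c, mul_assoc q r s]; group
        rw [h1, add_zero, add_sub, ← h2]; abel
      simp only [E, Prod.mk_add_mk, Prod.mk_sub_mk, mul_one]
      refine Prod.ext e ?_
      simp only [zero_add, mul_assoc]; abel
  let ρ : Abelianization G →* AddMonoid.End (MM G) := { toFun := T, map_one' := hT1, map_mul' := hTmul }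
  let π : MM G →+ MonoidAlgebra ℤ (Abelianization G) :=
    (Finsupp.liftAddHom fun s => zmultiplesHom _ (MonoidAlgebra.single s (1 : ℤ) - 1)).comp (AddMonoidHom.snd _ _)
  have π2 : ∀ v s, π (v, Finsupp.single s 1) = MonoidAlgebra.single s 1 - 1 := fun v s => by simp [π]
  have π1 : ∀ v, π (v, 0) = 0 := fun v => by simp [π]
  let δ : G → MM G := fun g => (κ (g * (t (of g))⁻¹), Finsupp.single (of g) 1 - Finsupp.single 1 1)
  have δsplit : ∀ g, δ g = (κ (g * (t (of g))⁻¹), 0) + ((0, Finsupp.single (of g) 1) - (0, Finsupp.single 1 1)) :=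
    fun g => by simp [δ]
  have hπ : ∀ q m, π (ρ q m) = MonoidAlgebra.single q 1 * π m := by
    intro q m
    show π (T q m) = _
    have : (π.comp (T q)) = (AddMonoidHom.mulLeft (MonoidAlgebra.single q (1 : ℤ))).comp π := by
      refine AddMonoidHom.ext fun ⟨v, f⟩ => ?_
      rw [split_M v f, map_add, map_add]
      congr 1
      · show π (T q (v, 0)) = MonoidAlgebra.single q 1 * π (v, 0)
        rw [T1, π1, π1, mul_zero]
      · induction f using Finsupp.induction_linear with
        | zero => exact (map_zero _).trans (map_zero _).symm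
        | add a b ha hb => rw [show ((0, a + b) : MM G) = (0, a) + (0, b) by simp, map_add, map_add, ha, hb]
        | single s n =>
          rw [show ((0, Finsupp.single s n) : MM G) = n • (0, Finsupp.single s 1) by simp, map_zsmul, map_zsmul]
          congr 1
          show π (T q (0, Finsupp.single s 1)) = MonoidAlgebra.single q 1 * π (0, Finsupp.single s 1)
          rw [T2, π2]
          show π (_, Finsupp.single (q * s) 1 - Finsupp.single q 1 + Finsupp.single 1 1) = _
          rw [split_M (κ (c q s)), map_add, π1, zero_add,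
            show ((0, Finsupp.single (q * s) 1 - Finsupp.single q 1 + Finsupp.single 1 1) : MM G) =
              (0, Finsupp.single (q * s) 1) - (0, Finsupp.single q 1) + (0, Finsupp.single 1 1) by simp,
            map_add, map_sub, π2, π2, π2, mul_sub, MonoidAlgebra.single_mul_single, mul_one, mul_one,
            ← MonoidAlgebra.one_def]
          abel
    exact DFunLike.congr_fun this m
  have hδ : ∀ g h, δ (g * h) = δ g + ρ (Abelianization.of g) (δ h) := by
    intro g h
    show δ (g * h) = δ g + T (of g) (δ h)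
    rw [δsplit h, map_add, map_sub, T1, T2, T2, hν _ _ (by simp [ht])]
    simp only [δ, E, c, ht1, mul_one, mul_inv_cancel, κone, Prod.mk_sub_mk, Prod.mk_add_mk, sub_zero, map_mul]
    refine Prod.ext ?_ (by simp)
    show κ _ = κ _ + (κ _ + κ _)
    rw [← κmul _ _ (by simp [ht]) (by simp [ht]), ← κmul _ _ (by simp [ht]) (by simp [ht])]
    congr 1
    group
  have hπδ : ∀ g, π (δ g) = MonoidAlgebra.single (Abelianization.of g) 1 - 1 := fun g => by
    rw [δsplit, map_add, map_sub, π1, π2, π2, ← MonoidAlgebra.one_def, sub_self, sub_zero, zero_add]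
  have key := congrArg Prod.fst (det_trick ρ π hπ δ hδ hπδ g)
  rw [Prod.fst_sum] at key
  have hterm : ∀ q, (ρ q (δ g)).1 = κ (t q * g * (t (q * of g))⁻¹) := fun q => by
    show (T q (δ g)).1 = _
    rw [δsplit, map_add, map_sub, T1, T2, T2, hν _ _ (by simp [ht])]
    simp only [E, c, ht1, mul_one, mul_inv_cancel, κone, Prod.fst_add, Prod.fst_sub, sub_zero]
    rw [← κmul _ _ (by simp [ht]) (by simp [ht])]
    congr 1; group
  rw [Finset.sum_congr rfl (fun q _ => hterm q)] at key
  let j : G ⧸ commutator G → Abelianization G := fun q => q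
  let u : G ⧸ commutator G → G := fun q => (t (j q)⁻¹)⁻¹
  have hu : ∀ q, (u q : G ⧸ commutator G) = q := fun q => by
    show of ((t (j q)⁻¹)⁻¹) = q
    rw [map_inv, ht]; exact inv_inv _
  rw [MonoidHom.transfer_def _ ⟨Set.range u, Subgroup.isComplement_range_left hu⟩]
  unfold Subgroup.leftTransversals.diff
  simp only [Subgroup.smul_apply_eq_smul_apply_inv_smul]
  apply Additive.ofMul.injective
  simp only [Prod.fst_zero] at key
  rw [ofMul_prod, ofMul_one, ← key]
  refine Finset.sum_equiv (Equiv.inv (Abelianization G) : G ⧸ commutator G ≃ Abelianization G) (fun _ => by simp) fun q _ => ?_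
  have e1 : ∀ r, (((Subgroup.isComplement_range_left hu).leftQuotientEquiv r : Set.range u) : G) = u r :=
    fun r => Subgroup.IsComplement.leftQuotientEquiv_apply hu r
  have e2 : j (g⁻¹ • q) = (of g)⁻¹ * j q := by
    obtain ⟨x, rfl⟩ := QuotientGroup.mk_surjective q
    rfl
  have e3 : (u q)⁻¹ * (g • u (g⁻¹ • q)) =
      t (j q)⁻¹ * g * (t ((j q)⁻¹ * of g))⁻¹ := by
    simp only [u, smul_eq_mul, inv_inv]
    rw [e2, mul_inv_rev, inv_inv, mul_assoc (t q⁻¹)]
  show _ = κ (t (j q)⁻¹ * g * (t ((j q)⁻¹ * of g))⁻¹)
  rw [← e3, κdef _ ((hmem _).2 (by rw [e3]; simp [ht]))]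
  simp only [e1]


/-- The Principal Ideal Theorem of class field theory in its group-theoretic form: for every finite group `G`, the transfer homomorphism from `G` into the abelianization `G'/G''` of its derived subgroup `G'` is the trivial homomorphism. -/
theorem result {G : Type*} [Group G] [Finite G] :
    MonoidHom.transfer (Abelianization.of : ↥(commutator G) →* Abelianization ↥(commutator G)) =
      (1 : G →* Abelianization ↥(commutator G)) := by
  exact MonoidHom.ext fun g => pit G g

end Cfsg.Agent.S4320
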