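import Cfsg.Statements.S4321
import Cfsg.Agent.Lib.FGS.SingularClassGraph

set_option autoImplicit false
open Cfsg

namespace Cfsg.Agent.S4321

/-- Let `G` be a finite group and `p` a prime not dividing the order of the centre of `G`. Consider the primes dividing the size of some conjugacy class of a `p`-singular element (an element of order divisible by `p`), two of them adjacent when their product divides such a class size. Then any two distinct such primes are joined by a path with at most 3 edges (the graph is connected of diameter at most 3). -/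
theorem result {G : Type*} [Group G] [Finite G] (p : ℕ) [Fact p.Prime]
    (hZ : ¬ p ∣ Nat.card ↥(Subgroup.center G)) (r s : ℕ) (hr : (r.Prime ∧ ∃ x : G, p ∣ orderOf x ∧ r ∣ (Subgroup.centralizer ({x} : Set G)).index)) (hs : (s.Prime ∧ ∃ x : G, p ∣ orderOf x ∧ s ∣ (Subgroup.centralizer ({x} : Set G)).index)) (hrs : r ≠ s) :
    (∃ x : G, p ∣ orderOf x ∧ r * s ∣ (Subgroup.centralizer ({x} : Set G)).index) ∨ (∃ t : ℕ, (t.Prime ∧ ∃ x : G, p ∣ orderOf x ∧ t ∣ (Subgroup.centralizer ({x} : Set G)).index) ∧ t ≠ r ∧ t ≠ s ∧ (∃ x : G, p ∣ orderOf x ∧ r * t ∣ (Subgroup.centralizer ({x} : Set G)).index) ∧ (∃ x : G, p ∣ orderOf x ∧ t * s ∣ (Subgroup.centralizer ({x} : Set G)).index)) ∨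
      (∃ t u : ℕ, (t.Prime ∧ ∃ x : G, p ∣ orderOf x ∧ t ∣ (Subgroup.centralizer ({x} : Set G)).index) ∧ (u.Prime ∧ ∃ x : G, p ∣ orderOf x ∧ u ∣ (Subgroup.centralizer ({x} : Set G)).index) ∧ t ≠ r ∧ u ≠ s ∧ t ≠ u ∧ (∃ x : G, p ∣ orderOf x ∧ r * t ∣ (Subgroup.centralizer ({x} : Set G)).index) ∧ (∃ x : G, p ∣ orderOf x ∧ t * u ∣ (Subgroup.centralizer ({x} : Set G)).index) ∧ (∃ x : G, p ∣ orderOf x ∧ u * s ∣ (Subgroup.centralizer ({x} : Set G)).index)) := by
  obtain ⟨hr1, x, hx1, hx2⟩ := hr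
  obtain ⟨hs1, y, hy1, hy2⟩ := hs
  obtain ⟨u, hu, Hu⟩ := CfsgLib.FGS.SingularGraph.vertex hr1 hx1 hx2
  obtain ⟨v, hv, Hv⟩ := CfsgLib.FGS.SingularGraph.vertex hs1 hy1 hy2
  obtain ⟨t, t', ht, ht', htu, htv, hlink⟩ := CfsgLib.FGS.SingularGraph.linked hZ hu hv
  have h1 := Hu t ht htu
  have h2 := Hv t' ht' htv
  have Vt : t.Prime ∧ ∃ w : G, p ∣ orderOf w ∧ t ∣ (Subgroup.centralizer ({w} : Set G)).index := by
    refine ⟨ht, ?_⟩
    rcases h1 with rfl | ⟨w, hw1, hw2⟩
    · exact ⟨x, hx1, hx2⟩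
    · exact ⟨w, hw1, (dvd_mul_left t r).trans hw2⟩
  have Vt' : t'.Prime ∧ ∃ w : G, p ∣ orderOf w ∧ t' ∣ (Subgroup.centralizer ({w} : Set G)).index := by
    refine ⟨ht', ?_⟩
    rcases h2 with rfl | ⟨w, hw1, hw2⟩
    · exact ⟨y, hy1, hy2⟩
    · exact ⟨w, hw1, (dvd_mul_left t' s).trans hw2⟩
  have symm : ∀ a b : ℕ, (∃ w : G, p ∣ orderOf w ∧ a * b ∣ (Subgroup.centralizer ({w} : Set G)).index) →
      ∃ w : G, p ∣ orderOf w ∧ b * a ∣ (Subgroup.centralizer ({w} : Set G)).index := fun a b h => by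
    rwa [mul_comm]
  by_cases ets : t = s
  · subst ets
    exact Or.inl (h1.resolve_left (fun e => hrs e.symm))
  by_cases et'r : t' = r
  · subst et'r
    exact Or.inl (symm _ _ (h2.resolve_left hrs))
  by_cases etr : t = r
  · subst etr
    by_cases et's : t' = s
    · subst et's
      exact Or.inl (hlink.resolve_left hrs)
    · exact Or.inr (Or.inl ⟨t', Vt', et'r, et's, hlink.resolve_left (fun e => et'r e.symm),
        symm _ _ (h2.resolve_left et's)⟩)
  have hrt := h1.resolve_left etr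
  by_cases et's : t' = s
  · subst et's
    exact Or.inr (Or.inl ⟨t, Vt, etr, ets, hrt, hlink.resolve_left ets⟩)
  have hts := symm _ _ (h2.resolve_left et's)
  by_cases ett : t = t'
  · subst ett
    exact Or.inr (Or.inl ⟨t, Vt, etr, et's, hrt, hts⟩)
  exact Or.inr (Or.inr ⟨t, t', Vt, Vt', etr, et's, ett, hrt, hlink.resolve_left ett, hts⟩)

end Cfsg.Agent.S4321
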