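import Cfsg.Statements.S4323
import Cfsg.Agent.Lib.Solvable.AbelianCentralizers.Main

set_option autoImplicit false
open Cfsg

namespace Cfsg.Agent.S4323

/-- Let `q` be a prime and `A` a non-cyclic group of order `q²` acting by automorphisms on a finite group `G` of order prime to `q`, such that the fixed-point subgroup `C_G(a)` is abelian for every non-identity `a ∈ A`. Then `G` is solvable. -/
theorem result {A G : Type*} [Group A] [Finite A]
    [Group G] [Finite G] [MulDistribMulAction A G] (q : ℕ) (hq : q.Prime) (hA : Nat.card A = q ^ 2) (hnc : ¬ IsCyclic A)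
    (hcop : ¬ q ∣ Nat.card G) (h : ∀ a : A, a ≠ 1 → IsMulCommutative ↥(FixedPoints.subgroup (Subgroup.zpowers a) G)) :
    Group.IsSolvable G := by
  haveI := Fact.mk hq
  letI : CommGroup A := { (inferInstance : Group A) with
    mul_comm := (IsPGroup.isMulCommutative_of_card_eq_prime_sq hA).is_comm.comm }
  have hexp : ∀ a : A, a ^ q = 1 := by
    intro a
    obtain ⟨i, hi, e⟩ := (Nat.dvd_prime_pow hq).1 (hA ▸ orderOf_dvd_natCard a)
    interval_cases i
    · rw [orderOf_eq_one_iff.1 (e.trans (pow_zero q)), one_pow]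
    · rw [← pow_one q, ← e, pow_orderOf_eq_one]
    · exact absurd (isCyclic_of_orderOf_eq_card a (by rw [e, hA])) hnc
  refine CfsgLib.Solvable.AbCent.isSolvable_aux (q := q) _ G (MulDistribMulAction.toMulAut A G) rfl
    hA hexp hcop fun a ha x y hx hy => ?_
  have hmem : ∀ z : G, a • z = z → z ∈ FixedPoints.subgroup (Subgroup.zpowers a) G := by
    intro z hz b
    obtain ⟨i, hi⟩ := b.2
    show (b : A) • z = z
    rw [show (b : A) = a ^ i from hi.symm]
    exact (MulAction.stabilizer A z).zpow_mem hz i
  exact congrArg Subtype.val ((h a ha).is_comm.comm ⟨x, hmem x hx⟩ ⟨y, hmem y hy⟩)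

end Cfsg.Agent.S4323
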