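import Cfsg.Statements.S4325

set_option autoImplicit false
open Cfsg

namespace Cfsg.Agent.S4325

theorem exists_label {X : Type*} [Fintype X] [DecidableEq X] :
    ∀ (m : ℕ) (t : Fin m → Equiv.Perm X), (∀ i, (t i).IsSwap) →
      ∃ f : X → X, (∀ i x, f (t i x) = f x) ∧ Fintype.card X ≤ (Finset.univ.image f).card + m := by
  intro m
  induction m with
  | zero => intro t _; exact ⟨id, fun i => i.elim0, by simp⟩
  | succ m ih =>
    intro t ht
    obtain ⟨f, hf, hcard⟩ := ih (fun i => t i.castSucc) (fun i => ht _)
    obtain ⟨x, y, -, hxy⟩ := ht (Fin.last m)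
    refine ⟨fun z => if f z = f x then f y else f z, ?_, ?_⟩
    · intro i z
      induction i using Fin.lastCases with
      | last =>
        simp only [hxy]
        rcases eq_or_ne z x with rfl | hzx
        · rw [Equiv.swap_apply_left]
          by_cases e : f y = f z <;> simp [e]
        rcases eq_or_ne z y with rfl | hzy
        · rw [Equiv.swap_apply_right]
          by_cases e : f z = f x <;> simp [e]
        rw [Equiv.swap_apply_of_ne_of_ne hzx hzy]
      | cast i => simp only [hf i z]
    · have hsub : (Finset.univ.image f).erase (f x) ⊆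
          Finset.univ.image (fun z => if f z = f x then f y else f z) := by
        intro w hw
        obtain ⟨hne, z, -, rfl⟩ := by simpa using hw
        exact Finset.mem_image.2 ⟨z, Finset.mem_univ _, if_neg hne⟩
      have h2 := Finset.card_le_card hsub
      rw [Finset.card_erase_of_mem (Finset.mem_image_of_mem f (Finset.mem_univ x))] at h2
      omega

theorem not_dvd_of_swaps {r m : ℕ} (hr : r.Prime) (hm : m + 1 < r)
    (t : Fin m → Equiv.Perm (Fin r)) (ht : ∀ i, (t i).IsSwap) :
    ¬ r ∣ Nat.card (Subgroup.closure (Set.range t)) := by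
  intro hdvd
  have := Fact.mk hr
  obtain ⟨g, hg⟩ := exists_prime_orderOf_dvd_card' r hdvd
  obtain ⟨f, hf, hcard⟩ := exists_label m t ht
  have hinv : ∀ σ ∈ Subgroup.closure (Set.range t), ∀ x, f (σ x) = f x := by
    intro σ hσ
    induction hσ using Subgroup.closure_induction with
    | mem y hy => obtain ⟨i, rfl⟩ := hy; exact hf i
    | one => intro x; rfl
    | mul a b _ _ iha ihb => intro x; rw [Equiv.Perm.mul_apply, iha, ihb]
    | inv a _ iha => intro x; conv_rhs => rw [← Equiv.apply_symm_apply a x, iha]
                     rfl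
  have hord : orderOf (g : Equiv.Perm (Fin r)) = r := by rw [Subgroup.orderOf_coe, hg]
  have hcyc : (g : Equiv.Perm (Fin r)).IsCycle :=
    Equiv.Perm.isCycle_of_prime_order' (by rw [hord]; exact hr) (by rw [hord, Fintype.card_fin]; omega)
  have hsupp : (g : Equiv.Perm (Fin r)).support = Finset.univ :=
    Finset.eq_univ_of_card _ (by rw [← hcyc.orderOf, hord, Fintype.card_fin])
  have hconst : ∀ x y, f x = f y := by
    intro x y
    obtain ⟨k, hk⟩ := hcyc.sameCycle (Equiv.Perm.mem_support.1 (hsupp ▸ Finset.mem_univ x))
      (Equiv.Perm.mem_support.1 (hsupp ▸ Finset.mem_univ y))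
    rw [← hk, hinv _ (zpow_mem g.2 k)]
  have himg : (Finset.univ.image f).card ≤ 1 := by
    rw [Finset.card_le_one]
    simp only [Finset.mem_image, Finset.mem_univ, true_and]
    rintro a ⟨x, rfl⟩ b ⟨y, rfl⟩
    exact hconst x y
  rw [Fintype.card_fin] at hcard
  omega


/-- Let r be a prime and m a natural number with m + 1 < r, and let π be a set of primes containing every prime below r but not r itself. Then in the symmetric group of degree r any m transpositions generate a π-subgroup, while O_π of the symmetric group is trivial. (So no bound on the number of conjugates that works for all π exists in the π-radical analogue of the Baer–Suzuki Theorem.) -/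
theorem result (r m : ℕ) (hr : r.Prime)
    (hm : m + 1 < r) (π : Set ℕ) (hπ : ∀ q : ℕ, q.Prime → q < r → q ∈ π) (hrπ : r ∉ π)
    (t : Fin m → Equiv.Perm (Fin r)) (ht : ∀ i, (t i).IsSwap) :
    Cfsg.IsPiSubgroup π (Subgroup.closure (Set.range t)) ∧ Cfsg.piCore π (Equiv.Perm (Fin r)) = ⊥ := by
  refine ⟨fun q hq hqd => ?_, ?_⟩
  · have hle : q ≤ r := by
      have : q ∣ Nat.factorial r := hqd.trans ((Subgroup.card_subgroup_dvd_card _).trans (by
        rw [Nat.card_eq_fintype_card, Fintype.card_perm, Fintype.card_fin]))
      exact (Nat.Prime.dvd_factorial hq).1 this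
    rcases hle.lt_or_eq with h | rfl
    · exact hπ q hq h
    · exact absurd hqd (not_dvd_of_swaps hr hm t ht)
  · refine sSup_eq_bot.2 ?_
    rintro N ⟨hN, hNπ⟩
    by_contra hne
    have : MulAction.IsQuasiPreprimitive (Equiv.Perm (Fin r)) (Fin r) := inferInstance
    have hfix : MulAction.fixedPoints N (Fin r) ≠ Set.univ := by
      intro h
      apply hne
      rw [Subgroup.eq_bot_iff_forall]
      intro σ hσ
      ext x
      exact congrArg Fin.val ((Set.eq_univ_iff_forall.1 h x) ⟨σ, hσ⟩)
    have htrans := MulAction.IsQuasiPreprimitive.isPretransitive_of_normal (G := Equiv.Perm (Fin r)) hfix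
    have h1 := MulAction.index_stabilizer_of_transitive N (⟨0, hr.pos⟩ : Fin r)
    rw [Nat.card_eq_fintype_card, Fintype.card_fin] at h1
    exact hrπ (hNπ r hr ((dvd_of_eq h1.symm).trans (Subgroup.index_dvd_card _)))

end Cfsg.Agent.S4325
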