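import Cfsg.Statements.S4326

set_option autoImplicit false
open Pointwise
open Cfsg

namespace Cfsg.Agent.S4326

/-- Let G be a finite group, p a prime, x an automorphism of G of p-power order and M the subgroup of fixed points of x. Suppose that p divides the index of M and that either M is self-normalizing or M has trivial center. Then some conjugate of M is mapped onto itself by x but is not fixed elementwise by x. -/
theorem result {G : Type*} [Group G] [Finite G]
    (p : ℕ) [Fact p.Prime] (x : MulAut G) (hx : ∃ k : ℕ, orderOf x = p ^ k) (M : Subgroup G)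
    (hM : ∀ g : G, g ∈ M ↔ x g = g) (hp : p ∣ M.index)
    (hself : Subgroup.normalizer (M : Set G) = M ∨ Subgroup.center M = ⊥) :
    ∃ g : G, (∀ y ∈ MulAut.conj g • M, x y ∈ MulAut.conj g • M) ∧ ∃ y ∈ MulAut.conj g • M, x y ≠ y := by
  obtain ⟨k, hk⟩ := hx
  have hfix : ∀ m ∈ M, x m = m := fun m hm => (hM m).1 hm
  let σ : Equiv.Perm (G ⧸ M) :=
  { toFun := Quotient.map' x (fun a b hab => by
      rw [QuotientGroup.leftRel_apply] at hab ⊢
      rw [← map_inv, ← map_mul, hfix _ hab]
      exact hab)
    invFun := Quotient.map' (x⁻¹ : MulAut G) (fun a b hab => by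
      rw [QuotientGroup.leftRel_apply] at hab ⊢
      rw [← map_inv, ← map_mul]
      have : x⁻¹ (a⁻¹ * b) = a⁻¹ * b := by
        conv_lhs => rw [← hfix _ hab]
        exact x.symm_apply_apply _
      rw [this]
      exact hab)
    left_inv := fun q => Quotient.inductionOn' q fun a => congrArg Quotient.mk'' (x.symm_apply_apply a)
    right_inv := fun q => Quotient.inductionOn' q fun a => congrArg Quotient.mk'' (x.apply_symm_apply a) }
  have hσpow : ∀ (n : ℕ) (a : G), (σ ^ n) (QuotientGroup.mk a) = QuotientGroup.mk ((x ^ n) a) := by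
    intro n
    induction n with
    | zero => intro a; rfl
    | succ n ih =>
      intro a
      rw [pow_succ', Equiv.Perm.mul_apply, ih, pow_succ', MulAut.mul_apply]
      rfl
  have hσ : σ ^ p ^ k = 1 := by
    ext q
    induction q using QuotientGroup.induction_on with | H a => ?_
    rw [hσpow, ← hk, pow_orderOf_eq_one]
    rfl
  have := Fintype.ofFinite (G ⧸ M)
  classical
  have hcard : p ∣ Fintype.card (G ⧸ M) := by rwa [← Nat.card_eq_fintype_card]
  obtain ⟨q, hq, hne⟩ := Equiv.Perm.exists_fixed_point_of_prime' (n := k) hcard hσ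
    (show σ (QuotientGroup.mk 1) = QuotientGroup.mk 1 from congrArg _ (map_one x))
  induction q using QuotientGroup.induction_on with | H g => ?_
  have hg : g ∉ M := fun h => hne (QuotientGroup.eq.2 (by simpa using h))
  have hm : g⁻¹ * x g ∈ M := by
    have h : (QuotientGroup.mk (x g) : G ⧸ M) = QuotientGroup.mk g := hq
    exact QuotientGroup.eq.1 h.symm
  have hxc : ∀ y ∈ M, x (g * y * g⁻¹) = g * ((g⁻¹ * x g) * y * (g⁻¹ * x g)⁻¹) * g⁻¹ := by
    intro y hy
    rw [map_mul, map_mul, map_inv, hfix y hy]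
    group
  have hmem : ∀ y, y ∈ MulAut.conj g • M ↔ g⁻¹ * y * g ∈ M := by
    intro y
    rw [Subgroup.mem_pointwise_smul_iff_inv_smul_mem, MulAut.smul_def, MulAut.conj_inv_apply]
  refine ⟨g, ?_, ?_⟩
  · intro y hy
    rw [hmem] at hy ⊢
    have e : x y = g * ((g⁻¹ * x g) * (g⁻¹ * y * g) * (g⁻¹ * x g)⁻¹) * g⁻¹ := by
      rw [← hxc _ hy]; group
    have e2 : g⁻¹ * x y * g = (g⁻¹ * x g) * (g⁻¹ * y * g) * (g⁻¹ * x g)⁻¹ := by rw [e]; group
    rw [e2]
    exact mul_mem (mul_mem hm hy) (inv_mem hm)
  · by_contra hcon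
    push Not at hcon
    have hcen : ∀ y ∈ M, x (g * y * g⁻¹) = g * y * g⁻¹ := fun y hy => hcon _ ((hmem _).2 (by
      have : g⁻¹ * (g * y * g⁻¹) * g = y := by group
      rwa [this]))
    rcases hself with hN | hZ
    · apply hg
      rw [← hN]
      rw [Subgroup.mem_normalizer_iff_map_conj_eq]
      refine Subgroup.eq_of_le_of_card_ge ?_ ?_
      · rintro z ⟨y, hy, rfl⟩
        exact (hM _).2 (hcen y hy)
      · rw [Subgroup.card_map_of_injective (MulAut.conj g).injective]
    · apply hne
      have : (⟨g⁻¹ * x g, hm⟩ : M) ∈ Subgroup.center M := by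
        rw [Subgroup.mem_center_iff]
        intro y
        refine Subtype.ext ?_
        have h1 := (hxc y y.2).symm.trans (hcen y y.2)
        have h2 : (g⁻¹ * x g) * (y : G) * (g⁻¹ * x g)⁻¹ = y := mul_left_cancel (mul_right_cancel h1)
        change (y : G) * (g⁻¹ * x g) = (g⁻¹ * x g) * y
        nth_rw 1 [← h2]
        group
      rw [hZ, Subgroup.mem_bot] at this
      have h3 : g⁻¹ * x g = 1 := congrArg Subtype.val this
      refine absurd ((hM g).2 ?_) hg
      calc x g = g * (g⁻¹ * x g) := by group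
        _ = g := by rw [h3, mul_one]

end Cfsg.Agent.S4326
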