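import Cfsg.Statements.S4330
import Mathlib
import Cfsg.Agent.Lib.Solvable.ClassFixed
import Cfsg.Agent.Lib.Solvable.MinimalNormal
import Cfsg.Agent.Lib.Cores.Coprime

set_option autoImplicit false
open Pointwise
open Cfsg

namespace Cfsg.Agent.S4330

universe u

open Subgroup

theorem map_hypothesis {G : Type u} [Group G] [Finite G] (N : Subgroup G) [N.Normal] (A : Subgroup G)
    (h : ∀ c : G, ∃ g : G, IsConj c g ∧ (A.subgroupOf (A ⊔ MulAut.conj g • A)).IsSubnormal) :
    ∀ c : G ⧸ N, ∃ g : G ⧸ N, IsConj c g ∧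
      ((A.map (QuotientGroup.mk' N)).subgroupOf
        (A.map (QuotientGroup.mk' N) ⊔ MulAut.conj g • A.map (QuotientGroup.mk' N))).IsSubnormal := by
  intro c
  obtain ⟨c, rfl⟩ := QuotientGroup.mk'_surjective N c
  obtain ⟨g, hcg, hsn⟩ := h c
  set π := QuotientGroup.mk' N with hπ
  refine ⟨π g, π.map_isConj hcg, ?_⟩
  set X := A ⊔ MulAut.conj g • A with hX
  have hXmap : X.map π = A.map π ⊔ MulAut.conj (π g) • A.map π := by
    rw [hX, Subgroup.map_sup]
    congr 1
    ext y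
    rw [CfsgLib.ClassFixed.mem_conj_smul_iff]
    constructor
    · rintro ⟨x, hx, rfl⟩
      rw [SetLike.mem_coe, CfsgLib.ClassFixed.mem_conj_smul_iff] at hx
      exact ⟨_, hx, by rw [map_mul, map_mul, map_inv]⟩
    · rintro ⟨x, hx, hxy⟩
      refine ⟨g * x * g⁻¹, CfsgLib.ClassFixed.conj_mem_conj_smul hx, ?_⟩
      rw [map_mul, map_mul, map_inv, hxy]
      group
  rw [← hXmap]
  have hmap : (A.subgroupOf X).map (π.subgroupMap X) = (A.map π).subgroupOf (X.map π) := by
    ext ⟨y, hy⟩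
    constructor
    · rintro ⟨x, hx, hxy⟩
      exact ⟨(x : G), hx, congrArg Subtype.val hxy⟩
    · rintro ⟨x, hx, hxy⟩
      exact ⟨⟨x, le_sup_left (b := MulAut.conj g • A) hx⟩, hx, Subtype.ext hxy⟩
  exact hmap ▸ hsn.map (π.subgroupMap_surjective X)

theorem aux (p : ℕ) [Fact p.Prime] (hp : p ≠ 2) : ∀ (n : ℕ) (G : Type u) [Group G] [Finite G],
    Nat.card G = n → Group.IsSolvable G → ∀ A : Subgroup G, IsPGroup p A →
    (∀ c : G, ∃ g : G, IsConj c g ∧ (A.subgroupOf (A ⊔ MulAut.conj g • A)).IsSubnormal) →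
      A ≤ Cfsg.pCore p G := by
  intro n
  induction n using Nat.strong_induction_on with
  | _ n ih =>
  intro G _ _ hn hG A hA h
  rcases eq_or_ne A ⊥ with rfl | hA1
  · exact bot_le
  have hrec : ∀ (N : Subgroup G) [N.Normal], N ≠ ⊥ →
      A ≤ (pCore p (G ⧸ N)).comap (QuotientGroup.mk' N) := by
    intro N _ hN1
    rw [← map_le_iff_le_comap]
    exact ih _ (hn ▸ CfsgLib.Solvable.card_quotient_lt N hN1) (G ⧸ N) rfl
      inferInstance (A.map (QuotientGroup.mk' N)) (hA.map _) (map_hypothesis N A h)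
  by_cases hcore : pCore p G ≠ ⊥
  · have h1 := hrec (pCore p G) hcore
    rwa [CfsgLib.Cores.pCore_quotient_self, MonoidHom.comap_bot, QuotientGroup.ker_mk'] at h1
  push_neg at hcore
  obtain ⟨a₀, ha₀, ha₁⟩ := A.bot_or_exists_ne_one.resolve_left hA1
  have : Nontrivial G := ⟨⟨a₀, 1, ha₁⟩⟩
  obtain ⟨N, q, e, hNn, hq, he, hNq, hNcard, hN1, hNc, -⟩ :=
    CfsgLib.Solvable.exists_normal_prime_pow_card (G := G)
  have hcop : (Nat.card N).Coprime p := by
    rw [hNcard]
    refine (Nat.coprime_primes hq (Fact.out : p.Prime)).2 ?_ |>.pow_left e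
    rintro rfl
    exact hN1 (eq_bot_iff.2 (hcore ▸ CfsgLib.Cores.le_pCore_of_isSubnormal hNn.isSubnormal hNq))
  let _ : CommGroup N := { (inferInstance : Group N) with mul_comm := fun a b => Subtype.ext (hNc a a.2 b b.2) }
  set π := QuotientGroup.mk' N with hπ
  set K := (pCore p (G ⧸ N)).comap π with hK
  have hAK : A ≤ K := hrec N hN1
  let ρ : G →* MulAut N := MulAut.conjNormal
  have hNker : N ≤ ρ.ker := fun m hm => MulEquiv.ext fun x => Subtype.ext (by
    show ((MulAut.conjNormal m x : N) : G) = x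
    rw [MulAut.conjNormal_apply, hNc m hm x x.2, mul_inv_cancel_right])
  have hKp : IsPGroup p ↥(K.map ρ) := by
    rintro ⟨_, x, hx, rfl⟩
    obtain ⟨k, hk⟩ := CfsgLib.Cores.isPGroup_pCore (G := G ⧸ N) p ⟨π x, hx⟩
    refine ⟨k, Subtype.ext ?_⟩
    have hk' : π (x ^ p ^ k) = 1 := by
      rw [map_pow]
      exact congrArg Subtype.val hk
    rw [Subgroup.coe_pow, ← map_pow]
    exact hNker ((QuotientGroup.eq_one_iff _).1 hk')
  have hmove : ∃ a ∈ A, ρ a ≠ 1 := by
    by_contra hcon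
    push_neg at hcon
    refine hA1 (eq_bot_iff.2 ?_)
    rw [← hcore]
    set L := K ⊓ ρ.ker with hL
    have hLn : L.Normal := inferInstance
    have hAL : A ≤ L := le_inf hAK fun a ha => hcon a ha
    have hNc' : (π.comp L.subtype).ker ≤ center L := by
      intro x hx
      rw [mem_center_iff]
      intro y
      have hxN : (x : G) ∈ N := (QuotientGroup.eq_one_iff _).1 hx
      have hy : ((MulAut.conjNormal (y : G) (⟨x, hxN⟩ : N) : N) : G) = x :=
        congrArg (fun σ : MulAut N => ((σ ⟨x, hxN⟩ : N) : G)) (MonoidHom.mem_ker.1 y.2.2)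
      rw [MulAut.conjNormal_apply, mul_inv_eq_iff_eq_mul] at hy
      exact Subtype.ext hy
    have hrp : IsPGroup p (π.comp L.subtype).range := by
      refine (CfsgLib.Cores.isPGroup_pCore (G := G ⧸ N) p).to_le ?_
      rintro _ ⟨x, rfl⟩
      exact x.2.1
    have : Group.IsNilpotent (π.comp L.subtype).range := hrp.isNilpotent
    have hker : (π.comp L.subtype).rangeRestrict.ker ≤ center L := by
      rwa [MonoidHom.ker_rangeRestrict]
    have hnil : Group.IsNilpotent L := Subgroup.isNilpotent_of_ker_le_center _ hker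
    have hAL' : IsPGroup p (A.subgroupOf L) := hA.of_equiv (subgroupOfEquivOfLe hAL).symm
    obtain ⟨S, hS⟩ := hAL'.exists_le_sylow
    have hSn : (S : Subgroup L).Normal := Sylow.normal_of_normalizerCondition
      Group.normalizerCondition_of_isNilpotent S
    have h1 := le_trans hS (CfsgLib.Cores.le_pCore_of_isSubnormal hSn.isSubnormal S.isPGroup')
    have h2 := map_mono (f := L.subtype) h1
    rw [map_subgroupOf_eq_of_le hAL] at h2
    exact h2.trans (CfsgLib.Cores.map_subtype_pCore_le_of_isSubnormal p hLn.isSubnormal)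
  obtain ⟨a, ha, hρa⟩ := hmove
  obtain ⟨v, hv⟩ := CfsgLib.ClassFixed.movesClass hp N hcop ρ.range (K.map ρ)
    (MonoidHom.range_eq_map ρ ▸ map_mono le_top)
    (by
      rintro _ ⟨t, rfl⟩
      ext y
      rw [CfsgLib.ClassFixed.mem_conj_smul_iff]
      constructor
      · rintro ⟨x, hx, hxy⟩
        refine ⟨t * x * t⁻¹, (inferInstance : K.Normal).conj_mem x hx t, ?_⟩
        rw [map_mul, map_mul, map_inv, hxy]
        group
      · rintro ⟨x, hx, rfl⟩
        refine ⟨t⁻¹ * x * t, by simpa using (inferInstance : K.Normal).conj_mem x hx t⁻¹, ?_⟩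
        rw [map_mul, map_mul, map_inv])
    hKp (ρ a) ⟨a, hAK ha, rfl⟩ hρa
  obtain ⟨g, hconj, hsn⟩ := h (v : G)
  obtain ⟨t, rfl⟩ := isConj_iff.1 hconj
  set g := t * (v : G) * t⁻¹ with hg
  have hgN : g ∈ N := hNn.conj_mem v v.2 t
  set X := A ⊔ MulAut.conj g • A with hX
  have hAX : A ≤ X := le_sup_left
  have hgaX : g * a⁻¹ * g⁻¹ ∈ X :=
    le_sup_right (a := A) (CfsgLib.ClassFixed.conj_mem_conj_smul (inv_mem ha))
  set n' := a * (g * a⁻¹ * g⁻¹) with hn'
  have hn'X : n' ∈ X := mul_mem (hAX ha) hgaX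
  have hn'N : n' ∈ N := by
    have := mul_mem (hNn.conj_mem g hgN a) (inv_mem hgN)
    rw [hn']
    simpa [mul_assoc] using this
  have haP : (⟨a, hAX ha⟩ : X) ∈ pCore p X :=
    CfsgLib.Cores.le_pCore_of_isSubnormal hsn (hA.of_equiv (subgroupOfEquivOfLe hAX).symm) ha
  -- the commutator of `a` with `n'`
  have hfix : a * n' * a⁻¹ = n' := by
    have h1 : (⟨a, hAX ha⟩ : X) * ⟨n', hn'X⟩ * (⟨a, hAX ha⟩ : X)⁻¹ * (⟨n', hn'X⟩ : X)⁻¹ ∈ pCore p X := by
      rw [mul_assoc _ _ (⟨a, hAX ha⟩ : X)⁻¹, mul_assoc]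
      exact mul_mem haP ((inferInstance : (pCore p X).Normal).conj_mem _ (inv_mem haP) _)
    obtain ⟨k, hk⟩ := CfsgLib.Cores.isPGroup_pCore (G := X) p ⟨_, h1⟩
    have hk' : (a * n' * a⁻¹ * n'⁻¹) ^ p ^ k = 1 := by
      simpa using congrArg (fun z : pCore p X => ((z : X) : G)) hk
    have hmem : a * n' * a⁻¹ * n'⁻¹ ∈ N := mul_mem (hNn.conj_mem n' hn'N a) (inv_mem hn'N)
    have h2 : (⟨_, hmem⟩ : N) = 1 := (powCoprime (hcop.pow_right k)).injective (by
      show (⟨_, hmem⟩ : N) ^ p ^ k = (1 : N) ^ p ^ k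
      rw [one_pow]
      exact Subtype.ext hk')
    have h3 : a * n' * a⁻¹ * n'⁻¹ = 1 := congrArg Subtype.val h2
    exact mul_inv_eq_one.1 h3
  have hρg : ρ a ⟨g, hgN⟩ = ⟨n', hn'N⟩ * ⟨g, hgN⟩ := Subtype.ext (by
    show ((MulAut.conjNormal a (⟨g, hgN⟩ : N) : N) : G) = n' * g
    rw [MulAut.conjNormal_apply, hn']
    group)
  have hρn : ρ a ⟨n', hn'N⟩ = ⟨n', hn'N⟩ := Subtype.ext (by
    show ((MulAut.conjNormal a (⟨n', hn'N⟩ : N) : N) : G) = n'
    rw [MulAut.conjNormal_apply, hfix])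
  have hit : ∀ j : ℕ, (ρ a ^ j) ⟨g, hgN⟩ = ⟨n', hn'N⟩ ^ j * ⟨g, hgN⟩ := by
    intro j
    induction j with
    | zero => simp
    | succ j ihj => rw [pow_succ', MulAut.mul_apply, ihj, map_mul, map_pow, hρn, hρg, ← mul_assoc, ← pow_succ]
  obtain ⟨k, hk⟩ := hA ⟨a, ha⟩
  have hk' : a ^ p ^ k = 1 := congrArg Subtype.val hk
  have h1 := hit (p ^ k)
  rw [← map_pow, hk', map_one, MulAut.one_apply, right_eq_mul] at h1
  have hn1 : (⟨n', hn'N⟩ : N) = 1 := (powCoprime (hcop.pow_right k)).injective (h1.trans (one_pow _).symm)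
  rw [hn1, one_mul] at hρg
  exfalso
  refine hv (ρ t⁻¹) ⟨_, rfl⟩ ?_
  have hv' : ρ t v = ⟨g, hgN⟩ := Subtype.ext (MulAut.conjNormal_apply t v)
  rw [MulAut.mul_apply, MulAut.mul_apply, map_inv, inv_inv, hv', hρg, ← hv']
  exact MulEquiv.symm_apply_apply (ρ t) v

/-- Let G be a finite solvable group, p an odd prime and A a p-subgroup of G such that every conjugacy class of G contains an element g for which A is subnormal in the subgroup generated by A and its conjugate by g. Then A is contained in O_p(G). (The hypothesis that p is odd is needed.) -/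
theorem result {G : Type*} [Group G] [Finite G]
    (hG : Group.IsSolvable G) (p : ℕ) [Fact p.Prime] (hp : p ≠ 2) (A : Subgroup G) (hA : IsPGroup p A)
    (h : ∀ c : G, ∃ g : G, IsConj c g ∧ (A.subgroupOf (A ⊔ MulAut.conj g • A)).IsSubnormal) :
    A ≤ Cfsg.pCore p G :=
  aux p hp _ G rfl hG A hA h

end Cfsg.Agent.S4330
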