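import Cfsg.Statements.S4331
import Cfsg.Agent.Lib.PGroup.Wielandt
import Cfsg.Agent.Lib.Cores.Basic
import Mathlib.LinearAlgebra.Matrix.GeneralLinearGroup.Card

set_option autoImplicit false
open Cfsg

namespace Cfsg.Agent.S4331
open Matrix
set_option maxRecDepth 20000

abbrev V : Type := Fin 2 → ZMod 3
abbrev GL₂ := GL (Fin 2) (ZMod 3)

instance : Fact (Nat.Prime 3) := ⟨Nat.prime_three⟩

/-- The action of a matrix on the plane. -/
def act : GL₂ →* MulAut (Multiplicative V) where
  toFun g :=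
    { toFun := fun v => Multiplicative.ofAdd ((g : Matrix (Fin 2) (Fin 2) (ZMod 3)) *ᵥ v.toAdd)
      invFun := fun v => Multiplicative.ofAdd (((g⁻¹ : GL₂) : Matrix (Fin 2) (Fin 2) (ZMod 3)) *ᵥ v.toAdd)
      left_inv := fun v => by
        simp only [toAdd_ofAdd, mulVec_mulVec, ← Units.val_mul, inv_mul_cancel, Units.val_one, one_mulVec, ofAdd_toAdd]
      right_inv := fun v => by
        simp only [toAdd_ofAdd, mulVec_mulVec, ← Units.val_mul, mul_inv_cancel, Units.val_one, one_mulVec, ofAdd_toAdd]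
      map_mul' := fun v w => by simp only [toAdd_mul, mulVec_add, ofAdd_add] }
  map_one' := MulEquiv.ext fun v => by simp
  map_mul' g h := MulEquiv.ext fun v => by
    simp only [MulAut.mul_apply, MulEquiv.coe_mk, Equiv.coe_fn_mk, toAdd_ofAdd, mulVec_mulVec, Units.val_mul]

def aMat : GL₂ := ⟨!![1,0;0,-1], !![1,0;0,-1], by decide, by decide⟩

def x₀ : V := ![1, 0]

theorem stab (P : Subgroup GL₂) (hP : IsPGroup 2 P) (ha : aMat ∈ P) (g : GL₂) (hg : g ∈ P)
    (hx : (g : Matrix (Fin 2) (Fin 2) (ZMod 3)) *ᵥ x₀ = x₀) : g = 1 ∨ g = aMat := by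
  have key : ∀ h : GL₂, h ∈ P → (h : Matrix (Fin 2) (Fin 2) (ZMod 3)) *ᵥ x₀ = x₀ →
      (h : Matrix (Fin 2) (Fin 2) (ZMod 3)) 1 1 = 1 → h = 1 := by
    intro h hh hx h11
    have hm : (h : Matrix (Fin 2) (Fin 2) (ZMod 3)) = !![1, (h : Matrix (Fin 2) (Fin 2) (ZMod 3)) 0 1; 0, 1] := by
      have e0 := congrFun hx 0
      have e1 := congrFun hx 1
      simp [mulVec, dotProduct, x₀, Fin.sum_univ_two] at e0 e1
      ext i j; fin_cases i <;> fin_cases j <;> simp [e0, e1, h11]
    have h3 : h ^ 3 = 1 := by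
      refine Units.ext ?_
      rw [Units.val_pow_eq_pow_val, hm, Units.val_one]
      generalize (h : Matrix (Fin 2) (Fin 2) (ZMod 3)) 0 1 = p
      revert p; decide
    obtain ⟨k, hk⟩ := hP ⟨h, hh⟩
    exact orderOf_eq_one_iff.1 (Nat.eq_one_of_dvd_coprimes (Nat.Coprime.pow_right k (by norm_num : Nat.Coprime 3 2))
      (orderOf_dvd_of_pow_eq_one h3) (orderOf_dvd_of_pow_eq_one (congrArg Subtype.val hk)))
  have hd : (g : Matrix (Fin 2) (Fin 2) (ZMod 3)) 1 1 ≠ 0 := by
    intro hd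
    have e0 := congrFun hx 0
    have e1 := congrFun hx 1
    simp [mulVec, dotProduct, x₀, Fin.sum_univ_two] at e0 e1
    have hu : IsUnit (g : Matrix (Fin 2) (Fin 2) (ZMod 3)).det := (isUnit_iff_isUnit_det _).1 g.isUnit
    rw [det_fin_two, e1, hd] at hu
    simp at hu
  have cases3 : ∀ d : ZMod 3, d ≠ 0 → d = 1 ∨ d = -1 := by decide
  rcases cases3 _ hd with h | h
  · exact Or.inl (key g hg hx h)
  · refine Or.inr ?_
    have hax : (aMat : Matrix (Fin 2) (Fin 2) (ZMod 3)) *ᵥ x₀ = x₀ := by decide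
    have h1 := key (g * aMat) (P.mul_mem hg ha) (by rw [Units.val_mul, ← mulVec_mulVec, hax, hx]) (by
      rw [Units.val_mul, Matrix.mul_apply, Fin.sum_univ_two, h, show (aMat : Matrix (Fin 2) (Fin 2) (ZMod 3)) 0 1 = 0 from rfl,
        show (aMat : Matrix (Fin 2) (Fin 2) (ZMod 3)) 1 1 = -1 from rfl, mul_zero, zero_add, neg_mul_neg, one_mul])
    rw [mul_eq_one_iff_eq_inv] at h1
    exact h1.trans (inv_eq_of_mul_eq_one_right (Units.ext (by decide)))


/-- There is a finite solvable group G with a subgroup A of order 2 such that every conjugacy class of G contains an element g for which A is subnormal in the subgroup generated by A and g, and yet A is not contained in O_2(G). (So the corresponding criteria for odd primes fail at the prime 2, even for solvable groups.) -/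
theorem result :
    ∃ (G : Type) (_ : Group G) (_ : Finite G) (A : Subgroup G), Group.IsSolvable G ∧ Nat.card A = 2 ∧
      (∀ c : G, ∃ g : G, IsConj c g ∧ (A.subgroupOf (A ⊔ Subgroup.zpowers g)).IsSubnormal) ∧
      ¬ A ≤ Cfsg.pCore 2 G := by
  classical
  have ha2 : aMat ^ 2 = 1 := Units.ext (by decide)
  have haP : IsPGroup 2 (Subgroup.zpowers aMat) := by
    refine IsPGroup.of_card (n := 1) ?_
    rw [Nat.card_zpowers, orderOf_eq_prime ha2 (fun h => absurd (congrArg Units.val h) (by decide)), pow_one]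
  obtain ⟨P, hP⟩ := haP.exists_le_sylow
  have ha : aMat ∈ (P : Subgroup GL₂) := hP (Subgroup.mem_zpowers _)
  have hcP : Nat.card P = 16 := by
    rw [P.card_eq_multiplicity, Matrix.card_GL_field, Fin.prod_univ_two, ← Nat.card_eq_fintype_card, Nat.card_zmod]
    norm_num
    rw [show (48 : ℕ) = 2 ^ 4 * 3 by norm_num, Nat.factorization_mul (by norm_num) (by norm_num),
      Nat.Prime.factorization_pow Nat.prime_two, Nat.Prime.factorization Nat.prime_three]
    simp
  let f : P → V := fun k => ((k : GL₂) : Matrix (Fin 2) (Fin 2) (ZMod 3)) *ᵥ x₀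
  have trans : ∀ u : V, u ≠ 0 → ∃ k : P, f k = u := by
    have h0 : ∀ k, f k ≠ 0 := fun k h => by
      have h' : ((((k : GL₂)⁻¹ : GL₂)) : Matrix (Fin 2) (Fin 2) (ZMod 3)) *ᵥ (f k) = x₀ := by
        simp only [f, mulVec_mulVec, ← Units.val_mul, inv_mul_cancel, Units.val_one, one_mulVec]
      rw [h, mulVec_zero] at h'
      exact absurd h' (by decide)
    have hsub : Finset.univ.image f ⊆ Finset.univ.erase (0 : V) := fun u hu => by
      obtain ⟨k, -, rfl⟩ := Finset.mem_image.1 hu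
      simpa using h0 k
    have hcard := Finset.card_le_mul_card_image (f := f) Finset.univ 2 (fun u hu => by
      obtain ⟨k, -, rfl⟩ := Finset.mem_image.1 hu
      refine (Finset.card_le_card (t := {k, k * ⟨aMat, ha⟩}) fun l hl => ?_).trans Finset.card_le_two
      have hl' : f l = f k := (Finset.mem_filter.1 hl).2
      have h1 := stab P P.2 ha ((k : GL₂)⁻¹ * l) ((P : Subgroup GL₂).mul_mem ((P : Subgroup GL₂).inv_mem k.2) l.2) (by
        rw [Units.val_mul, ← mulVec_mulVec]
        show _ *ᵥ f l = _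
        rw [hl']
        simp only [f, mulVec_mulVec, ← Units.val_mul, inv_mul_cancel, Units.val_one, one_mulVec])
      simp only [Finset.mem_insert, Finset.mem_singleton]
      rcases h1 with h | h
      · exact Or.inl (Subtype.ext (inv_mul_eq_one.1 h).symm)
      · exact Or.inr (Subtype.ext (inv_mul_eq_iff_eq_mul.1 h)))
    rw [Finset.card_univ, ← Nat.card_eq_fintype_card] at hcard
    replace hcard : 16 ≤ 2 * (Finset.univ.image f).card := hcP.symm.le.trans hcard
    have heq := Finset.eq_of_subset_of_card_le hsub (by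
      rw [Finset.card_erase_of_mem (Finset.mem_univ _), Finset.card_univ, show Fintype.card V = 9 from by simp [V]]
      omega)
    intro u hu
    obtain ⟨k, -, hk⟩ := Finset.mem_image.1 (heq.ge (show u ∈ Finset.univ.erase (0 : V) by simpa using hu))
    exact ⟨k, hk⟩
  let φ : P →* MulAut (Multiplicative V) := act.comp (P : Subgroup GL₂).subtype
  have hφ : ∀ (k : P) (v : V), φ k (Multiplicative.ofAdd v) = Multiplicative.ofAdd (((k : GL₂) : Matrix (Fin 2) (Fin 2) (ZMod 3)) *ᵥ v) := fun k v => rfl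
  let G := Multiplicative V ⋊[φ] P
  let aP : P := ⟨aMat, ha⟩
  let a : G := SemidirectProduct.inr aP
  let mkG : V → P → G := fun v k => ⟨Multiplicative.ofAdd v, k⟩
  haveI : Finite G := Finite.of_equiv _ SemidirectProduct.equivProd.symm
  have hPsub : Subgroup.zpowers a ≤ (SemidirectProduct.inr : P →* G).range :=
    Subgroup.zpowers_le.2 ⟨aP, rfl⟩
  have hrange : IsPGroup 2 (SemidirectProduct.inr : P →* G).range :=
    P.2.of_surjective _ (SemidirectProduct.inr : P →* G).rangeRestrict_surjective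
  refine ⟨G, inferInstance, inferInstance, Subgroup.zpowers a, ?_, ?_, ?_, ?_⟩
  · haveI : Group.IsNilpotent P := P.2.isNilpotent
    exact Group.isSolvable_of_ker_le_range (SemidirectProduct.inl : Multiplicative V →* G) SemidirectProduct.rightHom
      SemidirectProduct.range_inl_eq_ker_rightHom.ge
  · rw [Nat.card_zpowers, orderOf_injective _ SemidirectProduct.inr_injective, ← Subgroup.orderOf_coe]
    exact orderOf_eq_prime ha2 (fun h => absurd (congrArg Units.val (show aMat = 1 from h)) (by decide))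
  · intro c
    -- every class meets the centralizer of `a` or the Sylow subgroup
    suffices h : ∃ g, IsConj c g ∧ (Commute a g ∨ g ∈ (SemidirectProduct.inr : P →* G).range) by
      obtain ⟨g, hg, h⟩ := h
      refine ⟨g, hg, ?_⟩
      rcases h with h | h
      · refine Subgroup.Normal.isSubnormal ⟨fun n hn k => ?_⟩
        have hle : Subgroup.zpowers a ⊔ Subgroup.zpowers g ≤ Subgroup.centralizer {a} := by
          rw [sup_le_iff, Subgroup.zpowers_le, Subgroup.zpowers_le]
          exact ⟨Subgroup.mem_centralizer_singleton_iff.2 rfl, Subgroup.mem_centralizer_singleton_iff.2 h.symm.eq⟩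
        rw [Subgroup.mem_subgroupOf] at hn ⊢
        obtain ⟨i, hi⟩ := hn
        have hk : Commute (k : G) (a ^ i) := Commute.zpow_right (Subgroup.mem_centralizer_singleton_iff.1 (hle k.2)) i
        refine ⟨i, ?_⟩
        show a ^ i = (k : G) * n * (k : G)⁻¹
        rw [← hi]
        exact (mul_inv_eq_of_eq_mul hk.eq).symm
      · haveI : Group.IsNilpotent (Subgroup.zpowers a ⊔ Subgroup.zpowers g : Subgroup G) :=
          (hrange.to_le (sup_le hPsub (Subgroup.zpowers_le.2 h))).isNilpotent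
        exact CfsgLib.PGroup.isSubnormal_of_isNilpotent _
    have hc : c = mkG c.left.toAdd c.right := rfl
    obtain ⟨v, h, hvh⟩ : ∃ v h, c = mkG v h := ⟨_, _, hc⟩
    have mulG : ∀ (u w : V) (k l : P), mkG u k * mkG w l
        = mkG (u + ((k : GL₂) : Matrix (Fin 2) (Fin 2) (ZMod 3)) *ᵥ w) (k * l) := fun _ _ _ _ => rfl
    have one₂ : ((((1 : P) : GL₂)) : Matrix (Fin 2) (Fin 2) (ZMod 3)) = 1 := rfl
    have cw : ∀ (w u : V) (k : P), IsConj (mkG u k)
        (mkG (u + (w - ((k : GL₂) : Matrix (Fin 2) (Fin 2) (ZMod 3)) *ᵥ w)) k) := fun w u k => by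
      refine isConj_iff.2 ⟨mkG w 1, mul_inv_eq_of_eq_mul ?_⟩
      rw [mulG, mulG, one₂, one_mulVec, one_mul, mul_one]
      congr 1
      abel
    have ck : ∀ (l : P) (u : V) (k : P), IsConj (mkG u k)
        (mkG (((l : GL₂) : Matrix (Fin 2) (Fin 2) (ZMod 3)) *ᵥ u) (l * k * l⁻¹)) := fun l u k => by
      refine isConj_iff.2 ⟨mkG 0 l, mul_inv_eq_of_eq_mul ?_⟩
      rw [mulG, mulG, mulVec_zero, add_zero, zero_add, inv_mul_cancel_right]
    have mem0 : ∀ k : P, mkG 0 k ∈ (SemidirectProduct.inr : P →* G).range := fun k => ⟨k, rfl⟩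
    have comm : ∀ (u : V) (k : P), (aMat : Matrix (Fin 2) (Fin 2) (ZMod 3)) *ᵥ u = u → aP * k = k * aP → Commute a (mkG u k) := fun u k h1 h2 => by
      show mkG 0 aP * mkG u k = mkG u k * mkG 0 aP
      rw [mulG, mulG, mulVec_zero, zero_add, add_zero, h2]
      exact congrArg (fun z => mkG z (k * aP)) h1
    rw [hvh]
    by_cases hs : ∃ w : V, w - ((h : GL₂) : Matrix (Fin 2) (Fin 2) (ZMod 3)) *ᵥ w = -v
    · obtain ⟨w, hw⟩ := hs
      exact ⟨_, cw w v h, Or.inr (by rw [hw, add_neg_cancel]; exact mem0 h)⟩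
    -- otherwise `h` fixes a non-zero vector
    let D : V →+ V := AddMonoidHom.mk' (fun w => w - ((h : GL₂) : Matrix (Fin 2) (Fin 2) (ZMod 3)) *ᵥ w)
      (fun w₁ w₂ => by rw [mulVec_add]; abel)
    have hni : ¬ Function.Injective D := fun hi => hs (by
      obtain ⟨w, hw⟩ := (Finite.injective_iff_surjective.1 hi) (-v)
      exact ⟨w, hw⟩)
    rw [injective_iff_map_eq_zero] at hni
    push Not at hni
    obtain ⟨u, hu, hu0⟩ := hni
    obtain ⟨k, hk⟩ := trans u hu0
    have hfix : ((k⁻¹ * h * k : P) : GL₂) = 1 ∨ ((k⁻¹ * h * k : P) : GL₂) = aMat := by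
      refine stab P P.2 ha _ (k⁻¹ * h * k).2 ?_
      have hhu : ((h : GL₂) : Matrix (Fin 2) (Fin 2) (ZMod 3)) *ᵥ u = u := (sub_eq_zero.1 hu).symm
      rw [Subgroup.coe_mul, Subgroup.coe_mul, Subgroup.coe_inv, Units.val_mul, Units.val_mul, ← mulVec_mulVec, ← mulVec_mulVec]
      show _ *ᵥ (_ *ᵥ f k) = _
      rw [hk, hhu, ← hk]
      simp only [f, mulVec_mulVec, ← Units.val_mul, inv_mul_cancel, Units.val_one, one_mulVec]
    have c1 := ck k⁻¹ v h
    rw [inv_inv] at c1
    rcases hfix with e | e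
    · rw [show k⁻¹ * h * k = 1 from Subtype.ext e] at c1
      set v' := (((k⁻¹ : P) : GL₂) : Matrix (Fin 2) (Fin 2) (ZMod 3)) *ᵥ v
      rcases eq_or_ne v' 0 with h0 | h0
      · exact ⟨_, c1, Or.inr (by rw [h0]; exact mem0 1)⟩
      obtain ⟨l, hl⟩ := trans v' h0
      have c2 := ck l⁻¹ v' 1
      rw [mul_one, inv_inv, inv_mul_cancel] at c2
      refine ⟨_, c1.trans c2, Or.inl (comm _ _ ?_ (by rw [mul_one, one_mul]))⟩
      have hx : (((l⁻¹ : P) : GL₂) : Matrix (Fin 2) (Fin 2) (ZMod 3)) *ᵥ v' = x₀ := by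
        rw [← hl, Subgroup.coe_inv]
        simp only [f, mulVec_mulVec, ← Units.val_mul, inv_mul_cancel, Units.val_one, one_mulVec]
      rw [hx]
      decide
    · rw [show k⁻¹ * h * k = aP from Subtype.ext e] at c1
      have fixv : ∀ v : V, ∃ w : V, (aMat : Matrix (Fin 2) (Fin 2) (ZMod 3)) *ᵥ (v + (w - (aMat : Matrix (Fin 2) (Fin 2) (ZMod 3)) *ᵥ w))
          = v + (w - (aMat : Matrix (Fin 2) (Fin 2) (ZMod 3)) *ᵥ w) := by decide
      obtain ⟨w, hw⟩ := fixv ((((k⁻¹ : P) : GL₂) : Matrix (Fin 2) (Fin 2) (ZMod 3)) *ᵥ v)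
      exact ⟨_, c1.trans (cw w _ aP), Or.inl (comm _ _ hw rfl)⟩
  · intro hle
    set O := Cfsg.pCore 2 G
    haveI : O.Normal := by infer_instance
    have haO : a ∈ O := hle (Subgroup.mem_zpowers a)
    let y : G := mkG ![0, 1] 1
    have hm : y * a * y⁻¹ * a⁻¹ ∈ O := O.mul_mem (Subgroup.Normal.conj_mem inferInstance a haO y) (O.inv_mem haO)
    obtain ⟨n, hn⟩ := CfsgLib.Cores.isPGroup_pCore 2 ⟨_, hm⟩
    have heq : y * a * y⁻¹ * a⁻¹ = SemidirectProduct.inl (Multiplicative.ofAdd ![0, 2]) := by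
      rw [mul_inv_eq_iff_eq_mul, mul_inv_eq_iff_eq_mul]
      show mkG ![0, 1] 1 * mkG 0 aP = mkG ![0, 2] 1 * mkG 0 aP * mkG ![0, 1] 1
      have mulG : ∀ (u w : V) (k l : P), mkG u k * mkG w l
          = mkG (u + ((k : GL₂) : Matrix (Fin 2) (Fin 2) (ZMod 3)) *ᵥ w) (k * l) := fun _ _ _ _ => rfl
      rw [mulG, mulG, mulG, one_mul, mul_one]
      congr 1
      show (![0, 1] : V) + (1 : Matrix (Fin 2) (Fin 2) (ZMod 3)) *ᵥ 0 = ![0, 2] + (1 : Matrix (Fin 2) (Fin 2) (ZMod 3)) *ᵥ 0 + (aMat : Matrix (Fin 2) (Fin 2) (ZMod 3)) *ᵥ ![0, 1]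
      decide
    have h2 : (y * a * y⁻¹ * a⁻¹) ^ 2 ^ n = 1 := congrArg Subtype.val hn
    rw [heq, ← map_pow, ← map_one (SemidirectProduct.inl : Multiplicative V →* G)] at h2
    have h3 := SemidirectProduct.inl_injective h2
    have h4 : orderOf (Multiplicative.ofAdd (![0, 2] : V)) = 3 := orderOf_eq_prime (by decide) (by decide)
    have := orderOf_dvd_of_pow_eq_one h3
    rw [h4] at this
    have := Nat.prime_three.dvd_of_dvd_pow this
    omega

end Cfsg.Agent.S4331
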