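import Cfsg.Statements.S4332
import Cfsg.Agent.Lib.Cores.Basic

set_option autoImplicit false
open Pointwise
open Cfsg

namespace Cfsg.Agent.S4332
open Equiv

theorem exists_three (c : Perm (Fin 8)) :
    ∃ x y z : Fin 8, x ≠ y ∧ x ≠ z ∧ y ≠ z ∧
      Commute (c * (swap x y * swap y z) * c⁻¹) (swap x y * swap y z) := by
  classical
  have conj : ∀ x y z : Fin 8, c * (swap x y * swap y z) * c⁻¹ = swap (c x) (c y) * swap (c y) (c z) := fun x y z => by
    rw [swap_apply_apply c x y, swap_apply_apply c y z]; group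
  by_cases h3 : ∃ x, c (c (c x)) = x ∧ c x ≠ x
  · obtain ⟨x, hx, hne⟩ := h3
    have a : c (c x) ≠ c x := fun h => hne (c.injective h)
    have b : x ≠ c (c x) := fun h => a (c.injective (hx.trans h))
    refine ⟨x, c x, c (c x), hne.symm, b, a.symm, ?_⟩
    rw [conj, hx]
    suffices h : swap (c x) (c (c x)) * swap (c (c x)) x = swap x (c x) * swap (c x) (c (c x)) by rw [h]
    generalize c x = u at *
    generalize c u = v at *
    ext w
    simp only [Perm.mul_apply, swap_apply_def]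
    split_ifs <;> simp_all
  push Not at h3
  set F := Finset.univ.filter (fun x => c x = x) with hF
  by_cases hfix : 2 < F.card
  · obtain ⟨x, hx, y, hy, z, hz, hxy, hxz, hyz⟩ := Finset.two_lt_card.1 hfix
    refine ⟨x, y, z, hxy, hxz, hyz, ?_⟩
    simp only [hF, Finset.mem_filter] at hx hy hz
    rw [conj, hx.2, hy.2, hz.2]
  have hcard : 6 ≤ (Finset.univ \ F).card := by
    rw [Finset.card_sdiff_of_subset (Finset.subset_univ _), Finset.card_univ, Fintype.card_fin]; omega
  obtain ⟨a, ha⟩ := Finset.card_pos.1 (show 0 < (Finset.univ \ F).card by omega)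
  set R := (Finset.univ \ F) \ {a, c a, c⁻¹ a} with hR
  have hRc : 3 ≤ R.card := by
    have h1 := Finset.le_card_sdiff ({a, c a, c⁻¹ a} : Finset (Fin 8)) (Finset.univ \ F)
    have h2 : ({a, c a, c⁻¹ a} : Finset (Fin 8)).card ≤ 3 := Finset.card_le_three
    rw [← hR] at h1
    omega
  have pair : ∃ b ∈ R, ∃ d ∈ R, b ≠ d ∧ c b ≠ d ∧ c d ≠ b := by
    obtain ⟨b, hb⟩ := Finset.card_pos.1 (show 0 < R.card by omega)
    by_cases h : ∃ d ∈ R, b ≠ d ∧ c b ≠ d ∧ c d ≠ b
    · obtain ⟨d, hd, h⟩ := h; exact ⟨b, hb, d, hd, h⟩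
    push Not at h
    have hsub : R.erase b ⊆ {c b, c⁻¹ b} := by
      intro d hd
      rw [Finset.mem_erase] at hd
      simp only [Finset.mem_insert, Finset.mem_singleton]
      by_cases e : c b = d
      · exact Or.inl e.symm
      · exact Or.inr (by rw [← h d hd.2 (Ne.symm hd.1) e]; simp)
    have h2 : ({c b, c⁻¹ b} : Finset (Fin 8)).card ≤ 2 := Finset.card_le_two
    have heq := Finset.eq_of_subset_of_card_le hsub (by rw [Finset.card_erase_of_mem hb]; omega)
    have hbm : c b ≠ b := by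
      simp only [hR, Finset.mem_sdiff, hF, Finset.mem_filter, Finset.mem_univ, true_and] at hb
      exact hb.1
    have hm1 : c b ∈ R := (Finset.mem_erase.1 (heq.ge (by simp))).2
    have hm2 : c⁻¹ b ∈ R := (Finset.mem_erase.1 (heq.ge (by simp))).2
    refine ⟨c b, hm1, c⁻¹ b, hm2, ?_, ?_, ?_⟩
    · intro e
      have h3' : ({c b, c⁻¹ b} : Finset (Fin 8)).card = 1 := by rw [e]; simp
      have := congrArg Finset.card heq
      rw [Finset.card_erase_of_mem hb] at this
      omega
    · intro e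
      have : c (c (c b)) = b := by rw [e]; simp
      exact hbm (h3 b this)
    · rw [show c (c⁻¹ b) = b by simp]
      exact hbm.symm
  obtain ⟨b, hb, d, hd, hbd, hcb, hcd⟩ := pair
  simp only [hR, hF, Finset.mem_sdiff, Finset.mem_filter, Finset.mem_univ, true_and, Finset.mem_insert,
    Finset.mem_singleton, not_or] at ha hb hd
  refine ⟨a, b, d, Ne.symm hb.2.1, Ne.symm hd.2.1, hbd, ?_⟩
  have inv : ∀ {u v : Fin 8}, v ≠ c⁻¹ u → c v ≠ u := fun h e => h (by rw [← e]; simp)
  rw [conj]
  have f1 := ha; have f2 := hb.1; have f3 := hd.1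
  have g1 := inv hb.2.2.2; have g2 := inv hd.2.2.2
  have g3 := hb.2.2.1; have g4 := hd.2.2.1
  refine Perm.Disjoint.commute fun w => ?_
  by_cases hw : w = a ∨ w = b ∨ w = d
  · left
    have n : w ≠ c a ∧ w ≠ c b ∧ w ≠ c d := by
      rcases hw with e | e | e <;> rw [e]
      exacts [⟨Ne.symm f1, Ne.symm g1, Ne.symm g2⟩, ⟨g3, Ne.symm f2, Ne.symm hcd⟩,
        ⟨g4, Ne.symm hcb, Ne.symm f3⟩]
    rw [Perm.mul_apply, swap_apply_of_ne_of_ne n.2.1 n.2.2, swap_apply_of_ne_of_ne n.1 n.2.1]
  · right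
    simp only [not_or] at hw
    rw [Perm.mul_apply, swap_apply_of_ne_of_ne hw.2.1 hw.2.2, swap_apply_of_ne_of_ne hw.1 hw.2.1]


/-- In the symmetric group of degree 8, let A be the subgroup generated by a 3-cycle. Then every conjugacy class contains an element g for which A is subnormal in the subgroup generated by A and its conjugate by g, although O_3 of the symmetric group of degree 8 is trivial. -/
theorem result
    (σ : Equiv.Perm (Fin 8)) (hσ : σ.IsThreeCycle) :
    (∀ c : Equiv.Perm (Fin 8), ∃ g : Equiv.Perm (Fin 8), IsConj c g ∧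
      ((Subgroup.zpowers σ).subgroupOf (Subgroup.zpowers σ ⊔ MulAut.conj g • Subgroup.zpowers σ)).IsSubnormal) ∧
    Cfsg.pCore 3 (Equiv.Perm (Fin 8)) = ⊥ := by
  constructor
  · intro c
    obtain ⟨x, y, z, hxy, hxz, hyz, hcomm⟩ := exists_three c
    have hτ : (swap x y * swap y z).IsThreeCycle := by
      rw [swap_comm x y]; exact Equiv.Perm.isThreeCycle_swap_mul_swap_same hxy.symm hyz hxz
    obtain ⟨π, hπ⟩ := isConj_iff.1 (Equiv.Perm.isConj_iff_cycleType_eq.2 (hσ.trans hτ.symm))
    refine ⟨π⁻¹ * c * π, isConj_iff.2 ⟨π⁻¹, by group⟩, ?_⟩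
    rw [← hπ] at hcomm
    have hc : Commute (π⁻¹ * c * π * σ * (π⁻¹ * c * π)⁻¹) σ := by
      have h := congrArg (fun t => π⁻¹ * t * π) hcomm.eq
      show _ * _ = _ * _
      simpa [mul_assoc, mul_inv_rev] using h
    set g := π⁻¹ * c * π with hg
    have hle : Subgroup.zpowers σ ⊔ MulAut.conj g • Subgroup.zpowers σ ≤ Subgroup.centralizer {σ} := by
      rw [show MulAut.conj g • Subgroup.zpowers σ = Subgroup.zpowers (g * σ * g⁻¹) from
        MonoidHom.map_zpowers (MulAut.conj g).toMonoidHom σ, sup_le_iff, Subgroup.zpowers_le, Subgroup.zpowers_le]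
      refine ⟨Subgroup.mem_centralizer_singleton_iff.2 rfl, Subgroup.mem_centralizer_singleton_iff.2 ?_⟩
      exact hc.eq
    refine Subgroup.Normal.isSubnormal ⟨fun n hn k => ?_⟩
    rw [Subgroup.mem_subgroupOf] at hn ⊢
    obtain ⟨i, hi⟩ := hn
    have hk : Commute (k : Equiv.Perm (Fin 8)) (σ ^ i) :=
      Commute.zpow_right (Subgroup.mem_centralizer_singleton_iff.1 (hle k.2)) i
    refine ⟨i, ?_⟩
    show σ ^ i = (k : Equiv.Perm (Fin 8)) * n * (k : Equiv.Perm (Fin 8))⁻¹
    rw [← hi]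
    exact (mul_inv_eq_of_eq_mul hk.eq).symm
  · set N := Cfsg.pCore 3 (Equiv.Perm (Fin 8)) with hN
    haveI : N.Normal := by infer_instance
    have hp : IsPGroup 3 N := CfsgLib.Cores.isPGroup_pCore 3
    have hle : N ≤ alternatingGroup (Fin 8) := fun x hx => by
      obtain ⟨k, hk⟩ := hp ⟨x, hx⟩
      have h1 : Equiv.Perm.sign x ^ 3 ^ k = 1 := by
        rw [← map_pow]
        rw [show x ^ 3 ^ k = 1 from congrArg Subtype.val hk, map_one]
      refine Equiv.Perm.mem_alternatingGroup.2 ((Int.units_eq_one_or _).resolve_right fun h => ?_)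
      rw [h, Odd.neg_one_pow (Odd.pow (by decide))] at h1
      exact absurd h1 (by decide)
    haveI := alternatingGroup.isSimpleGroup (α := Fin 8) (by simp)
    rcases (inferInstance : (N.subgroupOf (alternatingGroup (Fin 8))).Normal).eq_bot_or_eq_top with h | h
    · refine eq_bot_iff.2 fun x hx => ?_
      have hxb : (⟨x, hle hx⟩ : alternatingGroup (Fin 8)) ∈ N.subgroupOf (alternatingGroup (Fin 8)) := hx
      rw [h, Subgroup.mem_bot] at hxb
      exact Subgroup.mem_bot.2 (congrArg Subtype.val hxb)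
    · exfalso
      rw [Subgroup.subgroupOf_eq_top] at h
      obtain ⟨n, hn⟩ := IsPGroup.iff_card.1 hp
      rw [le_antisymm hle h, nat_card_alternatingGroup, Nat.card_fin] at hn
      have h2 : 2 ∣ 3 ^ n := hn ▸ (by decide : 2 ∣ Nat.factorial 8 / 2)
      have := (Nat.prime_two.dvd_of_dvd_pow h2)
      omega

end Cfsg.Agent.S4332
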