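import Cfsg.Statements.S4333
import Cfsg.Agent.Lib.Solvable.Subnormal

set_option autoImplicit false
open Pointwise
open Cfsg

namespace Cfsg.Agent.S4333

open scoped Pointwise

universe u

theorem sharpened : ∀ (n : ℕ) (G : Type u) [Group G] [Finite G], Nat.card G = n → ∀ A : Subgroup G,
    (∀ a ∈ A, ∀ g : G, (A.subgroupOf (A ⊔ MulAut.conj (g⁻¹ * a * g) • A)).IsSubnormal) →
      A.IsSubnormal := by
  intro n
  induction n using Nat.strong_induction_on with
  | _ n ih =>
  intro G _ _ hn A h
  have hsn : ∀ L : Subgroup G, L ≠ ⊤ → A ≤ L → (A.subgroupOf L).IsSubnormal := by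
    intro L hL hAL
    refine ih _ (hn ▸ lt_of_le_of_ne (Subgroup.card_le_card_group _)
      fun e => hL ((Subgroup.card_eq_iff_eq_top L).1 e)) L rfl _ fun a ha g => ?_
    set b : G := (g : G)⁻¹ * (a : G) * g with hb
    have hbL : b ∈ L := L.mul_mem (L.mul_mem (L.inv_mem g.2) a.2) g.2
    have hle : (A ⊔ MulAut.conj b • A : Subgroup G) ≤ L :=
      sup_le hAL ((CfsgLib.Solvable.conj_smul_mono _ hAL).trans
        (CfsgLib.Solvable.conj_smul_self_of_mem_normalizer (Subgroup.le_normalizer hbL)).le)
    have e : A.subgroupOf L ⊔ MulAut.conj (g⁻¹ * a * g) • A.subgroupOf L =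
        (A ⊔ MulAut.conj b • A).subgroupOf L := by
      rw [Subgroup.subgroupOf_sup hAL (le_sup_right.trans hle)]
      congr 1
      ext y
      rw [CfsgLib.Solvable.mem_conj_smul_iff, Subgroup.mem_subgroupOf, Subgroup.mem_subgroupOf,
        CfsgLib.Solvable.mem_conj_smul_iff]
      rfl
    rw [e]
    have := (h a (Subgroup.mem_subgroupOf.1 ha) g).comap (Subgroup.subgroupOfEquivOfLe hle).toMonoidHom
    convert this using 1
    ext y
    rfl
  by_contra hA
  obtain ⟨M, hM, hNM⟩ := (eq_top_or_exists_le_coatom (Subgroup.normalizer (A : Set G))).resolve_left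
    fun e => hA (Subgroup.Normal.isSubnormal (Subgroup.normalizer_eq_top_iff.1 e))
  have hAM : A ≤ M := Subgroup.le_normalizer.trans hNM
  have huniq : ∀ K : Subgroup G, IsCoatom K → A ≤ K → K = M := fun K hK hAK =>
    CfsgLib.Solvable.zipper A.index A rfl hsn hA K M hK hM hAK hAM
  have hfin : Subgroup.normalClosure (A : Set G) ≤ M → False := fun hle => hA
    (Subgroup.IsSubnormal.trans Subgroup.le_normalClosure
      (hsn _ (fun e => hM.1 (top_le_iff.1 (e ▸ hle))) Subgroup.le_normalClosure)
      (Subgroup.normalClosure_normal.isSubnormal))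
  by_cases hMn : M.Normal
  · exact hfin (Subgroup.normalClosure_le_normal hAM)
  refine hfin ((Subgroup.closure_le M).2 fun y hy => ?_)
  obtain ⟨a, ha, hay⟩ := Group.mem_conjugatesOfSet_iff.1 hy
  obtain ⟨c, rfl⟩ := isConj_iff.1 hay
  set b := c * a * c⁻¹ with hb
  have hb' : (c⁻¹)⁻¹ * a * c⁻¹ = b := by rw [inv_inv]
  have hconj : MulAut.conj b • A ≤ M := by
    rcases eq_top_or_exists_le_coatom (A ⊔ MulAut.conj b • A) with e | ⟨K, hK, hle⟩
    · refine absurd ?_ hA
      exact Subgroup.IsSubnormal.trans le_sup_left (hb' ▸ h a ha c⁻¹) (e ▸ Subgroup.IsSubnormal.top)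
    · rw [← huniq K hK (le_sup_left.trans hle)]
      exact le_sup_right.trans hle
  have hco : IsCoatom (MulAut.conj b⁻¹ • M) := by
    have := (MulAut.conj b⁻¹).mapSubgroup.isCoatom_iff M
    exact this.2 hM
  have hAle : A ≤ MulAut.conj b⁻¹ • M := by
    have := CfsgLib.Solvable.conj_smul_mono b⁻¹ hconj
    rw [map_inv, inv_smul_smul] at this
    rwa [map_inv]
  have heq := huniq _ hco hAle
  have hbN : b⁻¹ ∈ Subgroup.normalizer (M : Set G) := CfsgLib.Solvable.mem_normalizer_iff_conj_smul.2 heq
  have hNeq : Subgroup.normalizer (M : Set G) = M := by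
    refine ((hM.le_iff.1 Subgroup.le_normalizer).resolve_left fun e => hMn ?_)
    exact Subgroup.normalizer_eq_top_iff.1 e
  rw [hNeq] at hbN
  exact (Subgroup.inv_mem_iff M).1 hbN


/-- Let A be a subgroup of a finite group G. If A is subnormal in the subgroup generated by A and its conjugate by g⁻¹ a g, for every a ∈ A and every g ∈ G, then A is subnormal in G. (A sharpening of Wielandt's subnormality criterion: only conjugates of A by conjugates of elements of A are needed.) -/
theorem result {G : Type*} [Group G] [Finite G]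
    (A : Subgroup G)
    (h : ∀ a ∈ A, ∀ g : G, (A.subgroupOf (A ⊔ MulAut.conj (g⁻¹ * a * g) • A)).IsSubnormal) :
    A.IsSubnormal := by
  exact sharpened _ G rfl A h

end Cfsg.Agent.S4333
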