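import Cfsg.Statements.S4334
import Cfsg.Agent.Lib.Solvable.NilpotentHall
import Cfsg.Agent.Lib.Solvable.NilpotentParts
import Cfsg.Agent.Lib.OddLocal.Basic
import Cfsg.Agent.Lib.PGroup.NilpotentCover
import Cfsg.Agent.Lib.Transfer.Frobenius

set_option autoImplicit false
open Cfsg

namespace Cfsg.Agent.S4334
open scoped Pointwise

variable {G : Type*} [Group G] [Finite G]

theorem inf_bot_of_coprime {A B : Subgroup G} (h : (Nat.card A).Coprime (Nat.card B)) : A ⊓ B = ⊥ := by
  rw [← Subgroup.card_eq_one]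
  exact Nat.eq_one_of_dvd_coprimes h (Subgroup.card_dvd_of_le inf_le_left) (Subgroup.card_dvd_of_le inf_le_right)

theorem commute_in_nilpotent (K : Subgroup G) (hK : Group.IsNilpotent K) {a b : G} (ha : a ∈ K) (hb : b ∈ K)
    (h : (orderOf a).Coprime (orderOf b)) : a * b = b * a := by
  haveI := hK
  have := CfsgLib.OddLocal.commute_of_coprime_orderOf (⟨a, ha⟩ : K) ⟨b, hb⟩ (by
    rwa [← Subgroup.orderOf_coe, ← Subgroup.orderOf_coe])
  exact congrArg Subtype.val this

theorem pair_nilpotent {p q : ℕ} [hp : Fact p.Prime] [hq : Fact q.Prime] (hpq : p ≠ q) (A B : Subgroup G)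
    (hA : Nat.card A = p ^ (Nat.card G).factorization p) (hB : Nat.card B = q ^ (Nat.card G).factorization q)
    (hcom : ∀ a ∈ A, ∀ b ∈ B, a * b = b * a) (K : Subgroup G)
    (hK : ∀ r : ℕ, r.Prime → r ∣ Nat.card K → r = p ∨ r = q) : Group.IsNilpotent K := by
  have hcop : (Nat.card A).Coprime (Nat.card B) := by
    rw [hA, hB]; exact Nat.Coprime.pow _ _ ((Nat.coprime_primes hp.out hq.out).2 hpq)
  have hn : B ≤ Subgroup.normalizer (A : Set G) :=
    le_trans (fun b hb => Subgroup.mem_centralizer_iff.2 fun a ha => hcom a ha b hb) (Subgroup.centralizer_le_normalizer _)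
  have hcardM : Nat.card (A ⊔ B : Subgroup G) = Nat.card A * Nat.card B :=
    CfsgLib.Solvable.card_sup_of_disjoint hn (inf_bot_of_coprime hcop)
  haveI : Group.IsNilpotent A := (IsPGroup.of_card hA).isNilpotent
  haveI : Group.IsNilpotent B := (IsPGroup.of_card hB).isNilpotent
  have hM : Group.IsNilpotent (A ⊔ B : Subgroup G) := by
    have hcm : ∀ (m : A) (n : B), Commute (A.subtype m) (B.subtype n) := fun a b => hcom a a.2 b b.2
    let f : A × B →* G := MonoidHom.noncommCoprod A.subtype B.subtype hcm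
    have hr : f.range = A ⊔ B := by
      show (MonoidHom.noncommCoprod A.subtype B.subtype hcm).range = A ⊔ B
      rw [MonoidHom.noncommCoprod_range, A.range_subtype, B.range_subtype]
    rw [← hr]
    exact Group.nilpotent_of_surjective f.rangeRestrict f.rangeRestrict_surjective
  have hidx : (Nat.card (A ⊔ B : Subgroup G)).Coprime (A ⊔ B).index := by
    refine Nat.coprime_of_dvd fun r hr h1 h2 => ?_
    have key : ∀ (s : ℕ) (C : Subgroup G), Nat.card C = s ^ (Nat.card G).factorization s → C ≤ A ⊔ B → s.Prime →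
        ¬ s ∣ (A ⊔ B).index := fun s C hC hle hs hd => by
      have h : s ^ ((Nat.card G).factorization s + 1) ∣ Nat.card G := by
        have h0 := Subgroup.card_dvd_of_le hle
        rw [hC] at h0
        generalize (Nat.card G).factorization s = v at h0 ⊢
        rw [pow_succ, ← (A ⊔ B).card_mul_index]
        exact mul_dvd_mul h0 hd
      exact Nat.pow_succ_factorization_not_dvd Nat.card_pos.ne' hs h
    rw [hcardM] at h1
    rcases (Nat.Prime.dvd_mul hr).1 h1 with h | h
    · have := (Nat.prime_dvd_prime_iff_eq hr hp.out).1 (hr.dvd_of_dvd_pow (hA ▸ h))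
      exact key p A hA le_sup_left hp.out (this ▸ h2)
    · have := (Nat.prime_dvd_prime_iff_eq hr hq.out).1 (hr.dvd_of_dvd_pow (hB ▸ h))
      exact key q B hB le_sup_right hq.out (this ▸ h2)
  obtain ⟨x, hx⟩ := CfsgLib.Solvable.nilpotent_hall_dominates hM hidx (K := K) fun r hr hd => by
    have hG : r ∣ Nat.card G := hd.trans (Subgroup.card_subgroup_dvd_card K)
    rw [hcardM]
    rcases hK r hr hd with rfl | rfl
    · exact dvd_mul_of_dvd_left (hA ▸ dvd_pow_self _ (hr.factorization_pos_of_dvd Nat.card_pos.ne' hG).ne') _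
    · exact dvd_mul_of_dvd_right (hB ▸ dvd_pow_self _ (hr.factorization_pos_of_dvd Nat.card_pos.ne' hG).ne') _
  haveI : Group.IsNilpotent (MulAut.conj x • (A ⊔ B) : Subgroup G) :=
    Group.nilpotent_of_mulEquiv (Subgroup.equivSMul (MulAut.conj x) (A ⊔ B))
  exact Group.nilpotent_of_mulEquiv (Subgroup.subgroupOfEquivOfLe hx)

/-- If all `{p, q}`-subgroups are nilpotent then `p`-parts split off. -/
theorem split_prime {p : ℕ} [hp : Fact p.Prime]
    (hnil : ∀ q : ℕ, q.Prime → q ≠ p → q ∣ Nat.card G →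
      ∀ K : Subgroup G, (∀ r : ℕ, r.Prime → r ∣ Nat.card K → r = p ∨ r = q) → Group.IsNilpotent K) :
    ∃ (P : Sylow p G) (N : Subgroup G), (P : Subgroup G) ⊔ N = ⊤ ∧ (∀ a ∈ (P : Subgroup G), ∀ b ∈ N, a * b = b * a) ∧
      N.IsComplement' (P : Subgroup G) := by
  classical
  have hcomm : ∀ (q : ℕ) [Fact q.Prime], q ≠ p → ∀ A B : Subgroup G, IsPGroup p A → IsPGroup q B →
      B ≤ Subgroup.normalizer (A : Set G) ∨ A ≤ Subgroup.normalizer (B : Set G) → ∀ a ∈ A, ∀ b ∈ B, a * b = b * a := by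
    intro q hq hqp A B hA hB hn a ha b hb
    obtain ⟨i, hi⟩ := IsPGroup.iff_card.1 hA
    obtain ⟨j, hj⟩ := IsPGroup.iff_card.1 hB
    by_cases hqG : q ∣ Nat.card G
    · have hdvd : Nat.card (A ⊔ B : Subgroup G) ∣ Nat.card A * Nat.card B := by
        rcases hn with h | h
        · exact CfsgLib.Solvable.card_sup_dvd_of_le_normalizer h
        · rw [sup_comm, mul_comm]; exact CfsgLib.Solvable.card_sup_dvd_of_le_normalizer h
      have hK := hnil q hq.out hqp hqG (A ⊔ B) fun r hr hd => by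
        rcases (Nat.Prime.dvd_mul hr).1 (hd.trans hdvd) with h | h
        · exact Or.inl ((Nat.prime_dvd_prime_iff_eq hr hp.out).1 (hr.dvd_of_dvd_pow (hi ▸ h)))
        · exact Or.inr ((Nat.prime_dvd_prime_iff_eq hr hq.out).1 (hr.dvd_of_dvd_pow (hj ▸ h)))
      refine commute_in_nilpotent _ hK (Subgroup.mem_sup_left ha) (Subgroup.mem_sup_right hb) ?_
      exact Nat.Coprime.coprime_dvd_left (Subgroup.orderOf_coe (⟨a, ha⟩ : A) ▸ hi ▸ orderOf_dvd_natCard _)
        (Nat.Coprime.coprime_dvd_right (Subgroup.orderOf_coe (⟨b, hb⟩ : B) ▸ hj ▸ orderOf_dvd_natCard _)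
          (Nat.Coprime.pow _ _ ((Nat.coprime_primes hp.out hq.out).2 (Ne.symm hqp))))
    · have hB1 : B = ⊥ := by
        rw [← Subgroup.card_eq_one, hj]
        rcases Nat.eq_zero_or_pos j with rfl | hpos
        · exact pow_zero q
        · exact absurd ((dvd_pow_self q hpos.ne').trans (hj ▸ Subgroup.card_subgroup_dvd_card B)) hqG
      rw [hB1, Subgroup.mem_bot] at hb
      rw [hb, mul_one, one_mul]
  have hfro : CfsgLib.Transfer.FrobeniusCond p G := by
    intro Q hQ g hg hcop
    set Z := Subgroup.zpowers g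
    have hZn : Z ≤ Subgroup.normalizer (Q : Set G) := Subgroup.zpowers_le.2 hg
    suffices h : (Subgroup.centralizer (Q : Set G)).subgroupOf Z = ⊤ by
      exact Subgroup.subgroupOf_eq_top.1 h (Subgroup.mem_zpowers g)
    refine CfsgLib.PGroup.eq_top_of_forall_sylow_le fun q hq => ?_
    obtain ⟨R⟩ : Nonempty (Sylow q Z) := inferInstance
    refine ⟨R, ?_⟩
    intro z hz
    rw [Subgroup.mem_subgroupOf, Subgroup.mem_centralizer_iff]
    intro a ha
    rcases eq_or_ne q p with rfl | hqp
    · obtain ⟨k, hk⟩ := IsPGroup.iff_orderOf.1 R.isPGroup' ⟨z, hz⟩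
      rw [Subgroup.orderOf_mk] at hk
      have h1 : orderOf z ∣ orderOf g := by
        rw [← Nat.card_zpowers g]; exact orderOf_dvd_natCard z
      have : orderOf z = 1 := Nat.Coprime.eq_one_of_dvd (hcop.coprime_dvd_left h1) (by
        rw [hk]
        rcases Nat.eq_zero_or_pos k with rfl | hk0
        · simp
        · exfalso
          exact hq.out.ne_one (Nat.eq_one_of_dvd_coprimes (hcop.coprime_dvd_left h1) (hk ▸ dvd_pow_self q hk0.ne') dvd_rfl))
      rw [orderOf_eq_one_iff] at this
      rw [this]; simp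
    · exact hcomm q hqp Q ((R : Subgroup Z).map Z.subtype) hQ (R.isPGroup'.map _)
        (Or.inl ((Subgroup.map_subtype_le _).trans hZn)) a ha z (Subgroup.mem_map_of_mem _ hz)
  obtain ⟨P, N, hN, hcompl⟩ := CfsgLib.Transfer.hasNormalPComplement_of_frobeniusCond hfro
  refine ⟨P, N, by rw [sup_comm]; exact hcompl.sup_eq_top, fun a ha => ?_, hcompl⟩
  have hcopN : ¬ p ∣ Nat.card N := by
    intro hd
    have h1 := hcompl.index_eq_card
    have h2 := CfsgLib.Transfer.coprime_card_of_isComplement' P hcompl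
    exact hp.out.ne_one (Nat.eq_one_of_dvd_coprimes h2 hd dvd_rfl)
  suffices h : (Subgroup.centralizer ((P : Subgroup G) : Set G)).subgroupOf N = ⊤ by
    intro b hb
    exact Subgroup.mem_centralizer_iff.1 (Subgroup.subgroupOf_eq_top.1 h hb) a ha
  refine CfsgLib.PGroup.eq_top_of_forall_sylow_le fun q hq => ?_
  obtain ⟨R⟩ : Nonempty (Sylow q N) := inferInstance
  rcases eq_or_ne q p with rfl | hqp
  · refine ⟨R, ?_⟩
    have : (R : Subgroup N) = ⊥ := by
      rw [← Subgroup.card_eq_one]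
      obtain ⟨k, hk⟩ := IsPGroup.iff_card.1 R.isPGroup'
      rcases Nat.eq_zero_or_pos k with rfl | hk0
      · rw [hk, pow_zero]
      · exact absurd ((dvd_pow_self q hk0.ne').trans (hk ▸ Subgroup.card_subgroup_dvd_card _)) hcopN
    rw [this]; exact bot_le
  set M := Subgroup.normalizer (((R : Subgroup N).map N.subtype : Subgroup G) : Set G) with hMd
  have hfr : M ⊔ N = ⊤ := R.normalizer_sup_eq_top
  obtain ⟨PM⟩ : Nonempty (Sylow p M) := inferInstance
  have hPMcard : Nat.card ((PM : Subgroup M).map M.subtype) = p ^ (Nat.card G).factorization p := by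
    rw [Subgroup.card_subtype, PM.card_eq_multiplicity]
    congr 1
    refine le_antisymm ((Nat.factorization_le_iff_dvd Nat.card_pos.ne' Nat.card_pos.ne').2
      (Subgroup.card_subgroup_dvd_card M) p) ?_
    have h1 : Nat.card G ∣ Nat.card N * Nat.card M := by
      have h2 := CfsgLib.Solvable.card_sup_dvd_of_le_normalizer (A := N) (X := M)
        (by rw [Subgroup.normalizer_eq_top_iff.2 hN]; exact le_top)
      rwa [sup_comm, hfr, Subgroup.card_top] at h2
    have h2 : p ^ (Nat.card G).factorization p ∣ Nat.card M :=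
      (Nat.Coprime.dvd_mul_left (Nat.Coprime.pow_left _ ((hp.out.coprime_iff_not_dvd).2 hcopN))).1
        ((Nat.ordProj_dvd _ _).trans h1)
    exact (hp.out.pow_dvd_iff_le_factorization Nat.card_pos.ne').1 h2
  set P' : Sylow p G := Sylow.ofCard ((PM : Subgroup M).map M.subtype) hPMcard
  obtain ⟨g, hg⟩ := MulAction.exists_smul_eq G P P'
  haveI := hN
  let e : MulAut N := MulAut.conjNormal g
  refine ⟨e⁻¹ • R, ?_⟩
  intro z hz
  rw [Subgroup.mem_subgroupOf, Subgroup.mem_centralizer_iff]
  intro a ha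
  have hz' : e z ∈ (R : Subgroup N) := by
    rw [Sylow.pointwise_smul_def] at hz
    exact Subgroup.mem_inv_pointwise_smul_iff.1 hz
  have h1 : g * (z : G) * g⁻¹ ∈ (R : Subgroup N).map N.subtype := ⟨e z, hz', rfl⟩
  have h2 : g * a * g⁻¹ ∈ (PM : Subgroup M).map M.subtype := by
    have : g * a * g⁻¹ ∈ ((g • P : Sylow p G) : Subgroup G) := by
      rw [Sylow.coe_subgroup_smul]
      exact Subgroup.smul_mem_pointwise_smul a (MulAut.conj g) _ ha
    rw [hg] at this
    exact this
  have h3 := hcomm q hqp _ _ (PM.isPGroup'.map M.subtype) (R.isPGroup'.map N.subtype)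
    (Or.inr (Subgroup.map_subtype_le _)) _ h2 _ h1
  calc a * (z : G) = g⁻¹ * (g * a * g⁻¹ * (g * (z : G) * g⁻¹)) * g := by group
    _ = g⁻¹ * (g * (z : G) * g⁻¹ * (g * a * g⁻¹)) * g := by rw [h3]
    _ = (z : G) * a := by group


/-- Let σ and τ be disjoint sets of primes with union π. Suppose a finite group G has a Hall π-subgroup H which is the direct product of a nilpotent σ-subgroup and a τ-subgroup (two elementwise-commuting subgroups generating H), and that the maximal τ-subgroups of G are pairwise conjugate. Then the maximal π-subgroups of G are pairwise conjugate. -/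
theorem result {G : Type*} [Group G] [Finite G]
    (σ τ π : Set ℕ) (hπ : π = σ ∪ τ) (hd : Disjoint σ τ) (H Hs Ht : Subgroup G) (hH : Cfsg.IsPiHall π H)
    (hs : Cfsg.IsPiSubgroup σ Hs) (ht : Cfsg.IsPiSubgroup τ Ht) (hsn : Group.IsNilpotent Hs)
    (hjoin : Hs ⊔ Ht = H) (hcomm : ∀ a ∈ Hs, ∀ b ∈ Ht, a * b = b * a) (hD : Cfsg.IsDPiGroup τ G) :
    Cfsg.IsDPiGroup π G := by
  classical
  have hcentral : Ht ≤ Subgroup.normalizer (Hs : Set G) :=
    le_trans (fun b hb => Subgroup.mem_centralizer_iff.2 fun a ha => hcomm a ha b hb) (Subgroup.centralizer_le_normalizer _)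
  have hcopst : (Nat.card Hs).Coprime (Nat.card Ht) :=
    Nat.coprime_of_dvd fun r hr h1 h2 => Set.disjoint_left.1 hd (hs r hr h1) (ht r hr h2)
  have hcardH : Nat.card H = Nat.card Hs * Nat.card Ht := by
    rw [← hjoin]; exact CfsgLib.Solvable.card_sup_of_disjoint hcentral (inf_bot_of_coprime hcopst)
  have hfac : ∀ p : ℕ, p.Prime → p ∈ π → (Nat.card G).factorization p =
      (Nat.card Hs).factorization p + (Nat.card Ht).factorization p := by
    intro p hp hpπ
    rw [← H.card_mul_index, Nat.factorization_mul Nat.card_pos.ne' Subgroup.index_ne_zero_of_finite, Finsupp.add_apply,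
      Nat.factorization_eq_zero_of_not_dvd (hH.2 p hp hpπ), add_zero, hcardH,
      Nat.factorization_mul Nat.card_pos.ne' Nat.card_pos.ne', Finsupp.add_apply]
  have hzero_s : ∀ p : ℕ, p.Prime → p ∈ τ → (Nat.card Hs).factorization p = 0 := fun p hp hpt =>
    Nat.factorization_eq_zero_of_not_dvd fun hd' => Set.disjoint_left.1 hd (hs p hp hd') hpt
  have hzero_t : ∀ p : ℕ, p.Prime → p ∈ σ → (Nat.card Ht).factorization p = 0 := fun p hp hps =>
    Nat.factorization_eq_zero_of_not_dvd fun hd' => Set.disjoint_left.1 hd hps (ht p hp hd')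
  have hsyl : ∀ p : ℕ, p.Prime → p ∈ π → ∃ A : Subgroup G,
      Nat.card A = p ^ (Nat.card G).factorization p ∧ (p ∈ σ → A ≤ Hs) ∧ (p ∈ τ → A ≤ Ht) := by
    intro p hp hpπ
    haveI := Fact.mk hp
    have hpπ' := hpπ
    rw [hπ] at hpπ'
    rcases hpπ' with h | h
    · obtain ⟨S⟩ : Nonempty (Sylow p Hs) := inferInstance
      refine ⟨(S : Subgroup Hs).map Hs.subtype, ?_, fun _ => Subgroup.map_subtype_le _,
        fun h' => absurd h' (Set.disjoint_left.1 hd h)⟩
      rw [Subgroup.card_subtype, S.card_eq_multiplicity, hfac p hp hpπ, hzero_t p hp h, add_zero]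
    · obtain ⟨S⟩ : Nonempty (Sylow p Ht) := inferInstance
      refine ⟨(S : Subgroup Ht).map Ht.subtype, ?_, fun h' => absurd h (Set.disjoint_left.1 hd h'),
        fun _ => Subgroup.map_subtype_le _⟩
      rw [Subgroup.card_subtype, S.card_eq_multiplicity, hfac p hp hpπ, hzero_s p hp h, zero_add]
  have hnilG : ∀ p : ℕ, p.Prime → p ∈ σ → ∀ q : ℕ, q.Prime → q ∈ π → q ≠ p → ∀ K : Subgroup G,
      (∀ r : ℕ, r.Prime → r ∣ Nat.card K → r = p ∨ r = q) → Group.IsNilpotent K := by
    intro p hp hps q hq hqπ hqp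
    haveI := Fact.mk hp
    haveI := Fact.mk hq
    obtain ⟨A, hA, hAs, -⟩ := hsyl p hp (by rw [hπ]; exact Or.inl hps)
    obtain ⟨B, hB, hBs, hBt⟩ := hsyl q hq hqπ
    refine pair_nilpotent (Ne.symm hqp) A B hA hB fun a ha b hb => ?_
    have hqπ' := hqπ
    rw [hπ] at hqπ'
    rcases hqπ' with h | h
    · refine commute_in_nilpotent Hs hsn (hAs hps ha) (hBs h hb) ?_
      exact Nat.Coprime.coprime_dvd_left (Subgroup.orderOf_coe (⟨a, ha⟩ : A) ▸ hA ▸ orderOf_dvd_natCard _)
        (Nat.Coprime.coprime_dvd_right (Subgroup.orderOf_coe (⟨b, hb⟩ : B) ▸ hB ▸ orderOf_dvd_natCard _)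
          (Nat.Coprime.pow _ _ ((Nat.coprime_primes hp hq).2 (Ne.symm hqp))))
    · exact hcomm a (hAs hps ha) b (hBt h hb)
  have hdec : ∀ (n : ℕ) (X : Subgroup G), Nat.card X ≤ n → Cfsg.IsPiSubgroup π X →
      ∃ S K : Subgroup G, Cfsg.IsPiSubgroup σ S ∧ Cfsg.IsPiSubgroup τ K ∧ S ⊔ K = X ∧
        ∀ a ∈ S, ∀ b ∈ K, a * b = b * a := by
    intro n
    induction n with
    | zero => intro X hX; exact absurd hX (not_le.2 Nat.card_pos)
    | succ n ih =>
      intro X hX hXπ
      by_cases hex : ∃ p : ℕ, p.Prime ∧ p ∣ Nat.card X ∧ p ∈ σ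
      swap
      · refine ⟨⊥, X, fun r hr hd' => ?_, fun r hr hd' => ?_, bot_sup_eq X, fun a ha b _ => by
          rw [Subgroup.mem_bot.1 ha, one_mul, mul_one]⟩
        · rw [Subgroup.card_bot] at hd'; exact absurd (Nat.eq_one_of_dvd_one hd') hr.ne_one
        · have := hXπ r hr hd'
          rw [hπ] at this
          exact this.resolve_left fun h => hex ⟨r, hr, hd', h⟩
      obtain ⟨p, hp, hpX, hps⟩ := hex
      haveI := Fact.mk hp
      obtain ⟨P, N, hPN, hPNc, hcompl⟩ := split_prime (G := X) (p := p) fun q hq hqp hqX K hK => by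
        have h1 : Group.IsNilpotent (K.map X.subtype) :=
          hnilG p hp hps q hq (hXπ q hq hqX) hqp _ fun r hr hd' => hK r hr (by rwa [Subgroup.card_subtype] at hd')
        exact Group.nilpotent_of_mulEquiv (K.equivMapOfInjective X.subtype X.subtype_injective).symm
      set P' := (P : Subgroup X).map X.subtype with hP'
      set N' := N.map X.subtype with hN'
      have hlt : Nat.card N' ≤ n := by
        have h1 : Nat.card N * Nat.card (P : Subgroup X) = Nat.card X := hcompl.card_mul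
        have h2 : 2 ≤ Nat.card (P : Subgroup X) :=
          hp.two_le.trans (Nat.le_of_dvd Nat.card_pos (P.dvd_card_of_dvd_card hpX))
        have h3 : Nat.card N' = Nat.card N := Subgroup.card_subtype _ _
        have h4 : 0 < Nat.card N := Nat.card_pos
        nlinarith
      obtain ⟨S, K, hS, hK, hSK, hc⟩ := ih N' hlt fun r hr hd' =>
        hXπ r hr (hd'.trans (Subgroup.card_dvd_of_le (Subgroup.map_subtype_le _)))
      have hPc : ∀ a ∈ P', ∀ b ∈ N', a * b = b * a := by
        rintro _ ⟨a, ha, rfl⟩ _ ⟨b, hb, rfl⟩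
        exact congrArg X.subtype (hPNc a ha b hb)
      refine ⟨P' ⊔ S, K, fun r hr hd' => ?_, hK, ?_, fun a ha b hb => ?_⟩
      · have hn : S ≤ Subgroup.normalizer (P' : Set G) := le_trans
          (fun s hs' => Subgroup.mem_centralizer_iff.2 fun a ha => hPc a ha s (hSK ▸ Subgroup.mem_sup_left hs'))
          (Subgroup.centralizer_le_normalizer _)
        rcases (Nat.Prime.dvd_mul hr).1 (hd'.trans (CfsgLib.Solvable.card_sup_dvd_of_le_normalizer hn)) with h | h
        · obtain ⟨k, hk⟩ := IsPGroup.iff_card.1 (P.isPGroup'.map X.subtype)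
          rw [(Nat.prime_dvd_prime_iff_eq hr hp).1 (hr.dvd_of_dvd_pow (hk ▸ h))]
          exact hps
        · exact hS r hr h
      · rw [sup_assoc, hSK, hP', hN', ← Subgroup.map_sup, hPN, ← MonoidHom.range_eq_map, X.range_subtype]
      · have hle : P' ⊔ S ≤ Subgroup.centralizer ({b} : Set G) :=
          sup_le (fun a ha => Subgroup.mem_centralizer_singleton_iff.2 (hPc a ha b (hSK ▸ Subgroup.mem_sup_right hb)))
            (fun a ha => Subgroup.mem_centralizer_singleton_iff.2 (hc a ha b hb))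
        exact Subgroup.mem_centralizer_singleton_iff.1 (hle ha)
  have hHtmax : Maximal (Cfsg.IsPiSubgroup τ) Ht := by
    refine ⟨ht, fun L hL hle => ?_⟩
    have h1 : Nat.card L ∣ Nat.card Ht := by
      refine (Nat.factorization_le_iff_dvd Nat.card_pos.ne' Nat.card_pos.ne').1 fun r => ?_
      by_cases hr : r.Prime ∧ r ∣ Nat.card L
      · have hrt := hL r hr.1 hr.2
        have := (Nat.factorization_le_iff_dvd Nat.card_pos.ne' Nat.card_pos.ne').2 (Subgroup.card_subgroup_dvd_card L) r
        rw [hfac r hr.1 (by rw [hπ]; exact Or.inr hrt), hzero_s r hr.1 hrt, zero_add] at this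
        exact this
      · by_cases hr' : r.Prime
        · rw [Nat.factorization_eq_zero_of_not_dvd fun h => hr ⟨hr', h⟩]; exact Nat.zero_le _
        · rw [Nat.factorization_eq_zero_of_not_prime _ hr']; exact Nat.zero_le _
    exact (Subgroup.eq_of_le_of_card_ge hle (Nat.le_of_dvd Nat.card_pos h1)).ge
  have hHsidx : (Nat.card Hs).Coprime Hs.index := by
    refine Nat.coprime_of_dvd fun r hr h1 h2 => ?_
    have hrs := hs r hr h1
    have h3 : (Nat.card G).factorization r = (Nat.card Hs).factorization r + Hs.index.factorization r := by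
      rw [← Hs.card_mul_index, Nat.factorization_mul Nat.card_pos.ne' Subgroup.index_ne_zero_of_finite, Finsupp.add_apply]
    have h4 := hfac r hr (by rw [hπ]; exact Or.inl hrs)
    rw [hzero_t r hr hrs, add_zero] at h4
    have h5 := hr.factorization_pos_of_dvd Subgroup.index_ne_zero_of_finite h2
    omega
  have hdom : ∀ X : Subgroup G, Cfsg.IsPiSubgroup π X → ∃ x : G, X ≤ MulAut.conj x • H := by
    intro X hX
    obtain ⟨S, K, hS, hK, hSK, hc⟩ := hdec _ X le_rfl hX
    obtain ⟨M, hKM, hM⟩ := Set.Finite.exists_le_maximal (Set.toFinite {L : Subgroup G | Cfsg.IsPiSubgroup τ L}) hK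
    obtain ⟨g, hg⟩ := hD Ht M hHtmax hM
    rw [← CfsgLib.Solvable.conj_smul_eq_map] at hg
    have hK' : MulAut.conj g⁻¹ • K ≤ Ht := by
      refine le_trans (CfsgLib.Solvable.conj_smul_mono g⁻¹ (hKM.trans hg.le)) ?_
      rw [CfsgLib.Solvable.conj_smul_conj_smul, inv_mul_cancel, map_one, one_smul]
    set K1 := MulAut.conj g⁻¹ • K
    set S1 := MulAut.conj g⁻¹ • S
    set C := Subgroup.centralizer (K1 : Set G) with hC
    have hHsC : Hs ≤ C := fun a ha => Subgroup.mem_centralizer_iff.2 fun b hb => (hcomm a ha b (hK' hb)).symm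
    have hSC : S1 ≤ C := fun a ha => Subgroup.mem_centralizer_iff.2 fun b hb => by
      have hb' := CfsgLib.Solvable.mem_conj_smul_iff.1 hb
      have ha' := CfsgLib.Solvable.mem_conj_smul_iff.1 ha
      have := hc _ ha' _ hb'
      simp only [inv_inv] at this
      calc b * a = g⁻¹ * ((g * b * g⁻¹) * (g * a * g⁻¹)) * g := by group
        _ = g⁻¹ * ((g * a * g⁻¹) * (g * b * g⁻¹)) * g := by rw [this]
        _ = a * b := by group
    obtain ⟨c, hcc⟩ := CfsgLib.Solvable.nilpotent_hall_dominates (G := C) (H := Hs.subgroupOf C) (K := S1.subgroupOf C)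
      (Group.nilpotent_of_mulEquiv (Subgroup.subgroupOfEquivOfLe hHsC).symm)
      (by
        rw [Nat.card_congr (Subgroup.subgroupOfEquivOfLe hHsC).toEquiv]
        exact hHsidx.coprime_dvd_right (Dvd.intro _ (Subgroup.relIndex_mul_index hHsC)))
      (fun r hr hd' => by
        rw [Nat.card_congr (Subgroup.subgroupOfEquivOfLe hSC).toEquiv, CfsgLib.Solvable.card_conj_smul] at hd'
        rw [Nat.card_congr (Subgroup.subgroupOfEquivOfLe hHsC).toEquiv]
        have hrs := hS r hr hd'
        have h1 := hr.factorization_pos_of_dvd Nat.card_pos.ne' (hd'.trans (Subgroup.card_subgroup_dvd_card S))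
        rw [hfac r hr (by rw [hπ]; exact Or.inl hrs), hzero_t r hr hrs, add_zero] at h1
        exact Nat.dvd_of_factorization_pos h1.ne')
    have hSle : S1 ≤ MulAut.conj (c : G) • Hs := CfsgLib.Solvable.map_subgroupOf_conj_le c hcc hSC
    have hKle : K1 ≤ MulAut.conj (c : G) • Ht := fun b hb => CfsgLib.Solvable.mem_conj_smul_iff.2 (by
      have := Subgroup.mem_centralizer_iff.1 c.2 b hb
      rw [mul_assoc, this, inv_mul_cancel_left]
      exact hK' hb)
    refine ⟨g * c, ?_⟩
    rw [← hSK, ← CfsgLib.Solvable.conj_smul_conj_smul]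
    have h1 : S1 ⊔ K1 ≤ MulAut.conj (c : G) • H :=
      sup_le (hSle.trans (CfsgLib.Solvable.conj_smul_mono _ (hjoin ▸ le_sup_left)))
        (hKle.trans (CfsgLib.Solvable.conj_smul_mono _ (hjoin ▸ le_sup_right)))
    have h2 : ∀ L : Subgroup G, L = MulAut.conj g • MulAut.conj g⁻¹ • L := fun L => by
      rw [CfsgLib.Solvable.conj_smul_conj_smul, mul_inv_cancel, map_one, one_smul]
    refine sup_le ?_ ?_
    · rw [h2 S]; exact CfsgLib.Solvable.conj_smul_mono g (le_sup_left.trans h1)
    · rw [h2 K]; exact CfsgLib.Solvable.conj_smul_mono g (le_sup_right.trans h1)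
  have hmaxeq : ∀ X : Subgroup G, Maximal (Cfsg.IsPiSubgroup π) X → ∃ x : G, X = MulAut.conj x • H := by
    intro X hX
    obtain ⟨x, hx⟩ := hdom X hX.1
    refine ⟨x, le_antisymm hx (hX.2 ?_ hx)⟩
    intro r hr hd'
    rw [CfsgLib.Solvable.card_conj_smul] at hd'
    exact hH.1 r hr hd'
  intro H1 H2 h1 h2
  obtain ⟨a, rfl⟩ := hmaxeq H1 h1
  obtain ⟨b, rfl⟩ := hmaxeq H2 h2
  refine ⟨b * a⁻¹, ?_⟩
  rw [← CfsgLib.Solvable.conj_smul_eq_map, CfsgLib.Solvable.conj_smul_conj_smul, inv_mul_cancel_right]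

end Cfsg.Agent.S4334
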