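import Cfsg.Statements.S4342
import Cfsg.Agent.Lib.SylowNumbers.TwoPrimeAddOne

set_option autoImplicit false
open Cfsg

namespace Cfsg.Agent.S4342

theorem card_sylow_quotient_center {H : Type*} [Group H] [Finite H] (p : ℕ) [Fact p.Prime] :
    Nat.card (Sylow p (H ⧸ Subgroup.center H)) = Nat.card (Sylow p H) := by
  refine (Nat.card_eq_of_bijective
    (fun P : Sylow p H => P.mapSurjective (QuotientGroup.mk'_surjective (Subgroup.center H)))
    ⟨?_, Sylow.mapSurjective_surjective _ p⟩).symm
  intro P Q hPQ
  have h1 := congrArg (fun R : Sylow p (H ⧸ Subgroup.center H) => R.toSubgroup) hPQ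
  simp only [Sylow.coe_mapSurjective] at h1
  have h2 : (Q : Subgroup H) ≤ Subgroup.normalizer ((P : Subgroup H) : Set H) := by
    intro x hx
    obtain ⟨y, hy, hxy⟩ : QuotientGroup.mk' (Subgroup.center H) x ∈ (P : Subgroup H).map (QuotientGroup.mk' _) :=
      h1 ▸ ⟨x, hx, rfl⟩
    have hk : y⁻¹ * x ∈ Subgroup.center H := QuotientGroup.eq.1 hxy
    have hk' : y⁻¹ * x ∈ Subgroup.normalizer ((P : Subgroup H) : Set H) := (show Subgroup.center H ≤ _ from Subgroup.center_le_normalizer _) hk
    simpa using mul_mem (Subgroup.le_normalizer hy) hk'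
  exact Sylow.ext (Q.3 P.2 ((le_inf le_rfl h2).trans ((Q.2.inf_normalizer_sylow P).le.trans inf_le_right)))


/-- Let H be a normal subgroup of a finite group G and p a prime not dividing the index of H. Then the number of Sylow p-subgroups of H/Z(H) equals the number of Sylow p-subgroups of G. -/
theorem result {G : Type*} [Group G] [Finite G]
    (p : ℕ) [Fact p.Prime] (H : Subgroup G) [H.Normal] (hp : ¬ p ∣ H.index) :
    Nat.card (Sylow p (H ⧸ Subgroup.center H)) = Nat.card (Sylow p G) := by
  rw [card_sylow_quotient_center, CfsgLib.SylowNumbers.card_sylow_of_normal hp]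

end Cfsg.Agent.S4342
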