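import Cfsg.Statements.S4343
import Cfsg.Agent.Lib.SmallGroups.Basic

set_option autoImplicit false
open Cfsg

namespace Cfsg.Agent.S4343

open MulAction
open scoped commutatorElement

/-- Brodkey's theorem: for abelian Sylow subgroups some intersection of two of them lies in all. -/
theorem brodkey {G : Type*} [Group G] [Finite G] {p : ℕ} [Fact p.Prime]
    (hab : ∀ P : Sylow p G, IsMulCommutative (P : Subgroup G)) :
    ∃ P Q : Sylow p G, ∀ R : Sylow p G, (P : Subgroup G) ⊓ Q ≤ R := by
  obtain ⟨⟨P, Q⟩, hmin⟩ := Finite.exists_min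
    (fun x : Sylow p G × Sylow p G => Nat.card ↥((x.1 : Subgroup G) ⊓ x.2))
  refine ⟨P, Q, fun R => ?_⟩
  set D := (P : Subgroup G) ⊓ Q with hD
  set N := Subgroup.centralizer (D : Set G) with hN
  have hsub : ∀ X : Sylow p G, D ≤ (X : Subgroup G) → (X : Subgroup G) ≤ N := by
    intro X hX x hx
    rw [hN, Subgroup.mem_centralizer_iff]
    intro d hd
    exact congrArg Subtype.val ((hab X).is_comm.comm ⟨d, hX hd⟩ ⟨x, hx⟩)
  have hPN := hsub P inf_le_left
  have hQN := hsub Q inf_le_right
  obtain ⟨S, hS⟩ := (R.2.comap_subtype (K := N)).exists_le_sylow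
  obtain ⟨y, hy⟩ := MulAction.exists_smul_eq N (P.subtype hPN) S
  have hPy : (R : Subgroup G) ⊓ N ≤ (((y : G) • P : Sylow p G) : Subgroup G) := by
    intro x hx
    have h1 : (⟨x, hx.2⟩ : N) ∈ (S : Subgroup N) := hS hx.1
    rw [← hy, Sylow.smul_subtype, Sylow.coe_subtype, Subgroup.mem_subgroupOf] at h1
    exact h1
  have hQy : (((y : G) • Q : Sylow p G) : Subgroup G) ≤ N :=
    Sylow.smul_le hQN y
  have hDy : ∀ x, x ∈ (((y : G) • P : Sylow p G) : Subgroup G) ⊓ ((y : G) • Q : Sylow p G) → x ∈ D := by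
    intro x hx
    simp only [Subgroup.mem_inf, Sylow.coe_subgroup_smul, Subgroup.mem_pointwise_smul_iff_inv_smul_mem,
      MulAut.smul_def, MulAut.conj_inv_apply] at hx
    have h2 : (y : G)⁻¹ * x * y ∈ D := Subgroup.mem_inf.2 hx
    have h3 := Subgroup.mem_centralizer_iff.1 y.2 _ h2
    have : x = (y : G)⁻¹ * x * y := by
      calc x = (y : G) * ((y : G)⁻¹ * x * y) * (y : G)⁻¹ := by group
        _ = _ := by rw [← h3]; group
    rw [this]
    exact h2
  have hle : (R : Subgroup G) ⊓ ((y : G) • Q : Sylow p G) ≤ D := fun x hx =>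
    hDy x ⟨hPy ⟨hx.1, hQy hx.2⟩, hx.2⟩
  have heq := Subgroup.eq_of_le_of_card_ge hle (hmin (R, (y : G) • Q))
  exact heq.symm.le.trans inf_le_left


/-- Let S be a finite non-abelian simple group and p a prime dividing its order. If S has fewer than p² Sylow p-subgroups, then its Sylow p-subgroups have order p. -/
theorem result {S : Type*} [Group S] [Finite S]
    [IsSimpleGroup S] (hS : ¬ IsMulCommutative S) (p : ℕ) [Fact p.Prime] (hp : p ∣ Nat.card S)
    (hn : Nat.card (Sylow p S) < p ^ 2) (P : Sylow p S) : Nat.card P = p := by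
  have hp2 : 2 ≤ p := (Fact.out : p.Prime).two_le
  have hn1 : Nat.card (Sylow p S) ≠ 1 := CfsgLib.SmallGroups.card_sylow_ne_one hS hp
  have hinj : ∀ x : S, (∀ R : Sylow p S, x ∈ (R : Subgroup S)) → x = 1 := by
    intro x hx
    have hK : (⨅ R : Sylow p S, (R : Subgroup S)).Normal := ⟨fun a ha g => by
      rw [Subgroup.mem_iInf] at ha ⊢
      intro R
      have := ha (g⁻¹ • R)
      rw [Sylow.coe_subgroup_smul, Subgroup.mem_pointwise_smul_iff_inv_smul_mem] at this
      simpa using this⟩
    rcases hK.eq_bot_or_eq_top with e | e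
    · have := Subgroup.mem_iInf.2 hx
      rwa [e, Subgroup.mem_bot] at this
    · exfalso
      apply hn1
      have : Subsingleton (Sylow p S) := ⟨fun A B => Sylow.ext (A.3 B.2 (le_top.trans (e.ge.trans (iInf_le _ B)))).symm⟩
      exact Nat.card_eq_one_iff_unique.2 ⟨this, inferInstance⟩
  have hrel : ∀ A B : Sylow p S, B ≠ A → (B : Subgroup S).relIndex A = p := by
    intro A B hne
    have hst : MulAction.stabilizer (A : Subgroup S) B = (B : Subgroup S).subgroupOf A := by
      ext x
      rw [MulAction.mem_stabilizer_iff, Subgroup.mem_subgroupOf]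
      change (x : S) • B = B ↔ _
      rw [Sylow.smul_eq_iff_mem_normalizer]
      exact ⟨fun hx => (Subgroup.mem_inf.1 ((A.2.inf_normalizer_sylow B).le (Subgroup.mem_inf.2 ⟨x.2, hx⟩))).2,
        fun hx => Subgroup.le_normalizer hx⟩
    obtain ⟨k, hk⟩ := A.2.index ((B : Subgroup S).subgroupOf A)
    change (B : Subgroup S).relIndex A = p ^ k at hk
    have hlt : p ^ k < p ^ 2 := by
      rw [← hk, Subgroup.relIndex, ← hst, MulAction.index_stabilizer]
      exact lt_of_le_of_lt ((Set.ncard_le_ncard (Set.subset_univ _)).trans (Set.ncard_univ _).le) hn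
    have hk2 : k < 2 := (Nat.pow_lt_pow_iff_right hp2).1 hlt
    have hk0 : k ≠ 0 := by
      rintro rfl
      rw [pow_zero, Subgroup.relIndex_eq_one] at hk
      exact hne (Sylow.ext (A.3 B.2 hk))
    rw [hk, show k = 1 by omega, pow_one]
  have hab : ∀ A : Sylow p S, IsMulCommutative (A : Subgroup S) := by
    intro A
    refine ⟨⟨fun a b => ?_⟩⟩
    have h1 : ∀ R : Sylow p S, ((⁅a, b⁆ : (A : Subgroup S)) : S) ∈ (R : Subgroup S) := by
      intro R
      rcases eq_or_ne R A with rfl | hne
      · exact SetLike.coe_mem _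
      have hn : ((R : Subgroup S).subgroupOf A).Normal := by
        apply Subgroup.normal_of_index_eq_minFac_card
        change (R : Subgroup S).relIndex A = _
        rw [hrel A R hne]
        obtain ⟨k, hk⟩ := IsPGroup.iff_card.1 A.2
        rcases k with _ | k
        · have := hrel A R hne ▸ Subgroup.relIndex_dvd_card (R : Subgroup S) (A : Subgroup S)
          rw [hk, pow_zero] at this
          exact absurd this (Fact.out : p.Prime).not_dvd_one
        · rw [hk, (Fact.out : p.Prime).pow_minFac (Nat.succ_ne_zero k)]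
      have hcard : Nat.card ((A : Subgroup S) ⧸ (R : Subgroup S).subgroupOf A) = p := hrel A R hne
      have hc : IsCyclic ((A : Subgroup S) ⧸ (R : Subgroup S).subgroupOf A) := isCyclic_of_prime_card hcard
      have : QuotientGroup.mk' ((R : Subgroup S).subgroupOf A) ⁅a, b⁆ = 1 := by
        rw [map_commutatorElement, commutatorElement_eq_one_iff_mul_comm]
        exact hc.isMulCommutative.is_comm.comm _ _
      exact (QuotientGroup.eq_one_iff (N := (R : Subgroup S).subgroupOf A) ⁅a, b⁆).1 this
    have h2 : (⁅a, b⁆ : (A : Subgroup S)) = 1 := Subtype.ext (hinj _ h1)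
    exact commutatorElement_eq_one_iff_mul_comm.1 h2
  obtain ⟨A, B, hAB⟩ := brodkey hab
  have hbot : (A : Subgroup S) ⊓ B = ⊥ := (Subgroup.eq_bot_iff_forall _).2 fun x hx => hinj x fun R => hAB R hx
  have hne : B ≠ A := by
    rintro rfl
    rw [inf_idem] at hbot
    exact B.ne_bot_of_dvd_card hp hbot
  have := hrel A B hne
  rw [← Subgroup.inf_relIndex_right, inf_comm, hbot, Subgroup.relIndex_bot_left] at this
  exact (Nat.card_congr (Sylow.equiv P A).toEquiv).trans this

end Cfsg.Agent.S4343
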