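import Cfsg.Statements.S4344

set_option autoImplicit false
open Cfsg

namespace Cfsg.Agent.S4344

/-- Let S be a finite non-abelian simple group, M a maximal subgroup of S and C a cyclic normal subgroup of M. If a Sylow p-subgroup P of S (for a prime p dividing the order of S) is contained in C, then the number of Sylow p-subgroups of S equals the index of M. -/
theorem result {S : Type*} [Group S] [Finite S]
    [IsSimpleGroup S] (hS : ¬ IsMulCommutative S) (p : ℕ) [Fact p.Prime] (hp : p ∣ Nat.card S)
    (M : Subgroup S) (hM : IsCoatom M) (C : Subgroup S) (hCM : C ≤ M) (hCn : (C.subgroupOf M).Normal)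
    (hC : IsCyclic C) (P : Sylow p S) (hP : (P : Subgroup S) ≤ C) :
    Nat.card (Sylow p S) = M.index := by
  have hPM : (P : Subgroup S) ≤ M := hP.trans hCM
  have hnorm : M ≤ Subgroup.normalizer ((P : Subgroup S) : Set S) := by
    have hMC : M ≤ Subgroup.normalizer (C : Set S) := (Subgroup.normal_subgroupOf_iff_le_normalizer hCM).1 hCn
    intro m hm
    rw [Subgroup.mem_normalizer_iff]
    suffices key : ∀ m ∈ M, ∀ x ∈ (P : Subgroup S), m * x * m⁻¹ ∈ (P : Subgroup S) by
      intro x
      refine ⟨key m hm x, fun h => ?_⟩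
      have := key m⁻¹ (inv_mem hm) _ h
      simpa [mul_assoc] using this
    intro m hm x hx
    have hx' : m * x * m⁻¹ ∈ C := (Subgroup.mem_normalizer_iff.1 (hMC hm) x).1 (hP hx)
    obtain ⟨k, hk⟩ := IsPGroup.iff_card.1 (P.2.to_subgroup (⊤ : Subgroup (P : Subgroup S)))
    have h1 : orderOf (m * x * m⁻¹) = orderOf x := by
      rw [← MulAut.conj_apply]
      exact orderOf_injective (MulAut.conj m).toMonoidHom (MulAut.conj m).injective x
    have hPC : ((P : Subgroup S).subgroupOf C).Normal := by
      refine ⟨fun a ha b => ?_⟩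
      have hcc : IsMulCommutative C := hC.isMulCommutative
      rw [hcc.is_comm.comm b a]
      simpa using ha
    let PC : Sylow p C := P.subtype hP
    have hPC' : (PC : Subgroup C).Normal := by rwa [Sylow.coe_subtype]
    have hsub := Sylow.unique_of_normal PC hPC'
    have hpg : IsPGroup p (Subgroup.zpowers (⟨m * x * m⁻¹, hx'⟩ : C)) := by
      obtain ⟨j, hj⟩ := IsPGroup.iff_orderOf.1 P.2 ⟨x, hx⟩
      rw [Subgroup.orderOf_mk] at hj
      exact IsPGroup.of_card (n := j) (by rw [Nat.card_zpowers, Subgroup.orderOf_mk, h1, hj])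
    obtain ⟨Q, hQ⟩ := hpg.exists_le_sylow
    have hQeq : Q = PC := @Subsingleton.elim _ (@Unique.instSubsingleton _ hsub) Q PC
    have := hQ (Subgroup.mem_zpowers _)
    rw [hQeq, Sylow.coe_subtype, Subgroup.mem_subgroupOf] at this
    exact this
  have hne : Subgroup.normalizer ((P : Subgroup S) : Set S) ≠ ⊤ := by
    intro h
    rcases (Subgroup.normalizer_eq_top_iff.1 h).eq_bot_or_eq_top with hb | ht
    · exact P.ne_bot_of_dvd_card hp hb
    · apply hM.1
      exact top_le_iff.1 (ht ▸ hPM)
  have heq : Subgroup.normalizer ((P : Subgroup S) : Set S) = M := by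
    by_contra hne'
    exact hne (hM.2 _ (lt_of_le_of_ne hnorm (Ne.symm hne')))
  rw [← heq]
  exact P.card_eq_index_normalizer

end Cfsg.Agent.S4344
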