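import Cfsg.Statements.S4345
import Cfsg.Agent.Lib.SylowNumbers.Product

set_option autoImplicit false
open Cfsg

namespace Cfsg.Agent.S4345

open scoped commutatorElement

/-- Let G be a finite solvable group and p, ℓ primes. Then the largest power of ℓ dividing the number of Sylow p-subgroups of G is congruent to 1 modulo p. -/
theorem result {G : Type*} [Group G] [Finite G]
    (hG : Group.IsSolvable G) (p ℓ : ℕ) [Fact p.Prime] (hℓ : ℓ.Prime) :
    ℓ ^ (Nat.card (Sylow p G)).factorization ℓ ≡ 1 [MOD p] := by
  have h := CfsgLib.SylowNumbers.sylow_number_induction (p := p) (CfsgLib.SylowNumbers.PartsModOne p)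
    (CfsgLib.SylowNumbers.PartsModOne.one p) (fun _ _ => CfsgLib.SylowNumbers.PartsModOne.mul)
    (fun _ => id) (fun G _ => Group.IsSolvable G)
    (fun G _ _ K _ hG => ⟨by have := hG; infer_instance, by have := hG; infer_instance⟩)
    (fun S _ _ hS hsolv => by
      have := hsolv
      have := hS
      have hcomm : ∀ a b : S, a * b = b * a := by
        rcases hS.2 (commutator S) inferInstance with h1 | h1
        · intro a b
          have : ⁅a, b⁆ ∈ commutator S := Subgroup.commutator_mem_commutator (Subgroup.mem_top a) (Subgroup.mem_top b)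
          rw [h1, Subgroup.mem_bot] at this
          exact commutatorElement_eq_one_iff_mul_comm.1 this
        · exact absurd h1 (Group.IsSolvable.commutator_lt_top_of_nontrivial S).ne
      obtain ⟨P⟩ : Nonempty (Sylow p S) := inferInstance
      have hPn : (P : Subgroup S).Normal := ⟨fun x hx g => by rwa [hcomm g x, mul_inv_cancel_right]⟩
      rw [CfsgLib.SylowNumbers.card_eq_index P, Subgroup.normalizer_eq_top_iff.2 hPn, Subgroup.index_top]
      exact CfsgLib.SylowNumbers.PartsModOne.one p)
    _ G rfl hG
  exact h.2 ℓ hℓ

end Cfsg.Agent.S4345
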