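import Cfsg.Statements.S4347

set_option autoImplicit false
open Cfsg

namespace Cfsg.Agent.S4347

/-- Let G be a finite group and p a prime. Say a Sylow p-subgroup Q is redundant when every element of p-power order lies in some Sylow p-subgroup other than Q. Then G has no redundant Sylow p-subgroup if and only if some element of p-power order lies in exactly one Sylow p-subgroup. -/
theorem result {G : Type*} [Group G] [Finite G]
    (p : ℕ) [Fact p.Prime] :
    (¬ ∃ Q : Sylow p G, ∀ x : G, (∃ k : ℕ, orderOf x = p ^ k) → ∃ P : Sylow p G, P ≠ Q ∧ x ∈ P) ↔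
      ∃ x : G, (∃ k : ℕ, orderOf x = p ^ k) ∧ ∃! P : Sylow p G, x ∈ P := by
  constructor
  · intro h
    by_contra h'
    push Not at h'
    apply h
    obtain ⟨Q⟩ : Nonempty (Sylow p G) := inferInstance
    refine ⟨Q, fun x hx => ?_⟩
    obtain ⟨k, hk⟩ := hx
    have hp : IsPGroup p (Subgroup.zpowers x) := IsPGroup.of_card (n := k) (by rw [Nat.card_zpowers, hk])
    obtain ⟨P, hP⟩ := hp.exists_le_sylow
    have hxP : x ∈ P := hP (Subgroup.mem_zpowers x)
    by_cases hPQ : P = Q
    · by_contra hc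
      push Not at hc
      exact h' x ⟨k, hk⟩ ⟨P, hxP, fun R hR => by_contra fun hne => hc R (hPQ ▸ hne) hR⟩
    · exact ⟨P, hPQ, hxP⟩
  · rintro ⟨x, ⟨k, hk⟩, P, hxP, huniq⟩ ⟨Q, hQ⟩
    obtain ⟨g, rfl⟩ := MulAction.exists_smul_eq G P Q
    obtain ⟨R, hne, hR⟩ := hQ (g * x * g⁻¹) ⟨k, by
      rw [← MulAut.conj_apply]
      exact (orderOf_injective (MulAut.conj g).toMonoidHom (MulAut.conj g).injective x).trans hk⟩
    apply hne
    have h1 : g⁻¹ • R = P := huniq _ (by
      change x ∈ ((g⁻¹ • R : Sylow p G) : Subgroup G)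
      rw [Sylow.coe_subgroup_smul, Subgroup.mem_pointwise_smul_iff_inv_smul_mem]
      simp only [map_inv, inv_inv, MulAut.smul_def, MulAut.conj_apply]
      exact hR)
    rw [← h1, smul_inv_smul]

end Cfsg.Agent.S4347
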