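import Cfsg.Statements.S4348
import Cfsg.Agent.Lib.Cores.Basic

set_option autoImplicit false
open Cfsg

namespace Cfsg.Agent.S4348

/-- Let G be a finite group, p a prime and P a Sylow p-subgroup of G, and let O_p(G) be the largest normal p-subgroup of G. If P/O_p(G) is cyclic, then some element of p-power order of G lies in exactly one Sylow p-subgroup. -/
theorem result {G : Type*} [Group G] [Finite G]
    (p : ℕ) [Fact p.Prime] (P : Sylow p G)
    [hn : ((Cfsg.pCore p G).subgroupOf (P : Subgroup G)).Normal]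
    (hc : IsCyclic ((P : Subgroup G) ⧸ (Cfsg.pCore p G).subgroupOf (P : Subgroup G))) :
    ∃ x : G, (∃ k : ℕ, orderOf x = p ^ k) ∧ ∃! Q : Sylow p G, x ∈ Q := by
  obtain ⟨y, hy⟩ := hc.exists_generator
  induction y using QuotientGroup.induction_on with | H y => ?_
  obtain ⟨k, hk⟩ := IsPGroup.iff_orderOf.1 P.2 y
  rw [← Subgroup.orderOf_coe] at hk
  refine ⟨y, ⟨k, hk⟩, P, y.2, fun Q hQ => ?_⟩
  refine Sylow.ext (P.3 Q.2 ?_)
  intro z hz
  obtain ⟨j, hj⟩ := Subgroup.mem_zpowers_iff.1 (hy (QuotientGroup.mk (⟨z, hz⟩ : (P : Subgroup G))))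
  rw [← QuotientGroup.mk_zpow, QuotientGroup.eq, Subgroup.mem_subgroupOf] at hj
  have ho := CfsgLib.Cores.pCore_le_sylow Q hj
  have hyz : ((y : G) ^ j)⁻¹ * z ∈ (Q : Subgroup G) := by simpa using ho
  have := mul_mem (zpow_mem (hQ : (y : G) ∈ (Q : Subgroup G)) j) hyz
  show z ∈ Q
  simpa using this

end Cfsg.Agent.S4348
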