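import Cfsg.Statements.S4354
-- import your own Cfsg.Agent.* helpers here

set_option autoImplicit false
open Cfsg

namespace Cfsg.Agent.S4354

/-- If `N` is normal then `[N : C ⊓ N]` divides `[G : C]`. -/
theorem relIndex_dvd_index_right {G : Type*} [Group G] [Finite G] (C N : Subgroup G) [N.Normal] :
    C.relIndex N ∣ C.index := by
  have h1 : (C ⊓ N).relIndex C * C.index = (C ⊓ N).index :=
    Subgroup.relIndex_mul_index inf_le_left
  have h2 : (C ⊓ N).relIndex N * N.index = (C ⊓ N).index :=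
    Subgroup.relIndex_mul_index inf_le_right
  rw [Subgroup.inf_relIndex_left] at h1
  rw [Subgroup.inf_relIndex_right] at h2
  obtain ⟨k, hk⟩ := Subgroup.relIndex_dvd_index_of_normal N C
  have hpos : 0 < N.relIndex C := Nat.pos_of_ne_zero (fun h0 => Subgroup.index_ne_zero_of_finite (H := N.subgroupOf C) h0)
  refine ⟨k, Nat.eq_of_mul_eq_mul_left hpos ?_⟩
  rw [h1, ← h2, hk]
  ring

/-- A subgroup of index prime to `p` contains a Sylow `p`-subgroup. -/
theorem exists_sylow_le {G : Type*} [Group G] [Finite G] {p : ℕ} [Fact p.Prime] (C : Subgroup G)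
    (hC : ¬ p ∣ C.index) : ∃ Q : Sylow p G, (Q : Subgroup G) ≤ C := by
  obtain ⟨S⟩ := (Sylow.nonempty : Nonempty (Sylow p C))
  have h : ¬ p ∣ ((S : Subgroup C).map C.subtype).index := by
    rw [Subgroup.index_map_subtype]
    intro hd
    rcases (Fact.out : p.Prime).dvd_mul.mp hd with h' | h'
    · exact S.not_dvd_index h'
    · exact hC h'
  refine ⟨(S.2.map C.subtype).toSylow h, ?_⟩
  rw [IsPGroup.toSylow_coe]
  exact Subgroup.map_subtype_le _

/-- All p-elements have class size prime to `p`. -/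
def GoodP (p : ℕ) (G : Type*) [Group G] : Prop :=
  ∀ x : G, (∃ k : ℕ, orderOf x = p ^ k) → ¬ p ∣ (Subgroup.centralizer ({x} : Set G)).index

theorem good_normal {G : Type*} [Group G] [Finite G] {p : ℕ} (h : GoodP p G) (N : Subgroup G)
    [N.Normal] : GoodP p N := by
  intro x hx hd
  have heq : Subgroup.centralizer ({x} : Set N) =
      (Subgroup.centralizer ({(x : G)} : Set G)).subgroupOf N := by
    ext y
    simp [Subgroup.mem_subgroupOf, Subgroup.mem_centralizer_singleton_iff, Subtype.ext_iff]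
  rw [heq] at hd
  refine h x ?_ (hd.trans (relIndex_dvd_index_right _ N))
  obtain ⟨k, hk⟩ := hx
  exact ⟨k, by rw [Subgroup.orderOf_coe, hk]⟩

theorem good_quot {G : Type*} [Group G] [Finite G] {p : ℕ} [Fact p.Prime] (h : GoodP p G)
    (N : Subgroup G) [N.Normal] : GoodP p (G ⧸ N) := by
  intro x hx hd
  obtain ⟨k, hk⟩ := hx
  have hxp : IsPGroup p (Subgroup.zpowers x) :=
    IsPGroup.of_card (n := k) (by rw [Nat.card_zpowers, hk])
  obtain ⟨S, hS⟩ := hxp.exists_le_sylow
  obtain ⟨P, hP⟩ := Sylow.mapSurjective_surjective (QuotientGroup.mk'_surjective N) p S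
  have hxS : x ∈ (S : Subgroup (G ⧸ N)) := hS (Subgroup.mem_zpowers x)
  rw [← hP, Sylow.coe_mapSurjective] at hxS
  obtain ⟨y, hy, rfl⟩ := Subgroup.mem_map.mp hxS
  have hyo : ∃ j : ℕ, orderOf y = p ^ j := by
    obtain ⟨j, hj⟩ := (IsPGroup.iff_orderOf.mp P.2) ⟨y, hy⟩
    exact ⟨j, by rw [← hj, Subgroup.orderOf_mk]⟩
  apply h y hyo
  refine hd.trans (Dvd.dvd.trans (Subgroup.index_dvd_of_le ?_)
    ((Subgroup.centralizer ({y} : Set G)).index_map_dvd (f := QuotientGroup.mk' N)
      (QuotientGroup.mk'_surjective N)))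
  intro z hz
  obtain ⟨w, hw, rfl⟩ := Subgroup.mem_map.mp hz
  rw [Subgroup.mem_centralizer_singleton_iff] at hw ⊢
  rw [← map_mul, hw, map_mul]

theorem commutative_of_sylow {G : Type*} [Group G] [Finite G] {p : ℕ} [Fact p.Prime]
    (P Q : Sylow p G) (hP : IsMulCommutative P) : IsMulCommutative Q := by
  constructor
  constructor
  intro a b
  apply (P.equiv Q).symm.injective
  rw [map_mul, map_mul]
  exact hP.is_comm.comm _ _

theorem core_case {G : Type*} [Group G] [Finite G] {p : ℕ} [Fact p.Prime] (h : GoodP p G)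
    (N : Subgroup G) [N.Normal]
    (hNab : ∀ P : Sylow p N, IsMulCommutative P)
    (hQab : ∀ P : Sylow p (G ⧸ N), IsMulCommutative P)
    (hgen : ∀ K : Subgroup G, (∀ x : G, (∃ k : ℕ, orderOf x = p ^ k) → x ∈ K) → K = ⊤)
    (P0 : Sylow p G) : IsMulCommutative P0 := by
  classical
  let A : Subgroup G := (P0 : Subgroup G) ⊓ N
  have hAp : IsPGroup p ((P0 : Subgroup G).subgroupOf N) :=
    P0.2.comap_of_injective N.subtype N.subtype_injective
  have hAi : ¬ p ∣ ((P0 : Subgroup G).subgroupOf N).index := fun hd =>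
    P0.not_dvd_index (hd.trans (relIndex_dvd_index_right _ N))
  let AS : Sylow p N := hAp.toSylow hAi
  have hASmap : (AS : Subgroup N).map N.subtype = A := by
    rw [IsPGroup.toSylow_coe, Subgroup.subgroupOf_map_subtype]
  have hAc : A ≤ Subgroup.centralizer (A : Set G) := by
    intro a ha
    rw [Subgroup.mem_centralizer_iff]
    intro b hb
    have haN : (⟨a, ha.2⟩ : N) ∈ (AS : Subgroup N) := by
      rw [IsPGroup.toSylow_coe, Subgroup.mem_subgroupOf]; exact ha.1
    have hbN : (⟨b, hb.2⟩ : N) ∈ (AS : Subgroup N) := by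
      rw [IsPGroup.toSylow_coe, Subgroup.mem_subgroupOf]; exact hb.1
    exact congrArg (fun z : (AS : Subgroup N) => ((z : N) : G))
      ((hNab AS).is_comm.comm ⟨_, hbN⟩ ⟨_, haN⟩)
  -- G = N C(A)
  have hsup : N ⊔ Subgroup.centralizer (A : Set G) = ⊤ := by
    apply hgen
    intro x hx
    obtain ⟨Q, hQ⟩ := exists_sylow_le _ (h x hx)
    obtain ⟨g, hg⟩ := MulAction.exists_smul_eq G P0 Q
    have hfr : g ∈ Subgroup.normalizer (A : Set G) ⊔ N := by
      have := Sylow.normalizer_sup_eq_top AS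
      rw [hASmap] at this
      rw [this]; exact Subgroup.mem_top g
    rw [sup_comm, ← SetLike.mem_coe, Subgroup.normal_mul] at hfr
    obtain ⟨m, hm, n, hn, rfl⟩ := hfr
    have hc : n * ((m * n)⁻¹ * x * (m * n)) * n⁻¹ ∈ Subgroup.centralizer (A : Set G) := by
      rw [Subgroup.mem_centralizer_iff]
      intro b hb
      have hbn : n⁻¹ * b * n ∈ A := (Subgroup.mem_normalizer_iff''.mp hn b).mp hb
      have hmem : (m * n) * (n⁻¹ * b * n) * (m * n)⁻¹ ∈ (Q : Subgroup G) := by
        rw [← hg, Sylow.coe_subgroup_smul, Subgroup.mem_smul_pointwise_iff_exists]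
        exact ⟨n⁻¹ * b * n, hbn.1, rfl⟩
      have hcomm := Subgroup.mem_centralizer_singleton_iff.mp (hQ hmem)
      calc b * (n * ((m * n)⁻¹ * x * (m * n)) * n⁻¹)
          = m⁻¹ * (((m * n) * (n⁻¹ * b * n) * (m * n)⁻¹) * x) * m := by group
        _ = m⁻¹ * (x * ((m * n) * (n⁻¹ * b * n) * (m * n)⁻¹)) * m := by rw [hcomm]
        _ = n * ((m * n)⁻¹ * x * (m * n)) * n⁻¹ * b := by group
    have hx' : x = m * (n * ((m * n)⁻¹ * x * (m * n)) * n⁻¹) * m⁻¹ := by group
    rw [hx']
    exact Subgroup.mul_mem _ (Subgroup.mul_mem _ (Subgroup.mem_sup_left hm)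
      (Subgroup.mem_sup_right hc)) (Subgroup.inv_mem _ (Subgroup.mem_sup_left hm))
  -- a Sylow subgroup centralising A
  have hCi : ¬ p ∣ (Subgroup.centralizer (A : Set G)).index := by
    intro hd
    set C := Subgroup.centralizer (A : Set G) with hC
    have h1 : (C ⊓ N).relIndex C * C.index = (C ⊓ N).index :=
      Subgroup.relIndex_mul_index inf_le_left
    have h2 : (C ⊓ N).relIndex N * N.index = (C ⊓ N).index :=
      Subgroup.relIndex_mul_index inf_le_right
    rw [Subgroup.inf_relIndex_left] at h1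
    rw [Subgroup.inf_relIndex_right] at h2
    have h3 : N.relIndex C = N.index := by
      rw [← Subgroup.relIndex_sup_right, sup_comm, hsup, Subgroup.relIndex_top_right]
    rw [h3, ← h2, mul_comm (C.relIndex N)] at h1
    have h4 := Nat.eq_of_mul_eq_mul_left
      (Nat.pos_of_ne_zero Subgroup.index_ne_zero_of_finite) h1
    rw [h4] at hd
    apply hAi
    refine hd.trans ?_
    refine Subgroup.index_dvd_of_le ?_
    intro z hz
    rw [Subgroup.mem_subgroupOf] at hz ⊢
    exact hAc ⟨hz, z.2⟩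
  obtain ⟨R, hR⟩ := exists_sylow_le _ hCi
  have hRA : (R : Subgroup G) ⊓ N ≤ Subgroup.centralizer ((R : Subgroup G) : Set G) := by
    have hAR : A ≤ (R : Subgroup G) := by
      have hnorm : (R : Subgroup G) ≤ Subgroup.normalizer (A : Set G) :=
        hR.trans (Subgroup.centralizer_le_normalizer _)
      have hp' : IsPGroup p ((A ⊔ R : Subgroup G)) :=
        (P0.2.to_le inf_le_left).to_sup_of_normal_left' R.2 hnorm
      exact (le_sup_left).trans_eq (R.3 hp' le_sup_right)
    have hEq : (R : Subgroup G) ⊓ N = A := by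
      refine le_antisymm ?_ (le_inf hAR inf_le_right)
      have hp' : IsPGroup p ((R : Subgroup G).subgroupOf N) :=
        R.2.comap_of_injective N.subtype N.subtype_injective
      have hle : (AS : Subgroup N) ≤ (R : Subgroup G).subgroupOf N := by
        intro z hz
        rw [IsPGroup.toSylow_coe, Subgroup.mem_subgroupOf] at hz
        exact hAR ⟨hz, z.2⟩
      intro z hz
      have := (AS.3 hp' hle).le (show (⟨z, hz.2⟩ : N) ∈ (R : Subgroup G).subgroupOf N from hz.1)
      rw [IsPGroup.toSylow_coe, Subgroup.mem_subgroupOf] at this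
      exact ⟨this, hz.2⟩
    rw [hEq]
    intro a ha
    rw [Subgroup.mem_centralizer_iff]
    intro b hb
    exact (Subgroup.mem_centralizer_iff.mp (hR hb) a ha).symm
  let π := QuotientGroup.mk' N
  let Rb : Sylow p (G ⧸ N) := R.mapSurjective (QuotientGroup.mk'_surjective N)
  have hRbc := hQab Rb
  have hRbmem : ∀ r ∈ (R : Subgroup G), π r ∈ (Rb : Subgroup (G ⧸ N)) := fun r hr => by
    rw [Sylow.coe_mapSurjective]; exact Subgroup.mem_map_of_mem _ hr
  have hcentR : ∀ x ∈ (R : Subgroup G), x ∈ Subgroup.centralizer ((R : Subgroup G) : Set G) := by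
    intro x hx
    obtain ⟨k, hk⟩ := (IsPGroup.iff_orderOf.mp R.2) ⟨x, hx⟩
    rw [Subgroup.orderOf_mk] at hk
    obtain ⟨Q, hQ⟩ := exists_sylow_le _ (h x ⟨k, hk⟩)
    obtain ⟨g, hg⟩ := MulAction.exists_smul_eq G R Q
    have hz : g⁻¹ * x * g ∈ Subgroup.centralizer ((R : Subgroup G) : Set G) := by
      rw [Subgroup.mem_centralizer_iff]
      intro r hr
      have hmem : g * r * g⁻¹ ∈ (Q : Subgroup G) := by
        rw [← hg, Sylow.coe_subgroup_smul, Subgroup.mem_smul_pointwise_iff_exists]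
        exact ⟨r, hr, rfl⟩
      have hcomm := Subgroup.mem_centralizer_singleton_iff.mp (hQ hmem)
      calc r * (g⁻¹ * x * g) = g⁻¹ * ((g * r * g⁻¹) * x) * g := by group
        _ = g⁻¹ * (x * (g * r * g⁻¹)) * g := by rw [hcomm]
        _ = g⁻¹ * x * g * r := by group
    have hx' : π x ∈ Subgroup.centralizer ((Rb : Subgroup (G ⧸ N)) : Set (G ⧸ N)) := by
      rw [Subgroup.mem_centralizer_iff]
      intro b hb
      exact congrArg Subtype.val (hRbc.is_comm.comm ⟨b, hb⟩ ⟨π x, hRbmem x hx⟩)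
    have hy' : (π g)⁻¹ * π x * π g ∈ Subgroup.centralizer ((Rb : Subgroup (G ⧸ N)) : Set (G ⧸ N)) := by
      rw [Subgroup.mem_centralizer_iff]
      intro b hb
      rw [Sylow.coe_mapSurjective] at hb
      obtain ⟨r, hr, rfl⟩ := Subgroup.mem_map.mp hb
      rw [← map_inv, ← map_mul, ← map_mul, ← map_mul, ← map_mul,
        Subgroup.mem_centralizer_iff.mp hz r hr]
    obtain ⟨nb, hnb, hnb'⟩ :=
      Rb.conj_eq_normalizer_conj_of_mem_centralizer (π x) (π g) hx' hy'
    obtain ⟨n, rfl⟩ := QuotientGroup.mk'_surjective N nb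
    -- move n into the normalizer of R
    let K : Subgroup G := (Rb : Subgroup (G ⧸ N)).comap π
    have hRK : (R : Subgroup G) ≤ K := fun r hr => hRbmem r hr
    have hnRK : ((n • R : Sylow p G) : Subgroup G) ≤ K := by
      intro w hw
      rw [Sylow.coe_subgroup_smul, Subgroup.mem_smul_pointwise_iff_exists] at hw
      obtain ⟨r, hr, rfl⟩ := hw
      change π (n * r * n⁻¹) ∈ (Rb : Subgroup (G ⧸ N))
      rw [map_mul, map_mul, map_inv]
      exact (Subgroup.mem_normalizer_iff.mp hnb (π r)).mp (hRbmem r hr)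
    obtain ⟨c, hc⟩ := MulAction.exists_smul_eq K ((n • R : Sylow p G).subtype hnRK) (R.subtype hRK)
    have hn0 : ((c : G) * n) • R = R := by
      rw [mul_smul]
      apply Sylow.subtype_injective (hP := ?_) (hQ := hRK)
      · rw [← hc, Sylow.smul_subtype]
        rfl
    have hn0N : (c : G) * n ∈ Subgroup.normalizer ((R : Subgroup G) : Set G) :=
      Sylow.smul_eq_iff_mem_normalizer.mp hn0
    let z := ((c : G) * n) * (g⁻¹ * x * g) * ((c : G) * n)⁻¹
    have hzc : z ∈ Subgroup.centralizer ((R : Subgroup G) : Set G) := by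
      rw [Subgroup.mem_centralizer_iff]
      intro r hr
      have hr' := (Subgroup.mem_normalizer_iff''.mp hn0N r).mp hr
      have := Subgroup.mem_centralizer_iff.mp hz _ hr'
      calc r * z = ((c : G) * n) * ((((c : G) * n)⁻¹ * r * ((c : G) * n)) * (g⁻¹ * x * g)) *
            ((c : G) * n)⁻¹ := by simp only [z]; group
        _ = ((c : G) * n) * ((g⁻¹ * x * g) * (((c : G) * n)⁻¹ * r * ((c : G) * n))) *
            ((c : G) * n)⁻¹ := by rw [this]
        _ = z * r := by simp only [z]; group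
    have hzpe : z ∈ (R : Subgroup G) := by
      have hzp : IsPGroup p (Subgroup.zpowers z) := by
        refine IsPGroup.of_card (n := k) ?_
        rw [Nat.card_zpowers, ← hk]
        have h1 : z = ((c : G) * n * g⁻¹) * x * ((c : G) * n * g⁻¹)⁻¹ := by
          simp only [z]; group
        rw [h1]
        exact orderOf_injective (MulAut.conj ((c : G) * n * g⁻¹)).toMonoidHom
          (MulAut.conj _).injective x
      have hnorm : Subgroup.zpowers z ≤ Subgroup.normalizer ((R : Subgroup G) : Set G) :=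
        ((Subgroup.zpowers_le).mpr hzc).trans (Subgroup.centralizer_le_normalizer _)
      have hsupp : IsPGroup p ((R : Subgroup G) ⊔ Subgroup.zpowers z : Subgroup G) :=
        R.2.to_sup_of_normal_left' hzp hnorm
      exact (R.3 hsupp le_sup_left).le (Subgroup.mem_sup_right (Subgroup.mem_zpowers z))
    have hzx : π z = π x := by
      have hzi : π n * ((π g)⁻¹ * π x * π g) * (π n)⁻¹ = π x := by
        rw [hnb']; simp only [π]; group
      have hπz : π z = π (c : G) * π x * (π (c : G))⁻¹ := by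
        rw [← hzi]
        simp only [z, map_mul, map_inv]
        group
      rw [hπz]
      have hcomm := Subgroup.mem_centralizer_iff.mp hx' (π (c : G)) c.2
      rw [hcomm]; group
    have ha : x⁻¹ * z ∈ Subgroup.centralizer ((R : Subgroup G) : Set G) := by
      refine hRA ⟨Subgroup.mul_mem _ (Subgroup.inv_mem _ hx) hzpe, ?_⟩
      change x⁻¹ * z ∈ N
      rw [← QuotientGroup.eq_one_iff]
      change π (x⁻¹ * z) = 1
      rw [map_mul, map_inv, hzx, inv_mul_cancel]
    have hxeq : x = z * (x⁻¹ * z)⁻¹ := by group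
    rw [hxeq]
    exact Subgroup.mul_mem _ hzc (Subgroup.inv_mem _ ha)
  refine commutative_of_sylow R P0 ⟨⟨fun a b => ?_⟩⟩
  exact Subtype.ext (Subgroup.mem_centralizer_iff.mp (hcentR b b.2) a a.2)

/-- Let G be a finite group and p a prime such that the Sylow p-subgroups of G are non-abelian while every element of p-power order has conjugacy class size prime to p, and suppose no nontrivial proper normal subgroup N of G has this property and no quotient G/N by such an N has it. Then G is simple. -/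
theorem result {G : Type*} [Group G] [Finite G]
    (p : ℕ) [Fact p.Prime] (h : ((∃ P : Sylow p G, ¬ IsMulCommutative P) ∧ ∀ x : G, (∃ k : ℕ, orderOf x = p ^ k) → ¬ p ∣ (Subgroup.centralizer ({x} : Set G)).index))
    (hmin : ∀ (N : Subgroup G) [N.Normal], N ≠ ⊥ → N ≠ ⊤ →
      ¬ ((∃ P : Sylow p N, ¬ IsMulCommutative P) ∧ ∀ x : N, (∃ k : ℕ, orderOf x = p ^ k) → ¬ p ∣ (Subgroup.centralizer ({x} : Set N)).index) ∧
      ¬ ((∃ P : Sylow p (G ⧸ N), ¬ IsMulCommutative P) ∧ ∀ x : (G ⧸ N), (∃ k : ℕ, orderOf x = p ^ k) → ¬ p ∣ (Subgroup.centralizer ({x} : Set (G ⧸ N))).index)) :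
    IsSimpleGroup G := by
  classical
  obtain ⟨⟨P0, hP0⟩, hgood⟩ := h
  have hgood' : GoodP p G := hgood
  have hP0ne : (P0 : Subgroup G) ≠ ⊥ := by
    intro hb
    apply hP0
    refine ⟨⟨fun a b => Subtype.ext ?_⟩⟩
    have ha : (a : G) = 1 := Subgroup.mem_bot.mp (hb ▸ a.2)
    have hb' : (b : G) = 1 := Subgroup.mem_bot.mp (hb ▸ b.2)
    simp [ha, hb']
  have : Nontrivial G := by
    by_contra hc
    rw [not_nontrivial_iff_subsingleton] at hc
    exact hP0ne (Subsingleton.elim _ _)
  refine IsSimpleGroup.mk fun N hN => ?_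
  by_contra hcon
  push Not at hcon
  haveI := hN
  obtain ⟨hm1, hm2⟩ := hmin N hcon.1 hcon.2
  have hNab : ∀ P : Sylow p N, IsMulCommutative P := fun P => by
    by_contra hc
    exact hm1 ⟨⟨P, hc⟩, good_normal hgood' N⟩
  have hQab : ∀ P : Sylow p (G ⧸ N), IsMulCommutative P := fun P => by
    by_contra hc
    exact hm2 ⟨⟨P, hc⟩, good_quot hgood' N⟩
  refine hP0 (core_case hgood' N hNab hQab ?_ P0)
  intro K hK
  let S : Set G := {x | ∃ k : ℕ, orderOf x = p ^ k}
  let L : Subgroup G := Subgroup.normalClosure S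
  have hLK : L ≤ K := by
    refine (Subgroup.closure_le _).mpr ?_
    intro y hy
    rw [Group.mem_conjugatesOfSet_iff] at hy
    obtain ⟨x, hx, hxy⟩ := hy
    obtain ⟨u, hu⟩ := isConj_iff.mp hxy
    obtain ⟨j, hj⟩ := hx
    refine hK y ⟨j, ?_⟩
    rw [← hu, ← hj]
    exact orderOf_injective (MulAut.conj u).toMonoidHom (MulAut.conj _).injective x
  have hPL : (P0 : Subgroup G) ≤ L := by
    intro x hx
    obtain ⟨j, hj⟩ := (IsPGroup.iff_orderOf.mp P0.2) ⟨x, hx⟩
    rw [Subgroup.orderOf_mk] at hj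
    exact Subgroup.subset_normalClosure ⟨j, hj⟩
  rcases eq_or_ne L ⊤ with hL | hL
  · exact top_le_iff.mp (hL ▸ hLK)
  · exfalso
    refine (hmin L (fun hb => hP0ne (le_bot_iff.mp (hb ▸ hPL))) hL).1 ⟨⟨P0.subtype hPL, ?_⟩, good_normal hgood' L⟩
    intro hc
    apply hP0
    refine ⟨⟨fun a b => ?_⟩⟩
    have h1 := hc.is_comm.comm ⟨⟨(a : G), hPL a.2⟩, a.2⟩ ⟨⟨(b : G), hPL b.2⟩, b.2⟩
    exact Subtype.ext (congrArg (fun z : (P0.subtype hPL : Sylow p L) => ((z : L) : G)) h1)

end Cfsg.Agent.S4354
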