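import Cfsg.Statements.S4364
import Cfsg.Agent.Lib.Char.PrimePowerClass
-- import your own Cfsg.Agent.* helpers here

set_option autoImplicit false
open Cfsg

namespace Cfsg.Agent.S4364

/-- Let G be a finite group, p a prime and x an element whose conjugacy class has p-power size. Then for any two conjugates y and z of x, the commutator y z y⁻¹ z⁻¹ lies in O_p(G), the largest normal p-subgroup of G. -/
theorem result {G : Type*} [Group G] [Finite G] (p : ℕ) [Fact p.Prime]
    (x : G) (hx : ∃ a : ℕ, (Subgroup.centralizer ({x} : Set G)).index = p ^ a) (g h : G) :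
    (g * x * g⁻¹) * (h * x * h⁻¹) * (g * x * g⁻¹)⁻¹ * (h * x * h⁻¹)⁻¹ ∈ Cfsg.pCore p G := by
  haveI : (Cfsg.pCore p G).Characteristic := CfsgLib.Cores.pCore_characteristic p
  set π := QuotientGroup.mk' (Cfsg.pCore p G)
  obtain ⟨a, ha⟩ := hx
  have hx' : ∃ b : ℕ, (Subgroup.centralizer ({π x} : Set (G ⧸ Cfsg.pCore p G))).index = p ^ b := by
    obtain ⟨b, -, hb⟩ := (Nat.dvd_prime_pow Fact.out).1 (ha ▸ (Subgroup.index_dvd_of_le
      (K := Subgroup.centralizer ({π x} : Set (G ⧸ Cfsg.pCore p G)))
      (H := (Subgroup.centralizer ({x} : Set G)).map π) (by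
        rintro _ ⟨c, hc, rfl⟩
        rw [Subgroup.mem_centralizer_singleton_iff, ← map_mul, ← map_mul,
          Subgroup.mem_centralizer_singleton_iff.1 hc])).trans
      (Subgroup.index_map_dvd _ (QuotientGroup.mk'_surjective _)))
    exact ⟨b, hb⟩
  have h1 := CfsgLib.PrimePowerClass.commute_conj_of_pCore_eq_bot (π x) hx'
    (CfsgLib.Cores.pCore_quotient_self p) (π g) (π h)
  simp only [← map_inv, ← map_mul] at h1
  refine (QuotientGroup.eq_one_iff _).1 ?_
  show π _ = 1
  rw [map_mul, map_mul, map_inv, map_inv, h1, map_mul]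
  group

end Cfsg.Agent.S4364
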