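import Cfsg.Statements.S4365
import Cfsg.Agent.Lib.PGroup.Basic

set_option autoImplicit false
open Cfsg

namespace Cfsg.Agent.S4365
open scoped commutatorElement

theorem norm_trick {A : Type*} [CommGroup A] (Z : Subgroup A) {p : ℕ} (hp : p.Prime) (α β : MulAut A)
    (hb : β ^ p = 1) (hc : α * β = β * α) (hZ : ∀ z ∈ Z, α z = z)
    (hT : ∀ k : ℕ, ∀ a, ∏ j ∈ Finset.range p, ((α * β ^ k) ^ j) a ∈ Z)
    (hN : ∀ a, ∏ j ∈ Finset.range p, (β ^ j) a ∈ Z) : ∀ a, a ^ p ∈ Z := by
  intro a
  set N := ∏ j ∈ Finset.range p, (β ^ j) a with hNd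
  have hperiod : ∀ i, β ^ i = β ^ (i % p) := fun i => by
    conv_lhs => rw [← Nat.div_add_mod i p, pow_add, pow_mul, hb, one_pow, one_mul]
  have hrow : ∀ j ∈ Finset.range p, j ≠ 0 →
      ∏ k ∈ Finset.range p, ((α * β ^ k) ^ j) a = N := by
    intro j hj hj0
    have h1 : ∀ k, ((α * β ^ k) ^ j) a = (α ^ j) ((β ^ (k * j % p)) a) := fun k => by
      rw [(Commute.pow_right hc k).mul_pow, ← pow_mul, hperiod, MulAut.mul_apply]
    rw [Finset.prod_congr rfl (fun k _ => h1 k), ← map_prod]
    have h2 : ∏ k ∈ Finset.range p, (β ^ (k * j % p)) a = N := by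
      have hinj : Set.InjOn (fun k => k * j % p) (Finset.range p : Set ℕ) := by
        intro k hk l hl h
        rw [Finset.coe_range, Set.mem_Iio] at hk hl
        have hcop : Nat.Coprime p j := hp.coprime_iff_not_dvd.2 fun hd =>
          absurd (Nat.le_of_dvd (Nat.pos_of_ne_zero hj0) hd) (not_le.2 (Finset.mem_range.1 hj))
        have := Nat.ModEq.cancel_right_of_coprime hcop (show k * j ≡ l * j [MOD p] from h)
        rwa [Nat.ModEq, Nat.mod_eq_of_lt hk, Nat.mod_eq_of_lt hl] at this
      have himg : (Finset.range p).image (fun k => k * j % p) = Finset.range p :=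
        Finset.eq_of_subset_of_card_le (fun x hx => by
          obtain ⟨k, -, rfl⟩ := Finset.mem_image.1 hx
          exact Finset.mem_range.2 (Nat.mod_lt _ hp.pos)) (by rw [Finset.card_image_of_injOn hinj])
      rw [hNd]
      conv_rhs => rw [← himg, Finset.prod_image hinj]
    rw [h2]
    have hNZ : N ∈ Z := hN a
    have : ∀ i : ℕ, (α ^ i) N = N := by
      intro i
      induction i with
      | zero => rfl
      | succ i ih => rw [pow_succ, MulAut.mul_apply, hZ _ hNZ, ih]
    exact this j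
  have htot : ∏ k ∈ Finset.range p, ∏ j ∈ Finset.range p, ((α * β ^ k) ^ j) a = a ^ p * N ^ (p - 1) := by
    rw [Finset.prod_comm, ← Finset.mul_prod_erase _ _ (Finset.mem_range.2 hp.pos),
      Finset.prod_congr rfl (fun j hj => hrow j (Finset.mem_of_mem_erase hj) (Finset.ne_of_mem_erase hj)),
      Finset.prod_const, Finset.card_erase_of_mem (Finset.mem_range.2 hp.pos), Finset.card_range]
    congr 1
    simp [pow_zero]
  have h3 : a ^ p * N ^ (p - 1) ∈ Z := htot ▸ Z.prod_mem fun k _ => hT k a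
  have := Z.mul_mem h3 (Z.inv_mem (Z.pow_mem (hN a) (p - 1)))
  rwa [mul_inv_cancel_right] at this

theorem conj_pow_formula {G : Type*} [Group G] (A : Subgroup G) [A.Normal] (a : A) (h : G) :
    ∀ j : ℕ, ∀ hc : ∀ x y : A, x * y = y * x, (letI : CommGroup A := { (inferInstance : Group A) with mul_comm := hc };
      ((∏ i ∈ Finset.range j, ((MulAut.conjNormal h : MulAut A) ^ i) a : A) : G)) * h ^ j = ((a : G) * h) ^ j := by
  intro j hc
  letI : CommGroup A := { (inferInstance : Group A) with mul_comm := hc }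
  induction j with
  | zero => simp
  | succ j ih =>
    rw [Finset.prod_range_succ, pow_succ ((a : G) * h), ← ih, ← map_pow]
    show ((_ : A) : G) * (h ^ j * a * (h ^ j)⁻¹) * h ^ (j + 1) = _
    rw [pow_succ]; group


/-- Let P be a finite p-group whose conjugacy class sizes are exactly 1 and pᵃ for some a ≥ 1. Then every element of P has its p-th power in the center of P (P/Z(P) has exponent p). -/
theorem result {P : Type*} [Group P] [Finite P] (p : ℕ) [Fact p.Prime]
    (hP : IsPGroup p P) (a : ℕ) (ha : 1 ≤ a)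
    (hcs : {k : ℕ | ∃ x : P, (Subgroup.centralizer ({x} : Set P)).index = k} = {1, p ^ a}) (x : P) :
    x ^ p ∈ Subgroup.center P := by
  classical
  have hp : p.Prime := Fact.out
  set Z := Subgroup.center P with hZ
  let C : P → Subgroup P := fun y => Subgroup.centralizer ({y} : Set P)
  have memC : ∀ {u y : P}, u ∈ C y ↔ u * y = y * u := Subgroup.mem_centralizer_singleton_iff
  have hidx : ∀ y, y ∉ Z → (C y).index = p ^ a := fun y hy => by
    have : (C y).index ∈ ({1, p ^ a} : Set ℕ) := hcs ▸ ⟨y, rfl⟩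
    refine this.resolve_left fun h => hy ?_
    rw [Subgroup.index_eq_one] at h
    exact Subgroup.mem_center_iff.2 fun u => memC.1 (show u ∈ C y by rw [h]; trivial)
  have hC : ∀ y, ∀ n : ℕ, y ^ n ∉ Z → C (y ^ n) = C y := fun y n hn => by
    have hy : y ∉ Z := fun h => hn (Z.pow_mem h n)
    refine (Subgroup.eq_of_le_of_card_ge (fun u hu => memC.2 (Commute.pow_right (memC.1 hu) n).eq) ?_).symm
    have h1 := Subgroup.card_mul_index (C y)
    rw [← Subgroup.card_mul_index (C (y ^ n)), hidx y hy, hidx _ hn] at h1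
    exact (Nat.eq_of_mul_eq_mul_right (pow_pos hp.pos a) h1).ge
  have hCle : ∀ y u, y ∉ Z → u ∉ Z → C y ≤ C u → C u = C y := fun y u hy hu hle => by
    refine (Subgroup.eq_of_le_of_card_ge hle ?_).symm
    have h1 := Subgroup.card_mul_index (C y)
    rw [← Subgroup.card_mul_index (C u), hidx y hy, hidx u hu] at h1
    exact (Nat.eq_of_mul_eq_mul_right (pow_pos hp.pos a) h1).ge
  by_contra hxp
  have hxZ : x ∉ Z := fun h => hxp (Z.pow_mem h p)
  set A := C x with hAd
  -- every noncentral element of `A` has centralizer `A`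
  have hlow : ∀ y ∈ A, y ∉ Z → y ^ p ∈ Z → C y = A := by
    intro y hy hyZ hyp
    have hc : Commute y x := memC.1 hy
    have h1 : (x * y) ^ p ∉ Z := by
      rw [hc.symm.mul_pow]
      intro h
      exact hxp (by simpa using Z.mul_mem h (Z.inv_mem hyp))
    have h2 : C (x * y) = A := by
      rw [← hC _ _ h1, hAd, ← hC x p hxp, hc.symm.mul_pow]
      ext u
      rw [memC, memC]
      have hyz : u * y ^ p = y ^ p * u := Subgroup.mem_center_iff.1 hyp u
      constructor <;> intro h
      · rw [← mul_assoc, mul_assoc (x ^ p), ← hyz, ← mul_assoc] at h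
        exact mul_right_cancel h
      · rw [← mul_assoc, mul_assoc (x ^ p), ← hyz, ← mul_assoc, h]
    refine hCle x y hxZ hyZ fun u hu => memC.2 ?_
    have e1 : u * (x * y) = x * y * u := memC.1 (h2.symm ▸ hu)
    have e2 : u * x = x * u := memC.1 hu
    calc u * y = x⁻¹ * (u * x * y) := by rw [e2]; group
      _ = x⁻¹ * (u * (x * y)) := by group
      _ = y * u := by rw [e1]; group
  have hall : ∀ y ∈ A, y ∉ Z → C y = A := by
    intro y hy hyZ
    have hex : ∃ k, y ^ p ^ k ∈ Z := by
      obtain ⟨k, hk⟩ := hP y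
      exact ⟨k, hk ▸ Z.one_mem⟩
    obtain ⟨k, hk⟩ : ∃ k, Nat.find hex = k + 1 := by
      refine ⟨Nat.find hex - 1, ?_⟩
      have : Nat.find hex ≠ 0 := fun h => hyZ (by simpa [h] using Nat.find_spec hex)
      omega
    have h1 : y ^ p ^ k ∉ Z := Nat.find_min hex (by omega)
    have h2 : (y ^ p ^ k) ^ p ∈ Z := by
      rw [← pow_mul, ← pow_succ, ← hk]; exact Nat.find_spec hex
    rw [← hC y _ h1]
    exact hlow _ (A.pow_mem hy _) h1 h2
  have hAab : ∀ u ∈ A, ∀ v ∈ A, u * v = v * u := fun u hu v hv => by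
    by_cases hvZ : v ∈ Z
    · exact Subgroup.mem_center_iff.1 hvZ u
    · exact memC.1 ((hall v hv hvZ).symm ▸ hu)
  have hZA : Z ≤ A := fun u hu => memC.2 (Subgroup.mem_center_iff.1 hu x).symm
  -- an element of the second centre
  obtain ⟨z, hzZ, hz2⟩ : ∃ z, z ∉ Z ∧ ∀ u, ⁅u, z⁆ ∈ Z := by
    haveI : Group.IsNilpotent P := hP.isNilpotent
    haveI : Nontrivial (P ⧸ Z) := QuotientGroup.nontrivial_iff.2 fun h => hxZ (h ▸ Subgroup.mem_top x)
    obtain ⟨zb, hzb⟩ := Subgroup.ne_bot_iff_exists_ne_one.1 (show Subgroup.center (P ⧸ Z) ≠ ⊥ from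
      (Subgroup.nontrivial_iff_ne_bot _).1 (hP.to_quotient Z).center_nontrivial)
    obtain ⟨z, hz⟩ := QuotientGroup.mk_surjective (zb : P ⧸ Z)
    refine ⟨z, fun h => hzb (Subtype.ext (by rw [← hz, (QuotientGroup.eq_one_iff z).2 h]; rfl)), fun u => ?_⟩
    rw [← QuotientGroup.eq_one_iff, commutatorElement_def]
    have h1 : (u : P ⧸ Z) * z = z * u := by rw [hz]; exact Subgroup.mem_center_iff.1 zb.2 u
    show ((u : P ⧸ Z) * z) * (u : P ⧸ Z)⁻¹ * (z : P ⧸ Z)⁻¹ = 1
    rw [h1]; group
  have hz' : ∀ u, ⁅z, u⁆ ∈ Z := fun u => by rw [← commutatorElement_inv]; exact Z.inv_mem (hz2 u)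
  have hDn : (C z).Normal := ⟨fun d hd g => by
    rw [memC] at hd ⊢
    have hc : ⁅g⁻¹, z⁆ ∈ Z := hz2 g⁻¹
    have e : g⁻¹ * z * g = ⁅g⁻¹, z⁆ * z := by rw [commutatorElement_def]; group
    have e2 : d * (⁅g⁻¹, z⁆ * z) = ⁅g⁻¹, z⁆ * z * d := by
      rw [← mul_assoc, Subgroup.mem_center_iff.1 hc d, mul_assoc, hd, mul_assoc]
    calc g * d * g⁻¹ * z = g * (d * (g⁻¹ * z * g)) * g⁻¹ := by group
      _ = g * ((g⁻¹ * z * g) * d) * g⁻¹ := by rw [e, e2]
      _ = _ := by group⟩
  have hzp : z ^ p ∈ Z := by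
    by_contra h
    obtain ⟨g, hg, hgp⟩ : ∃ g, g ∉ C z ∧ g ^ p ∈ C z := by
      have hne : C z ≠ ⊤ := fun e => hzZ (Subgroup.mem_center_iff.2 fun u => memC.1 (e ▸ Subgroup.mem_top u))
      haveI := hDn
      haveI : Nontrivial (P ⧸ C z) := QuotientGroup.nontrivial_iff.2 hne
      obtain ⟨n, hn⟩ := IsPGroup.iff_card.1 (hP.to_quotient (C z))
      have hn0 : n ≠ 0 := by
        rintro rfl
        rw [pow_zero] at hn
        exact absurd (Finite.one_lt_card (α := P ⧸ C z)) (by omega)
      obtain ⟨q, hq⟩ := exists_prime_orderOf_dvd_card' (G := P ⧸ C z) p (hn ▸ dvd_pow_self p hn0)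
      obtain ⟨g, rfl⟩ := QuotientGroup.mk_surjective q
      refine ⟨g, fun hg => hp.ne_one (by rw [← hq, (QuotientGroup.eq_one_iff g).2 hg, orderOf_one]), ?_⟩
      rw [← QuotientGroup.eq_one_iff, QuotientGroup.mk_pow, ← hq, pow_orderOf_eq_one]
    apply hg
    rw [← hC z p h, memC, ← commutatorElement_eq_one_iff_mul_comm, CfsgLib.PGroup.comm_pow_right (hz2 g),
      ← CfsgLib.PGroup.comm_pow_left (hz2 g), commutatorElement_eq_one_iff_mul_comm]
    exact memC.1 hgp
  have hexp : ∀ g : P, g ^ p ∈ C z := fun g => memC.2 (by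
    rw [← commutatorElement_eq_one_iff_mul_comm, CfsgLib.PGroup.comm_pow_left (hz2 g),
      ← CfsgLib.PGroup.comm_pow_right (hz2 g), commutatorElement_eq_one_iff_mul_comm]
    exact Subgroup.mem_center_iff.1 hzp g)
  by_cases hzA : z ∈ A
  swap
  · -- `z` outside `A`
    have h1 : x ^ p ∈ C z := hexp x
    have h2 := hall (x ^ p) (A.pow_mem (memC.2 rfl) p) hxp
    exact hzA (h2 ▸ memC.2 (memC.1 h1).symm)
  have hAz : C z = A := hall z hzA hzZ
  haveI hAn : A.Normal := hAz ▸ hDn
  rw [hAz] at hexp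
  have hpow : ∀ g, g ∉ A → g ^ p ∈ Z := fun g hg => by
    by_contra h
    exact hg (by rw [← hall _ (hexp g) h, hC g p h]; exact memC.2 rfl)
  have hxA : x ∈ A := memC.2 rfl
  obtain ⟨g, hg⟩ : ∃ g, g ∉ A := by
    by_contra! h
    exact hzZ (Subgroup.mem_center_iff.2 fun u => memC.1 (hAz.symm ▸ h u : u ∈ C z))
  set B := A ⊔ Subgroup.zpowers g
  by_cases hB : B = ⊤
  · -- index `p`
    have hgZ : g ∉ Z := fun h => hg (hZA h)
    have hgC : C g ⊓ A ≤ Z := fun u hu => by
      by_contra huZ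
      exact hg (hall u hu.2 huZ ▸ memC.2 (memC.1 hu.1).symm)
    have hidxA : A.index = p := by
      have h1 : A.index ∣ p := by
        have hq : Nat.card (P ⧸ A) = orderOf (g : P ⧸ A) := by
          rw [← Nat.card_zpowers]
          have htop : Subgroup.zpowers (g : P ⧸ A) = ⊤ := by
            have := congrArg (Subgroup.map (QuotientGroup.mk' A)) hB
            rwa [Subgroup.map_sup, (Subgroup.map_eq_bot_iff A).2 (QuotientGroup.ker_mk' A).ge, bot_sup_eq, MonoidHom.map_zpowers,
              Subgroup.map_top_of_surjective _ (QuotientGroup.mk'_surjective A)] at this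
          rw [htop, Subgroup.card_top]
        rw [Subgroup.index_eq_card, hq]
        exact orderOf_dvd_of_pow_eq_one ((QuotientGroup.eq_one_iff _).2 (hexp g))
      exact ((Nat.dvd_prime hp).1 h1).resolve_left fun h => hg (Subgroup.index_eq_one.1 h ▸ Subgroup.mem_top g)
    -- so `A` has index `p` over the centre
    have hcard : Nat.card A ≤ p * Nat.card Z := by
      have e : Nat.card (C g) = Nat.card A := by
        have h1 := Subgroup.card_mul_index (C g)
        rw [hidx g hgZ, ← hidx x hxZ, ← hAd, ← Subgroup.card_mul_index A] at h1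
        exact Nat.eq_of_mul_eq_mul_right (Nat.pos_of_ne_zero Subgroup.index_ne_zero_of_finite) h1
      rw [← e, ← Subgroup.card_mul_index (A.subgroupOf (C g)), mul_comm]
      refine Nat.mul_le_mul ?_ ?_
      · show A.relIndex (C g) ≤ p
        exact hidxA ▸ Nat.le_of_dvd (by rw [hidxA]; exact hp.pos) (Subgroup.relIndex_dvd_index_of_normal A (C g))
      · rw [← Subgroup.card_map_of_injective (C g).subtype_injective, Subgroup.subgroupOf_map_subtype, inf_comm]
        exact Subgroup.card_le_of_le hgC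
    apply hxp
    have hn : (Z.subgroupOf A).index ≤ p := by
      have h1 := Subgroup.card_mul_index (Z.subgroupOf A)
      rw [Nat.card_congr (Subgroup.subgroupOfEquivOfLe hZA).toEquiv] at h1
      exact Nat.le_of_mul_le_mul_left (h1.le.trans (hcard.trans_eq (mul_comm _ _))) Nat.card_pos
    obtain ⟨i, hi⟩ : ∃ i, (Z.subgroupOf A).index = p ^ i := (hP.to_subgroup A).index _
    haveI : (Z.subgroupOf A).Normal := by infer_instance
    have hmem := Subgroup.pow_index_mem (Z.subgroupOf A) (⟨x, hxA⟩ : A)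
    rw [hi] at hn hmem
    have : i ≤ 1 := (Nat.pow_le_pow_iff_right hp.one_lt).1 (hn.trans_eq (pow_one p).symm)
    rcases Nat.le_one_iff_eq_zero_or_eq_one.1 this with rfl | rfl
    · exact absurd (show x ∈ Z by simpa [Subgroup.mem_subgroupOf] using hmem) hxZ
    · simpa [Subgroup.mem_subgroupOf] using hmem
  · obtain ⟨h, -, hh⟩ := SetLike.exists_of_lt (lt_top_iff_ne_top.2 hB)
    letI : CommGroup A := { (inferInstance : Group A) with mul_comm := fun u v => Subtype.ext (hAab u u.2 v v.2) }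
    have hc : ∀ u v : A, u * v = v * u := fun u v => mul_comm u v
    let α : MulAut A := MulAut.conjNormal g
    let β : MulAut A := MulAut.conjNormal h
    have hnorm : ∀ w, w ∉ A → ∀ b : A, ((∏ j ∈ Finset.range p, ((MulAut.conjNormal w : MulAut A) ^ j) b : A) : P) ∈ Z := by
      intro w hw b
      have h1 := conj_pow_formula A b w p hc
      have h2 : ((b : P) * w) ^ p ∈ Z := hpow _ fun h => hw (by simpa using A.mul_mem (A.inv_mem b.2) h)
      have h3 := Z.mul_mem h2 (Z.inv_mem (hpow w hw))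
      rwa [← h1, mul_inv_cancel_right] at h3
    refine hxp (norm_trick (Z.subgroupOf A) hp α β ?_ ?_ ?_ ?_ ?_ ⟨x, hxA⟩)
    · rw [← map_pow]
      refine MulEquiv.ext fun u => Subtype.ext ?_
      show h ^ p * u * (h ^ p)⁻¹ = u
      rw [Subgroup.mem_center_iff.1 (hpow h fun e => hh (Subgroup.mem_sup_left e)) (u : P) |>.symm]
      group
    · refine MulEquiv.ext fun u => Subtype.ext ?_
      have hm : h⁻¹ * (g⁻¹ * (h * g)) ∈ A := by
        rw [← hAz, memC]
        have hh' := hz2 h
        have hg' := hz2 g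
        have e : ∀ s : P, s * z * s⁻¹ = ⁅s, z⁆ * z := fun s => by rw [commutatorElement_def]; group
        have e2 : ∀ (c s : P), c ∈ Z → s * (c * z) * s⁻¹ = c * (⁅s, z⁆ * z) := fun c s hc => by
          rw [← e s, ← mul_assoc s c, Subgroup.mem_center_iff.1 hc s]; group
        have e3 : h * g * z * (h * g)⁻¹ = g * h * z * (g * h)⁻¹ := by
          calc h * g * z * (h * g)⁻¹ = h * (g * z * g⁻¹) * h⁻¹ := by group
            _ = ⁅g, z⁆ * (⁅h, z⁆ * z) := by rw [e, e2 _ _ hg']
            _ = ⁅h, z⁆ * (⁅g, z⁆ * z) := by rw [← mul_assoc, Subgroup.mem_center_iff.1 hh', mul_assoc]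
            _ = g * (h * z * h⁻¹) * g⁻¹ := by rw [e h, e2 _ _ hh']
            _ = _ := by group
        calc h⁻¹ * (g⁻¹ * (h * g)) * z = h⁻¹ * g⁻¹ * (h * g * z * (h * g)⁻¹) * (h * g) := by group
          _ = _ := by rw [e3]; group
      show g * (h * u * h⁻¹) * g⁻¹ = h * (g * u * g⁻¹) * h⁻¹
      have := hAab _ hm u u.2
      calc g * (h * u * h⁻¹) * g⁻¹ = (g * h) * (u : P) * (g * h)⁻¹ := by group
        _ = (g * h) * (h⁻¹ * (g⁻¹ * (h * g)) * u * (h⁻¹ * (g⁻¹ * (h * g)))⁻¹) * (g * h)⁻¹ := by rw [this]; group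
        _ = _ := by group
    · intro u hu
      refine Subtype.ext ?_
      show g * u * g⁻¹ = u
      rw [Subgroup.mem_center_iff.1 (show (u : P) ∈ Z from hu) g]; group
    · intro k b
      have e : α * β ^ k = MulAut.conjNormal (g * h ^ k) := by rw [map_mul, map_pow]
      rw [Subgroup.mem_subgroupOf, e]
      refine hnorm _ (fun hmem => ?_) b
      rcases Nat.eq_zero_or_pos (k % p) with hk | hk
      · have hhk : h ^ k ∈ A := by
          rw [← Nat.div_add_mod k p, hk, add_zero, pow_mul]; exact A.pow_mem (hexp h) _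
        exact hg (by simpa using A.mul_mem hmem (A.inv_mem hhk))
      · apply hh
        have h1 : h ^ k ∈ B := by
          have := B.mul_mem (B.inv_mem (Subgroup.mem_sup_right (Subgroup.mem_zpowers g))) (Subgroup.mem_sup_left hmem)
          rwa [inv_mul_cancel_left] at this
        have h2 : h ^ p ∈ B := Subgroup.mem_sup_left (hexp h)
        have hco : Nat.Coprime k p := (hp.coprime_iff_not_dvd.2 fun hd => by
          rw [Nat.dvd_iff_mod_eq_zero] at hd; omega).symm
        obtain ⟨u, v, huv⟩ := (Nat.Coprime.isCoprime hco)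
        rw [show h = (h ^ k) ^ u * (h ^ p) ^ v by
          rw [← zpow_natCast h k, ← zpow_natCast h p, ← zpow_mul, ← zpow_mul, ← zpow_add, mul_comm (k : ℤ), mul_comm (p : ℤ), huv, zpow_one]]
        exact B.mul_mem (B.zpow_mem h1 u) (B.zpow_mem h2 v)
    · intro b
      exact hnorm h (fun e => hh (Subgroup.mem_sup_left e)) b

end Cfsg.Agent.S4365
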