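import Cfsg.Statements.S4370
import Cfsg.Agent.Lib.Solvable.UniqueSubgroup
import Cfsg.Agent.Lib.Transfer.Frobenius
import Cfsg.Agent.Lib.OddLocal.Basic

set_option autoImplicit false
open Cfsg

namespace Cfsg.Agent.S4370

/-- A finite nilpotent group has a normal complement at every prime. -/
theorem hasNormalPComplement_nilpotent {q : ℕ} [Fact q.Prime] {X : Type*} [Group X] [Finite X]
    [Group.IsNilpotent X] : Cfsg.HasNormalPComplement q X := by
  refine CfsgLib.Transfer.hasNormalPComplement_of_frobeniusCond fun Q hQ g _ hco => ?_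
  refine Subgroup.mem_centralizer_iff.2 fun u hu => CfsgLib.OddLocal.commute_of_coprime_orderOf u g ?_
  obtain ⟨j, hj⟩ := hQ ⟨u, hu⟩
  have h1 : u ^ q ^ j = 1 := congrArg Subtype.val hj
  exact Nat.Coprime.coprime_dvd_left (orderOf_dvd_of_pow_eq_one h1) (hco.symm.pow_left j)

/-- A cyclic group has at most one subgroup of a given prime order. -/
theorem cyclic_unique {C : Type*} [Group C] [Finite C] [IsCyclic C] {p : ℕ} (hp : 0 < p) {a b : C}
    (ha : orderOf a = p) (hb : orderOf b = p) : a ∈ Subgroup.zpowers b := by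
  classical
  have := Fintype.ofFinite C
  have h1 : (Finset.univ.filter fun x : C => x ∈ Subgroup.zpowers b) = Finset.univ.filter fun x : C => x ^ p = 1 := by
    refine Finset.eq_of_subset_of_card_le (fun x hx => ?_) ?_
    · simp only [Finset.mem_filter, Finset.mem_univ, true_and] at hx ⊢
      obtain ⟨i, rfl⟩ := hx
      show (b ^ i) ^ p = 1
      rw [← zpow_natCast, ← zpow_mul, mul_comm, zpow_mul, zpow_natCast, ← hb, pow_orderOf_eq_one, one_zpow]
    · refine (IsCyclic.card_pow_eq_one_le hp).trans ?_
      rw [← Nat.subtype_card (p := fun x : C => x ∈ Subgroup.zpowers b) _ (by simp)]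
      exact ((Nat.card_zpowers b).trans hb).ge
  have h2 : a ∈ Finset.univ.filter fun x : C => x ^ p = 1 :=
    Finset.mem_filter.2 ⟨Finset.mem_univ _, ha ▸ pow_orderOf_eq_one a⟩
  rw [← h1] at h2
  exact (Finset.mem_filter.1 h2).2

/-- Centralisers of noncentral elements of a generalised quaternion group are cyclic. -/
theorem centralizer_quaternion {n : ℕ} [NeZero n] (q : QuaternionGroup n)
    (hq : q ∉ Subgroup.center (QuaternionGroup n)) :
    ∃ g, ∀ w, w * q = q * w → w ∈ Subgroup.zpowers g := by
  have key : ∀ i : ZMod (2 * n), QuaternionGroup.a i ∈ Subgroup.zpowers (QuaternionGroup.a 1 : QuaternionGroup n) :=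
    fun i => ⟨(i.val : ℤ), by
      show (QuaternionGroup.a 1 : QuaternionGroup n) ^ ((i.val : ℕ) : ℤ) = _
      rw [zpow_natCast, QuaternionGroup.a_one_pow, ZMod.natCast_zmod_val]⟩
  cases q with
  | a i =>
    have h2 : i + i ≠ 0 := fun h => hq (Subgroup.mem_center_iff.2 fun w => by
      cases w with
      | a j => rw [QuaternionGroup.a_mul_a, QuaternionGroup.a_mul_a, add_comm]
      | xa j =>
        rw [QuaternionGroup.xa_mul_a, QuaternionGroup.a_mul_xa, sub_eq_add_neg, neg_eq_of_add_eq_zero_left h])
    refine ⟨.a 1, fun w hw => ?_⟩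
    cases w with
    | a j => exact key j
    | xa j =>
      rw [QuaternionGroup.xa_mul_a, QuaternionGroup.a_mul_xa, QuaternionGroup.xa.injEq,
        sub_eq_add_neg, add_right_inj] at hw
      exact absurd (eq_neg_iff_add_eq_zero.1 hw) h2
  | xa i =>
    refine ⟨.xa i, fun w hw => ?_⟩
    have hsq : (QuaternionGroup.xa i : QuaternionGroup n) ^ 2 = .a n := QuaternionGroup.xa_sq i
    cases w with
    | a j =>
      rw [QuaternionGroup.xa_mul_a, QuaternionGroup.a_mul_xa, QuaternionGroup.xa.injEq,
        sub_eq_add_neg, add_right_inj] at hw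
      have hjj : j + j = 0 := eq_neg_iff_add_eq_zero.1 hw.symm
      have h3 : j = 0 ∨ j = (n : ZMod (2 * n)) := by
        rw [← ZMod.natCast_zmod_val j] at hjj ⊢
        rw [← Nat.cast_add, ZMod.natCast_eq_zero_iff] at hjj
        have hlt := ZMod.val_lt j
        obtain ⟨t, ht⟩ := hjj
        have ht2 : t < 2 := by
          by_contra h
          have : 2 * n * 2 ≤ 2 * n * t := Nat.mul_le_mul_left _ (not_lt.1 h)
          omega
        interval_cases t
        · exact Or.inl (by rw [show j.val = 0 by omega, Nat.cast_zero])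
        · exact Or.inr (by rw [show j.val = n by omega])
      rcases h3 with rfl | rfl
      · exact QuaternionGroup.a_zero ▸ Subgroup.one_mem _
      · exact hsq ▸ Subgroup.pow_mem _ (Subgroup.mem_zpowers _) 2
    | xa j =>
      rw [QuaternionGroup.xa_mul_xa, QuaternionGroup.xa_mul_xa, QuaternionGroup.a.injEq] at hw
      have hd : (i - j) + (i - j) = 0 := by linear_combination hw
      have h3 : i - j = 0 ∨ i - j = (n : ZMod (2 * n)) := by
        revert hd
        generalize i - j = d
        intro hd
        rw [← ZMod.natCast_zmod_val d] at hd ⊢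
        rw [← Nat.cast_add, ZMod.natCast_eq_zero_iff] at hd
        have hlt := ZMod.val_lt d
        obtain ⟨t, ht⟩ := hd
        have ht2 : t < 2 := by
          by_contra h
          have : 2 * n * 2 ≤ 2 * n * t := Nat.mul_le_mul_left _ (not_lt.1 h)
          omega
        interval_cases t
        · exact Or.inl (by rw [show d.val = 0 by omega, Nat.cast_zero])
        · exact Or.inr (by rw [show d.val = n by omega])
      rcases h3 with h3 | h3
      · rw [← sub_eq_zero.1 h3]; exact Subgroup.mem_zpowers _
      · have h4 : j = i + (n : ZMod (2 * n)) := by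
          have hn2 : (n : ZMod (2 * n)) + n = 0 := by
            rw [← Nat.cast_add, show n + n = 2 * n by ring, ZMod.natCast_self]
          linear_combination -h3 - hn2
        have h5 : (QuaternionGroup.xa i : QuaternionGroup n) ^ 3 = .xa j := by
          rw [pow_succ', hsq, QuaternionGroup.xa_mul_a, h4]
        exact h5 ▸ Subgroup.pow_mem _ (Subgroup.mem_zpowers _) 3


/-- Let G be a finite non-abelian nilpotent group. Then the centralizer of every non-central element of G is cyclic if and only if G is isomorphic to the direct product of a generalized quaternion group and a cyclic group of odd order. -/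
theorem result {G : Type*} [Group G] [Finite G] (hG : Group.IsNilpotent G)
    (hna : ¬ IsMulCommutative G) :
    (∀ x : G, x ∉ Subgroup.center G → IsCyclic (Subgroup.centralizer ({x} : Set G))) ↔
      ∃ (k m : ℕ), 1 ≤ k ∧ Odd m ∧ Nonempty (G ≃* QuaternionGroup (2 ^ k) × Multiplicative (ZMod m)) := by
  have := hG
  constructor
  · intro hcyc
    obtain ⟨e⟩ := (Group.isNilpotent_of_finite_tfae (G := G)).out 0 4 rfl rfl |>.mp hG
    obtain ⟨p, hp, P, hPna⟩ : ∃ (p : ℕ) (_ : Fact p.Prime) (P : Sylow p G), ¬ IsMulCommutative (P : Subgroup G) := by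
      by_contra hcon
      push Not at hcon
      refine hna ⟨⟨fun a b => e.symm.injective ?_⟩⟩
      rw [map_mul, map_mul]
      funext q
      funext P
      have hqp : Fact (q : ℕ).Prime := ⟨Nat.prime_of_mem_primeFactors q.2⟩
      exact (hcon q hqp P).is_comm.comm _ _
    obtain ⟨P', K, hKn, hKP'⟩ := hasNormalPComplement_nilpotent (q := p) (X := G)
    have hPn : ∀ S : Sylow p G, (S : Subgroup G).Normal :=
      fun S => S.normal_of_normalizerCondition Group.normalizerCondition_of_isNilpotent
    have hPP : (P' : Subgroup G) = P := by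
      let _ := Sylow.unique_of_normal P (hPn P)
      rw [Subsingleton.elim P' P]
    rw [hPP] at hKP'
    have := hPn P
    have hcomm : ∀ u ∈ (P : Subgroup G), ∀ k ∈ K, u * k = k * u := fun u hu k hk =>
      Subgroup.commute_of_normal_of_disjoint _ _ (hPn P) hKn hKP'.disjoint.symm u k hu hk
    obtain ⟨x, hxP, hxc⟩ : ∃ x ∈ (P : Subgroup G), x ∉ Subgroup.center G := by
      by_contra hcon
      push Not at hcon
      exact hPna ⟨⟨fun a b => Subtype.ext (Subgroup.mem_center_iff.1 (hcon b b.2) a)⟩⟩
    have hKc : IsCyclic K := by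
      have := hcyc x hxc
      have hle : K ≤ Subgroup.centralizer {x} := fun k hk =>
        Subgroup.mem_centralizer_singleton_iff.2 (hcomm x hxP k hk).symm
      exact isCyclic_of_injective (Subgroup.inclusion hle) (Subgroup.inclusion_injective hle)
    have hKcop : (Nat.card K).Coprime p := CfsgLib.Transfer.coprime_card_of_isComplement' P hKP'
    -- unique subgroup of order `p` in `P`
    have hu : ∀ a b : (P : Subgroup G), orderOf a = p → orderOf b = p → a ∈ Subgroup.zpowers b := by
      have hcen : ∀ a : (P : Subgroup G), orderOf a = p → (a : G) ∈ Subgroup.center G := by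
        intro a ha
        by_contra hac
        have := hcyc _ hac
        have : Nontrivial (P : Subgroup G) := nontrivial_of_ne a 1 (fun e => by
          rw [e, orderOf_one] at ha; exact hp.out.ne_one ha.symm)
        have := P.2.center_nontrivial
        obtain ⟨⟨w, hw⟩, hw1⟩ := exists_ne (1 : Subgroup.center (P : Subgroup G))
        obtain ⟨j, hj⟩ := P.2 w
        have hwc : (w : G) ∈ Subgroup.center G := by
          refine Subgroup.mem_center_iff.2 fun g => ?_
          obtain ⟨k, hk, u, hu, rfl⟩ := Subgroup.mem_sup_of_normal_left.1 (hKP'.sup_eq_top ▸ Subgroup.mem_top g)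
          have h1 : u * (w : G) = w * u := congrArg Subtype.val (Subgroup.mem_center_iff.1 hw ⟨u, hu⟩)
          rw [mul_assoc, h1, ← mul_assoc, ← hcomm w w.2 k hk, mul_assoc]
        -- an element of order `p` in the centre
        obtain ⟨m, -, hm⟩ := (Nat.dvd_prime_pow hp.out).1 (orderOf_dvd_of_pow_eq_one hj)
        cases m with
        | zero => exact hw1 (Subtype.ext (orderOf_eq_one_iff.1 (by rw [hm, pow_zero])))
        | succ m =>
          set z := (w : G) ^ p ^ m with hz
          have hzo : orderOf z = p := by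
            rw [hz, orderOf_pow' _ (pow_ne_zero _ hp.out.ne_zero), Subgroup.orderOf_coe, hm,
              Nat.gcd_eq_right (pow_dvd_pow p (Nat.le_succ m)), pow_succ, Nat.mul_div_cancel_left _ (pow_pos hp.out.pos m)]
          have hzc : z ∈ Subgroup.center G := Subgroup.pow_mem _ hwc _
          let C := Subgroup.centralizer ({(a : G)} : Set G)
          let a' : C := ⟨a, Subgroup.mem_centralizer_singleton_iff.2 rfl⟩
          let z' : C := ⟨z, Subgroup.mem_centralizer_singleton_iff.2 (Subgroup.mem_center_iff.1 hzc a).symm⟩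
          have ha' : orderOf a' = p := by rw [← Subgroup.orderOf_coe a', ← ha, ← Subgroup.orderOf_coe a]
          have hz' : orderOf z' = p := by rw [← Subgroup.orderOf_coe z', ← hzo]
          obtain ⟨i, hi⟩ := cyclic_unique hp.out.pos ha' hz' 
          apply hac
          rw [← show z ^ i = (a : G) from congrArg Subtype.val hi]
          exact Subgroup.zpow_mem _ hzc _
      intro a b ha hb
      let C := Subgroup.centralizer ({x} : Set G)
      have := hcyc x hxc
      let a' : C := ⟨a, Subgroup.mem_centralizer_singleton_iff.2 (Subgroup.mem_center_iff.1 (hcen a ha) x).symm⟩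
      let b' : C := ⟨b, Subgroup.mem_centralizer_singleton_iff.2 (Subgroup.mem_center_iff.1 (hcen b hb) x).symm⟩
      obtain ⟨i, hi⟩ := cyclic_unique hp.out.pos
        (show orderOf a' = p by rw [← Subgroup.orderOf_coe a', ← ha, ← Subgroup.orderOf_coe a])
        (show orderOf b' = p by rw [← Subgroup.orderOf_coe b', ← hb, ← Subgroup.orderOf_coe b])
      exact ⟨i, Subtype.ext (show (b : G) ^ i = (a : G) from congrArg Subtype.val hi)⟩
    rcases CfsgLib.Solvable.isCyclic_or_quaternion P.2 hu with hc | ⟨rfl, k, ⟨eQ⟩⟩
    · exact absurd hc.isMulCommutative hPna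
    have hk : 1 ≤ k := by
      by_contra h
      obtain rfl : k = 0 := by omega
      have := QuaternionGroup.quaternionGroup_one_isCyclic
      exact hPna (isCyclic_of_surjective eQ.symm.toMonoidHom eQ.symm.surjective).isMulCommutative
    refine ⟨k, Nat.card K, hk, Nat.coprime_two_right.1 hKcop, ?_⟩
    have hK : Multiplicative (ZMod (Nat.card K)) ≃* K := zmodCyclicMulEquiv hKc
    let f : ↥(P : Subgroup G) × K →* G :=
      MonoidHom.noncommCoprod (P : Subgroup G).subtype K.subtype fun u k => hcomm u u.2 k k.2
    have hfb : Function.Bijective f := by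
      refine ⟨(injective_iff_map_eq_one f).2 fun v hv => ?_, fun g => ?_⟩
      · have h6 : (v.1 : G) = (v.2 : G)⁻¹ := eq_inv_of_mul_eq_one_left hv
        have h7 : (v.1 : G) = 1 := Subgroup.disjoint_def.1 hKP'.disjoint.symm v.1.2 (h6 ▸ K.inv_mem v.2.2)
        refine Prod.ext (Subtype.ext h7) (Subtype.ext ?_)
        simpa [h7] using h6.symm
      · obtain ⟨k, hk, u, hu, rfl⟩ := Subgroup.mem_sup_of_normal_left.1 (hKP'.sup_eq_top ▸ Subgroup.mem_top g)
        exact ⟨(⟨u, hu⟩, ⟨k, hk⟩), hcomm u hu k hk⟩
    exact ⟨(MulEquiv.ofBijective f hfb).symm.trans (MulEquiv.prodCongr eQ hK.symm)⟩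
  · rintro ⟨k, m, hk, hm, ⟨eG⟩⟩ x hx
    have hm0 : m ≠ 0 := fun e => by subst e; simp at hm
    have : NeZero m := ⟨hm0⟩
    have : NeZero (2 ^ k) := ⟨pow_ne_zero _ two_ne_zero⟩
    set q := (eG x).1 with hq
    have hqc : q ∉ Subgroup.center (QuaternionGroup (2 ^ k)) := fun h => hx (Subgroup.mem_center_iff.2 fun g =>
      eG.injective (by
        rw [map_mul, map_mul]
        exact Prod.ext (Subgroup.mem_center_iff.1 h (eG g).1) (mul_comm _ _)))
    obtain ⟨g, hg⟩ := centralizer_quaternion q hqc
    have hgord : ∀ t : QuaternionGroup (2 ^ k), (orderOf t).Coprime m := fun t => by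
      refine Nat.Coprime.coprime_dvd_left (orderOf_dvd_natCard t) ?_
      rw [Nat.card_eq_fintype_card, QuaternionGroup.card, show 4 * 2 ^ k = 2 ^ (k + 2) by ring]
      exact Nat.Coprime.pow_left _ (Nat.coprime_two_left.2 hm)
    let c := eG.symm (g, Multiplicative.ofAdd 1)
    have hle : Subgroup.centralizer ({x} : Set G) ≤ Subgroup.zpowers c := by
      intro y hy
      have h1 := congrArg eG (Subgroup.mem_centralizer_singleton_iff.1 hy)
      rw [map_mul, map_mul] at h1
      have h2 := hg _ (congrArg Prod.fst h1)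
      rw [← mem_powers_iff_mem_zpowers, Submonoid.mem_powers_iff] at h2
      obtain ⟨i, hi⟩ := h2
      obtain ⟨j, hj1, hj2⟩ := Nat.chineseRemainder (hgord g) i (eG y).2.toAdd.val
      refine ⟨(j : ℤ), eG.injective ?_⟩
      show eG (c ^ (j : ℤ)) = eG y
      rw [zpow_natCast, map_pow, show eG c = (g, Multiplicative.ofAdd 1) from eG.apply_symm_apply _, Prod.pow_mk]
      refine Prod.ext ?_ ?_
      · show g ^ j = _
        rw [← hi, pow_eq_pow_iff_modEq]
        exact hj1
      · show Multiplicative.ofAdd (1 : ZMod m) ^ j = _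
        rw [← ofAdd_nsmul, nsmul_one]
        apply Multiplicative.toAdd.injective
        rw [toAdd_ofAdd, (ZMod.natCast_eq_natCast_iff _ _ _).2 hj2, ZMod.natCast_zmod_val]
    exact isCyclic_of_injective (Subgroup.inclusion hle) (Subgroup.inclusion_injective hle)

end Cfsg.Agent.S4370
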