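import Cfsg.Statements.S4376
import Cfsg.Agent.Lib.Classical.SLBasic

set_option autoImplicit false
open Cfsg

namespace Cfsg.Agent.S4376

open Finset

/-- The number of solutions of `x ^ n = 1`. -/
noncomputable def fc (G : Type*) [Group G] (n : ℕ) : ℕ := Nat.card {x : G // x ^ n = 1}

theorem fc_prod (G H : Type*) [Group G] [Group H] (n : ℕ) : fc (G × H) n = fc G n * fc H n := by
  rw [fc, fc, fc, ← Nat.card_prod]
  exact Nat.card_congr
    { toFun := fun x => (⟨x.1.1, congrArg Prod.fst x.2⟩, ⟨x.1.2, congrArg Prod.snd x.2⟩)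
      invFun := fun y => ⟨(y.1.1, y.2.1), Prod.ext y.1.2 y.2.2⟩
      left_inv := fun _ => rfl
      right_inv := fun _ => rfl }

theorem fc_gcd {G : Type*} [Group G] (h : ∀ x : G, x ^ 84 = 1) (n : ℕ) :
    fc G n = fc G (n.gcd 84) :=
  Nat.card_congr (Equiv.subtypeEquivRight fun x =>
    ⟨fun hx => pow_gcd_eq_one.2 ⟨hx, h x⟩, fun hx => by
      obtain ⟨c, hc⟩ := Nat.gcd_dvd_left n 84
      rw [hc, pow_mul, hx, one_pow]⟩)

/-- A finite group of exponent dividing 84 with prescribed solution counts. -/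
def Real (F : ℕ → ℕ) : Prop :=
  ∃ (W : Type) (_ : Group W) (_ : Finite W), (∀ x : W, x ^ 84 = 1) ∧ ∀ n, fc W n = F n

/-- A finite solvable group of exponent dividing 84 with prescribed solution counts. -/
def RealS (F : ℕ → ℕ) : Prop :=
  ∃ (W : Type) (_ : Group W) (_ : Finite W),
    Group.IsSolvable W ∧ (∀ x : W, x ^ 84 = 1) ∧ ∀ n, fc W n = F n

theorem RealS.real {F : ℕ → ℕ} : RealS F → Real F := fun ⟨W, i, j, _, h2, h3⟩ => ⟨W, i, j, h2, h3⟩

theorem realS_one : RealS fun _ => 1 :=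
  ⟨PUnit, inferInstance, inferInstance, inferInstance, fun _ => rfl, fun n => by
    rw [fc, Nat.card_eq_one_iff_unique]
    exact ⟨⟨fun a b => Subtype.ext rfl⟩, ⟨⟨1, rfl⟩⟩⟩⟩

theorem RealS.mul {F F' : ℕ → ℕ} : RealS F → RealS F' → RealS fun n => F n * F' n := by
  rintro ⟨A, _, _, hA, hA', hA''⟩ ⟨B, _, _, hB, hB', hB''⟩
  exact ⟨A × B, inferInstance, inferInstance, inferInstance,
    fun x => Prod.ext (hA' x.1) (hB' x.2), fun n => by rw [fc_prod, hA'', hB'']⟩

theorem RealS.pow {F : ℕ → ℕ} (h : RealS F) : ∀ e : ℕ, RealS fun n => F n ^ e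
  | 0 => by simpa using realS_one
  | e + 1 => by simpa [pow_succ] using (RealS.pow h e).mul h

/-- The kinds of solvable building blocks. -/
inductive Blk
  | sd (M : ℕ) (L : List (ℕ × ℕ × ℕ))
  | s4
  | aff7

/-- Counting function of a component. -/
def cpF (t : ℕ × ℕ × ℕ) (a n : ℕ) : ℕ :=
  if t.2.2 ∣ a then (if t.1 ∣ n then t.1 ^ t.2.1 else 1) else t.1 ^ t.2.1

/-- Counting function of a block, by direct formula or table on the divisors of 84. -/
def Blk.F : Blk → ℕ → ℕ
  | .sd M L, n => ∑ a ∈ Finset.range M, if M ∣ n * a then (L.map fun t => cpF t a n).prod else 0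
  | .s4, n => 1 + (if 2 ∣ n then 9 else 0) + (if 3 ∣ n then 8 else 0) + (if 4 ∣ n then 6 else 0)
  | .aff7, n => 1 + (if 2 ∣ n then 21 else 0) + (if 3 ∣ n then 98 else 0) +
      (if 7 ∣ n then 48 else 0) + (if 14 ∣ n then 126 else 0)

/-- Admissible parameters. -/
def Blk.Ok : Blk → Prop
  | .sd M L => M ∣ 84 ∧ ∀ t ∈ L, t.1.Prime ∧ t.1 ∣ 84 ∧ t.2.1 ≠ 0 ∧ t.2.2 ∣ M ∧ t.2.2 ∣ t.1 ^ t.2.1 - 1
  | .s4 => True
  | .aff7 => True

instance : DecidablePred Blk.Ok := fun b => by
  cases b <;> (unfold Blk.Ok; infer_instance)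

section Semidirect

variable {M : ℕ} [NeZero M] {ι : Type} [Fintype ι] (F : ι → Type) [∀ i, Field (F i)]
  [∀ i, Finite (F i)] (u : ∀ i, (F i)ˣ) (hu : ∀ i, u i ^ M = 1)

/-- The character through which the cyclic group acts on a component. -/
def chr (i : ι) : Multiplicative (ZMod M) →* (F i)ˣ where
  toFun a := u i ^ a.toAdd.val
  map_one' := by simp
  map_mul' a b := by rw [← pow_add, toAdd_mul, ZMod.val_add, ← pow_eq_pow_mod _ (hu i)]

/-- The componentwise action. -/
def cAct : Multiplicative (ZMod M) →* MulAut (Multiplicative (∀ i, F i)) where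
  toFun a :=
    { toFun := fun v => Multiplicative.ofAdd fun i => (chr F u hu i a : F i) * v.toAdd i
      invFun := fun v => Multiplicative.ofAdd fun i => ((chr F u hu i a)⁻¹ : (F i)ˣ) * v.toAdd i
      left_inv := fun v => by ext i; simp
      right_inv := fun v => by ext i; simp
      map_mul' := fun v w => by ext i; simp [mul_add] }
  map_one' := by ext v i; simp
  map_mul' a b := by ext v i; simp [mul_assoc]

theorem pow_sd (x : Multiplicative (∀ i, F i) ⋊[cAct F u hu] Multiplicative (ZMod M)) (n : ℕ) :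
    (x ^ n).right = x.right ^ n ∧
      ∀ i, (x ^ n).left.toAdd i = (∑ j ∈ range n, (chr F u hu i x.right : F i) ^ j) * x.left.toAdd i := by
  induction n with
  | zero => exact ⟨by simp, fun i => by simp⟩
  | succ n ih =>
    refine ⟨by rw [pow_succ, SemidirectProduct.mul_right, ih.1, pow_succ], fun i => ?_⟩
    rw [pow_succ, SemidirectProduct.mul_left, ih.1, Finset.sum_range_succ, add_mul, ← ih.2 i]
    simp [cAct]

include hu in
theorem exists_sd (p k m : ι → ℕ) [∀ i, CharP (F i) (p i)] (hcard : ∀ i, Nat.card (F i) = p i ^ k i)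
    (hm : ∀ i, orderOf (u i) = m i) (hM : M ∣ 84) (hp : ∀ i, p i ∣ 84) :
    RealS fun n => ∑ a ∈ Finset.range M,
      if M ∣ n * a then ∏ i, cpF (p i, k i, m i) a n else 0 := by
  classical
  let W := Multiplicative (∀ i, F i) ⋊[cAct F u hu] Multiplicative (ZMod M)
  have : Finite W := Finite.of_equiv _ (SemidirectProduct.equivProd (φ := cAct F u hu)).symm
  have hsolv : Group.IsSolvable W :=
    Group.isSolvable_of_ker_le_range (SemidirectProduct.inl : _ →* W) SemidirectProduct.rightHom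
      (SemidirectProduct.range_inl_eq_ker_rightHom (φ := cAct F u hu)).symm.le
  have hcnt : ∀ n, fc W n = ∑ a ∈ Finset.range M,
      if M ∣ n * a then ∏ i, cpF (p i, k i, m i) a n else 0 := by
    intro n
    let S : Multiplicative (ZMod M) → ∀ i, F i := fun a i =>
      ∑ j ∈ range n, (chr F u hu i a : F i) ^ j
    let e : {x : W // x ^ n = 1} ≃
        Σ a : {a : Multiplicative (ZMod M) // a ^ n = 1}, ∀ i, {y : F i // S a.1 i * y = 0} :=
      { toFun := fun x => ⟨⟨x.1.right, by rw [← (pow_sd F u hu x.1 n).1, x.2]; rfl⟩, fun i =>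
          ⟨x.1.left.toAdd i, by rw [← (pow_sd F u hu x.1 n).2 i, x.2]; rfl⟩⟩
        invFun := fun y => ⟨⟨Multiplicative.ofAdd fun i => (y.2 i).1, y.1.1⟩,
          SemidirectProduct.ext (funext fun i => by
              refine ((pow_sd F u hu _ n).2 i).trans ?_
              exact (y.2 i).2)
            ((pow_sd F u hu _ n).1.trans y.1.2)⟩
        left_inv := fun x => rfl
        right_inv := fun y => rfl }
    rw [fc, Nat.card_congr e, Nat.card_sigma]
    simp only [Nat.card_pi]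
    rw [← Finset.sum_subtype (univ.filter fun a : Multiplicative (ZMod M) => a ^ n = 1) (by simp)
      (fun a => ∏ i, Nat.card {y : F i // S a i * y = 0}), Finset.sum_filter]
    refine Finset.sum_bij' (fun a _ => a.toAdd.val) (fun j _ => Multiplicative.ofAdd (j : ZMod M))
      (fun a _ => by simpa using ZMod.val_lt a.toAdd) (fun j _ => by simp)
      (fun a _ => by simp) (fun j hj => by simpa using ZMod.val_cast_of_lt (by simpa using hj)) ?_
    intro a _
    have hiff : a ^ n = 1 ↔ M ∣ n * a.toAdd.val := by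
      rw [← ZMod.natCast_eq_zero_iff, Nat.cast_mul, ZMod.natCast_zmod_val, ← nsmul_eq_mul,
        ← toAdd_pow, toAdd_eq_zero]
    by_cases ha : a ^ n = 1
    swap
    · rw [if_neg ha, if_neg (fun h => ha (hiff.2 h))]
    rw [if_pos ha, if_pos (hiff.1 ha)]
    refine Finset.prod_congr rfl fun i _ => ?_
    have hall : ∀ z : F i, z = 0 → Nat.card {y : F i // z * y = 0} = p i ^ k i := fun z hz => by
      rw [← hcard i]
      exact Nat.card_congr (Equiv.subtypeUnivEquiv fun y => by rw [hz, zero_mul])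
    have hχ : chr F u hu i a = 1 ↔ m i ∣ a.toAdd.val := by
      rw [← hm i, orderOf_dvd_iff_pow_eq_one]; rfl
    simp only [cpF]
    by_cases hd : m i ∣ a.toAdd.val
    · rw [if_pos hd]
      have hS : S a i = (n : F i) := by simp [S, hχ.2 hd]
      by_cases hpn : p i ∣ n
      · rw [if_pos hpn]
        exact hall _ (by rw [hS]; exact (CharP.cast_eq_zero_iff (F i) (p i) n).2 hpn)
      · rw [if_neg hpn, Nat.card_eq_one_iff_unique]
        have h0 : S a i ≠ 0 := by
          rw [hS]; exact fun h => hpn ((CharP.cast_eq_zero_iff (F i) (p i) n).1 h)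
        exact ⟨⟨fun y z => Subtype.ext (((mul_eq_zero.1 y.2).resolve_left h0).trans
          ((mul_eq_zero.1 z.2).resolve_left h0).symm)⟩, ⟨⟨0, mul_zero _⟩⟩⟩
    · rw [if_neg hd]
      refine hall _ ?_
      have hne : (chr F u hu i a : F i) - 1 ≠ 0 := fun h => hd (hχ.1 (Units.ext (sub_eq_zero.1 h)))
      refine (mul_eq_zero.1 ((geom_sum_mul (chr F u hu i a : F i) n).trans ?_)).resolve_right hne
      rw [← Units.val_pow_eq_pow_val, ← map_pow, ha, map_one, Units.val_one, sub_self]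
  refine ⟨W, inferInstance, inferInstance, hsolv, fun x => ?_, hcnt⟩
  obtain ⟨c, hc⟩ := hM
  have hr : x.right ^ 84 = 1 := by
    rw [hc, pow_mul]
    refine (congrArg (· ^ c) ?_).trans (one_pow c)
    apply Multiplicative.toAdd.injective
    simp
  refine SemidirectProduct.ext (funext fun i => ((pow_sd F u hu x 84).2 i).trans ?_)
    ((pow_sd F u hu x 84).1.trans hr)
  by_cases h1 : chr F u hu i x.right = 1
  · rw [h1]
    have h84 : ((84 : ℕ) : F i) = 0 := (CharP.cast_eq_zero_iff (F i) (p i) 84).2 (hp i)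
    simp only [Units.val_one, one_pow, Finset.sum_const, Finset.card_range, nsmul_eq_mul, mul_one,
      h84, zero_mul]
    rfl
  · have hne : (chr F u hu i x.right : F i) - 1 ≠ 0 := fun h => h1 (Units.ext (sub_eq_zero.1 h))
    have h0 := (mul_eq_zero.1 ((geom_sum_mul (chr F u hu i x.right : F i) 84).trans
      (by rw [← Units.val_pow_eq_pow_val, ← map_pow, hr, map_one, Units.val_one, sub_self]))).resolve_right hne
    rw [h0, zero_mul]
    rfl

end Semidirect

theorem realS_sd (M : ℕ) (L : List (ℕ × ℕ × ℕ)) (h : (Blk.sd M L).Ok) :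
    RealS (Blk.sd M L).F := by
  obtain ⟨hM, hL⟩ := h
  have : NeZero M := ⟨fun e => by subst e; simp at hM⟩
  let p : Fin L.length → ℕ := fun i => L[i].1
  let k : Fin L.length → ℕ := fun i => L[i].2.1
  let m : Fin L.length → ℕ := fun i => L[i].2.2
  have hmem : ∀ i : Fin L.length, L[i] ∈ L := fun i => List.getElem_mem _
  have : ∀ i, Fact (p i).Prime := fun i => ⟨(hL _ (hmem i)).1⟩
  let F : Fin L.length → Type := fun i => GaloisField (p i) (k i)
  have hk : ∀ i, k i ≠ 0 := fun i => (hL _ (hmem i)).2.2.1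
  have : ∀ i, Finite (F i) := fun i => Nat.finite_of_card_ne_zero (by
    rw [GaloisField.card _ _ (hk i)]; exact (pow_pos (this i).out.pos _).ne')
  have hex : ∀ i, ∃ v : (F i)ˣ, orderOf v = m i := fun i => by
    obtain ⟨g, hg⟩ := IsCyclic.exists_ofOrder_eq_natCard (α := (F i)ˣ)
    rw [Nat.card_units, GaloisField.card _ _ (hk i)] at hg
    have hd : m i ∣ p i ^ k i - 1 := (hL _ (hmem i)).2.2.2.2
    refine ⟨g ^ ((p i ^ k i - 1) / m i), ?_⟩
    rw [← hg, orderOf_pow_orderOf_div (orderOf_pos g).ne' (hg ▸ hd)]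
  choose u hu using hex
  have hu' : ∀ i, u i ^ M = 1 := fun i =>
    orderOf_dvd_iff_pow_eq_one.1 ((hu i).symm ▸ (hL _ (hmem i)).2.2.2.1)
  have h := exists_sd F u hu' p k m (fun i => GaloisField.card _ _ (hk i)) hu hM
    (fun i => (hL _ (hmem i)).2.1)
  convert h using 2 with n
  simp only [Blk.F]
  refine Finset.sum_congr rfl fun a _ => ?_
  rw [← Fin.prod_univ_fun_getElem L (fun t => cpF t a n)]
  rfl

section Affine

/-- Multiplication on the affine group of a plane by a dihedral group of order 6. -/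
def affMul {q : ℕ} (act : DihedralGroup 3 → ZMod q × ZMod q → ZMod q × ZMod q)
    (x y : (ZMod q × ZMod q) × DihedralGroup 3) : (ZMod q × ZMod q) × DihedralGroup 3 :=
  (x.1 + act x.2 y.1, x.2 * y.2)

/-- Powers for `affMul`. -/
def affPow {q : ℕ} (act : DihedralGroup 3 → ZMod q × ZMod q → ZMod q × ZMod q)
    (x : (ZMod q × ZMod q) × DihedralGroup 3) : ℕ → (ZMod q × ZMod q) × DihedralGroup 3
  | 0 => ((0, 0), 1)
  | n + 1 => affMul act (affPow act x n) x

theorem realS_aff {q : ℕ} [NeZero q] (act : DihedralGroup 3 → ZMod q × ZMod q → ZMod q × ZMod q)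
    (hone : ∀ v, act 1 v = v) (hmul : ∀ g h v, act (g * h) v = act g (act h v))
    (hadd : ∀ g v w, act g (v + w) = act g v + act g w) (F : ℕ → ℕ)
    (hexp : (univ.filter fun x : (ZMod q × ZMod q) × DihedralGroup 3 => affPow act x 84 = ((0, 0), 1)).card
      = q * q * 6)
    (hF : ∀ d ∈ [1, 2, 3, 4, 6, 7, 12, 14, 21, 28, 42, 84],
      (univ.filter fun x : (ZMod q × ZMod q) × DihedralGroup 3 => affPow act x d = ((0, 0), 1)).card = F d)
    (hFg : ∀ n, F n = F (n.gcd 84)) : RealS F := by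
  classical
  let aut : DihedralGroup 3 → MulAut (Multiplicative (ZMod q × ZMod q)) := fun g =>
    { toFun := fun v => Multiplicative.ofAdd (act g v.toAdd)
      invFun := fun v => Multiplicative.ofAdd (act g⁻¹ v.toAdd)
      left_inv := fun v => by simp [← hmul, hone]
      right_inv := fun v => by simp [← hmul, hone]
      map_mul' := fun v w => by simp [hadd] }
  let φ : DihedralGroup 3 →* MulAut (Multiplicative (ZMod q × ZMod q)) :=
    { toFun := aut
      map_one' := MulEquiv.ext fun v => by simp [aut, hone]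
      map_mul' := fun g h => MulEquiv.ext fun v => by simp [aut, hmul] }
  let W := Multiplicative (ZMod q × ZMod q) ⋊[φ] DihedralGroup 3
  let e : W ≃ (ZMod q × ZMod q) × DihedralGroup 3 :=
    { toFun := fun x => (x.left.toAdd, x.right)
      invFun := fun y => ⟨Multiplicative.ofAdd y.1, y.2⟩
      left_inv := fun _ => rfl
      right_inv := fun _ => rfl }
  have : Finite W := Finite.of_equiv _ e.symm
  have hpow : ∀ (x : W) (n : ℕ), e (x ^ n) = affPow act (e x) n := fun x n => by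
    induction n with
    | zero => rfl
    | succ n ih => rw [pow_succ, affPow, ← ih]; rfl
  have hc : ∀ n, fc W n =
      (univ.filter fun x : (ZMod q × ZMod q) × DihedralGroup 3 => affPow act x n = ((0, 0), 1)).card := by
    intro n
    rw [fc, ← Nat.card_eq_finsetCard]
    refine Nat.card_congr (e.subtypeEquiv fun x => ?_)
    simp only [Finset.mem_filter, Finset.mem_univ, true_and]
    rw [← hpow, ← e.injective.eq_iff]
    rfl
  have h84 : ∀ x : W, x ^ 84 = 1 := fun x => by
    have h1 : (univ.filter fun x : (ZMod q × ZMod q) × DihedralGroup 3 =>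
        affPow act x 84 = ((0, 0), 1)) = univ := by
      apply Finset.eq_univ_of_card
      rw [hexp, Fintype.card_prod, Fintype.card_prod, ZMod.card, DihedralGroup.card]
    have h2 := Finset.mem_univ (e x)
    rw [← h1, Finset.mem_filter, ← hpow] at h2
    exact e.injective (h2.2.trans rfl)
  have hD : Group.IsSolvable (DihedralGroup 3) := by
    let ψ : DihedralGroup 3 →* Multiplicative (ZMod 2) :=
      { toFun := fun g => match g with
          | .r _ => Multiplicative.ofAdd 0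
          | .sr _ => Multiplicative.ofAdd 1
        map_one' := rfl
        map_mul' := by decide }
    let j : Multiplicative (ZMod 3) →* DihedralGroup 3 :=
      { toFun := fun a => DihedralGroup.r a.toAdd
        map_one' := rfl
        map_mul' := fun a b => (DihedralGroup.r_mul_r _ _).symm }
    refine Group.isSolvable_of_ker_le_range j ψ fun g hg => ?_
    cases g with
    | r i => exact ⟨Multiplicative.ofAdd i, rfl⟩
    | sr i => exact absurd (MonoidHom.mem_ker.1 hg) (show (Multiplicative.ofAdd (1 : ZMod 2)) ≠ 1 by decide)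
  have hsolv : Group.IsSolvable W :=
    Group.isSolvable_of_ker_le_range (SemidirectProduct.inl : _ →* W) SemidirectProduct.rightHom
      (SemidirectProduct.range_inl_eq_ker_rightHom (φ := φ)).symm.le
  refine ⟨W, inferInstance, inferInstance, hsolv, h84, fun n => ?_⟩
  rw [fc_gcd h84, hFg, hc]
  have hmem : n.gcd 84 ∈ [1, 2, 3, 4, 6, 7, 12, 14, 21, 28, 42, 84] := by
    have : n.gcd 84 ∈ Nat.divisors 84 := Nat.mem_divisors.2 ⟨Nat.gcd_dvd_right _ _, by norm_num⟩
    revert this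
    generalize n.gcd 84 = d
    intro hd
    have hall : ∀ x ∈ Nat.divisors 84, x ∈ [1, 2, 3, 4, 6, 7, 12, 14, 21, 28, 42, 84] := by decide +kernel
    exact hall d hd
  exact hF _ hmem

/-- The action defining the symmetric group of degree 4. -/
def act4 : DihedralGroup 3 → ZMod 2 × ZMod 2 → ZMod 2 × ZMod 2
  | .r i, v => (fun w => (w.2, w.1 + w.2))^[i.val] v
  | .sr i, v => ((fun w => (w.2, w.1 + w.2))^[i.val] v).swap

/-- The monomial action on the plane over the field of order 7. -/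
def act7 : DihedralGroup 3 → ZMod 7 × ZMod 7 → ZMod 7 × ZMod 7
  | .r i, v => (2 ^ i.val * v.1, 4 ^ i.val * v.2)
  | .sr i, v => (4 ^ i.val * v.2, 2 ^ i.val * v.1)

theorem dvd_gcd_84 {d : ℕ} (h : d ∣ 84) (n : ℕ) : d ∣ n ↔ d ∣ n.gcd 84 :=
  ⟨fun hd => Nat.dvd_gcd hd h, fun hd => hd.trans (Nat.gcd_dvd_left _ _)⟩

set_option maxRecDepth 100000 in
theorem realS_s4 : RealS Blk.s4.F := by
  refine realS_aff act4 (by decide +kernel) (by decide +kernel) (by decide +kernel) _
    (by decide +kernel) (by decide +kernel) fun n => ?_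
  simp only [Blk.F, ← dvd_gcd_84 (show 2 ∣ 84 by norm_num) n, ← dvd_gcd_84 (show 3 ∣ 84 by norm_num) n,
    ← dvd_gcd_84 (show 4 ∣ 84 by norm_num) n]

set_option maxRecDepth 100000 in
theorem realS_aff7 : RealS Blk.aff7.F := by
  refine realS_aff act7 (by decide +kernel) (by decide +kernel) (by decide +kernel) _
    (by decide +kernel) (by decide +kernel) fun n => ?_
  simp only [Blk.F, ← dvd_gcd_84 (show 2 ∣ 84 by norm_num) n, ← dvd_gcd_84 (show 3 ∣ 84 by norm_num) n,
    ← dvd_gcd_84 (show 7 ∣ 84 by norm_num) n, ← dvd_gcd_84 (show 14 ∣ 84 by norm_num) n]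

end Affine

theorem realS_blk : ∀ b : Blk, b.Ok → RealS b.F
  | .sd M L, h => realS_sd M L h
  | .s4, _ => realS_s4
  | .aff7, _ => realS_aff7

/-- Counting function of a list of blocks with multiplicities. -/
def listF (l : List (Blk × ℕ)) (n : ℕ) : ℕ := (l.map fun b => b.1.F n ^ b.2).prod

theorem realS_list : ∀ l : List (Blk × ℕ), (∀ b ∈ l, b.1.Ok) → RealS (listF l)
  | [], _ => realS_one
  | b :: l, h => by
    have e : listF (b :: l) = fun n => b.1.F n ^ b.2 * listF l n := funext fun n => by simp [listF]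
    rw [e]
    exact ((realS_blk b.1 (h b (List.mem_cons_self))).pow b.2).mul
      (realS_list l fun c hc => h c (List.mem_cons_of_mem _ hc))

def negList : List (Blk × ℕ) :=
  [(Blk.s4, 2),
   (Blk.sd 21 [(2, 6, 7)], 2),
   (Blk.sd 28 [(2, 3, 7)], 2),
   (Blk.sd 84 [(7, 1, 2), (7, 2, 12)], 2),
   (Blk.aff7, 4),
   (Blk.sd 2 [(3, 2, 2), (7, 1, 2)], 4),
   (Blk.sd 12 [(7, 1, 2), (7, 1, 6)], 4),
   (Blk.sd 7 [], 13),
   (Blk.sd 4 [], 10),
   (Blk.sd 84 [(3, 1, 2), (7, 2, 2)], 2),
   (Blk.sd 6 [(3, 2, 2), (7, 3, 6)], 2),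
   (Blk.sd 12 [(2, 2, 3), (3, 2, 2), (7, 1, 6)], 4),
   (Blk.sd 6 [(7, 1, 2), (7, 1, 6)], 6),
   (Blk.sd 42 [(7, 1, 3)], 8)]

def posList : List (Blk × ℕ) :=
  [(Blk.sd 6 [(2, 4, 3)], 2),
   (Blk.sd 84 [(2, 2, 3), (2, 6, 21)], 2),
   (Blk.sd 2 [(7, 1, 2)], 3),
   (Blk.sd 28 [(7, 1, 2)], 1),
   (Blk.sd 84 [(7, 1, 6), (7, 2, 4)], 2),
   (Blk.sd 3 [(7, 2, 3)], 2),
   (Blk.sd 12 [(7, 2, 12)], 2),
   (Blk.sd 4 [(3, 1, 2), (7, 1, 2)], 2),
   (Blk.sd 2 [(3, 1, 2)], 2),
   (Blk.sd 28 [(7, 2, 2)], 3),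
   (Blk.sd 14 [(3, 2, 2)], 4),
   (Blk.sd 14 [(7, 2, 2)], 3),
   (Blk.sd 2 [], 2),
   (Blk.sd 6 [(3, 2, 2), (7, 1, 2), (7, 1, 3), (7, 2, 6)], 2),
   (Blk.sd 3 [], 2),
   (Blk.sd 42 [(7, 1, 6)], 6),
   (Blk.sd 84 [(7, 1, 6)], 8),
   (Blk.sd 4 [(3, 2, 2)], 4),
   (Blk.sd 42 [(3, 1, 2), (7, 1, 6)], 2)]

section Linear

/-- A matrix of size 3 over the field of order 2, as its list of entries. -/
abbrev T9 := (ZMod 2 × ZMod 2 × ZMod 2) × (ZMod 2 × ZMod 2 × ZMod 2) × (ZMod 2 × ZMod 2 × ZMod 2)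

/-- Row times matrix. -/
def rowMul (r : ZMod 2 × ZMod 2 × ZMod 2) (B : T9) : ZMod 2 × ZMod 2 × ZMod 2 :=
  (r.1 * B.1.1 + r.2.1 * B.2.1.1 + r.2.2 * B.2.2.1,
    r.1 * B.1.2.1 + r.2.1 * B.2.1.2.1 + r.2.2 * B.2.2.2.1,
    r.1 * B.1.2.2 + r.2.1 * B.2.1.2.2 + r.2.2 * B.2.2.2.2)

/-- Powers of an encoded matrix. -/
def powT (A : T9) : ℕ → T9
  | 0 => ((1, 0, 0), (0, 1, 0), (0, 0, 1))
  | n + 1 => (rowMul (powT A n).1 A, rowMul (powT A n).2.1 A, rowMul (powT A n).2.2 A)

/-- Determinant of an encoded matrix. -/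
def detT (A : T9) : ZMod 2 :=
  A.1.1 * A.2.1.2.1 * A.2.2.2.2 - A.1.1 * A.2.1.2.2 * A.2.2.2.1 - A.1.2.1 * A.2.1.1 * A.2.2.2.2
    + A.1.2.1 * A.2.1.2.2 * A.2.2.1 + A.1.2.2 * A.2.1.1 * A.2.2.2.1 - A.1.2.2 * A.2.1.2.1 * A.2.2.1

/-- Encoding. -/
def enc (m : Matrix (Fin 3) (Fin 3) (ZMod 2)) : T9 :=
  ((m 0 0, m 0 1, m 0 2), (m 1 0, m 1 1, m 1 2), (m 2 0, m 2 1, m 2 2))

/-- Decoding. -/
def dcd (A : T9) : Matrix (Fin 3) (Fin 3) (ZMod 2) :=
  !![A.1.1, A.1.2.1, A.1.2.2; A.2.1.1, A.2.1.2.1, A.2.1.2.2; A.2.2.1, A.2.2.2.1, A.2.2.2.2]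

theorem dcd_enc (m : Matrix (Fin 3) (Fin 3) (ZMod 2)) : dcd (enc m) = m := (Matrix.eta_fin_three m).symm

theorem enc_pow (m : Matrix (Fin 3) (Fin 3) (ZMod 2)) (n : ℕ) : enc (m ^ n) = powT (enc m) n := by
  induction n with
  | zero => simp [enc, powT]
  | succ n ih =>
    rw [pow_succ, powT, ← ih]
    simp [enc, rowMul, Matrix.mul_apply, Fin.sum_univ_three]

theorem fc_sl (n : ℕ) : fc (Matrix.SpecialLinearGroup (Fin 3) (ZMod 2)) n =
    (univ.filter fun A : T9 => detT A = 1 ∧ powT A n = ((1, 0, 0), (0, 1, 0), (0, 0, 1))).card := by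
  rw [fc, ← Nat.card_eq_finsetCard]
  refine Nat.card_congr
    { toFun := fun x => ⟨enc x.1.1, ?_⟩
      invFun := fun y => ⟨⟨dcd y.1, ?_⟩, ?_⟩
      left_inv := fun x => Subtype.ext (Subtype.ext (dcd_enc _))
      right_inv := fun y => Subtype.ext rfl }
  · rw [Finset.mem_filter]
    refine ⟨Finset.mem_univ _, ?_, ?_⟩
    · have h := x.1.2
      rw [Matrix.det_fin_three] at h
      exact h
    · rw [← enc_pow, ← Matrix.SpecialLinearGroup.coe_pow, x.2]
      simp [enc]
  · rw [Matrix.det_fin_three]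
    exact (Finset.mem_filter.1 y.2).2.1
  · apply Subtype.ext
    refine (Matrix.SpecialLinearGroup.coe_pow _ n).trans ?_
    have h := (Finset.mem_filter.1 y.2).2.2
    change powT (enc (dcd y.1)) n = _ at h
    rw [← enc_pow] at h
    calc dcd y.1 ^ n = dcd (enc (dcd y.1 ^ n)) := (dcd_enc _).symm
      _ = dcd ((1, 0, 0), (0, 1, 0), (0, 0, 1)) := by rw [h]
      _ = _ := Matrix.one_fin_three.symm

/-- Counting function of the simple group of order 168. -/
def pslF (n : ℕ) : ℕ :=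
  1 + (if 2 ∣ n then 21 else 0) + (if 3 ∣ n then 56 else 0) + (if 4 ∣ n then 42 else 0) +
    (if 7 ∣ n then 48 else 0)

set_option maxRecDepth 100000 in
theorem sl_table : (univ.filter fun A : T9 => detT A = 1).card = 168 ∧
    ∀ d ∈ [1, 2, 3, 4, 6, 7, 12, 14, 21, 28, 42, 84],
      (univ.filter fun A : T9 => detT A = 1 ∧ powT A d = ((1, 0, 0), (0, 1, 0), (0, 0, 1))).card = pslF d := by
  decide +kernel

theorem sl_exp (x : Matrix.SpecialLinearGroup (Fin 3) (ZMod 2)) : x ^ 84 = 1 := by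
  have h := sl_table.2 84 (by simp)
  have hsub : (univ.filter fun A : T9 => detT A = 1 ∧ powT A 84 = ((1, 0, 0), (0, 1, 0), (0, 0, 1))) =
      univ.filter fun A : T9 => detT A = 1 := by
    refine Finset.eq_of_subset_of_card_le (fun A hA => ?_) ?_
    · simp only [Finset.mem_filter] at hA ⊢
      exact ⟨hA.1, hA.2.1⟩
    · rw [h, sl_table.1]; decide
  have hx : detT (enc x.1) = 1 := by
    have h' := x.2
    rw [Matrix.det_fin_three] at h'
    exact h'
  have h2 : enc x.1 ∈ univ.filter fun A : T9 => detT A = 1 := Finset.mem_filter.2 ⟨Finset.mem_univ _, hx⟩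
  rw [← hsub, Finset.mem_filter, ← enc_pow] at h2
  apply Subtype.ext
  rw [Matrix.SpecialLinearGroup.coe_pow]
  calc x.1 ^ 84 = dcd (enc (x.1 ^ 84)) := (dcd_enc _).symm
    _ = dcd ((1, 0, 0), (0, 1, 0), (0, 0, 1)) := by rw [h2.2.2]
    _ = _ := Matrix.one_fin_three.symm

theorem sl_not_solvable : ¬ Group.IsSolvable (Matrix.SpecialLinearGroup (Fin 3) (ZMod 2)) := by
  intro h
  have : Fact (Nat.Prime 2) := ⟨Nat.prime_two⟩
  have : Nontrivial (Matrix.SpecialLinearGroup (Fin 3) (ZMod 2)) := by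
    refine ⟨⟨⟨!![1, 1, 0; 0, 1, 0; 0, 0, 1], by simp [Matrix.det_fin_three]⟩, 1, fun e => ?_⟩⟩
    have := congrFun (congrFun (congrArg Subtype.val e) 0) 1
    simp at this
  exact (Group.IsSolvable.commutator_lt_top_of_nontrivial (Matrix.SpecialLinearGroup (Fin 3) (ZMod 2))).ne
    (CfsgLib.Classical.commutator_SL_eq_top (by simp))

end Linear

theorem gcd_mem (n : ℕ) : n.gcd 84 ∈ [1, 2, 3, 4, 6, 7, 12, 14, 21, 28, 42, 84] := by
  have hall : ∀ x ∈ Nat.divisors 84, x ∈ [1, 2, 3, 4, 6, 7, 12, 14, 21, 28, 42, 84] := by decide +kernel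
  exact hall _ (Nat.mem_divisors.2 ⟨Nat.gcd_dvd_right _ _, by norm_num⟩)

set_option maxRecDepth 100000 in
theorem key_eq : ∀ d ∈ [1, 2, 3, 4, 6, 7, 12, 14, 21, 28, 42, 84],
    pslF d * pslF d * listF posList d = listF negList d := by
  decide +kernel

theorem fc_sum {G : Type*} [Group G] [Finite G] {n : ℕ} (hn : n ≠ 0) :
    fc G n = ∑ d ∈ n.divisors, Nat.card {g : G // orderOf g = d} := by
  classical
  have := Fintype.ofFinite G
  convert (sum_card_orderOf_eq_card_pow_eq_one (G := G) hn).symm using 1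
  · exact Nat.subtype_card _ (by simp)
  · exact Finset.sum_congr rfl fun d _ => Nat.subtype_card _ (by simp)

theorem card_orderOf_eq {G H : Type*} [Group G] [Finite G] [Group H] [Finite H]
    (h : ∀ n, fc G n = fc H n) :
    ∀ n : ℕ, Nat.card {g : G // orderOf g = n} = Nat.card {x : H // orderOf x = n} := by
  intro n
  induction n using Nat.strong_induction_on with
  | _ n ih =>
  rcases Nat.eq_zero_or_pos n with rfl | hn
  · have hG : IsEmpty {g : G // orderOf g = 0} := ⟨fun g => (orderOf_pos g.1).ne' g.2⟩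
    have hH : IsEmpty {g : H // orderOf g = 0} := ⟨fun g => (orderOf_pos g.1).ne' g.2⟩
    rw [Nat.card_of_isEmpty, Nat.card_of_isEmpty]
  have h1 := h n
  rw [fc_sum hn.ne', fc_sum hn.ne',
    ← Nat.insert_self_properDivisors hn.ne',
    Finset.sum_insert Nat.self_notMem_properDivisors,
    Finset.sum_insert Nat.self_notMem_properDivisors,
    Finset.sum_congr rfl fun d hd => ih d (Nat.mem_properDivisors.1 hd).2] at h1
  exact Nat.add_right_cancel h1


/-- There are finite groups G and H having the same number of elements of each order (the same order type) with G solvable and H not solvable. -/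
theorem result :
    ∃ (G : Type) (_ : Group G) (_ : Finite G) (H : Type) (_ : Group H) (_ : Finite H),
      Group.IsSolvable G ∧ ¬ Group.IsSolvable H ∧ ∀ n : ℕ, Nat.card {g : G // orderOf g = n} = Nat.card {h : H // orderOf h = n} := by
  obtain ⟨G, _, _, hGs, hG84, hGF⟩ := realS_list negList (by decide +kernel)
  obtain ⟨P, _, _, hP84, hPF⟩ := (realS_list posList (by decide +kernel)).real
  let S := Matrix.SpecialLinearGroup (Fin 3) (ZMod 2)
  refine ⟨G, inferInstance, inferInstance, (S × S) × P, inferInstance, inferInstance, hGs, ?_, ?_⟩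
  · intro h
    exact sl_not_solvable (Group.isSolvable_of_surjective
      (f := (MonoidHom.fst S S).comp (MonoidHom.fst (S × S) P))
      (fun s => ⟨((s, 1), 1), rfl⟩))
  · refine card_orderOf_eq fun n => ?_
    have hH84 : ∀ x : (S × S) × P, x ^ 84 = 1 := fun x =>
      Prod.ext (Prod.ext (sl_exp x.1.1) (sl_exp x.1.2)) (hP84 x.2)
    rw [fc_gcd hG84, fc_gcd hH84, fc_prod, fc_prod, hGF, hPF, fc_sl, sl_table.2 _ (gcd_mem n)]
    exact (key_eq _ (gcd_mem n)).symm

end Cfsg.Agent.S4376
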