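import Cfsg.Statements.S4377

set_option autoImplicit false
open Cfsg

namespace Cfsg.Agent.S4377

theorem card_pow_eq_one {G : Type*} [Group G] [Finite G] {n : ℕ} (hn : n ≠ 0) :
    Nat.card {g : G // g ^ n = 1} = ∑ d ∈ n.divisors, Nat.card {g : G // orderOf g = d} := by
  classical
  have := Fintype.ofFinite G
  simp only [Nat.card_eq_fintype_card, Fintype.card_subtype]
  exact (sum_card_orderOf_eq_card_pow_eq_one hn).symm


/-- Two finite groups have the same number of elements of each order if and only if, for every n, they have the same number of elements g with gⁿ = 1. -/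
theorem result {G H : Type*} [Group G] [Finite G] [Group H] [Finite H] :
    (∀ n : ℕ, Nat.card {g : G // orderOf g = n} = Nat.card {h : H // orderOf h = n}) ↔
      ∀ n : ℕ, Nat.card {g : G // g ^ n = 1} = Nat.card {h : H // h ^ n = 1} := by
  classical
  constructor
  · intro h n
    rcases eq_or_ne n 0 with rfl | hn
    · simp only [pow_zero]
      have := Fintype.ofFinite G
      have := Fintype.ofFinite H
      have e : ∀ N, N ≠ 0 → Nat.card {g : G // g ^ N = 1} = Nat.card {g : H // g ^ N = 1} := fun N hN => by
        rw [card_pow_eq_one hN, card_pow_eq_one hN]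
        exact Finset.sum_congr rfl fun d _ => h d
      have := e (Nat.card G * Nat.card H) (Nat.mul_ne_zero Nat.card_pos.ne' Nat.card_pos.ne')
      simpa [pow_mul, ← pow_mul', pow_card_eq_one'] using this
    · rw [card_pow_eq_one hn, card_pow_eq_one hn]
      exact Finset.sum_congr rfl fun d _ => h d
  · intro h n
    induction n using Nat.strong_induction_on with
    | _ n ih =>
      rcases eq_or_ne n 0 with rfl | hn
      · have h1 : IsEmpty {g : G // orderOf g = 0} := ⟨fun g => (orderOf_pos g.1).ne' g.2⟩
        have h2 : IsEmpty {g : H // orderOf g = 0} := ⟨fun g => (orderOf_pos g.1).ne' g.2⟩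
        rw [Nat.card_of_isEmpty, Nat.card_of_isEmpty]
      · have hh := h n
        rw [card_pow_eq_one hn, card_pow_eq_one hn, ← Nat.cons_self_properDivisors hn,
          Finset.sum_cons, Finset.sum_cons] at hh
        rw [Finset.sum_congr rfl fun d hd => ih d (Nat.mem_properDivisors.1 hd).2] at hh
        omega

end Cfsg.Agent.S4377
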