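import Cfsg.Statements.S4381
import Cfsg.Agent.Lib.Solvable.CoprimeAction
import Cfsg.Agent.Lib.PGroup.Basic

set_option autoImplicit false
open Pointwise
open Cfsg

namespace Cfsg.Agent.S4381
open Pointwise

theorem exists_invariant_compl {V : Type*} [CommGroup V] [Finite V] {p : ℕ} [hp : Fact p.Prime]
    (hV : ∀ v : V, v ^ p = 1) {A : Type*} [Group A] [Finite A] (φ : A →* MulAut V)
    (hcop : (Nat.card A).Coprime p) (L : Subgroup V) (hL : ∀ a, ∀ x ∈ L, φ a x ∈ L) :
    ∃ T : Subgroup V, (∀ a, ∀ x ∈ T, φ a x ∈ T) ∧ T ⊔ L = ⊤ ∧ T ⊓ L = ⊥ := by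
  classical
  have := Fintype.ofFinite A
  obtain ⟨T0, hT0, hmax⟩ := (Set.toFinite {T : Subgroup V | T ⊓ L = (⊥ : Subgroup V)}).exists_maximal
    ⟨⊥, bot_inf_eq _⟩
  have hsup : ∀ v, ∃ t ∈ T0, ∃ l ∈ L, t * l = v := by
    intro v
    rw [← Subgroup.mem_sup]
    by_contra hv
    have h1 : (T0 ⊔ Subgroup.zpowers v) ⊓ L = ⊥ := by
      rw [Subgroup.eq_bot_iff_forall]
      rintro x ⟨hx, hxL⟩
      obtain ⟨t, ht, w, hw, rfl⟩ := Subgroup.mem_sup.1 hx
      obtain ⟨i, rfl⟩ := Subgroup.mem_zpowers_iff.1 hw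
      have hmem : v ^ i ∈ T0 ⊔ L := by
        have := Subgroup.mul_mem _ (Subgroup.mem_sup_left (T := L) (T0.inv_mem ht)) (Subgroup.mem_sup_right (S := T0) hxL)
        rwa [inv_mul_cancel_left] at this
      have hi : (p : ℤ) ∣ i := by
        by_contra hi
        apply hv
        obtain ⟨u, w, huw⟩ := (Nat.prime_iff_prime_int.1 hp.out).coprime_iff_not_dvd.2 hi
        have : v = (v ^ i) ^ w := by
          conv_lhs => rw [← zpow_one v, ← huw, zpow_add, mul_comm u, zpow_mul, zpow_natCast, hV, one_zpow, one_mul, mul_comm w, zpow_mul]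
        rw [this]
        exact Subgroup.zpow_mem _ hmem w
      obtain ⟨j, rfl⟩ := hi
      rw [zpow_mul, zpow_natCast, hV, one_zpow, mul_one] at hxL ⊢
      exact Subgroup.mem_bot.1 (hT0 ▸ (⟨ht, hxL⟩ : t ∈ T0 ⊓ L))
    exact hv (Subgroup.mem_sup_left (hmax h1 le_sup_left (Subgroup.mem_sup_right (Subgroup.mem_zpowers v))))
  choose t ht l hl htl using hsup
  have huniq : ∀ t' ∈ T0, ∀ l' ∈ L, l (t' * l') = l' := fun t' ht' l' hl' => by
    have h1 := htl (t' * l')
    have h2 : (t (t' * l'))⁻¹ * t' = l (t' * l') * l'⁻¹ := by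
      rw [inv_mul_eq_iff_eq_mul, ← mul_assoc, h1, mul_inv_cancel_right]
    have h3 : l (t' * l') * l'⁻¹ ∈ T0 ⊓ L :=
      ⟨h2 ▸ T0.mul_mem (T0.inv_mem (ht _)) ht', L.mul_mem (hl _) (L.inv_mem hl')⟩
    rw [hT0, Subgroup.mem_bot, mul_inv_eq_one] at h3
    exact h3
  let π : V →* V :=
    { toFun := l
      map_one' := by conv_lhs => rw [← mul_one (1 : V), huniq 1 T0.one_mem 1 L.one_mem]
      map_mul' := fun x y => by
        conv_lhs => rw [← htl x, ← htl y, mul_mul_mul_comm]
        exact huniq _ (T0.mul_mem (ht x) (ht y)) _ (L.mul_mem (hl x) (hl y)) }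
  obtain ⟨m, hm⟩ : ∃ m : ℕ, Nat.card A * m ≡ 1 [MOD p] :=
    ⟨_, Nat.exists_mul_mod_eq_one_of_coprime hcop hp.out.one_lt |>.choose_spec.2.trans (Nat.mod_eq_of_lt hp.out.one_lt).symm⟩
  let σ : V →* V := ∏ a : A, ((φ a).toMonoidHom.comp (π.comp (φ a⁻¹).toMonoidHom))
  let π' : V →* V := (powMonoidHom m).comp σ
  have hπ' : ∀ v, π' v = (∏ a : A, φ a (l (φ a⁻¹ v))) ^ m := fun v => by
    show (σ v) ^ m = _
    rw [show σ v = ∏ a : A, φ a (l (φ a⁻¹ v)) by simp [σ, π, MonoidHom.finset_prod_apply]]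
  have hπL : ∀ v, π' v ∈ L := fun v => by
    rw [hπ']
    exact L.pow_mem (L.prod_mem fun a _ => hL a _ (hl _)) m
  have hπid : ∀ x ∈ L, π' x = x := fun x hx => by
    rw [hπ', Finset.prod_congr rfl (g := fun _ => x) fun a _ => by
      have h1 : l (φ a⁻¹ x) = φ a⁻¹ x := by
        conv_lhs => rw [← one_mul (φ a⁻¹ x), huniq 1 T0.one_mem _ (hL _ x hx)]
      rw [h1, ← MulAut.mul_apply, ← map_mul, mul_inv_cancel, map_one, MulAut.one_apply],
      Finset.prod_const, Finset.card_univ, ← Nat.card_eq_fintype_card, ← pow_mul]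
    rw [← Nat.mod_add_div (Nat.card A * m) p, pow_add, pow_mul, hV, one_pow, mul_one, hm,
      Nat.mod_eq_of_lt hp.out.one_lt, pow_one]
  have hequiv : ∀ b v, π' (φ b v) = φ b (π' v) := fun b v => by
    rw [hπ', hπ', map_pow, map_prod]
    congr 1
    refine Fintype.prod_equiv (Equiv.mulLeft b⁻¹) _ _ fun a => ?_
    show φ a (l (φ a⁻¹ (φ b v))) = φ b (φ (b⁻¹ * a) (l (φ (b⁻¹ * a)⁻¹ v)))
    simp only [← MulAut.mul_apply, ← map_mul]
    rw [mul_inv_cancel_left, mul_inv_rev, inv_inv]
  refine ⟨π'.ker, fun a x hx => ?_, ?_, ?_⟩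
  · rw [MonoidHom.mem_ker] at hx ⊢
    rw [hequiv, hx, map_one]
  · refine eq_top_iff.2 fun v _ => ?_
    rw [show v = (v * (π' v)⁻¹) * π' v by rw [inv_mul_cancel_right]]
    refine Subgroup.mul_mem _ (Subgroup.mem_sup_left ?_) (Subgroup.mem_sup_right (hπL v))
    rw [MonoidHom.mem_ker, map_mul, map_inv, hπid _ (hπL v), mul_inv_cancel]
  · rw [Subgroup.eq_bot_iff_forall]
    rintro x ⟨h1, h2⟩
    rw [← hπid x h2]
    exact h1


/-- Let the finite group A act by automorphisms on the finite group G with the orders of A and G coprime, and assume that A or G is solvable. Call a proper A-invariant subgroup of G maximal A-invariant when no A-invariant subgroup lies strictly between it and G. Then all maximal A-invariant subgroups of G are conjugate under elements of the fixed-point subgroup C_G(A) if and only if G is a p-group for some prime p and A leaves invariant no subgroup strictly between the Frattini subgroup of G and G. In that case, if G is nontrivial, the Frattini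 subgroup is the only maximal A-invariant subgroup (a trivial G has none). -/
theorem result {A G : Type*} [Group A] [Finite A]
    [Group G] [Finite G] [MulDistribMulAction A G] (hcop : (Nat.card A).Coprime (Nat.card G)) (hsol : Group.IsSolvable A ∨ Group.IsSolvable G) :
    ((∀ M N : Subgroup G, (M ≠ ⊤ ∧ (∀ a : A, ∀ x ∈ M, a • x ∈ M) ∧ ∀ L : Subgroup G, M < L → (∀ a : A, ∀ x ∈ L, a • x ∈ L) → L = ⊤) → (N ≠ ⊤ ∧ (∀ a : A, ∀ x ∈ N, a • x ∈ N) ∧ ∀ L : Subgroup G, N < L → (∀ a : A, ∀ x ∈ L, a • x ∈ L) → L = ⊤) →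
        ∃ c : G, (∀ a : A, a • c = c) ∧ N = MulAut.conj c • M) ↔
      ((∃ p : ℕ, p.Prime ∧ IsPGroup p G) ∧ ∀ L : Subgroup G, frattini G < L → (∀ a : A, ∀ x ∈ L, a • x ∈ L) → L = ⊤)) ∧
    (((∃ p : ℕ, p.Prime ∧ IsPGroup p G) ∧ ∀ L : Subgroup G, frattini G < L → (∀ a : A, ∀ x ∈ L, a • x ∈ L) → L = ⊤) →
      ∀ M : Subgroup G, (M ≠ ⊤ ∧ (∀ a : A, ∀ x ∈ M, a • x ∈ M) ∧ ∀ L : Subgroup G, M < L → (∀ a : A, ∀ x ∈ L, a • x ∈ L) → L = ⊤) ↔ (M = frattini G ∧ M ≠ ⊤)) := by
  classical
  have hex : ∀ L : Subgroup G, L ≠ ⊤ → (∀ a : A, ∀ x ∈ L, a • x ∈ L) → ∃ M : Subgroup G, L ≤ M ∧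
      (M ≠ ⊤ ∧ (∀ a : A, ∀ x ∈ M, a • x ∈ M) ∧ ∀ K : Subgroup G, M < K → (∀ a : A, ∀ x ∈ K, a • x ∈ K) → K = ⊤) := by
    intro L hL hLi
    obtain ⟨M, ⟨hLM, hMt, hMi⟩, hmax⟩ := (Set.toFinite {M : Subgroup G | L ≤ M ∧ M ≠ ⊤ ∧
      ∀ a : A, ∀ x ∈ M, a • x ∈ M}).exists_maximal ⟨L, le_rfl, hL, hLi⟩
    refine ⟨M, hLM, hMt, hMi, fun K hK hKi => ?_⟩
    by_contra hKt
    exact hK.not_ge (hmax ⟨hLM.trans hK.le, hKt, hKi⟩ hK.le)
  have hcharinv : ∀ (C : Subgroup G) [C.Characteristic] (a : A), ∀ x ∈ C, a • x ∈ C := by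
    intro C hC a x hx
    have := Subgroup.characteristic_iff_comap_eq.1 hC (MulDistribMulAction.toMulEquiv G a)
    exact (SetLike.ext_iff.1 this x).2 hx
  have hback : ((∃ p : ℕ, p.Prime ∧ IsPGroup p G) ∧ ∀ L : Subgroup G, frattini G < L → (∀ a : A, ∀ x ∈ L, a • x ∈ L) → L = ⊤) →
      ∀ M : Subgroup G, (M ≠ ⊤ ∧ (∀ a : A, ∀ x ∈ M, a • x ∈ M) ∧ ∀ L : Subgroup G, M < L → (∀ a : A, ∀ x ∈ L, a • x ∈ L) → L = ⊤) ↔ (M = frattini G ∧ M ≠ ⊤) := by
    rintro ⟨-, hL⟩ M
    constructor
    · rintro ⟨hMt, hMi, hMmax⟩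
      have hinv : ∀ a : A, ∀ x ∈ M ⊔ frattini G, a • x ∈ M ⊔ frattini G := by
        intro a x hx
        have hle : M ⊔ frattini G ≤ (M ⊔ frattini G).comap (MulDistribMulAction.toMonoidHom G a) :=
          sup_le (fun y hy => Subgroup.mem_sup_left (hMi a y hy))
            (fun y hy => Subgroup.mem_sup_right (hcharinv _ a y hy))
        exact hle hx
      have hΦM : frattini G ≤ M := by
        by_contra hne
        exact hMt (frattini_nongenerating (hMmax _ (left_lt_sup.2 hne) hinv))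
      refine ⟨?_, hMt⟩
      by_contra hne
      exact hMt (hL M (lt_of_le_of_ne hΦM (Ne.symm hne)) hMi)
    · rintro ⟨rfl, hMt⟩
      exact ⟨hMt, fun a => hcharinv _ a, hL⟩
  refine ⟨⟨fun hconj => ?_, fun h M N hM hN => ⟨1, fun a => smul_one a, ?_⟩⟩, hback⟩
  swap
  · rw [((hback h M).1 hM).1, ((hback h N).1 hN).1, map_one, one_smul]
  rcases subsingleton_or_nontrivial G with hsub | hnt
  · exact ⟨⟨2, Nat.prime_two, fun g => ⟨0, Subsingleton.elim _ _⟩⟩, fun L _ _ => Subsingleton.elim _ _⟩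
  obtain ⟨p, hp, hpd⟩ := Nat.exists_prime_and_dvd (n := Nat.card G) (ne_of_gt Finite.one_lt_card)
  haveI : Fact p.Prime := ⟨hp⟩
  have hpG : IsPGroup p G := by
    by_contra hnp
    obtain ⟨M, -, hM⟩ := hex ⊥ bot_ne_top (fun a x hx => by rw [Subgroup.mem_bot] at hx ⊢; rw [hx, smul_one])
    refine hM.1 (Subgroup.eq_top_of_card_eq M (Nat.dvd_antisymm (Subgroup.card_subgroup_dvd_card M) ?_))
    · rw [← Nat.factorization_le_iff_dvd Nat.card_pos.ne' Nat.card_pos.ne']
      intro q
      by_cases hqq : q.Prime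
      swap
      · simp [Nat.factorization_eq_zero_of_not_prime _ hqq]
      haveI : Fact q.Prime := ⟨hqq⟩
      let φ : A →* MulAut G := MulDistribMulAction.toMulAut A G
      let W := G ⋊[φ] A
      haveI : Finite W := Finite.of_equiv _ (SemidirectProduct.equivProd (φ := φ)).symm
      let GK : Subgroup W := (SemidirectProduct.inl : G →* W).range
      let AK : Subgroup W := (SemidirectProduct.inr : A →* W).range
      have hcardG : Nat.card GK = Nat.card G := (Nat.card_congr (MonoidHom.ofInjective SemidirectProduct.inl_injective).toEquiv).symm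
      have hcardA : Nat.card AK = Nat.card A := (Nat.card_congr (MonoidHom.ofInjective SemidirectProduct.inr_injective).toEquiv).symm
      have hGn : GK.Normal := by
        rw [show GK = SemidirectProduct.rightHom.ker from SemidirectProduct.range_inl_eq_ker_rightHom]
        infer_instance
      obtain ⟨P, hP⟩ := CfsgLib.Solvable.exists_invariant_sylow AK GK (Subgroup.le_normalizer_of_normal)
        (by rw [hcardA, hcardG]; exact hcop)
        (hsol.imp (fun h => by
            haveI := h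
            exact Group.isSolvable_of_surjective (MonoidHom.ofInjective (SemidirectProduct.inr_injective (φ := φ))).surjective)
          (fun h => by
            haveI := h
            exact Group.isSolvable_of_surjective (MonoidHom.ofInjective (SemidirectProduct.inl_injective (φ := φ))).surjective)) q
      let P' : Subgroup G := ((P : Subgroup GK).map GK.subtype).comap (SemidirectProduct.inl : G →* W)
      have hP'card : Nat.card P' = Nat.card (P : Subgroup GK) := by
        rw [← Subgroup.card_map_of_injective (f := (SemidirectProduct.inl : G →* W)) SemidirectProduct.inl_injective,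
          Subgroup.map_comap_eq_self (Subgroup.map_subtype_le _), Subgroup.card_map_of_injective GK.subtype_injective]
      have hP'inv : ∀ a : A, ∀ x ∈ P', a • x ∈ P' := by
        intro a x hx
        show (SemidirectProduct.inl (φ a x) : W) ∈ (P : Subgroup GK).map GK.subtype
        rw [SemidirectProduct.inl_aut, map_inv]
        exact (Subgroup.mem_normalizer_iff.1 (hP ⟨a, rfl⟩) _).1 hx
      have hP't : P' ≠ ⊤ := fun h => hnp (by
        have h1 : IsPGroup q G := by
          refine IsPGroup.of_card (n := (Nat.card GK).factorization q) ?_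
          rw [← Subgroup.card_top (G := G), ← h, hP'card, P.card_eq_multiplicity]
        obtain ⟨n, hn⟩ := IsPGroup.iff_card.1 h1
        rw [hn] at hpd
        rwa [(Nat.prime_dvd_prime_iff_eq hp hqq).1 (hp.dvd_of_dvd_pow hpd)])
      obtain ⟨M', hPM', hM'⟩ := hex P' hP't hP'inv
      obtain ⟨c, -, hc⟩ := hconj M' M hM' hM
      have hcard : Nat.card M = Nat.card M' := by
        rw [hc]; exact Subgroup.card_map_of_injective (MulAut.conj c).injective
      have hd : q ^ (Nat.card G).factorization q ∣ Nat.card M := by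
        rw [hcard, ← hcardG, ← P.card_eq_multiplicity, ← hP'card]
        exact Subgroup.card_dvd_of_le hPM'
      exact (hqq.pow_dvd_iff_le_factorization Nat.card_pos.ne').1 hd
  refine ⟨⟨p, hp, hpG⟩, fun L hL hLi => ?_⟩
  by_contra hLt
  let φ : A →* MulAut (G ⧸ frattini G) :=
    { toFun := fun a => QuotientGroup.congr (frattini G) (frattini G) (MulDistribMulAction.toMulEquiv G a)
        (Subgroup.characteristic_iff_map_eq.1 inferInstance _)
      map_one' := by
        ext x
        induction x using QuotientGroup.induction_on with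
        | H x => exact congrArg QuotientGroup.mk (one_smul A x)
      map_mul' := fun a b => by
        ext x
        induction x using QuotientGroup.induction_on with
        | H x => exact congrArg QuotientGroup.mk (mul_smul a b x) }
  letI : CommGroup (G ⧸ frattini G) :=
    { QuotientGroup.Quotient.group (frattini G) with
      mul_comm := by
        intro u v
        induction u using QuotientGroup.induction_on with
        | H u =>
          induction v using QuotientGroup.induction_on with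
          | H v =>
            rw [← commutatorElement_eq_one_iff_mul_comm, ← QuotientGroup.mk'_apply, ← QuotientGroup.mk'_apply, ← map_commutatorElement]
            exact (QuotientGroup.eq_one_iff _).2 (CfsgLib.PGroup.commutator_le_frattini hpG
              (Subgroup.commutator_mem_commutator (Subgroup.mem_top u) (Subgroup.mem_top v))) }
  obtain ⟨T, hTinv, hTL, hTbot⟩ := exists_invariant_compl (p := p) (CfsgLib.PGroup.quotient_frattini_pow hpG) φ
    (by
      refine hcop.coprime_dvd_right ?_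
      exact hpd)
    (L.map (QuotientGroup.mk' (frattini G))) (by rintro a _ ⟨x, hx, rfl⟩; exact ⟨a • x, hLi a x hx, rfl⟩)
  set T' := T.comap (QuotientGroup.mk' (frattini G)) with hT'
  have hker : frattini G ≤ T' := fun x hx => by
    rw [hT', Subgroup.mem_comap, show QuotientGroup.mk' (frattini G) x = 1 from (QuotientGroup.eq_one_iff x).2 hx]
    exact T.one_mem
  have hT't : T' ≠ ⊤ := fun h => by
    have hTt : T = ⊤ := Subgroup.comap_injective (QuotientGroup.mk'_surjective _) (h.trans (Subgroup.comap_top _).symm)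
    obtain ⟨x, hxL, hxΦ⟩ := SetLike.exists_of_lt hL
    refine hxΦ ((QuotientGroup.eq_one_iff x).1 (Subgroup.mem_bot.1 (hTbot ▸ ?_)))
    exact ⟨hTt ▸ Subgroup.mem_top _, x, hxL, rfl⟩
  obtain ⟨M₁, hTM, hM₁⟩ := hex T' hT't (fun a x hx => hTinv a _ hx)
  obtain ⟨M₂, hLM, hM₂⟩ := hex L hLt hLi
  obtain ⟨c, -, hc⟩ := hconj M₂ M₁ hM₂ hM₁
  have hn : M₂.Normal := by
    refine ⟨fun x hx g => ?_⟩
    have h1 : g * x * g⁻¹ * x⁻¹ ∈ M₂ := hLM (hL.le (CfsgLib.PGroup.commutator_le_frattini hpG
      (Subgroup.commutator_mem_commutator (Subgroup.mem_top g) (Subgroup.mem_top x))))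
    have := M₂.mul_mem h1 hx
    rwa [inv_mul_cancel_right] at this
  have he : M₁ = M₂ := by rw [hc]; exact Subgroup.Normal.conjAct hn c
  refine hM₂.1 (eq_top_iff.2 fun x _ => ?_)
  have hx : QuotientGroup.mk' (frattini G) x ∈ T ⊔ L.map (QuotientGroup.mk' (frattini G)) := hTL ▸ Subgroup.mem_top _
  obtain ⟨y, hy, _, ⟨z, hz, rfl⟩, hyz⟩ := Subgroup.mem_sup.1 hx
  have hxz : x * z⁻¹ ∈ T' := by
    rw [hT', Subgroup.mem_comap, map_mul, map_inv, ← hyz, mul_inv_cancel_right]
    exact hy
  have := M₂.mul_mem (he ▸ hTM hxz) (hLM hz)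
  rwa [inv_mul_cancel_right] at this

end Cfsg.Agent.S4381
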