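import Cfsg.Statements.S4387

set_option autoImplicit false
open Pointwise
open Cfsg

namespace Cfsg.Agent.S4387

/-- Let G be a non-trivial finite group in which any two maximal subgroups are conjugate. Then G is cyclic of prime-power order. -/
theorem result {G : Type*} [Group G] [Finite G] [Nontrivial G]
    (h : ∀ M N : Subgroup G, IsCoatom M → IsCoatom N → ∃ g : G, N = MulAut.conj g • M) :
    IsCyclic G ∧ IsPrimePow (Nat.card G) := by
  obtain ⟨M, hM, -⟩ := (IsCoatomic.eq_top_or_exists_le_coatom (⊥ : Subgroup G)).resolve_left bot_ne_top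
  -- the conjugates of a proper subgroup do not cover the group
  obtain ⟨x, hx⟩ : ∃ x : G, ∀ g : G, x ∉ MulAut.conj g • M := by
    by_contra hcov
    push Not at hcov
    classical
    have := Fintype.ofFinite G
    have hmem : ∀ (g y : G), y ∈ MulAut.conj g • M → ∃ (q : G ⧸ M) (m : M), y = q.out * m * q.out⁻¹ := by
      intro g y hy
      rw [Subgroup.mem_pointwise_smul_iff_inv_smul_mem, MulAut.smul_def, MulAut.conj_inv_apply] at hy
      obtain ⟨m, hm⟩ := QuotientGroup.mk_out_eq_mul M g
      refine ⟨QuotientGroup.mk g, ⟨(m : G)⁻¹ * (g⁻¹ * y * g) * m, mul_mem (mul_mem (inv_mem m.2) hy) m.2⟩, ?_⟩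
      rw [hm]
      group
    let S := {m : M // m ≠ 1}
    let F : Option ((G ⧸ M) × S) → G := fun o => o.elim 1 (fun p => p.1.out * p.2.1 * p.1.out⁻¹)
    have hsurj : Function.Surjective F := by
      intro y
      obtain ⟨g, hg⟩ := hcov y
      obtain ⟨q, m, rfl⟩ := hmem g y hg
      rcases eq_or_ne m 1 with rfl | hm
      · exact ⟨none, by simp [F]⟩
      · exact ⟨some (q, ⟨m, hm⟩), rfl⟩
    have hle := Fintype.card_le_of_surjective F hsurj
    simp only [Fintype.card_option, Fintype.card_prod, S, Fintype.card_subtype_compl, Fintype.card_subtype_eq] at hle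
    simp only [← Nat.card_eq_fintype_card] at hle
    have he := M.card_mul_index
    rw [Subgroup.index] at he
    have h1 : 1 < Nat.card (G ⧸ M) := by
      rw [← Subgroup.index]
      exact Subgroup.one_lt_index_of_ne_top hM.1
    have h2 : 0 < Nat.card M := Nat.card_pos
    obtain ⟨k, hk⟩ := Nat.exists_eq_add_of_le h2
    rw [hk, show 0 + 1 + k = k + 1 by ring] at he hle
    simp only [Nat.add_sub_cancel] at hle
    rw [add_mul, one_mul] at he
    rw [mul_comm] at hle
    omega
  have htop : Subgroup.zpowers x = ⊤ := by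
    by_contra hne
    obtain ⟨N, hN, hle⟩ := (IsCoatomic.eq_top_or_exists_le_coatom (Subgroup.zpowers x)).resolve_left hne
    obtain ⟨g, rfl⟩ := h M N hM hN
    exact hx g (hle (Subgroup.mem_zpowers x))
  have hcyc : IsCyclic G := ⟨⟨x, fun y => Subgroup.mem_zpowers_iff.1 (htop.ge (Subgroup.mem_top y))⟩⟩
  refine ⟨hcyc, ?_⟩
  have hcomm : IsMulCommutative G := hcyc.isMulCommutative
  have huniq : ∀ N : Subgroup G, IsCoatom N → N = M := by
    intro N hN
    obtain ⟨g, rfl⟩ := h M N hM hN
    ext y
    rw [Subgroup.mem_pointwise_smul_iff_inv_smul_mem, MulAut.smul_def, MulAut.conj_inv_apply,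
      hcomm.is_comm.comm g⁻¹ y, mul_assoc, inv_mul_cancel, mul_one]
  have hne : Nat.card G ≠ 1 := (Finite.one_lt_card (α := G)).ne'
  obtain ⟨q, hq, hqd⟩ := Nat.exists_prime_and_dvd hne
  rw [isPrimePow_iff_unique_prime_dvd]
  refine ⟨q, ⟨hq, hqd⟩, fun r ⟨hr, hrd⟩ => ?_⟩
  have key : ∀ s : ℕ, s.Prime → s ∣ Nat.card G → M.index = s := by
    intro s hs hsd
    have hox : orderOf x = Nat.card G := by rw [← Nat.card_zpowers, htop, Subgroup.card_top]
    have hcard : Nat.card (Subgroup.zpowers (x ^ s)) = Nat.card G / s := by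
      rw [Nat.card_zpowers, orderOf_pow_of_dvd hs.ne_zero (hox ▸ hsd), hox]
    have hidx : (Subgroup.zpowers (x ^ s)).index = s := by
      have e := (Subgroup.zpowers (x ^ s)).card_mul_index
      rw [hcard] at e
      have hpos : 0 < Nat.card G / s := Nat.div_pos (Nat.le_of_dvd Nat.card_pos hsd) hs.pos
      exact Nat.eq_of_mul_eq_mul_left hpos (e.trans (Nat.div_mul_cancel hsd).symm)
    have hne : Subgroup.zpowers (x ^ s) ≠ ⊤ := by
      intro e
      rw [e, Subgroup.index_top] at hidx
      exact hs.one_lt.ne hidx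
    obtain ⟨N, hN, hle⟩ := (IsCoatomic.eq_top_or_exists_le_coatom (Subgroup.zpowers (x ^ s))).resolve_left hne
    have hd := Subgroup.index_dvd_of_le hle
    rw [hidx, huniq N hN] at hd
    exact (hs.eq_one_or_self_of_dvd _ hd).resolve_left (fun e => hM.1 (Subgroup.index_eq_one.1 e))
  exact (key r hr hrd).symm.trans (key q hq hqd)

end Cfsg.Agent.S4387
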