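import Cfsg.Statements.S4395
import Cfsg.Agent.Lib.Solvable.UniversalNonPNilp.Model
import Cfsg.Agent.Lib.Solvable.UniversalNonPNilp.Recognise

set_option autoImplicit false
universe u
open Cfsg

namespace Cfsg.Agent.S4395

noncomputable section

theorem adjoin_eq_top {p q a : ℕ} [Fact p.Prime] [hq : Fact q.Prime] (ha : a = orderOf (p : ZMod q))
    {K : Type} [Field K] [Algebra (ZMod p) K] [Finite K] (hK : Nat.card K = p ^ a) {μ : K}
    (hμ : IsPrimitiveRoot μ q) : Algebra.adjoin (ZMod p) {μ} = ⊤ := by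
  classical
  set S := Algebra.adjoin (ZMod p) {μ} with hS
  haveI : IsDomain S := inferInstance
  letI : Field S := (Finite.isDomain_to_isField S).toField
  haveI : Fintype S := Fintype.ofFinite S
  set e := Module.finrank (ZMod p) S with he
  have hcard : Fintype.card S = p ^ e := by
    rw [Module.card_eq_pow_finrank (K := ZMod p) (V := S), ZMod.card]
  have hfix : μ ^ p ^ e = μ := by
    have h := congrArg Subtype.val
      (FiniteField.pow_card (⟨μ, Algebra.self_mem_adjoin_singleton (ZMod p) μ⟩ : S))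
    rw [hcard] at h
    exact h
  have hdvd : q ∣ p ^ e - 1 := by
    refine (hμ.pow_eq_one_iff_dvd _).1 ?_
    have hμ0 : μ ≠ 0 := hμ.ne_zero hq.out.ne_zero
    refine mul_left_cancel₀ hμ0 ?_
    rw [mul_one, ← pow_succ', Nat.sub_add_cancel (Nat.one_le_pow _ _ (Fact.out : p.Prime).pos), hfix]
  have hae : a ∣ e := by
    rw [ha]
    refine orderOf_dvd_of_pow_eq_one ?_
    have h := (CharP.cast_eq_zero_iff (ZMod q) q _).2 hdvd
    rw [Nat.cast_sub (Nat.one_le_pow _ _ (Fact.out : p.Prime).pos), sub_eq_zero, Nat.cast_pow, Nat.cast_one] at h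
    exact h
  have hge : Nat.card K ≤ Nat.card S := by
    rw [hK, Nat.card_eq_fintype_card (α := S), hcard]
    refine Nat.pow_le_pow_right (Fact.out : p.Prime).pos (Nat.le_of_dvd ?_ hae)
    exact Module.finrank_pos
  refine eq_top_iff.2 fun x _ => ?_
  obtain ⟨s, rfl⟩ := ((Nat.bijective_iff_injective_and_card (Subtype.val : S → K)).2
    ⟨Subtype.val_injective, le_antisymm (Finite.card_subtype_le _) hge⟩).2 x
  exact s.2

/-- `i ↦ y ^ i` on the integers modulo `n`. -/
def cycHom {X : Type*} [Group X] (y : X) (n : ℕ) [NeZero n] (hy : y ^ n = 1) : Multiplicative (ZMod n) →* X where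
  toFun x := y ^ x.toAdd.val
  map_one' := by simp
  map_mul' a b := by
    rw [toAdd_mul, ZMod.val_add, ← pow_eq_pow_mod _ hy, pow_add]

/-- Let p ≠ q be primes, r ≥ 1, a the multiplicative order of p modulo q, and a₀ = a when a is odd, a₀ = 3a/2 when a is even. Call a finite group minimal non-p-nilpotent when it has no normal p-complement but every proper subgroup has one. Then there is a minimal non-p-nilpotent group G₀ of order p^a₀ · q^r such that every minimal non-p-nilpotent group of order p^t · q^r (any t) is a quotient of G₀ by a central subgroup. -/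
theorem result (p q r : ℕ) [Fact p.Prime] [Fact q.Prime] (hpq : p ≠ q) (hr : 1 ≤ r) (a a₀ : ℕ)
    (ha : a = orderOf (p : ZMod q)) (ha₀ : a₀ = if a % 2 = 1 then a else 3 * a / 2) :
    ∃ (G₀ : Type u) (_ : Group G₀) (_ : Finite G₀),
      (¬ Cfsg.HasNormalPComplement p G₀ ∧ ∀ K : Subgroup G₀, K ≠ ⊤ → Cfsg.HasNormalPComplement p ↥K) ∧ Nat.card G₀ = p ^ a₀ * q ^ r ∧
      ∀ (X : Type u) [Group X] [Finite X], (¬ Cfsg.HasNormalPComplement p X ∧ ∀ K : Subgroup X, K ≠ ⊤ → Cfsg.HasNormalPComplement p ↥K) →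
        (∃ t : ℕ, Nat.card X = p ^ t * q ^ r) → ∃ φ : G₀ →* X, Function.Surjective φ ∧ φ.ker ≤ Subgroup.center G₀ := by
  classical
  have hpp : p.Prime := Fact.out
  have hqq : q.Prime := Fact.out
  have hp0 : (p : ZMod q) ≠ 0 := fun h => hpq ((Nat.prime_dvd_prime_iff_eq hqq hpp).1
    ((CharP.cast_eq_zero_iff (ZMod q) q p).1 h)).symm
  have hapos : 0 < a := by
    rw [ha]
    exact orderOf_pos_iff.2 (isOfFinOrder_iff_pow_eq_one.2
      ⟨q - 1, by have := hqq.two_le; omega, ZMod.pow_card_sub_one_eq_one hp0⟩)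
  have hK : Nat.card (GaloisField p a) = p ^ a := GaloisField.card p a hapos.ne'
  haveI : Finite (GaloisField p a) := Nat.finite_of_card_ne_zero (by rw [hK]; exact pow_ne_zero _ hpp.ne_zero)
  haveI : Fintype (GaloisField p a) := Fintype.ofFinite _
  have hpa : q ∣ p ^ a - 1 := by
    rw [← CharP.cast_eq_zero_iff (ZMod q) q, Nat.cast_sub (Nat.one_le_pow _ _ hpp.pos), sub_eq_zero, Nat.cast_pow,
      Nat.cast_one, ha, pow_orderOf_eq_one]
  obtain ⟨l, hl⟩ := exists_prime_orderOf_dvd_card' (G := (GaloisField p a)ˣ) q (by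
    rw [Nat.card_units, hK]; exact hpa)
  have hlam : IsPrimitiveRoot (l : GaloisField p a) q := by
    rw [← hl]
    exact IsPrimitiveRoot.coe_units_iff.2 (IsPrimitiveRoot.orderOf l)
  set lam : GaloisField p a := (l : GaloisField p a)
  have hlam0 : lam ≠ 0 := l.ne_zero
  have hlam1 : lam ≠ 1 := hlam.ne_one hqq.one_lt
  have hgen : ∀ i : ℕ, ¬ q ∣ i → Algebra.adjoin (ZMod p) {lam ^ i} = ⊤ := fun i hi =>
    adjoin_eq_top ha hK (hlam.pow_of_coprime i (hqq.coprime_iff_not_dvd.2 hi).symm)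
  have hhalf : Even a → lam ^ p ^ (a / 2) * lam = 1 := by
    intro he
    obtain ⟨h, hh⟩ := he
    rw [← pow_succ, hlam.pow_eq_one_iff_dvd, ← CharP.cast_eq_zero_iff (ZMod q) q, Nat.cast_add, Nat.cast_pow,
      Nat.cast_one, show a / 2 = h by omega]
    have h2 : ((p : ZMod q) ^ h) ^ 2 = 1 := by
      rw [← pow_mul, show h * 2 = a by omega, ha, pow_orderOf_eq_one]
    rcases sq_eq_one_iff.1 h2 with h3 | h3
    · have := orderOf_le_of_pow_eq_one (by omega) h3
      omega
    · rw [h3, neg_add_cancel]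
  obtain ⟨H, _, _, C, hβ, hH⟩ := CfsgLib.UNPN.exists_model hK hapos hlam0 hlam.pow_eq_one hhalf
  haveI : NeZero (q ^ r) := ⟨pow_ne_zero _ hqq.ne_zero⟩
  have hβr : C.β ^ (q ^ r) = 1 := by
    obtain ⟨k, hk⟩ := dvd_pow_self q (show r ≠ 0 by omega)
    rw [hk, pow_mul, hβ, one_pow]
  obtain ⟨hmin1, hmin2⟩ := CfsgLib.UNPN.minimal_semidirect hpq hlam0 hgen hlam1 (IsPGroup.of_card hH) C hβ r hr hβr
  let ψ := CfsgLib.UNPN.powHom C.β (q ^ r) hβr
  haveI : Finite (H ⋊[ψ] Multiplicative (ZMod (q ^ r))) := Finite.of_equiv _ SemidirectProduct.equivProd.symm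
  let e : ULift.{u} (H ⋊[ψ] Multiplicative (ZMod (q ^ r))) ≃* (H ⋊[ψ] Multiplicative (ZMod (q ^ r))) := MulEquiv.ulift
  refine ⟨ULift.{u} (H ⋊[ψ] Multiplicative (ZMod (q ^ r))), inferInstance, inferInstance, ⟨?_, ?_⟩, ?_, ?_⟩
  · exact fun h => hmin1 ((CfsgLib.Transfer.hasNormalPComplement_congr e).1 h)
  · intro M hM
    refine (CfsgLib.Transfer.hasNormalPComplement_congr (e.subgroupMap M)).2 (hmin2 _ fun h => hM ?_)
    refine eq_top_iff.2 fun x _ => ?_
    have hx : e x ∈ M.map (e : _ →* _) := h.ge (Subgroup.mem_top _)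
    obtain ⟨z, hz, hzx⟩ := hx
    rwa [← e.injective hzx]
  · rw [Nat.card_congr e.toEquiv, Nat.card_congr SemidirectProduct.equivProd, Nat.card_prod, hH,
      Nat.card_congr Multiplicative.toAdd, Nat.card_zmod, ha₀]
  intro X _ _ hX1 hX2
  obtain ⟨h1, h2⟩ := hX1
  obtain ⟨t, ht⟩ := hX2
  obtain ⟨P, hPn, y, D, hyo, hsup, hinf, hD⟩ := CfsgLib.UNPN.exists_cover hpq ha hK hlam h1 h2 hr ht
  obtain ⟨φ, hφs, hφβ, hφη⟩ := D.exists_hom hlam1 hlam0 (adjoin_eq_top ha hK hlam)
    (fun z => by rw [nsmul_eq_mul, CharP.cast_eq_zero, zero_mul]) C (by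
      rw [GaloisField.finrank p hapos.ne']; exact hH)
  have hφpow : ∀ (k : ℕ) (h : H), ((φ ((C.β ^ k) h) : P) : X) = y ^ k * (φ h : X) * (y ^ k)⁻¹ := by
    intro k h
    have : φ ((C.β ^ k) h) = (D.β ^ k) (φ h) := by
      induction k with
      | zero => rfl
      | succ k ih => rw [pow_succ', MulAut.mul_apply, hφβ, ih, pow_succ', MulAut.mul_apply]
    rw [this, hD, ← map_pow, MulAut.conjNormal_apply]
  let g := cycHom y (q ^ r) (by rw [← hyo, pow_orderOf_eq_one])
  let f : H ⋊[ψ] Multiplicative (ZMod (q ^ r)) →* X := SemidirectProduct.lift (P.subtype.comp φ) g fun x =>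
    MonoidHom.ext fun h => hφpow _ h
  have hfs : Function.Surjective f := by
    rw [← MonoidHom.range_eq_top, eq_top_iff, ← hsup, sup_le_iff, Subgroup.zpowers_le]
    refine ⟨fun z hz => ?_, ?_⟩
    · obtain ⟨h, hh⟩ := hφs ⟨z, hz⟩
      exact ⟨SemidirectProduct.inl h, by simp [f, hh]⟩
    · refine ⟨SemidirectProduct.inr (Multiplicative.ofAdd 1), ?_⟩
      haveI : Fact (1 < q ^ r) := ⟨Nat.one_lt_pow (by omega) hqq.one_lt⟩
      simp [f, g, cycHom, ZMod.val_one]
  have hfk : ∀ x, f x = 1 → ∀ w, w * x = x * w := by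
    intro x hx w
    have hx' : ((φ x.left : P) : X) * y ^ x.right.toAdd.val = 1 := hx
    have hm : y ^ x.right.toAdd.val ∈ P ⊓ Subgroup.zpowers y :=
      ⟨show _ ∈ P by rw [← inv_eq_of_mul_eq_one_right hx']; exact inv_mem (φ x.left).2, pow_mem (Subgroup.mem_zpowers y) _⟩
    rw [hinf, Subgroup.mem_bot] at hm
    have hr1 : x.right = 1 := by
      apply Multiplicative.toAdd.injective
      rw [toAdd_one, ← ZMod.val_eq_zero]
      refine Nat.eq_zero_of_dvd_of_lt ?_ (ZMod.val_lt _)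
      have hdvd := orderOf_dvd_of_pow_eq_one hm
      exact dvd_trans (dvd_of_eq hyo.symm) hdvd
    rw [hm, mul_one] at hx'
    have hker : x.left ∈ C.η.ker := by
      rw [MonoidHom.mem_ker, ← hφη, show φ x.left = 1 from Subtype.ext hx', map_one]
    have hfix : (ψ w.right) x.left = x.left := by
      have : C.β ∈ MulAction.stabilizer (MulAut H) x.left := C.fixed _ hker
      exact pow_mem this _
    refine SemidirectProduct.ext ?_ ?_
    · rw [SemidirectProduct.mul_left, SemidirectProduct.mul_left, hfix, hr1, map_one, MulAut.one_apply]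
      exact Subgroup.mem_center_iff.1 (C.central hker) w.left
    · rw [SemidirectProduct.mul_right, SemidirectProduct.mul_right, hr1, mul_one, one_mul]
  refine ⟨f.comp e.toMonoidHom, hfs.comp e.surjective, fun x hx => Subgroup.mem_center_iff.2 fun w => ?_⟩
  apply e.injective
  rw [map_mul, map_mul]
  exact hfk _ hx _

end

end Cfsg.Agent.S4395
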