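import Cfsg.Statements.S4396
import Cfsg.Agent.Lib.FGS.FreeOverComplement

set_option autoImplicit false
open Cfsg

namespace Cfsg.Agent.S4396
open scoped Pointwise

/-- Let the finite group A act faithfully and linearly on a finite-dimensional vector space V over a field k, and suppose A is a Frobenius group with nilpotent kernel F (every Frobenius kernel is nilpotent) and complement H such that F fixes no nonzero vector. Then V is free as a module for H: there is a subspace W with V the direct sum of the translates hW, h ∈ H. (No assumption on the characteristic of k.) -/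
theorem result {k V A : Type*} [Field k] [AddCommGroup V] [Module k V] [FiniteDimensional k V] [Group A] [Finite A] [DecidableEq A]
    (ρ : Representation k A V) (hρ : Function.Injective ρ)
    (Fk Hc : Subgroup A) [Fk.Normal] (hHc : Cfsg.IsFrobeniusComplement Hc) (hker : Cfsg.frobeniusKernel Hc = (Fk : Set A)) (hnil : Group.IsNilpotent ↥Fk)
    (hCF : ∀ v : V, (∀ f ∈ Fk, ρ f v = v) → v = 0) :
    ∃ W : Submodule k V, DirectSum.IsInternal (fun h : ↥Hc => W.map (ρ (h : A))) := by
  classical
  haveI : Fintype ↥Hc := Fintype.ofFinite _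
  haveI : Fintype ↥Fk := Fintype.ofFinite _
  have _ := hρ
  let φ : ↥Hc →* MulAut ↥Fk := MulAut.conjNormal.comp Hc.subtype
  have hfpf : ∀ h, h ≠ 1 → ∀ x, φ h x = x → x = 1 := by
    intro h hh x hx
    have hx' : (h : A) * x * (h : A)⁻¹ = x := congrArg Subtype.val hx
    have hxk : (x : A) ∈ Cfsg.frobeniusKernel Hc := hker ▸ x.2
    rcases hxk with h1 | h1
    · exact Subtype.ext h1
    · exfalso
      have hxH : (x : A) ∉ Hc := fun hm => h1 1 (by rw [map_one, one_smul]; exact hm)
      have h2 : (h : A) ∈ Hc ⊓ MulAut.conj (x : A) • Hc := by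
        refine ⟨h.2, ?_⟩
        show (h : A) ∈ MulAut.conj (x : A) • Hc
        rw [Subgroup.mem_pointwise_smul_iff_inv_smul_mem]
        show (MulAut.conj (x : A))⁻¹ (h : A) ∈ Hc
        rw [MulAut.conj_inv_apply]
        have : (x : A)⁻¹ * h * x = h := by
          rw [mul_inv_eq_iff_eq_mul] at hx'
          rw [mul_assoc, hx', inv_mul_cancel_left]
        rw [this]; exact h.2
      rw [hHc.2.2 _ hxH] at h2
      exact hh (Subtype.ext h2)
  haveI : Group.IsNilpotent ↥Fk := hnil
  have hfree := CfsgLib.FGS.FreeCompl.free_of_fpf (k := k) (Fintype.card ↥Fk) le_rfl φ hfpf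
    (ρ.comp Fk.subtype) (ρ.comp Hc.subtype) (fun h x => by
      show ρ (h : A) * ρ (x : A) = ρ ((h : A) * x * (h : A)⁻¹) * ρ (h : A)
      rw [← map_mul, ← map_mul, inv_mul_cancel_right])
    (fun v hv => hCF v fun f hf => hv ⟨f, hf⟩)
  exact hfree.isInternal

end Cfsg.Agent.S4396
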