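import Cfsg.Statements.S4397
import Cfsg.Agent.Lib.PGroup.RankFourPairs

set_option autoImplicit false
open Cfsg

namespace Cfsg.Agent.S4397
open Subgroup
open scoped commutatorElement

variable {P : Type*} [Group P]

omit [Group P] in
private theorem two_le_of_ne {n : ℕ} (h0 : n ≠ 0) (h1 : n ≠ 1) : 2 ≤ n := by omega

/-- A cyclic normal subgroup with one further generator. -/
private theorem metacyclic_of_gen {a b : P} (hgen : closure {a, b} = ⊤) [hn : (zpowers a).Normal] :
    Cfsg.IsMetacyclic P := by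
  refine ⟨zpowers a, hn, inferInstance, ?_⟩
  refine isCyclic_iff_exists_zpowers_eq_top.2 ⟨QuotientGroup.mk' _ b, eq_top_iff.2 fun y _ => ?_⟩
  obtain ⟨g, rfl⟩ := QuotientGroup.mk'_surjective (zpowers a) y
  have hle : closure {a, b} ≤ (zpowers (QuotientGroup.mk' (zpowers a) b)).comap (QuotientGroup.mk' (zpowers a)) := by
    rw [closure_le]
    rintro t (rfl | rfl)
    · rw [SetLike.mem_coe, mem_comap, show QuotientGroup.mk' (zpowers t) t = 1 from (QuotientGroup.eq_one_iff _).2 (mem_zpowers t)]
      exact one_mem _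
    · exact mem_zpowers _
  exact hle (hgen.ge (mem_top g))

variable [Finite P]

/-- Two generators. -/
private theorem exists_gens (h2 : IsPGroup 2 P) (hr : Cfsg.SectionalPRankLE 2 2 P) :
    ∃ a b : P, closure {a, b} = ⊤ := by
  haveI : Fact (Nat.Prime 2) := ⟨Nat.prime_two⟩
  rcases subsingleton_or_nontrivial P with h | h
  · exact ⟨1, 1, Subsingleton.elim _ _⟩
  have hc : ∀ u v : P ⧸ frattini P, u * v = v * u := by
    intro u v
    obtain ⟨u, rfl⟩ := QuotientGroup.mk'_surjective (frattini P) u
    obtain ⟨v, rfl⟩ := QuotientGroup.mk'_surjective (frattini P) v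
    rw [← commutatorElement_eq_one_iff_mul_comm, ← map_commutatorElement]
    exact (QuotientGroup.eq_one_iff _).2 (CfsgLib.PGroup.commutator_le_frattini h2
      (commutator_mem_commutator (mem_top u) (mem_top v)))
  have he : ∀ u : P ⧸ frattini P, u ^ 2 = 1 := by
    intro u
    obtain ⟨u, rfl⟩ := QuotientGroup.mk'_surjective (frattini P) u
    rw [← map_pow]
    exact (QuotientGroup.eq_one_iff _).2 (CfsgLib.PGroup.pow_mem_frattini h2 u)
  have h4 := CfsgLib.PGroup.RankFour.card_le_of_hom hr (MonoidHom.id P) Function.injective_id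
    (QuotientGroup.mk' (frattini P)) ⊤ (by rw [MonoidHom.range_eq_top.2 (QuotientGroup.mk'_surjective _)])
    ⟨⟨fun u v => Subtype.ext (hc u v)⟩⟩ (fun u _ => he u)
  rw [card_top, ← index_eq_card] at h4
  obtain ⟨a, ha⟩ := SetLike.exists_not_mem_of_ne_top _ (CfsgLib.PGroup.frattini_ne_top h2)
  set A := zpowers a ⊔ frattini P with hA
  by_cases hAt : A = ⊤
  · refine ⟨a, a, eq_top_iff.2 ((CfsgLib.PGroup.eq_top_of_sup_frattini (H := zpowers a) hAt).ge.trans
      (zpowers_le.2 (subset_closure (by simp))))⟩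
  obtain ⟨b, hb⟩ := SetLike.exists_not_mem_of_ne_top _ hAt
  refine ⟨a, b, CfsgLib.PGroup.eq_top_of_sup_frattini ?_⟩
  by_contra hne
  set B := closure {a, b} ⊔ frattini P
  have hlt1 : frattini P < A := lt_of_le_of_ne le_sup_right fun e => ha (e.ge (mem_sup_left (mem_zpowers a)))
  have hlt2 : A < B := lt_of_le_of_ne
    (sup_le (zpowers_le.2 (mem_sup_left (subset_closure (by simp)))) le_sup_right)
    fun e => hb (e.ge (mem_sup_left (subset_closure (by simp))))
  have h1 := relIndex_mul_index hlt1.le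
  have h2' := relIndex_mul_index hlt2.le
  have a1 : 2 ≤ (frattini P).relIndex A := two_le_of_ne (index_ne_zero_of_finite (H := (frattini P).subgroupOf A))
    fun e => hlt1.not_ge (relIndex_eq_one.1 e)
  have a2 : 2 ≤ A.relIndex B := two_le_of_ne (index_ne_zero_of_finite (H := A.subgroupOf B))
    fun e => hlt2.not_ge (relIndex_eq_one.1 e)
  have a3 : 2 ≤ B.index := two_le_of_ne index_ne_zero_of_finite fun e => hne (index_eq_one.1 e)
  have a4 : 4 ≤ A.index := by rw [← h2']; exact le_trans (by norm_num) (Nat.mul_le_mul a2 a3)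
  have a5 : 8 ≤ (frattini P).index := by rw [← h1]; exact le_trans (by norm_num) (Nat.mul_le_mul a1 a4)
  omega

/-- Minimal nonabelian case. -/
private theorem metacyclic_class_two (h2 : IsPGroup 2 P) (hr : Cfsg.SectionalPRankLE 2 2 P) :
    ∀ (n : ℕ) (a b : P), orderOf a + orderOf b = n → closure {a, b} = ⊤ →
      ⁅a, b⁆ ∈ center P → ⁅a, b⁆ * ⁅a, b⁆ = 1 → Cfsg.IsMetacyclic P := by
  haveI : Fact (Nat.Prime 2) := ⟨Nat.prime_two⟩
  intro n
  induction n using Nat.strong_induction_on with
  | _ n ih =>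
  intro a b hn hgen hcen hcc
  set c := ⁅a, b⁆ with hc
  have hcent : ∀ g, g * c = c * g := mem_center_iff.1 hcen
  have hcc' : c⁻¹ = c := inv_eq_of_mul_eq_one_left hcc
  have hab : a * b = c * (b * a) := by rw [hc, commutatorElement_def]; group
  have hba : b * a = c * (a * b) := by rw [hab, ← mul_assoc, hcc, one_mul]
  -- generators with `c` in their cyclic group
  have key : ∀ u v : P, closure {u, v} = ⊤ → c ∈ zpowers u → (u * v = c * (v * u)) → Cfsg.IsMetacyclic P := by
    intro u v hg hcu huv
    have hfix : ∀ g : P, g * u * g⁻¹ ∈ zpowers u := by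
      have hle : closure {u, v} ≤ normalizer (zpowers u : Set P) := by
        rw [closure_le]
        rintro t (rfl | rfl)
        · exact le_normalizer (mem_zpowers t)
        · refine mem_normalizer_fintype fun y hy => ?_
          obtain ⟨i, rfl⟩ := mem_zpowers_iff.1 hy
          show t * u ^ i * t⁻¹ ∈ zpowers u
          rw [← conj_zpow]
          refine zpow_mem ?_ i
          have e : t * u * t⁻¹ = c * u := by
            rw [mul_inv_eq_iff_eq_mul, mul_assoc, huv, ← mul_assoc, hcc, one_mul]
          rw [e]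
          exact mul_mem hcu (mem_zpowers u)
      intro g
      exact (mem_normalizer_iff.1 (hle (hg.ge (mem_top g))) u).1 (mem_zpowers u)
    haveI : (zpowers u).Normal := ⟨fun y hy g => by
      obtain ⟨i, rfl⟩ := mem_zpowers_iff.1 hy
      rw [← conj_zpow]; exact zpow_mem (hfix g) i⟩
    exact metacyclic_of_gen hg
  by_cases hc1 : c = 1
  · exact key a b hgen (hc1 ▸ one_mem _) hab
  have hgen' : closure {b, a} = ⊤ := by rw [Set.pair_comm]; exact hgen
  wlog hle : orderOf b ≤ orderOf a generalizing a b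
  · refine this b a (by rw [add_comm]; exact hn) hgen' ?_ ?_ ?_ ?_ ?_ ?_ ?_ ?_ ?_ hgen (le_of_not_ge hle)
    all_goals (try rw [← commutatorElement_inv a b]; try rw [← hc, hcc'])
    all_goals first
      | exact hcen
      | exact hcc
      | exact hcent
      | exact hcc'
      | exact hba
      | exact hab
      | exact key
      | exact hc1
  by_cases hcb : c ∈ zpowers b
  · exact key b a hgen' hcb hba
  by_cases hca : c ∈ zpowers a
  · exact key a b hgen hca hab
  by_cases hcab : c ∈ zpowers (a * b)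
  · refine key (a * b) a ?_ hcab ?_
    · refine top_le_iff.1 (hgen.ge.trans ((closure_le _).2 ?_))
      have h1 : a ∈ closure {a * b, a} := subset_closure (by simp)
      rintro x (rfl | rfl)
      · exact h1
      · have := mul_mem (inv_mem h1) (subset_closure (show a * x ∈ ({a * x, a} : Set P) by simp))
        rwa [inv_mul_cancel_left] at this
    · rw [mul_assoc, hba, ← mul_assoc a c, hcent a, mul_assoc]
  obtain ⟨m, hm⟩ := IsPGroup.iff_orderOf.1 h2 a
  obtain ⟨k, hk⟩ := IsPGroup.iff_orderOf.1 h2 b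
  have hkm : k ≤ m := by rw [hm, hk] at hle; exact (Nat.pow_le_pow_iff_right (by norm_num)).1 hle
  have hncomm : ∀ x : P, closure {a, b} ≤ centralizer ({x} : Set P) → x ∈ center P := fun x hx =>
    mem_center_iff.2 fun g => mem_centralizer_singleton_iff.1 (hx (hgen.ge (mem_top g)))
  have hk0 : k ≠ 0 := fun h => hc1 (by
    rw [h, pow_zero, orderOf_eq_one_iff] at hk; rw [hc, hk, commutatorElement_one_right])
  have hm0 : m ≠ 0 := by omega
  have hsqa : ∀ i : ℕ, 2 ∣ i → a ^ i * b = b * a ^ i := by
    rintro _ ⟨i, rfl⟩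
    rw [pow_mul]
    refine (Commute.pow_left (show Commute (a ^ 2) b from ?_) i).eq
    show a ^ 2 * b = b * a ^ 2
    rw [sq, mul_assoc, hab, show a * (c * (b * a)) = (a * c) * b * a by group, hcent a,
      show c * a * b * a = c * (a * b) * a by group, hab, ← mul_assoc c c, hcc, one_mul, mul_assoc]
  have hsqb : ∀ i : ℕ, 2 ∣ i → b ^ i * a = a * b ^ i := by
    rintro _ ⟨i, rfl⟩
    rw [pow_mul]
    refine (Commute.pow_left (show Commute (b ^ 2) a from ?_) i).eq
    show b ^ 2 * a = a * b ^ 2
    rw [sq, mul_assoc, hba, show b * (c * (a * b)) = (b * c) * a * b by group, hcent b,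
      show c * b * a * b = c * (b * a) * b by group, hba, ← mul_assoc c c, hcc, one_mul, mul_assoc]
  set u := a ^ 2 ^ (m - 1) with hu
  set v := b ^ 2 ^ (k - 1) with hv
  have huu : u * u = 1 := by
    rw [hu, ← pow_add, ← two_mul, ← pow_succ', show m - 1 + 1 = m by omega, ← hm, pow_orderOf_eq_one]
  have hvv : v * v = 1 := by
    rw [hv, ← pow_add, ← two_mul, ← pow_succ', show k - 1 + 1 = k by omega, ← hk, pow_orderOf_eq_one]
  have hu1 : u ≠ 1 := fun h => by
    have := orderOf_dvd_of_pow_eq_one h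
    rw [hm, Nat.pow_dvd_pow_iff_le_right (by norm_num)] at this
    omega
  have hv1 : v ≠ 1 := fun h => by
    have := orderOf_dvd_of_pow_eq_one h
    rw [hk, Nat.pow_dvd_pow_iff_le_right (by norm_num)] at this
    omega
  have huc : u ≠ c := fun h => hca (h ▸ npow_mem_zpowers a _)
  have hvc : v ≠ c := fun h => hcb (h ▸ npow_mem_zpowers b _)
  -- if `u` and `v` agree modulo `c`, shorten
  by_cases hdep : v * u = 1 ∨ v * u = c
  · set t := 2 ^ (m - k) with ht
    set b' := b * a ^ t with hb'
    have hgen2 : closure {a, b'} = ⊤ := by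
      refine top_le_iff.1 (hgen.ge.trans ((closure_le _).2 ?_))
      rintro x (rfl | rfl)
      · exact subset_closure (by simp)
      · have h1 : a ∈ closure {a, b'} := subset_closure (by simp)
        have h2' : b' ∈ closure {a, b'} := subset_closure (by simp)
        have := mul_mem h2' (inv_mem (pow_mem h1 t))
        rwa [hb', mul_inv_cancel_right] at this
    have hc' : ⁅a, b'⁆ = c := by
      rw [hb', hc, commutatorElement_def, commutatorElement_def]; group
    rcases Nat.eq_or_lt_of_le (Nat.one_le_iff_ne_zero.2 hk0) with hk1 | hk1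
    · -- `b` is an involution
      exfalso
      have hvb : v = b := by rw [hv, ← hk1]; simp
      have hut : u = a ^ t := by rw [hu, ht, ← hk1]
      refine hc1 ?_
      have hcm : Commute a b := by
        rcases hdep with e | e <;> rw [hvb, hut] at e
        · rw [eq_inv_of_mul_eq_one_left e]
          exact ((Commute.refl a).pow_right t).inv_right
        · rw [eq_mul_inv_of_mul_eq e]
          exact (show Commute a c from hcent a).mul_right ((Commute.refl a).pow_right t).inv_right
      rw [hc, commutatorElement_eq_one_iff_mul_comm]; exact hcm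
    · by_cases hcb' : c ∈ zpowers b'
      · refine key b' a ?_ hcb' ?_
        · rw [Set.pair_comm]; exact hgen2
        · have e : c = a * b' * a⁻¹ * b'⁻¹ := by rw [← commutatorElement_def, hc']
          have e2 : a * b' = c * (b' * a) := by rw [e]; group
          rw [e2, ← mul_assoc, hcc, one_mul]
      -- the power of `b'`
      have hpow : ∀ j : ℕ, b' ^ (2 * j) = (b * a ^ t * (b * a ^ t)) ^ j := fun j => by rw [pow_mul, sq]
      have hsq : b' * b' ∈ ({b * b * (a ^ t * a ^ t), c * (b * b * (a ^ t * a ^ t))} : Set P) := by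
        have hswap : a ^ t * b = b * a ^ t ∨ a ^ t * b = c * (b * a ^ t) := by
          rcases Nat.even_or_odd t with he | ho
          · exact Or.inl (hsqa t he.two_dvd)
          · right
            have ht1 : t = 1 := by
              rcases Nat.eq_zero_or_pos (m - k) with h | h
              · rw [ht, h, pow_zero]
              · exfalso
                rw [ht] at ho
                exact (Nat.not_even_iff_odd.2 ho) ((Nat.even_pow).2 ⟨even_two, by omega⟩)
            rw [ht1, pow_one, hab]
        rcases hswap with e | e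
        · left
          rw [hb', show b * a ^ t * (b * a ^ t) = b * (a ^ t * b) * a ^ t by group, e]; group
        · refine Or.inr (Set.mem_singleton_iff.2 ?_)
          rw [hb', show b * a ^ t * (b * a ^ t) = b * (a ^ t * b) * a ^ t by group, e,
            show b * (c * (b * a ^ t)) * a ^ t = (b * c) * (b * a ^ t * a ^ t) by group, hcent b]
          group
      have hlt : orderOf b' ∣ 2 ^ (k - 1) := by
        have hbb : Commute (b * b) (a ^ t * a ^ t) := by
          rw [← sq, ← sq, ← pow_mul]
          have : Commute (b ^ 2) a := hsqb 2 dvd_rfl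
          exact this.pow_right _
        have hval : b' ^ 2 ^ (k - 1) = 1 ∨ b' ^ 2 ^ (k - 1) = c := by
          rw [show 2 ^ (k - 1) = 2 * 2 ^ (k - 2) by rw [← pow_succ']; congr 1; omega, pow_mul, sq]
          have h3 : (b * b * (a ^ t * a ^ t)) ^ 2 ^ (k - 2) = v * u := by
            rw [hbb.mul_pow, hv, hu, ← sq, ← sq, ← pow_mul, ← pow_mul, ← pow_mul]
            congr 2
            · rw [← pow_succ']; congr 1; omega
            · rw [ht, ← pow_succ', ← pow_add]; congr 1; omega
          rcases hsq with e | e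
          · rw [e, h3]; exact hdep
          · rw [Set.mem_singleton_iff.1 e,
              (show Commute c (b * b * (a ^ t * a ^ t)) from (hcent _).symm).mul_pow, h3]
            rcases Nat.eq_zero_or_pos (k - 2) with h | h
            · rw [h, pow_zero, pow_one]
              rcases hdep with e' | e' <;> rw [e']
              · exact Or.inr (mul_one c)
              · exact Or.inl hcc
            · rw [show c ^ 2 ^ (k - 2) = 1 by
                rw [show 2 ^ (k - 2) = 2 * 2 ^ (k - 3) by rw [← pow_succ']; congr 1; omega, pow_mul, sq, hcc, one_pow],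
                one_mul]
              exact hdep
        rcases hval with e | e
        · exact orderOf_dvd_of_pow_eq_one e
        · exact absurd (e ▸ npow_mem_zpowers b' _) hcb'
      refine ih (orderOf a + orderOf b') ?_ a b' rfl hgen2 (hc' ▸ hcen) (by rw [hc']; exact hcc)
      rw [← hn, hk]
      have := Nat.le_of_dvd (by positivity) hlt
      have : 2 ^ (k - 1) < 2 ^ k := Nat.pow_lt_pow_right (by norm_num) (by omega)
      omega
  -- an elementary abelian subgroup of order eight
  push_neg at hdep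
  have hcomuv : u * v = v * u := by
    rcases Nat.lt_or_ge 1 m with h | h
    · have : Commute u b := hsqa _ (dvd_pow_self 2 (by omega))
      exact (this.pow_right _).eq
    · exfalso
      have hm1 : m = 1 := by omega
      have hk1 : k = 1 := by omega
      have hua : u = a := by rw [hu, hm1]; simp
      have hvb : v = b := by rw [hv, hk1]; simp
      rw [hua] at huu
      rw [hvb] at hvv
      have hcab' : c = (a * b) * (a * b) := by
        rw [hc, commutatorElement_def, inv_eq_of_mul_eq_one_left huu, inv_eq_of_mul_eq_one_left hvv]; group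
      exact hcab (hcab' ▸ mul_mem (mem_zpowers _) (mem_zpowers _))
  exfalso
  set T : Set P := {u, v, c}
  have hcomT : ∀ x ∈ T, ∀ y ∈ T, x * y = y * x := by
    rintro x (rfl | rfl | rfl) y (rfl | rfl | rfl) <;>
      first
        | rfl
        | exact hcomuv
        | exact hcomuv.symm
        | exact hcent _
        | exact (hcent _).symm
  haveI hEc : IsMulCommutative (closure T) := isMulCommutative_closure hcomT
  have hE : ∀ x ∈ closure T, x ^ 2 = 1 := by
    intro x hx
    induction hx using closure_induction with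
    | mem y hy => rcases hy with rfl | rfl | rfl <;> rw [sq] <;> assumption
    | one => exact one_pow 2
    | mul y z hy hz hy' hz' =>
      have : Commute y z := congrArg Subtype.val (mul_comm' (⟨y, hy⟩ : closure T) ⟨z, hz⟩)
      rw [this.mul_pow, hy', hz', one_mul]
    | inv y _ hy => rw [inv_pow, hy, inv_one]
  have h4 := CfsgLib.PGroup.RankFour.card_le_of_hom hr (MonoidHom.id P) Function.injective_id
    (MonoidHom.id P) (closure T) (fun x _ => ⟨x, rfl⟩) hEc hE
  have h8 : ({1, c, u, u * c, v} : Set P).ncard = 5 := by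
    have e1 : u * c ≠ 1 := fun h => huc (by rw [eq_inv_of_mul_eq_one_left h, hcc'])
    have e2 : v ≠ u * c := fun h => hdep.2 (by rw [h, mul_assoc, ← hcent u, ← mul_assoc, huu, one_mul])
    have e3 : v ≠ u := fun h => hdep.1 (by rw [h, huu])
    have e4 : u ≠ u * c := fun h => hc1 (left_eq_mul.1 h)
    have e5 : c ≠ u * c := fun h => hu1 (right_eq_mul.1 h)
    rw [Set.ncard_insert_of_notMem (by simp [Ne.symm hc1, Ne.symm hu1, Ne.symm hv1, Ne.symm e1]),
      Set.ncard_insert_of_notMem (by simp [Ne.symm huc, Ne.symm hvc, e5]),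
      Set.ncard_insert_of_notMem (by simp [e4, Ne.symm e3]),
      Set.ncard_insert_of_notMem (by simp [Ne.symm e2]), Set.ncard_singleton]
  have hsub : ({1, c, u, u * c, v} : Set P) ⊆ closure T := by
    have h1 : u ∈ closure T := subset_closure (by simp [T])
    have h2' : v ∈ closure T := subset_closure (by simp [T])
    have h3 : c ∈ closure T := subset_closure (by simp [T])
    rintro x (rfl | rfl | rfl | rfl | rfl)
    exacts [one_mem _, h3, h1, mul_mem h1 h3, h2']
  have h5 := Set.ncard_le_ncard hsub (Set.toFinite _)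
  rw [h8, ← Nat.card_coe_set_eq] at h5
  have : Nat.card ↥(closure T) ≤ 4 := h4
  change 5 ≤ Nat.card ↥(closure T) at h5
  omega

omit [Finite P] in
private theorem isMetacyclic_of_equiv {Q : Type*} [Group Q] (e : P ≃* Q) (h : Cfsg.IsMetacyclic Q) :
    Cfsg.IsMetacyclic P := by
  obtain ⟨N, hN, hNc, hQc⟩ := h
  haveI := hN
  haveI hN' : (N.map e.symm.toMonoidHom).Normal := hN.map _ e.symm.surjective
  refine ⟨_, hN', ?_, ?_⟩
  · exact (N.equivMapOfInjective e.symm.toMonoidHom e.symm.injective).isCyclic.1 hNc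
  · exact (QuotientGroup.congr N (N.map e.symm.toMonoidHom) e.symm rfl).isCyclic.1 hQc

private theorem metacyclic : ∀ (n : ℕ) (P : Type u_1) [Group P] [Finite P], Nat.card P = n →
    IsPGroup 2 P → Cfsg.SectionalPRankLE 2 2 P → Cfsg.IsMetacyclic P := by
  haveI : Fact (Nat.Prime 2) := ⟨Nat.prime_two⟩
  intro n
  induction n using Nat.strong_induction_on with
  | _ n ih =>
  intro P _ _ hn h2 hr
  obtain ⟨a, b, hgen⟩ := exists_gens h2 hr
  set c := ⁅a, b⁆ with hc
  set K := normalClosure ({c * c} ∪ Set.range fun g => ⁅c, g⁆) with hK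
  by_cases hKb : K = ⊥
  · have h1 : ∀ x ∈ ({c * c} ∪ Set.range fun g => ⁅c, g⁆ : Set P), x = 1 := fun x hx => by
      have hm : x ∈ K := subset_normalClosure hx
      rw [hKb, mem_bot] at hm; exact hm
    refine metacyclic_class_two h2 hr _ a b rfl hgen (mem_center_iff.2 fun g => ?_) (h1 _ (by simp [hc]))
    exact (commutatorElement_eq_one_iff_mul_comm.1 (h1 ⁅c, g⁆ (Or.inr ⟨g, rfl⟩))).symm
  haveI hKn : K.Normal := normalClosure_normal
  obtain ⟨z0, ⟨hz0K, hz0c⟩, hz0⟩ := (bot_or_exists_ne_one _).resolve_left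
    (CfsgLib.PGroup.inf_center_ne_bot h2 K hKb)
  obtain ⟨z, hzK, hzc, hzo⟩ : ∃ z ∈ K, z ∈ center P ∧ orderOf z = 2 := by
    obtain ⟨i, hi⟩ := IsPGroup.iff_orderOf.1 h2 z0
    rcases i with _ | i
    · exact absurd (orderOf_eq_one_iff.1 hi) hz0
    refine ⟨z0 ^ 2 ^ i, pow_mem hz0K _, pow_mem hz0c _, ?_⟩
    rw [orderOf_pow_of_dvd (pow_ne_zero _ two_ne_zero) (hi ▸ pow_dvd_pow 2 i.le_succ), hi, pow_succ',
      Nat.mul_div_cancel _ (by positivity)]
  set Z := zpowers z
  haveI hZn : Z.Normal := ⟨fun y hy g => by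
    obtain ⟨i, rfl⟩ := mem_zpowers_iff.1 hy
    rw [mem_center_iff.1 (zpow_mem hzc i) g, mul_inv_cancel_right]; exact zpow_mem (mem_zpowers z) i⟩
  have hlt : Nat.card (P ⧸ Z) < n := by
    rw [← hn, card_eq_card_quotient_mul_card_subgroup Z, show Nat.card Z = 2 by rw [Nat.card_zpowers, hzo]]
    have : 0 < Nat.card (P ⧸ Z) := Nat.card_pos
    omega
  obtain ⟨Yb, hYn, hYc, hQc⟩ := ih _ hlt (P ⧸ Z) rfl (h2.to_quotient Z) (fun H N _ A hA hA2 => by
    obtain ⟨f, hf⟩ : ∃ f : (H.comap (QuotientGroup.mk' Z)) →* H ⧸ N, Function.Surjective f := by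
      refine ⟨(QuotientGroup.mk' N).comp ((QuotientGroup.mk' Z).subgroupComap H), ?_⟩
      exact (QuotientGroup.mk'_surjective N).comp
        (MonoidHom.subgroupComap_surjective_of_surjective _ H (QuotientGroup.mk'_surjective Z))
    exact CfsgLib.PGroup.RankFour.card_le_of_hom hr _ (Subgroup.subtype_injective _) f A
      (fun y _ => hf y) hA hA2)
  obtain ⟨xb, hxb⟩ := isCyclic_iff_exists_zpowers_eq_top.1 hYc
  obtain ⟨x, hx⟩ := QuotientGroup.mk'_surjective Z (xb : P ⧸ Z)
  have hYb : Yb = zpowers (QuotientGroup.mk' Z x) := by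
    rw [hx, ← Yb.coe_subtype, ← MonoidHom.map_zpowers, hxb, ← MonoidHom.range_eq_map, range_subtype]
  set Y := Yb.comap (QuotientGroup.mk' Z)
  haveI : Yb.Normal := hYn
  have hYmem : ∀ y ∈ Y, ∃ i j : ℤ, y = x ^ i * z ^ j := by
    intro y hy
    rw [mem_comap, hYb] at hy
    obtain ⟨i, hi⟩ := mem_zpowers_iff.1 hy
    rw [← map_zpow] at hi
    obtain ⟨j, hj⟩ := mem_zpowers_iff.1 (QuotientGroup.eq.1 hi)
    exact ⟨i, j, by rw [hj, mul_inv_cancel_left]⟩
  by_cases hzx : z ∈ zpowers x
  · refine ⟨Y, inferInstance, isCyclic_iff_exists_zpowers_eq_top.2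
      ⟨⟨x, by show QuotientGroup.mk' Z x ∈ Yb; rw [hYb]; exact mem_zpowers _⟩, eq_top_iff.2 fun y _ => ?_⟩, ?_⟩
    · obtain ⟨i, j, hy⟩ := hYmem y y.2
      obtain ⟨l, hl⟩ := mem_zpowers_iff.1 hzx
      refine mem_zpowers_iff.2 ⟨i + l * j, Subtype.ext ?_⟩
      rw [SubgroupClass.coe_zpow, hy, zpow_add, zpow_mul, hl]
    · let f : P →* (P ⧸ Z) ⧸ Yb := (QuotientGroup.mk' Yb).comp (QuotientGroup.mk' Z)
      have hker : Y = f.ker := by
        ext y
        rw [MonoidHom.mem_ker]
        exact ((QuotientGroup.eq_one_iff (N := Yb) (QuotientGroup.mk' Z y))).symm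
      exact ((QuotientGroup.quotientMulEquivOfEq hker).trans (QuotientGroup.quotientKerEquivOfSurjective f
        ((QuotientGroup.mk'_surjective _).comp (QuotientGroup.mk'_surjective _)))).isCyclic.2 hQc
  exfalso
  obtain ⟨qb, hqb⟩ := isCyclic_iff_exists_zpowers_eq_top.1 hQc
  obtain ⟨w, hw⟩ : ∃ w : P, QuotientGroup.mk' Yb (QuotientGroup.mk' Z w) = qb := by
    obtain ⟨u, hu⟩ := QuotientGroup.mk'_surjective Yb qb
    obtain ⟨w, rfl⟩ := QuotientGroup.mk'_surjective Z u
    exact ⟨w, hu⟩
  have hcomz : ∀ g : P, g * z = z * g := mem_center_iff.1 hzc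
  have hz2 : z * z = 1 := by rw [← sq, ← hzo, pow_orderOf_eq_one]
  set X := zpowers (x * x)
  have hconjx : ∀ g : P, g * (x * x) * g⁻¹ ∈ X := by
    intro g
    have hm : g * x * g⁻¹ ∈ Y := by
      show QuotientGroup.mk' Z (g * x * g⁻¹) ∈ Yb
      rw [map_mul, map_mul, map_inv]
      exact hYn.conj_mem _ (by rw [hYb]; exact mem_zpowers _) _
    obtain ⟨i, j, hij⟩ := hYmem _ hm
    rw [show g * (x * x) * g⁻¹ = (g * x * g⁻¹) * (g * x * g⁻¹) by group, hij]
    have hc' : Commute (x ^ i) (z ^ j) := ((show Commute x z from hcomz x).zpow_zpow i j)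
    rw [← sq, hc'.mul_pow, ← zpow_natCast (z ^ j), ← zpow_mul, mul_comm j, zpow_mul, zpow_natCast, sq z, hz2,
      one_zpow, mul_one, sq]
    exact mem_zpowers_iff.2 ⟨i, (Commute.refl x).mul_zpow i⟩
  haveI hXn : X.Normal := ⟨fun y hy g => by
    obtain ⟨i, rfl⟩ := mem_zpowers_iff.1 hy
    rw [← conj_zpow]; exact zpow_mem (hconjx g) i⟩
  set π := QuotientGroup.mk' X
  have hxx : π x * π x = 1 := by rw [← map_mul]; exact (QuotientGroup.eq_one_iff _).2 (mem_zpowers _)
  -- commutators lie in the image of `Z` modulo `X`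
  set W := zpowers (π z)
  have hWc : ∀ y ∈ W, ∀ g : P ⧸ X, g * y = y * g := by
    intro y hy g
    obtain ⟨i, rfl⟩ := mem_zpowers_iff.1 hy
    obtain ⟨g, rfl⟩ := QuotientGroup.mk'_surjective X g
    rw [← map_zpow, ← map_mul, ← map_mul, ((show Commute g z from hcomz g).zpow_right i).eq]
  haveI hWn : W.Normal := ⟨fun y hy g => by rw [hWc y hy g, mul_inv_cancel_right]; exact hy⟩
  let ρ : P →* (P ⧸ X) ⧸ W := (QuotientGroup.mk' W).comp π
  have hρz : ρ z = 1 := (QuotientGroup.eq_one_iff _).2 (mem_zpowers _)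
  have hρxw : ρ w * ρ x = ρ x * ρ w := by
    have hm : w * x * w⁻¹ ∈ Y := by
      show QuotientGroup.mk' Z (w * x * w⁻¹) ∈ Yb
      rw [map_mul, map_mul, map_inv]
      exact hYn.conj_mem _ (by rw [hYb]; exact mem_zpowers _) _
    obtain ⟨i, j, hij⟩ := hm |> hYmem _
    have e1 : ρ (w * x * w⁻¹) = ρ x ^ i := by rw [hij, map_mul, map_zpow, map_zpow, hρz, one_zpow, mul_one]
    have hx2 : ρ x * ρ x = 1 := by
      show QuotientGroup.mk' W (π x) * QuotientGroup.mk' W (π x) = 1
      rw [← map_mul, hxx, map_one]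
    rw [map_mul, map_mul, map_inv] at e1
    rcases Int.even_or_odd' i with ⟨l, rfl | rfl⟩
    · rw [zpow_mul, zpow_two, hx2, one_zpow, conj_eq_one_iff] at e1
      rw [e1, one_mul, mul_one]
    · rw [zpow_add, zpow_mul, zpow_two, hx2, one_zpow, one_mul, zpow_one, mul_inv_eq_iff_eq_mul] at e1
      exact e1
  have hρgen : ∀ g : P, ∃ i j : ℤ, ρ g = ρ x ^ i * ρ w ^ j := by
    intro g
    obtain ⟨j, hj⟩ := mem_zpowers_iff.1 (hqb.ge (mem_top (QuotientGroup.mk' Yb (QuotientGroup.mk' Z g))))
    rw [← hw, ← map_zpow, ← map_zpow] at hj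
    have hm : (w ^ j)⁻¹ * g ∈ Y := by
      show QuotientGroup.mk' Z ((w ^ j)⁻¹ * g) ∈ Yb
      rw [map_mul, map_inv]
      exact QuotientGroup.eq.1 hj
    obtain ⟨i, l, hil⟩ := hYmem _ hm
    refine ⟨i, j, ?_⟩
    have e : g = w ^ j * (x ^ i * z ^ l) := by rw [← hil, mul_inv_cancel_left]
    rw [e, map_mul, map_mul, map_zpow, map_zpow, map_zpow, hρz, one_zpow, mul_one]
    exact ((show Commute (ρ w) (ρ x) from hρxw).zpow_zpow j i).eq
  have hcW : π c ∈ W := by
    rw [← QuotientGroup.eq_one_iff]
    show ρ c = 1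
    rw [hc, map_commutatorElement, commutatorElement_eq_one_iff_mul_comm]
    obtain ⟨i, j, e1⟩ := hρgen a
    obtain ⟨i', j', e2⟩ := hρgen b
    rw [e1, e2]
    have h : Commute (ρ x) (ρ w) := hρxw.symm
    exact ((((Commute.refl _).zpow_zpow i i').mul_right (h.zpow_zpow i j')).mul_left
      ((h.symm.zpow_zpow j i').mul_right ((Commute.refl _).zpow_zpow j j'))).eq
  have hKX : K ≤ X := by
    refine normalClosure_le_normal ?_
    rintro y (rfl | ⟨g, rfl⟩) <;> rw [SetLike.mem_coe, ← QuotientGroup.eq_one_iff]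
    · show π (c * c) = 1
      rw [map_mul]
      obtain ⟨i, hi⟩ := mem_zpowers_iff.1 hcW
      rw [← hi, ← map_zpow, ← map_mul, ← (Commute.refl z).mul_zpow, hz2, one_zpow, map_one]
    · show π ⁅c, g⁆ = 1
      rw [map_commutatorElement, commutatorElement_eq_one_iff_mul_comm]
      exact (hWc _ hcW _).symm
  exact hzx (zpowers_le.2 (mul_mem (mem_zpowers x) (mem_zpowers x)) (hKX hzK))


/-- A finite 2-group of sectional 2-rank at most 2 (every section has no elementary abelian subgroup of order 8) is metacyclic: it has a cyclic normal subgroup with cyclic quotient. -/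
theorem result {S : Type*} [Group S] [Finite S] (h2 : IsPGroup 2 S) (hr : Cfsg.SectionalPRankLE 2 2 S) : Cfsg.IsMetacyclic S := by
  exact metacyclic _ S rfl h2 hr

end Cfsg.Agent.S4397
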