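import Cfsg.Statements.S4401
import Cfsg.Agent.Lib.PGroup.RankFourPairs

set_option autoImplicit false
open Cfsg

namespace Cfsg.Agent.S4401
open CfsgLib.PGroup
open scoped Pointwise


/-- Let S be a finite 2-group of sectional 2-rank at most 4 and P a proper non-abelian subgroup whose centre has order 2. Let S₀ be the centralizer in S of Z(P) and suppose P is normal in S₀. Then either S₀ = S, or P has sectional 2-rank at most 2 and S₀ has index 2 in S. -/
theorem result {S : Type*} [Group S] [Finite S] (h2 : IsPGroup 2 S) (hr : Cfsg.SectionalPRankLE 2 4 S)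
    (P : Subgroup S) (hPlt : P ≠ ⊤) (hP : ¬ IsMulCommutative ↥P) (hZP : Nat.card ↥(Subgroup.center ↥P) = 2)
    (S₀ : Subgroup S) (hS₀ : S₀ = Subgroup.centralizer (((Subgroup.center ↥P).map P.subtype : Subgroup S) : Set S))
    (hPn : ∀ s ∈ S₀, ∀ x ∈ P, s * x * s⁻¹ ∈ P) :
    S₀ = ⊤ ∨ (Cfsg.SectionalPRankLE 2 2 ↥P ∧ S₀.index = 2) := by
  haveI : Fact (Nat.Prime 2) := ⟨Nat.prime_two⟩
  obtain ⟨z, hzP, hz1, hzz, hzc, hcenP, hmapP⟩ := RankFour.exists_center_gen (P := P) hZP
  have hS0 : S₀ = Subgroup.centralizer ({z} : Set S) := by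
    rw [hS₀, hmapP, Subgroup.zpowers_eq_closure, Subgroup.centralizer_closure]
  have hmem0 : ∀ g : S, g ∈ S₀ ↔ g * z * g⁻¹ = z := fun g => by
    rw [hS0, Subgroup.mem_centralizer_singleton_iff, mul_inv_eq_iff_eq_mul]
  have hP0 : P ≤ S₀ := fun x hx => (hmem0 x).2 (by rw [hzc x hx, mul_inv_cancel_right])
  by_cases htop : S₀ = ⊤
  · exact Or.inl htop
  right
  haveI := h2.isNilpotent
  set N := Subgroup.normalizer (S₀ : Set S) with hN
  have hlt : S₀ < N := Group.normalizerCondition_of_isNilpotent S₀ (lt_top_iff_ne_top.2 htop)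
  have hcj : ∀ (g : S) (x : S), g ∈ N → x ∈ S₀ → g * x * g⁻¹ ∈ S₀ := fun g x hg hx =>
    (Subgroup.mem_normalizer_iff.1 hg x).1 hx
  -- conjugates of `P`
  have hnQ : ∀ g ∈ N, ∀ t ∈ S₀, ∀ x ∈ MulAut.conj g • P, t * x * t⁻¹ ∈ MulAut.conj g • P := by
    rintro g hg t ht _ ⟨x, hx, rfl⟩
    refine ⟨(g⁻¹ * t * g) * x * (g⁻¹ * t * g)⁻¹, hPn _ ?_ x hx, ?_⟩
    · have := hcj g⁻¹ t (inv_mem hg) ht
      rwa [inv_inv] at this
    · show g * ((g⁻¹ * t * g) * x * (g⁻¹ * t * g)⁻¹) * g⁻¹ = t * (g * x * g⁻¹) * t⁻¹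
      group
  have hQ0 : ∀ g ∈ N, MulAut.conj g • P ≤ S₀ := by
    rintro g hg _ ⟨x, hx, rfl⟩
    exact hcj g x hg (hP0 hx)
  have hcenQ : ∀ (g : S), ∀ x ∈ MulAut.conj g • P, (∀ y ∈ MulAut.conj g • P, y * x = x * y) →
      x = 1 ∨ x = g * z * g⁻¹ := by
    rintro g _ ⟨x, hx, rfl⟩ hall
    rcases hcenP x hx (fun y hy => by
      have h := hall (g * y * g⁻¹) ⟨y, hy, rfl⟩
      change g * y * g⁻¹ * (g * x * g⁻¹) = g * x * g⁻¹ * (g * y * g⁻¹) at h
      calc y * x = g⁻¹ * (g * y * g⁻¹ * (g * x * g⁻¹)) * g := by group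
        _ = _ := by rw [h]; group) with e | e
    · left; show g * x * g⁻¹ = 1; rw [e]; group
    · right; show g * x * g⁻¹ = _; rw [e]
  obtain ⟨s, hsN, hs0⟩ := SetLike.exists_of_lt hlt
  have hzs : z ≠ s * z * s⁻¹ := fun e => hs0 ((hmem0 s).2 e.symm)
  set Q := MulAut.conj s • P with hQdef
  have hzQ : s * z * s⁻¹ ∈ Q := ⟨z, hzP, rfl⟩
  have hnc : ∀ g : S, ¬ IsMulCommutative ↥(MulAut.conj g • P : Subgroup S) := fun g hc => hP ⟨⟨fun a b => by
    have h := congrArg Subtype.val (hc.is_comm.comm (⟨g * a * g⁻¹, ⟨a, a.2, rfl⟩⟩ : (MulAut.conj g • P : Subgroup S))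
      ⟨g * b * g⁻¹, ⟨b, b.2, rfl⟩⟩)
    change g * a * g⁻¹ * (g * b * g⁻¹) = g * b * g⁻¹ * (g * a * g⁻¹) at h
    refine Subtype.ext ?_
    show (a : S) * b = b * a
    calc (a : S) * b = g⁻¹ * (g * a * g⁻¹ * (g * b * g⁻¹)) * g := by group
      _ = _ := by rw [h]; group⟩⟩
  obtain ⟨hbot, hcomm⟩ := RankFour.inf_eq_bot h2 hP0 (hQ0 s hsN) hPn (hnQ s hsN) hzP hz1 hzc hcenP
    (hcenQ s) hzs
  have hC := RankFour.centralizer_le h2 hr (K := S₀) hP (hnc s) hzP hzQ hcenP (hcenQ s) hbot hcomm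
  have hPQ : ∀ r ∈ P ⊔ Q, ∃ a ∈ P, ∃ b ∈ Q, a * b = r := fun r hr' =>
    RankFour.exists_mul_of_mem_sup (fun q hq => Subgroup.centralizer_le_normalizer _ fun a ha => hcomm a ha q hq) hr'
  -- the centralizer of `P ⊔ Q` in `S₀`
  have hV : ∀ c ∈ S₀, (∀ x ∈ P, x * c = c * x) → (∀ y ∈ Q, y * c = c * y) →
      c = 1 ∨ c = z ∨ c = s * z * s⁻¹ ∨ c = z * (s * z * s⁻¹) := by
    intro c hc hcP hcQ
    have hm : c ∈ P ⊔ Q := hC ⟨Subgroup.mem_centralizer_iff.2 fun r hr' => by
      obtain ⟨a, ha, b, hb, rfl⟩ := hPQ r hr'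
      exact ((show Commute a c from hcP a ha).mul_left (show Commute b c from hcQ b hb)).eq, hc⟩
    obtain ⟨a, ha, b, hb, rfl⟩ := hPQ c hm
    have ha' := hcenP a ha fun y hy => by
      have h1 : Commute y (a * b) := hcP y hy
      have h2' : Commute y b⁻¹ := (show Commute y b from hcomm y hy b hb).inv_right
      have h3 := h1.mul_right h2'
      rw [mul_inv_cancel_right] at h3
      exact h3.eq
    have hb' := hcenQ s b hb fun y hy => by
      have h1 : Commute y (a * b) := hcQ y hy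
      have h2' : Commute y a⁻¹ := (show Commute y a from (hcomm a ha y hy).symm).inv_right
      have h3 := h2'.mul_right h1
      rw [inv_mul_cancel_left] at h3
      exact h3.eq
    rcases ha' with rfl | rfl <;> rcases hb' with rfl | rfl <;> simp
  refine ⟨?_, ?_⟩
  · -- rank of `P`
    intro H M _ A hAc hA
    let f₁ : ↥H →* S := P.subtype.comp H.subtype
    let f₂ : ↥H →* S := (MulAut.conj s).toMonoidHom.comp (P.subtype.comp H.subtype)
    let ι : ↥H × ↥H →* S := MonoidHom.noncommCoprod f₁ f₂ fun a b => hcomm _ a.1.2 _ ⟨_, b.1.2, rfl⟩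
    have hι : Function.Injective ι := by
      rw [injective_iff_map_eq_one]
      rintro ⟨a, b⟩ hab
      change f₁ a * f₂ b = 1 at hab
      have hm : f₁ a ∈ P ⊓ Q := by
        refine ⟨a.1.2, ?_⟩
        show f₁ a ∈ Q
        rw [eq_inv_of_mul_eq_one_left hab]
        exact inv_mem ⟨_, b.1.2, rfl⟩
      rw [hbot, Subgroup.mem_bot] at hm
      rw [hm, one_mul] at hab
      refine Prod.ext (Subtype.ext (Subtype.ext hm)) (Subtype.ext (Subtype.ext ?_))
      have hb1 : s * ((b : P) : S) * s⁻¹ = 1 := hab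
      exact conj_eq_one_iff.1 hb1
    haveI := hAc
    have h4 := RankFour.card_le_of_hom hr ι hι ((QuotientGroup.mk' M).prodMap (QuotientGroup.mk' M)) (A.prod A)
      (fun y _ => by
        obtain ⟨u, hu⟩ := QuotientGroup.mk'_surjective M y.1
        obtain ⟨v, hv⟩ := QuotientGroup.mk'_surjective M y.2
        exact ⟨(u, v), Prod.ext hu hv⟩)
      ⟨⟨fun u v => Subtype.ext (Prod.ext
        (congrArg Subtype.val (mul_comm' (⟨u.1.1, u.2.1⟩ : A) ⟨v.1.1, v.2.1⟩))
        (congrArg Subtype.val (mul_comm' (⟨u.1.2, u.2.2⟩ : A) ⟨v.1.2, v.2.2⟩)))⟩⟩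
      (fun y hy => Prod.ext (hA y.1 hy.1) (hA y.2 hy.2))
    rw [Nat.card_congr (Subgroup.prodEquiv A A).toEquiv, Nat.card_prod] at h4
    nlinarith
  · -- index two
    have htwo : ∀ t ∈ N, t ∉ S₀ → s⁻¹ * t ∈ S₀ := by
      intro t htN ht0
      by_contra hst
      have hzt : z ≠ t * z * t⁻¹ := fun e => ht0 ((hmem0 t).2 e.symm)
      have hzst : s * z * s⁻¹ ≠ t * z * t⁻¹ := fun e => hst ((hmem0 _).2 (by
        calc s⁻¹ * t * z * (s⁻¹ * t)⁻¹ = s⁻¹ * (t * z * t⁻¹) * s := by group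
          _ = z := by rw [← e]; group))
      obtain ⟨-, hc1⟩ := RankFour.inf_eq_bot h2 hP0 (hQ0 t htN) hPn (hnQ t htN) hzP hz1 hzc hcenP (hcenQ t) hzt
      obtain ⟨-, hc2⟩ := RankFour.inf_eq_bot h2 (hQ0 s hsN) (hQ0 t htN) (hnQ s hsN) (hnQ t htN) hzQ
        (fun e => hz1 (conj_eq_one_iff.1 e))
        (by
          rintro _ ⟨x, hx, rfl⟩
          show s * x * s⁻¹ * (s * z * s⁻¹) = s * z * s⁻¹ * (s * x * s⁻¹)
          calc _ = s * (x * z) * s⁻¹ := by group
            _ = _ := by rw [hzc x hx]; group)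
        (hcenQ s) (hcenQ t) hzst
      refine hnc t ⟨⟨fun a b => Subtype.ext ?_⟩⟩
      have key : ∀ a : (MulAut.conj t • P : Subgroup S), ∀ b : (MulAut.conj t • P : Subgroup S),
          (a : S) * b = b * a := by
        intro a b
        have hm := hV a (hQ0 t htN a.2) (fun x hx => hc1 x hx a a.2) (fun y hy => hc2 y hy a a.2)
        have k1 : Commute z (b : S) := hc1 z hzP b b.2
        have k2 : Commute (s * z * s⁻¹) (b : S) := hc2 _ hzQ b b.2
        rcases hm with e | e | e | e <;> rw [e]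
        · simp
        · exact k1.eq
        · exact k2.eq
        · exact (k1.mul_left k2).eq
      exact key a b
    have hNidx : S₀.relIndex N = 2 := by
      rw [Subgroup.relIndex, Subgroup.index_eq_two_iff]
      refine ⟨⟨s⁻¹, inv_mem hsN⟩, fun b => ?_⟩
      simp only [Subgroup.mem_subgroupOf, Subgroup.coe_mul, xor_iff_not_iff]
      by_cases hb : (b : S) ∈ S₀
      · refine fun h => hs0 ?_
        have := mul_mem (inv_mem hb) (h.2 hb)
        rwa [inv_mul_cancel_left, inv_mem_iff] at this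
      · refine fun h => hb (h.1 ?_)
        have hb' : (b : S)⁻¹ ∈ N ∧ (b : S)⁻¹ ∉ S₀ := ⟨inv_mem b.2, by rwa [inv_mem_iff]⟩
        have := htwo _ hb'.1 hb'.2
        rw [← inv_mem_iff, mul_inv_rev, inv_inv, inv_inv] at this
        have e := hcj s⁻¹ _ (inv_mem hsN) this
        rw [inv_inv] at e
        have hsq : (b : S) * s⁻¹ = (b * s) * (s * s)⁻¹ := by group
        rw [hsq]
        refine mul_mem this (inv_mem ?_)
        by_contra hss
        have := htwo (s * s) (mul_mem hsN hsN) hss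
        rw [inv_mul_cancel_left] at this
        exact hs0 this
    by_cases hNtop : N = ⊤
    · rw [← Subgroup.relIndex_top_right, ← hNtop]; exact hNidx
    exfalso
    obtain ⟨u, huN, huN'⟩ := SetLike.exists_of_lt (Group.normalizerCondition_of_isNilpotent N (lt_top_iff_ne_top.2 hNtop))
    set zs := s * z * s⁻¹ with hzsdef
    have hss : s * s ∈ S₀ := by
      by_contra hss
      have := htwo (s * s) (mul_mem hsN hsN) hss
      rw [inv_mul_cancel_left] at this
      exact hs0 this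
    have hswap : s * zs * s⁻¹ = z := by
      rw [hzsdef]
      calc s * (s * z * s⁻¹) * s⁻¹ = (s * s) * z * (s * s)⁻¹ := by group
        _ = z := (hmem0 _).1 hss
    have hzsS0 : zs ∈ S₀ := hQ0 s hsN hzQ
    have hzzs : z * zs = zs * z := hcomm z hzP zs hzQ
    have hout : ∀ g ∈ N, g ∉ S₀ → g * z * g⁻¹ = zs ∧ g * zs * g⁻¹ = z := by
      intro g hg hg0
      have h1 := htwo g hg hg0
      obtain ⟨e, he, rfl⟩ : ∃ e ∈ S₀, g = s * e := ⟨_, h1, by group⟩
      have e1 := (hmem0 e).1 he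
      have e2 : e * zs * e⁻¹ = zs := by
        have h5 := hcj s⁻¹ e (inv_mem hsN) he
        rw [inv_inv] at h5
        have h6 := (hmem0 _).1 h5
        calc e * zs * e⁻¹ = s * ((s⁻¹ * e * s) * z * (s⁻¹ * e * s)⁻¹) * s⁻¹ := by rw [hzsdef]; group
          _ = zs := by rw [h6]
      exact ⟨by rw [show s * e * z * (s * e)⁻¹ = s * (e * z * e⁻¹) * s⁻¹ by group, e1],
        by rw [show s * e * zs * (s * e)⁻¹ = s * (e * zs * e⁻¹) * s⁻¹ by group, e2, hswap]⟩
    have hin : ∀ g ∈ S₀, g * z * g⁻¹ = z ∧ g * zs * g⁻¹ = zs := by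
      intro g hg
      refine ⟨(hmem0 g).1 hg, ?_⟩
      have h5 := hcj s⁻¹ g (inv_mem hsN) hg
      rw [inv_inv] at h5
      have h6 := (hmem0 _).1 h5
      calc g * zs * g⁻¹ = s * ((s⁻¹ * g * s) * z * (s⁻¹ * g * s)⁻¹) * s⁻¹ := by rw [hzsdef]; group
        _ = zs := by rw [h6]
    set ω := z * zs with hω
    have hωN : ∀ g ∈ N, g * ω * g⁻¹ = ω := by
      intro g hg
      rw [hω, show g * (z * zs) * g⁻¹ = (g * z * g⁻¹) * (g * zs * g⁻¹) by group]
      by_cases hg0 : g ∈ S₀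
      · rw [(hin g hg0).1, (hin g hg0).2]
      · rw [(hout g hg hg0).1, (hout g hg hg0).2]
        exact (hcomm z hzP zs hzQ).symm
    have hzN : z ∈ N := hlt.le (hP0 hzP)
    have hzsN : zs ∈ N := hlt.le hzsS0
    have hu : ∀ g ∈ N, u * g * u⁻¹ ∈ N := fun g hg => (Subgroup.mem_normalizer_iff.1 huN g).1 hg
    have hu' : ∀ g ∈ N, u⁻¹ * g * u ∈ N := fun g hg => (Subgroup.mem_normalizer_iff''.1 huN g).1 hg
    set z' := u * z * u⁻¹ with hz'
    set z'' := u * zs * u⁻¹ with hz''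
    set ω' := u * ω * u⁻¹ with hω'
    have hωeq : ω' = ω := by
      have hc : ∀ g ∈ N, g * ω' = ω' * g := by
        intro g hg
        have := hωN _ (hu' g hg)
        rw [mul_inv_eq_iff_eq_mul] at this
        calc g * ω' = u * (u⁻¹ * g * u * ω) * u⁻¹ := by rw [hω']; group
          _ = u * (ω * (u⁻¹ * g * u)) * u⁻¹ := by rw [this]
          _ = _ := by rw [hω']; group
      have hω0 : ω' ∈ S₀ := (hmem0 _).2 (by rw [← hc z hzN, mul_inv_cancel_right])
      have hω1 : ω ≠ 1 := fun e => hzs (by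
        rw [hω, mul_eq_one_iff_eq_inv] at e
        rw [← inv_eq_of_mul_eq_one_left (show zs * zs = 1 by
          rw [hzsdef, show s * z * s⁻¹ * (s * z * s⁻¹) = s * (z * z) * s⁻¹ by group, hzz]; group)]
        exact e)
      rcases hV ω' hω0 (fun x hx => hc x (hlt.le (hP0 hx))) (fun y hy => hc y (hlt.le (hQ0 s hsN hy))) with e | e | e | e
      · exact absurd (conj_eq_one_iff.1 e) hω1
      · exfalso
        have := hc s hsN
        rw [e] at this
        exact hzs (by rw [hzsdef, this, mul_inv_cancel_right])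
      · exfalso
        have := hc s hsN
        rw [e] at this
        have h' : s * zs * s⁻¹ = zs := by rw [this, mul_inv_cancel_right]
        exact hzs (hswap.symm.trans h')
      · exact e
    have huS : u ∉ S₀ := fun h => huN' (hlt.le h)
    have hsu : s⁻¹ * u ∉ S₀ := fun h => huN' (by
      have := mul_mem hsN (hlt.le h)
      rwa [mul_inv_cancel_left] at this)
    have hz'ne : z' ≠ 1 ∧ z' ≠ z ∧ z' ≠ zs ∧ z' ≠ ω := by
      refine ⟨fun e => hz1 (conj_eq_one_iff.1 e), fun e => huS ((hmem0 u).2 e), fun e => hsu ((hmem0 _).2 ?_),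
        fun e => ?_⟩
      · calc s⁻¹ * u * z * (s⁻¹ * u)⁻¹ = s⁻¹ * z' * s := by rw [hz']; group
          _ = z := by rw [e, hzsdef]; group
      · have h1 : z = ω := by
          have : u * z * u⁻¹ = u * ω * u⁻¹ := by rw [← hω', hωeq]; exact e
          exact mul_left_cancel (mul_right_cancel this)
        rw [hω, left_eq_mul] at h1
        exact hz1 (conj_eq_one_iff.1 h1)
    have hprod : z' * z'' = ω := by
      rw [← hωeq, hω', hω, hz', hz'']; group
    have hz'2 : z' * z' = 1 := by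
      rw [hz', show u * z * u⁻¹ * (u * z * u⁻¹) = u * (z * z) * u⁻¹ by group, hzz]; group
    have hz''z : z'' = z' * ω := by rw [← hprod, ← mul_assoc, hz'2, one_mul]
    -- conjugation in `N` permutes `z', z''`
    have hperm : ∀ g ∈ N, g * z' * g⁻¹ = z' ∨ g * z' * g⁻¹ = z'' := by
      intro g hg
      by_cases h0 : u⁻¹ * g * u ∈ S₀
      · left
        calc g * z' * g⁻¹ = u * ((u⁻¹ * g * u) * z * (u⁻¹ * g * u)⁻¹) * u⁻¹ := by rw [hz']; group
          _ = z' := by rw [(hin _ h0).1]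
      · right
        calc g * z' * g⁻¹ = u * ((u⁻¹ * g * u) * z * (u⁻¹ * g * u)⁻¹) * u⁻¹ := by rw [hz']; group
          _ = z'' := by rw [(hout _ (hu' g hg) h0).1]
    by_cases hz0 : z' ∈ S₀
    · have hωP : ω ∉ P := fun h => by
        have hzsP : zs ∈ P := by
          have := mul_mem (inv_mem hzP) h
          rwa [hω, inv_mul_cancel_left] at this
        have : zs ∈ (⊥ : Subgroup S) := hbot ▸ ⟨hzsP, hzQ⟩
        exact hz1 (conj_eq_one_iff.1 (Subgroup.mem_bot.1 this))
      have hωQ : ω ∉ Q := fun h => by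
        have hzQ' : z ∈ Q := by
          have := mul_mem h (inv_mem hzQ)
          rwa [hω, mul_inv_cancel_right] at this
        exact hz1 (Subgroup.mem_bot.1 (hbot ▸ ⟨hzP, hzQ'⟩))
      have hcent : ∀ (R : Subgroup S), R ≤ S₀ → (∀ x ∈ R, z' * x * z'⁻¹ ∈ R) → ω ∉ R → ∀ x ∈ R, x * z' = z' * x := by
        intro R hR0 hnR hω0 x hx
        rcases hperm x (hlt.le (hR0 hx)) with e | e
        · exact mul_inv_eq_iff_eq_mul.1 e
        · exfalso
          refine hω0 ?_
          have hm : x * (z' * x⁻¹ * z'⁻¹) ∈ R := mul_mem hx (hnR _ (inv_mem hx))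
          rw [show x * (z' * x⁻¹ * z'⁻¹) = (x * z' * x⁻¹) * z'⁻¹ by group, e, hz''z,
            inv_eq_of_mul_eq_one_left hz'2,
            show z' * ω * z' = z' * ω * z'⁻¹ * (z' * z') by group, hz'2, mul_one, hωN z' (hlt.le hz0)] at hm
          exact hm
      rcases hV z' hz0 (hcent P hP0 (hPn z' hz0) hωP) (hcent Q (hQ0 s hsN) (hnQ s hsN z' hz0) hωQ) with e | e | e | e
      · exact hz'ne.1 e
      · exact hz'ne.2.1 e
      · exact hz'ne.2.2.1 e
      · exact hz'ne.2.2.2 e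
    · refine hP ⟨⟨fun a b => Subtype.ext ?_⟩⟩
      have hz'N : z' ∈ N := hu z hzN
      have hall : ∀ x ∈ P, x = 1 ∨ x = z := by
        intro x hx
        set q := z' * x * z'⁻¹ with hq
        have hqQ : q ∈ Q := by
          have h1 := htwo z' hz'N hz0
          refine ⟨s⁻¹ * q * s, ?_, by show s * (s⁻¹ * q * s) * s⁻¹ = q; group⟩
          have := hPn _ h1 x hx
          rwa [show s⁻¹ * z' * x * (s⁻¹ * z')⁻¹ = s⁻¹ * q * s by rw [hq]; group] at this
        have hy : x⁻¹ * q = 1 ∨ x⁻¹ * q = ω := by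
          rcases hperm x⁻¹ (inv_mem (hlt.le (hP0 hx))) with e | e
          · left
            rw [inv_inv] at e
            rw [hq, show x⁻¹ * (z' * x * z'⁻¹) = (x⁻¹ * z' * x) * z'⁻¹ by group, e, mul_inv_cancel]
          · right
            rw [inv_inv] at e
            rw [hq, show x⁻¹ * (z' * x * z'⁻¹) = (x⁻¹ * z' * x) * z'⁻¹ by group, e, hz''z,
              inv_eq_of_mul_eq_one_left hz'2,
              show z' * ω * z' = z' * ω * z'⁻¹ * (z' * z') by group, hz'2, mul_one, hωN z' hz'N]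
        rcases hy with e | e
        · left
          rw [inv_mul_eq_one] at e
          exact Subgroup.mem_bot.1 (hbot ▸ ⟨hx, e ▸ hqQ⟩)
        · right
          have e' : x * z = q * zs⁻¹ := by
            rw [inv_mul_eq_iff_eq_mul] at e
            rw [e, hω]; group
          have : x * z ∈ (⊥ : Subgroup S) := hbot ▸ ⟨show _ ∈ P from mul_mem hx hzP, show _ ∈ Q by rw [e']; exact mul_mem hqQ (inv_mem hzQ)⟩
          rw [Subgroup.mem_bot, mul_eq_one_iff_eq_inv] at this
          rw [this, inv_eq_of_mul_eq_one_left hzz]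
      show (a : S) * b = b * a
      rcases hall a a.2 with e | e <;> rw [e]
      · simp
      · exact (hzc b b.2).symm

end Cfsg.Agent.S4401
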