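import Cfsg.Statements.S4403
import Cfsg.Agent.Lib.Cores.Layer

set_option autoImplicit false
open Cfsg

namespace Cfsg.Agent.S4403
open Subgroup
open scoped commutatorElement Pointwise

set_option maxHeartbeats 1000000

variable {G : Type*} [Group G] [Finite G] {p : ℕ} [Fact p.Prime]

omit [Finite G] in
/-- An element inducing a power map congruent to one modulo `p` has a `p`-power centralizing `P`. -/
private theorem pow_mem_centralizer (g x : G) (n : ℕ) (a : ℤ) (hx : x ^ p ^ n = 1)
    (hg : g * x * g⁻¹ = x ^ a) (ha : (p : ℤ) ∣ a - 1) :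
    g ^ p ^ n * x = x * g ^ p ^ n := by
  have hit : ∀ k : ℕ, g ^ k * x * (g ^ k)⁻¹ = x ^ (a ^ k) := by
    intro k
    induction k with
    | zero => simp
    | succ k ih =>
      calc g ^ (k + 1) * x * (g ^ (k + 1))⁻¹ = g * (g ^ k * x * (g ^ k)⁻¹) * g⁻¹ := by rw [pow_succ']; group
        _ = (g * x * g⁻¹) ^ (a ^ k) := by rw [ih, conj_zpow]
        _ = _ := by rw [hg, ← zpow_mul, ← pow_succ']
  obtain ⟨c, hc⟩ := dvd_sub_pow_of_dvd_sub ha n
  rw [one_pow] at hc
  have h2 := hit (p ^ n)
  rw [show a ^ p ^ n = ((p ^ n : ℕ) : ℤ) * (p * c) + 1 by rw [← sub_add_cancel (a ^ p ^ n) 1, hc]; push_cast; ring,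
    zpow_add, zpow_mul, zpow_natCast, hx, one_zpow, one_mul, zpow_one] at h2
  exact mul_inv_eq_iff_eq_mul.1 h2

/-- An element of prime-to-`p` order modulo `N` with a `p`-power in `N` lies in `N`. -/
private theorem mem_of_pow_mem (N : Subgroup G) [N.Normal] (hN : ¬ p ∣ N.index) {g : G} {n : ℕ}
    (hg : g ^ p ^ n ∈ N) : g ∈ N := by
  rw [← QuotientGroup.eq_one_iff] at hg ⊢
  rw [QuotientGroup.mk_pow] at hg
  refine orderOf_eq_one_iff.1 (Nat.eq_one_of_dvd_coprimes ?_ (orderOf_dvd_of_pow_eq_one hg)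
    (orderOf_dvd_natCard _))
  exact Nat.Coprime.pow_left _ ((Fact.out : p.Prime).coprime_iff_not_dvd.2 hN)

/-- Transfer: a central `p`-element of the derived group is trivial when Sylow groups are abelian. -/
private theorem central_eq_one (Q : Sylow p G) [IsMulCommutative (Q : Subgroup G)] {z : G}
    (hz : z ∈ center G) (hzG : z ∈ _root_.commutator G) (hzp : ∃ n : ℕ, z ^ p ^ n = 1) : z = 1 := by
  open scoped IsMulCommutative in
  set τ := MonoidHom.transfer (MonoidHom.id (Q : Subgroup G)) with hτ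
  have h1 : τ z = 1 := Abelianization.commutator_subset_ker τ hzG
  have hzQ : z ∈ (Q : Subgroup G) := by
    obtain ⟨n, hn⟩ := hzp
    have hp : IsPGroup p (zpowers z) := fun y => ⟨n, by
      obtain ⟨j, hj⟩ := mem_zpowers_iff.1 y.2
      refine Subtype.ext ?_
      rw [SubmonoidClass.coe_pow, OneMemClass.coe_one, ← hj, ← zpow_natCast, ← zpow_mul, mul_comm, zpow_mul,
        zpow_natCast, hn, one_zpow]⟩
    have hn' : zpowers z ≤ normalizer ((Q : Subgroup G) : Set G) :=
      zpowers_le.2 (centralizer_le_normalizer _ fun y _ => mem_center_iff.1 hz y)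
    rw [← Q.3 (hp.to_sup_of_normal_right' Q.2 hn') le_sup_right]
    exact mem_sup_left (mem_zpowers z)
  have key : ∀ (k : ℕ) (g₀ : G), g₀⁻¹ * z ^ k * g₀ ∈ (Q : Subgroup G) → g₀⁻¹ * z ^ k * g₀ = z ^ k := by
    intro k g₀ _
    rw [mul_assoc, ← mem_center_iff.1 (pow_mem hz k) g₀, inv_mul_cancel_left]
  open scoped IsMulCommutative in
  have h2 : τ z = MonoidHom.id _ ⟨z ^ (Q : Subgroup G).index, _⟩ := MonoidHom.transfer_eq_pow _ z key
  rw [h1] at h2
  have h3 : z ^ (Q : Subgroup G).index = 1 := (congrArg Subtype.val h2).symm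
  obtain ⟨n, hn⟩ := hzp
  exact orderOf_eq_one_iff.1 (Nat.eq_one_of_dvd_coprimes
    (Nat.Coprime.pow_left n ((Fact.out : p.Prime).coprime_iff_not_dvd.2 Q.not_dvd_index))
    (orderOf_dvd_of_pow_eq_one hn) (orderOf_dvd_of_pow_eq_one h3))

omit [Fact p.Prime] in
/-- In a cyclic group elements of the same order generate the same subgroup. -/
private theorem mem_zpowers_of_orderOf {A : Type*} [Group A] [Finite A] [IsCyclic A] {y y' : A}
    (h : orderOf y = orderOf y') : y ∈ zpowers y' := by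
  classical
  letI := Fintype.ofFinite A
  set S := Finset.univ.filter fun a : A => a ^ orderOf y' = 1
  set T := Finset.univ.filter fun a : A => a ∈ zpowers y'
  have hTS : T ⊆ S := fun a ha => by
    simp only [T, S, Finset.mem_filter, Finset.mem_univ, true_and] at ha ⊢
    obtain ⟨j, rfl⟩ := mem_zpowers_iff.1 ha
    rw [← zpow_natCast, ← zpow_mul, mul_comm, zpow_mul, zpow_natCast, pow_orderOf_eq_one, one_zpow]
  have hTc : T.card = orderOf y' := by
    rw [← Fintype.card_zpowers, Fintype.card_subtype]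
  have he := Finset.eq_of_subset_of_card_le hTS ((IsCyclic.card_pow_eq_one_le (orderOf_pos y')).trans hTc.ge)
  have hy : y ∈ S := by
    simp only [S, Finset.mem_filter, Finset.mem_univ, true_and, ← h, pow_orderOf_eq_one]
  rw [← he] at hy
  simpa [T] using hy

omit [Finite G] [Fact p.Prime] in
private theorem relIndex_eq_of_normal {E P : Subgroup G} [E.Normal] (hfin : (P ⊓ E).relIndex P ≠ 0) :
    P.relIndex E ∣ P.index := by
  have h1 := relIndex_mul_relIndex (P ⊓ E) P (E ⊔ P) inf_le_left le_sup_right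
  have h2 := relIndex_mul_relIndex (P ⊓ E) E (E ⊔ P) inf_le_right le_sup_left
  rw [relIndex_sup_left (K := E) (H := P), inf_relIndex_right P E] at h2
  rw [inf_relIndex_left] at h1 hfin
  rw [← h1, mul_comm] at h2
  rw [mul_left_cancel₀ hfin h2]
  exact relIndex_dvd_index_of_le le_sup_right


/-- Let K be a finite group, p a prime dividing its order with O_{p'}(K) = 1 (no nontrivial normal subgroup of order prime to p), and P a cyclic Sylow p-subgroup of K. Then either P is normal and self-centralizing in K with K/P cyclic of order dividing p − 1 (so K is the semidirect product of P by a group of automorphisms of P of order dividing p − 1), or the generalized Fitting subgroup F*(K) is a non-abelian simple group and p does not divide the index of F*(K) in K. -/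
theorem result {K : Type*} [Group K] [Finite K] (p : ℕ) [Fact p.Prime] (hp : p ∣ Nat.card K) (hO : Cfsg.pPrimeCore p K = ⊥)
    (P : Sylow p K) (hP : IsCyclic ↥(P : Subgroup K)) :
    ((P : Subgroup K).Normal ∧ Subgroup.centralizer ((P : Subgroup K) : Set K) = (P : Subgroup K) ∧
      (∀ (_ : (P : Subgroup K).Normal), IsCyclic (K ⧸ (P : Subgroup K))) ∧ (P : Subgroup K).index ∣ p - 1) ∨
    (IsSimpleGroup ↥(Cfsg.generalizedFittingSubgroup K) ∧ ¬ IsMulCommutative ↥(Cfsg.generalizedFittingSubgroup K) ∧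
      ¬ p ∣ (Cfsg.generalizedFittingSubgroup K).index) := by
  classical
  have hpp : p.Prime := Fact.out
  haveI := hP
  haveI : Nontrivial K := Finite.one_lt_card_iff_nontrivial.1
    (lt_of_lt_of_le hpp.one_lt (Nat.le_of_dvd Nat.card_pos hp))
  -- the Fitting subgroup
  have hF : Cfsg.fittingSubgroup K = Cfsg.pCore p K := by
    refine le_antisymm ((CfsgLib.Cores.fittingSubgroup_le_iSup_pCore).trans (iSup_le fun q => ?_))
      (CfsgLib.Cores.pCore_le_fittingSubgroup p)
    obtain ⟨q, hq0⟩ := q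
    have hq : q.Prime := Nat.prime_of_mem_primeFactors hq0
    by_cases hqp : q = p
    · subst hqp; exact le_rfl
    · haveI := Fact.mk hq
      refine le_trans ?_ (hO.le.trans bot_le)
      refine sSup_le fun N hN => le_sSup ⟨hN.1, ?_⟩
      obtain ⟨n, hn⟩ := IsPGroup.iff_card.1 hN.2
      rw [hn]
      exact Nat.Coprime.pow_left _ ((Nat.coprime_primes hq hpp).2 hqp)
  haveI hFn : (Cfsg.fittingSubgroup K).Normal := CfsgLib.Cores.fittingSubgroup_normal
  have hFP : Cfsg.fittingSubgroup K ≤ (P : Subgroup K) := by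
    rw [hF]
    exact CfsgLib.Cores.pCore_le_sylow P
  obtain ⟨x, hx⟩ := (Subgroup.isCyclic_iff_exists_zpowers_eq_top (P : Subgroup K)).1 hP
  obtain ⟨n, hn⟩ := IsPGroup.iff_card.1 P.2
  have hxn : x ^ p ^ n = 1 := by rw [← hn, ← hx, Nat.card_zpowers, pow_orderOf_eq_one]
  by_cases hL : Cfsg.layer K = ⊥
  · -- `P` is normal
    left
    have hgf : Cfsg.generalizedFittingSubgroup K = Cfsg.fittingSubgroup K := by
      rw [Cfsg.generalizedFittingSubgroup, hL, bot_sup_eq]
    have hCF := CfsgLib.Cores.centralizer_generalizedFittingSubgroup_le (G := K)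
    rw [hgf] at hCF
    have hPF : (P : Subgroup K) = Cfsg.fittingSubgroup K := by
      refine le_antisymm (fun y hy => hCF fun z hz => ?_) hFP
      exact congrArg Subtype.val (mul_comm' (⟨z, hFP hz⟩ : (P : Subgroup K)) ⟨y, hy⟩)
    have hPn : (P : Subgroup K).Normal := hPF ▸ hFn
    have hCP : Subgroup.centralizer ((P : Subgroup K) : Set K) = (P : Subgroup K) := by
      refine le_antisymm (fun y hy => ?_) fun y hy z hz =>
        congrArg Subtype.val (mul_comm' (⟨z, hz⟩ : (P : Subgroup K)) ⟨y, hy⟩)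
      rw [hPF] at hy ⊢
      exact hCF hy
    -- the action on the subgroup of order `p`
    have hn1 : 1 ≤ n := by
      by_contra hh
      push_neg at hh
      refine P.not_dvd_index ?_
      have := (P : Subgroup K).card_mul_index
      rw [hn, Nat.lt_one_iff.1 hh, pow_zero, one_mul] at this
      rwa [this]
    set w := x ^ p ^ (n - 1) with hw
    have hxo : orderOf x = p ^ n := by rw [← Nat.card_zpowers, hx, hn]
    have hwo : orderOf w = p := by
      rw [hw, orderOf_pow_of_dvd (pow_ne_zero _ hpp.ne_zero) (hxo ▸ pow_dvd_pow p (Nat.sub_le n 1)), hxo,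
        Nat.pow_div (Nat.sub_le n 1) hpp.pos, Nat.sub_sub_self hn1, pow_one]
    have hconj : ∀ g : K, ∃ a : ℤ, g * x * g⁻¹ = x ^ a := fun g => by
      have := hPn.conj_mem x (hx ▸ mem_zpowers x) g
      rw [← hx] at this
      obtain ⟨a, ha⟩ := Subgroup.mem_zpowers_iff.1 this
      exact ⟨a, ha.symm⟩
    haveI hWn : (Subgroup.zpowers w).Normal := ⟨fun y hy g => by
      obtain ⟨a, ha⟩ := hconj g
      obtain ⟨j, rfl⟩ := Subgroup.mem_zpowers_iff.1 hy
      rw [← conj_zpow, hw, ← conj_pow, ha,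
        show (x ^ a) ^ p ^ (n - 1) = (x ^ p ^ (n - 1)) ^ a by
          rw [← zpow_natCast, ← zpow_natCast, ← zpow_mul, ← zpow_mul, mul_comm]]
      exact zpow_mem (zpow_mem (mem_zpowers _) a) j⟩
    set φ : K →* MulAut (Subgroup.zpowers w) := MulAut.conjNormal with hφ
    have hker : φ.ker = (P : Subgroup K) := by
      refine le_antisymm (fun g hg => ?_) fun g hg => ?_
      · have hgw : g * w * g⁻¹ = w := by
          have := congrArg (fun e : MulAut (Subgroup.zpowers w) => ((e ⟨w, mem_zpowers w⟩ : Subgroup.zpowers w) : K))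
            (MonoidHom.mem_ker.1 hg)
          simpa [hφ, MulAut.conjNormal_apply] using this
        obtain ⟨a, ha⟩ := hconj g
        have hdvd : (p : ℤ) ∣ a - 1 := by
          rw [← hwo, orderOf_dvd_iff_zpow_eq_one, zpow_sub, zpow_one, mul_inv_eq_one]
          conv_rhs => rw [← hgw]
          rw [hw, ← conj_pow, ha, ← zpow_natCast, ← zpow_natCast, ← zpow_mul, ← zpow_mul, mul_comm]
        have h1 := pow_mem_centralizer g x n a hxn ha hdvd
        refine mem_of_pow_mem (p := p) _ P.not_dvd_index (n := n) ?_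
        rw [← hCP]
        intro y hy
        rw [SetLike.mem_coe, ← hx] at hy
        obtain ⟨j, rfl⟩ := Subgroup.mem_zpowers_iff.1 hy
        exact ((show Commute (g ^ p ^ n) x from h1).zpow_right j).symm.eq
      · rw [MonoidHom.mem_ker]
        refine MulEquiv.ext fun y => Subtype.ext ?_
        show g * (y : K) * g⁻¹ = y
        have hyP : (y : K) ∈ (P : Subgroup K) := by
          rw [← hx]
          obtain ⟨j, hj⟩ := Subgroup.mem_zpowers_iff.1 y.2
          rw [← hj, hw]
          exact zpow_mem (pow_mem (mem_zpowers x) _) j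
        have e : g * (y : K) = y * g :=
          congrArg Subtype.val (mul_comm' (⟨g, hg⟩ : (P : Subgroup K)) ⟨(y : K), hyP⟩)
        rw [e, mul_inv_cancel_right]
    have hWc : Nat.card (Subgroup.zpowers w) = p := by rw [Nat.card_zpowers, hwo]
    let e := IsCyclic.mulAutMulEquiv (Subgroup.zpowers w)
    have hidx : (P : Subgroup K).index ∣ p - 1 := by
      rw [← hker, Subgroup.index_ker]
      refine (Subgroup.card_subgroup_dvd_card φ.range).trans ?_
      rw [IsCyclic.card_mulAut, hWc, Nat.totient_prime hpp]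
    refine ⟨hPn, hCP, fun hN => ?_, hidx⟩
    haveI : IsCyclic (ZMod (Nat.card (Subgroup.zpowers w)))ˣ := by rw [hWc]; infer_instance
    haveI : IsCyclic (MulAut (Subgroup.zpowers w)) := isCyclic_of_surjective e.symm e.symm.surjective
    exact isCyclic_of_injective
      (((QuotientGroup.kerLift φ).comp (QuotientGroup.quotientMulEquivOfEq hker.symm).toMonoidHom))
      ((QuotientGroup.kerLift_injective φ).comp (MulEquiv.injective _))
  right
  set E := Cfsg.layer K with hE
  haveI hEn : E.Normal := CfsgLib.Cores.layer_normal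
  -- normal subgroups of `E` have order divisible by `p`
  have hdvd : ∀ N : Subgroup E, N.Normal → N ≠ ⊥ → p ∣ Nat.card N := by
    intro N hN hNb
    by_contra hpd
    refine hNb ?_
    have h1 : N ≤ Cfsg.pPrimeCore p E := le_sSup ⟨hN, (hpp.coprime_iff_not_dvd.2 hpd).symm⟩
    have h2 := CfsgLib.Cores.pPrimeCore_of_normal p E
    rw [hO, bot_inf_eq, Subgroup.map_eq_bot_iff, Subgroup.ker_subtype, le_bot_iff] at h2
    exact le_bot_iff.1 (h1.trans h2.le)
  obtain ⟨Q⟩ : Nonempty (Sylow p E) := inferInstance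
  have hQc : IsCyclic (Q : Subgroup E) := by
    obtain ⟨P', hP'⟩ := (Q.2.map E.subtype).exists_le_sylow
    obtain ⟨g, hg⟩ := MulAction.exists_smul_eq K P P'
    haveI : IsCyclic (P' : Subgroup K) := by
      rw [← hg]; exact isCyclic_of_surjective (P.equivSMul g).toMonoidHom (P.equivSMul g).surjective
    exact isCyclic_of_injective ((Subgroup.inclusion hP').comp
      ((Q : Subgroup E).equivMapOfInjective E.subtype E.subtype_injective).toMonoidHom)
      ((Subgroup.inclusion_injective hP').comp (MulEquiv.injective _))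
  haveI := hQc
  -- two nontrivial normal subgroups meet
  have hmeet : ∀ N N' : Subgroup E, N.Normal → N'.Normal → N ≠ ⊥ → N' ≠ ⊥ → N ⊓ N' ≠ ⊥ := by
    intro N N' hN hN' hb hb' hbot
    have hget : ∀ M : Subgroup E, M.Normal → M ≠ ⊥ → ∃ y ∈ (Q : Subgroup E), y ∈ M ∧ orderOf y = p := by
      intro M hM hMb
      obtain ⟨y, hy⟩ := exists_prime_orderOf_dvd_card' (G := M) p (hdvd M hM hMb)
      have hyo : orderOf (y : E) = p := by rw [Subgroup.orderOf_coe, hy]
      obtain ⟨Q', hQ'⟩ := (IsPGroup.of_card (n := 1) (by rw [Nat.card_zpowers, hyo, pow_one]) :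
        IsPGroup p (Subgroup.zpowers (y : E))).exists_le_sylow
      obtain ⟨g, hg⟩ := MulAction.exists_smul_eq E Q' Q
      refine ⟨g * y * g⁻¹, ?_, hM.conj_mem _ y.2 g, ?_⟩
      · rw [← hg, Sylow.coe_subgroup_smul]; exact ⟨y, hQ' (mem_zpowers _), rfl⟩
      · rw [show g * (y : E) * g⁻¹ = MulAut.conj g y from rfl, MulEquiv.orderOf_eq, hyo]
    obtain ⟨y, hyQ, hyN, hyo⟩ := hget N hN hb
    obtain ⟨y', hyQ', hyN', hyo'⟩ := hget N' hN' hb'
    obtain ⟨j, hj⟩ := Subgroup.mem_zpowers_iff.1 (mem_zpowers_of_orderOf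
      (y := (⟨y, hyQ⟩ : (Q : Subgroup E))) (y' := ⟨y', hyQ'⟩)
      (((Subgroup.orderOf_mk y hyQ).trans hyo).trans ((Subgroup.orderOf_mk y' hyQ').trans hyo').symm))
    have hyN'' : y ∈ N' := by
      rw [show y = y' ^ j from (congrArg Subtype.val hj).symm]
      exact zpow_mem hyN' j
    have : y ∈ (⊥ : Subgroup E) := hbot ▸ ⟨hyN, hyN''⟩
    rw [Subgroup.mem_bot] at this
    rw [this, orderOf_one] at hyo
    exact hpp.ne_one hyo.symm
  haveI : Nontrivial E := (Subgroup.nontrivial_iff_ne_bot E).2 hL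
  have hperf : _root_.commutator E = ⊤ := by
    apply Subgroup.map_injective E.subtype_injective
    rw [CfsgLib.Cores.map_commutator_top_le, CfsgLib.Cores.commutator_layer_self, ← MonoidHom.range_eq_map,
      Subgroup.range_subtype]
  have hZ : Subgroup.center E = ⊥ := by
    by_contra hne
    obtain ⟨z, hz⟩ := exists_prime_orderOf_dvd_card' (G := Subgroup.center E) p (hdvd _ inferInstance hne)
    haveI : IsMulCommutative (Q : Subgroup E) := ⟨⟨fun a b => IsCyclic.commGroup.mul_comm a b⟩⟩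
    have := central_eq_one Q z.2 (hperf ▸ Subgroup.mem_top _)
      ⟨1, by rw [pow_one, ← hz, ← Subgroup.orderOf_coe]; exact pow_orderOf_eq_one _⟩
    rw [← Subgroup.orderOf_coe, this, orderOf_one] at hz
    exact hpp.ne_one hz.symm
  -- there is one component
  obtain ⟨L, hLc⟩ : ∃ L : Subgroup K, Cfsg.IsComponent L := by
    by_contra hh
    push_neg at hh
    exact hL (CfsgLib.Cores.layer_eq_bot_iff.2 hh)
  have hone : ∀ L' : Subgroup K, Cfsg.IsComponent L' → L' = L := by
    intro L' hL'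
    by_contra hne
    have hb : ∀ J, Cfsg.IsComponent J → (J.subgroupOf E).Normal ∧ J.subgroupOf E ≠ ⊥ := fun J hJ =>
      ⟨CfsgLib.Cores.component_subgroupOf_layer_normal hJ, fun e => CfsgLib.Cores.component_ne_bot hJ (by
        rw [Subgroup.subgroupOf_eq_bot] at e
        exact disjoint_self.1 (e.mono_right (CfsgLib.Cores.component_le_layer hJ)))⟩
    apply hmeet _ _ (hb L hLc).1 (hb L' hL').1 (hb L hLc).2 (hb L' hL').2
    rw [eq_bot_iff, ← hZ]
    rintro y ⟨hy, hy'⟩
    rw [Subgroup.mem_center_iff]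
    intro g
    have : (g : K) ∈ Subgroup.centralizer ({(y : K)} : Set K) := by
      refine (CfsgLib.Cores.layer_le_iff.2 fun J hJ => ?_) g.2
      have hc : ⁅J, L⁆ = ⊥ ∨ ⁅J, L'⁆ = ⊥ := by
        by_cases hJL : J = L
        · exact Or.inr (CfsgLib.Cores.commutator_components_eq_bot hJ hL' (hJL ▸ Ne.symm hne))
        · exact Or.inl (CfsgLib.Cores.commutator_components_eq_bot hJ hLc hJL)
      intro j hj
      rw [Subgroup.mem_centralizer_singleton_iff]
      rcases hc with hc | hc <;> rw [Subgroup.commutator_eq_bot_iff_le_centralizer] at hc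
      · exact (hc hj (y : K) hy).symm
      · exact (hc hj (y : K) hy').symm
    exact Subtype.ext (Subgroup.mem_centralizer_singleton_iff.1 this)
  have hEL : E = L := le_antisymm (CfsgLib.Cores.layer_le_iff.2 fun J hJ => (hone J hJ).le)
    (CfsgLib.Cores.component_le_layer hLc)
  have hqs : Cfsg.IsQuasisimple E := hEL ▸ hLc.2
  haveI hsimp : IsSimpleGroup E := by
    haveI := hqs.2
    exact (((QuotientGroup.quotientMulEquivOfEq hZ).trans QuotientGroup.quotientBot).symm).isSimpleGroup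
  have hnc : ¬ IsMulCommutative E := fun hc => by
    obtain ⟨y, hy⟩ := exists_ne (1 : E)
    refine hy ?_
    have : y ∈ Subgroup.center E := Subgroup.mem_center_iff.2 fun g => hc.is_comm.comm g y
    rwa [hZ, Subgroup.mem_bot] at this
  -- the Fitting subgroup is trivial
  have hEtop : ∀ {M : Subgroup E}, M.Normal → M ≠ ⊥ → M = ⊤ := fun {M} hM hb =>
    (IsSimpleGroup.eq_bot_or_eq_top_of_normal M hM).resolve_left hb
  have hF1 : Cfsg.fittingSubgroup K = ⊥ := by
    by_contra hne
    obtain ⟨Q', hQ'⟩ := (Q.2.map E.subtype).exists_le_sylow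
    have hFQ : Cfsg.fittingSubgroup K ≤ (Q' : Subgroup K) := by
      rw [hF]; exact CfsgLib.Cores.pCore_le_sylow Q'
    obtain ⟨g, hg⟩ := MulAction.exists_smul_eq K P Q'
    haveI : IsCyclic (Q' : Subgroup K) := by
      rw [← hg]; exact isCyclic_of_surjective (P.equivSMul g).toMonoidHom (P.equivSMul g).surjective
    have hpE : p ∣ Nat.card E := by
      have := hdvd ⊤ inferInstance top_ne_bot
      rwa [Subgroup.card_top] at this
    have hpF : p ∣ Nat.card (Cfsg.fittingSubgroup K) := by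
      obtain ⟨m, hm⟩ := IsPGroup.iff_card.1 (P.2.to_le hFP)
      rw [hm]
      refine dvd_pow_self p fun h0 => hne ?_
      rw [h0, pow_zero] at hm
      exact Subgroup.eq_bot_of_card_eq _ hm
    have hQne : p ∣ Nat.card ((Q : Subgroup E).map E.subtype) := by
      rw [Subgroup.card_subtype]; exact Q.dvd_card_of_dvd_card hpE
    obtain ⟨y, hy⟩ := exists_prime_orderOf_dvd_card' (G := Cfsg.fittingSubgroup K) p hpF
    obtain ⟨y', hy'⟩ := exists_prime_orderOf_dvd_card' (G := (Q : Subgroup E).map E.subtype) p hQne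
    obtain ⟨j, hj⟩ := Subgroup.mem_zpowers_iff.1 (mem_zpowers_of_orderOf
      (y := (⟨(y : K), hFQ y.2⟩ : (Q' : Subgroup K))) (y' := ⟨(y' : K), hQ' y'.2⟩)
      (by rw [Subgroup.orderOf_mk, Subgroup.orderOf_mk, Subgroup.orderOf_coe, Subgroup.orderOf_coe, hy, hy']))
    have hyE : (y : K) ∈ E := by
      rw [← show (y' : K) ^ j = y from congrArg Subtype.val hj]
      exact zpow_mem (Subgroup.map_subtype_le _ y'.2) j
    have : (⟨(y : K), hyE⟩ : E) ∈ Subgroup.center E := Subgroup.mem_center_iff.2 fun g => Subtype.ext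
      ((CfsgLib.Cores.layer_le_centralizer_fittingSubgroup g.2 (y : K) y.2).symm)
    rw [hZ, Subgroup.mem_bot] at this
    have h1 : (y : K) = 1 := congrArg Subtype.val this
    rw [← Subgroup.orderOf_coe, h1, orderOf_one] at hy
    exact hpp.ne_one hy.symm
  have hgf : Cfsg.generalizedFittingSubgroup K = E := by
    rw [Cfsg.generalizedFittingSubgroup, hF1, sup_bot_eq]
  rw [hgf]
  refine ⟨hsimp, hnc, fun hpi => ?_⟩
  -- a nontrivial action on the Sylow subgroup of `E`
  set Q0 := (P : Subgroup K) ⊓ E with hQ0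
  have hQ0lt : ¬ (P : Subgroup K) ≤ E := fun hle =>
    P.not_dvd_index (hpi.trans (Subgroup.index_dvd_of_le hle))
  have hQ0idx : ¬ p ∣ (Q0.subgroupOf E).index := by
    rw [hQ0, Subgroup.inf_subgroupOf_right]
    intro hd
    exact P.not_dvd_index (hd.trans (relIndex_eq_of_normal Subgroup.index_ne_zero_of_finite))
  let QE : Sylow p E := (P.2.comap_of_injective E.subtype E.subtype_injective).toSylow (by
    rwa [hQ0, Subgroup.inf_subgroupOf_right] at hQ0idx)
  have hQEc : ∀ a b : E, a ∈ (QE : Subgroup E) → b ∈ (QE : Subgroup E) → a * b = b * a := fun a b ha hb =>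
    Subtype.ext (show (a : K) * b = b * a from
      congrArg Subtype.val (mul_comm' (⟨(a : K), ha⟩ : (P : Subgroup K)) ⟨(b : K), hb⟩))
  obtain ⟨g, hgN, hgC⟩ : ∃ g : E, g ∈ Subgroup.normalizer ((QE : Subgroup E) : Set E) ∧
      g ∉ Subgroup.centralizer ((QE : Subgroup E) : Set E) := by
    by_contra hh
    push_neg at hh
    have hcp := MonoidHom.ker_transferSylow_isComplement' QE hh
    rcases IsSimpleGroup.eq_bot_or_eq_top_of_normal (MonoidHom.transferSylow QE hh).ker inferInstance with e | e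
    · rw [e, Subgroup.isComplement'_bot_left] at hcp
      exact hnc ⟨⟨fun a b => hQEc a b (hcp ▸ mem_top a) (hcp ▸ mem_top b)⟩⟩
    · rw [e, Subgroup.isComplement'_top_left] at hcp
      have := hdvd ⊤ inferInstance top_ne_bot
      rw [Subgroup.card_top] at this
      have h2 := QE.dvd_card_of_dvd_card this
      rw [hcp, Subgroup.card_bot] at h2
      exact hpp.ne_one (Nat.dvd_one.1 h2)
  set K1 := E ⊔ (P : Subgroup K) with hK1
  set C := Subgroup.centralizer (Q0 : Set K) ⊓ K1 with hC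
  have hPC : (P : Subgroup K) ≤ C := le_inf (fun y hy z hz =>
    congrArg Subtype.val (mul_comm' (⟨z, hz.1⟩ : (P : Subgroup K)) ⟨y, hy⟩)) le_sup_right
  have hgN' : (g : K) ∈ Subgroup.normalizer (Q0 : Set K) := by
    refine mem_normalizer_fintype fun y hy => ?_
    exact ⟨(Subgroup.mem_normalizer_iff.1 hgN ⟨y, hy.2⟩).1 hy.1, hEn.conj_mem y hy.2 g⟩
  have hgPC : (MulAut.conj (g : K) • (P : Subgroup K)) ≤ C := by
    rintro _ ⟨y, hy, rfl⟩
    refine ⟨fun z hz => ?_, ?_⟩
    · have hz' : (g : K)⁻¹ * z * g ∈ Q0 := (Subgroup.mem_normalizer_iff''.1 hgN' z).1 hz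
      have hcm := (hPC hy).1 _ hz'
      show z * ((g : K) * y * (g : K)⁻¹) = (g : K) * y * (g : K)⁻¹ * z
      calc z * ((g : K) * y * (g : K)⁻¹) = g * ((g : K)⁻¹ * z * g * y) * (g : K)⁻¹ := by group
        _ = g * (y * ((g : K)⁻¹ * z * g)) * (g : K)⁻¹ := by rw [hcm]
        _ = _ := by group
    · show (g : K) * y * (g : K)⁻¹ ∈ K1
      exact mul_mem (mul_mem (Subgroup.mem_sup_left g.2) (Subgroup.mem_sup_right hy))
        (inv_mem (Subgroup.mem_sup_left g.2))
  obtain ⟨c, hc⟩ := MulAction.exists_smul_eq C (((g : K) • P).subtype hgPC) (P.subtype hPC)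
  set h := (c : K) * g with hh
  have hhP : ∀ y ∈ (P : Subgroup K), h * y * h⁻¹ ∈ (P : Subgroup K) := by
    intro y hy
    have hy' : (g : K) * y * (g : K)⁻¹ ∈ C := hgPC ⟨y, hy, rfl⟩
    have h1 : c * ⟨(g : K) * y * (g : K)⁻¹, hy'⟩ * c⁻¹ ∈ (P.subtype hPC : Subgroup C) := by
      rw [← hc, Sylow.coe_subgroup_smul]
      exact ⟨⟨_, hy'⟩, (⟨y, hy, rfl⟩ : (g : K) * y * (g : K)⁻¹ ∈ MulAut.conj (g : K) • (P : Subgroup K)), rfl⟩
    have h2 : (c : K) * ((g : K) * y * (g : K)⁻¹) * (c : K)⁻¹ ∈ (P : Subgroup K) := h1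
    rwa [hh, show (c : K) * g * y * ((c : K) * g)⁻¹ = (c : K) * ((g : K) * y * (g : K)⁻¹) * (c : K)⁻¹ by group]
  have hxP : x ∈ (P : Subgroup K) := hx ▸ mem_zpowers x
  obtain ⟨a, ha⟩ := Subgroup.mem_zpowers_iff.1 (hx.symm ▸ hhP x hxP : h * x * h⁻¹ ∈ Subgroup.zpowers x)
  have hhK1 : h ∈ K1 := mul_mem c.2.2 (Subgroup.mem_sup_left g.2)
  have hcomE : h * x * h⁻¹ * x⁻¹ ∈ E := by
    rw [← QuotientGroup.eq_one_iff]
    show QuotientGroup.mk' E _ = 1
    have him : ∀ y ∈ K1, QuotientGroup.mk' E y ∈ (P : Subgroup K).map (QuotientGroup.mk' E) := by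
      intro y hy
      rw [hK1, Subgroup.mem_sup_of_normal_left] at hy
      obtain ⟨e, he, u, hu, rfl⟩ := hy
      rw [map_mul, show QuotientGroup.mk' E e = 1 from (QuotientGroup.eq_one_iff e).2 he, one_mul]
      exact Subgroup.mem_map_of_mem _ hu
    obtain ⟨u, hu, hue⟩ := him h hhK1
    rw [map_mul, map_mul, map_mul, map_inv, map_inv, ← hue, ← map_mul, ← map_inv, ← map_inv, ← map_mul, ← map_mul,
      show u * x = x * u from congrArg Subtype.val (mul_comm' (⟨u, hu⟩ : (P : Subgroup K)) ⟨x, hxP⟩),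
      mul_inv_cancel_right,
      mul_inv_cancel, map_one]
  have hdvd' : (p : ℤ) ∣ a - 1 := by
    by_contra hnd
    refine hQ0lt ?_
    have hcop : IsCoprime (a - 1) ((p ^ n : ℕ) : ℤ) := by
      push_cast
      exact IsCoprime.pow_right ((Int.isCoprime_iff_gcd_eq_one.2 (by
        rw [Int.gcd_comm]; exact (hpp.coprime_iff_not_dvd.2 fun d => hnd (Int.natCast_dvd.2 d)))))
    obtain ⟨s, t, hst⟩ := hcop
    rw [← hx, Subgroup.zpowers_le]
    have hxE : x ^ (a - 1) ∈ E := by rwa [zpow_sub, zpow_one, ha]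
    rw [show x = (x ^ (a - 1)) ^ s * (x ^ ((p ^ n : ℕ) : ℤ)) ^ t by
      rw [← zpow_mul, ← zpow_mul, ← zpow_add, mul_comm _ s, mul_comm _ t, hst, zpow_one]]
    rw [zpow_natCast, hxn, one_zpow, mul_one]
    exact zpow_mem hxE s
  have h1 := pow_mem_centralizer h x n a hxn ha.symm hdvd'
  have hhN : h ∈ Subgroup.normalizer (Q0 : Set K) :=
    mul_mem (Subgroup.centralizer_le_normalizer _ c.2.1) hgN'
  set N := Subgroup.normalizer (Q0 : Set K)
  haveI : ((Subgroup.centralizer (Q0 : Set K)).subgroupOf N).Normal := by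
    refine (Subgroup.normal_subgroupOf_iff (Subgroup.centralizer_le_normalizer _)).2 fun u v hu hv => ?_
    intro z hz
    have hz' := (Subgroup.mem_normalizer_iff''.1 hv z).1 hz
    have hcm := hu _ hz'
    calc z * (v * u * v⁻¹) = v * (v⁻¹ * z * v * u) * v⁻¹ := by group
      _ = v * (u * (v⁻¹ * z * v)) * v⁻¹ := by rw [hcm]
      _ = _ := by group
  have hmem := mem_of_pow_mem (p := p) ((Subgroup.centralizer (Q0 : Set K)).subgroupOf N) (g := ⟨h, hhN⟩) (n := n)
    (fun hd => P.not_dvd_index (hd.trans (dvd_trans (Subgroup.relIndex_dvd_of_le_left N (hPC.trans inf_le_left))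
      (Subgroup.relIndex_dvd_index_of_le ((hPC.trans inf_le_left).trans (Subgroup.centralizer_le_normalizer _))))))
    (by
      intro z hz
      have hzP : z ∈ Subgroup.zpowers x := hx.symm ▸ hz.1
      obtain ⟨j, rfl⟩ := Subgroup.mem_zpowers_iff.1 hzP
      exact ((show Commute (h ^ p ^ n) x from h1).zpow_right j).symm.eq)
  refine hgC fun z hz => Subtype.ext ?_
  have hzQ : (z : K) ∈ Q0 := ⟨hz, z.2⟩
  have e1 : (z : K) * h = h * z := (Subgroup.mem_subgroupOf.1 hmem : h ∈ Subgroup.centralizer (Q0 : Set K)) _ hzQ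
  have e2 : ((g : K) * z * (g : K)⁻¹) * (c : K) = c * ((g : K) * z * (g : K)⁻¹) :=
    c.2.1 _ ((Subgroup.mem_normalizer_iff.1 hgN' _).1 hzQ)
  show (z : K) * g = g * z
  calc (z : K) * g = (c : K)⁻¹ * ((c : K) * z) * g := by group
    _ = (c : K)⁻¹ * ((z : K) * c) * g := by rw [c.2.1 _ hzQ]
    _ = (c : K)⁻¹ * ((z : K) * h) := by rw [hh]; group
    _ = (c : K)⁻¹ * (h * z) := by rw [e1]
    _ = _ := by rw [hh]; group

end Cfsg.Agent.S4403
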