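import Cfsg.Statements.S4404
import Cfsg.Agent.Lib.PGroup.FourDisplacement
import Cfsg.Agent.Lib.PGroup.ElemAbelian
import Cfsg.Agent.Lib.OddLocal.RankThree
import Cfsg.Agent.Lib.OddLocal.HallBasic
import Cfsg.Agent.Lib.OddLocal.RankTwo.Structure
import Cfsg.Agent.Lib.Cores.Basic

set_option autoImplicit false
open Cfsg

namespace Cfsg.Agent.S4404

open CfsgLib CfsgLib.OddLocal CfsgLib.OddLocal.Sec13 Subgroup
open scoped Pointwise

/-- The conclusion, from a bound in the automorphism group. -/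
theorem noncyclic_of_bound {S : Type*} [Group S] [Finite S] (M : Subgroup S) [M.Normal] {r : ℕ} [hr : Fact r.Prime]
    (F V : Subgroup S) (hVM : V ≤ M) (hF : Cfsg.IsElementaryAbelian r F) (hFc : Nat.card F = r ^ 3) (P : Subgroup S)
    (hFP : F ≤ P) (K : Subgroup (MulAut M)) (hK : K ≤ P.map (MulAut.conjNormal (H := M)))
    (hc : Nat.card (P.map (MulAut.conjNormal (H := M))) ≤ r * Nat.card K)
    (hfix : ∀ k ∈ K, ∀ v : M, (v : S) ∈ V → k v = v) :
    ¬ IsCyclic ↥(F ⊓ Subgroup.centralizer (V : Set S)) := by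
  classical
  intro hcyc
  set ρ : S →* MulAut M := MulAut.conjNormal (H := M) with hρ
  set A := F ⊓ Subgroup.centralizer (V : Set S)
  have hle : F ⊓ K.comap ρ ≤ A := by
    rintro f ⟨hf, hk⟩
    refine ⟨hf, mem_centralizer_iff.2 fun v hv => ?_⟩
    have h := congrArg Subtype.val (hfix _ hk ⟨v, hVM hv⟩ hv)
    rw [hρ, MulAut.conjNormal_apply] at h
    exact (mul_inv_eq_iff_eq_mul.1 h).symm
  have hidx : (K.comap ρ).relIndex F ≤ r := by
    rw [Subgroup.relIndex_comap]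
    have h1 : K.relIndex (P.map ρ) ≤ r := by
      refine Nat.le_of_mul_le_mul_right ?_ (Nat.card_pos (α := K))
      rw [← Subgroup.relIndex_bot_left K, mul_comm (K.relIndex _), relIndex_mul_relIndex _ _ _ bot_le hK,
        Subgroup.relIndex_bot_left, Subgroup.relIndex_bot_left]
      exact hc
    refine le_trans ?_ h1
    exact Subgroup.relIndex_le_of_le_right (map_mono hFP) Subgroup.index_ne_zero_of_finite
  have hcard : Nat.card F ≤ r * Nat.card ↥(F ⊓ K.comap ρ) := by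
    have : Nat.card ↥(F ⊓ K.comap ρ) * (K.comap ρ).relIndex F = Nat.card F := by
      rw [← Subgroup.inf_relIndex_left F (K.comap ρ), ← Subgroup.relIndex_bot_left (F ⊓ K.comap ρ),
        relIndex_mul_relIndex _ _ _ bot_le inf_le_left, Subgroup.relIndex_bot_left]
    rw [← this, mul_comm]
    exact Nat.mul_le_mul_right _ hidx
  have hA : Nat.card A ≤ r := by
    obtain ⟨g, hg⟩ := IsCyclic.exists_generator (α := A)
    rw [← orderOf_eq_card_of_forall_mem_zpowers hg]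
    refine orderOf_le_of_pow_eq_one hr.out.pos (Subtype.ext ?_)
    rw [SubgroupClass.coe_pow, OneMemClass.coe_one]
    exact hF.2 _ g.2.1
  have := (card_le_of_le hle).trans hA
  rw [hFc] at hcard
  have h2 := hr.out.two_le
  have h3 : r * r * r ≤ r * r := by
    rw [show r * r * r = r ^ 3 by ring]
    exact hcard.trans (Nat.mul_le_mul_left r this)
  nlinarith

/-- A cube in a group containing `y`, normalised by `y`. -/
theorem exists_cube {S : Type*} [Group S] [Finite S] {r : ℕ} [hr : Fact r.Prime] (hr2 : r ≠ 2) (H Q : Subgroup S)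
    (hQH : Q ≤ H) (hQ : IsPGroup r Q) (hrk : ¬ Cfsg.PRankLE r 2 H) :
    ∃ F : Subgroup S, Cfsg.IsElementaryAbelian r F ∧ Nat.card F = r ^ 3 ∧ ∀ y ∈ Q, ∀ f ∈ F, y * f * y⁻¹ ∈ F := by
  obtain ⟨R, hR⟩ := (hQ.comap_of_injective H.subtype H.subtype_injective).exists_le_sylow
  have hrkR : ¬ Cfsg.PRankLE r 2 (R : Subgroup H) := by
    intro hle
    refine hrk fun A hA hAp => ?_
    have hAr : IsPGroup r A := fun a => ⟨1, Subtype.ext (by rw [pow_one]; exact hAp a a.2)⟩
    obtain ⟨T, hT⟩ := hAr.exists_le_sylow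
    obtain ⟨g, hg⟩ := MulAction.exists_smul_eq H T R
    have hsub : A.map (MulAut.conj g).toMonoidHom ≤ R := by
      rw [← hg]
      rintro _ ⟨a, ha, rfl⟩
      exact mem_map_of_mem _ (hT ha)
    rw [Nat.card_congr (A.equivMapOfInjective (MulAut.conj g).toMonoidHom (MulAut.conj g).injective).toEquiv]
    exact (CfsgLib.PGroup.pRankLE_subgroup_iff _).1 hle _ hsub
      (CfsgLib.PGroup.elemAb_map (⟨hA, hAp⟩ : Cfsg.IsElementaryAbelian r A) _)
  obtain ⟨F₀, hFn, hFe, hFc⟩ := CfsgLib.OddLocal.exists_normal_cube hr2 R.2 hrkR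
  refine ⟨(F₀.map (R : Subgroup H).subtype).map H.subtype,
    CfsgLib.PGroup.elemAb_map (CfsgLib.PGroup.elemAb_map hFe _) _, ?_, ?_⟩
  · rw [card_map_of_injective H.subtype_injective, card_map_of_injective (R : Subgroup H).subtype_injective, hFc]
  · rintro y hy _ ⟨_, ⟨f, hf, rfl⟩, rfl⟩
    have hyR : (⟨y, hQH hy⟩ : H) ∈ (R : Subgroup H) := hR hy
    exact ⟨_, ⟨(⟨_, hyR⟩ : R) * f * (⟨_, hyR⟩ : R)⁻¹, hFn.conj_mem f hf _, rfl⟩, by simp⟩

/-- Let S be a finite solvable group and M a normal elementary abelian 2-subgroup of S. Suppose S contains an elementary abelian subgroup of order p³ for some odd prime p, and a cyclic 3-subgroup Q such that the cubes of the elements of Q centralize M and the commutator subgroup [Q, M] has order 4 (a four-group inside M). Then S contains an elementary abelian subgroup F of order r³, for some odd prime r, whose centralizer of [Q, M] in F — the subgroup C_F([Q, M]) — is not cyclic. -/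
theorem result {S : Type*} [Group S] [Finite S]
    [Group.IsSolvable S] (M : Subgroup S) [M.Normal] (hM : Cfsg.IsElementaryAbelian 2 M)
    (p : ℕ) (hp : p.Prime) (hp2 : p ≠ 2) (E : Subgroup S) (hE : Cfsg.IsElementaryAbelian p E) (hE3 : Nat.card ↥E = p ^ 3)
    (Q : Subgroup S) (hQc : IsCyclic ↥Q) (hQ3 : IsPGroup 3 ↥Q)
    (hQ1 : ∀ x ∈ Q, x ^ 3 ∈ Subgroup.centralizer (M : Set S)) (hQM : Nat.card ↥⁅Q, M⁆ = 4) :
    ∃ (r : ℕ) (F : Subgroup S), r.Prime ∧ r ≠ 2 ∧ Cfsg.IsElementaryAbelian r F ∧ Nat.card ↥F = r ^ 3 ∧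
      ¬ IsCyclic ↥(F ⊓ Subgroup.centralizer ((⁅Q, M⁆ : Subgroup S) : Set S)) := by
  classical
  have hcomm : ∀ a ∈ M, ∀ b ∈ M, a * b = b * a := fun a ha b hb => CfsgLib.PGroup.elemAb_comm hM ha hb
  let _ : CommGroup M := { (inferInstance : Group M) with mul_comm := fun a b => Subtype.ext (hcomm a a.2 b b.2) }
  have h2M : ∀ m : M, m * m = 1 := fun m => Subtype.ext (by
    rw [Subgroup.coe_mul, ← pow_two]; exact hM.2 m m.2)
  obtain ⟨x, hx⟩ := (Subgroup.isCyclic_iff_exists_zpowers_eq_top Q).1 hQc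
  have hxQ : x ∈ Q := hx ▸ mem_zpowers x
  set ρ : S →* MulAut M := MulAut.conjNormal (H := M) with hρ
  have hx3 : (ρ x) ^ 3 = 1 := by
    rw [← map_pow]
    refine MulEquiv.ext fun m => Subtype.ext ?_
    rw [hρ, MulAut.conjNormal_apply, MulAut.one_apply, ← mem_centralizer_iff.1 (hQ1 x hxQ) _ m.2,
      mul_inv_cancel_right]
  open CfsgLib.PGroup.FourDisplacement in
  have hVeq : ⁅Q, M⁆ = (delta (ρ x)).range.map M.subtype := by
    refine le_antisymm ?_ ?_
    · rw [commutator_le]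
      intro q hq m hm
      rw [← hx] at hq
      obtain ⟨j, rfl⟩ := hq
      have hP : IsPGroup 3 (zpowers x) := hx.symm ▸ hQ3
      obtain ⟨i, hi⟩ : ∃ i : ℕ, x ^ i = x ^ j := by
        have := (mem_zpowers_iff_mem_range_orderOf (x := x) (y := x ^ j)).1 ⟨j, rfl⟩
        simpa using (Finset.mem_image.1 this).imp fun i h => h.2
      rw [show (fun j : ℤ => x ^ j) j = x ^ i from hi.symm]
      refine ⟨((ρ x) ^ i) ⟨m, hm⟩ * (⟨m, hm⟩ : M)⁻¹, ?_, ?_⟩
      · clear hi
        induction i with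
        | zero => rw [pow_zero, MulAut.one_apply, mul_inv_cancel]; exact one_mem _
        | succ i ih =>
          have e : ((ρ x) ^ (i + 1)) ⟨m, hm⟩ * (⟨m, hm⟩ : M)⁻¹ =
              delta (ρ x) (((ρ x) ^ i) ⟨m, hm⟩) * (((ρ x) ^ i) ⟨m, hm⟩ * (⟨m, hm⟩ : M)⁻¹) := by
            rw [delta_apply, pow_succ', MulAut.mul_apply]; group
          rw [e]
          exact mul_mem ⟨_, rfl⟩ ih
      · rw [← map_pow, Subgroup.coe_subtype, Subgroup.coe_mul, Subgroup.coe_inv, hρ, MulAut.conjNormal_apply]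
        rfl
    · rintro _ ⟨_, ⟨m, rfl⟩, rfl⟩
      show ((delta (ρ x) m : M) : S) ∈ ⁅Q, M⁆
      rw [delta_apply, Subgroup.coe_mul, Subgroup.coe_inv, hρ, MulAut.conjNormal_apply]
      exact commutator_mem_commutator hxQ m.2
  have hV : Nat.card (CfsgLib.PGroup.FourDisplacement.delta (ρ x)).range = 4 := by
    rw [← hQM, hVeq, card_map_of_injective M.subtype_injective]
  have hVM : ⁅Q, M⁆ ≤ M := hVeq ▸ map_subtype_le _
  have hfixV : ∀ K : Subgroup (MulAut M), (CfsgLib.PGroup.FourDisplacement.delta (ρ x)).range ≤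
      CfsgLib.PGroup.FourDisplacement.fix K → ∀ k ∈ K, ∀ v : M, (v : S) ∈ ⁅Q, M⁆ → k v = v := by
    intro K hK k hk v hv
    rw [hVeq] at hv
    obtain ⟨w, hw, e⟩ := hv
    obtain rfl : w = v := Subtype.ext e
    exact hK hw k hk
  have hxne : x ≠ 1 := by
    rintro rfl
    have : (CfsgLib.PGroup.FourDisplacement.delta (ρ (1 : S))).range = ⊥ := eq_bot_iff.2 (by
      rintro _ ⟨m, rfl⟩
      simp [CfsgLib.PGroup.FourDisplacement.delta_apply])
    rw [this, card_bot] at hV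
    omega
  -- a cube normalised by `Q`
  have finish_elem : ∀ (r : ℕ) [Fact r.Prime], r ≠ 2 → ∀ F : Subgroup S, Cfsg.IsElementaryAbelian r F →
      Nat.card F = r ^ 3 → (∀ y ∈ Q, ∀ f ∈ F, y * f * y⁻¹ ∈ F) →
      ¬ IsCyclic ↥(F ⊓ Subgroup.centralizer ((⁅Q, M⁆ : Subgroup S) : Set S)) := by
    intro r _ hr2 F hF hFc hQF
    obtain ⟨K, hK, hKc, hKV⟩ := CfsgLib.PGroup.FourDisplacement.bound_elementary h2M hr2 (F.map ρ) hx3 hV
      (by rintro _ ⟨a, ha, rfl⟩ _ ⟨b, hb, rfl⟩; rw [← map_mul, ← map_mul, CfsgLib.PGroup.elemAb_comm hF ha hb])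
      (by rintro _ ⟨a, ha, rfl⟩; rw [← map_pow, hF.2 a ha, map_one])
      (by rintro _ ⟨a, ha, rfl⟩; exact ⟨x * a * x⁻¹, hQF x hxQ a ha, by simp⟩)
    exact noncyclic_of_bound M F _ hVM hF hFc F le_rfl K hK hKc (hfixV K hKV)
  by_cases hp3 : p = 3
  · subst hp3
    have : Fact (Nat.Prime 3) := ⟨Nat.prime_three⟩
    have hrk : ¬ Cfsg.PRankLE 3 2 (⊤ : Subgroup S) := fun h => by
      have := (CfsgLib.PGroup.pRankLE_subgroup_iff _).1 h E le_top hE
      rw [hE3] at this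
      norm_num at this
    obtain ⟨F, hF, hFc, hQF⟩ := exists_cube (by norm_num) ⊤ Q le_top hQ3 hrk
    exact ⟨3, F, Nat.prime_three, by norm_num, hF, hFc, finish_elem 3 (by norm_num) F hF hFc hQF⟩
  have : Fact p.Prime := ⟨hp⟩
  have : Fact (Nat.Prime 3) := ⟨Nat.prime_three⟩
  have hsolv : Group.IsSolvable (⊤ : Subgroup S) := inferInstance
  set π : Set ℕ := {3, p}
  have hprimes : ∀ {q : ℕ} {U : Subgroup S} {r : ℕ}, r.Prime → IsPGroup r U → q.Prime → q ∣ Nat.card U → q = r := by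
    intro q U r hr hU hq hd
    have : Fact r.Prime := ⟨hr⟩
    obtain ⟨k, hk⟩ := IsPGroup.iff_card.1 hU
    exact (Nat.prime_dvd_prime_iff_eq hq hr).1 (hq.dvd_of_dvd_pow (hk ▸ hd))
  have hEp : IsPGroup p E := fun a => ⟨1, Subtype.ext (by rw [pow_one]; exact hE.2 a a.2)⟩
  obtain ⟨H, hH, hQH⟩ := exists_hallOf_ge hsolv (U := Q) le_top
    (show IsPi π Q from fun q hq hd => Or.inl (hprimes Nat.prime_three hQ3 hq hd))
  obtain ⟨g, -, hgE⟩ := exists_conj_le_hallOf hsolv hH le_top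
    (show IsPi π E from fun q hq hd => Or.inr (hprimes hp hEp hq hd))
  set E' := MulAut.conj g • E
  have hE' : Cfsg.IsElementaryAbelian p E' := CfsgLib.PGroup.elemAb_map hE _
  have hE'c : Nat.card E' = p ^ 3 := by
    rw [show Nat.card E' = Nat.card E from (Nat.card_congr (Subgroup.equivSMul (MulAut.conj g) E).toEquiv).symm, hE3]
  by_cases hrk : Cfsg.PRankLE 3 2 H
  swap
  · obtain ⟨F, hF, hFc, hQF⟩ := exists_cube (by norm_num) H Q hQH hQ3 hrk
    exact ⟨3, F, Nat.prime_three, by norm_num, hF, hFc, finish_elem 3 (by norm_num) F hF hFc hQF⟩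
  have hodd : Odd (Nat.card H) := by
    rw [Nat.odd_iff, ← Nat.two_dvd_ne_zero]
    intro h2
    rcases hH.2.1 2 Nat.prime_two h2 with h | h
    · norm_num at h
    · exact hp2 h.symm
  have h3H : 3 ∣ Nat.card H := by
    obtain ⟨k, hk⟩ := IsPGroup.iff_orderOf.1 hQ3 ⟨x, hxQ⟩
    rw [Subgroup.orderOf_mk] at hk
    have : 3 ∣ orderOf x := hk ▸ dvd_pow_self 3 fun e => hxne (by
      rw [e, pow_zero] at hk; exact orderOf_eq_one_iff.1 hk)
    exact this.trans (Subgroup.orderOf_dvd_natCard H (hQH hxQ))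
  obtain ⟨hidx, -⟩ := CfsgLib.OddLocal.RankTwo.structure_rank_two hodd h3H hrk
  have hOn : (Cfsg.pPrimeCore 3 H).Normal := Cfsg.pPrimeCore_normal 3 H
  set P := (Cfsg.pPrimeCore 3 H).map H.subtype with hPdef
  have hE'P : E' ≤ P := by
    intro e he
    refine ⟨⟨e, hgE he⟩, ?_, rfl⟩
    rw [SetLike.mem_coe, ← QuotientGroup.eq_one_iff, ← orderOf_eq_one_iff]
    by_contra hne
    obtain ⟨q, hq, hqd⟩ := Nat.exists_prime_and_dvd hne
    have hqi : q ∣ (Cfsg.pPrimeCore 3 H).index := hqd.trans (orderOf_dvd_natCard _)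
    have hq3 : q ≤ 3 := hidx q hq hqi
    have hqp : q = p := by
      have h1 : q ∣ orderOf (⟨e, hgE he⟩ : H) := hqd.trans (orderOf_map_dvd (QuotientGroup.mk' _) _)
      rw [Subgroup.orderOf_mk] at h1
      exact (Nat.prime_dvd_prime_iff_eq hq hp).1 (h1.trans (orderOf_dvd_of_pow_eq_one (hE'.2 e he)))
    subst hqp
    have := hq.two_le
    interval_cases q <;> simp_all
  have hPp : IsPGroup p P := by
    refine IsPGroup.map (IsPGroup.of_card (Nat.eq_prime_pow_of_unique_prime_dvd Nat.card_pos.ne' fun {q} hq hd => ?_)) _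
    rcases hH.2.1 q hq (hd.trans (card_subgroup_dvd_card _)) with h | h
    · exfalso
      subst h
      exact CfsgLib.Cores.not_dvd_card_pPrimeCore 3 hd
    · exact h
  obtain ⟨K, hK, hKc, hKV⟩ := CfsgLib.PGroup.FourDisplacement.bound_pGroup hp2 hp3 _ M rfl h2M (ρ x) hx3 hV
    (P.map ρ) (hPp.map ρ) (by
      rintro _ ⟨_, ⟨a, ha, rfl⟩, rfl⟩
      exact ⟨_, ⟨⟨x, hQH hxQ⟩ * a * ⟨x, hQH hxQ⟩⁻¹, hOn.conj_mem a ha _, rfl⟩, by simp⟩)
  exact ⟨p, E', hp, hp2, hE', hE'c, noncyclic_of_bound M E' _ hVM hE' hE'c P hE'P K hK hKc (hfixV K hKV)⟩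

end Cfsg.Agent.S4404
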