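import Cfsg.Statements.S4405
import Cfsg.Agent.Lib.Cores.Fitting

set_option autoImplicit false
open Cfsg

namespace Cfsg.Agent.S4405
open scoped commutatorElement

set_option maxHeartbeats 1000000


/-- Let G be a finite group of order 320 = 64·5 whose largest normal 2-subgroup H = O₂(G) equals the Fitting subgroup F(G) and is extraspecial of order 32 containing no elementary abelian subgroup of order 8 (so H is the central product of a quaternion group and a dihedral group of order 8). If T is an involution of G outside H whose centralizer in H contains an elementary abelian subgroup of order 4, then C_H(T) itself is elementary abelian of order 4. -/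
theorem result {G : Type*} [Group G] [Finite G]
    (hG : Nat.card G = 320) (hHF : Cfsg.pCore 2 G = Cfsg.fittingSubgroup G)
    (hex : Cfsg.IsExtraspecial 2 ↥(Cfsg.pCore 2 G)) (h32 : Nat.card ↥(Cfsg.pCore 2 G) = 32)
    (hminus : ∀ A : Subgroup G, A ≤ Cfsg.pCore 2 G → Cfsg.IsElementaryAbelian 2 A → Nat.card ↥A ≤ 4)
    (T : G) (hT : orderOf T = 2) (hTH : T ∉ Cfsg.pCore 2 G)
    (V : Subgroup G) (hV : V ≤ Cfsg.pCore 2 G ⊓ Subgroup.centralizer ({T} : Set G)) (hV4 : Nat.card ↥V = 4) (hVe : Cfsg.IsElementaryAbelian 2 V) :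
    Nat.card ↥(Cfsg.pCore 2 G ⊓ Subgroup.centralizer ({T} : Set G)) = 4 ∧
      Cfsg.IsElementaryAbelian 2 (Cfsg.pCore 2 G ⊓ Subgroup.centralizer ({T} : Set G)) := by
  haveI : Fact (Nat.Prime 2) := ⟨Nat.prime_two⟩
  haveI : Fact (Nat.Prime 5) := ⟨by norm_num⟩
  set H := Cfsg.pCore 2 G with hH
  obtain ⟨⟨h2p, -, hder⟩, hZcard⟩ := hex
  haveI hHN : H.Normal := by rw [hHF]; exact CfsgLib.Cores.fittingSubgroup_normal
  set Z : Subgroup G := (Subgroup.center H).map H.subtype with hZdef
  have hZH : Z ≤ H := Subgroup.map_subtype_le _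
  have hZ2 : Nat.card Z = 2 := by rw [hZdef, Subgroup.card_subtype, hZcard]
  haveI hZN : Z.Normal := ConjAct.normal_of_characteristic_of_normal
  have hTT : T * T = 1 := by have := pow_orderOf_eq_one T; rwa [hT, sq] at this
  have hTi : T⁻¹ = T := inv_eq_of_mul_eq_one_left hTT
  -- `Z` is central in `G`
  have hZc : ∀ z ∈ Z, ∀ g : G, g * z * g⁻¹ = z := by
    intro z hz g
    by_cases hz1 : z = 1
    · subst hz1; group
    have h1 : g * z * g⁻¹ ≠ 1 := fun h => hz1 (by simpa using h)
    have := (Nat.card_eq_two_iff' (⟨1, one_mem Z⟩ : Z)).1 hZ2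
    exact congrArg Subtype.val (this.unique (y₁ := ⟨_, hZN.conj_mem z hz g⟩) (y₂ := ⟨z, hz⟩)
      (fun h => h1 (congrArg Subtype.val h)) (fun h => hz1 (congrArg Subtype.val h)))
  have hHcomm : ∀ x ∈ H, ∀ y ∈ H, ⁅x, y⁆ ∈ Z := fun x hx y hy =>
    ⟨⁅(⟨x, hx⟩ : H), ⟨y, hy⟩⁆, by
      rw [← hder, commutator_def]
      exact Subgroup.commutator_mem_commutator (Subgroup.mem_top _) (Subgroup.mem_top _), rfl⟩
  have hHsq : ∀ x ∈ H, x * x ∈ Z := by
    intro x hx
    refine ⟨⟨x * x, mul_mem hx hx⟩, ?_, rfl⟩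
    rw [SetLike.mem_coe, Subgroup.mem_center_iff]
    intro ⟨y, hy⟩
    refine Subtype.ext ?_
    show y * (x * x) = x * x * y
    have hc := hHcomm x hx y hy
    have hz2 : ⁅x, y⁆ * ⁅x, y⁆ = 1 := by
      have := congrArg Subtype.val (pow_card_eq_one' (x := (⟨_, hc⟩ : Z)))
      rw [hZ2] at this
      rwa [SubmonoidClass.coe_pow, Subgroup.coe_one, sq] at this
    have h1 : ⁅x * x, y⁆ = 1 := by
      rw [show ⁅x * x, y⁆ = x * ⁅x, y⁆ * x⁻¹ * ⁅x, y⁆ by simp only [commutatorElement_def]; group,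
        hZc _ hc, hz2]
    rw [commutatorElement_eq_one_iff_mul_comm] at h1
    exact h1.symm
  -- find an element of order five moving `T`
  obtain ⟨g, hg⟩ : ∃ g : G, T * g * T * g⁻¹ ∉ H := by
    by_contra hall
    push_neg at hall
    set a : G ⧸ H := QuotientGroup.mk' H T with ha
    have haa : a * a = 1 := by rw [ha, ← map_mul, hTT, map_one]
    have hcen : a ∈ Subgroup.center (G ⧸ H) := by
      rw [Subgroup.mem_center_iff]
      intro e
      obtain ⟨x, rfl⟩ := QuotientGroup.mk'_surjective H e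
      have := (QuotientGroup.eq_one_iff (N := H) _).2 (hall x)
      change QuotientGroup.mk' H (T * x * T * x⁻¹) = 1 at this
      rw [map_mul, map_mul, map_mul, map_inv, mul_inv_eq_one, ← ha] at this
      calc QuotientGroup.mk' H x * a = a * a * (QuotientGroup.mk' H x * a) := by rw [haa, one_mul]
        _ = a * (a * QuotientGroup.mk' H x * a) := by group
        _ = _ := by rw [this]
    haveI : (Subgroup.zpowers a).Normal := ⟨fun n hn e => by
      rw [Subgroup.mem_center_iff.1 ((Subgroup.zpowers_le.2 hcen) hn) e, mul_inv_cancel_right]; exact hn⟩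
    set M := (Subgroup.zpowers a).comap (QuotientGroup.mk' H)
    have hMp : IsPGroup 2 M := by
      refine IsPGroup.comap_of_ker_isPGroup (H := Subgroup.zpowers a) ?_ _ ?_
      · intro x
        refine ⟨1, ?_⟩
        obtain ⟨j, hj⟩ := Subgroup.mem_zpowers_iff.1 x.2
        refine Subtype.ext ?_
        rw [SubmonoidClass.coe_pow, Subgroup.coe_one, ← hj, pow_one, sq, ← (Commute.refl a).mul_zpow, haa,
          one_zpow]
      · rw [QuotientGroup.ker_mk']; exact h2p
    have hMle : M ≤ H := le_sSup ⟨Subgroup.Normal.comap inferInstance _, hMp⟩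
    exact hTH (hMle (Subgroup.mem_zpowers a))
  set d := T * g * T * g⁻¹ with hd
  have hQ10 : Nat.card (G ⧸ H) = 10 := by
    have := Subgroup.card_eq_card_quotient_mul_card_subgroup H
    rw [hG, h32] at this
    omega
  have hd5 : 5 ∣ orderOf d := by
    refine dvd_trans ?_ (orderOf_map_dvd (QuotientGroup.mk' H) d)
    obtain ⟨c, hc⟩ := exists_prime_orderOf_dvd_card' (G := G ⧸ H) 5 (by rw [hQ10]; norm_num)
    have hidx : (Subgroup.zpowers c).index = 2 := by
      have := (Subgroup.zpowers c).card_mul_index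
      rw [Nat.card_zpowers, hc, hQ10] at this
      omega
    haveI := Subgroup.normal_of_index_eq_two hidx
    haveI : IsCyclic ((G ⧸ H) ⧸ Subgroup.zpowers c) :=
      isCyclic_of_prime_card (p := 2) hidx
    letI : CommGroup ((G ⧸ H) ⧸ Subgroup.zpowers c) := IsCyclic.commGroup
    have hmem : QuotientGroup.mk' H d ∈ Subgroup.zpowers c := by
      rw [← QuotientGroup.eq_one_iff]
      show QuotientGroup.mk' (Subgroup.zpowers c) (QuotientGroup.mk' H d) = 1
      rw [← MonoidHom.comp_apply]
      set f := (QuotientGroup.mk' (Subgroup.zpowers c)).comp (QuotientGroup.mk' H)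
      rw [hd, map_mul, map_mul, map_mul, map_inv, mul_comm (f T) (f g), mul_assoc, mul_assoc,
        ← mul_assoc (f T) (f T), ← map_mul f T T, hTT, map_one, one_mul, mul_inv_cancel]
    have hdvd : orderOf (QuotientGroup.mk' H d) ∣ 5 := by
      rw [← hc, ← Nat.card_zpowers, ← Nat.card_zpowers c]
      exact Subgroup.card_dvd_of_le (Subgroup.zpowers_le.2 hmem)
    rcases (Nat.dvd_prime (by norm_num)).1 hdvd with h | h
    · exact absurd ((QuotientGroup.eq_one_iff d).1 (orderOf_eq_one_iff.1 h)) hg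
    · exact h.symm ▸ dvd_rfl
  set d' := d ^ (orderOf d / 5) with hd'
  have hd'5 : orderOf d' = 5 := orderOf_pow_orderOf_div (orderOf_pos d).ne' hd5
  -- only `Z` is centralized by `d'`
  have hfixd : ∀ x ∈ H, d' * x = x * d' → x ∈ Z := by
    intro x hx hcx
    letI : MulAction (Subgroup.zpowers d') H :=
      MulAction.compHom H ((MulAut.conjNormal (H := H)).comp (Subgroup.zpowers d').subtype)
    have hsm : ∀ (s : Subgroup.zpowers d') (y : H), ((s • y : H) : G) = (s : G) * y * (s : G)⁻¹ := fun s y =>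
      MulAut.conjNormal_apply (H := H) (s : G) y
    have hfix : Nat.card (MulAction.fixedPoints (Subgroup.zpowers d') H) =
        Nat.card ↥(H ⊓ Subgroup.centralizer ({d'} : Set G)) := Nat.card_congr
      { toFun := fun y => ⟨(y.1 : G), y.1.2, Subgroup.mem_centralizer_singleton_iff.2 (by
          have := congrArg Subtype.val (y.2 ⟨d', Subgroup.mem_zpowers d'⟩)
          rw [hsm, mul_inv_eq_iff_eq_mul] at this
          exact this.symm)⟩
        invFun := fun y => ⟨⟨y.1, y.2.1⟩, fun s => Subtype.ext (by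
          rw [hsm, mul_inv_eq_iff_eq_mul]
          have h1 : Subgroup.zpowers d' ≤ Subgroup.centralizer ({(y : G)} : Set G) :=
            Subgroup.zpowers_le.2 (Subgroup.mem_centralizer_singleton_iff.2
              (Subgroup.mem_centralizer_singleton_iff.1 y.2.2).symm)
          exact Subgroup.mem_centralizer_singleton_iff.1 (h1 s.2))⟩
        left_inv := fun y => rfl
        right_inv := fun y => rfl }
    have hmod := (IsPGroup.of_card (p := 5) (n := 1) (by rw [Nat.card_zpowers, hd'5, pow_one]) :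
      IsPGroup 5 (Subgroup.zpowers d')).card_modEq_card_fixedPoints H
    rw [h32, hfix] at hmod
    set D := H ⊓ Subgroup.centralizer ({d'} : Set G)
    obtain ⟨k, hk, hDk⟩ := (Nat.dvd_prime_pow Nat.prime_two).1
      (show Nat.card D ∣ 2 ^ 5 by rw [show (2 : ℕ) ^ 5 = 32 from rfl, ← h32]; exact Subgroup.card_dvd_of_le inf_le_left)
    have hZD : Z ≤ D := fun z hz => ⟨hZH hz, Subgroup.mem_centralizer_singleton_iff.2 (by
      have := hZc z hz d'
      rw [mul_inv_eq_iff_eq_mul] at this
      exact this.symm)⟩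
    have hk15 : k = 1 ∨ k = 5 := by
      rw [hDk] at hmod
      interval_cases k <;> simp_all [Nat.ModEq]
    rcases hk15 with rfl | rfl
    · rw [Subgroup.eq_of_le_of_card_ge hZD (by rw [hDk, hZ2, pow_one])]
      exact ⟨hx, Subgroup.mem_centralizer_singleton_iff.2 hcx.symm⟩
    exfalso
    have hHC : H ≤ Subgroup.centralizer ({d'} : Set G) := by
      rw [← Subgroup.eq_of_le_of_card_ge (inf_le_left : D ≤ H) (by rw [hDk, h32]; norm_num)]
      exact inf_le_right
    let P : Sylow 5 G := Sylow.ofCard (Subgroup.zpowers d') (by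
      rw [Nat.card_zpowers, hd'5, hG, Nat.factorization_def _ (by norm_num)]
      rw [show (320 : ℕ) = 5 * 64 from rfl, padicValNat.mul (by norm_num) (by norm_num), padicValNat.self (by norm_num),
        padicValNat.eq_zero_of_not_dvd (by norm_num), add_zero, pow_one])
    have hPc : (P : Subgroup G) = Subgroup.zpowers d' := rfl
    have hNH : H ≤ Subgroup.normalizer ((P : Subgroup G) : Set G) := fun y hy => by
      refine Subgroup.centralizer_le_normalizer _ ?_
      rw [hPc, Subgroup.zpowers_eq_closure, Subgroup.centralizer_closure]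
      exact hHC hy
    have hidx : (Subgroup.normalizer ((P : Subgroup G) : Set G)).index ∣ 2 := by
      set N := Subgroup.normalizer ((P : Subgroup G) : Set G)
      have h1 : 32 ∣ Nat.card N := h32 ▸ Subgroup.card_dvd_of_le hNH
      have h2 : 5 ∣ Nat.card N := by
        rw [← hd'5, ← Nat.card_zpowers]
        exact Subgroup.card_dvd_of_le (hPc ▸ Subgroup.le_normalizer)
      have h3 : 160 ∣ Nat.card N := Nat.Coprime.mul_dvd_of_dvd_of_dvd (by norm_num : Nat.Coprime 32 5) h1 h2
      obtain ⟨c, hc⟩ := h3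
      have := N.card_mul_index
      rw [hG, hc] at this
      exact ⟨c, by nlinarith⟩
    rw [show (Subgroup.normalizer ((P : Subgroup G) : Set G)).index = Nat.card (Sylow 5 G) from
      (Sylow.card_eq_index_normalizer P).symm] at hidx
    have h5 := card_sylow_modEq_one 5 G
    rcases (Nat.dvd_prime Nat.prime_two).1 hidx with h | h
    · haveI : Subsingleton (Sylow 5 G) := (Nat.card_eq_one_iff_unique.1 h).1
      haveI hn : (Subgroup.zpowers d').Normal := hPc ▸ P.normal_of_subsingleton
      have := Subgroup.card_dvd_of_le ((CfsgLib.Cores.le_fittingSubgroup (N := Subgroup.zpowers d')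
        (IsPGroup.of_card (p := 5) (n := 1) (by rw [Nat.card_zpowers, hd'5, pow_one])).isNilpotent).trans hHF.ge)
      rw [Nat.card_zpowers, hd'5, h32] at this
      norm_num at this
    · rw [h] at h5; simp [Nat.ModEq] at h5
  -- work modulo `Z`
  set ρ := QuotientGroup.mk' Z with hρ
  set t := ρ T with ht
  have htt : t * t = 1 := by rw [ht, ← map_mul, hTT, map_one]
  set A := H.map ρ with hA
  have hAN : A.Normal := hHN.map ρ (QuotientGroup.mk'_surjective Z)
  have hAc : ∀ a ∈ A, ∀ b ∈ A, a * b = b * a := by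
    rintro _ ⟨x, hx, rfl⟩ _ ⟨y, hy, rfl⟩
    rw [← commutatorElement_eq_one_iff_mul_comm, ← map_commutatorElement]
    exact (QuotientGroup.eq_one_iff _).2 (hHcomm x hx y hy)
  have hAe : ∀ a ∈ A, a * a = 1 := by
    rintro _ ⟨x, hx, rfl⟩
    rw [← map_mul]
    exact (QuotientGroup.eq_one_iff _).2 (hHsq x hx)
  have hAcard : Nat.card A = 16 := by
    have h1 := Nat.card_congr ((Subgroup.subgroupOfEquivOfLe hZH).toEquiv)
    have h2 := Subgroup.card_mul_index (Z.subgroupOf H)
    have h3 : Nat.card A = (Z.subgroupOf H).index := by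
      have hk : (ρ.comp H.subtype).ker = Z.subgroupOf H := by
        ext x; rw [MonoidHom.mem_ker, Subgroup.mem_subgroupOf]; exact QuotientGroup.eq_one_iff (x : G)
      rw [← hk, Subgroup.index_ker, MonoidHom.range_comp, Subgroup.range_subtype]
    rw [h1, hZ2, h32] at h2
    omega
  set F := A ⊓ Subgroup.centralizer ({t} : Set (G ⧸ Z)) with hF
  have hFmem : ∀ a, a ∈ F ↔ a ∈ A ∧ t * a * t = a := by
    intro a
    rw [hF, Subgroup.mem_inf, Subgroup.mem_centralizer_singleton_iff]
    refine and_congr_right fun _ => ⟨fun h => ?_, fun h => ?_⟩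
    · rw [← h, mul_assoc, htt, mul_one]
    · conv_lhs => rw [← h]
      rw [mul_assoc _ t t, htt, mul_one]
  -- at most four fixed cosets
  have hF4 : Nat.card F ≤ 4 := by
    set γ := ρ g
    have hinj : Function.Injective (fun p : F × F =>
        (⟨(p.1 : G ⧸ Z) * (γ * p.2 * γ⁻¹), mul_mem p.1.2.1 (hAN.conj_mem _ p.2.2.1 γ)⟩ : A)) := by
      rintro ⟨⟨a, ha⟩, ⟨b, hb⟩⟩ ⟨⟨a', ha'⟩, ⟨b', hb'⟩⟩ he
      have he' : a * (γ * b * γ⁻¹) = a' * (γ * b' * γ⁻¹) := congrArg Subtype.val he
      set u := a'⁻¹ * a with hu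
      set v := b' * b⁻¹ with hv
      have huv : u = γ * v * γ⁻¹ := by
        calc u = a'⁻¹ * (a * (γ * b * γ⁻¹)) * (γ * b * γ⁻¹)⁻¹ := by rw [hu]; group
          _ = _ := by rw [he', hv]; group
      have huF := (hFmem u).1 (mul_mem (inv_mem ha') ha)
      have hvF := (hFmem v).1 (mul_mem hb' (inv_mem hb))
      have hdu : ρ d * u * (ρ d)⁻¹ = u := by
        have htinv : t⁻¹ = t := inv_eq_of_mul_eq_one_left htt
        rw [hd, map_mul, map_mul, map_mul, map_inv, ← ht, mul_inv_rev, mul_inv_rev, mul_inv_rev, inv_inv,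
          htinv]
        calc t * γ * t * γ⁻¹ * u * (γ * (t * (γ⁻¹ * t)))
            = t * (γ * (t * (γ⁻¹ * u * γ) * t) * γ⁻¹) * t := by group
          _ = t * (γ * (t * v * t) * γ⁻¹) * t := by rw [show γ⁻¹ * u * γ = v by rw [huv]; group]
          _ = _ := by rw [hvF.2, ← huv, huF.2]
      have hd'u : ρ d' * u * (ρ d')⁻¹ = u := by
        have : ρ d ∈ Subgroup.centralizer ({u} : Set (G ⧸ Z)) :=
          Subgroup.mem_centralizer_singleton_iff.2 (mul_inv_eq_iff_eq_mul.1 hdu)
        rw [hd', map_pow, mul_inv_eq_iff_eq_mul]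
        exact Subgroup.mem_centralizer_singleton_iff.1 (pow_mem this _)
      obtain ⟨x, hx, hxu⟩ := huF.1
      have hz : x⁻¹ * (d' * x * d'⁻¹) ∈ Z := by
        rw [← QuotientGroup.eq_one_iff]
        show ρ _ = 1
        rw [map_mul, map_mul, map_mul, map_inv, map_inv, hxu, hd'u, inv_mul_cancel]
      set z := x⁻¹ * (d' * x * d'⁻¹) with hzdef
      have hiter : ∀ n : ℕ, d' ^ n * x * (d' ^ n)⁻¹ = x * z ^ n := by
        intro n
        induction n with
        | zero => simp
        | succ n ih =>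
          calc d' ^ (n + 1) * x * (d' ^ (n + 1))⁻¹ = d' * (d' ^ n * x * (d' ^ n)⁻¹) * d'⁻¹ := by
                rw [pow_succ']; group
            _ = (d' * x * d'⁻¹) * (d' * z ^ n * d'⁻¹) := by rw [ih]; group
            _ = x * z ^ (n + 1) := by
              rw [hZc _ (pow_mem hz n) d', show d' * x * d'⁻¹ = x * z by rw [hzdef]; group, pow_succ',
                mul_assoc]
      have h5 := hiter 5
      rw [← hd'5, pow_orderOf_eq_one, one_mul, inv_one, mul_one, hd'5, left_eq_mul] at h5
      have hz2 : z ^ 2 = 1 := by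
        have := congrArg Subtype.val (pow_card_eq_one' (x := (⟨z, hz⟩ : Z)))
        rwa [hZ2] at this
      rw [show 5 = 2 + 2 + 1 from rfl, pow_add, pow_add, hz2, one_mul, one_mul, pow_one] at h5
      have hxZ : x ∈ Z := hfixd x hx (by
        rw [h5, eq_comm, inv_mul_eq_one] at hzdef
        exact (mul_inv_eq_iff_eq_mul.1 hzdef.symm))
      have hu1 : u = 1 := by rw [← hxu]; exact (QuotientGroup.eq_one_iff x).2 hxZ
      have hv1 : v = 1 := by
        calc v = γ⁻¹ * u * γ := by rw [huv]; group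
          _ = 1 := by rw [hu1]; group
      rw [hu, inv_mul_eq_one] at hu1
      rw [hv, mul_inv_eq_one] at hv1
      simp only [hu1, hv1]
    have := Nat.card_le_card_of_injective _ hinj
    rw [Nat.card_prod, hAcard] at this
    nlinarith
  -- the commutator map
  let ψ : A →* G ⧸ Z :=
    { toFun := fun a => (a : G ⧸ Z)⁻¹ * (t * a * t)
      map_one' := by simp [htt]
      map_mul' := fun a b => by
        have ha : t * (a : G ⧸ Z) * t ∈ A := by
          have := hAN.conj_mem _ a.2 t
          rwa [inv_eq_of_mul_eq_one_left htt] at this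
        calc ((a : G ⧸ Z) * b)⁻¹ * (t * (a * b) * t)
            = (b : G ⧸ Z)⁻¹ * ((a : G ⧸ Z)⁻¹ * (t * a * (t * t) * b * t)) := by rw [htt]; group
          _ = (b : G ⧸ Z)⁻¹ * ((a : G ⧸ Z)⁻¹ * (t * a * t)) * (t * b * t) := by group
          _ = _ := by rw [hAc _ (inv_mem b.2) _ (mul_mem (inv_mem a.2) ha)]; group }
  have hψF : ψ.range ≤ F := by
    rintro _ ⟨a, rfl⟩
    have ha : t * (a : G ⧸ Z) * t ∈ A := by
      have := hAN.conj_mem _ a.2 t
      rwa [inv_eq_of_mul_eq_one_left htt] at this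
    refine (hFmem _).2 ⟨mul_mem (inv_mem a.2) ha, ?_⟩
    show t * ((a : G ⧸ Z)⁻¹ * (t * a * t)) * t = (a : G ⧸ Z)⁻¹ * (t * a * t)
    calc t * ((a : G ⧸ Z)⁻¹ * (t * a * t)) * t = t * (a : G ⧸ Z)⁻¹ * t * (a * (t * t)) := by group
      _ = (t * a * t)⁻¹ * a := by
        rw [htt, mul_one, mul_inv_rev, mul_inv_rev, inv_eq_of_mul_eq_one_left htt, mul_assoc t]
      _ = ((a : G ⧸ Z)⁻¹ * (t * a * t))⁻¹ := by group
      _ = _ := inv_eq_of_mul_eq_one_left (hAe _ (mul_mem (inv_mem a.2) ha))
  have hψk : ψ.ker = F.subgroupOf A := by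
    ext a
    rw [MonoidHom.mem_ker, Subgroup.mem_subgroupOf, hFmem, iff_and_self.2 (fun _ => a.2) |>.symm]
    exact inv_mul_eq_one.trans eq_comm
  have hψcard : ψ.range = F ∧ Nat.card F = 4 := by
    have h1 := Subgroup.card_mul_index ψ.ker
    rw [Subgroup.index_ker, hψk, Nat.card_congr (Subgroup.subgroupOfEquivOfLe (inf_le_left : F ≤ A)).toEquiv,
      hAcard] at h1
    have h2 : Nat.card ψ.range ≤ Nat.card F := Nat.le_of_dvd Nat.card_pos (Subgroup.card_dvd_of_le hψF)
    have h3 : 4 ≤ Nat.card F := by nlinarith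
    have h4 : Nat.card F = 4 := le_antisymm hF4 h3
    exact ⟨Subgroup.eq_of_le_of_card_ge hψF (by rw [h4] at h1 ⊢; omega), h4⟩
  -- the centralizer of `T` in `H`
  set C := H ⊓ Subgroup.centralizer ({T} : Set G) with hC
  have hCF : ∀ x ∈ C, ρ x ∈ F := fun x hx => (hFmem _).2 ⟨Subgroup.mem_map_of_mem ρ hx.1, by
    rw [ht, ← map_mul, ← map_mul, ← (Subgroup.mem_centralizer_singleton_iff.1 hx.2), mul_assoc, hTT,
      mul_one]⟩
  suffices hC4 : Nat.card C = 4 by
    refine ⟨hC4, ?_⟩
    rwa [← Subgroup.eq_of_le_of_card_ge hV (by rw [hC4, hV4])]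
  set W := H ⊓ F.comap ρ with hW
  have hW8 : Nat.card W = 8 := by
    have hk : (ρ.comp W.subtype).ker = Z.subgroupOf W := by
      ext x; rw [MonoidHom.mem_ker, Subgroup.mem_subgroupOf]; exact QuotientGroup.eq_one_iff (x : G)
    have hr : (ρ.comp W.subtype).range = F := by
      rw [MonoidHom.range_comp, Subgroup.range_subtype]
      refine le_antisymm (Subgroup.map_le_iff_le_comap.2 inf_le_right) fun a ha => ?_
      obtain ⟨x, hx, rfl⟩ := ha.1
      exact ⟨x, ⟨hx, ha⟩, rfl⟩
    have hZW : Z ≤ W := fun z hz => ⟨hZH hz, by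
      show ρ z ∈ F
      rw [show ρ z = 1 from (QuotientGroup.eq_one_iff z).2 hz]; exact one_mem F⟩
    have := Subgroup.card_mul_index (ρ.comp W.subtype).ker
    rw [Subgroup.index_ker, hr, hψcard.2, hk, Nat.card_congr (Subgroup.subgroupOfEquivOfLe hZW).toEquiv, hZ2]
      at this
    exact this.symm
  have hCW : C ≤ W := fun x hx => ⟨hx.1, hCF x hx⟩
  have h48 : 4 ∣ Nat.card C := hV4 ▸ Subgroup.card_dvd_of_le hV
  have h88 : Nat.card C ∣ 8 := hW8 ▸ Subgroup.card_dvd_of_le hCW
  obtain ⟨k, hk, hCk⟩ := (Nat.dvd_prime_pow Nat.prime_two).1 (show Nat.card C ∣ 2 ^ 3 from h88)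
  interval_cases k
  · rw [hCk] at h48; norm_num at h48
  · rw [hCk] at h48; norm_num at h48
  · exact hCk
  exfalso
  have hCWe : C = W := Subgroup.eq_of_le_of_card_ge hCW (by rw [hCk, hW8]; norm_num)
  have hsq : ∀ x ∈ C, x * x = 1 := by
    intro x hx
    obtain ⟨⟨_, h, hh, rfl⟩, ha⟩ := hψcard.1.symm ▸ hCF x hx
    set y := h⁻¹ * (T * h * T) with hy
    have hyH : y ∈ H := mul_mem (inv_mem hh) (by have := hHN.conj_mem h hh T; rwa [hTi] at this)
    have hxy : x * y⁻¹ ∈ Z := by
      rw [← QuotientGroup.eq_one_iff]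
      show ρ _ = 1
      rw [map_mul, map_inv, mul_inv_eq_one, ← ha, hy, map_mul, map_inv, map_mul, map_mul]
      rfl
    have hyC : y ∈ C := by
      rw [hCWe]
      refine ⟨hyH, ?_⟩
      show ρ y ∈ F
      rw [← show ρ x = ρ y by
        rw [← mul_inv_eq_one, ← map_inv, ← map_mul]; exact (QuotientGroup.eq_one_iff _).2 hxy]
      exact hCF x hx
    have hyy : y * y = 1 := by
      have hfix : T * y * T = y := by
        rw [← (Subgroup.mem_centralizer_singleton_iff.1 hyC.2), mul_assoc, hTT, mul_one]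
      have hinv : T * y * T = y⁻¹ := by
        rw [hy]
        calc T * (h⁻¹ * (T * h * T)) * T = T * h⁻¹ * T * h * (T * T) := by group
          _ = (h⁻¹ * (T * h * T))⁻¹ := by rw [hTT, mul_inv_rev, mul_inv_rev, mul_inv_rev, hTi]; group
      have := hfix.symm.trans hinv
      calc y * y = y * y⁻¹ := by rw [← this]
        _ = 1 := mul_inv_cancel y
    obtain ⟨z, hz, hxz⟩ : ∃ z ∈ Z, x = z * y := ⟨_, hxy, by group⟩
    have hz2 : z * z = 1 := by
      have := congrArg Subtype.val (pow_card_eq_one' (x := (⟨z, hz⟩ : Z)))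
      rw [hZ2] at this
      rwa [SubmonoidClass.coe_pow, Subgroup.coe_one, sq] at this
    calc x * x = z * (y * z * y⁻¹) * (y * y) := by rw [hxz]; group
      _ = 1 := by rw [hZc z hz y, hz2, hyy, one_mul]
  have hel : Cfsg.IsElementaryAbelian 2 C := by
    refine ⟨⟨⟨fun a b => Subtype.ext ?_⟩⟩, fun a ha => by rw [sq]; exact hsq a ha⟩
    have h1 := hsq _ (mul_mem a.2 b.2)
    have ha := inv_eq_of_mul_eq_one_left (hsq _ a.2)
    have hb := inv_eq_of_mul_eq_one_left (hsq _ b.2)
    show (a : G) * b = b * a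
    rw [← inv_eq_of_mul_eq_one_left h1, mul_inv_rev, ha, hb]
  have := hminus C inf_le_left hel
  rw [hCk] at this
  norm_num at this

end Cfsg.Agent.S4405
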