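import Cfsg.Statements.S4406

set_option autoImplicit false
open Cfsg

namespace Cfsg.Agent.S4406
open Subgroup

theorem a4_cases : ∀ y : alternatingGroup (Fin 4), y ^ 2 = 1 ∨ (y ^ 3 = 1 ∧ y ≠ 1) := by decide

set_option synthInstance.maxSize 20000 in
set_option synthInstance.maxHeartbeats 2000000 in
set_option maxRecDepth 10000 in
set_option maxHeartbeats 2000000 in
theorem a4_invol : ∀ r x : alternatingGroup (Fin 4), r ^ 3 = 1 → r ≠ 1 → x ^ 2 = 1 → x ≠ 1 →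
    x * (r * x * r⁻¹) = r * (r * x * r⁻¹) * r⁻¹ ∧
    (∀ y, y ^ 2 = 1 → y = 1 ∨ y = x ∨ y = r * x * r⁻¹ ∨ y = x * (r * x * r⁻¹)) ∧ r * x * r⁻¹ ≠ x := by decide

set_option synthInstance.maxSize 20000 in
set_option synthInstance.maxHeartbeats 2000000 in
set_option maxRecDepth 10000 in
set_option maxHeartbeats 2000000 in
theorem a4_two : ∀ r u v : alternatingGroup (Fin 4), r ^ 3 = 1 → r ≠ 1 → u ^ 2 = 1 → u ≠ 1 →
    v ^ 2 = 1 → v ≠ 1 → v ≠ u → v = r * u * r⁻¹ ∨ v = r⁻¹ * u * r := by decide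

theorem a4_exists : ∃ s : alternatingGroup (Fin 4), s ^ 3 = 1 ∧ s ≠ 1 := by decide
theorem a4_four : (Finset.univ.filter fun y : alternatingGroup (Fin 4) => y ^ 2 = 1).card = 4 := by decide

theorem sylow_mem {G : Type*} [Group G] [Finite G] (Q : Sylow 3 G) (N : Subgroup G) [N.Normal] {x : G}
    (hxN : x ∈ N) (hx : x ^ 3 = 1) : ∃ g : G, g * x * g⁻¹ ∈ (Q : Subgroup G) ∧ g * x * g⁻¹ ∈ N := by
  haveI : Fact (Nat.Prime 3) := ⟨Nat.prime_three⟩
  have hp : IsPGroup 3 (zpowers x) := by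
    rcases eq_or_ne x 1 with rfl | h1
    · rw [zpowers_one_eq_bot]; exact IsPGroup.of_bot
    · exact IsPGroup.of_card (n := 1) (by rw [Nat.card_zpowers, orderOf_eq_prime hx h1, pow_one])
  obtain ⟨P, hP⟩ := hp.exists_le_sylow
  obtain ⟨g, hg⟩ := MulAction.exists_smul_eq G P Q
  refine ⟨g, ?_, Subgroup.Normal.conj_mem inferInstance x hxN g⟩
  rw [← hg]
  exact ⟨x, hP (mem_zpowers x), rfl⟩


/-- In the direct product P = A₄ × A₄, let X be the Sylow 2-subgroup, X₁ and X₂ its intersections with the two direct factors, Q a Sylow 3-subgroup and Q₁, Q₂ its intersections with the two factors. Then every subgroup B of X of order 4 either meets X₁ or X₂ nontrivially, or is normalized by one of the two subgroups of Q of order 3 other than Q₁ and Q₂. -/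
theorem result
    (X : Sylow 2 (↥(alternatingGroup (Fin 4)) × ↥(alternatingGroup (Fin 4))))
    (Q : Sylow 3 (↥(alternatingGroup (Fin 4)) × ↥(alternatingGroup (Fin 4))))
    (B : Subgroup (↥(alternatingGroup (Fin 4)) × ↥(alternatingGroup (Fin 4)))) (hBX : B ≤ (X : Subgroup _)) (hB4 : Nat.card ↥B = 4) :
    B ⊓ ((X : Subgroup _) ⊓ Subgroup.prod ⊤ ⊥) ≠ ⊥ ∨ B ⊓ ((X : Subgroup _) ⊓ Subgroup.prod ⊥ ⊤) ≠ ⊥ ∨
      ∃ R : Subgroup (↥(alternatingGroup (Fin 4)) × ↥(alternatingGroup (Fin 4))), R ≤ (Q : Subgroup _) ∧ Nat.card ↥R = 3 ∧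
        R ≠ (Q : Subgroup _) ⊓ Subgroup.prod ⊤ ⊥ ∧ R ≠ (Q : Subgroup _) ⊓ Subgroup.prod ⊥ ⊤ ∧ R ≤ Subgroup.normalizer (B : Set _) := by
  classical
  let A := alternatingGroup (Fin 4)
  haveI : Fact (Nat.Prime 3) := ⟨Nat.prime_three⟩
  haveI : Fact (Nat.Prime 2) := ⟨Nat.prime_two⟩
  by_cases h1 : B ⊓ ((X : Subgroup _) ⊓ Subgroup.prod ⊤ ⊥) = ⊥
  swap
  · exact Or.inl h1
  by_cases h2 : B ⊓ ((X : Subgroup _) ⊓ Subgroup.prod ⊥ ⊤) = ⊥
  swap
  · exact Or.inr (Or.inl h2)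
  refine Or.inr (Or.inr ?_)
  have hsq : ∀ y ∈ B, y.1 ^ 2 = 1 ∧ y.2 ^ 2 = 1 := by
    intro y hy
    obtain ⟨k, hk⟩ := X.2 ⟨y, hBX hy⟩
    have hk' : y ^ 2 ^ k = 1 := congrArg Subtype.val hk
    have key : ∀ z : A, z ^ 2 ^ k = 1 → z ^ 2 = 1 := fun z hz => by
      rcases a4_cases z with h | ⟨h, hne⟩
      · exact h
      · exact absurd (orderOf_eq_one_iff.1 (Nat.eq_one_of_dvd_coprimes (Nat.Coprime.pow_right k (by norm_num : Nat.Coprime 3 2))
          (orderOf_dvd_of_pow_eq_one h) (orderOf_dvd_of_pow_eq_one hz))) hne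
    exact ⟨key _ (congrArg Prod.fst hk'), key _ (congrArg Prod.snd hk')⟩
  have hinj1 : ∀ y ∈ B, ∀ z ∈ B, y.1 = z.1 → y = z := by
    intro y hy z hz e
    have : y * z⁻¹ ∈ B ⊓ ((X : Subgroup _) ⊓ Subgroup.prod ⊥ ⊤) :=
      ⟨B.mul_mem hy (B.inv_mem hz), hBX (B.mul_mem hy (B.inv_mem hz)), by simp [e], Subgroup.mem_top _⟩
    rw [h2, Subgroup.mem_bot, mul_inv_eq_one] at this
    exact this
  have hinj2 : ∀ y ∈ B, ∀ z ∈ B, y.2 = z.2 → y = z := by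
    intro y hy z hz e
    have : y * z⁻¹ ∈ B ⊓ ((X : Subgroup _) ⊓ Subgroup.prod ⊤ ⊥) :=
      ⟨B.mul_mem hy (B.inv_mem hz), hBX (B.mul_mem hy (B.inv_mem hz)), Subgroup.mem_top _, by simp [e]⟩
    rw [h1, Subgroup.mem_bot, mul_inv_eq_one] at this
    exact this
  have hsurj : ∀ z : A, z ^ 2 = 1 → ∃ y ∈ B, y.1 = z := by
    let F : B → A := fun y => (y : A × A).1
    have hFi : Function.Injective F := fun y z h => Subtype.ext (hinj1 _ y.2 _ z.2 h)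
    have hc := Finset.card_image_of_injective (Finset.univ : Finset B) hFi
    rw [Finset.card_univ, ← Nat.card_eq_fintype_card, hB4] at hc
    have heq := Finset.eq_of_subset_of_card_le (s := Finset.univ.image F)
      (t := Finset.univ.filter fun y : A => y ^ 2 = 1)
      (fun z hz => by
        obtain ⟨y, -, rfl⟩ := Finset.mem_image.1 hz
        exact Finset.mem_filter.2 ⟨Finset.mem_univ _, (hsq _ y.2).1⟩) (by rw [hc, a4_four])
    intro z hz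
    obtain ⟨y, -, hy⟩ := Finset.mem_image.1 (heq.ge (Finset.mem_filter.2 ⟨Finset.mem_univ z, hz⟩))
    exact ⟨_, y.2, hy⟩
  -- the generators of the Sylow three-subgroup
  obtain ⟨s, hs3, hs1⟩ := a4_exists
  haveI : (Subgroup.prod (⊤ : Subgroup A) (⊥ : Subgroup A)).Normal := Subgroup.prod_normal _ _
  haveI : (Subgroup.prod (⊥ : Subgroup A) (⊤ : Subgroup A)).Normal := Subgroup.prod_normal _ _
  obtain ⟨g, hgQ, -⟩ := sylow_mem Q (Subgroup.prod (⊤ : Subgroup A) (⊥ : Subgroup A)) (x := ((s, 1) : A × A))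
    ⟨Subgroup.mem_top _, rfl⟩ (Prod.ext hs3 (one_pow 3))
  obtain ⟨g', hgQ', -⟩ := sylow_mem Q (Subgroup.prod (⊥ : Subgroup A) (⊤ : Subgroup A)) (x := ((1, s) : A × A))
    ⟨rfl, Subgroup.mem_top _⟩ (Prod.ext (one_pow 3) hs3)
  set r := g.1 * s * g.1⁻¹ with hr
  set r' := g'.2 * s * g'.2⁻¹ with hr'
  have hrQ : ((r, 1) : A × A) ∈ (Q : Subgroup _) := by
    convert hgQ using 1; exact Prod.ext rfl (by simp)
  have hr'Q : ((1, r') : A × A) ∈ (Q : Subgroup _) := by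
    convert hgQ' using 1; exact Prod.ext (by simp) rfl
  have hr3 : r ^ 3 = 1 := by rw [hr, conj_pow, hs3]; simp
  have hr'3 : r' ^ 3 = 1 := by rw [hr', conj_pow, hs3]; simp
  have hr1 : r ≠ 1 := fun h => hs1 (by rwa [hr, conj_eq_one_iff] at h)
  have hr'1 : r' ≠ 1 := fun h => hs1 (by rwa [hr', conj_eq_one_iff] at h)
  -- a generator of `B`
  obtain ⟨x₀, hx₀, hx₀1⟩ : ∃ x₀ : A, x₀ ^ 2 = 1 ∧ x₀ ≠ 1 := by decide
  obtain ⟨y, hy, hy1⟩ := hsurj x₀ hx₀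
  obtain ⟨hprod, hall, hne⟩ := a4_invol r x₀ hr3 hr1 hx₀ hx₀1
  obtain ⟨z, hz, hz1⟩ := hsurj (r * x₀ * r⁻¹) (by rw [conj_pow, hx₀]; simp)
  have one_fst : ∀ w ∈ B, w.2 = 1 → w.1 = 1 := fun w hw h => by rw [hinj2 w hw 1 B.one_mem h]; rfl
  have hu1 : y.2 ≠ 1 := fun h => hx₀1 (hy1 ▸ one_fst y hy h)
  have hv1 : z.2 ≠ 1 := fun h => hx₀1 (conj_eq_one_iff.1 (hz1 ▸ one_fst z hz h))
  have hvu : z.2 ≠ y.2 := fun h => hne (by rw [← hz1, hinj2 z hz y hy h, hy1])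
  obtain ⟨t, ht3, ht1, htQ, htv⟩ : ∃ t : A, t ^ 3 = 1 ∧ t ≠ 1 ∧ ((r, t) : A × A) ∈ (Q : Subgroup _) ∧ z.2 = t * y.2 * t⁻¹ := by
    rcases a4_two r' y.2 z.2 hr'3 hr'1 (hsq y hy).2 hu1 (hsq z hz).2 hv1 hvu with h | h
    · exact ⟨r', hr'3, hr'1, by convert (Q : Subgroup _).mul_mem hrQ hr'Q using 1; exact Prod.ext (by simp) (by simp), h⟩
    · refine ⟨r'⁻¹, by rw [inv_pow, hr'3, inv_one], inv_ne_one.2 hr'1, ?_, by rw [inv_inv]; exact h⟩
      convert (Q : Subgroup _).mul_mem hrQ ((Q : Subgroup _).inv_mem hr'Q) using 1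
      exact Prod.ext (by simp) (by simp)
  obtain ⟨hprod', -, -⟩ := a4_invol t y.2 ht3 ht1 (hsq y hy).2 hu1
  have gy : (r, t) * y * (r, t)⁻¹ = z := by
    refine Prod.ext ?_ ?_
    · show r * y.1 * r⁻¹ = z.1
      rw [hy1, hz1]
    · exact htv.symm
  have gz : (r, t) * z * (r, t)⁻¹ = y * z := by
    refine Prod.ext ?_ ?_
    · show r * z.1 * r⁻¹ = y.1 * z.1
      rw [hy1, hz1, hprod]
    · show t * z.2 * t⁻¹ = y.2 * z.2
      rw [htv, hprod']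
  have gyz : (r, t) * (y * z) * (r, t)⁻¹ = z * (y * z) := by
    calc _ = ((r, t) * y * (r, t)⁻¹) * ((r, t) * z * (r, t)⁻¹) := by group
      _ = _ := by rw [gy, gz]
  refine ⟨Subgroup.zpowers ((r, t) : A × A), Subgroup.zpowers_le.2 htQ, ?_, ?_, ?_, ?_⟩
  · rw [Nat.card_zpowers]
    exact orderOf_eq_prime (Prod.ext hr3 ht3) (fun h => hr1 (congrArg Prod.fst h))
  · intro h
    exact ht1 (h.le (Subgroup.mem_zpowers _)).2.2
  · intro h
    exact hr1 (h.le (Subgroup.mem_zpowers _)).2.1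
  · rw [Subgroup.zpowers_le]
    refine Subgroup.mem_normalizer_iff.2 ?_
    have fwd : ∀ w ∈ B, (r, t) * w * (r, t)⁻¹ ∈ B := by
      intro w hw
      rcases hall w.1 (hsq w hw).1 with h | h | h | h
      · rw [hinj1 w hw 1 B.one_mem h, mul_one, mul_inv_cancel]; exact B.one_mem
      · rw [hinj1 w hw y hy (h.trans hy1.symm), gy]; exact hz
      · rw [hinj1 w hw z hz (h.trans hz1.symm), gz]; exact B.mul_mem hy hz
      · rw [hinj1 w hw (y * z) (B.mul_mem hy hz) (by rw [h, Prod.fst_mul, hy1, hz1]), gyz]; exact B.mul_mem hz (B.mul_mem hy hz)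
    intro w
    refine ⟨fwd w, fun hw => ?_⟩
    have h3 : ((r, t) : A × A) ^ 3 = 1 := Prod.ext hr3 ht3
    have := fwd _ (fwd _ hw)
    rwa [show (r, t) * ((r, t) * ((r, t) * w * (r, t)⁻¹) * (r, t)⁻¹) * (r, t)⁻¹ = ((r, t) : A × A) ^ 3 * w * (((r, t) : A × A) ^ 3)⁻¹ by
      simp only [pow_succ, pow_zero, one_mul]; group, h3, one_mul, inv_one, mul_one] at this

end Cfsg.Agent.S4406
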