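import Cfsg.Statements.S4408
import Cfsg.Agent.Lib.Solvable.Fitting
import Cfsg.Agent.Lib.Solvable.Generation
import Cfsg.Agent.Lib.Cores.Fitting
import Mathlib.GroupTheory.NoncommCoprod

set_option autoImplicit false
open Cfsg

namespace Cfsg.Agent.S4408
open Subgroup
open scoped Pointwise

variable {S : Type*} [Group S] [Finite S]

theorem conj_mul' (i a b : S) : i * (a * b) * i⁻¹ = (i * a * i⁻¹) * (i * b * i⁻¹) := by group

theorem odd_sq_eq_one {N : Subgroup S} (hN : Odd (Nat.card N)) {d : S} (hd : d ∈ N) (h : d * d = 1) : d = 1 := by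
  have h1 : orderOf d ∣ 2 := orderOf_dvd_of_pow_eq_one (by rw [pow_two]; exact h)
  have h2 : orderOf d ∣ Nat.card N := by
    have := orderOf_dvd_natCard (⟨d, hd⟩ : N)
    rwa [← Subgroup.orderOf_coe] at this
  exact orderOf_eq_one_iff.1 (Nat.eq_one_of_dvd_coprimes ((Nat.coprime_two_left).2 hN) h1 h2)

/-- An involution centralizing a self-centralizing subgroup of a nilpotent group of odd order
centralizes it. -/
theorem commute_of_commute (N D : Subgroup S) (hN : Odd (Nat.card N)) (hnil : Group.IsNilpotent N)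
    (hD : D ≤ N) (hself : N ⊓ centralizer (D : Set S) ≤ D) {i : S} (hi : i * i = 1)
    (hiN : i ∈ normalizer (N : Set S)) (hiD : ∀ d ∈ D, i * d = d * i) : ∀ n ∈ N, i * n = n * i := by
  by_contra hcon
  set E := N ⊓ centralizer ({i} : Set S) with hE
  have hEmem : ∀ {x}, x ∈ E ↔ x ∈ N ∧ x * i = i * x := by
    intro x; rw [hE, mem_inf, mem_centralizer_singleton_iff]
  have hne : E.subgroupOf N ≠ ⊤ := by
    intro h
    apply hcon
    intro n hn
    have : n ∈ E := (subgroupOf_eq_top.1 h) hn
    exact ((hEmem.1 this).2).symm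
  haveI := hnil
  obtain ⟨x, hx, hx'⟩ := SetLike.exists_of_lt
    (Group.normalizerCondition_of_isNilpotent (E.subgroupOf N) (lt_top_iff_ne_top.2 hne))
  have hDE : ∀ d ∈ D, d ∈ E := fun d hd => hEmem.2 ⟨hD hd, (hiD d hd).symm⟩
  set d := (x : S)⁻¹ * (i * x * i⁻¹) with hd
  have hdN : d ∈ N := N.mul_mem (N.inv_mem x.2) (CfsgLib.Solvable.normalizer_conj_mem hiN x.2)
  have hdc : d ∈ centralizer (D : Set S) := by
    rw [mem_centralizer_iff]
    intro e he
    have h1 := (mem_normalizer_iff.1 hx ⟨e, hD he⟩).1 (hDE e he)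
    have h2 : ((x : S) * e * (x : S)⁻¹) * i = i * ((x : S) * e * (x : S)⁻¹) := (hEmem.1 h1).2
    have h3 : i * e * i⁻¹ = e := mul_inv_eq_iff_eq_mul.2 (hiD e he)
    have h4 : i * x * i⁻¹ * e * (i * x * i⁻¹)⁻¹ = x * e * (x : S)⁻¹ := by
      calc _ = i * x * (i⁻¹ * e * i) * (x : S)⁻¹ * i⁻¹ := by group
        _ = i * (x * e * (x : S)⁻¹) * i⁻¹ := by
          rw [show i⁻¹ * e * i = e by nth_rewrite 1 [← h3]; group]; group
        _ = _ := by rw [← h2]; group
    rw [eq_comm, ← mul_inv_eq_iff_eq_mul]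
    calc d * e * d⁻¹ = (x : S)⁻¹ * (i * x * i⁻¹ * e * (i * x * i⁻¹)⁻¹) * x := by rw [hd]; group
      _ = e := by rw [h4]; group
  have hdE := hEmem.1 (hDE d (hself ⟨hdN, hdc⟩))
  have h5 : i * d * i⁻¹ = d := by rw [← hdE.2]; group
  have hii : i⁻¹ = i := inv_eq_of_mul_eq_one_right hi
  have h6 : d * d = 1 := by
    nth_rewrite 2 [← h5]
    rw [hd, conj_mul', hii]
    have : i * (i * (x : S) * i) * i = x := by
      calc _ = (i * i) * x * (i * i) := by group
        _ = _ := by rw [hi]; simp
    rw [this]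
    calc _ = (x : S)⁻¹ * (i * x * (i * i) * (x : S)⁻¹ * i) * x := by group
      _ = (x : S)⁻¹ * (i * i) * x := by rw [hi]; simp [mul_assoc, hi]
      _ = 1 := by rw [hi]; simp
  have h7 := odd_sq_eq_one hN hdN h6
  apply hx'
  refine hEmem.2 ⟨x.2, ?_⟩
  rw [hd, inv_mul_eq_one] at h7
  exact eq_mul_inv_iff_mul_eq.1 h7

/-- A point of an odd subgroup inverted by `i` and fixed or inverted by each element of `I`. -/
theorem exists_eigen (I : Subgroup S) (hI : Cfsg.IsElementaryAbelian 2 I) :
    ∀ (m : ℕ) (C : Subgroup S), Nat.card C = m → Odd (Nat.card C) → I ≤ normalizer (C : Set S) →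
      ∀ i ∈ I, (¬ ∀ c ∈ C, i * c = c * i) →
        ∃ x ∈ C, (orderOf x).Prime ∧ i * x * i⁻¹ = x⁻¹ ∧ ∀ j ∈ I, j * x * j⁻¹ = x ∨ j * x * j⁻¹ = x⁻¹ := by
  intro m
  induction m using Nat.strong_induction_on with
  | _ m ih =>
  intro C hm hC hIC i hi hne
  have hsq : ∀ j ∈ I, j * j = 1 := fun j hj => by rw [← pow_two]; exact hI.2 j hj
  have hinv : ∀ j ∈ I, j⁻¹ = j := fun j hj => inv_eq_of_mul_eq_one_right (hsq j hj)
  have hab : ∀ a ∈ I, ∀ b ∈ I, a * b = b * a := fun a ha b hb =>
    congrArg Subtype.val (hI.1.is_comm.comm (⟨a, ha⟩ : I) ⟨b, hb⟩)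
  by_cases hB : ∀ j ∈ I, (∀ c ∈ C, j * c = c * j) ∨ (∀ c ∈ C, i * j * c = c * (i * j))
  · push Not at hne
    obtain ⟨c, hc, hc'⟩ := hne
    set y := c⁻¹ * (i * c * i⁻¹) with hy
    have hyC : y ∈ C := C.mul_mem (C.inv_mem hc) (CfsgLib.Solvable.normalizer_conj_mem (hIC hi) hc)
    have hy1 : y ≠ 1 := fun h => hc' (eq_mul_inv_iff_mul_eq.1 (inv_mul_eq_one.1 (hy ▸ h))).symm
    have hyi : i * y * i⁻¹ = y⁻¹ := by
      have : i * (i * c * i⁻¹) * i⁻¹ = c := by
        calc _ = (i * i) * c * (i * i)⁻¹ := by group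
          _ = _ := by rw [hsq i hi]; simp
      rw [hy, conj_mul', this]; group
    obtain ⟨r, hr, hrd⟩ := Nat.exists_prime_and_dvd (fun h => hy1 (orderOf_eq_one_iff.1 h))
    set x := y ^ (orderOf y / r) with hx
    have hxi : i * x * i⁻¹ = x⁻¹ := by rw [hx, ← conj_pow, hyi, inv_pow]
    refine ⟨x, C.pow_mem hyC _, by rw [hx, orderOf_pow_orderOf_div (orderOf_pos y).ne' hrd]; exact hr, hxi, fun j hj => ?_⟩
    have hxC : x ∈ C := C.pow_mem hyC _
    rcases hB j hj with h | h
    · exact Or.inl (mul_inv_eq_iff_eq_mul.2 (h x hxC))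
    · refine Or.inr ?_
      calc j * x * j⁻¹ = i⁻¹ * ((i * j) * x * (i * j)⁻¹) * i := by group
        _ = i⁻¹ * x * i := by rw [mul_inv_eq_iff_eq_mul.2 (h x hxC)]
        _ = i * x * i⁻¹ := by rw [hinv i hi]
        _ = _ := hxi
  · simp only [not_forall, not_or] at hB
    obtain ⟨j, hj, ⟨cj, hcj, hj'⟩, ⟨cij, hcij, hij'⟩⟩ := hB
    set B := closure ({i, j} : Set S) with hBd
    have hBI : B ≤ I := (closure_le _).2 (Set.insert_subset_iff.2 ⟨hi, Set.singleton_subset_iff.2 hj⟩)
    have hiB : i ∈ B := subset_closure (by simp)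
    have hjB : j ∈ B := subset_closure (by simp)
    have hnc : ¬ IsCyclic B := by
      intro h
      obtain ⟨g, hg⟩ := h.exists_generator
      have hg2 : g * g = 1 := Subtype.ext (hsq g (hBI g.2))
      have two : ∀ b : B, b = 1 ∨ b = g := fun b => by
        obtain ⟨k, rfl⟩ := hg b
        rcases Int.even_or_odd k with ⟨l, rfl⟩ | ⟨l, rfl⟩
        · left
          show g ^ (l + l) = 1
          rw [← two_mul, zpow_mul, zpow_two, hg2, one_zpow]
        · right
          show g ^ (2 * l + 1) = g
          rw [zpow_add_one, zpow_mul, zpow_two, hg2, one_zpow, one_mul]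
      have hj1 : j ≠ 1 := fun h => hj' (by rw [h, one_mul, mul_one])
      have hi1 : i ≠ 1 := fun h => hne fun c _ => by rw [h, one_mul, mul_one]
      have ei : (⟨i, hiB⟩ : B) = g := (two _).resolve_left fun h => hi1 (congrArg Subtype.val h)
      have ej : (⟨j, hjB⟩ : B) = g := (two _).resolve_left fun h => hj1 (congrArg Subtype.val h)
      have e : i = j := congrArg Subtype.val (ei.trans ej.symm)
      exact hij' (by rw [e, hsq j hj, one_mul, mul_one])
    have hcop : (Nat.card B).Coprime (Nat.card C) := by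
      have hp : IsPGroup 2 B := fun b => ⟨1, Subtype.ext (by rw [pow_one, SubmonoidClass.coe_pow]; exact hI.2 b (hBI b.2))⟩
      obtain ⟨k, hk⟩ := IsPGroup.iff_card.1 hp
      rw [hk]; exact Nat.Coprime.pow_left k (Nat.coprime_two_left.2 hC)
    have hgen := CfsgLib.Solvable.iSup_centralizer_eq (K := C) (fun a ha b hb => hab a (hBI ha) b (hBI hb)) hnc
      (hBI.trans hIC) hcop
    obtain ⟨a, ha, ha1, hna⟩ : ∃ a ∈ B, a ≠ 1 ∧ ¬ ∀ c ∈ C ⊓ centralizer {a}, i * c = c * i := by
      by_contra! hall
      apply hne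
      intro c hc
      rw [← hgen] at hc
      have hle0 : (⨆ a ∈ {a : S | a ∈ B ∧ a ≠ 1}, C ⊓ centralizer {a}) ≤ centralizer ({i} : Set S) :=
        iSup₂_le fun a ha x hx => mem_centralizer_singleton_iff.2 (hall a ha.1 ha.2 x hx).symm
      have : c ∈ centralizer ({i} : Set S) := hle0 hc
      exact (mem_centralizer_singleton_iff.1 this).symm
    -- `a` does not centralize `C`
    have hlt : C ⊓ centralizer {a} < C := by
      refine inf_le_left.lt_of_ne fun h => ?_
      have hac : ∀ c ∈ C, a * c = c * a := fun c hc => (mem_centralizer_singleton_iff.1 (h.ge hc).2).symm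
      have hmem : a = 1 ∨ a = i ∨ a = j ∨ a = i * j := by
        have hh : B ≤ { carrier := {1, i, j, i * j}
                        one_mem' := by simp
                        mul_mem' := by
                          intro u v hu hv
                          have hji : j * i = i * j := hab j hj i hi
                          have e1 : ∀ w : S, i * (i * w) = w := fun w => by rw [← mul_assoc, hsq i hi, one_mul]
                          have e2 : ∀ w : S, j * (j * w) = w := fun w => by rw [← mul_assoc, hsq j hj, one_mul]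
                          have e3 : ∀ w : S, j * (i * w) = i * (j * w) := fun w => by rw [← mul_assoc, hji, mul_assoc]
                          simp only [Set.mem_insert_iff, Set.mem_singleton_iff] at hu hv ⊢
                          rcases hu with hu | hu | hu | hu <;> rcases hv with hv | hv | hv | hv <;>
                            simp [hu, hv, hsq i hi, hsq j hj, hji, mul_assoc, e1, e2, e3]
                        inv_mem' := by
                          intro u hu
                          have : u ∈ I := by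
                            simp only [Set.mem_insert_iff, Set.mem_singleton_iff] at hu
                            rcases hu with h | h | h | h <;> rw [h]
                            exacts [I.one_mem, hi, hj, I.mul_mem hi hj]
                          rwa [hinv u this] } := (closure_le _).2 (by
          rintro u (rfl | rfl)
          · exact Or.inr (Or.inl rfl)
          · exact Or.inr (Or.inr (Or.inl rfl)))
        simpa using hh ha
      rcases hmem with rfl | rfl | rfl | rfl
      · exact ha1 rfl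
      · exact hne hac
      · exact hj' (hac cj hcj)
      · exact hij' (hac cij hcij)
    have hI' : I ≤ normalizer ((C ⊓ centralizer {a} : Subgroup S) : Set S) := by
      refine CfsgLib.Solvable.le_normalizer_of_conj_mem fun b hb c hc => ⟨CfsgLib.Solvable.normalizer_conj_mem (hIC hb) hc.1, ?_⟩
      have h1 : c * a = a * c := mem_centralizer_singleton_iff.1 hc.2
      have h2 : Commute b a := hab b hb a (hBI ha)
      refine mem_centralizer_singleton_iff.2 ?_
      have h3 : Commute (b * c * b⁻¹) a := (h2.mul_left h1).mul_left h2.inv_left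
      exact h3.eq
    have hcard : Nat.card (C ⊓ centralizer {a} : Subgroup S) < m := hm ▸ Set.Finite.card_lt_card (Set.toFinite _) hlt
    obtain ⟨x, hx, hrest⟩ := ih _ hcard _ rfl (hC.of_dvd_nat (card_dvd_of_le inf_le_left)) hI' i hi hna
    exact ⟨x, hx.1, hrest⟩

theorem card_sup_zpowers {A : Subgroup S} {x : S} (hx : (orderOf x).Prime) (hxA : x ∉ A)
    (hc : ∀ a ∈ A, a * x = x * a) : Nat.card (A ⊔ zpowers x : Subgroup S) = Nat.card A * orderOf x := by
  have comm : ∀ (a : A) (b : zpowers x), Commute (A.subtype a) ((zpowers x).subtype b) := fun a b => by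
    obtain ⟨k, hk⟩ := b.2
    show Commute (a : S) (b : S)
    rw [← hk]; exact Commute.zpow_right (hc a a.2) k
  set f := A.subtype.noncommCoprod (zpowers x).subtype comm
  have hr : f.range = A ⊔ zpowers x := by rw [MonoidHom.noncommCoprod_range, range_subtype, range_subtype]
  have hdisj : Disjoint A (zpowers x) := by
    rw [disjoint_iff, eq_bot_iff]
    rintro y ⟨hyA, k, hk⟩
    by_contra hy
    apply hxA
    haveI : Fact (orderOf x).Prime := ⟨hx⟩
    have hco : ¬ (orderOf x : ℤ) ∣ k := fun hd => hy (by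
      rw [mem_bot, ← hk]; exact orderOf_dvd_iff_zpow_eq_one.1 hd)
    obtain ⟨u, v, huv⟩ := ((Nat.prime_iff_prime_int.1 hx).coprime_iff_not_dvd.2 hco)
    rw [show x = (x ^ k) ^ v from by
      conv_lhs => rw [← zpow_one x, ← huv, zpow_add, mul_comm u, zpow_mul, zpow_natCast, pow_orderOf_eq_one, one_zpow, one_mul]
      rw [← zpow_mul, mul_comm]]
    exact A.zpow_mem (by rw [show x ^ k = y from hk]; exact hyA) v
  have hinj : Function.Injective f := by
    rw [MonoidHom.noncommCoprod_injective]
    exact ⟨Subtype.val_injective, Subtype.val_injective, by rwa [range_subtype, range_subtype]⟩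
  rw [← hr, ← Nat.card_congr (MonoidHom.ofInjective hinj).toEquiv, Nat.card_prod, Nat.card_zpowers]


/-- Let S be a finite solvable group whose Fitting subgroup F(S) has odd order, and let I be an elementary abelian 2-subgroup of S of order 2ⁿ with n ≥ 1. Then F(S) contains subgroups A₁, …, Aₙ of prime order, each normalized by I, pairwise commuting and generating a subgroup A of order |A₁|⋯|Aₙ| (their internal direct product), such that no non-identity element of I centralizes A. -/
theorem result {S : Type*} [Group S] [Finite S]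
    [Group.IsSolvable S] (hF : Odd (Nat.card ↥(Cfsg.fittingSubgroup S)))
    (I : Subgroup S) (hI : Cfsg.IsElementaryAbelian 2 I) (n : ℕ) (hn : 1 ≤ n) (hIn : Nat.card ↥I = 2 ^ n) :
    ∃ f : Fin n → Subgroup S, (∀ i, (Nat.card ↥(f i)).Prime) ∧ (∀ i, f i ≤ Cfsg.fittingSubgroup S) ∧
      (∀ i, I ≤ Subgroup.normalizer ((f i) : Set S)) ∧ (∀ i j, i ≠ j → ∀ a ∈ f i, ∀ b ∈ f j, a * b = b * a) ∧
      Nat.card ↥(⨆ i, f i) = ∏ i, Nat.card ↥(f i) ∧ I ⊓ Subgroup.centralizer ((⨆ i, f i : Subgroup S) : Set S) = ⊥ := by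
  classical
  set N := Cfsg.fittingSubgroup S with hN
  have hnil : Group.IsNilpotent N := CfsgLib.Cores.isNilpotent_fittingSubgroup
  haveI hNn : N.Normal := Subgroup.sSup_normal _ fun _ hN => hN.1
  have hsq : ∀ j ∈ I, j * j = 1 := fun j hj => by rw [← pow_two]; exact hI.2 j hj
  have hinv : ∀ j ∈ I, j⁻¹ = j := fun j hj => inv_eq_of_mul_eq_one_right (hsq j hj)
  have hab : ∀ a ∈ I, ∀ b ∈ I, a * b = b * a := fun a ha b hb =>
    congrArg Subtype.val (hI.1.is_comm.comm (⟨a, ha⟩ : I) ⟨b, hb⟩)
  have hIN : I ≤ Subgroup.normalizer (N : Set S) := by rw [Subgroup.normalizer_eq_top]; exact le_top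
  have hfaith : ∀ i ∈ I, (∀ x ∈ N, i * x = x * i) → i = 1 := fun i hi h =>
    odd_sq_eq_one hF (CfsgLib.Solvable.centralizer_fittingSubgroup_le
      (Subgroup.mem_centralizer_iff.2 fun x hx => (h x hx).symm)) (hsq i hi)
  suffices key : ∀ k ≤ n, ∃ f : Fin k → Subgroup S, (∀ i, (Nat.card ↥(f i)).Prime) ∧ (∀ i, f i ≤ N) ∧
      (∀ i, I ≤ Subgroup.normalizer ((f i) : Set S)) ∧ (∀ i j, i ≠ j → ∀ a ∈ f i, ∀ b ∈ f j, a * b = b * a) ∧
      (∀ i, ∀ a ∈ f i, ∀ b ∈ f i, a * b = b * a) ∧
      Nat.card ↥(⨆ i, f i) = ∏ i, Nat.card ↥(f i) ∧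
      Nat.card (I ⊓ Subgroup.centralizer ((⨆ i, f i : Subgroup S) : Set S) : Subgroup S) * 2 ^ k = 2 ^ n by
    obtain ⟨f, h1, h2, h3, h4, -, h5, h6⟩ := key n le_rfl
    exact ⟨f, h1, h2, h3, h4, h5, Subgroup.card_eq_one.1 (Nat.eq_of_mul_eq_mul_right (Nat.two_pow_pos n) (h6.trans (one_mul _).symm))⟩
  intro k
  induction k with
  | zero =>
    intro _
    refine ⟨fun i => ⊥, fun i => i.elim0, fun i => i.elim0, fun i => i.elim0, fun i => i.elim0, fun i => i.elim0, ?_, ?_⟩
    · rw [iSup_of_empty]; simp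
    · have : I ⊓ Subgroup.centralizer ((⊥ : Subgroup S) : Set S) = I := inf_eq_left.2 fun a _ =>
        Subgroup.mem_centralizer_iff.2 fun b hb => by rw [Subgroup.mem_bot.1 hb, one_mul, mul_one]
      rw [iSup_of_empty, this, pow_zero, mul_one, hIn]
  | succ k ih =>
    intro hk
    obtain ⟨f, hpr, hle, hnorm, hcom, hself, hprod, hcard⟩ := ih (by omega)
    set A := ⨆ i, f i with hA
    set J := I ⊓ Subgroup.centralizer (A : Set S) with hJ
    have hJ1 : J ≠ ⊥ := by
      intro h
      rw [h, Subgroup.card_bot, one_mul] at hcard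
      have := Nat.pow_right_injective le_rfl hcard
      omega
    obtain ⟨i, hiJ, hi1⟩ := J.bot_or_exists_ne_one.resolve_left hJ1
    have hAN : A ≤ N := iSup_le hle
    have hAab : ∀ a ∈ A, ∀ b ∈ A, a * b = b * a := by
      have h1 : ∀ l, f l ≤ Subgroup.centralizer (A : Set S) := fun l => by
        have : A ≤ Subgroup.centralizer (f l : Set S) := iSup_le fun m b hb => Subgroup.mem_centralizer_iff.2 fun a ha => by
          rcases eq_or_ne l m with rfl | h
          · exact hself l a ha b hb
          · exact hcom l m h a ha b hb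
        exact Subgroup.le_centralizer_iff.1 this
      intro a ha b hb
      exact (Subgroup.mem_centralizer_iff.1 ((iSup_le h1 : A ≤ _) hb) a ha)
    set C := N ⊓ Subgroup.centralizer (A : Set S) with hC
    have hIA : ∀ b ∈ I, ∀ a ∈ A, b * a * b⁻¹ ∈ A := by
      intro b hb
      suffices A ≤ A.comap (MulAut.conj b).toMonoidHom from fun a ha => this ha
      exact iSup_le fun l a ha => Subgroup.mem_iSup_of_mem l (CfsgLib.Solvable.normalizer_conj_mem (hnorm l hb) ha)
    have hIC : I ≤ Subgroup.normalizer (C : Set S) := by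
      refine CfsgLib.Solvable.le_normalizer_of_conj_mem fun b hb c hc => ⟨hNn.conj_mem _ hc.1 _, ?_⟩
      refine Subgroup.mem_centralizer_iff.2 fun a ha => ?_
      have h1 := hIA b⁻¹ (I.inv_mem hb) a ha
      rw [inv_inv] at h1
      have h2 : (b⁻¹ * a * b) * c = c * (b⁻¹ * a * b) := Subgroup.mem_centralizer_iff.1 hc.2 _ h1
      calc a * (b * c * b⁻¹) = b * ((b⁻¹ * a * b) * c) * b⁻¹ := by group
        _ = b * c * b⁻¹ * a := by rw [h2]; group
    have hnc : ¬ ∀ c ∈ C, i * c = c * i := by
      intro hall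
      apply hi1
      refine hfaith i hiJ.1 (commute_of_commute N (A ⊔ C) hF hnil (sup_le hAN inf_le_left) ?_ (hsq i hiJ.1) (hIN hiJ.1) ?_)
      · intro x hx
        exact Subgroup.mem_sup_right ⟨hx.1, Subgroup.centralizer_le (SetLike.coe_subset_coe.2 le_sup_left) hx.2⟩
      · suffices A ⊔ C ≤ Subgroup.centralizer ({i} : Set S) from fun d hd =>
          (Subgroup.mem_centralizer_singleton_iff.1 (this hd)).symm
        exact sup_le (fun a ha => Subgroup.mem_centralizer_singleton_iff.2 (Subgroup.mem_centralizer_iff.1 hiJ.2 a ha))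
          (fun c hc => Subgroup.mem_centralizer_singleton_iff.2 (hall c hc).symm)
    obtain ⟨x, hx, hxp, hxi, heig⟩ := exists_eigen I hI _ C rfl (hF.of_dvd_nat (Subgroup.card_dvd_of_le inf_le_left)) hIC i hiJ.1 hnc
    have hxN : x ∈ N := hx.1
    have hxc : ∀ a ∈ A, a * x = x * a := fun a ha => Subgroup.mem_centralizer_iff.1 hx.2 a ha
    have hxA : x ∉ A := fun h => by
      have h1 : x * i = i * x := Subgroup.mem_centralizer_iff.1 hiJ.2 x h
      rw [← h1, mul_inv_cancel_right] at hxi
      exact hxp.ne_one (orderOf_eq_one_iff.2 (odd_sq_eq_one hF hxN (by nth_rewrite 1 [hxi]; exact inv_mul_cancel x)))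
    have hsup : (⨆ l, (Fin.snoc f (Subgroup.zpowers x) : Fin (k + 1) → Subgroup S) l) = A ⊔ Subgroup.zpowers x := by
      refine le_antisymm (iSup_le fun l => ?_) (sup_le (iSup_le fun l => ?_) ?_)
      · refine Fin.lastCases ?_ (fun l => ?_) l
        · rw [Fin.snoc_last]; exact le_sup_right
        · rw [Fin.snoc_castSucc]; exact le_sup_of_le_left (le_iSup f l)
      · exact le_iSup_of_le l.castSucc (by rw [Fin.snoc_castSucc])
      · exact le_iSup_of_le (Fin.last k) (by rw [Fin.snoc_last])
    refine ⟨Fin.snoc f (Subgroup.zpowers x), ?_, ?_, ?_, ?_, ?_, ?_, ?_⟩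
    · refine Fin.lastCases ?_ (fun l => ?_)
      · rw [Fin.snoc_last, Nat.card_zpowers]; exact hxp
      · rw [Fin.snoc_castSucc]; exact hpr l
    · refine Fin.lastCases ?_ (fun l => ?_)
      · rw [Fin.snoc_last, Subgroup.zpowers_le]; exact hxN
      · rw [Fin.snoc_castSucc]; exact hle l
    · refine Fin.lastCases ?_ (fun l => ?_)
      · rw [Fin.snoc_last]
        refine CfsgLib.Solvable.le_normalizer_of_conj_mem fun b hb z hz => ?_
        obtain ⟨m, rfl⟩ := hz
        rw [← conj_zpow]
        rcases heig b hb with h | h <;> rw [h]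
        · exact ⟨m, rfl⟩
        · exact ⟨-m, by simp⟩
      · rw [Fin.snoc_castSucc]; exact hnorm l
    · have hzc : ∀ a ∈ A, ∀ b ∈ Subgroup.zpowers x, a * b = b * a := by
        rintro a ha _ ⟨m, rfl⟩
        exact (Commute.zpow_right (hxc a ha) m).eq
      refine Fin.lastCases ?_ (fun l => ?_)
      · refine Fin.lastCases (fun h => absurd rfl h) (fun m _ => ?_)
        rw [Fin.snoc_last, Fin.snoc_castSucc]
        exact fun a ha b hb => (hzc b (Subgroup.mem_iSup_of_mem m hb) a ha).symm
      · refine Fin.lastCases (fun _ => ?_) (fun m h => ?_)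
        · rw [Fin.snoc_last, Fin.snoc_castSucc]
          exact fun a ha b hb => hzc a (Subgroup.mem_iSup_of_mem l ha) b hb
        · rw [Fin.snoc_castSucc, Fin.snoc_castSucc]
          exact hcom l m (fun e => h (by rw [e]))
    · refine Fin.lastCases ?_ (fun l => ?_)
      · rw [Fin.snoc_last]
        rintro _ ⟨m, rfl⟩ _ ⟨m', rfl⟩
        exact (Commute.zpow_zpow_self x m m').eq
      · rw [Fin.snoc_castSucc]; exact hself l
    · rw [hsup, card_sup_zpowers hxp hxA hxc, Fin.prod_univ_castSucc, hprod, Fin.snoc_last, Nat.card_zpowers]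
      simp only [Fin.snoc_castSucc]
    · rw [hsup]
      set J' := I ⊓ Subgroup.centralizer ((A ⊔ Subgroup.zpowers x : Subgroup S) : Set S) with hJ'
      have hle' : J' ≤ J := inf_le_inf_left _ (Subgroup.centralizer_le (SetLike.coe_subset_coe.2 le_sup_left))
      have hmem : ∀ b ∈ J, (b ∈ J' ↔ b * x * b⁻¹ = x) := by
        intro b hb
        constructor
        · intro h
          rw [mul_inv_eq_iff_eq_mul]
          exact (Subgroup.mem_centralizer_iff.1 h.2 x (Subgroup.mem_sup_right (Subgroup.mem_zpowers x))).symm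
        · intro h
          refine ⟨hb.1, ?_⟩
          suffices A ⊔ Subgroup.zpowers x ≤ Subgroup.centralizer ({b} : Set S) from
            Subgroup.mem_centralizer_iff.2 fun z hz => Subgroup.mem_centralizer_singleton_iff.1 (this hz)
          refine sup_le (fun a ha => Subgroup.mem_centralizer_singleton_iff.2 (Subgroup.mem_centralizer_iff.1 hb.2 a ha))
            (Subgroup.zpowers_le.2 (Subgroup.mem_centralizer_singleton_iff.2 ?_))
          exact (mul_inv_eq_iff_eq_mul.1 h).symm
      have hidx : (J'.subgroupOf J).index = 2 := by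
        rw [Subgroup.index_eq_two_iff]
        refine ⟨⟨i, hiJ⟩, fun b => ?_⟩
        simp only [Subgroup.mem_subgroupOf, Subgroup.coe_mul]
        rw [hmem _ (J.mul_mem b.2 hiJ), hmem _ b.2]
        have e : (b : S) * i * x * ((b : S) * i)⁻¹ = ((b : S) * x * (b : S)⁻¹)⁻¹ := by
          calc _ = (b : S) * (i * x * i⁻¹) * (b : S)⁻¹ := by group
            _ = _ := by rw [hxi]; group
        rw [e]
        have hxne : x⁻¹ ≠ x := fun h => hxp.ne_one (orderOf_eq_one_iff.2 (odd_sq_eq_one hF hxN (by nth_rewrite 1 [← h]; exact inv_mul_cancel x)))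
        rcases heig b b.2.1 with h | h
        · exact Or.inr ⟨h, by rw [h]; exact hxne⟩
        · exact Or.inl ⟨by rw [h, inv_inv], by rw [h]; exact hxne⟩
      have := Subgroup.card_mul_index (J'.subgroupOf J)
      rw [hidx, Nat.card_congr (Subgroup.subgroupOfEquivOfLe hle').toEquiv] at this
      calc Nat.card J' * 2 ^ (k + 1) = (Nat.card J' * 2) * 2 ^ k := by ring
        _ = 2 ^ n := by rw [this]; exact hcard

end Cfsg.Agent.S4408
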