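import Cfsg.Statements.S4410
import Cfsg.Agent.Lib.LocalEven.SolvableOffender

set_option autoImplicit false
open Cfsg

namespace Cfsg.Agent.S4410
open Subgroup
open scoped commutatorElement

universe u

section Transvections

variable {V : Type u} [AddCommGroup V] [Module (ZMod 2) V]

/-- `s` moves every vector by `0` or `a`, and moves some. -/
structure Tv (s : V ≃ₗ[ZMod 2] V) (a : V) : Prop where
  step : ∀ x, s x = x ∨ s x = x + a
  moves : ∃ x, s x = x + a
  ne : a ≠ 0
  fix : s a = a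

theorem two_eq (x : V) : x + x = 0 := ZModModule.add_self x

theorem Tv.conj {s : V ≃ₗ[ZMod 2] V} {a : V} (h : Tv s a) (g : V ≃ₗ[ZMod 2] V) : Tv (g * s * g⁻¹) (g a) := by
  have e : ∀ x, (g * s * g⁻¹) (g x) = g (s x) := fun x => by
    show g (s (g⁻¹ (g x))) = _
    rw [show g⁻¹ (g x) = x from g.symm_apply_apply x]
  refine ⟨fun y => ?_, ?_, fun h0 => h.ne (g.map_eq_zero_iff.1 h0), by rw [e, h.fix]⟩
  · obtain ⟨x, rfl⟩ := g.surjective y
    rcases h.step x with h1 | h1 <;> rw [e, h1]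
    · exact Or.inl rfl
    · exact Or.inr (map_add _ _ _)
  · obtain ⟨x, hx⟩ := h.moves
    exact ⟨g x, by rw [e, hx, map_add]⟩

theorem Tv.fixed_of_commute {s w : V ≃ₗ[ZMod 2] V} {a : V} (h : Tv s a) (hc : s * w = w * s) : w a = a := by
  obtain ⟨x, hx⟩ := h.moves
  have h1 : s (w x) = w (s x) := LinearEquiv.congr_fun hc x
  rw [hx, map_add] at h1
  rcases h.step (w x) with h2 | h2
  · rw [h2] at h1
    exact absurd (w.map_eq_zero_iff.1 (left_eq_add.1 h1)) h.ne
  · rw [h2] at h1
    exact (add_left_cancel h1).symm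

/-- The linear equivalences moving each vector by an element fixed by `w`. -/
def moveFix (w : V ≃ₗ[ZMod 2] V) : Subgroup (V ≃ₗ[ZMod 2] V) where
  carrier := {g | ∀ x, w (g x - x) = g x - x}
  one_mem' x := by simp
  mul_mem' {g h} hg hh x := by
    have e : (g * h) x - x = (g (h x) - h x) + (h x - x) := (sub_add_sub_cancel _ _ _).symm
    rw [e, map_add, hg, hh]
  inv_mem' {g} hg x := by
    have e : g⁻¹ x - x = -(g (g⁻¹ x) - g⁻¹ x) := by
      rw [show g (g⁻¹ x) = x from g.apply_symm_apply x, neg_sub]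
    rw [e, map_neg, hg]

theorem sq_eq_one {t t' t'' w : V ≃ₗ[ZMod 2] V} {a b c : V} (ht : Tv t a) (ht' : Tv t' b) (ht'' : Tv t'' c)
    (h1 : t * w = w * t) (h2 : t' * w = w * t') (h3 : t'' * w = w * t'')
    (hw : w ∈ Subgroup.closure ({t, t', t''} : Set (V ≃ₗ[ZMod 2] V))) : w * w = 1 := by
  have hmem : ∀ {s : V ≃ₗ[ZMod 2] V} {d : V}, Tv s d → s * w = w * s → s ∈ moveFix w := fun {s d} hs hc x => by
    rcases hs.step x with h | h <;> rw [h]
    · simp
    · rw [add_sub_cancel_left]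
      exact hs.fixed_of_commute hc
  have hle : Subgroup.closure ({t, t', t''} : Set (V ≃ₗ[ZMod 2] V)) ≤ moveFix w := by
    rw [Subgroup.closure_le]
    rintro s (rfl | rfl | rfl)
    exacts [hmem ht h1, hmem ht' h2, hmem ht'' h3]
  have hf := hle hw
  ext x
  have h := hf x
  rw [map_sub, sub_eq_sub_iff_add_eq_add, two_eq] at h
  show w (w x) = x
  rw [← add_zero (w (w x)), ← two_eq x, ← add_assoc, h, zero_add]

/-- The plane of a product of two transvections of odd order. -/
theorem plane {t t' : V ≃ₗ[ZMod 2] V} {a b : V} (ht : Tv t a) (ht' : Tv t' b)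
    (hodd : (t' * t) ^ 4 = 1 → t' * t = 1) (hne : t' * t ≠ 1) : t' a = a + b ∧ t b = b + a := by
  set u := t' * t with hu
  have hux : ∀ x, ∃ m, (m = 0 ∨ m = a ∨ m = b ∨ m = a + b) ∧ u x = x + m := fun x => by
    show ∃ m, _ ∧ t' (t x) = x + m
    rcases ht.step x with h | h <;> rcases ht'.step (t x) with h' | h' <;> rw [h', h]
    · exact ⟨0, Or.inl rfl, (add_zero _).symm⟩
    · exact ⟨b, Or.inr (Or.inr (Or.inl rfl)), rfl⟩
    · exact ⟨a, Or.inr (Or.inl rfl), rfl⟩
    · exact ⟨a + b, Or.inr (Or.inr (Or.inr rfl)), add_assoc _ _ _⟩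
  have key : ∀ d, u d = d → (∀ m, (m = 0 ∨ m = a ∨ m = b ∨ m = a + b) → u m = m ∨ u m = m + d) → False := by
    intro d hd hm
    refine hne (hodd ?_)
    ext x
    have h2 : ∀ x, ∃ e, (e = 0 ∨ e = d) ∧ u (u x) = x + e := fun x => by
      obtain ⟨m, hm', hx⟩ := hux x
      rw [hx, map_add, hx]
      rcases hm m hm' with h | h <;> rw [h]
      · exact ⟨0, Or.inl rfl, by rw [add_assoc, two_eq]⟩
      · exact ⟨d, Or.inr rfl, by rw [add_assoc, ← add_assoc m, two_eq, zero_add]⟩
    show u (u (u (u x))) = x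
    obtain ⟨e, he, hx⟩ := h2 x
    have hue : u (u e) = e := by rcases he with rfl | rfl <;> simp [hd]
    rw [hx, map_add, map_add, hx, hue, add_assoc, two_eq, add_zero]
  have ua : u a = t' a := by show t' (t a) = _; rw [ht.fix]
  refine ⟨(ht'.step a).resolve_left fun h => key a (ua.trans h) ?_,
    (ht.step b).resolve_left fun h => key b (by show t' (t b) = b; rw [h, ht'.fix]) ?_⟩
  · have hb : u b = b ∨ u b = b + a := by
      show t' (t b) = b ∨ t' (t b) = b + a
      rcases ht.step b with h' | h' <;> rw [h']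
      · exact Or.inl ht'.fix
      · rw [map_add, ht'.fix, h]; exact Or.inr rfl
    rintro m (rfl | rfl | rfl | rfl)
    · simp
    · exact Or.inl (ua.trans h)
    · exact hb
    · rw [map_add, ua.trans h]
      rcases hb with hb | hb <;> rw [hb]
      · exact Or.inl rfl
      · exact Or.inr (add_assoc _ _ _).symm
  · have hb : u b = b := by show t' (t b) = b; rw [h, ht'.fix]
    have ha : u a = a ∨ u a = a + b := ua ▸ ht'.step a
    rintro m (rfl | rfl | rfl | rfl)
    · simp
    · exact ha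
    · exact Or.inl hb
    · rw [map_add, hb]
      rcases ha with ha | ha <;> rw [ha]
      · exact Or.inl rfl
      · exact Or.inr rfl

theorem no_square_root {t t' P : V ≃ₗ[ZMod 2] V} {a b : V} (ht : Tv t a) (ht' : Tv t' b) (hP : P * P = t)
    (hodd : (t' * t) ^ 4 = 1 → t' * t = 1) (hodd' : (P * t' * P⁻¹ * t) ^ 4 = 1 → P * t' * P⁻¹ * t = 1)
    (hne : t' * t ≠ 1) (hne' : P * t' * P⁻¹ * t ≠ 1)
    (hcomm : (P * t' * P⁻¹ * t) * (t' * t) = (t' * t) * (P * t' * P⁻¹ * t)) : False := by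
  obtain ⟨hta, htb⟩ := plane ht ht' hodd hne
  obtain ⟨hta', -⟩ := plane ht (ht'.conj P) hodd' hne'
  set u := t' * t with hu
  set u' := P * t' * P⁻¹ * t with hu'
  have ua : u a = a + b := by show t' (t a) = _; rw [ht.fix, hta]
  have ub : u b = a := by
    show t' (t b) = a
    rw [htb, map_add, ht'.fix, hta, ← add_assoc, add_comm b a, add_assoc, two_eq, add_zero]
  have ha : a = u (a + b) - (a + b) + 0 := by
    rw [add_zero, map_add, ua, ub, add_sub_assoc, sub_eq_add_neg, ← sub_eq_add_neg]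
    abel
  have hmem : ∀ x, u x - x = 0 ∨ u x - x = a ∨ u x - x = b ∨ u x - x = a + b := fun x => by
    simp only [show u x = t' (t x) from rfl]
    rcases ht.step x with h | h <;> rcases ht'.step (t x) with h' | h'
    · exact Or.inl (by rw [h', h, sub_self])
    · exact Or.inr (Or.inr (Or.inl (by rw [show t' (t x) = x + b from h'.trans (by rw [h]), add_sub_cancel_left])))
    · exact Or.inr (Or.inl (by rw [show t' (t x) = x + a from h'.trans h, add_sub_cancel_left]))
    · exact Or.inr (Or.inr (Or.inr (by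
        rw [show t' (t x) = x + (a + b) from h'.trans (by rw [h, add_assoc]), add_sub_cancel_left])))
  have ha' : u' a = a + P b := by
    show (P * t' * P⁻¹) (t a) = _
    rw [ht.fix]; exact hta'
  have hc : ∀ x, u' (u x) = u (u' x) := fun x => LinearEquiv.congr_fun hcomm x
  have hPb : P b = b ∨ P b = a + b := by
    have h0 : P b ≠ 0 := fun h => ht'.ne (P.map_eq_zero_iff.1 h)
    have hPa : P a = a := ht.fixed_of_commute (by rw [← hP, mul_assoc])
    have hab : P b ≠ a := fun h => by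
      have h1 : b = a := P.injective (h.trans hPa.symm)
      rw [h1, two_eq] at hta
      rw [← h1, ht'.fix, h1] at hta
      exact ht.ne hta
    have h1 : u' a = u (u' (a + b)) - u' (a + b) := by
      conv_lhs => rw [ha, add_zero, map_sub, hc]
    rw [ha'] at h1
    rcases hmem (u' (a + b)) with h | h | h | h <;> rw [h] at h1
    · exact absurd (add_left_cancel (h1.trans (two_eq a).symm)) hab
    · exact absurd (left_eq_add.1 h1.symm) h0
    · exact Or.inr (add_left_cancel (a := a) (by rw [h1, ← add_assoc, two_eq, zero_add]))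
    · exact Or.inl (add_left_cancel h1)
  have hPa : P a = a := ht.fixed_of_commute (by rw [← hP, mul_assoc])
  have hbb : t b = b := by
    rw [← hP]
    show P (P b) = b
    rcases hPb with h | h
    · rw [h, h]
    · rw [h, map_add, hPa, h, ← add_assoc, two_eq, zero_add]
  exact ht.ne (left_eq_add.1 (hbb.symm.trans htb))

theorem exists_tv {P : V ≃ₗ[ZMod 2] V} [Finite V] (hne : P * P ≠ 1) (hinv : (P * P) * (P * P) = 1)
    (hsmall : ¬ 4 ≤ Nat.card ↥(LinearMap.range (((P : V →ₗ[ZMod 2] V) - LinearMap.id) ^ 2))) :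
    ∃ a, Tv (P * P) a := by
  set D := LinearMap.range (((P : V →ₗ[ZMod 2] V) - LinearMap.id) ^ 2) with hD
  have hsq : ∀ x, ((((P : V →ₗ[ZMod 2] V) - LinearMap.id) ^ 2 : V →ₗ[ZMod 2] V)) x = (P * P) x - x := fun x => by
    rw [pow_two, Module.End.mul_apply]
    show P (P x - x) - (P x - x) = P (P x) - x
    rw [map_sub]
    simp only [ZModModule.sub_eq_add]
    rw [add_assoc, ← add_assoc (P x), two_eq, zero_add]
  obtain ⟨x₀, hx₀⟩ : ∃ x, (P * P) x - x ≠ 0 := by
    by_contra! h
    exact hne (LinearEquiv.ext fun x => sub_eq_zero.1 (h x))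
  set a := (P * P) x₀ - x₀ with ha
  have haD : a ∈ D := ⟨x₀, hsq x₀⟩
  have huniq : ∀ y ∈ D, y = 0 ∨ y = a := by
    intro y hy
    by_contra! h
    refine hsmall ?_
    have h4 : ({0, a, y, a + y} : Set V).ncard = 4 := by
      rw [Set.ncard_insert_of_notMem, Set.ncard_insert_of_notMem, Set.ncard_pair]
      · intro e
        exact hx₀ (right_eq_add.1 e)
      · simp only [Set.mem_insert_iff, Set.mem_singleton_iff]
        rintro (e | e)
        · exact h.2 e.symm
        · exact h.1 (left_eq_add.1 e)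
      · simp only [Set.mem_insert_iff, Set.mem_singleton_iff]
        rintro (e | e | e)
        · exact hx₀ e.symm
        · exact h.1 e.symm
        · have : a + (a + y) = a := by rw [← e, add_zero]
          rw [← add_assoc, two_eq, zero_add] at this
          exact h.2 this
    calc 4 = ({0, a, y, a + y} : Set V).ncard := h4.symm
      _ ≤ (D : Set V).ncard := by
        refine Set.ncard_le_ncard ?_ (Set.toFinite _)
        rintro z (rfl | rfl | rfl | rfl)
        exacts [D.zero_mem, haD, hy, D.add_mem haD hy]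
      _ = Nat.card D := (Nat.card_coe_set_eq _).symm
  refine ⟨a, fun x => ?_, ⟨x₀, (add_sub_cancel _ _).symm⟩, hx₀, ?_⟩
  · rcases huniq _ ⟨x, hsq x⟩ with h | h
    · exact Or.inl (sub_eq_zero.1 h)
    · exact Or.inr (sub_eq_iff_eq_add'.1 h)
  · rw [ha, map_sub, show (P * P) ((P * P) x₀) = x₀ from LinearEquiv.congr_fun hinv x₀]
    rw [ZModModule.sub_eq_add, ZModModule.sub_eq_add, add_comm]

end Transvections

theorem exists_minimal_odd {G : Type u} [Group G] [Finite G] [Group.IsSolvable G] (hO : Cfsg.pCore 2 G = ⊥)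
    {p t : G} (hpt : p * p = t) (ht : t * t = 1) (ht1 : t ≠ 1) :
    ∃ R : Subgroup G, Odd (Nat.card R) ∧ (∀ x ∈ R, p * x * p⁻¹ ∈ R) ∧ (∃ x ∈ R, t * x ≠ x * t) ∧
      ∀ R' : Subgroup G, R' < R → (∀ x ∈ R', p * x * p⁻¹ ∈ R') → ∀ x ∈ R', t * x = x * t := by
  haveI : Fact (Nat.Prime 2) := ⟨Nat.prime_two⟩
  let s : Set (Subgroup G) :=
    {R | Odd (Nat.card R) ∧ (∀ x ∈ R, p * x * p⁻¹ ∈ R) ∧ ∃ x ∈ R, t * x ≠ x * t}
  have hs : s.Nonempty := by
    refine ⟨Cfsg.pPrimeCore 2 G, Nat.coprime_two_right.1 (CfsgLib.Cores.coprime_card_pPrimeCore 2),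
      fun x hx => (inferInstance : (Cfsg.pPrimeCore 2 G).Normal).conj_mem x hx p, ?_⟩
    by_contra! h
    have h1 : t ∈ Cfsg.pPrimeCore 2 G :=
      CfsgLib.LocalEven.Offender.centralizer_pPrimeCore_le_of_pCore_eq_bot hO
        (mem_centralizer_iff.2 fun x hx => (h x hx).symm)
    have h2 : orderOf t = 2 := orderOf_eq_prime (by rw [pow_two, ht]) ht1
    have h3 := Subgroup.orderOf_dvd_natCard _ h1
    rw [h2] at h3
    exact (Nat.not_even_iff_odd.2 (Nat.coprime_two_right.1 (CfsgLib.Cores.coprime_card_pPrimeCore 2)))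
      (even_iff_two_dvd.2 h3)
  obtain ⟨R, ⟨h1, h2, h3⟩, hmin⟩ := wellFounded_lt.has_min s hs
  refine ⟨R, h1, h2, h3, fun R' hlt hinv x hx => ?_⟩
  by_contra hne
  exact hmin R' ⟨h1.of_dvd_nat (card_dvd_of_le hlt.le), hinv, x, hx, hne⟩ hlt

theorem odd_mem_sq {G : Type u} [Group G] [Finite G] {R : Subgroup G} (hR : Odd (Nat.card R)) {u : G} (hu : u ∈ R) :
    ∃ k : ℕ, (u ^ k) * (u ^ k) = u := by
  obtain ⟨m, hm⟩ := hR.of_dvd_nat (Subgroup.orderOf_dvd_natCard R hu)
  exact ⟨m + 1, by rw [← pow_add, show m + 1 + (m + 1) = orderOf u + 1 by omega, pow_succ, pow_orderOf_eq_one, one_mul]⟩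

/-- Let V be a finite-dimensional vector space over the field with two elements and S a solvable group of linear automorphisms of V with O₂(S) = 1. If P ∈ S has order 4 and (P − 1)³ = 0 on V, then the image of (P − 1)² has at least 4 elements; equivalently, in the decomposition of V into indecomposable modules for the cyclic group generated by P, at least two summands have dimension 3. -/
theorem result
    {V : Type*} [AddCommGroup V] [Module (ZMod 2) V] [Finite V]
    (S : Subgroup (V ≃ₗ[ZMod 2] V)) (hS : Group.IsSolvable ↥S) (hO2 : Cfsg.pCore 2 ↥S = ⊥)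
    (P : V ≃ₗ[ZMod 2] V) (hPS : P ∈ S) (hP4 : orderOf P = 4)
    (hcub : ((P : V →ₗ[ZMod 2] V) - LinearMap.id) ^ 3 = 0) :
    4 ≤ Nat.card ↥(LinearMap.range (((P : V →ₗ[ZMod 2] V) - LinearMap.id) ^ 2)) := by
  classical
  by_contra hsmall
  haveI : Finite (V ≃ₗ[ZMod 2] V) := Finite.of_injective (fun e => (e : V → V)) DFunLike.coe_injective
  set p : ↥S := ⟨P, hPS⟩ with hp
  set t : ↥S := p * p with ht
  have hp4' : orderOf p = 4 := by rw [← Subgroup.orderOf_coe]; exact hP4
  have htne : t ≠ 1 := fun h => by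
    have := orderOf_dvd_of_pow_eq_one (show p ^ 2 = 1 by rw [pow_two]; exact h)
    rw [hp4'] at this
    exact absurd this (by decide)
  have htt : t * t = 1 := by
    have := pow_orderOf_eq_one p
    rw [hp4', show (4 : ℕ) = 2 + 2 from rfl, pow_add, pow_two] at this
    exact this
  obtain ⟨a, hta⟩ := exists_tv (P := P) (fun h => htne (Subtype.ext h)) (congrArg Subtype.val htt) hsmall
  obtain ⟨R, hodd, hinv, hnc, hmin⟩ := exists_minimal_odd hO2 ht.symm htt htne
  have hti : t⁻¹ = t := inv_eq_of_mul_eq_one_left htt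
  have hinvt : ∀ x ∈ R, t * x * t ∈ R := fun x hx => by
    have := hinv _ (hinv x hx)
    have e : t * x * t⁻¹ = p * (p * x * p⁻¹) * p⁻¹ := by rw [ht]; group
    rw [hti] at e
    rw [e]; exact this
  have hpc : p * t = t * p := by rw [ht, mul_assoc]
  set U : Set ↥S := {u | u ∈ R ∧ t * u * t = u⁻¹} with hU
  have hgen : Subgroup.closure U = R := by
    refine ((Subgroup.closure_le R).2 fun u hu => hu.1).eq_or_lt.resolve_right fun hlt => ?_
    obtain ⟨x, hx, hne⟩ := hnc
    refine hne ?_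
    have hpU : ∀ y ∈ Subgroup.closure U, p * y * p⁻¹ ∈ Subgroup.closure U := fun y hy => by
      have hle : Subgroup.closure U ≤ (Subgroup.closure U).comap (MulAut.conj p).toMonoidHom := by
        rw [Subgroup.closure_le]
        intro z hz
        refine Subgroup.subset_closure ⟨hinv z hz.1, ?_⟩
        show t * (p * z * p⁻¹) * t = (p * z * p⁻¹)⁻¹
        have hpc' : p⁻¹ * t = t * p⁻¹ := ((Commute.inv_left (hpc : Commute p t))).eq
        calc t * (p * z * p⁻¹) * t = (t * p) * z * (p⁻¹ * t) := by group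
          _ = p * (t * z * t) * p⁻¹ := by rw [← hpc, hpc']; group
          _ = _ := by rw [hz.2]; group
      exact hle hy
    have hu : x⁻¹ * (t * x * t) ∈ U := ⟨R.mul_mem (R.inv_mem hx) (hinvt x hx), by
      calc t * (x⁻¹ * (t * x * t)) * t = t * x⁻¹ * t * x * (t * t) := by group
        _ = t⁻¹ * x⁻¹ * t⁻¹ * x := by rw [htt, hti, mul_one]
        _ = _ := by group⟩
    have h1 := hmin _ hlt hpU _ (Subgroup.subset_closure hu)
    have h2 := hu.2
    rw [h1, mul_assoc, htt, mul_one] at h2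
    obtain ⟨k, hk⟩ := odd_mem_sq hodd hu.1
    have hsq : (x⁻¹ * (t * x * t)) ^ 2 = 1 := by
      rw [pow_two]; nth_rewrite 1 [h2]; exact inv_mul_cancel _
    have h3 : x⁻¹ * (t * x * t) = 1 := by
      rw [← hk, ← pow_add, ← two_mul, pow_mul, hsq, one_pow]
    rw [inv_mul_eq_one] at h3
    calc t * x = t * (t * x * t) := by rw [← h3]
      _ = (t * t) * (x * t) := by group
      _ = x * t := by rw [htt, one_mul]
  set K := ⁅R, R⁆ with hK
  have hKlt : K < R := Group.IsSolvable.commutator_lt_of_ne_bot fun h => by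
    obtain ⟨x, hx, hne⟩ := hnc
    rw [h, Subgroup.mem_bot] at hx
    exact hne (by rw [hx, mul_one, one_mul])
  have hKt : ∀ w ∈ K, t * w = w * t := hmin K hKlt (fun y hy => by
    have hle : K ≤ K.comap (MulAut.conj p).toMonoidHom := by
      rw [← Subgroup.map_le_iff_le_comap, Subgroup.map_commutator]
      refine Subgroup.commutator_mono ?_ ?_ <;>
      · rintro z ⟨y, hy, rfl⟩
        exact hinv y hy
    exact hle hy)
  have hroot : ∀ u ∈ U, ∃ r : ↥S, r * t * r⁻¹ * t = u := fun u hu => by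
    obtain ⟨k, hk⟩ := odd_mem_sq hodd hu.1
    refine ⟨u ^ k, ?_⟩
    have h1 : t * u * t⁻¹ = u⁻¹ := by rw [hti]; exact hu.2
    have h2 : t * (u ^ k)⁻¹ * t⁻¹ = u ^ k := by
      rw [← inv_pow, ← conj_pow, ← inv_inj, ← inv_pow]
      simp only [mul_inv_rev, inv_inv, ← mul_assoc, h1, inv_pow]
    rw [hti] at h2
    calc u ^ k * t * (u ^ k)⁻¹ * t = u ^ k * (t * (u ^ k)⁻¹ * t) := by group
      _ = _ := by rw [h2, hk]
  have hsqrt : ∀ u ∈ R, u * u = 1 → u = 1 := fun u hu h => by
    obtain ⟨k, hk⟩ := odd_mem_sq hodd hu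
    rw [← hk, ← pow_add, ← two_mul, pow_mul, pow_two, h, one_pow]
  have hUc : ∀ u ∈ U, ∀ v ∈ U, u * v = v * u := by
    intro u hu v hv
    set w := ⁅u, v⁆ with hw
    have hwK : w ∈ K := Subgroup.commutator_mem_commutator hu.1 hv.1
    have hcw : ∀ z ∈ U, z * w = w * z := fun z hz => by
      have hzK : z * w * z⁻¹ ∈ K := by
        have : ⁅z, w⁆ * w ∈ K :=
          K.mul_mem (Subgroup.commutator_mem_commutator hz.1 (hKlt.le hwK)) hwK
        rwa [show ⁅z, w⁆ * w = z * w * z⁻¹ by rw [commutatorElement_def]; group] at this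
      have h1 := hKt _ hzK
      have h2 : z⁻¹ * w * z = z * w * z⁻¹ := by
        calc z⁻¹ * w * z = (t * z * t) * w * (t * z * t)⁻¹ := by rw [hz.2]; group
          _ = (t * z * t) * w * (t⁻¹ * z⁻¹ * t⁻¹) := by group
          _ = t * z * (t * w) * t * z⁻¹ * t := by rw [hti]; group
          _ = t * z * w * (t * t) * z⁻¹ * t := by rw [hKt w hwK]; group
          _ = (t * (z * w * z⁻¹)) * t := by rw [htt]; group
          _ = (z * w * z⁻¹) * (t * t) := by rw [h1]; group
          _ = _ := by rw [htt, mul_one]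
      have h3 : Commute (z * z) w := by
        show z * z * w = w * (z * z)
        calc z * z * w = z * (z * w * z⁻¹) * z := by group
          _ = z * (z⁻¹ * w * z) * z := by rw [h2]
          _ = _ := by group
      obtain ⟨k, hk⟩ := odd_mem_sq hodd hz.1
      have h4 : (z * z) ^ k = z := by
        rw [Commute.mul_pow (Commute.refl z), hk]
      have := (h3.pow_left k).eq
      rwa [h4] at this
    obtain ⟨r, hr⟩ := hroot u hu
    obtain ⟨r', hr'⟩ := hroot v hv
    have hcomm : ∀ (z : ↥S) (r₀ : ↥S), r₀ * t * r₀⁻¹ * t = z → z * w = w * z →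
        (r₀ * t * r₀⁻¹) * w = w * (r₀ * t * r₀⁻¹) := fun z r₀ hz hzw => by
      have e : r₀ * t * r₀⁻¹ = z * t := by rw [← hz, mul_assoc (r₀ * t * r₀⁻¹), htt, mul_one]
      rw [e, mul_assoc, hKt w hwK, ← mul_assoc, hzw, mul_assoc]
    have hwmem : (w : V ≃ₗ[ZMod 2] V) ∈
        Subgroup.closure ({(t : V ≃ₗ[ZMod 2] V), ((r * t * r⁻¹ : ↥S) : V ≃ₗ[ZMod 2] V),
          ((r' * t * r'⁻¹ : ↥S) : V ≃ₗ[ZMod 2] V)} : Set (V ≃ₗ[ZMod 2] V)) := by
      set L := Subgroup.closure ({(t : V ≃ₗ[ZMod 2] V), ((r * t * r⁻¹ : ↥S) : V ≃ₗ[ZMod 2] V),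
          ((r' * t * r'⁻¹ : ↥S) : V ≃ₗ[ZMod 2] V)} : Set (V ≃ₗ[ZMod 2] V))
      have hT : t ∈ L.comap S.subtype := Subgroup.subset_closure (Or.inl rfl)
      have hU' : u ∈ L.comap S.subtype := hr ▸ mul_mem (Subgroup.subset_closure (Or.inr (Or.inl rfl))) hT
      have hV' : v ∈ L.comap S.subtype := hr' ▸ mul_mem (Subgroup.subset_closure (Or.inr (Or.inr rfl))) hT
      rw [hw, commutatorElement_def]
      exact mul_mem (mul_mem (mul_mem hU' hV') (inv_mem hU')) (inv_mem hV')
    have hsq := sq_eq_one hta (hta.conj (r : V ≃ₗ[ZMod 2] V)) (hta.conj (r' : V ≃ₗ[ZMod 2] V))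
      (congrArg Subtype.val (hKt w hwK)) (congrArg Subtype.val (hcomm u r hr (hcw u hu)))
      (congrArg Subtype.val (hcomm v r' hr' (hcw v hv))) hwmem
    exact commutatorElement_eq_one_iff_mul_comm.1 (hsqrt w (hKlt.le hwK) (Subtype.ext hsq))
  obtain ⟨u, hu, hu1⟩ : ∃ u ∈ U, u ≠ 1 := by
    by_contra! h
    obtain ⟨x, hx, hne⟩ := hnc
    rw [← hgen, show Subgroup.closure U = ⊥ from (Subgroup.closure_eq_bot_iff).2 fun z hz => h z hz,
      Subgroup.mem_bot] at hx
    exact hne (by rw [hx, mul_one, one_mul])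
  have hu' : p * u * p⁻¹ ∈ U := by
    refine ⟨hinv u hu.1, ?_⟩
    have hpc' : p⁻¹ * t = t * p⁻¹ := ((Commute.inv_left (hpc : Commute p t))).eq
    calc t * (p * u * p⁻¹) * t = (t * p) * u * (p⁻¹ * t) := by group
      _ = p * (t * u * t) * p⁻¹ := by rw [← hpc, hpc']; group
      _ = _ := by rw [hu.2]; group
  obtain ⟨r, hr⟩ := hroot u hu
  have hr' : p * (r * t * r⁻¹) * p⁻¹ * t = p * u * p⁻¹ := by
    have hpc' : p⁻¹ * t = t * p⁻¹ := ((Commute.inv_left (hpc : Commute p t))).eq
    rw [← hr]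
    calc p * (r * t * r⁻¹) * p⁻¹ * t = p * (r * t * r⁻¹) * (p⁻¹ * t) := by group
      _ = _ := by rw [hpc']; group
  have hfour : ∀ z ∈ R, (z : V ≃ₗ[ZMod 2] V) ^ 4 = 1 → (z : V ≃ₗ[ZMod 2] V) = 1 := fun z hz h => by
    have h' : z ^ 4 = 1 := Subtype.ext h
    have h2 : z * z = 1 := hsqrt _ (R.mul_mem hz hz) (by
      simpa [pow_succ, mul_assoc] using h')
    exact congrArg Subtype.val (hsqrt z hz h2)
  refine no_square_root (t' := ((r * t * r⁻¹ : ↥S) : V ≃ₗ[ZMod 2] V)) hta (hta.conj (r : V ≃ₗ[ZMod 2] V)) rfl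
    ?_ ?_ ?_ ?_ ?_
  · exact fun h => by
      have := hfour u hu.1; rw [← hr] at this; exact this h
  · exact fun h => by
      have := hfour (p * u * p⁻¹) hu'.1; rw [← hr'] at this; exact this h
  · exact fun h => hu1 (hr.symm.trans (Subtype.ext h))
  · exact fun h => hu1 (conj_eq_one_iff.1 (hr'.symm.trans (Subtype.ext h)))
  · have := congrArg Subtype.val (hUc _ hu' _ hu)
    rw [← hr', ← hr] at this
    exact this

end Cfsg.Agent.S4410
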