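import Cfsg.Statements.S4415
import Cfsg.Agent.Lib.CubicBlock.Final
import Cfsg.Agent.Lib.Solvable.CoprimeAction
import Cfsg.Agent.Lib.Solvable.Fitting
import Cfsg.Agent.Lib.LocalEven.SolvableOffender

set_option autoImplicit false
set_option linter.unusedSectionVars false
open Cfsg
open scoped commutatorElement

namespace Cfsg.Agent.S4415

open CfsgLib.CubicBlock

section Group

variable {S : Type*} [Group S] [Finite S] [Group.IsSolvable S]

/-- The four group lies in the `3'`-core. -/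
theorem comm_mem_core (B : Subgroup S) (hB : Nat.card B = 3) (b : S) (hb : Subgroup.zpowers b = B)
    (P : Sylow 3 S) (hBZ : (Subgroup.center ↥(P : Subgroup S)).map (P : Subgroup S).subtype = B)
    {x y : S} (hy : y = x * b * x⁻¹ * b⁻¹) (hy2 : y ^ 2 = 1) : y ∈ pPrimeCore 3 S := by
  have : Fact (Nat.Prime 3) := ⟨Nat.prime_three⟩
  set K := pPrimeCore 3 S with hK
  have hKn : K.Normal := Subgroup.sSup_normal _ fun N hN => hN.1
  let π := QuotientGroup.mk' K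
  have hbot : pPrimeCore 3 (S ⧸ K) = ⊥ := CfsgLib.Cores.pPrimeCore_quotient_self 3
  have hcen := CfsgLib.Solvable.centralizer_pCore_le (G := S ⧸ K) 3 hbot
  obtain ⟨hbP, hbc⟩ : b ∈ (P : Subgroup S) ∧ ∀ p ∈ (P : Subgroup S), p * b = b * p := by
    have hbB : b ∈ B := hb ▸ Subgroup.mem_zpowers b
    rw [← hBZ] at hbB
    obtain ⟨c, hc, e⟩ := hbB
    have e' : (c : S) = b := e
    refine ⟨e' ▸ c.2, fun p hp => ?_⟩
    rw [← e']
    exact congrArg Subtype.val (Subgroup.mem_center_iff.1 hc ⟨p, hp⟩)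
  let Pq : Sylow 3 (S ⧸ K) := P.mapSurjective (f := π) (QuotientGroup.mk'_surjective K)
  have hb' : π b ∈ pCore 3 (S ⧸ K) := hcen (Subgroup.mem_centralizer_iff.2 fun t ht => by
    have htP : t ∈ (Pq : Subgroup (S ⧸ K)) := CfsgLib.Cores.pCore_le_sylow Pq ht
    rw [Sylow.coe_mapSurjective] at htP
    obtain ⟨p, hp, rfl⟩ := htP
    rw [← map_mul, ← map_mul, hbc p hp])
  have hn : (pCore 3 (S ⧸ K)).Normal := Subgroup.sSup_normal _ fun N hN => hN.1
  have hy' : π y ∈ pCore 3 (S ⧸ K) := by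
    rw [hy]
    simp only [map_mul, map_inv]
    exact mul_mem (hn.conj_mem _ hb' (π x)) (inv_mem hb')
  obtain ⟨k, hk⟩ := CfsgLib.Cores.isPGroup_pCore (G := S ⧸ K) 3 ⟨_, hy'⟩
  have hk' : π y ^ 3 ^ k = 1 := congrArg Subtype.val hk
  have h2 : π y ^ 2 = 1 := by rw [← map_pow, hy2, map_one]
  have h1 : π y = 1 := orderOf_eq_one_iff.1 (Nat.eq_one_of_dvd_coprimes
    (Nat.Coprime.pow_right k (by norm_num : Nat.Coprime 2 3)) (orderOf_dvd_of_pow_eq_one h2) (orderOf_dvd_of_pow_eq_one hk'))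
  exact (QuotientGroup.eq_one_iff y).1 h1

end Group

/-- Let S be a finite solvable group acting faithfully on a finite-dimensional space E over the field with three elements, with O₃(S) = 1. Let B ≤ S have order 3 and suppose: E = E₀ ⊕ E₁ with B fixing E₁ pointwise, E₀ B-invariant of order 27 and indecomposable under B (a generator of B has a single Jordan block on E₀); B normalizes but does not centralize some subgroup Q of S that is elementary abelian of order 4; and B is the centre of a Sylow 3-subgroup of S. Put R = [O_{3'}(S), B]. Then R is elementary abelian of order 4 or extraspecial of order 32 containing an elementary abelian subgroup of order 8 (a central product of two quaternion groups), and E is the direct sum of a subspace fixed pointwise by R and an RB-invariant subspace on which the subgroup RB acts faithfully and irreducibly. -/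
theorem result {S : Type*} [Group S] [Finite S]
    [Group.IsSolvable S] {E : Type*} [AddCommGroup E] [Module (ZMod 3) E] [Finite E] (ρ : Representation (ZMod 3) S E)
    (hfaith : Function.Injective ρ) (hO3 : Cfsg.pCore 3 S = ⊥)
    (B : Subgroup S) (hB : Nat.card ↥B = 3) (b : S) (hb : Subgroup.zpowers b = B)
    (E₀ E₁ : Submodule (ZMod 3) E) (hE01 : E₀ ⊓ E₁ = ⊥) (hE01' : E₀ ⊔ E₁ = ⊤)
    (hE1 : ∀ v ∈ E₁, ρ b v = v) (hE0inv : ∀ v ∈ E₀, ρ b v ∈ E₀) (hE0 : Nat.card ↥E₀ = 27)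
    (hind : ∃ v ∈ E₀, ρ b (ρ b v - v) - (ρ b v - v) ≠ 0)
    (Q : Subgroup S) (hQ : Cfsg.IsElementaryAbelian 2 Q) (hQ4 : Nat.card ↥Q = 4)
    (hBQ : B ≤ Subgroup.normalizer (Q : Set S)) (hBQ' : ¬ B ≤ Subgroup.centralizer (Q : Set S))
    (P : Sylow 3 S) (hBZ : (Subgroup.center ↥(P : Subgroup S)).map (P : Subgroup S).subtype = B) :
    ((Cfsg.IsElementaryAbelian 2 ⁅Cfsg.pPrimeCore 3 S, B⁆ ∧ Nat.card ↥⁅Cfsg.pPrimeCore 3 S, B⁆ = 4) ∨
      (Cfsg.IsExtraspecial 2 ↥⁅Cfsg.pPrimeCore 3 S, B⁆ ∧ Nat.card ↥⁅Cfsg.pPrimeCore 3 S, B⁆ = 32 ∧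
        ∃ A : Subgroup S, A ≤ ⁅Cfsg.pPrimeCore 3 S, B⁆ ∧ Cfsg.IsElementaryAbelian 2 A ∧ Nat.card ↥A = 8)) ∧
    ∃ F₀ F₁ : Submodule (ZMod 3) E, F₀ ⊓ F₁ = ⊥ ∧ F₀ ⊔ F₁ = ⊤ ∧
      (∀ r ∈ ⁅Cfsg.pPrimeCore 3 S, B⁆, ∀ v ∈ F₁, ρ r v = v) ∧ (∀ r ∈ ⁅Cfsg.pPrimeCore 3 S, B⁆ ⊔ B, ∀ v ∈ F₀, ρ r v ∈ F₀) ∧
      (∀ r ∈ ⁅Cfsg.pPrimeCore 3 S, B⁆ ⊔ B, (∀ v ∈ F₀, ρ r v = v) → r = 1) ∧
      (∀ N : Submodule (ZMod 3) E, N ≤ F₀ → (∀ r ∈ ⁅Cfsg.pPrimeCore 3 S, B⁆ ⊔ B, ∀ v ∈ N, ρ r v ∈ N) → N = ⊥ ∨ N = F₀) := by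
  classical
  have : Fact (Nat.Prime 3) := ⟨Nat.prime_three⟩
  set K := pPrimeCore 3 S with hK
  have hKn : K.Normal := Subgroup.sSup_normal _ fun N hN => hN.1
  set R := ⁅K, B⁆ with hR
  have hcube : b ^ 3 = 1 := by
    rw [← hB, ← hb, Nat.card_zpowers]; exact pow_orderOf_eq_one b
  have hbB : b ∈ B := hb ▸ Subgroup.mem_zpowers b
  -- the four group
  obtain ⟨q₁, hq₁, hq₁b⟩ : ∃ q ∈ Q, b * q ≠ q * b := by
    by_contra hcon
    push Not at hcon
    refine hBQ' ?_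
    rw [← hb, Subgroup.zpowers_le, Subgroup.mem_centralizer_iff]
    exact fun q hq => (hcon q hq).symm
  obtain ⟨hQc, hQsq⟩ := hQ
  have hQcomm : ∀ x ∈ Q, ∀ y ∈ Q, x * y = y * x := fun x hx y hy =>
    congrArg Subtype.val (hQc.1.1 ⟨x, hx⟩ ⟨y, hy⟩)
  obtain ⟨q₂, hq₂⟩ : ∃ q, q = b * q₁ * b⁻¹ := ⟨_, rfl⟩
  have hq₂Q : q₂ ∈ Q := hq₂ ▸ (Subgroup.mem_normalizer_iff.1 (hBQ hbB) q₁).1 hq₁
  obtain ⟨q₃, hq₃⟩ : ∃ q, q = b * q₂ * b⁻¹ := ⟨_, rfl⟩
  have hq₃Q : q₃ ∈ Q := hq₃ ▸ (Subgroup.mem_normalizer_iff.1 (hBQ hbB) q₂).1 hq₂Q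
  have hb3 : b * b * b = 1 := by rw [← hcube, pow_succ, pow_two]
  have hq₁3 : b * q₃ * b⁻¹ = q₁ := by
    calc b * q₃ * b⁻¹ = (b * b * b) * q₁ * (b * b * b)⁻¹ := by rw [hq₃, hq₂]; group
      _ = q₁ := by rw [hb3]; group
  have hne : q₁ ≠ 1 := fun e => hq₁b (by simp [e])
  have hne12 : q₁ ≠ q₂ := fun e => hq₁b (by
    calc b * q₁ = b * q₁ * b⁻¹ * b := by group
      _ = q₁ * b := by rw [← hq₂, ← e])
  have hne23 : q₂ ≠ q₃ := fun e => hne12 (by
    have : b * q₁ * b⁻¹ = b * q₂ * b⁻¹ := by rw [← hq₂, ← hq₃]; exact e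
    exact mul_left_cancel (mul_right_cancel this))
  have hne13 : q₁ ≠ q₃ := fun e => hne23 (by
    calc q₂ = b * q₁ * b⁻¹ := hq₂
      _ = b * q₃ * b⁻¹ := by rw [e]
      _ = q₁ := hq₁3
      _ = q₃ := e)
  have hne2 : q₂ ≠ 1 := fun e => hne (by rwa [hq₂, conj_eq_one_iff] at e)
  have hne3 : q₃ ≠ 1 := fun e => hne2 (by rwa [hq₃, conj_eq_one_iff] at e)
  have hs : ∀ x ∈ Q, x * x = 1 := fun x hx => by rw [← pow_two]; exact hQsq x hx
  have hprod : q₃ = q₁ * q₂ := by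
    by_contra hne'
    -- five elements in a group of order four
    let f : Fin 5 → Q := ![⟨1, one_mem Q⟩, ⟨q₁, hq₁⟩, ⟨q₂, hq₂Q⟩, ⟨q₃, hq₃Q⟩, ⟨q₁ * q₂, mul_mem hq₁ hq₂Q⟩]
    have n12 : q₁ * q₂ ≠ 1 := fun e => hne12 (by rw [← inv_eq_of_mul_eq_one_right e, inv_eq_of_mul_eq_one_right (hs q₁ hq₁)])
    have n1 : q₁ * q₂ ≠ q₁ := fun e => hne2 (mul_eq_left.1 e)
    have n2 : q₁ * q₂ ≠ q₂ := fun e => hne (mul_eq_right.1 e)
    have hf : Function.Injective f := by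
      intro i j e
      have e' : (f i : S) = f j := congrArg Subtype.val e
      fin_cases i <;> fin_cases j <;> first | rfl | exfalso
      all_goals simp only [f, Matrix.cons_val_zero, Matrix.cons_val_one, Matrix.cons_val, Fin.zero_eta, Fin.mk_one,
        Fin.reduceFinMk] at e'
      all_goals first
        | exact hne e' | exact hne e'.symm | exact hne2 e' | exact hne2 e'.symm | exact hne3 e' | exact hne3 e'.symm
        | exact n12 e' | exact n12 e'.symm | exact hne12 e' | exact hne12 e'.symm | exact hne13 e' | exact hne13 e'.symm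
        | exact hne23 e' | exact hne23 e'.symm | exact n1 e' | exact n1 e'.symm | exact n2 e' | exact n2 e'.symm
        | exact hne' e' | exact hne' e'.symm
    have := Nat.card_le_card_of_injective f hf
    rw [hQ4, Nat.card_eq_fintype_card (α := Fin 5), Fintype.card_fin] at this
    omega
  have four : FourData ρ b q₁ q₂ :=
    ⟨hs q₁ hq₁, hs q₂ hq₂Q, hQcomm q₁ hq₁ q₂ hq₂Q, hq₂.symm, by rw [← hq₃, hprod], hcube⟩
  -- the four group is in `K`, even in `R`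
  have hi : ∀ x ∈ Q, x⁻¹ = x := fun x hx => inv_eq_of_mul_eq_one_right (hs x hx)
  have key : ∀ x ∈ Q, x * (b * x * b⁻¹) ∈ K := fun x hx => by
    refine comm_mem_core B hB b hb P hBZ (x := x) ?_ ?_
    · rw [hi x hx]; group
    · rw [pow_two]; exact hs _ (mul_mem hx ((Subgroup.mem_normalizer_iff.1 (hBQ hbB) x).1 hx))
  have hq₃K : q₃ ∈ K := by
    have := key q₁ hq₁
    rwa [← hq₂, ← hprod] at this
  have hq₁K : q₁ ∈ K := by
    have := hKn.conj_mem _ hq₃K b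
    rwa [hq₁3] at this
  have hq₂K : q₂ ∈ K := by rw [hq₂]; exact hKn.conj_mem _ hq₁K b
  have hcommR : ∀ x ∈ K, x * (b * x⁻¹ * b⁻¹) ∈ R := fun x hx => by
    have := Subgroup.commutator_mem_commutator hx hbB
    rwa [commutatorElement_def, show x * b * x⁻¹ * b⁻¹ = x * (b * x⁻¹ * b⁻¹) by group] at this
  have hq₃R : q₃ ∈ R := by
    have := hcommR q₁ hq₁K
    rwa [hi q₁ hq₁, ← hq₂, ← hprod] at this
  have hBK : B ≤ Subgroup.normalizer (K : Set S) := by rw [Subgroup.normalizer_eq_top]; exact le_top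
  have hnormR := CfsgLib.Solvable.le_normalizer_commutator_right hBK
  have hnorm : ∀ r ∈ R, b * r * b⁻¹ ∈ R := fun r hr => (Subgroup.mem_normalizer_iff.1 (hnormR hbB) r).1 hr
  have hq₁R : q₁ ∈ R := hq₁3 ▸ hnorm q₃ hq₃R
  have hq₂R : q₂ ∈ R := hq₂ ▸ hnorm q₁ hq₁R
  have hRK : R ≤ K := CfsgLib.Solvable.commutator_le_of_le_normalizer hBK
  have hKcop : (Nat.card K).Coprime 3 := CfsgLib.Cores.coprime_card_pPrimeCore 3
  have hRcop : (Nat.card R).Coprime 3 := hKcop.coprime_dvd_left (Subgroup.card_dvd_of_le hRK)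
  have hgen : ∀ X : Subgroup S, (∀ r ∈ R, r * b * r⁻¹ * b⁻¹ ∈ X) → R ≤ X := by
    intro X hX
    have hRR : ⁅R, B⁆ = R := CfsgLib.Solvable.commutator_commutator_self hBK (by rw [hB]; exact hKcop.symm)
      (Or.inr inferInstance)
    rw [← hRR, Subgroup.commutator_le]
    intro r hr c hc
    obtain ⟨k, rfl⟩ : ∃ k : ℕ, b ^ k = c := by
      rw [← hb] at hc
      exact mem_powers_iff_mem_zpowers.2 hc
    induction k generalizing r with
    | zero => simp [commutatorElement_def, X.one_mem]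
    | succ k ih =>
      rw [show ⁅r, b ^ (k + 1)⁆ = (r * b * r⁻¹ * b⁻¹) * ⁅b * r * b⁻¹, b ^ k⁆ by
        rw [commutatorElement_def, commutatorElement_def, pow_succ']; group]
      exact X.mul_mem (hX r hr) (ih _ (hnorm r hr) (Subgroup.pow_mem _ hbB k))
  -- the rank
  have hrank : Nat.card (Set.range fun v : E => ρ b v - v) ≤ 9 := by
    let D : E →ₗ[ZMod 3] E := ρ b - LinearMap.id
    have hD : ∀ v, D v = ρ b v - v := fun v => by simp [D]
    let W : Submodule (ZMod 3) E := E₀.map D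
    have hW0 : W ≤ E₀ := by
      rintro _ ⟨v, hv, rfl⟩
      rw [hD]; exact sub_mem (hE0inv v hv) hv
    have hWne : W ≠ E₀ := fun e => by
      obtain ⟨v, hv, hne'⟩ := hind
      -- `D³ = 0`
      obtain ⟨u, hu, rfl⟩ := (e.symm ▸ hv : v ∈ W)
      apply hne'
      have h3 : ∀ x, ρ b (ρ b (ρ b x)) = x := fun x => four.b3 x
      have hD3 : D (D (D u)) = 0 := by
        simp only [hD, map_sub, h3]
        have k1 := three_eq_zero (ρ b (ρ b u))
        have k2 := three_eq_zero (ρ b u)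
        calc _ = (ρ b u + ρ b u + ρ b u) - (ρ b (ρ b u) + ρ b (ρ b u) + ρ b (ρ b u)) := by abel
          _ = 0 := by rw [k1, k2, sub_zero]
      rwa [← hD, ← hD]
    obtain ⟨i, hi'⟩ := card_pow W
    have hdvd : Nat.card W ∣ 27 := hE0 ▸ AddSubgroup.card_dvd_of_le (show W.toAddSubgroup ≤ E₀.toAddSubgroup from hW0)
    have hlt : Nat.card W < 27 := hE0 ▸ lt_of_le_of_ne (Nat.card_mono (Set.toFinite _) hW0) fun e =>
      hWne (SetLike.coe_injective (Set.eq_of_subset_of_ncard_le hW0 e.ge (Set.toFinite _)))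
    have hW9 : Nat.card W ≤ 9 := by
      rw [hi'] at hdvd hlt ⊢
      have : i < 3 := (Nat.pow_lt_pow_iff_right (show 1 < 3 by norm_num)).1 (hlt.trans_le (by norm_num))
      exact (Nat.pow_le_pow_right (by norm_num) (show i ≤ 2 by omega)).trans (by norm_num)
    refine le_trans (Nat.card_mono (Set.toFinite _) ?_) hW9
    rintro _ ⟨v, rfl⟩
    obtain ⟨u, hu, f, hf, rfl⟩ := Submodule.mem_sup.1 (hE01'.symm ▸ Submodule.mem_top : v ∈ E₀ ⊔ E₁)
    exact ⟨u, hu, by show D u = ρ b (u + f) - (u + f); rw [hD, map_add, hE1 f hf]; abel⟩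
  -- the decomposition
  have := Fintype.ofFinite R
  let N : E →ₗ[ZMod 3] E := ∑ r : R, ρ r
  have hN : ∀ v, N v = ∑ r : R, ρ r v := fun v => by simp [N, LinearMap.sum_apply]
  let F₁ : Submodule (ZMod 3) E :=
    { carrier := {v | ∀ r ∈ R, ρ r v = v}
      add_mem' := fun {u v} hu hv r hr => by rw [map_add, hu r hr, hv r hr]
      zero_mem' := fun r _ => map_zero _
      smul_mem' := fun a v hv r hr => by rw [map_smul, hv r hr] }
  set F₀ := LinearMap.ker N with hF₀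
  have hNfix : ∀ v, N v ∈ F₁ := fun v s hs => by
    rw [hN, map_sum]
    refine Fintype.sum_equiv (Equiv.mulLeft (⟨s, hs⟩ : R)) _ _ fun r => ?_
    simp
  have hc0 : (Fintype.card R : ZMod 3) ≠ 0 := by
    rw [Ne, ZMod.natCast_eq_zero_iff, ← Nat.card_eq_fintype_card]
    intro h3
    have := Nat.eq_one_of_dvd_coprimes hRcop h3 dvd_rfl
    omega
  have hN1 : ∀ v ∈ F₁, N v = (Fintype.card R : ZMod 3) • v := fun v hv => by
    rw [hN, Finset.sum_congr rfl fun (r : R) _ => hv r r.2, Finset.sum_const, Finset.card_univ, Nat.cast_smul_eq_nsmul]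
  have hdisj : ∀ v ∈ F₀, v ∈ F₁ → v = 0 := fun v h0 h1 => by
    rw [hF₀, LinearMap.mem_ker, hN1 v h1, smul_eq_zero] at h0
    exact h0.resolve_left hc0
  have hsplit : ∀ v, ∃ u ∈ F₀, ∃ f, (∀ r ∈ R, ρ r f = f) ∧ v = u + f := fun v => by
    refine ⟨v - (Fintype.card R : ZMod 3)⁻¹ • N v, ?_, (Fintype.card R : ZMod 3)⁻¹ • N v,
      F₁.smul_mem _ (hNfix v), by abel⟩
    rw [hF₀, LinearMap.mem_ker, map_sub, map_smul, hN1 _ (hNfix v), smul_smul, inv_mul_cancel₀ hc0, one_smul, sub_self]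
  have hinvR : ∀ r ∈ R, ∀ v ∈ F₀, ρ r v ∈ F₀ := fun s hs v hv => by
    rw [hF₀, LinearMap.mem_ker] at hv ⊢
    rw [hN, ← hv, hN]
    refine Fintype.sum_equiv (Equiv.mulRight (⟨s, hs⟩ : R)) _ _ fun r => ?_
    simp
  have hb2 : b⁻¹ = b * b := inv_eq_of_mul_eq_one_left hb3
  have hnorm' : ∀ r ∈ R, b⁻¹ * r * b ∈ R := fun r hr => by
    have := hnorm _ (hnorm r hr)
    rwa [show b * (b * r * b⁻¹) * b⁻¹ = (b * b) * r * (b * b)⁻¹ by group, ← hb2, inv_inv] at this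
  let ψ : R ≃ R :=
    { toFun := fun r => ⟨b⁻¹ * r * b, hnorm' r r.2⟩
      invFun := fun r => ⟨b * r * b⁻¹, hnorm r r.2⟩
      left_inv := fun r => Subtype.ext (by simp [mul_assoc])
      right_inv := fun r => Subtype.ext (by simp [mul_assoc]) }
  have hinvb : ∀ v ∈ F₀, ρ b v ∈ F₀ := fun v hv => by
    rw [hF₀, LinearMap.mem_ker] at hv ⊢
    have : N (ρ b v) = ρ b (N v) := by
      rw [hN, hN, map_sum]
      refine Fintype.sum_equiv ψ _ _ fun r => ?_
      rw [← rho_mul, ← rho_mul]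
      congr 2
      show (r : S) * b = b * (b⁻¹ * r * b)
      group
    rw [this, hv, map_zero]
  have hdd : ∃ v, ρ b (ρ b v - v) - (ρ b v - v) ≠ 0 := ⟨hind.choose, hind.choose_spec.2⟩
  have h : Setting ρ b q₁ q₂ R F₀ :=
    { inj := hfaith, four := four, rank := hrank, dd := hdd, ne1 := hne, mem1 := hq₁R, mem2 := hq₂R, norm := hnorm,
      solv := inferInstance, cop := hRcop, gen := hgen, invR := hinvR, invb := hinvb, split := hsplit, disj := hdisj }
  refine ⟨h.shape, F₀, F₁, ?_, ?_, fun r hr v hv => hv r hr, ?_, ?_, ?_⟩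
  · exact (Submodule.eq_bot_iff _).2 fun v hv => hdisj v hv.1 hv.2
  · refine eq_top_iff.2 fun v _ => ?_
    obtain ⟨u, hu, f, hf, rfl⟩ := hsplit v
    exact Submodule.add_mem_sup hu hf
  · let T : Subgroup S :=
      { carrier := {g | (∀ v ∈ F₀, ρ g v ∈ F₀) ∧ ∀ v ∈ F₀, ρ g⁻¹ v ∈ F₀}
        mul_mem' := fun {g k} hg hk => ⟨fun v hv => by rw [rho_mul]; exact hg.1 _ (hk.1 v hv),
          fun v hv => by rw [mul_inv_rev, rho_mul]; exact hk.2 _ (hg.2 v hv)⟩
        one_mem' := ⟨fun v hv => by simpa using hv, fun v hv => by simpa using hv⟩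
        inv_mem' := fun {g} hg => ⟨hg.2, fun v hv => by rw [inv_inv]; exact hg.1 v hv⟩ }
    have hle : R ⊔ B ≤ T := sup_le (fun r hr => ⟨hinvR r hr, hinvR _ (inv_mem hr)⟩) (hb ▸
      Subgroup.zpowers_le.2 ⟨hinvb, fun v hv => by rw [hb2, rho_mul]; exact hinvb _ (hinvb v hv)⟩)
    exact fun r hr v hv => (hle hr).1 v hv
  · intro r hr hr1
    let T : Subgroup S :=
      { carrier := {g | ∀ f ∈ F₁, ρ g f = f}
        mul_mem' := fun {g k} hg hk f hf => by rw [rho_mul, hk f hf, hg f hf]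
        one_mem' := fun f _ => by simp
        inv_mem' := fun {g} hg f hf => by nth_rw 1 [← hg f hf]; rw [rho_inv_apply] }
    have hle : R ⊔ B ≤ T := sup_le (fun r hr f hf => hf r hr) (hb ▸ Subgroup.zpowers_le.2 fun f hf => h.b_fix hf)
    exact h.ext_on (fun f hf => hle hr f hf) (fun f _ => by simp) fun v hv => by
      rw [hr1 v hv, map_one, Module.End.one_apply]
  · intro U hU hinv
    exact h.irred U hU (fun r hr => hinv r (Subgroup.mem_sup_left hr)) (hinv b (Subgroup.mem_sup_right hbB))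

end Cfsg.Agent.S4415
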