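import Cfsg.Statements.S4417
import Cfsg.Agent.Lib.Transfer.CyclicMaximal
import Cfsg.Agent.Lib.Solvable.HallHigmanArith

set_option autoImplicit false
open Cfsg

open scoped Pointwise commutatorElement

namespace Cfsg.Agent.S4417

open CfsgLib CfsgLib.PGroup

universe u v w

/-- The derived series of a group drops into a subgroup containing the commutator subgroup. -/
theorem derivedSeries_succ_le_map {P : Type*} [Group P] (H : Subgroup P) (hH : commutator P ≤ H) :
    ∀ k, derivedSeries P (k + 1) ≤ (derivedSeries H k).map H.subtype := by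
  intro k
  induction k with
  | zero =>
    rw [derivedSeries_one, derivedSeries_zero, ← MonoidHom.range_eq_map, Subgroup.range_subtype]
    exact hH
  | succ k ih =>
    rw [derivedSeries_succ, derivedSeries_succ H, Subgroup.map_commutator]
    exact Subgroup.commutator_mono ih ih

/-- A normal subgroup of type `(p, p)`, or a cyclic subgroup containing the commutator subgroup. -/
theorem exists_elemAb_or {P : Type*} [Group P] [Finite P] (p : ℕ) [hp : Fact p.Prime] (hP : IsPGroup p P)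
    (hnc : ¬ IsCyclic P) :
    (∃ E : Subgroup P, E.Normal ∧ IsElementaryAbelian p E ∧ Nat.card E = p ^ 2) ∨
      (p = 2 ∧ derivedSeries P 2 = ⊥) := by
  classical
  by_cases hp2 : p = 2
  swap
  · left
    obtain ⟨E, -, hE⟩ := Transfer.exists_normal_elemAb_sq hP hp2 (S := (⊤ : Subgroup P))
      (fun h => hnc (isCyclic_of_surjective _ (Subgroup.topEquiv (G := P)).surjective))
    exact ⟨E, hE⟩
  obtain ⟨A, -, hAn, hAm, hCA⟩ := exists_normal_abelian_centralizer_eq hP (⊥ : Subgroup P) inferInstance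
    (fun a ha b hb => by rw [Subgroup.mem_bot.1 ha, Subgroup.mem_bot.1 hb])
  have hcomm : ∀ a ∈ A, ∀ b ∈ A, a * b = b * a := fun a ha b hb =>
    congrArg Subtype.val (hAm.is_comm.comm ⟨a, ha⟩ ⟨b, hb⟩)
  by_cases hAc : IsCyclic A
  · refine Or.inr ⟨hp2, ?_⟩
    obtain ⟨⟨a, ha⟩, hgen⟩ := hAc.exists_generator
    have hle : commutator P ≤ A := by
      rw [commutator_def, Subgroup.commutator_le]
      intro g _ h _
      refine hCA.le (Subgroup.mem_centralizer_iff.2 fun y hy => ?_)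
      obtain ⟨i, hi⟩ := Subgroup.mem_zpowers_iff.1 (hgen ⟨y, hy⟩)
      have key : ∀ g : P, ∃ m : ℤ, g * a * g⁻¹ = a ^ m := fun g => by
        obtain ⟨m, hm⟩ := Subgroup.mem_zpowers_iff.1 (hgen ⟨g * a * g⁻¹, hAn.conj_mem a ha g⟩)
        exact ⟨m, (congrArg Subtype.val hm).symm⟩
      -- conjugations commute on a cyclic group
      have hsw : ∀ g h : P, g * (h * a * h⁻¹) * g⁻¹ = h * (g * a * g⁻¹) * h⁻¹ := fun g h => by
        obtain ⟨m, hm⟩ := key g
        obtain ⟨l, hl⟩ := key h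
        rw [hl, ← conj_zpow, hm, ← conj_zpow, hl, ← zpow_mul, ← zpow_mul, mul_comm]
      have ha' : ⁅g, h⁆ * a * ⁅g, h⁆⁻¹ = a := by
        have h1 := hsw g⁻¹ h⁻¹
        calc ⁅g, h⁆ * a * ⁅g, h⁆⁻¹ = g * (h * (g⁻¹ * (h⁻¹ * a * h⁻¹⁻¹) * g⁻¹⁻¹) * h⁻¹) * g⁻¹ := by
              rw [commutatorElement_def]; group
          _ = a := by rw [h1]; group
      have hc : Commute ⁅g, h⁆ a := mul_inv_eq_iff_eq_mul.1 ha'
      have hy' : y = a ^ i := (congrArg Subtype.val hi).symm
      rw [hy']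
      exact ((hc.zpow_right i).symm).eq
    rw [eq_bot_iff]
    refine (derivedSeries_succ_le_map A hle 1).trans ?_
    rw [derivedSeries_one, ← Subgroup.map_bot A.subtype]
    refine Subgroup.map_mono ?_
    rw [commutator_def, Subgroup.commutator_le]
    intro x _ y _
    rw [Subgroup.mem_bot, commutatorElement_eq_one_iff_mul_comm]
    exact Subtype.ext (hcomm x x.2 y y.2)
  left
  obtain ⟨k, hk⟩ := IsPGroup.iff_card.1 (hP.to_subgroup (omegaOne p A))
  have hk2 : 2 ≤ k := by
    by_contra hlt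
    refine hAc (Transfer.isCyclic_of_omega_le hP hcomm ?_)
    rw [hk]
    exact (Nat.pow_le_pow_right hp.out.pos (by omega)).trans (pow_one p).le
  have := omegaOne_normal p A
  obtain ⟨U, hU, hUn, hUc⟩ := Transfer.exists_normal_card_sq hP (K := omegaOne p A) (hk ▸ pow_dvd_pow p hk2)
  exact ⟨U, hUn, PGroup.elemAb_mono (elemAb_omegaOne_of_comm hcomm) hU, hUc⟩

theorem zmod_two_eq_one : ∀ a : ZMod 2, a ≠ 0 → a = 1 := by decide

variable {F : Type v} [Field F]

/-- Restriction of a representation to an invariant subspace. -/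
def restrictHom {G : Type u} [Group G] {V : Type w} [AddCommGroup V] [Module F V] (φ : G →* (V ≃ₗ[F] V))
    (S : Submodule F V) (h : ∀ g, ∀ v ∈ S, φ g v ∈ S) : G →* (S ≃ₗ[F] S) where
  toFun g := LinearEquiv.ofLinear ((φ g : V →ₗ[F] V).restrict (h g))
    ((φ g⁻¹ : V →ₗ[F] V).restrict (h g⁻¹))
    (LinearMap.ext fun x => Subtype.ext (by
      show (φ g * φ g⁻¹) (x : V) = x
      rw [← map_mul, mul_inv_cancel, map_one]; rfl))
    (LinearMap.ext fun x => Subtype.ext (by
      show (φ g⁻¹ * φ g) (x : V) = x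
      rw [← map_mul, inv_mul_cancel, map_one]; rfl))
  map_one' := LinearEquiv.ext fun x => Subtype.ext (by
    show φ 1 (x : V) = x
    rw [map_one]; rfl)
  map_mul' g g' := LinearEquiv.ext fun x => Subtype.ext (by
    show φ (g * g') (x : V) = φ g (φ g' (x : V))
    rw [map_mul]; rfl)

variable [Fintype F] {p : ℕ} [hp : Fact p.Prime]

/-- The bound, by induction on the dimension. -/
theorem bound {q e : ℕ} (hF : Fintype.card F = q) (hpq : ¬ p ∣ q) (he : e = orderOf (q : ZMod p)) :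
    ∀ (n : ℕ) {P : Type w} [Group P] [Finite P] {V : Type w} [AddCommGroup V] [Module F V]
      [FiniteDimensional F V] (ρ : P →* (V ≃ₗ[F] V)), IsPGroup p P → Module.finrank F V = n →
      derivedSeries P (Nat.log 2 (n / e) + 1) ≤ ρ.ker := by
  classical
  intro n
  induction n using Nat.strong_induction_on with
  | _ n ih =>
  intro P _ _ V _ _ _ ρ hP hn
  haveI : Finite V := Module.finite_of_finite F
  set K := Nat.log 2 (n / e) + 1 with hK
  set π := ρ.rangeRestrict with hπ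
  have hπs : Function.Surjective π := ρ.rangeRestrict_surjective
  have hR : IsPGroup p ρ.range := hP.of_surjective π hπs
  haveI : Finite ρ.range := Finite.of_surjective π hπs
  suffices hmain : derivedSeries ρ.range K = ⊥ by
    have h1 := map_derivedSeries_le_derivedSeries π K
    rw [hmain, le_bot_iff, Subgroup.map_eq_bot_iff] at h1
    exact h1.trans ρ.ker_rangeRestrict.le
  have hdown : ∀ {k : ℕ}, k ≤ K → derivedSeries ρ.range k = ⊥ → derivedSeries ρ.range K = ⊥ :=
    fun hk h => le_bot_iff.1 (h ▸ derivedSeries_antitone _ hk)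
  by_cases hcyc : IsCyclic ρ.range
  · refine hdown (k := 1) (by omega) ?_
    letI := hcyc.commGroup
    rw [derivedSeries_one, commutator_def, eq_bot_iff, Subgroup.commutator_le]
    intro x _ y _
    rw [Subgroup.mem_bot, commutatorElement_eq_one_iff_mul_comm, mul_comm]
  rcases exists_elemAb_or p hR hcyc with ⟨E, hEn, hEe, hEc⟩ | ⟨hp2, hd⟩
  swap
  · -- no normal four-group
    have he1 : e = 1 := by
      subst hp2
      rw [he, orderOf_eq_one_iff]
      have h1 : (q : ZMod 2) ≠ 0 := fun h => hpq ((ZMod.natCast_eq_zero_iff _ _).1 h)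
      exact zmod_two_eq_one _ h1
    rcases Nat.lt_or_ge n 2 with hn2 | hn2
    · refine hdown (k := 1) (by omega) ?_
      rw [derivedSeries_one, commutator_def, eq_bot_iff, Subgroup.commutator_le]
      intro f _ g _
      rw [Subgroup.mem_bot, commutatorElement_eq_one_iff_mul_comm]
      refine Subtype.ext (LinearEquiv.ext fun v => ?_)
      show f.1 (g.1 v) = g.1 (f.1 v)
      rcases Nat.lt_or_ge n 1 with h0 | h0
      · haveI : Subsingleton V := Module.finrank_zero_iff.1 (show Module.finrank F V = 0 by omega)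
        exact Subsingleton.elim _ _
      obtain ⟨u, hu, hspan⟩ := finrank_eq_one_iff'.1 (show Module.finrank F V = 1 by omega)
      obtain ⟨a, ha⟩ := hspan (f.1 u)
      obtain ⟨b, hb⟩ := hspan (g.1 u)
      obtain ⟨c, rfl⟩ := hspan v
      simp only [map_smul, ← ha, ← hb, smul_smul]
      rw [mul_assoc, mul_assoc, mul_comm b a]
    · refine hdown (k := 2) ?_ hd
      have : 1 ≤ Nat.log 2 (n / e) := Nat.log_pos one_lt_two (by rw [he1, Nat.div_one]; exact hn2)
      omega
  -- the lines of `E`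
  let Fx : (V ≃ₗ[F] V) → Submodule F V := fun g => LinearMap.ker ((g : V →ₗ[F] V) - 1)
  have hFx : ∀ (g : V ≃ₗ[F] V) (v : V), v ∈ Fx g ↔ g v = v := fun g v => by simp [Fx, sub_eq_zero]
  have hFxinv : ∀ g h : V ≃ₗ[F] V, g * h = h * g → ∀ v ∈ Fx h, g v ∈ Fx h := fun g h hgh v hv => by
    rw [hFx] at hv ⊢
    show (h * g) v = g v
    rw [← hgh]
    show g (h v) = g v
    rw [hv]
  have hdim : ∀ {a b : ℕ}, a ≤ b → Nat.log 2 (a / e) ≤ Nat.log 2 (b / e) := fun h =>
    Nat.log_mono_right (Nat.div_le_div_right h)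
  -- invariant proper subspaces
  have hrec : ∀ S : Submodule F V, S ≠ ⊤ → (∀ g : ρ.range, ∀ v ∈ S, g.1 v ∈ S) →
      ∀ g ∈ derivedSeries ρ.range K, ∀ v ∈ S, g.1 v = v := by
    intro S hS hinv g hg v hv
    have hlt : Module.finrank F S < n := hn ▸ Submodule.finrank_lt hS
    have hinv' : ∀ f : P, ∀ v ∈ S, ρ f v ∈ S := fun f => hinv ⟨ρ f, f, rfl⟩
    let ρS := restrictHom ρ S hinv'
    have h1 := ih _ hlt ρS hP rfl
    rw [← map_derivedSeries_eq hπs] at hg
    obtain ⟨f, hf, rfl⟩ := hg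
    have h2 := h1 (derivedSeries_antitone P (Nat.add_le_add_right (hdim hlt.le) 1) hf)
    exact congrArg Subtype.val (LinearEquiv.congr_fun (MonoidHom.mem_ker.1 h2) ⟨v, hv⟩)
  have hEne : E ≠ ⊥ := fun h => by
    rw [h, Subgroup.card_bot] at hEc
    exact hp.out.ne_one (Nat.eq_one_of_mul_eq_one_right (by rw [hEc, sq] : p * p = 1))
  obtain ⟨Z, hZE, hZc, hZn, hZ⟩ := PGroup.exists_card_eq_le_center hR E hEne
  obtain ⟨⟨z₀, hzZ⟩, hz₀⟩ := (isCyclic_of_prime_card hZ : IsCyclic Z).exists_generator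
  have hZz : Z = Subgroup.zpowers z₀ := le_antisymm (fun x hx => by
    obtain ⟨i, hi⟩ := hz₀ ⟨x, hx⟩
    exact ⟨i, congrArg Subtype.val hi⟩) (Subgroup.zpowers_le.2 hzZ)
  have hoz : orderOf z₀ = p := by rw [← Nat.card_zpowers, ← hZz, hZ]
  obtain ⟨e₀, he₀E, he₀Z⟩ := SetLike.not_le_iff_exists.1 (fun h : E ≤ Z => by
    have := Subgroup.card_le_of_le h
    rw [hEc, hZ] at this
    nlinarith [hp.out.two_le])
  set z : V ≃ₗ[F] V := z₀.1 with hz
  set ee : V ≃ₗ[F] V := e₀.1 with hee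
  have hzp : z ^ p = 1 := congrArg Subtype.val (hoz ▸ pow_orderOf_eq_one z₀)
  have hep : ee ^ p = 1 := congrArg Subtype.val (hEe.2 e₀ he₀E)
  have hzc : ∀ g : ρ.range, g.1 * z = z * g.1 := fun g =>
    congrArg Subtype.val (Subgroup.mem_center_iff.1 (hZc hzZ) g)
  have hez : Commute ee z := hzc e₀
  have hz1 : z₀ ≠ 1 := fun h => hp.out.ne_one (by rw [← hoz, h, orderOf_one])
  have hpF : (p : F) ≠ 0 := fun h => by
    obtain ⟨r, hr⟩ := CharP.exists F
    have hrp : r.Prime := CharP.char_is_prime F r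
    obtain ⟨k, -, hk⟩ := FiniteField.card F r
    have : r = p := (Nat.prime_dvd_prime_iff_eq hrp hp.out).1 ((CharP.cast_eq_zero_iff F r p).1 h)
    subst this
    exact hpq (hF ▸ hk ▸ dvd_pow_self r k.ne_zero)
  have hroot : ∀ v : V, p • v = 0 → v = 0 := fun v hv => by
    rw [← Nat.cast_smul_eq_nsmul F, smul_eq_zero] at hv
    exact hv.resolve_left hpF
  let N : (V ≃ₗ[F] V) → Module.End F V := fun g =>
    ∑ j ∈ Finset.range p, ((g ^ j : V ≃ₗ[F] V) : V →ₗ[F] V)
  have hN : ∀ g v, N g v = ∑ j ∈ Finset.range p, (g ^ j : V ≃ₗ[F] V) v := fun g v => by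
    simp [N, LinearMap.sum_apply]
  have hNfix : ∀ g : V ≃ₗ[F] V, g ^ p = 1 → ∀ v, g (N g v) = N g v := fun g hg v => by
    rw [hN, map_sum]
    have h1 : ∑ j ∈ Finset.range p, g ((g ^ j : V ≃ₗ[F] V) v) + (g ^ 0 : V ≃ₗ[F] V) v =
        ∑ j ∈ Finset.range p, (g ^ j : V ≃ₗ[F] V) v + (g ^ p : V ≃ₗ[F] V) v := by
      rw [← Finset.sum_range_succ (fun j => (g ^ j : V ≃ₗ[F] V) v),
        Finset.sum_range_succ' (fun j => (g ^ j : V ≃ₗ[F] V) v)]
      exact congrArg (· + _) (Finset.sum_congr rfl fun j _ => by rw [pow_succ']; rfl)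
    rw [hg, pow_zero] at h1
    exact add_right_cancel h1
  have hfinish : ∀ S : Set (Submodule F V), (∀ W ∈ S, ∀ g ∈ derivedSeries ρ.range K, ∀ v ∈ W, g.1 v = v) →
      (∀ v, p • v ∈ sSup S) → derivedSeries ρ.range K = ⊥ := by
    intro S hS hgen
    rw [Subgroup.eq_bot_iff_forall]
    intro g hg
    refine Subtype.ext (LinearEquiv.ext fun v => ?_)
    have hle : sSup S ≤ Fx g.1 := sSup_le fun W hW x hx => (hFx _ _).2 (hS W hW g hg x hx)
    have h1 := (hFx _ _).1 (hle (hgen v))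
    rw [map_nsmul] at h1
    exact sub_eq_zero.1 (hroot _ (by rw [smul_sub, h1]; exact sub_self _))
  have hCFx1 : Fx z ≠ ⊤ := fun h => hz1 (Subtype.ext (LinearEquiv.ext fun v =>
    (hFx z v).1 (h ▸ Submodule.mem_top)))
  by_cases hCz : Fx z = ⊥
  swap
  · set M : Submodule F V := LinearMap.range ((z : V →ₗ[F] V) - 1) with hM
    have hMne : M ≠ ⊤ := fun h => hCz (LinearMap.ker_eq_bot.2
      (Finite.injective_iff_surjective.2 (LinearMap.range_eq_top.1 h)))
    refine hfinish {Fx z, M} ?_ fun v => ?_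
    · rintro W (rfl | rfl)
      · exact hrec _ hCFx1 fun g x hx => hFxinv _ _ (hzc g) x hx
      · refine hrec _ hMne fun g => ?_
        rintro _ ⟨x, rfl⟩
        refine ⟨g.1 x, ?_⟩
        show z (g.1 x) - g.1 x = g.1 (z x - x)
        rw [map_sub]
        exact congrArg (· - _) (LinearEquiv.congr_fun (hzc g) x).symm
    · rw [sSup_pair]
      have hx : p • v = N z v + ∑ j ∈ Finset.range p, (v - (z ^ j : V ≃ₗ[F] V) v) := by
        rw [hN, ← Finset.sum_add_distrib]; simp
      rw [hx]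
      refine Submodule.add_mem_sup ((hFx _ _).2 (hNfix z hzp v)) (Submodule.sum_mem _ fun j hj => ?_)
      clear hj
      induction j with
      | zero => simp
      | succ j ihj =>
        have h2 : v - (z ^ (j + 1) : V ≃ₗ[F] V) v = (v - (z ^ j : V ≃ₗ[F] V) v) -
            (((z : V →ₗ[F] V) - 1) ((z ^ j : V ≃ₗ[F] V) v)) := by
          rw [pow_succ']
          show v - z ((z ^ j : V ≃ₗ[F] V) v) = _ - (z ((z ^ j : V ≃ₗ[F] V) v) - (z ^ j : V ≃ₗ[F] V) v)
          abel
        rw [h2]; exact Submodule.sub_mem _ ihj ⟨_, rfl⟩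
  have hfree : ∀ v, z v = v → v = 0 := fun v hv => (Submodule.mem_bot F).1 (hCz ▸ (hFx z v).2 hv)
  have hfp : ∀ i : ℕ, (ee * z ^ i) ^ p = 1 := fun i => by
    rw [(hez.pow_right i).mul_pow, hep, one_mul, ← pow_mul, mul_comm, pow_mul, hzp, one_pow]
  have hpowfix : ∀ (f : V ≃ₗ[F] V) (v : V), f v = v → ∀ t : ℕ, (f ^ t : V ≃ₗ[F] V) v = v := by
    intro f v hv t
    induction t with
    | zero => rfl
    | succ t iht => rw [pow_succ]; show (f ^ t : V ≃ₗ[F] V) (f v) = v; rw [hv, iht]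
  have hzgen : ∀ j : ℕ, 0 < j → j < p → ∀ v, (z ^ j : V ≃ₗ[F] V) v = v → v = 0 := by
    intro j hj hjp v hv
    obtain ⟨t, ht⟩ := Solvable.exists_mul_mod_prime_pow (p := p) (m := 1) (j := j) hj (by rwa [pow_one])
    rw [pow_one, Nat.sub_self, pow_zero, Nat.mod_eq_of_lt hp.out.one_lt] at ht
    have h4 := hpowfix _ v hv t
    rw [← pow_mul, pow_eq_pow_mod _ hzp, ht, pow_one] at h4
    exact hfree v h4
  set Ws : Set (Submodule F V) := {W | ∃ i < p, W = Fx (ee * z ^ i)} with hWs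
  have hgenW : ∀ v, p • v ∈ sSup Ws := by
    intro v
    have h1 : ∑ i ∈ Finset.range p, N (ee * z ^ i) v = p • v := by
      rw [Finset.sum_congr rfl fun i _ => hN (ee * z ^ i) v, Finset.sum_comm,
        Finset.sum_eq_single_of_mem 0 (Finset.mem_range.2 hp.out.pos) fun j hj hj0 => ?_]
      · simp
      · have h1 : ∀ i : ℕ, (((ee * z ^ i) ^ j : V ≃ₗ[F] V)) v =
            (ee ^ j : V ≃ₗ[F] V) (((z ^ j) ^ i : V ≃ₗ[F] V) v) := fun i => by
          rw [(hez.pow_right i).mul_pow, ← pow_mul, ← pow_mul, mul_comm i j]; rfl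
        rw [Finset.sum_congr rfl fun i _ => h1 i, ← map_sum]
        have h2 : ∑ i ∈ Finset.range p, ((z ^ j) ^ i : V ≃ₗ[F] V) v = 0 := by
          rw [← hN]
          exact hzgen j (Nat.pos_of_ne_zero hj0) (Finset.mem_range.1 hj) _
            (hNfix _ (by rw [← pow_mul, mul_comm, pow_mul, hzp, one_pow]) v)
        rw [h2, map_zero]
    rw [← h1]
    exact Submodule.sum_mem _ fun i hi => le_sSup (show Fx (ee * z ^ i) ∈ Ws from
      ⟨i, Finset.mem_range.1 hi, rfl⟩) ((hFx _ _).2 (hNfix _ (hfp i) v))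
  by_cases hcent : ∀ g : ρ.range, g.1 * ee = ee * g.1
  · refine hfinish Ws ?_ hgenW
    rintro W ⟨i, -, rfl⟩
    refine hrec _ (fun h => he₀Z ?_) fun g x hx =>
      hFxinv _ _ ((Commute.mul_right (hcent g) (Commute.pow_right (hzc g) i)) :) x hx
    have h1 : ee * z ^ i = 1 := LinearEquiv.ext fun v => (hFx _ v).1 (h ▸ Submodule.mem_top)
    have h2 : e₀ * z₀ ^ i = 1 := Subtype.ext h1
    rw [mul_eq_one_iff_eq_inv.1 h2]
    exact inv_mem (pow_mem hzZ i)
  push Not at hcent
  obtain ⟨g₁, hg₁⟩ := hcent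
  -- the centraliser of `e` contains the commutator subgroup
  set H : Subgroup ρ.range := Subgroup.centralizer {e₀} with hH
  have hcoc : ∀ g : ρ.range, ∃ c : ℕ, g * e₀ = e₀ * z₀ ^ c * g := by
    intro g
    set π₁ := QuotientGroup.mk' Z
    haveI : (E.map π₁).Normal := hEn.map π₁ (QuotientGroup.mk'_surjective Z)
    obtain ⟨U, hUE, hUc, -, hU⟩ := PGroup.exists_card_eq_le_center (hR.to_quotient Z) (E.map π₁)
      fun h => he₀Z ((QuotientGroup.eq_one_iff e₀).1
        (Subgroup.mem_bot.1 (h ▸ Subgroup.mem_map_of_mem π₁ he₀E)))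
    have hUeq : U = E.map π₁ := Subgroup.eq_of_le_of_card_ge hUE (by
      have h2 := Subgroup.card_mul_index (Z.subgroupOf E)
      have h3 : (Z.subgroupOf E).index = Nat.card (E.map π₁) := by
        rw [← Subgroup.relIndex_ker]
        show Z.relIndex E = π₁.ker.relIndex E
        rw [show π₁.ker = Z from QuotientGroup.ker_mk' Z]
      rw [Nat.card_congr (Subgroup.subgroupOfEquivOfLe hZE).toEquiv, h3, hZ, hEc, sq] at h2
      rw [hU]; exact (Nat.eq_of_mul_eq_mul_left hp.out.pos h2).le)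
    have h1 := Subgroup.mem_center_iff.1 (hUc (hUeq ▸ Subgroup.mem_map_of_mem π₁ he₀E)) (π₁ g)
    rw [← map_mul, ← map_mul] at h1
    have h2 : (e₀ * g)⁻¹ * (g * e₀) ∈ Subgroup.zpowers z₀ := hZz ▸ QuotientGroup.eq.1 h1.symm
    obtain ⟨c, hc⟩ := (Submonoid.mem_powers_iff _ _).1 ((mem_powers_iff_mem_zpowers).2 h2)
    refine ⟨c, ?_⟩
    rw [eq_inv_mul_iff_mul_eq] at hc
    rw [← hc, mul_assoc, mul_assoc,
      (Commute.pow_right (Subgroup.mem_center_iff.1 (hZc hzZ) g) c).eq]
  have hcommH : commutator ρ.range ≤ H := by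
    rw [commutator_def, Subgroup.commutator_le]
    intro g _ h _
    obtain ⟨a, ha⟩ := hcoc g
    obtain ⟨b, hb⟩ := hcoc h
    have hca : ∀ (k : ρ.range) (m : ℕ), k * z₀ ^ m * k⁻¹ = z₀ ^ m := fun k m => by
      rw [(Commute.pow_right (Subgroup.mem_center_iff.1 (hZc hzZ) k) m).eq, mul_inv_cancel_right]
    have hga : g * e₀ * g⁻¹ = e₀ * z₀ ^ a := by rw [ha, mul_inv_cancel_right]
    have hhb : h * e₀ * h⁻¹ = e₀ * z₀ ^ b := by rw [hb, mul_inv_cancel_right]
    have hga' : g * (e₀ * z₀ ^ b) * g⁻¹ = h * (e₀ * z₀ ^ a) * h⁻¹ := by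
      rw [show g * (e₀ * z₀ ^ b) * g⁻¹ = (g * e₀ * g⁻¹) * (g * z₀ ^ b * g⁻¹) by group,
        show h * (e₀ * z₀ ^ a) * h⁻¹ = (h * e₀ * h⁻¹) * (h * z₀ ^ a * h⁻¹) by group,
        hga, hhb, hca, hca, mul_assoc, mul_assoc, ← pow_add, ← pow_add, add_comm]
    rw [← hga, ← hhb] at hga'
    refine Subgroup.mem_centralizer_singleton_iff.2 ?_
    have h3 : ⁅g, h⁆ * (h * (g * e₀ * g⁻¹) * h⁻¹) * ⁅g, h⁆⁻¹ = g * (h * e₀ * h⁻¹) * g⁻¹ := by
      rw [commutatorElement_def]; group
    rw [hga'] at h3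
    -- conjugation by the commutator fixes a conjugate of `e`
    have h4 : Commute ⁅g, h⁆ (e₀ * z₀ ^ (a + b)) := by
      have h5 : h * (g * e₀ * g⁻¹) * h⁻¹ = e₀ * z₀ ^ (a + b) := by
        rw [hga, show h * (e₀ * z₀ ^ a) * h⁻¹ = (h * e₀ * h⁻¹) * (h * z₀ ^ a * h⁻¹) by group, hhb, hca,
          mul_assoc, ← pow_add, add_comm b a]
      rw [h5] at h3
      exact mul_inv_eq_iff_eq_mul.1 h3
    have h6 : Commute ⁅g, h⁆ (z₀ ^ (a + b))⁻¹ :=
      ((Commute.pow_right (Subgroup.mem_center_iff.1 (hZc hzZ) _) (a + b))).inv_right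
    have h7 := h4.mul_right h6
    rw [mul_inv_cancel_right] at h7
    exact h7.eq
  have hHinv : ∀ i : ℕ, ∀ g : H, ∀ v ∈ Fx (ee * z ^ i), g.1.1 v ∈ Fx (ee * z ^ i) := fun i g v hv =>
    hFxinv _ _ ((Commute.mul_right
      (congrArg Subtype.val (Subgroup.mem_centralizer_singleton_iff.1 g.2) : Commute g.1.1 ee)
      (Commute.pow_right (hzc g.1) i)) :) v hv
  obtain ⟨c₁, hc₁⟩ := hcoc g₁
  -- every line is small
  have hsmall : ∀ i < p, Module.finrank F (Fx (ee * z ^ i)) = 0 ∨
      (e ≤ Module.finrank F (Fx (ee * z ^ i)) ∧ 2 * Module.finrank F (Fx (ee * z ^ i)) ≤ n) := by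
    intro i hi
    set W := Fx (ee * z ^ i) with hW
    rcases Nat.eq_zero_or_pos (Module.finrank F W) with h0 | h0
    · exact Or.inl h0
    refine Or.inr ⟨?_, ?_⟩
    · letI : MulAction Z W :=
        { smul := fun x v => ⟨x.1.1 v.1, hFxinv _ _ ((Commute.mul_right
              (congrArg Subtype.val (Subgroup.mem_center_iff.1 (hZc x.2) e₀)).symm
              (Commute.pow_right (hzc x.1) i)) :) v.1 v.2⟩
          one_smul := fun v => Subtype.ext rfl
          mul_smul := fun x y v => Subtype.ext rfl }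
      have hZp : IsPGroup p Z := IsPGroup.of_card (n := 1) (by rw [pow_one, hZ])
      haveI : Finite W := Module.finite_of_finite F
      have h1 := hZp.card_modEq_card_fixedPoints W
      have h2 : Nat.card (MulAction.fixedPoints Z W) = 1 := by
        rw [Nat.card_eq_one_iff_unique]
        refine ⟨⟨fun a b => Subtype.ext (Subtype.ext ?_)⟩, ⟨⟨0, fun x => Subtype.ext (map_zero x.1.1)⟩⟩⟩
        rw [hfree _ (congrArg Subtype.val (a.2 ⟨z₀, hzZ⟩)), hfree _ (congrArg Subtype.val (b.2 ⟨z₀, hzZ⟩))]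
      rw [h2, Module.natCard_eq_pow_finrank (K := F), Nat.card_eq_fintype_card, hF] at h1
      refine Nat.le_of_dvd h0 (he ▸ orderOf_dvd_of_pow_eq_one ?_)
      have h3 := (ZMod.natCast_eq_natCast_iff _ _ _).2 h1
      push_cast at h3
      exact h3
    · -- a conjugate line is disjoint
      have hcp : c₁ % p ≠ 0 := fun h => hg₁ (by
        have h1 := congrArg Subtype.val hc₁
        rw [show c₁ = p * (c₁ / p) by have := Nat.mod_add_div c₁ p; omega, pow_mul z₀ p, ← hoz,
          pow_orderOf_eq_one, one_pow, mul_one] at h1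
        exact h1)
      have hconj : g₁.1 * (ee * z ^ i) = ee * z ^ ((c₁ + i) % p) * g₁.1 := by
        have h1 : g₁.1 * ee = ee * z ^ c₁ * g₁.1 := congrArg Subtype.val hc₁
        rw [← mul_assoc, h1, mul_assoc (ee * z ^ c₁), (Commute.pow_right (hzc g₁) i).eq, ← mul_assoc,
          mul_assoc ee, ← pow_add, pow_eq_pow_mod _ hzp]
      set W' := Fx (ee * z ^ ((c₁ + i) % p))
      have hle : Module.finrank F W ≤ Module.finrank F W' := by
        have hmap : ∀ v ∈ W, g₁.1 v ∈ W' := fun v hv => by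
          rw [hFx] at hv ⊢
          show (ee * z ^ ((c₁ + i) % p) * g₁.1) v = g₁.1 v
          rw [← hconj]
          show g₁.1 ((ee * z ^ i) v) = g₁.1 v
          rw [hv]
        exact LinearMap.finrank_le_finrank_of_injective (f := (g₁.1 : V →ₗ[F] V).restrict hmap)
          fun a b hab => Subtype.ext (g₁.1.injective (congrArg Subtype.val hab))
      have hne : (c₁ + i) % p ≠ i := fun h => hcp (by
        have h1 := Nat.mod_add_div (c₁ + i) p
        rw [h] at h1
        have h2 : c₁ = p * ((c₁ + i) / p) := by omega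
        rw [h2, Nat.mul_mod_right])
      have hdisj : W ⊓ W' = ⊥ := by
        rw [Submodule.eq_bot_iff]
        intro v hv
        obtain ⟨ha, hb⟩ := Submodule.mem_inf.1 hv
        rw [hFx] at ha hb
        have hlt := Nat.mod_lt (c₁ + i) hp.out.pos
        have key : ∀ a b : ℕ, a < b → b < p → (ee * z ^ a : V ≃ₗ[F] V) v = v →
            (ee * z ^ b : V ≃ₗ[F] V) v = v → v = 0 := by
          intro a b hab hb' h1 h2
          refine hzgen (b - a) (by omega) (by omega) v ?_
          apply (ee * z ^ a : V ≃ₗ[F] V).injective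
          show ((ee * z ^ a) * z ^ (b - a) : V ≃ₗ[F] V) v = _
          rw [mul_assoc, ← pow_add, Nat.add_sub_cancel' hab.le, h1, h2]
        rcases lt_or_gt_of_ne hne with h | h
        · exact key _ _ h hi hb ha
        · exact key _ _ h hlt ha hb
      have h1 := Submodule.finrank_sup_add_finrank_inf_eq W W'
      rw [hdisj, finrank_bot] at h1
      have h2 := Submodule.finrank_le (W ⊔ W')
      omega
  refine hfinish Ws ?_ hgenW
  rintro W ⟨i, hi, rfl⟩ g hg v hv
  rcases hsmall i hi with h0 | ⟨hw1, hw2⟩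
  · have hv0 : v = 0 := (Submodule.mem_bot F).1 (Submodule.finrank_eq_zero.1 h0 ▸ hv)
    rw [hv0, map_zero]
  set w := Module.finrank F (Fx (ee * z ^ i)) with hwdef
  have he0 : 0 < e := by
    rw [he]
    have h1 : (q : ZMod p) ≠ 0 := fun h => hpq ((ZMod.natCast_eq_zero_iff _ _).1 h)
    exact orderOf_pos_iff.2 (isOfFinOrder_iff_pow_eq_one.2 ⟨p - 1, by have := hp.out.two_le; omega,
      ZMod.pow_card_sub_one_eq_one h1⟩)
  have hlog : Nat.log 2 (w / e) + 1 ≤ Nat.log 2 (n / e) := by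
    have h2 : 2 * (w / e) ≤ n / e := (Nat.mul_div_le_mul_div_assoc _ _ _).trans (Nat.div_le_div_right hw2)
    have hpos : w / e ≠ 0 := (Nat.div_pos hw1 he0).ne'
    refine le_trans ?_ (Nat.log_mono_right h2)
    rw [mul_comm, Nat.log_mul_base one_lt_two hpos]
  have hwn : w < n := by omega
  let ρW := restrictHom (ρ.range.subtype.comp H.subtype) (Fx (ee * z ^ i)) fun f => hHinv i f
  have h1 := ih w hwn ρW (hR.to_subgroup H) rfl
  have h2 : derivedSeries ρ.range K ≤ (derivedSeries H (Nat.log 2 (w / e) + 1)).map H.subtype := by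
    refine (derivedSeries_succ_le_map H hcommH _).trans (Subgroup.map_mono ?_)
    exact derivedSeries_antitone H hlog
  obtain ⟨f, hf, rfl⟩ := h2 hg
  exact congrArg Subtype.val (LinearEquiv.congr_fun (MonoidHom.mem_ker.1 (h1 hf)) ⟨v, hv⟩)

/-- Let F be a field with q elements, p a prime not dividing q, and e the multiplicative order of q modulo p; assume e ≤ n. Then every p-subgroup of GL_n(F) has derived length at most ⌊log₂(n/e)⌋ + 1: that term of its derived series is trivial (n/e is the integer quotient). -/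
theorem result {F : Type*} [Field F] [Fintype F] (q : ℕ) (hF : Fintype.card F = q) (p : ℕ) [Fact p.Prime] (hpq : ¬ p ∣ q) (n e : ℕ) (he : e = orderOf (q : ZMod p)) (hen : e ≤ n) (P : Subgroup (GL (Fin n) F)) (hP : IsPGroup p P) : derivedSeries ↥P (Nat.log 2 (n / e) + 1) = ⊥ := by
  classical
  have hp := (inferInstance : Fact p.Prime)
  obtain ⟨ρ, hρ⟩ : ∃ ρ : ↥P →* ((Fin n → F) ≃ₗ[F] (Fin n → F)), Function.Injective ρ := by
    refine ⟨((LinearMap.GeneralLinearGroup.generalLinearEquiv F (Fin n → F)).toMonoidHom.comp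
      (Matrix.GeneralLinearGroup.toLin (n := Fin n) (R := F)).toMonoidHom).comp P.subtype, ?_⟩
    exact ((LinearMap.GeneralLinearGroup.generalLinearEquiv F (Fin n → F)).injective.comp
      (Matrix.GeneralLinearGroup.toLin (n := Fin n) (R := F)).injective).comp P.subtype_injective
  have h := bound (F := F) (p := p) hF hpq he n ρ hP (Module.finrank_fin_fun F)
  rwa [(MonoidHom.ker_eq_bot_iff ρ).2 hρ, le_bot_iff] at h

end Cfsg.Agent.S4417
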