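import Cfsg.Statements.S5212
import Cfsg.Agent.Lib.Fusion.MetaTwo
-- import your own Cfsg.Agent.* helpers here

set_option autoImplicit false
open Cfsg

namespace Cfsg.Agent.S5212

/-- Let S be a finite metacyclic 2-group that is not homocyclic abelian (a direct product of cyclic groups of one common order), not dihedral, not semidihedral and not generalized quaternion. Then every saturated fusion system over S is the inner fusion system of S. -/
theorem result {Ω : Type*} [Group Ω] {S : Subgroup Ω} [Finite S] (hS : IsPGroup 2 S) (F : Cfsg.FusionSystem S) (hF : F.IsSaturated 2) (hm : Cfsg.IsMetacyclic ↥S) (hh : ¬ ∃ n k : ℕ, Nonempty (↥S ≃* Multiplicative (Fin k → ZMod (2 ^ n)))) (hd : ¬ ∃ m : ℕ, Nonempty (↥S ≃* DihedralGroup m)) (hq : ¬ ∃ m : ℕ, Nonempty (↥S ≃* QuaternionGroup m)) (hsd : ¬ Cfsg.IsQuasiDihedral ↥S) : ∀ P : Subgroup Ω, F.Hom P = (Cfsg.innerFusionSystem S).Hom P := by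
  classical
  have : Fact (Nat.Prime 2) := ⟨Nat.prime_two⟩
  have hA : IsPGroup 2 (MulAut ↥S) := by
    by_contra hA
    rcases Cfsg.Agent.S1896.result hS hm hA with h | ⟨n, ⟨e⟩⟩
    · exact hq ⟨2, h⟩
    · exact hh ⟨n, 2, ⟨e.trans
        { toFun := fun p => Multiplicative.ofAdd ![Multiplicative.toAdd p.1, Multiplicative.toAdd p.2]
          invFun := fun f => (Multiplicative.ofAdd (Multiplicative.toAdd f 0),
            Multiplicative.ofAdd (Multiplicative.toAdd f 1))
          left_inv := fun p => by simp
          right_inv := fun f => by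
            apply Multiplicative.toAdd.injective
            funext i; fin_cases i <;> simp
          map_mul' := fun p q => by
            apply Multiplicative.toAdd.injective
            funext i; fin_cases i <;> simp }⟩⟩
  have hsub : F ≤ Cfsg.innerFusionSystem S := by
    refine CfsgLib.Fusion.alperin hS hF _ fun P hP => ?_
    rcases hP with rfl | hP
    · obtain ⟨Q, hQ, ⟨-, R, hR⟩, -⟩ := hF P le_rfl
      obtain rfl := CfsgLib.Fusion.eq_S_of_isConj_S hQ
      have htop : (R : Subgroup (F.autGroup Q)) = ⊤ :=
        (R.3 (Q := ⊤) ((hA.to_subgroup _).of_equiv Subgroup.topEquiv.symm) le_top).symm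
      rw [htop] at hR
      intro α hα
      refine CfsgLib.Fusion.autInducedBy_le_autGroup (le_refl _) ?_
      have : (⟨α, hα⟩ : F.autGroup Q) ∈ (Cfsg.autInducedBy Q Q).subgroupOf (F.autGroup Q) :=
        hR ▸ Subgroup.mem_top _
      exact this
    · exact (CfsgLib.Fusion.MetaTwo.not_essential hS hF hm hd hq hsd hP).elim
  exact fun P => Set.Subset.antisymm (fun φ hφ => hsub P hφ) (CfsgLib.Fusion.innerFusionSystem_le F P)

end Cfsg.Agent.S5212
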