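import Cfsg.Statements.S4418
import Cfsg.Agent.S0205
import Cfsg.Agent.S0071
import Cfsg.Agent.S0949
import Cfsg.Agent.S5076
import Cfsg.Agent.S5212
import Cfsg.Agent.Lib.FGS.RealCentral

set_option autoImplicit false
open Cfsg

namespace Cfsg.Agent.S4418
universe u

theorem complement_solvable {G : Type u} [Group G] [Finite G] (h : Cfsg.HasNormalPComplement 2 G) :
    Group.IsSolvable G :=
  CfsgLib.FGS.RealCentral.isSolvable_of_hasNormalPComplement (fun K _ _ hK => Cfsg.Agent.S0205.result hK) h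

theorem complement_of_inner {G : Type u} [Group G] [Finite G] (S : Sylow 2 G)
    (h : ∀ P : Subgroup G, (Cfsg.groupFusionSystem (S : Subgroup G)).Hom P =
      (Cfsg.innerFusionSystem (S : Subgroup G)).Hom P) : Cfsg.HasNormalPComplement 2 G := by
  haveI : Fact (Nat.Prime 2) := ⟨Nat.prime_two⟩
  obtain ⟨N, hN, hc⟩ := (Cfsg.Agent.S0071.result S).2 fun Q hQ g hg hcop => by
    have hconj : ∀ x ∈ Q, g * x * g⁻¹ ∈ Q := fun x hx => (Subgroup.mem_normalizer_iff.1 hg x).1 hx
    have hmem : Cfsg.conjHom Q g ∈ (Cfsg.groupFusionSystem (S : Subgroup G)).Hom Q :=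
      ⟨hQ, fun x => hQ (hconj x x.2), g, fun x => rfl⟩
    rw [h] at hmem
    obtain ⟨-, s, hs, hsx⟩ := hmem
    have hsx' : ∀ x ∈ Q, g * x * g⁻¹ = s * x * s⁻¹ := fun x hx => hsx ⟨x, hx⟩
    have hiter : ∀ j : ℕ, ∀ x ∈ Q, g ^ j * x * (g ^ j)⁻¹ ∈ Q ∧ g ^ j * x * (g ^ j)⁻¹ = s ^ j * x * (s ^ j)⁻¹ := by
      intro j
      induction j with
      | zero => intro x hx; simp [hx]
      | succ j ih =>
        intro x hx
        obtain ⟨h1, h2⟩ := ih x hx
        have e : ∀ a : G, a ^ (j + 1) * x * (a ^ (j + 1))⁻¹ = a * (a ^ j * x * (a ^ j)⁻¹) * a⁻¹ := fun a => by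
          rw [pow_succ']; group
        rw [e, e, ← h2, ← hsx' _ h1]
        exact ⟨hconj _ h1, rfl⟩
    obtain ⟨k, hk⟩ := S.2 ⟨s, hs⟩
    have hk' : s ^ 2 ^ k = 1 := congrArg Subtype.val hk
    have hC : g ^ 2 ^ k ∈ Subgroup.centralizer (Q : Set G) := by
      refine Subgroup.mem_centralizer_iff.2 fun x hx => ?_
      have h2 := (hiter (2 ^ k) x hx).2
      rw [hk', one_mul, inv_one, mul_one] at h2
      calc x * g ^ 2 ^ k = g ^ 2 ^ k * x * (g ^ 2 ^ k)⁻¹ * g ^ 2 ^ k := by rw [h2]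
        _ = g ^ 2 ^ k * x := by group
    obtain ⟨m, hm⟩ := exists_pow_eq_self_of_coprime (Nat.Coprime.pow_left k hcop.symm)
    exact hm ▸ pow_mem hC m
  exact ⟨S, N, hN, hc⟩

theorem complement_of_cyclic {G : Type u} [Group G] [Finite G] (S : Sylow 2 G) [hS : IsCyclic (S : Subgroup G)] :
    Cfsg.HasNormalPComplement 2 G := by
  haveI : Fact (Nat.Prime 2) := ⟨Nat.prime_two⟩
  by_cases h2 : 2 ∣ Nat.card G
  · have hmin : (Nat.card G).minFac = 2 := le_antisymm (Nat.minFac_le_of_dvd le_rfl h2)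
      (Nat.minFac_prime (fun e => by rw [e] at h2; norm_num at h2)).two_le
    exact ⟨S, (MonoidHom.transferSylow S (IsCyclic.normalizer_le_centralizer hmin hS)).ker, inferInstance,
      MonoidHom.ker_transferSylow_isComplement' S (IsCyclic.normalizer_le_centralizer hmin hS)⟩
  · have hbot : (S : Subgroup G) = ⊥ := by
      refine Subgroup.card_eq_one.1 ?_
      rw [S.card_eq_multiplicity, Nat.factorization_eq_zero_of_not_dvd h2, pow_zero]
    exact ⟨S, ⊤, inferInstance, by rw [hbot]; exact Subgroup.isComplement'_top_bot⟩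

/-- A quotient by a cyclic subgroup containing all squares has order at most two, if cyclic. -/
theorem card_le_two {T : Type u} [Group T] [Finite T] (N : Subgroup T) [N.Normal] (hQc : IsCyclic (T ⧸ N))
    (h : ∀ x : T, x * x ∈ N) : Nat.card (T ⧸ N) ≤ 2 := by
  obtain ⟨g, hg⟩ := IsCyclic.exists_generator (α := T ⧸ N)
  obtain ⟨x, rfl⟩ := QuotientGroup.mk'_surjective N g
  rw [← orderOf_eq_card_of_forall_mem_zpowers hg]
  refine orderOf_le_of_pow_eq_one (by norm_num) ?_
  rw [pow_two, ← map_mul]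
  exact (QuotientGroup.eq_one_iff _).2 (h x)

theorem comm_mem {T : Type u} [Group T] (N : Subgroup T) [N.Normal] (hQc : IsCyclic (T ⧸ N)) (a b : T) :
    a * b * a⁻¹ * b⁻¹ ∈ N := by
  rw [← QuotientGroup.eq_one_iff]
  obtain ⟨g, hg⟩ := IsCyclic.exists_generator (α := T ⧸ N)
  obtain ⟨i, hi⟩ := Subgroup.mem_zpowers_iff.1 (hg (a : T ⧸ N))
  obtain ⟨j, hj⟩ := Subgroup.mem_zpowers_iff.1 (hg (b : T ⧸ N))
  show ((a * b * a⁻¹ * b⁻¹ : T) : T ⧸ N) = 1
  rw [QuotientGroup.mk_mul, QuotientGroup.mk_mul, QuotientGroup.mk_mul, QuotientGroup.mk_inv, QuotientGroup.mk_inv,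
    ← hi, ← hj]
  group

theorem dihedral_sq {T : Type u} [Group T] [Finite T] (N : Subgroup T) [N.Normal] (hQc : IsCyclic (T ⧸ N))
    {m : ℕ} (e : T ≃* DihedralGroup m) (x : T) : x * x ∈ N := by
  obtain ⟨y, rfl⟩ := e.symm.surjective x
  rw [← map_mul]
  cases y with
  | r i =>
    have h : DihedralGroup.r i * DihedralGroup.r i =
        DihedralGroup.r i * DihedralGroup.sr 0 * (DihedralGroup.r i)⁻¹ * (DihedralGroup.sr 0)⁻¹ := by
      simp
    rw [h]
    simp only [map_mul, map_inv]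
    exact comm_mem N hQc _ _
  | sr i =>
    rw [DihedralGroup.sr_mul_self, map_one]
    exact one_mem _

theorem quaternion_sq {T : Type u} [Group T] [Finite T] (hT : IsPGroup 2 T) (hnc : ¬ IsCyclic T) (N : Subgroup T)
    [N.Normal] (hQc : IsCyclic (T ⧸ N)) {m : ℕ} (e : T ≃* QuaternionGroup m) (x : T) : x * x ∈ N := by
  haveI : Fact (Nat.Prime 2) := ⟨Nat.prime_two⟩
  have hm0 : m ≠ 0 := fun h => by
    subst h
    haveI : Infinite (QuaternionGroup 0) :=
      Infinite.of_injective (fun z : ℤ => QuaternionGroup.a (n := 0) (z : ZMod (2 * 0))) fun a b hab => by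
        injection hab with h
    haveI : Finite (QuaternionGroup 0) := Finite.of_equiv T e.toEquiv
    exact not_finite (QuaternionGroup 0)
  haveI : NeZero m := ⟨hm0⟩
  have hcard : Nat.card T = 4 * m := by
    rw [Nat.card_congr e.toEquiv, Nat.card_eq_fintype_card, QuaternionGroup.card]
  have heven : Even m := by
    by_contra hodd
    rw [Nat.not_even_iff_odd] at hodd
    obtain ⟨k, hk⟩ := IsPGroup.iff_card.1 hT
    have hm1 : m = 1 := by
      have h1 : m ∣ 2 ^ k := ⟨4, by rw [← hk, hcard, mul_comm]⟩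
      exact Nat.Coprime.eq_one_of_dvd (Nat.Coprime.pow_right k ((Nat.coprime_two_right).2 hodd)) h1
    subst hm1
    haveI := QuaternionGroup.quaternionGroup_one_isCyclic
    exact hnc (isCyclic_of_surjective e.symm e.symm.surjective)
  obtain ⟨j, hj⟩ := heven
  have hcomm : ∀ i : ZMod (2 * m), e.symm (QuaternionGroup.a (i + i)) ∈ N := fun i => by
    have h : QuaternionGroup.a (i + i) =
        QuaternionGroup.a i * QuaternionGroup.xa 0 * (QuaternionGroup.a i)⁻¹ * (QuaternionGroup.xa 0)⁻¹ := by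
      rw [eq_mul_inv_iff_mul_eq, eq_mul_inv_iff_mul_eq]
      simp only [QuaternionGroup.a_mul_xa, QuaternionGroup.xa_mul_a]
      congr 1
      ring
    rw [h]
    simp only [map_mul, map_inv]
    exact comm_mem N hQc _ _
  obtain ⟨y, rfl⟩ := e.symm.surjective x
  rw [← map_mul]
  cases y with
  | a i => rw [QuaternionGroup.a_mul_a]; exact hcomm i
  | xa i =>
    have h := hcomm ((j : ℕ) : ZMod (2 * m))
    have hj' : ((j : ℕ) : ZMod (2 * m)) + (j : ℕ) = (m : ZMod (2 * m)) := by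
      rw [← Nat.cast_add, ← hj]
    rw [hj'] at h
    rw [QuaternionGroup.xa_mul_xa, show (m : ZMod (2 * m)) + i - i = m by ring]
    exact h

theorem quasi_sq {T : Type u} [Group T] [Finite T] (h : Cfsg.IsQuasiDihedral T) (N : Subgroup T)
    [N.Normal] (hQc : IsCyclic (T ⧸ N)) (s : T) : s * s ∈ N := by
  obtain ⟨n, hn, hcard, x, y, hx, hy, hxy⟩ := h
  have hpow : 2 ^ (n - 1) = 2 * 2 ^ (n - 2) := by
    rw [← pow_succ']; congr 1; omega
  have hx2 : x ^ (2 ^ (n - 1) - 2) ∈ N := by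
    have h1 : y * x * y⁻¹ * x⁻¹ ∈ N := comm_mem N hQc y x
    rw [hxy] at h1
    have : x ^ (2 ^ (n - 1) - 1) * x⁻¹ = x ^ (2 ^ (n - 1) - 2) := by
      rw [mul_inv_eq_iff_eq_mul, ← pow_succ]
      congr 1
      have : 2 ≤ 2 ^ (n - 1) := by
        calc 2 = 2 ^ 1 := rfl
          _ ≤ _ := Nat.pow_le_pow_right (by norm_num) (by omega)
      omega
    rwa [this] at h1
  have hxx : x * x ∈ N := by
    have hodd : Nat.Coprime (2 ^ (n - 2) - 1) (2 ^ (n - 1)) := by
      refine Nat.Coprime.pow_right _ ((Nat.coprime_two_right).2 ?_)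
      exact Nat.Even.sub_odd (Nat.one_le_two_pow) (Nat.even_pow.2 ⟨even_two, by omega⟩) odd_one
    have hord : orderOf (x * x) ∣ 2 ^ (n - 1) := by
      refine orderOf_dvd_of_pow_eq_one ?_
      rw [← pow_two, ← pow_mul, ← pow_succ', show n - 1 + 1 = n by omega, ← hx, pow_orderOf_eq_one]
    obtain ⟨m, hm⟩ := exists_pow_eq_self_of_coprime (hodd.coprime_dvd_right hord)
    rw [← hm]
    refine pow_mem ?_ m
    rw [← pow_two, ← pow_mul, show 2 * (2 ^ (n - 2) - 1) = 2 ^ (n - 1) - 2 by omega]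
    exact hx2
  have hidx : (Subgroup.zpowers x).index = 2 := by
    have h1 := (Subgroup.zpowers x).card_mul_index
    rw [Nat.card_zpowers, hx, hcard, pow_succ] at h1
    exact mul_left_cancel₀ (pow_ne_zero _ two_ne_zero) h1
  have hyX : y ∉ Subgroup.zpowers x := fun hyX => by
    obtain ⟨i, rfl⟩ := Subgroup.mem_zpowers_iff.1 hyX
    rw [show x ^ i * x * (x ^ i)⁻¹ = x by group] at hxy
    have h2 : (orderOf x) ∣ 2 ^ (n - 1) - 2 := by
      refine orderOf_dvd_of_pow_eq_one ?_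
      have e : x ^ (2 ^ (n - 1) - 1) = x ^ (2 ^ (n - 1) - 2) * x := by
        rw [← pow_succ]; congr 1
        have : 2 * 1 ≤ 2 * 2 ^ (n - 2) := Nat.mul_le_mul_left _ Nat.one_le_two_pow
        omega
      rw [e] at hxy
      exact right_eq_mul.1 hxy
    rw [hx] at h2
    have h3 : 2 ^ n = 2 * 2 ^ (n - 1) := by rw [← pow_succ']; congr 1; omega
    have h4 : 2 ^ 1 ≤ 2 ^ (n - 2) := Nat.pow_le_pow_right (by norm_num) (by omega)
    have := Nat.le_of_dvd (by omega) h2
    omega
  have key : ∀ t ∈ Subgroup.zpowers x, ((t * t : T) : T ⧸ N) = 1 := by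
    intro t ht
    obtain ⟨i, rfl⟩ := Subgroup.mem_zpowers_iff.1 ht
    rw [show x ^ i * x ^ i = (x * x) ^ i by rw [(Commute.refl x).mul_zpow], QuotientGroup.eq_one_iff]
    exact zpow_mem hxx i
  by_cases hs : s ∈ Subgroup.zpowers x
  · exact (QuotientGroup.eq_one_iff _).1 (key s hs)
  · have hys : y * s ∈ Subgroup.zpowers x :=
      (Subgroup.mul_mem_iff_of_index_two hidx).2 (iff_of_false hyX hs)
    have hy2 : y * y = 1 := by rw [← pow_two, ← hy, pow_orderOf_eq_one]
    rw [show s = y * (y * s) by rw [← mul_assoc, hy2, one_mul], ← QuotientGroup.eq_one_iff]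
    have hc : ∀ a b : T, ((a * b : T) : T ⧸ N) = ((b * a : T) : T ⧸ N) := fun a b => by
      obtain ⟨g, hg⟩ := IsCyclic.exists_generator (α := T ⧸ N)
      obtain ⟨i, hi⟩ := Subgroup.mem_zpowers_iff.1 (hg (a : T ⧸ N))
      obtain ⟨j, hj⟩ := Subgroup.mem_zpowers_iff.1 (hg (b : T ⧸ N))
      rw [QuotientGroup.mk_mul, QuotientGroup.mk_mul, ← hi, ← hj, ← zpow_add, ← zpow_add, add_comm]
    set z := y * s with hz
    calc ((y * z * (y * z) : T) : T ⧸ N) = ((y * z : T) : T ⧸ N) * ((y * z : T) : T ⧸ N) := QuotientGroup.mk_mul ..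
      _ = ((y * z : T) : T ⧸ N) * ((z * y : T) : T ⧸ N) := by rw [hc y z]
      _ = ((y : T) : T ⧸ N) * ((z * z : T) : T ⧸ N) * (y : T ⧸ N) := by
          simp only [QuotientGroup.mk_mul, mul_assoc]
      _ = ((y * y : T) : T ⧸ N) := by rw [key z hys, mul_one, QuotientGroup.mk_mul]
      _ = 1 := by rw [hy2]; rfl

theorem homocyclic_rank {T : Type u} [Group T] (N : Subgroup T) [N.Normal] (hNc : IsCyclic N)
    (hQc : IsCyclic (T ⧸ N)) {n k : ℕ} (hn : 1 ≤ n) (e : T ≃* Multiplicative (Fin k → ZMod (2 ^ n))) : k ≤ 2 := by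
  haveI : NeZero (2 ^ n) := ⟨pow_ne_zero _ two_ne_zero⟩
  obtain ⟨a, ha⟩ := IsCyclic.exists_generator (α := N)
  obtain ⟨g, hg⟩ := IsCyclic.exists_generator (α := T ⧸ N)
  obtain ⟨b, rfl⟩ := QuotientGroup.mk'_surjective N g
  have hgen : ∀ t : T, ∃ i j : ℤ, t = b ^ i * (a : T) ^ j := by
    intro t
    obtain ⟨i, hi⟩ := Subgroup.mem_zpowers_iff.1 (hg (t : T ⧸ N))
    have hm : (b ^ i)⁻¹ * t ∈ N := by
      rw [← QuotientGroup.eq]
      simpa using hi
    obtain ⟨j, hj⟩ := Subgroup.mem_zpowers_iff.1 (ha ⟨_, hm⟩)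
    refine ⟨i, j, ?_⟩
    have hj' : (a : T) ^ j = (b ^ i)⁻¹ * t := by simpa using congrArg Subtype.val hj
    rw [hj', mul_inv_cancel_left]
  let red : ZMod (2 ^ n) →+* ZMod 2 := ZMod.castHom (dvd_pow_self 2 (by omega)) _
  have hred : Function.Surjective red := ZMod.castHom_surjective _
  let A : Fin k → ZMod 2 := fun l => red (Multiplicative.toAdd (e a) l)
  let B : Fin k → ZMod 2 := fun l => red (Multiplicative.toAdd (e b) l)
  let f : ZMod 2 × ZMod 2 → (Fin k → ZMod 2) := fun p l => p.1 * B l + p.2 * A l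
  have hf : Function.Surjective f := by
    intro v
    choose w hw using fun l => hred (v l)
    obtain ⟨i, j, hij⟩ := hgen (e.symm (Multiplicative.ofAdd w))
    refine ⟨((i : ZMod 2), (j : ZMod 2)), funext fun l => ?_⟩
    have h1 : Multiplicative.toAdd (e (b ^ i * (a : T) ^ j)) l = w l := by
      rw [← hij]; simp
    rw [map_mul, map_zpow, map_zpow, toAdd_mul, toAdd_zpow, toAdd_zpow, Pi.add_apply, Pi.smul_apply, Pi.smul_apply,
      zsmul_eq_mul, zsmul_eq_mul] at h1
    rw [← hw l, ← h1, map_add, map_mul, map_mul, map_intCast, map_intCast]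
  have hcard := Nat.card_le_card_of_surjective f hf
  rw [Nat.card_fun, Nat.card_prod, Nat.card_zmod, Nat.card_fin] at hcard
  by_contra hc
  have h8 : 2 ^ 3 ≤ 2 ^ k := Nat.pow_le_pow_right (by norm_num) (by omega)
  omega

theorem solvable_of_homocyclic {G : Type u} [Group G] [Finite G] (S : Sylow 2 G) {n : ℕ} (hn : 2 ≤ n)
    (e : (S : Subgroup G) ≃* Multiplicative (ZMod (2 ^ n) × ZMod (2 ^ n))) : Group.IsSolvable G := by
  haveI : Fact (Nat.Prime 2) := ⟨Nat.prime_two⟩
  haveI := CfsgLib.Cores.pPrimeCore_characteristic (G := G) 2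
  haveI : (Cfsg.oddCore G).Normal := inferInstance
  set π := QuotientGroup.mk' (Cfsg.oddCore G)
  set P := S.mapSurjective (QuotientGroup.mk'_surjective (Cfsg.oddCore G)) with hP
  let φ : (S : Subgroup G) →* (P : Subgroup (G ⧸ Cfsg.oddCore G)) :=
    (π.comp (S : Subgroup G).subtype).codRestrict _ fun x => by
      rw [hP, Sylow.coe_mapSurjective]
      exact Subgroup.mem_map_of_mem _ x.2
  have hφ : Function.Bijective φ := by
    refine ⟨(injective_iff_map_eq_one φ).2 fun x hx => ?_, fun y => ?_⟩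
    · have h1 : (x : G) ∈ Cfsg.oddCore G := (QuotientGroup.eq_one_iff _).1 (congrArg Subtype.val hx)
      exact Subtype.ext (CfsgLib.Invol.eq_one_of_odd_of_mem S.2 x.2
        (CfsgLib.Cores.odd_card_oddCore.of_dvd_nat (Subgroup.orderOf_dvd_natCard _ h1)))
    · have hcoe : (P : Subgroup (G ⧸ Cfsg.oddCore G)) = (S : Subgroup G).map π := Sylow.coe_mapSurjective _ S
      obtain ⟨x, hx, hxy⟩ := hcoe.le y.2
      exact ⟨⟨x, hx⟩, Subtype.ext hxy⟩
  have hO : ∀ M : Subgroup (G ⧸ Cfsg.oddCore G), M.Normal → Odd (Nat.card M) → M = ⊥ := fun M hM hodd => by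
    have hle : M ≤ Cfsg.oddCore (G ⧸ Cfsg.oddCore G) := CfsgLib.Cores.le_pPrimeCore
      ((Nat.coprime_two_right).2 hodd)
    rw [show Cfsg.oddCore (G ⧸ Cfsg.oddCore G) = ⊥ from CfsgLib.Cores.pPrimeCore_quotient_self 2] at hle
    exact le_bot_iff.1 hle
  obtain ⟨hPn, -, hidx⟩ := Cfsg.Agent.S0949.result P n hn ((MulEquiv.ofBijective φ hφ).symm.trans e) hO
  haveI := hPn
  haveI : Group.IsSolvable (P : Subgroup (G ⧸ Cfsg.oddCore G)) := by
    haveI : Group.IsNilpotent (P : Subgroup (G ⧸ Cfsg.oddCore G)) := P.2.isNilpotent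
    infer_instance
  haveI : Group.IsSolvable ((G ⧸ Cfsg.oddCore G) ⧸ (P : Subgroup (G ⧸ Cfsg.oddCore G))) :=
    Cfsg.Agent.S0205.result (by rw [← Subgroup.index_eq_card]; rcases hidx with h | h <;> rw [h] <;> decide)
  haveI : Group.IsSolvable (G ⧸ Cfsg.oddCore G) :=
    (Group.isSolvable_iff_subgroup_quotient (P : Subgroup (G ⧸ Cfsg.oddCore G))).2 ⟨inferInstance, inferInstance⟩
  haveI : Group.IsSolvable (Cfsg.oddCore G) := Cfsg.Agent.S0205.result CfsgLib.Cores.odd_card_oddCore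
  exact (Group.isSolvable_iff_subgroup_quotient (Cfsg.oddCore G)).2 ⟨inferInstance, inferInstance⟩

/-- Let G be a finite group whose Sylow 2-subgroup S is metacyclic via a cyclic normal subgroup N of S with S/N cyclic of order greater than 2. Then G is soluble. -/
theorem result {G : Type*} [Group G] [Finite G] (S : Sylow 2 G) (N : Subgroup ↥(S : Subgroup G)) [hN : N.Normal] (hNc : IsCyclic N) (hQc : IsCyclic (↥(S : Subgroup G) ⧸ N)) (hQ : 2 < Nat.card (↥(S : Subgroup G) ⧸ N)) : Group.IsSolvable G := by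
  haveI : Fact (Nat.Prime 2) := ⟨Nat.prime_two⟩
  have hm : Cfsg.IsMetacyclic ↥(S : Subgroup G) := ⟨N, hN, hNc, hQc⟩
  by_cases hcyc : IsCyclic ↥(S : Subgroup G)
  · exact complement_solvable (complement_of_cyclic S)
  have hsmall : (∀ x : ↥(S : Subgroup G), x * x ∈ N) → Group.IsSolvable G := fun h =>
    absurd (card_le_two N hQc h) (not_le.2 hQ)
  by_cases hd : ∃ m : ℕ, Nonempty (↥(S : Subgroup G) ≃* DihedralGroup m)
  · obtain ⟨m, ⟨e⟩⟩ := hd
    exact hsmall (dihedral_sq N hQc e)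
  by_cases hq : ∃ m : ℕ, Nonempty (↥(S : Subgroup G) ≃* QuaternionGroup m)
  · obtain ⟨m, ⟨e⟩⟩ := hq
    exact hsmall (quaternion_sq S.2 hcyc N hQc e)
  by_cases hsd : Cfsg.IsQuasiDihedral ↥(S : Subgroup G)
  · exact hsmall (quasi_sq hsd N hQc)
  by_cases hh : ∃ n k : ℕ, Nonempty (↥(S : Subgroup G) ≃* Multiplicative (Fin k → ZMod (2 ^ n)))
  · obtain ⟨n, k, ⟨e⟩⟩ := hh
    have hn : 1 ≤ n := Nat.pos_of_ne_zero fun h => hcyc (by
      subst h
      haveI : Subsingleton (ZMod (2 ^ 0)) := by rw [pow_zero]; infer_instance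
      haveI : Subsingleton ↥(S : Subgroup G) := e.toEquiv.subsingleton
      exact isCyclic_of_subsingleton)
    have hk : k = 2 := by
      have := homocyclic_rank N hNc hQc hn e
      refine le_antisymm this (not_lt.1 fun hlt => hcyc ?_)
      interval_cases k
      · haveI : Subsingleton ↥(S : Subgroup G) := e.toEquiv.subsingleton
        exact isCyclic_of_subsingleton
      · exact isCyclic_of_surjective ((MulEquiv.trans (AddEquiv.toMultiplicative
          (AddEquiv.funUnique (Fin 1) (ZMod (2 ^ n))).symm) e.symm)) (MulEquiv.surjective _)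
    subst hk
    rcases Nat.lt_or_ge n 2 with hn2 | hn2
    · have hn1 : n = 1 := by omega
      subst hn1
      refine hsmall fun x => ?_
      have : x * x = 1 := e.injective (by
        rw [map_mul, map_one]
        exact Multiplicative.toAdd.injective (funext fun i => by
          simp only [toAdd_mul, Pi.add_apply, toAdd_one, Pi.zero_apply]
          generalize Multiplicative.toAdd (e x) i = z
          revert z
          decide +revert))
      rw [this]; exact one_mem _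
    · exact solvable_of_homocyclic S hn2 (e.trans (AddEquiv.toMultiplicative
        { finTwoArrowEquiv (ZMod (2 ^ n)) with map_add' := fun a b => rfl }))
  exact complement_solvable (complement_of_inner S
    (Cfsg.Agent.S5212.result S.2 _ (Cfsg.Agent.S5076.result 2 S) hm hh hd hq hsd))

end Cfsg.Agent.S4418
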