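import Cfsg.Statements.S4419
import Cfsg.Agent.S4218
import Cfsg.Agent.Lib.Transfer.Frobenius
import Cfsg.Agent.Lib.Cores.Basic
import Cfsg.Agent.Lib.PGroup.Basic

set_option autoImplicit false
open Cfsg

namespace Cfsg.Agent.S4419
open scoped Pointwise

/-- Generated by two elements. -/
def TwoGen (U : Type*) [Group U] : Prop := ∃ a b : U, Subgroup.closure ({a, b} : Set U) = ⊤

theorem twoGen_of_metacyclic {R : Type*} [Group R] (hR : Cfsg.IsMetacyclic R) (U : Subgroup R) : TwoGen U := by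
  obtain ⟨N, hN, hc, hq⟩ := hR
  haveI := hN; haveI := hc; haveI := hq
  let f : U →* R ⧸ N := (QuotientGroup.mk' N).comp U.subtype
  haveI : IsCyclic f.range := inferInstance
  have hker : IsCyclic (N ⊓ U : Subgroup R) :=
    isCyclic_of_injective (Subgroup.inclusion (inf_le_left : N ⊓ U ≤ N)) (Subgroup.inclusion_injective _)
  haveI := hker
  obtain ⟨a, ha⟩ := IsCyclic.exists_generator (α := (N ⊓ U : Subgroup R))
  obtain ⟨⟨_, b, rfl⟩, hb⟩ := IsCyclic.exists_generator (α := f.range)
  refine ⟨⟨a, a.2.2⟩, b, eq_top_iff.2 fun u _ => ?_⟩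
  obtain ⟨k, hk⟩ := Subgroup.mem_zpowers_iff.1 (hb ⟨f u, u, rfl⟩)
  have hk' : f (b ^ k) = f u := by
    have := congrArg Subtype.val hk
    simpa using this
  have hm : (((b ^ k)⁻¹ * u : U) : R) ∈ N ⊓ U :=
    ⟨(QuotientGroup.eq_one_iff (N := N) _).1 (show f ((b ^ k)⁻¹ * u) = 1 by
      rw [map_mul, map_inv, hk', inv_mul_cancel]), SetLike.coe_mem _⟩
  obtain ⟨l, hl⟩ := Subgroup.mem_zpowers_iff.1 (ha ⟨_, hm⟩)
  have hl' : (⟨a, a.2.2⟩ : U) ^ l = (b ^ k)⁻¹ * u := by
    refine Subtype.ext ?_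
    have := congrArg Subtype.val hl
    simpa using this
  rw [show u = b ^ k * (⟨a, a.2.2⟩ : U) ^ l by rw [hl']; group]
  exact mul_mem (zpow_mem (Subgroup.subset_closure (by simp)) _) (zpow_mem (Subgroup.subset_closure (by simp)) _)

theorem TwoGen.of_surjective {U V : Type*} [Group U] [Group V] (h : TwoGen U) (f : U →* V)
    (hf : Function.Surjective f) : TwoGen V := by
  obtain ⟨a, b, hab⟩ := h
  refine ⟨f a, f b, ?_⟩
  rw [← Set.image_pair, ← MonoidHom.map_closure, hab, Subgroup.map_top_of_surjective _ hf]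

theorem aut_eq_one {U : Type*} [Group U] [Finite U] {p : ℕ} [hp : Fact p.Prime] (hU : IsPGroup p U)
    (h2 : TwoGen U) (e : MulAut U) (n : ℕ) (hn : e ^ n = 1) (hnp : n.Coprime p) (hn2 : n.Coprime (p ^ 2 - 1)) :
    e = 1 := by
  classical
  set Q := U ⧸ frattini U
  let c : MulAut U →* MulAut Q :=
    { toFun := fun e => QuotientGroup.congr (frattini U) (frattini U) e (Subgroup.characteristic_iff_map_eq.1 inferInstance e)
      map_one' := MulEquiv.ext fun x => by obtain ⟨x, rfl⟩ := QuotientGroup.mk_surjective x; rfl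
      map_mul' := fun a b => MulEquiv.ext fun x => by obtain ⟨x, rfl⟩ := QuotientGroup.mk_surjective x; rfl }
  suffices hc : c e = 1 by
    refine Cfsg.Agent.S4218.eq_id_of_frattini hU n e hn hnp fun x => ?_
    have := DFunLike.congr_fun hc (x : Q)
    exact QuotientGroup.eq.1 (this.symm : (x : Q) = ((e x : U) : Q))
  by_contra hne
  have hno : orderOf (c e) ∣ n := orderOf_dvd_of_pow_eq_one (by rw [← map_pow, hn, map_one])
  obtain ⟨q, hq, hqd⟩ := Nat.exists_prime_and_dvd (fun h => hne (orderOf_eq_one_iff.1 h) : orderOf (c e) ≠ 1)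
  haveI := Fact.mk hq
  set d := (c e) ^ (orderOf (c e) / q)
  have hn0 : orderOf (c e) ≠ 0 := fun h => by
    rw [h, zero_dvd_iff] at hno
    rw [hno, Nat.coprime_zero_left] at hnp
    exact hp.out.ne_one hnp
  have hd : orderOf d = q := orderOf_pow_orderOf_div hn0 hqd
  have hd1 : d ≠ 1 := fun h => by rw [h, orderOf_one] at hd; exact hq.ne_one hd.symm
  -- `Q` has at most `p ^ 2` elements
  have hcard : Nat.card Q ∣ p ^ 2 := by
    obtain ⟨a, b, hab⟩ := h2.of_surjective (QuotientGroup.mk' (frattini U)) (QuotientGroup.mk'_surjective _)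
    obtain ⟨i, hi⟩ := IsPGroup.iff_card.1 (hU.to_quotient (frattini U))
    rw [hi]
    refine pow_dvd_pow p ((Nat.pow_le_pow_iff_right hp.out.one_lt).1 ?_)
    rw [← hi]
    let g : Fin p × Fin p → Q := fun t => a ^ (t.1 : ℕ) * b ^ (t.2 : ℕ)
    have hg : Function.Surjective g := by
      letI : CommGroup Q := { (inferInstance : Group Q) with mul_comm := CfsgLib.PGroup.quotient_frattini_comm hU }
      intro y
      obtain ⟨k, l, hkl⟩ := Subgroup.mem_closure_pair.1 (hab ▸ Subgroup.mem_top y)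
      have hred : ∀ (x : Q) (k : ℤ), ∃ i : Fin p, x ^ (i : ℕ) = x ^ k := fun x k => by
        have h0 : 0 ≤ k % (p : ℤ) := Int.emod_nonneg _ (by exact_mod_cast hp.out.ne_zero)
        have h1 : k % (p : ℤ) < p := Int.emod_lt_of_pos _ (by exact_mod_cast hp.out.pos)
        refine ⟨⟨(k % (p : ℤ)).toNat, by omega⟩, ?_⟩
        rw [← zpow_natCast x, Int.toNat_of_nonneg h0, zpow_eq_zpow_emod' k (CfsgLib.PGroup.quotient_frattini_pow hU x)]
      obtain ⟨i, hi⟩ := hred a k
      obtain ⟨j, hj⟩ := hred b l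
      exact ⟨(i, j), by show a ^ (i : ℕ) * b ^ (j : ℕ) = y; rw [hi, hj, hkl]⟩
    have := Nat.card_le_card_of_surjective g hg
    rwa [Nat.card_prod, Nat.card_fin, ← pow_two] at this
  -- fixed points
  let F : Subgroup Q := MonoidHom.eqLocus d.toMonoidHom (MonoidHom.id Q)
  have hFne : F ≠ ⊤ := fun h => hd1 (MulEquiv.ext fun x => (h ▸ Subgroup.mem_top x : x ∈ F))
  have hmod : Nat.card Q ≡ Nat.card F [MOD q] := by
    have hP : IsPGroup q (Subgroup.zpowers d) := IsPGroup.of_card (n := 1) (by rw [Nat.card_zpowers, hd, pow_one])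
    have hfix : MulAction.fixedPoints (Subgroup.zpowers d) Q = (F : Set Q) := by
      ext x
      constructor
      · intro h; exact h ⟨d, Subgroup.mem_zpowers d⟩
      · intro h
        have : d ∈ MulAction.stabilizer (MulAut Q) x := h
        rintro ⟨g, hg⟩
        exact (Subgroup.zpowers_le.2 this hg : g ∈ MulAction.stabilizer (MulAut Q) x)
    have := hP.card_modEq_card_fixedPoints Q
    rwa [hfix] at this
  obtain ⟨i, hi2, hi⟩ := (Nat.dvd_prime_pow hp.out).1 hcard
  obtain ⟨j, hj2, hj⟩ := (Nat.dvd_prime_pow hp.out).1 (hi ▸ F.card_subgroup_dvd_card)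
  have hji : j < i := lt_of_le_of_ne hj2 fun h => hFne (Subgroup.eq_top_of_card_eq _ (by rw [hi, hj, h]))
  obtain ⟨t, rfl⟩ : ∃ t, i = j + (t + 1) := ⟨i - j - 1, by omega⟩
  rw [hi, hj] at hmod
  have hdiv : q ∣ p ^ j * (p ^ (t + 1) - 1) := by
    rw [Nat.mul_sub, mul_one, ← pow_add]
    exact (Nat.modEq_iff_dvd' (Nat.pow_le_pow_right hp.out.pos (by omega))).1 hmod.symm
  have hqp : ¬ q ∣ p := fun h => by
    have hqp := (Nat.prime_dvd_prime_iff_eq hq hp.out).1 h
    exact hq.ne_one (Nat.eq_one_of_dvd_coprimes hnp (hqd.trans hno) (hqp ▸ dvd_rfl))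
  have h3 : q ∣ p ^ (t + 1) - 1 := ((Nat.Prime.dvd_mul hq).1 hdiv).resolve_left fun h => hqp (hq.dvd_of_dvd_pow h)
  have h4 : q ∣ p ^ 2 - 1 := by
    rcases (show t = 0 ∨ t = 1 by omega) with rfl | rfl
    · refine h3.trans ?_
      rw [zero_add, pow_one]
      simpa using Nat.sub_dvd_pow_sub_pow p 1 2
    · exact h3
  exact hq.ne_one (Nat.eq_one_of_dvd_coprimes hn2 (hqd.trans hno) h4)


/-- Let p be a prime and G a finite group whose Sylow p-subgroups are metacyclic (a cyclic normal subgroup with cyclic quotient). Then G has a normal p-complement if and only if the order of G/O_{p′,p}(G) is coprime to p² − 1. -/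
theorem result {G : Type*} [Group G] [Finite G] (p : ℕ) [Fact p.Prime] (S : Sylow p G) (hS : Cfsg.IsMetacyclic ↥(S : Subgroup G)) : Cfsg.HasNormalPComplement p G ↔ Nat.Coprime (Nat.card (G ⧸ Cfsg.pPrimePCore p G)) (p ^ 2 - 1) := by
  classical
  set O := Cfsg.pPrimeCore p G with hO
  set π := QuotientGroup.mk' O
  have hπ : Function.Surjective π := QuotientGroup.mk'_surjective _
  have hp : p.Prime := Fact.out
  have hcardeq : Nat.card (G ⧸ Cfsg.pPrimePCore p G) = (Cfsg.pCore p (G ⧸ O)).index := by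
    rw [← Subgroup.index_eq_card]
    exact Subgroup.index_comap_of_surjective _ hπ
  rw [hcardeq]
  constructor
  · intro h
    obtain ⟨N, hN, hc, k, hk⟩ := CfsgLib.Transfer.hasNormalPComplement_iff.1 h
    haveI := hN
    have hNO : N ≤ O := CfsgLib.Cores.le_pPrimeCore hc
    have hquot : IsPGroup p (G ⧸ O) := by
      obtain ⟨j, -, hj⟩ := (Nat.dvd_prime_pow hp).1 (hk ▸ Subgroup.index_dvd_of_le hNO)
      exact IsPGroup.of_card (show Nat.card (G ⧸ O) = p ^ j from hj)
    have : Cfsg.pCore p (G ⧸ O) = ⊤ :=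
      eq_top_iff.2 (CfsgLib.Cores.le_pCore (hquot.to_subgroup (⊤ : Subgroup (G ⧸ O))))
    rw [this, Subgroup.index_top]
    exact Nat.coprime_one_left _
  · intro hcop
    have hcopG : (Nat.card (G ⧸ O)).Coprime (p ^ 2 - 1) := by
      rw [← (Cfsg.pCore p (G ⧸ O)).card_mul_index]
      refine Nat.Coprime.mul_left ?_ hcop
      obtain ⟨i, hi⟩ := IsPGroup.iff_card.1 (CfsgLib.Cores.isPGroup_pCore (G := G ⧸ O) p)
      rw [hi]
      refine Nat.Coprime.pow_left _ ((hp.coprime_iff_not_dvd).2 fun h => ?_)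
      have h1 : p ∣ p ^ 2 := dvd_pow_self p two_ne_zero
      have h2 := Nat.dvd_sub h1 h
      have h3 : 1 ≤ p ^ 2 := Nat.one_le_pow _ _ hp.pos
      rw [show p ^ 2 - (p ^ 2 - 1) = 1 by omega] at h2
      exact hp.ne_one (Nat.eq_one_of_dvd_one h2)
    have hfro : CfsgLib.Transfer.FrobeniusCond p (G ⧸ O) := by
      intro U hU g hg hgp
      obtain ⟨T, hT⟩ := hU.exists_le_sylow
      obtain ⟨x, hx⟩ := MulAction.exists_smul_eq (G ⧸ O) (S.mapSurjective hπ) T
      obtain ⟨x, rfl⟩ := hπ x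
      have hTU : (T : Subgroup (G ⧸ O)) = ((x • S : Sylow p G) : Subgroup G).map π := by
        rw [← hx, Sylow.coe_subgroup_smul, Sylow.coe_mapSurjective, Sylow.coe_subgroup_smul]
        ext y
        constructor
        · intro hy
          rw [Subgroup.mem_pointwise_smul_iff_inv_smul_mem] at hy
          obtain ⟨s, hs, hsy⟩ := hy
          refine ⟨MulAut.conj x • s, Subgroup.smul_mem_pointwise_smul s (MulAut.conj x) _ hs, ?_⟩
          rw [MulAut.smul_def, MulAut.conj_apply, map_mul, map_mul, map_inv, hsy, MulAut.smul_def,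
            MulAut.conj_inv_apply]
          group
        · rintro ⟨z, hz, rfl⟩
          rw [SetLike.mem_coe] at hz
          rw [Subgroup.mem_pointwise_smul_iff_inv_smul_mem] at hz ⊢
          refine ⟨(MulAut.conj x)⁻¹ • z, hz, ?_⟩
          rw [MulAut.smul_def, MulAut.smul_def, MulAut.conj_inv_apply, MulAut.conj_inv_apply, map_mul, map_mul, map_inv]
      set W : Subgroup G := ((x • S : Sylow p G) : Subgroup G) ⊓ U.comap π
      have hmeta : TwoGen W := by
        have h1 := twoGen_of_metacyclic hS (W.comap ((MulAut.conj x).toMonoidHom.comp (S : Subgroup G).subtype))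
        refine h1.of_surjective
          ((((MulAut.conj x).toMonoidHom.comp (S : Subgroup G).subtype).comp (Subgroup.subtype _)).codRestrict W fun t => t.2) ?_
        rintro ⟨w, hw⟩
        have hw1 := hw.1
        rw [Sylow.coe_subgroup_smul] at hw1
        obtain ⟨s, hs, rfl⟩ := hw1
        exact ⟨⟨⟨s, hs⟩, hw⟩, rfl⟩
      have hUgen : TwoGen U := by
        refine hmeta.of_surjective ((π.comp W.subtype).codRestrict U fun w => w.2.2) ?_
        rintro ⟨u, hu⟩
        obtain ⟨s, hs, rfl⟩ := (hTU ▸ hT hu : u ∈ ((x • S : Sylow p G) : Subgroup G).map π)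
        exact ⟨⟨s, hs, hu⟩, rfl⟩
      have he := aut_eq_one hU hUgen (Subgroup.normalizerMonoidHom U ⟨g, hg⟩) (orderOf g)
        (by
          rw [← map_pow, show (⟨g, hg⟩ : Subgroup.normalizer (U : Set (G ⧸ O))) ^ orderOf g = 1 from
            Subtype.ext (pow_orderOf_eq_one g), map_one]) hgp (hcopG.coprime_dvd_left (orderOf_dvd_natCard g))
      rw [Subgroup.mem_centralizer_iff]
      intro u hu
      have h1 := congrArg Subtype.val (DFunLike.congr_fun he ⟨u, hu⟩)
      have h2 : g * u * g⁻¹ = u := h1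
      calc u * g = g * u * g⁻¹ * g := by rw [h2]
        _ = g * u := by group
    obtain ⟨N, hN, hc, k, hk⟩ := CfsgLib.Transfer.hasNormalPComplement_iff.1
      (CfsgLib.Transfer.hasNormalPComplement_of_frobeniusCond hfro)
    refine CfsgLib.Transfer.hasNormalPComplement_of (N := N.comap π) (hN.comap π) ?_
      (show (N.comap π).index = p ^ k by rw [Subgroup.index_comap_of_surjective _ hπ, hk])
    have h1 := (N.comap π).card_mul_index
    rw [Subgroup.index_comap_of_surjective _ hπ, ← O.card_mul_index,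
      show O.index = Nat.card (G ⧸ O) from rfl, ← N.card_mul_index, ← mul_assoc] at h1
    rw [Nat.eq_of_mul_eq_mul_right (Nat.pos_of_ne_zero Subgroup.index_ne_zero_of_finite) h1]
    exact Nat.Coprime.mul_left (CfsgLib.Cores.coprime_card_pPrimeCore p) hc

end Cfsg.Agent.S4419
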