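import Cfsg.Statements.S4420

set_option autoImplicit false
open Cfsg

namespace Cfsg.Agent.S4420

theorem exists_index_two {H : Type*} [Group H] [Finite H] [Nontrivial H] (hsq : ∀ x : H, x ^ 2 = 1) :
    ∃ B : Subgroup H, B.index = 2 := by
  have : Fact (Nat.Prime 2) := ⟨Nat.prime_two⟩
  have hp : IsPGroup 2 H := fun x => ⟨1, hsq x⟩
  obtain ⟨k, hk⟩ := IsPGroup.iff_card.1 hp
  rcases k with _ | k
  · exact absurd (hk.trans (pow_zero 2)) (Finite.one_lt_card (α := H)).ne'
  · obtain ⟨B, hB, -⟩ := Sylow.exists_subgroup_card_pow_prime_le 2 (n := 0) (m := k)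
      (by rw [hk]; exact pow_dvd_pow 2 (Nat.le_succ k)) ⊥ (by simp) (Nat.zero_le k)
    refine ⟨B, ?_⟩
    have := B.card_mul_index
    rw [hB, hk, pow_succ] at this
    exact Nat.eq_of_mul_eq_mul_left (pow_pos (by norm_num) k) this


/-- Structure of groups in which every element outside some proper subgroup has square 1. Let H be a finite group with a proper subgroup A such that every element outside A has square 1. Then H has an abelian normal subgroup B of index 2 such that every element outside B is an involution inverting every element of B; and if H is not an elementary abelian 2-group, B is the only abelian normal subgroup of index 2 with this property. -/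
theorem result {H : Type*} [Group H] [Finite H] (A : Subgroup H) (hA : A ≠ ⊤) (hD : ∀ x : H, x ∉ A → x ^ 2 = 1) :
    ∃ B : Subgroup H, B.Normal ∧ IsMulCommutative ↥B ∧ B.index = 2 ∧
      (∀ x : H, x ∉ B → x ^ 2 = 1 ∧ ∀ b ∈ B, x * b * x⁻¹ = b⁻¹) ∧
      (¬ (IsMulCommutative H ∧ ∀ x : H, x ^ 2 = 1) →
        ∀ B' : Subgroup H, B'.Normal → IsMulCommutative ↥B' → B'.index = 2 →
          (∀ x : H, x ∉ B' → x ^ 2 = 1 ∧ ∀ b ∈ B', x * b * x⁻¹ = b⁻¹) → B' = B) := by
  have hinv : ∀ x : H, x ∉ A → ∀ a ∈ A, x * a * x⁻¹ = a⁻¹ := by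
    intro x hx a ha
    have hxa : x * a ∉ A := fun h => hx (by simpa using mul_mem h (inv_mem ha))
    have h1 := hD _ hxa
    have h2 := hD _ hx
    rw [pow_two] at h1 h2
    rw [inv_eq_of_mul_eq_one_right h2]
    apply eq_inv_of_mul_eq_one_left
    simpa [mul_assoc] using h1
  obtain ⟨t, ht⟩ : ∃ t, t ∉ A := by
    by_contra h
    push Not at h
    exact hA ((Subgroup.eq_top_iff' A).2 h)
  have hAab : ∀ a ∈ A, ∀ b ∈ A, a * b = b * a := by
    intro a ha b hb
    have h1 := hinv t ht (a * b) (mul_mem ha hb)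
    have h2 : t * (a * b) * t⁻¹ = (t * a * t⁻¹) * (t * b * t⁻¹) := by group
    rw [h2, hinv t ht a ha, hinv t ht b hb, mul_inv_rev] at h1
    have := congrArg (fun z => (z : H)⁻¹) h1
    simp only [mul_inv_rev, inv_inv] at this
    exact this.symm
  by_cases hel : IsMulCommutative H ∧ ∀ x : H, x ^ 2 = 1
  · have : Nontrivial H := ⟨⟨t, 1, fun e => ht (e ▸ one_mem A)⟩⟩
    obtain ⟨B, hB⟩ := exists_index_two hel.2
    refine ⟨B, Subgroup.normal_of_index_eq_two hB, ⟨⟨fun a b => Subtype.ext (hel.1.is_comm.comm _ _)⟩⟩, hB, ?_,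
      fun h => absurd hel h⟩
    intro x _
    refine ⟨hel.2 x, fun b _ => ?_⟩
    have := hel.2 b
    rw [pow_two] at this
    rw [hel.1.is_comm.comm x b, mul_inv_cancel_right, inv_eq_of_mul_eq_one_right this]
  · have hsqA : (∀ a ∈ A, a ^ 2 = 1) → False := by
      intro h
      apply hel
      have hall : ∀ x : H, x ^ 2 = 1 := fun x => by
        by_cases hx : x ∈ A
        exacts [h x hx, hD x hx]
      refine ⟨⟨⟨fun a b => ?_⟩⟩, hall⟩
      have ha := hall a
      have hb := hall b
      have hab := hall (a * b)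
      rw [pow_two] at ha hb hab
      rw [← inv_eq_of_mul_eq_one_right hab, mul_inv_rev, inv_eq_of_mul_eq_one_right ha, inv_eq_of_mul_eq_one_right hb]
    have hidx : A.index = 2 := by
      rw [Subgroup.index_eq_two_iff]
      refine ⟨t, fun x => ?_⟩
      by_cases hx : x ∈ A
      · exact Or.inr ⟨hx, fun h => ht (by simpa using mul_mem (inv_mem hx) h)⟩
      refine Or.inl ⟨by_contra fun hxt => hsqA fun a ha => ?_, hx⟩
      have h1 := hinv _ hxt a ha
      have h2 : x * t * a * (x * t)⁻¹ = x * (t * a * t⁻¹) * x⁻¹ := by group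
      rw [h2, hinv t ht a ha, hinv x hx _ (inv_mem ha), inv_inv] at h1
      rw [pow_two]
      nth_rw 1 [h1]
      exact inv_mul_cancel a
    refine ⟨A, Subgroup.normal_of_index_eq_two hidx, ⟨⟨fun a b => Subtype.ext (hAab a a.2 b b.2)⟩⟩, hidx,
      fun x hx => ⟨hD x hx, hinv x hx⟩, fun _ B' _ _ hB' hx' => by_contra fun hne => hsqA ?_⟩
    have hout : ∀ a ∈ A, a ∉ B' → a ^ 2 = 1 := fun a _ h => (hx' a h).1
    obtain ⟨a0, ha0, ha0'⟩ : ∃ a0 ∈ A, a0 ∉ B' := by
      by_contra h
      push Not at h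
      refine hne (Subgroup.eq_of_le_of_card_ge h ?_).symm
      have e1 := A.card_mul_index
      have e2 := B'.card_mul_index
      rw [hidx] at e1
      rw [hB'] at e2
      omega
    intro a ha
    by_cases haB : a ∈ B'
    · have h1 := hout (a * a0) (mul_mem ha ha0) (fun h => ha0' (by simpa using mul_mem (inv_mem haB) h))
      have hc : Commute a a0 := hAab a ha a0 ha0
      rw [hc.mul_pow, hout a0 ha0 ha0', mul_one] at h1
      exact h1
    · exact hout a ha haB

end Cfsg.Agent.S4420
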