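import Cfsg.Statements.S4422

set_option autoImplicit false
open Cfsg

namespace Cfsg.Agent.S4422

/-- Primitive divisors of `q^e - 1` are congruent to 1 modulo `e`. Let `q ≥ 2` and `e ≥ 1` be natural numbers and let `m` be a divisor of `q^e - 1` that is coprime to `q^i - 1` for every `1 ≤ i < e` (so `m` divides the primitive part of `q^e - 1`, the largest such divisor). Then `m ≡ 1 (mod e)`. -/
theorem result (q e m : ℕ) (hq : 2 ≤ q) (he : 1 ≤ e)
    (hm : m ∣ q ^ e - 1) (hcop : ∀ i : ℕ, 1 ≤ i → i < e → Nat.Coprime m (q ^ i - 1)) :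
    m % e = 1 % e := by
  have h0 : q ^ e - 1 ≠ 0 := by
    have : 2 ≤ q ^ e := le_trans hq (Nat.le_self_pow (by omega) q)
    omega
  suffices H : ∀ n : ℕ, n ∣ m → n % e = 1 % e from H m dvd_rfl
  intro n
  induction n using induction_on_primes with
  | zero =>
    intro hn
    exact absurd (Nat.eq_zero_of_zero_dvd (dvd_trans hn hm)) h0
  | one => intro _; rfl
  | prime_mul r a hr ih =>
    intro hn
    have hrm : r ∣ m := dvd_trans (dvd_mul_right r a) hn
    have : Fact r.Prime := ⟨hr⟩
    have hpow : ∀ i, r ∣ q ^ i - 1 ↔ (q : ZMod r) ^ i = 1 := by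
      intro i
      rw [← ZMod.natCast_eq_zero_iff, Nat.cast_sub (Nat.one_le_pow _ _ (by omega)), Nat.cast_pow, Nat.cast_one,
        sub_eq_zero]
    have hord : orderOf (q : ZMod r) = e := by
      rw [orderOf_eq_iff (by omega)]
      refine ⟨(hpow e).1 (hrm.trans hm), fun i hie hi h => ?_⟩
      exact hr.one_lt.ne' (Nat.eq_one_of_dvd_coprimes (hcop i hi hie) hrm ((hpow i).2 h))
    have hne : (q : ZMod r) ≠ 0 := by
      intro h
      have := (hpow e).1 (hrm.trans hm)
      rw [h, zero_pow (by omega)] at this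
      exact zero_ne_one this
    have hdvd : e ∣ r - 1 := by
      rw [← hord]
      exact orderOf_dvd_of_pow_eq_one (ZMod.pow_card_sub_one_eq_one hne)
    have hr1 : r % e = 1 % e := ((Nat.modEq_iff_dvd' hr.one_lt.le).2 hdvd).symm
    rw [Nat.mul_mod, hr1, ih (dvd_trans (dvd_mul_left a r) hn), ← Nat.mul_mod, mul_one]

end Cfsg.Agent.S4422
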