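import Cfsg.Statements.S4425
import Cfsg.Agent.Lib.BlockArith.RegCoef
import Cfsg.Agent.Lib.Blocks.GaloisInv

set_option autoImplicit false
open Cfsg

namespace Cfsg.Agent.S4425

/-- Let χ be an irreducible character of the finite group G, p a prime, p^a the p-part of the order of G and p^b the p-part of the degree χ(1). Let χ̃ be the class function equal to p^a · χ on p-regular elements and zero on p-singular elements. Then p^(−b) · χ̃ is a generalized character of G, while p^(−(b+1)) · χ̃ is not. -/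
theorem result {G : Type*} [Group G] [Finite G] (p : ℕ) [Fact p.Prime] (χ : Cfsg.IrrCharacter G) : Cfsg.IsGeneralizedCharacter G (fun x : G => if p ∣ orderOf x then (0 : ℂ) else ((p ^ ((Nat.card G).factorization p - (Cfsg.charDegree (χ : G → ℂ)).factorization p) : ℕ) : ℂ) * (χ : G → ℂ) x) ∧ ¬ Cfsg.IsGeneralizedCharacter G (fun x : G => if p ∣ orderOf x then (0 : ℂ) else ((p ^ (Nat.card G).factorization p : ℕ) : ℂ) / ((p ^ ((Cfsg.charDegree (χ : G → ℂ)).factorization p + 1) : ℕ) : ℂ) * (χ : G → ℂ) x) := by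
  classical
  have := Fintype.ofFinite G
  have hp : p.Prime := Fact.out
  obtain ⟨M, hM⟩ := CfsgLib.Blocks.exists_isPModular hp
  have := hM.2.1
  set a := (Nat.card G).factorization p with ha
  set v := (Cfsg.charDegree (χ : G → ℂ)).factorization p with hv
  set m := Nat.card G / p ^ a with hmdef
  have hva : v ≤ a := by
    have := CfsgLib.BlockArith.degree_factorization hM
      (CfsgLib.Blocks.isPBlock_blockOf (M := M) χ) (CfsgLib.Blocks.mem_blockOf_self χ)
    have := CfsgLib.BlockArith.height_le hM (CfsgLib.Blocks.isPBlock_blockOf (M := M) χ)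
      (CfsgLib.Blocks.mem_blockOf_self χ) (p := p)
    have := CfsgLib.BlockArith.blockDefect_le (p := p)
      (B := Cfsg.blockOf M (χ : G → ℂ))
    omega
  have hpC : (p : ℂ) ≠ 0 := by exact_mod_cast hp.ne_zero
  refine ⟨?_, fun hgen => ?_⟩
  · refine CfsgLib.Char.isGen_of_classInner_int (CfsgLib.Char.isClassFunction_iff.mpr ?_)
      fun ψ hψ => ?_
    · intro x y hxy
      rw [CfsgLib.Char.isClassFunction_iff.mp (CfsgLib.Char.isClassFunction_of_isIrr χ.2) x y hxy]
      obtain ⟨c, rfl⟩ := isConj_iff.mp hxy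
      rw [show orderOf (c * x * c⁻¹) = orderOf x from (SemiconjBy.conj_mk c x).orderOf_eq.symm]
    · obtain ⟨k, hk⟩ := CfsgLib.BlockArith.pow_degree_dvd_regCoef (p := p) hM χ ⟨ψ, hψ⟩
      refine ⟨k, ?_⟩
      apply mul_left_cancel₀ (a := ((p ^ v : ℕ) : ℂ)) (by exact_mod_cast pow_ne_zero _ hp.ne_zero)
      rw [← CfsgLib.Char.classInner_smul_left]
      refine Eq.trans (congrArg (fun f => Cfsg.classInner f ψ) ?_)
        ((CfsgLib.BlockArith.regCoef_spec (p := p) χ ⟨ψ, hψ⟩).trans ?_)
      · funext x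
        simp only [Pi.smul_apply, smul_eq_mul, CfsgLib.BlockArith.paReg]
        split_ifs
        · simp
        · rw [← mul_assoc, ← Nat.cast_mul, ← pow_add, Nat.add_sub_cancel' hva]
      · rw [hk]; push_cast; rfl
  · obtain ⟨S⟩ := (inferInstance : Nonempty (Sylow p G))
    obtain ⟨z, hz⟩ := CfsgLib.Char.classInner_gen_int
      (CfsgLib.Char.isGen_res (S : Subgroup G) hgen) (CfsgLib.Char.isGen_one (G := (S : Subgroup G)))
    have h1 := congrArg (fun w => (Nat.card (S : Subgroup G) : ℂ) * w) hz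
    simp only [CfsgLib.Char.card_mul_classInner] at h1
    rw [Finset.sum_eq_single (1 : (S : Subgroup G)) (fun u _ hu => ?_) (by simp)] at h1
    · simp only [OneMemClass.coe_one, orderOf_one] at h1
      rw [if_neg hp.not_dvd_one, map_one, mul_one,
        show Nat.card (S : Subgroup G) = p ^ a from S.card_eq_multiplicity,
        ← CfsgLib.CharBlocks.coe_charDegree_irr] at h1
      push_cast at h1
      field_simp at h1
      have h2 : (Cfsg.charDegree (χ : G → ℂ) : ℤ) = (p : ℤ) ^ (v + 1) * z := by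
        exact_mod_cast h1
      have h3 : p ^ (v + 1) ∣ Cfsg.charDegree (χ : G → ℂ) :=
        Int.natCast_dvd_natCast.mp ⟨z, by push_cast; exact h2⟩
      exact Nat.pow_succ_factorization_not_dvd (CfsgLib.Blocks.charDegree_ne_zero χ) hp h3
    · obtain ⟨j, hj⟩ := S.2 u
      obtain ⟨i, -, hi⟩ := (Nat.dvd_prime_pow hp).mp (orderOf_dvd_of_pow_eq_one hj)
      rw [if_pos, zero_mul]
      rw [Subgroup.orderOf_coe, hi]
      refine dvd_pow_self p fun h => hu ?_
      rwa [h, pow_zero, orderOf_eq_one_iff] at hi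

end Cfsg.Agent.S4425
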