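import Cfsg.Statements.S4426
import Cfsg.Agent.Lib.BlockArith.RegCoef

set_option autoImplicit false
open Cfsg

namespace Cfsg.Agent.S4426

/-- Let χ be an irreducible character in the p-block B of the finite group G (relative to a maximal ideal M of the algebraic integers containing p), let p^a be the p-part of the order of G, and let χ̃ be the class function equal to p^a · χ on p-regular elements and zero elsewhere. For ξ ∈ B the inner product [χ̃, ξ] is an integer. The following are equivalent: (a) χ has height zero in B; (b) for some ξ ∈ B the integer [χ̃, ξ] is nonzero and the exact power of p dividing it equals the exact power of p dividing ξ(1); (c) the same holds for every ξ ∈ B. -/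
theorem result {G : Type*} [Group G] [Fintype G] (p : ℕ) [Fact p.Prime] (M : Ideal Cfsg.AlgInt) (hM : Cfsg.IsPModular p M) (B : Set (Cfsg.IrrCharacter G)) (hB : Cfsg.IsPBlock M B) (χ : Cfsg.IrrCharacter G) (hχ : χ ∈ B) : (Cfsg.blockHeight p B (χ : G → ℂ) = 0 ↔ ∃ ξ ∈ B, ∃ n : ℤ, Cfsg.classInner (fun x : G => if p ∣ orderOf x then (0 : ℂ) else ((p ^ (Nat.card G).factorization p : ℕ) : ℂ) * (χ : G → ℂ) x) (ξ : G → ℂ) = (n : ℂ) ∧ n ≠ 0 ∧ padicValInt p n = (Cfsg.charDegree (ξ : G → ℂ)).factorization p) ∧ (Cfsg.blockHeight p B (χ : G → ℂ) = 0 ↔ ∀ ξ ∈ B, ∃ n : ℤ, Cfsg.classInner (fun x : G => if p ∣ orderOf x then (0 : ℂ) else ((p ^ (Nat.card G).factorization p : ℕ) : ℂ) * (χ : G → ℂ) x) (ξ : G → ℂ) = (n : ℂ) ∧ n ≠ 0 ∧ padicValInt p n = (Cfsg.charDegree (ξ : G → ℂ)).factorization p) := by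
  classical
  have := hM.2.1
  have hp : p.Prime := Fact.out
  have key : ∀ ξ ∈ B, (Cfsg.blockHeight p B (χ : G → ℂ) = 0 ↔ ∃ n : ℤ,
      Cfsg.classInner (fun x : G => if p ∣ orderOf x then (0 : ℂ) else
        ((p ^ (Nat.card G).factorization p : ℕ) : ℂ) * (χ : G → ℂ) x) (ξ : G → ℂ) = (n : ℂ) ∧
        n ≠ 0 ∧ padicValInt p n = (Cfsg.charDegree (ξ : G → ℂ)).factorization p) := by
    intro ξ hξ
    set v := (Cfsg.charDegree (ξ : G → ℂ)).factorization p
    have h := CfsgLib.BlockArith.not_dvd_regCoef_iff (p := p) hM ξ χ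
    rw [← CfsgLib.Blocks.isPBlock_eq_blockOf hB hξ, and_iff_right hχ,
      CfsgLib.BlockArith.regCoef_symm ξ χ] at h
    have hd := CfsgLib.BlockArith.pow_degree_dvd_regCoef (p := p) hM ξ χ
    rw [CfsgLib.BlockArith.regCoef_symm ξ χ] at hd
    set n := CfsgLib.BlockArith.regCoef p χ ξ
    have hspec : Cfsg.classInner (fun x : G => if p ∣ orderOf x then (0 : ℂ) else
        ((p ^ (Nat.card G).factorization p : ℕ) : ℂ) * (χ : G → ℂ) x) (ξ : G → ℂ) = (n : ℂ) :=
      CfsgLib.BlockArith.regCoef_spec χ ξ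
    rw [← h]
    constructor
    · intro hnd
      have hn : n ≠ 0 := fun h0 => hnd (h0 ▸ dvd_zero _)
      refine ⟨n, hspec, hn, ?_⟩
      rw [padicValInt_dvd_iff, or_iff_right hn] at hd hnd
      omega
    · rintro ⟨n', hn', hn0, hval⟩ hdvd
      obtain rfl : n' = n := by exact_mod_cast hn'.symm.trans hspec
      rw [padicValInt_dvd_iff, or_iff_right hn0] at hdvd
      omega
  refine ⟨⟨fun h => ?_, fun ⟨ξ, hξ, h⟩ => (key ξ hξ).mpr h⟩,
    ⟨fun h ξ hξ => (key ξ hξ).mp h, fun h => (key χ hχ).mpr (h χ hχ)⟩⟩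
  exact ⟨χ, hχ, (key χ hχ).mp h⟩

end Cfsg.Agent.S4426
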