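import Cfsg.Statements.S4428
import Cfsg.Agent.Lib.BlockArith.RegRestrict

set_option autoImplicit false
open Cfsg

namespace Cfsg.Agent.S4428

/-- Let χ be an irreducible character of height zero in the p-block B of the finite group G (relative to a maximal ideal M of the algebraic integers containing p). Let x be a p-element of G with centralizer C, and let b be a block of C that induces B. Form the class function ϑ(c) = χ(x c) on C and its b-part (the sum over ψ ∈ b of the inner product of ϑ with ψ, times ψ). Then the b-part of ϑ does not vanish identically on the p-regular elements of C. (Compare the second main Theorem, which gives vanishing when b does not induce B.) -/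
theorem result {G : Type*} [Group G] [Finite G] (p : ℕ) [Fact p.Prime] (M : Ideal Cfsg.AlgInt) (hM : Cfsg.IsPModular p M) (B : Set (Cfsg.IrrCharacter G)) (hB : Cfsg.IsPBlock M B) (χ : Cfsg.IrrCharacter G) (hχ : χ ∈ B) (h0 : Cfsg.blockHeight p B (χ : G → ℂ) = 0) (x : G) (hx : ∃ k : ℕ, orderOf x = p ^ k) (b : Set (Cfsg.IrrCharacter (Subgroup.centralizer ({x} : Set G)))) (hb : Cfsg.IsInducedBlock M (Subgroup.centralizer ({x} : Set G)) b B) : ∃ y : Subgroup.centralizer ({x} : Set G), ¬ p ∣ orderOf y ∧ Cfsg.blockPart b (fun c : Subgroup.centralizer ({x} : Set G) => (χ : G → ℂ) (x * (c : G))) y ≠ 0 := by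
  have : M.IsMaximal := hM.2.1
  classical
  have := Fintype.ofFinite G
  have := Fintype.ofFinite (Subgroup.centralizer ({x} : Set G))
  by_contra hno
  push Not at hno
  obtain ⟨ψ, hψ⟩ := CfsgLib.Blocks.IsPBlock.nonempty hb.1
  have hχc := CfsgLib.Char.isCharacter_of_isIrr χ.2
  obtain ⟨k, hk⟩ := hx
  have hxk : (x⁻¹) ^ (p ^ k) = 1 := by rw [inv_pow, ← hk, pow_orderOf_eq_one, inv_one]
  set f : Subgroup.centralizer ({x} : Set G) → ℂ :=
    fun c => (χ : G → ℂ) (x * (c : G)) with hf
  set f' : Subgroup.centralizer ({x} : Set G) → ℂ := fun c => if p ∣ orderOf c then 0 else f c with hf'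
  -- the block part of the regular part vanishes
  have hzero : ∀ y, Cfsg.blockPart b f' y = 0 := by
    intro y
    by_cases hy : p ∣ orderOf y
    · rw [CfsgLib.Blocks.blockPart_eq_sum]
      refine mul_eq_zero_of_right _ (Finset.sum_eq_zero fun c _ => ?_)
      by_cases hc : p ∣ orderOf c
      · simp [hf', hc]
      · have h := CfsgLib.Blocks.weak_orthogonality hM hb.1 hc hy
        refine mul_eq_zero_of_right _ ?_
        have h2 := congrArg (starRingEnd ℂ) h
        rw [map_zero, map_sum] at h2
        refine Eq.trans (Finset.sum_congr rfl fun φ _ => ?_) h2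
        split_ifs
        · rw [map_mul, Complex.conj_conj, mul_comm]
        · rw [map_zero]
    · rw [CfsgLib.Blocks.blockPart_congr_regular hM hb.1 hy (f' := f) fun c hc => if_neg hc]
      exact hno y hy
  have hinner : Cfsg.classInner f' (ψ : ↥(Subgroup.centralizer ({x} : Set G)) → ℂ) = 0 := by
    have h1 : Cfsg.classInner (Cfsg.blockPart b f') (ψ : ↥(Subgroup.centralizer ({x} : Set G)) → ℂ) = Cfsg.classInner f' (ψ : ↥(Subgroup.centralizer ({x} : Set G)) → ℂ) := by
      rw [show Cfsg.blockPart b f' = fun y => ∑ φ : Cfsg.IrrCharacter (Subgroup.centralizer ({x} : Set G)),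
          if φ ∈ b then Cfsg.classInner f' (φ : ↥(Subgroup.centralizer ({x} : Set G)) → ℂ) * (φ : ↥(Subgroup.centralizer ({x} : Set G)) → ℂ) y else 0 from
        funext fun y => CfsgLib.Blocks.blockPart_apply b f' y]
      have hlin : Cfsg.classInner (fun y => ∑ φ : Cfsg.IrrCharacter (Subgroup.centralizer ({x} : Set G)),
          if φ ∈ b then Cfsg.classInner f' (φ : ↥(Subgroup.centralizer ({x} : Set G)) → ℂ) * (φ : ↥(Subgroup.centralizer ({x} : Set G)) → ℂ) y else 0) (ψ : ↥(Subgroup.centralizer ({x} : Set G)) → ℂ) =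
          ∑ φ : Cfsg.IrrCharacter (Subgroup.centralizer ({x} : Set G)),
            if φ ∈ b then Cfsg.classInner f' (φ : ↥(Subgroup.centralizer ({x} : Set G)) → ℂ) * Cfsg.classInner (φ : ↥(Subgroup.centralizer ({x} : Set G)) → ℂ) (ψ : ↥(Subgroup.centralizer ({x} : Set G)) → ℂ) else 0 := by
        simp only [CfsgLib.Char.classInner_def, Finset.sum_mul, Finset.mul_sum]
        rw [Finset.sum_comm]
        refine Finset.sum_congr rfl fun φ _ => ?_
        split_ifs
        · refine Finset.sum_congr rfl fun y _ => ?_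
          simp only [Finset.mul_sum, Finset.sum_mul]
          exact Finset.sum_congr rfl fun w _ => by ring
        · simp
      rw [hlin, Finset.sum_eq_single ψ (fun φ _ hne => ?_) (by simp), if_pos hψ,
        CfsgLib.Char.classInner_irr_self ψ.2, mul_one]
      split_ifs
      · rw [CfsgLib.Char.classInner_irr_ne φ.2 ψ.2 fun h => hne (Subtype.ext h), mul_zero]
      · rfl
    rw [← h1, CfsgLib.Char.classInner_def]
    simp [hzero]
  -- the element `Σ conj χ(xc) c`
  have hcomm : ∀ c : Subgroup.centralizer ({x} : Set G), Commute x (c : G) :=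
    CfsgLib.Blocks.commute_of_mem_centralizer
  have hcl := CfsgLib.Blocks.isClassFunction_shift (x := x) (CfsgLib.Char.isClassFunction_of_isIrr χ.2)
  let a : CfsgLib.Blocks.Zint M (Subgroup.centralizer ({x} : Set G)) :=
    ⟨CfsgLib.Blocks.ofFun fun c => starRingEnd ℂ (f' c), CfsgLib.Blocks.mem_Zint_iff.mpr
      ⟨fun c => by
        rw [CfsgLib.Blocks.coeff_ofFun]
        simp only [hf', hf]
        split_ifs
        · rw [map_zero]; exact Subring.zero_mem _
        · rw [← CfsgLib.Char.char_inv hχc]
          exact CfsgLib.Blocks.algInt_le_locRing M (CfsgLib.Char.char_isIntegral hχc _),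
      fun g h => by
        simp only [CfsgLib.Blocks.coeff_ofFun, hf']
        rw [show orderOf (h * g * h⁻¹) = orderOf g from orderOf_injective (MulAut.conj h).toMonoidHom
          (MulAut.conj h).injective g]
        exact congrArg _ (if_congr Iff.rfl rfl (hcl g h))⟩⟩
  have hred : CfsgLib.Blocks.red a = CfsgLib.Blocks.red (CfsgLib.Blocks.resIn
      (Subgroup.centralizer ({x} : Set G)) (CfsgLib.Blocks.regElt M p hχc)) := by
    refine MonoidAlgebra.coeff_injective (Finsupp.ext fun c => ?_)
    rw [CfsgLib.Blocks.coeff_red, CfsgLib.Blocks.coeff_red, CfsgLib.Blocks.rcoeff_resIn,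
      CfsgLib.Blocks.rcoeff_regElt, Subgroup.orderOf_coe]
    split_ifs with hc
    · rw [CfsgLib.Blocks.rcoeff]
      exact (congrArg (CfsgLib.Blocks.res M) (Subtype.ext (by simp [a, hf', hc]))).trans (map_zero _)
    · have h1 : CfsgLib.Blocks.rcoeff a c = CfsgLib.Blocks.cval M χ (x⁻¹ * (c : G)⁻¹) := by
        rw [CfsgLib.Blocks.rcoeff, CfsgLib.Blocks.cval]
        refine congrArg (CfsgLib.Blocks.res M) (Subtype.ext ?_)
        rw [CfsgLib.Blocks.coe_cvalR]
        simp only [a, CfsgLib.Blocks.coeff_ofFun, hf', hf, if_neg hc]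
        rw [← CfsgLib.Char.char_inv hχc, mul_inv_rev, (hcomm c).inv_left.inv_right.eq]
      rw [h1, CfsgLib.Blocks.cval_mul hM χ (hcomm c).inv_left.inv_right hxk]
      rfl
  have hz : CfsgLib.Blocks.zomega ψ a = 0 := by
    apply Subtype.ext
    rw [CfsgLib.Blocks.coe_zomega, CfsgLib.Blocks.omega, CfsgLib.Blocks.charLin_apply]
    rw [CfsgLib.Char.classInner_def, mul_eq_zero] at hinner
    have h3 := congrArg (starRingEnd ℂ) (hinner.resolve_left (inv_ne_zero CfsgLib.Char.card_ne_zero'))
    rw [map_zero, map_sum] at h3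
    rw [div_eq_zero_iff.mpr (Or.inl ?_)]
    · rfl
    refine Eq.trans (Finset.sum_congr rfl fun c _ => ?_) h3
    simp [a]
  refine (CfsgLib.BlockArith.bomega_resIn_regElt_ne_zero_iff hM hb hψ χ).mpr ⟨hχ, h0⟩ ?_
  rw [← CfsgLib.Blocks.bomega_eq_of_red_eq ψ hred, CfsgLib.Blocks.bomega_apply, hz, map_zero]


end Cfsg.Agent.S4428
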