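import Cfsg.Statements.S4430
import Cfsg.Agent.Lib.Blocks.Induced
import Cfsg.Agent.Lib.Blocks.SecondMain
import Cfsg.Agent.Lib.CharBlocks.Degree
import Cfsg.Agent.Lib.Char.PResidualSum

set_option autoImplicit false
open Cfsg

namespace Cfsg.Agent.S4430

open CfsgLib.Blocks
open scoped ComplexConjugate

/-- Valuations when `n = N u`. -/
theorem valuation_cases {p : ℕ} {M : Ideal AlgInt} [M.IsMaximal] (hM : IsPModular p M) {n N : ℕ}
    (hN : N ≠ 0) (u : locRing M) (hnu : (n : ℂ) = (N : ℂ) * (u : ℂ)) :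
    (res M u ≠ 0 → n ≠ 0 ∧ n.factorization p = N.factorization p) ∧
      (res M u = 0 → n = 0 ∨ N.factorization p < n.factorization p) := by
  let _ : Field (Res M) := Ideal.Quotient.field M
  have hp := hM.1
  have hpC : (p : ℂ) ≠ 0 := Nat.cast_ne_zero.mpr hp.ne_zero
  rcases eq_or_ne n 0 with rfl | hn
  · refine ⟨fun h => absurd ?_ h, fun _ => Or.inl rfl⟩
    have hu0 : u = 0 := Subtype.ext (by
      rcases mul_eq_zero.mp (hnu.symm.trans Nat.cast_zero) with h | h
      · exact absurd h (Nat.cast_ne_zero.mpr hN)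
      · exact h)
    rw [hu0, map_zero]
  set a := N.factorization p
  set b := n.factorization p
  set N' := N / p ^ a
  set n' := n / p ^ b
  have hN' : p ^ a * N' = N := Nat.ordProj_mul_ordCompl_eq_self N p
  have hn' : p ^ b * n' = n := Nat.ordProj_mul_ordCompl_eq_self n p
  have rN : res M (N' : locRing M) ≠ 0 := by
    rw [Ne, res_natCast_eq_zero_iff _ hM]
    exact Nat.not_dvd_ordCompl hp hN
  have rn : res M (n' : locRing M) ≠ 0 := by
    rw [Ne, res_natCast_eq_zero_iff _ hM]
    exact Nat.not_dvd_ordCompl hp hn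
  have rp : res M (p : locRing M) = 0 := by
    rw [res_natCast_eq_zero_iff _ hM]
  rw [← hN', ← hn'] at hnu
  push_cast at hnu
  rcases lt_trichotomy b a with h | h | h
  · refine absurd ?_ rn
    obtain ⟨c, hc⟩ := Nat.exists_eq_add_of_lt h
    have : (n' : locRing M) = (p : locRing M) ^ (c + 1) * N' * u := Subtype.ext (by
      push_cast
      rw [hc, add_assoc, pow_add, mul_assoc, mul_assoc, mul_right_inj' (pow_ne_zero _ hpC)] at hnu
      rw [hnu]; ring)
    rw [this, map_mul, map_mul, map_pow, rp, zero_pow (Nat.succ_ne_zero c), zero_mul, zero_mul]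
  · refine ⟨fun _ => ⟨hn, h⟩, fun hu => absurd ?_ rn⟩
    have : (n' : locRing M) = (N' : locRing M) * u := Subtype.ext (by
      push_cast
      rw [h, mul_assoc, mul_right_inj' (pow_ne_zero _ hpC)] at hnu
      exact hnu)
    rw [this, map_mul, hu, mul_zero]
  · refine ⟨fun hu => absurd ?_ hu, fun _ => Or.inr h⟩
    obtain ⟨c, hc⟩ := Nat.exists_eq_add_of_lt h
    have : (N' : locRing M) * u = (p : locRing M) ^ (c + 1) * n' := Subtype.ext (by
      push_cast
      rw [hc, add_assoc, pow_add, mul_assoc, mul_assoc, mul_right_inj' (pow_ne_zero _ hpC)] at hnu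
      exact hnu.symm)
    have := congrArg (res M) this
    rw [map_mul, map_mul, map_pow, rp, zero_pow (Nat.succ_ne_zero c), zero_mul] at this
    exact (mul_eq_zero.mp this).resolve_left rN

theorem blockPart_indFun_eq {G : Type*} [Group G] [Fintype G] {p : ℕ} [Fact p.Prime]
    {M : Ideal AlgInt} [M.IsMaximal] (hM : IsPModular p M) {H : Subgroup G} [Fintype H]
    {B : Set (IrrCharacter G)} (hB : IsPBlock M B) (ξ : IrrCharacter H) :
    ∃ n : ℕ, blockPart B (indFun H (ξ : H → ℂ)) 1 = (n : ℂ) ∧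
      (res M (zomega ξ (resZ H M (idem hB))) ≠ 0 → n ≠ 0 ∧
        n.factorization p = (charDegree (indFun H (ξ : H → ℂ))).factorization p) ∧
      (res M (zomega ξ (resZ H M (idem hB))) = 0 → n = 0 ∨
        (charDegree (indFun H (ξ : H → ℂ))).factorization p < n.factorization p) := by
  classical
  have hξc := CfsgLib.Char.isCharacter_of_isIrr ξ.2
  have hind := CfsgLib.Char.isCharacter_indFun H hξc
  have hN : (charDegree (indFun H (ξ : H → ℂ)) : ℂ) = indFun H (ξ : H → ℂ) 1 :=
    (CfsgLib.Char.charDegree_cast hind).symm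
  have hN0 : charDegree (indFun H (ξ : H → ℂ)) ≠ 0 := by
    intro h
    rw [h, Nat.cast_zero, CfsgLib.Char.indFun_one] at hN
    rcases mul_eq_zero.mp hN.symm with h' | h'
    · exact Subgroup.index_ne_zero_of_finite (Nat.cast_eq_zero.mp h')
    · exact CfsgLib.Char.irr_one_ne_zero ξ.2 h'
  choose m hm using fun χ : IrrCharacter G =>
    CfsgLib.Char.classInner_char_nat hind (CfsgLib.Char.isCharacter_of_isIrr χ.2)
  have hn : blockPart B (indFun H (ξ : H → ℂ)) 1 =
      ((∑ χ ∈ Finset.univ.filter (· ∈ B), m χ * charDegree (χ : G → ℂ) : ℕ) : ℂ) := by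
    rw [blockPart, finsum_mem_eq_finite_toFinset_sum _ (Set.toFinite _), Nat.cast_sum]
    refine Finset.sum_congr (by ext; simp) fun χ _ => ?_
    rw [Nat.cast_mul, CfsgLib.CharBlocks.coe_charDegree_irr, ← hm χ]
    congr 2
    exact Subsingleton.elim _ _
  refine ⟨_, hn, valuation_cases hM hN0 _ ?_⟩
  rw [← hn, hN, CfsgLib.Char.indFun_one, blockPart, finsum_mem_eq_finite_toFinset_sum _ (Set.toFinite _)]
  rw [coe_zomega, coe_resZ, omega, charLin_apply]
  rw [Subsingleton.elim (Fintype.ofFinite G) ‹Fintype G›]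
  simp only [fun χ : IrrCharacter G => CfsgLib.Char.frobenius_reciprocity H (ξ : H → ℂ) (CfsgLib.Char.isClassFunction_of_isIrr χ.2)]
  rw [mul_assoc, mul_div_cancel₀ _ (CfsgLib.Char.irr_one_ne_zero ξ.2), Finset.mul_sum]
  simp only [coeff_resCA, idem, blockElt, coeff_ofFun, blockCoeff_eq, Finset.mul_sum, Finset.sum_mul,
    ite_mul, zero_mul, mul_ite, mul_zero]
  rw [Finset.sum_comm, ← Finset.sum_filter_add_sum_filter_not Finset.univ (· ∈ B),
    Finset.sum_eq_zero (s := Finset.univ.filter (fun x => ¬ x ∈ B))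
      (fun χ hχ => by simp [(Finset.mem_filter.mp hχ).2]), add_zero]
  refine Finset.sum_congr (by ext; simp) fun χ hχ => ?_
  rw [classInner, Finset.mul_sum, Finset.sum_mul]
  refine Finset.sum_congr rfl fun h _ => ?_
  rw [if_pos (Finset.mem_filter.mp hχ).2]
  have e : ((Nat.card H : ℂ)) * (H.index : ℂ) = (Nat.card G : ℂ) := by
    rw [← Nat.cast_mul, Subgroup.card_mul_index]
  have hH := CfsgLib.Char.card_subgroup_ne_zero H
  have hi : (H.index : ℂ) ≠ 0 := Nat.cast_ne_zero.mpr Subgroup.index_ne_zero_of_finite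
  rw [← e]
  field_simp


/-- Let H be a subgroup of the finite group G, b a block of H whose induced block B₀ in G is defined (relative to a maximal ideal M of the algebraic integers containing p), and ξ ∈ b. For a block B of G let n_B be the value at 1 of the B-part of the induced character ξ^G (a natural number: the sum over χ ∈ B of the multiplicity of χ in ξ^G times χ(1)). Then for B = B₀ the exact power of p dividing n_B equals the exact power of p dividing ξ^G(1), while for every other block B either n_B = 0 or n_B is divisible by a strictly higher power of p than ξ^G(1). -/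
theorem result {G : Type*} [Group G] [Fintype G] (p : ℕ) [Fact p.Prime] (M : Ideal Cfsg.AlgInt) (hM : Cfsg.IsPModular p M) (H : Subgroup G) [Fintype H] (b : Set (Cfsg.IrrCharacter H)) (B₀ : Set (Cfsg.IrrCharacter G)) (hind : Cfsg.IsInducedBlock M H b B₀) (ξ : Cfsg.IrrCharacter H) (hξ : ξ ∈ b) : (∃ n : ℕ, Cfsg.blockPart B₀ (Cfsg.indFun H (ξ : H → ℂ)) 1 = (n : ℂ) ∧ n ≠ 0 ∧ n.factorization p = (Cfsg.charDegree (Cfsg.indFun H (ξ : H → ℂ))).factorization p) ∧ ∀ B : Set (Cfsg.IrrCharacter G), Cfsg.IsPBlock M B → B ≠ B₀ → ∃ n : ℕ, Cfsg.blockPart B (Cfsg.indFun H (ξ : H → ℂ)) 1 = (n : ℂ) ∧ (n = 0 ∨ (Cfsg.charDegree (Cfsg.indFun H (ξ : H → ℂ))).factorization p < n.factorization p) := by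
  classical
  have : M.IsMaximal := hM.2.1
  have key := fun (B : Set (IrrCharacter G)) (hB : IsPBlock M B) => blockPart_indFun_eq hM hB ξ
  obtain ⟨χ₀, hχ₀⟩ := CfsgLib.Blocks.IsPBlock.nonempty hind.2.1
  constructor
  · obtain ⟨n, hn, h1, -⟩ := key B₀ hind.2.1
    refine ⟨n, hn, h1 ?_⟩
    rw [← bomega_apply, bomega_resZ_of_isInduced hind hξ hχ₀, bomega_idem, if_pos hχ₀]
    exact one_ne_zero
  · intro B hB hne
    obtain ⟨n, hn, -, h0⟩ := key B hB
    refine ⟨n, hn, h0 ?_⟩
    rw [← bomega_apply, bomega_resZ_of_isInduced hind hξ hχ₀, bomega_idem, if_neg]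
    exact fun h => hne (isPBlock_eq_of_mem hB hind.2.1 h hχ₀)


end Cfsg.Agent.S4430
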