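import Cfsg.Statements.S4431
import Cfsg.Agent.Lib.BlockArith.RegRestrict

set_option autoImplicit false
open Cfsg

namespace Cfsg.Agent.S4431

/-- Let H be a subgroup of the finite group G and b a block of H whose induced block B₀ in G is defined (relative to a maximal ideal M of the algebraic integers containing p). Let χ be an irreducible character of G, ψ ∈ b, and let η be the class function on H equal to p^a · χ on the p-regular elements of H and zero elsewhere, p^a being the p-part of the order of H. Then (a) if χ ∉ B₀, the number [η, ψ]/ψ(1) lies in the local ideal at M; (b) if χ ∈ B₀ has height zero, it does not. -/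
theorem result {G : Type*} [Group G] [Fintype G] (p : ℕ) [Fact p.Prime] (M : Ideal Cfsg.AlgInt) (hM : Cfsg.IsPModular p M) (H : Subgroup G) [Fintype H] (b : Set (Cfsg.IrrCharacter H)) (B₀ : Set (Cfsg.IrrCharacter G)) (hind : Cfsg.IsInducedBlock M H b B₀) (χ : Cfsg.IrrCharacter G) (ψ : Cfsg.IrrCharacter H) (hψ : ψ ∈ b) : (χ ∉ B₀ → Cfsg.MemLocalIdeal M (Cfsg.classInner (fun h : H => if p ∣ orderOf h then (0 : ℂ) else ((p ^ (Nat.card H).factorization p : ℕ) : ℂ) * (χ : G → ℂ) h) (ψ : H → ℂ) / (ψ : H → ℂ) 1)) ∧ (χ ∈ B₀ → Cfsg.blockHeight p B₀ (χ : G → ℂ) = 0 → ¬ Cfsg.MemLocalIdeal M (Cfsg.classInner (fun h : H => if p ∣ orderOf h then (0 : ℂ) else ((p ^ (Nat.card H).factorization p : ℕ) : ℂ) * (χ : G → ℂ) h) (ψ : H → ℂ) / (ψ : H → ℂ) 1)) := by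
  have : M.IsMaximal := hM.2.1
  classical
  have hH : Nat.card H ≠ 0 := Nat.card_pos.ne'
  have hmem : ((p ^ (Nat.card H).factorization p : ℕ) : ℂ) / (Nat.card H : ℂ) ∈ CfsgLib.Blocks.locRing M :=
    CfsgLib.Blocks.frac_mem_locRing hM hH (.inr (by
      rw [(Fact.out : p.Prime).factorization_pow, Finsupp.single_eq_same]))
  have hmem' : (Nat.card H : ℂ) / ((p ^ (Nat.card H).factorization p : ℕ) : ℂ) ∈ CfsgLib.Blocks.locRing M :=
    CfsgLib.Blocks.frac_mem_locRing hM (pow_ne_zero _ (Fact.out : p.Prime).ne_zero) (.inr (by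
      rw [(Fact.out : p.Prime).factorization_pow, Finsupp.single_eq_same]))
  set u : CfsgLib.Blocks.locRing M := ⟨_, hmem⟩ with hu
  have hu0 : CfsgLib.Blocks.res M u ≠ 0 := by
    refine (CfsgLib.Blocks.isUnit_iff_res_ne_zero M _).mp (IsUnit.of_mul_eq_one ⟨_, hmem'⟩ (Subtype.ext ?_))
    show ((p ^ (Nat.card H).factorization p : ℕ) : ℂ) / (Nat.card H : ℂ) *
      ((Nat.card H : ℂ) / ((p ^ (Nat.card H).factorization p : ℕ) : ℂ)) = 1
    rw [div_mul_div_cancel₀ (by exact_mod_cast hH),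
      div_self (by exact_mod_cast pow_ne_zero _ (Fact.out : p.Prime).ne_zero)]
  set z := CfsgLib.Blocks.zomega ψ (CfsgLib.Blocks.resIn H
    (CfsgLib.Blocks.regElt M p (CfsgLib.Char.isCharacter_of_isIrr χ.2))) with hz
  have hval : Cfsg.classInner (fun h : H => if p ∣ orderOf h then (0 : ℂ) else
      ((p ^ (Nat.card H).factorization p : ℕ) : ℂ) * (χ : G → ℂ) h) (ψ : H → ℂ) / (ψ : H → ℂ) 1 =
      ((u * z : CfsgLib.Blocks.locRing M) : ℂ) := by
    rw [Subring.coe_mul, hz, CfsgLib.BlockArith.coe_zomega_resIn_regElt, hu, CfsgLib.Char.classInner_def,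
      ← mul_div_assoc]
    congr 1
    rw [Finset.mul_sum, Finset.mul_sum]
    refine Fintype.sum_equiv (Equiv.inv H) _ _ fun h => ?_
    simp only [Equiv.inv_apply, orderOf_inv, Subgroup.coe_inv,
      CfsgLib.Char.char_inv (CfsgLib.Char.isCharacter_of_isIrr χ.2),
      CfsgLib.Char.char_inv (CfsgLib.Char.isCharacter_of_isIrr ψ.2), Complex.conj_conj]
    split_ifs <;> ring
  have hiff : Cfsg.MemLocalIdeal M ((u * z : CfsgLib.Blocks.locRing M) : ℂ) ↔
      CfsgLib.Blocks.bomega ψ (CfsgLib.Blocks.resIn H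
        (CfsgLib.Blocks.regElt M p (CfsgLib.Char.isCharacter_of_isIrr χ.2))) = 0 := by
    rw [← CfsgLib.Blocks.res_eq_zero_iff, map_mul, mul_eq_zero, or_iff_right hu0, hz,
      ← CfsgLib.Blocks.bomega_apply]
  rw [hval, hiff]
  have h := CfsgLib.BlockArith.bomega_resIn_regElt_ne_zero_iff hM hind hψ χ
  refine ⟨fun hn => ?_, fun hm h0 => h.mpr ⟨hm, h0⟩⟩
  by_contra hne
  exact hn (h.mp hne).1


end Cfsg.Agent.S4431
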