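import Cfsg.Statements.S4433
import Cfsg.Agent.Lib.Blocks.Defect
import Cfsg.Agent.Lib.CharNormal.Kernel

set_option autoImplicit false
open Cfsg

namespace Cfsg.Agent.S4433

open Cfsg CfsgLib.Blocks in
/-- The class defect of an image class when the class multiplicity is prime to `p`. -/
theorem isClassDefect_map {G : Type*} [Group G] [Finite G] {p : ℕ} [Fact p.Prime] (N : Subgroup G) [N.Normal]
    {g : G} {E : Subgroup G} (hE : IsClassDefect p g E)
    (h : ¬ p ∣ (Subgroup.centralizer ({g} : Set G)).relIndex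
      ((Subgroup.centralizer ({(g : G ⧸ N)} : Set (G ⧸ N))).comap (QuotientGroup.mk' N))) :
    IsClassDefect p (g : G ⧸ N) (E.map (QuotientGroup.mk' N)) := by
  set C := Subgroup.centralizer ({g} : Set G) with hC
  set Cb := Subgroup.centralizer ({(g : G ⧸ N)} : Set (G ⧸ N)) with hCb
  set C' := Cb.comap (QuotientGroup.mk' N) with hC'
  obtain ⟨P, rfl⟩ := hE
  have hle : C ≤ C' := by
    intro c hc
    rw [hC, Subgroup.mem_centralizer_singleton_iff] at hc
    rw [hC', Subgroup.mem_comap, hCb, Subgroup.mem_centralizer_singleton_iff]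
    exact congrArg (QuotientGroup.mk' N) hc
  have hEle : (P : Subgroup C).map C.subtype ≤ C' := (Subgroup.map_subtype_le _).trans hle
  have hcardC : Nat.card C * C.relIndex C' = Nat.card C' := by
    rw [← Subgroup.relIndex_bot_left, ← Subgroup.relIndex_bot_left]
    exact Subgroup.relIndex_mul_relIndex _ _ _ bot_le hle
  have hr0 : C.relIndex C' ≠ 0 := fun h0 => by
    rw [h0, mul_zero] at hcardC
    exact Nat.card_pos.ne' hcardC.symm
  have hfac : (Nat.card C').factorization p = (Nat.card C).factorization p := by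
    rw [← hcardC, Nat.factorization_mul Nat.card_pos.ne' hr0, Finsupp.add_apply,
      Nat.factorization_eq_zero_of_not_dvd h, add_zero]
  have hcard : Nat.card (((P : Subgroup C).map C.subtype).subgroupOf C') =
      p ^ (Nat.card C').factorization p := by
    rw [Nat.card_congr (Subgroup.subgroupOfEquivOfLe hEle).toEquiv, hfac,
      Subgroup.card_map_of_injective (Subgroup.subtype_injective _)]
    exact P.card_eq_multiplicity
  let S : Sylow p C' := Sylow.ofCard _ hcard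
  let f : C' →* Cb := ((QuotientGroup.mk' N).comp C'.subtype).codRestrict Cb fun x => x.2
  have hf : Function.Surjective f := fun y => by
    obtain ⟨x, hx⟩ := QuotientGroup.mk'_surjective N y.1
    exact ⟨⟨x, show QuotientGroup.mk' N x ∈ Cb from hx ▸ y.2⟩, Subtype.ext hx⟩
  refine ⟨S.mapSurjective hf, ?_⟩
  rw [Sylow.coe_mapSurjective, Sylow.coe_ofCard, Subgroup.map_map]
  ext q
  simp only [Subgroup.mem_map, Subgroup.mem_subgroupOf]
  constructor
  · rintro ⟨c, hc, rfl⟩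
    exact ⟨f ⟨(c : G), hle c.2⟩, ⟨_, ⟨c, hc, rfl⟩, rfl⟩, rfl⟩
  · rintro ⟨x, ⟨y, ⟨c, hc, hcy⟩, rfl⟩, rfl⟩
    exact ⟨c, hc, congrArg (QuotientGroup.mk' N) hcy⟩

/-- Let N be a normal subgroup of the finite group G and write Ḡ = G/N; fix a maximal ideal M of the algebraic integers containing p. Let B̄ be a block of Ḡ contained in the block B of G, in the sense that the inflation of every member of B̄ lies in B, and let D̄ be a defect group of B̄. Then B has a defect group P whose image in Ḡ contains D̄. -/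
theorem result {G : Type*} [Group G] [Finite G] (p : ℕ) [Fact p.Prime] (M : Ideal Cfsg.AlgInt) (hM : Cfsg.IsPModular p M) (N : Subgroup G) [N.Normal] (Bbar : Set (Cfsg.IrrCharacter (G ⧸ N))) (hBbar : Cfsg.IsPBlock M Bbar) (B : Set (Cfsg.IrrCharacter G)) (hB : Cfsg.IsPBlock M B) (hsub : ∀ χ ∈ Bbar, ∀ ψ : Cfsg.IrrCharacter G, (ψ : G → ℂ) = (χ : G ⧸ N → ℂ) ∘ QuotientGroup.mk → ψ ∈ B) (Dbar : Subgroup (G ⧸ N)) (hDbar : Cfsg.IsDefectGroup p M Bbar Dbar) : ∃ P : Subgroup G, Cfsg.IsDefectGroup p M B P ∧ Dbar ≤ P.map (QuotientGroup.mk' N) := by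
  classical
  have := hM.2.1
  have := Fintype.ofFinite G
  have := Fintype.ofFinite (G ⧸ N)
  obtain ⟨χb, hχb⟩ := CfsgLib.Blocks.IsPBlock.nonempty hBbar
  let ψ : Cfsg.IrrCharacter G := ⟨_, CfsgLib.CharNormal.isIrr_comp_mk' N χb.2⟩
  have hψ : ψ ∈ B := hsub χb hχb ψ rfl
  obtain ⟨g, hg⟩ := CfsgLib.Blocks.exists_defectClass hB hψ
  obtain ⟨E, hE⟩ := CfsgLib.Blocks.exists_isClassDefect (p := p) g
  have hω := ((CfsgLib.Blocks.isDefectClass_iff hB hψ g).mp hg).2
  set C := Subgroup.centralizer ({g} : Set G) with hC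
  set C' := (Subgroup.centralizer ({(g : G ⧸ N)} : Set (G ⧸ N))).comap (QuotientGroup.mk' N) with hC'
  have hle : C ≤ C' := by
    intro c hc
    rw [hC, Subgroup.mem_centralizer_singleton_iff] at hc
    rw [hC', Subgroup.mem_comap, Subgroup.mem_centralizer_singleton_iff]
    exact congrArg (QuotientGroup.mk' N) hc
  have hidx : (Subgroup.centralizer ({(g : G ⧸ N)} : Set (G ⧸ N))).index * C.relIndex C' = C.index := by
    have h1 : C'.index = (Subgroup.centralizer ({(g : G ⧸ N)} : Set (G ⧸ N))).index :=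
      Subgroup.index_comap_of_surjective _ (QuotientGroup.mk'_surjective N)
    rw [← h1, mul_comm]
    exact Subgroup.relIndex_mul_index hle
  let a : CfsgLib.Blocks.locRing M :=
    CfsgLib.Blocks.zomega χb (CfsgLib.Blocks.zclass M (g : G ⧸ N))
  have hval : CfsgLib.Blocks.zomega ψ (CfsgLib.Blocks.zclass M g) =
      (C.relIndex C' : CfsgLib.Blocks.locRing M) * a := by
    apply Subtype.ext
    push_cast
    rw [CfsgLib.Blocks.coe_zomega_zclass, CfsgLib.Blocks.coe_zomega_zclass]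
    simp only [Cfsg.centralChar]
    show ((C.index : ℕ) : ℂ) * (χb : G ⧸ N → ℂ) (g : G ⧸ N) / (χb : G ⧸ N → ℂ) ((1 : G) : G ⧸ N) = _
    rw [← hidx, QuotientGroup.mk_one]
    push_cast
    ring
  rw [CfsgLib.Blocks.bomega_apply, hval, map_mul, mul_ne_zero_iff, Ne,
    CfsgLib.Blocks.res_natCast_eq_zero_iff M hM] at hω
  obtain ⟨xb, hxb⟩ := CfsgLib.Blocks.defect_le_of_bomega_ne_zero hM hBbar hDbar hχb
    (g := (g : G ⧸ N)) hω.2 (isClassDefect_map N hE hω.1)
  obtain ⟨x, rfl⟩ := QuotientGroup.mk_surjective xb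
  refine ⟨CfsgLib.Blocks.cj x⁻¹ E, CfsgLib.Blocks.IsDefectGroup.conj hB ⟨g, hg, hE⟩ x⁻¹, ?_⟩
  intro q hq
  have h1 : (x : G ⧸ N) * q * (x : G ⧸ N)⁻¹ ∈ CfsgLib.Blocks.cj (x : G ⧸ N) Dbar :=
    CfsgLib.Blocks.mem_cj.mpr (by
      rwa [show (x : G ⧸ N)⁻¹ * ((x : G ⧸ N) * q * (x : G ⧸ N)⁻¹) * (x : G ⧸ N) = q by group])
  obtain ⟨e, he, hee⟩ := Subgroup.mem_map.mp (hxb h1)
  refine Subgroup.mem_map.mpr ⟨x⁻¹ * e * x, CfsgLib.Blocks.mem_cj.mpr ?_, ?_⟩
  · rwa [show x⁻¹⁻¹ * (x⁻¹ * e * x) * x⁻¹ = e by group]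
  · rw [map_mul, map_mul, map_inv, hee]
    show (x : G ⧸ N)⁻¹ * _ * (x : G ⧸ N) = q
    group

end Cfsg.Agent.S4433
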