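import Cfsg.Statements.S4434
import Cfsg.Agent.S4433
import Cfsg.Agent.Lib.Blocks.Defect
import Cfsg.Agent.Lib.Blocks.Orth
import Cfsg.Agent.Lib.CharNormal.Gallagher

set_option autoImplicit false
open Cfsg

namespace Cfsg.Agent.S4434

open Cfsg CfsgLib.Blocks CfsgLib.Char CfsgLib.CharNormal in
open scoped ComplexConjugate in
/-- A regular coset representative carries the coefficient of the inflated characters of the block. -/
theorem blockCoeff_eq_quotient {G : Type*} [Group G] [Fintype G] {p : ℕ} [Fact p.Prime] {M : Ideal AlgInt} [M.IsMaximal]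
    (hM : IsPModular p M) (N : Subgroup G) [N.Normal] [Fintype N] [Fintype (G ⧸ N)] (hN : IsPGroup p N)
    {B : Set (IrrCharacter G)} (hB : IsPBlock M B) {g : G}
    (hg : ¬ p ∣ orderOf g) (hgN : g ∈ Subgroup.centralizer (N : Set G)) :
    blockCoeff B g = blockCoeff {β : IrrCharacter (G ⧸ N) |
      (⟨(β : G ⧸ N → ℂ) ∘ QuotientGroup.mk, isIrr_comp_mk' N β.2⟩ : IrrCharacter G) ∈ B} (g : G ⧸ N) := by
  classical
  set A := {β : IrrCharacter (G ⧸ N) |
    (⟨(β : G ⧸ N → ℂ) ∘ QuotientGroup.mk, isIrr_comp_mk' N β.2⟩ : IrrCharacter G) ∈ B}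
  let f : G → ℂ := fun x => conj (blockCoeff B x)
  have hf : IsClassFunction G f := fun x c => congrArg conj (blockCoeff_conj B x c)
  have havg : cosetAvg N f (g : G ⧸ N) = (Nat.card N : ℂ)⁻¹ * f g := by
    rw [cosetAvg_mk, Finset.sum_eq_single (1 : N)]
    · rw [Subgroup.coe_one, mul_one]
    · intro n _ hn
      obtain ⟨k, hk⟩ := IsPGroup.iff_orderOf.mp hN n
      have hk0 : k ≠ 0 := fun h => hn (orderOf_eq_one_iff.mp (by rw [hk, h, pow_zero]))
      show conj (blockCoeff B _) = 0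
      rw [CfsgLib.Blocks.blockCoeff_eq_zero hM hB, map_zero]
      have hc : Commute g (n : G) := (Subgroup.mem_centralizer_iff.mp hgN n n.2).symm
      rw [hc.orderOf_mul_eq_mul_orderOf_of_coprime]
      · rw [Subgroup.orderOf_coe, hk]
        exact (dvd_pow_self p hk0).mul_left _
      · rw [Subgroup.orderOf_coe, hk]
        exact (((Fact.out : p.Prime).coprime_iff_not_dvd.mpr hg).symm).pow_right k
    · simp
  have hcoef : ∀ β : IrrCharacter (G ⧸ N), classInner (cosetAvg N f) (β : G ⧸ N → ℂ) =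
      (Nat.card G : ℂ)⁻¹ * (if β ∈ A then (β : G ⧸ N → ℂ) 1 else 0) := by
    intro β
    let η : IrrCharacter G := ⟨(β : G ⧸ N → ℂ) ∘ QuotientGroup.mk, isIrr_comp_mk' N β.2⟩
    have e : f = ∑ χ : IrrCharacter G,
        ((Nat.card G : ℂ)⁻¹ * if χ ∈ B then (χ : G → ℂ) 1 else 0) • (χ : G → ℂ) := by
      funext x
      show conj (blockCoeff B x) = _
      rw [CfsgLib.Blocks.blockCoeff_eq, map_mul, map_inv₀, map_natCast, map_sum, Finset.mul_sum, Finset.sum_apply]
      refine Finset.sum_congr rfl fun χ _ => ?_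
      rw [apply_ite conj, map_mul, map_zero, Complex.conj_conj, char_conj_one (isCharacter_of_isIrr χ.2),
        Pi.smul_apply, smul_eq_mul]
      split_ifs <;> ring
    rw [← classInner_mul_comp_mk']
    show classInner f (η : G → ℂ) = _
    rw [e, classInner_sum_left, Finset.sum_eq_single η]
    · rw [classInner_smul_left, classInner_irr_self η.2, mul_one]
      refine congrArg _ (if_congr Iff.rfl ?_ rfl)
      show (β : G ⧸ N → ℂ) ((1 : G) : G ⧸ N) = _
      rw [QuotientGroup.mk_one]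
    · intro χ _ hne
      rw [classInner_smul_left, classInner_irrCharacter, if_neg hne, mul_zero]
    · simp
  have h := congrFun (classFun_eq_sum (isClassFunction_cosetAvg N hf)) (g : G ⧸ N)
  simp only [Finset.sum_apply, Pi.smul_apply, smul_eq_mul, hcoef, havg] at h
  have h2 : f g = (Nat.card (G ⧸ N) : ℂ)⁻¹ *
      ∑ β : IrrCharacter (G ⧸ N), (if β ∈ A then (β : G ⧸ N → ℂ) 1 * (β : G ⧸ N → ℂ) (g : G ⧸ N) else 0) := by
    have hN0 : (Nat.card N : ℂ) ≠ 0 := Nat.cast_ne_zero.mpr Nat.card_pos.ne'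
    calc f g = (Nat.card N : ℂ) * ((Nat.card N : ℂ)⁻¹ * f g) := by
          rw [← mul_assoc, mul_inv_cancel₀ hN0, one_mul]
      _ = _ := by
          rw [h, Finset.mul_sum, Finset.mul_sum]
          refine Finset.sum_congr rfl fun β _ => ?_
          rw [Subgroup.card_eq_card_quotient_mul_card_subgroup N, Nat.cast_mul, mul_inv]
          split_ifs
          · field_simp
          · simp
  have h3 := congrArg conj h2
  rw [show conj (f g) = blockCoeff B g from Complex.conj_conj _] at h3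
  rw [h3, CfsgLib.Blocks.blockCoeff_eq, map_mul, map_inv₀, map_natCast, map_sum]
  refine congrArg _ (Finset.sum_congr rfl fun β _ => ?_)
  rw [apply_ite conj, map_mul, map_zero, char_conj_one (isCharacter_of_isIrr β.2)]

open Cfsg CfsgLib.Blocks CfsgLib.CharNormal in
/-- Characters of the quotient in one block inflate into one block. -/
theorem mem_of_sameBlock_quotient {G : Type*} [Group G] [Fintype G] {M : Ideal AlgInt} [M.IsMaximal]
    (N : Subgroup G) [N.Normal] [Fintype (G ⧸ N)]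
    {B : Set (IrrCharacter G)} (hB : IsPBlock M B) {α β : IrrCharacter (G ⧸ N)}
    (hα : (⟨(α : G ⧸ N → ℂ) ∘ QuotientGroup.mk, isIrr_comp_mk' N α.2⟩ : IrrCharacter G) ∈ B)
    (h : SameBlock M (α : G ⧸ N → ℂ) (β : G ⧸ N → ℂ)) :
    (⟨(β : G ⧸ N → ℂ) ∘ QuotientGroup.mk, isIrr_comp_mk' N β.2⟩ : IrrCharacter G) ∈ B := by
  refine mem_of_bomega_eq hB hα ((sameBlock_iff _ _).mp fun g => ?_)
  set C' := (Subgroup.centralizer ({(g : G ⧸ N)} : Set (G ⧸ N))).comap (QuotientGroup.mk' N)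
  have hle : Subgroup.centralizer ({g} : Set G) ≤ C' := by
    intro c hc
    rw [Subgroup.mem_centralizer_singleton_iff] at hc
    rw [Subgroup.mem_comap, Subgroup.mem_centralizer_singleton_iff]
    exact congrArg (QuotientGroup.mk' N) hc
  have hidx := Subgroup.relIndex_mul_index hle
  rw [Subgroup.index_comap_of_surjective _ (QuotientGroup.mk'_surjective N)] at hidx
  obtain ⟨a, b, ha, hb, hab⟩ := h (g : G ⧸ N)
  refine ⟨((Subgroup.centralizer ({g} : Set G)).relIndex C' : AlgInt) * a, b, Ideal.mul_mem_left _ _ ha, hb, ?_⟩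
  simp only [centralChar, Function.comp_apply, QuotientGroup.mk_one] at hab ⊢
  rw [← hidx]
  push_cast
  rw [mul_div_assoc, hab]
  ring

/-- Let N be a normal p-subgroup of the finite group G and write Ḡ = G/N; fix a maximal ideal M of the algebraic integers containing p. Then every block B of G contains a block B̄ of Ḡ (the inflation of every member of B̄ lies in B) whose defect groups are exactly the images in Ḡ of the defect groups of B. -/
theorem result {G : Type*} [Group G] [Finite G] (p : ℕ) [Fact p.Prime] (M : Ideal Cfsg.AlgInt) (hM : Cfsg.IsPModular p M) (N : Subgroup G) [N.Normal] (hN : IsPGroup p N) (B : Set (Cfsg.IrrCharacter G)) (hB : Cfsg.IsPBlock M B) : ∃ Bbar : Set (Cfsg.IrrCharacter (G ⧸ N)), Cfsg.IsPBlock M Bbar ∧ (∀ χ ∈ Bbar, ∀ ψ : Cfsg.IrrCharacter G, (ψ : G → ℂ) = (χ : G ⧸ N → ℂ) ∘ QuotientGroup.mk → ψ ∈ B) ∧ ∀ Dbar : Subgroup (G ⧸ N), Cfsg.IsDefectGroup p M Bbar Dbar ↔ ∃ P : Subgroup G, Cfsg.IsDefectGroup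 p M B P ∧ Dbar = P.map (QuotientGroup.mk' N) := by
  classical
  have := hM.2.1
  have := Fintype.ofFinite G
  have := Fintype.ofFinite (G ⧸ N)
  have := Fintype.ofFinite N
  obtain ⟨D, hBD⟩ := CfsgLib.Blocks.exists_isDefectGroup (p := p) hB
  obtain ⟨g, hg, hgD⟩ := hBD
  have hBD' : Cfsg.IsDefectGroup p M B D := ⟨g, hg, hgD⟩
  obtain ⟨χ, hχ⟩ := CfsgLib.Blocks.IsPBlock.nonempty hB
  have hcD : g ∈ Subgroup.centralizer (D : Set G) := CfsgLib.Blocks.IsClassDefect.mem_centralizer hgD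
  have hgN : g ∈ Subgroup.centralizer (N : Set G) :=
    Subgroup.centralizer_le (SetLike.coe_subset_coe.mpr
      (CfsgLib.Blocks.normal_le_defect hM hB hBD' hN)) hcD
  have hne := hg.2.1
  have hgreg : ¬ p ∣ orderOf g := fun hd => hne (by
    rw [CfsgLib.Blocks.blockCoeff_eq_zero hM hB hd]
    exact (CfsgLib.Blocks.res_eq_zero_iff M 0).mp (map_zero _))
  rw [blockCoeff_eq_quotient hM N hN hB hgreg hgN] at hne
  set A : Set (Cfsg.IrrCharacter (G ⧸ N)) := {β | (⟨(β : G ⧸ N → ℂ) ∘ QuotientGroup.mk,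
    CfsgLib.CharNormal.isIrr_comp_mk' N β.2⟩ : Cfsg.IrrCharacter G) ∈ B} with hA
  have hAcl : ∀ α ∈ A, Cfsg.blockOf M (α : G ⧸ N → ℂ) ⊆ A := fun α hα β hβ =>
    mem_of_sameBlock_quotient N hB hα hβ
  -- split `A` into blocks
  have hsplit : Cfsg.blockCoeff A (g : G ⧸ N) =
      ∑ b ∈ A.toFinset.image (fun α : Cfsg.IrrCharacter (G ⧸ N) => Cfsg.blockOf M (α : G ⧸ N → ℂ)),
        Cfsg.blockCoeff b (g : G ⧸ N) := by
    simp only [Cfsg.blockCoeff]
    rw [← Finset.mul_sum]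
    congr 1
    simp only [finsum_mem_eq_toFinset_sum]
    rw [← Finset.sum_fiberwise_of_maps_to (t := A.toFinset.image
        (fun α : Cfsg.IrrCharacter (G ⧸ N) => Cfsg.blockOf M (α : G ⧸ N → ℂ)))
      (g := fun α : Cfsg.IrrCharacter (G ⧸ N) => Cfsg.blockOf M (α : G ⧸ N → ℂ))
      (fun α hα => Finset.mem_image_of_mem _ hα)]
    refine Finset.sum_congr rfl fun b hb => Finset.sum_congr ?_ fun _ _ => rfl
    obtain ⟨α, hα, rfl⟩ := Finset.mem_image.mp hb
    ext β
    simp only [Finset.mem_filter, Set.mem_toFinset]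
    refine ⟨fun h => h.2 ▸ CfsgLib.Blocks.mem_blockOf_self β, fun h => ⟨hAcl α (Set.mem_toFinset.mp hα) h, ?_⟩⟩
    exact CfsgLib.Blocks.blockOf_eq_of_mem h
  obtain ⟨b, hbA, hbne⟩ : ∃ b ∈ A.toFinset.image (fun α : Cfsg.IrrCharacter (G ⧸ N) =>
      Cfsg.blockOf M (α : G ⧸ N → ℂ)), ¬ Cfsg.MemLocalIdeal M (Cfsg.blockCoeff b (g : G ⧸ N)) := by
    by_contra hall
    push Not at hall
    refine hne ?_
    rw [hsplit]
    refine Finset.sum_induction _ (Cfsg.MemLocalIdeal M) ?_ ?_ hall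
    · intro a b ha hb
      have h1 := (CfsgLib.Blocks.res_eq_zero_iff M ⟨a, CfsgLib.Blocks.memLocalRing_of_memLocalIdeal M ha⟩).mpr ha
      have h2 := (CfsgLib.Blocks.res_eq_zero_iff M ⟨b, CfsgLib.Blocks.memLocalRing_of_memLocalIdeal M hb⟩).mpr hb
      exact (CfsgLib.Blocks.res_eq_zero_iff M (⟨a, _⟩ + ⟨b, _⟩)).mp (by rw [map_add, h1, h2, add_zero])
    · exact (CfsgLib.Blocks.res_eq_zero_iff M 0).mp (map_zero _)
  obtain ⟨α₀, hα₀, rfl⟩ := Finset.mem_image.mp hbA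
  have hb : Cfsg.IsPBlock M (Cfsg.blockOf M (α₀ : G ⧸ N → ℂ)) := CfsgLib.Blocks.isPBlock_blockOf α₀
  have hsub : ∀ β ∈ Cfsg.blockOf M (α₀ : G ⧸ N → ℂ), ∀ ψ : Cfsg.IrrCharacter G,
      (ψ : G → ℂ) = (β : G ⧸ N → ℂ) ∘ QuotientGroup.mk → ψ ∈ B := fun β hβ ψ hψ => by
    have h : β ∈ A := hAcl α₀ (Set.mem_toFinset.mp hα₀) hβ
    rw [hA, Set.mem_setOf_eq] at h
    rwa [show ψ = ⟨(β : G ⧸ N → ℂ) ∘ QuotientGroup.mk, CfsgLib.CharNormal.isIrr_comp_mk' N β.2⟩ from Subtype.ext hψ]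
  refine ⟨_, hb, hsub, ?_⟩
  obtain ⟨E, hE⟩ := CfsgLib.Blocks.exists_isDefectGroup (p := p) hb
  have hconjmap : ∀ (x : G) (P : Subgroup G), (CfsgLib.Blocks.cj x P).map (QuotientGroup.mk' N) =
      CfsgLib.Blocks.cj (x : G ⧸ N) (P.map (QuotientGroup.mk' N)) := fun x P => by
    rw [CfsgLib.Blocks.cj, CfsgLib.Blocks.cj, Subgroup.map_map, Subgroup.map_map]
    congr 1
  obtain ⟨xb, hxb⟩ := CfsgLib.Blocks.cj_le_defect_of_rcoeff_ne_zero hM hb hE
    (P := D.map (QuotientGroup.mk' N)) ((CfsgLib.Blocks.IsDefectGroup.isPGroup hBD').map _)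
    (c := (g : G ⧸ N)) (by
      rw [Subgroup.mem_centralizer_iff]
      rintro _ ⟨d, hd, rfl⟩
      exact congrArg (QuotientGroup.mk' N) (Subgroup.mem_centralizer_iff.mp hcD d hd))
    (fun h => hbne ((CfsgLib.Blocks.rcoeff_eq_zero_iff _ _).mp h))
  have hcard : ∀ P : Subgroup G, Cfsg.IsDefectGroup p M B P →
      Nat.card (P.map (QuotientGroup.mk' N)) = Nat.card (D.map (QuotientGroup.mk' N)) := fun P hP => by
    obtain ⟨x, rfl⟩ := CfsgLib.Blocks.defectGroups_conj hM hB hBD' hP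
    rw [hconjmap, CfsgLib.Blocks.card_cj]
  intro Dbar
  constructor
  · intro hD
    obtain ⟨P, hP, hle⟩ := Cfsg.Agent.S4433.result p M hM N _ hb B hB hsub Dbar hD
    refine ⟨P, hP, Subgroup.eq_of_le_of_card_ge hle ?_⟩
    rw [hcard P hP]
    obtain ⟨y, rfl⟩ := CfsgLib.Blocks.defectGroups_conj hM hb hE hD
    rw [CfsgLib.Blocks.card_cj]
    exact CfsgLib.Blocks.card_le_of_cj_le hxb
  · rintro ⟨P, hP, rfl⟩
    obtain ⟨Q, hQ, hle⟩ := Cfsg.Agent.S4433.result p M hM N _ hb B hB hsub E hE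
    have heq : E = CfsgLib.Blocks.cj xb (D.map (QuotientGroup.mk' N)) :=
      (CfsgLib.Blocks.cj_eq_of_le hxb ((Subgroup.card_le_of_le hle).trans (hcard Q hQ).le)).symm
    obtain ⟨x, rfl⟩ := CfsgLib.Blocks.defectGroups_conj hM hB hBD' hP
    have h := CfsgLib.Blocks.IsDefectGroup.conj hb hE ((x : G ⧸ N) * xb⁻¹)
    rwa [heq, CfsgLib.Blocks.cj_cj, inv_mul_cancel_right, ← hconjmap] at h

end Cfsg.Agent.S4434
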