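import Cfsg.Statements.S4437
import Cfsg.Agent.Lib.BrauerPairs.Nilpotent
import Cfsg.Agent.Lib.BrauerPairs.Stable

set_option autoImplicit false
open Cfsg

namespace Cfsg.Agent.S4437

/-- Let P be a p-subgroup of the finite group G, H = P·C_G(P), and b a block of H (relative to a maximal ideal M of the algebraic integers containing p) having P as a defect group; let B be the block of G induced by b. Let T be the stabilizer of b in N_G(P): the elements g of N_G(P) such that the g-conjugate of every member of b is again a member of b. Then B has defect group P if and only if p does not divide the index of H in T. -/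
theorem result {G : Type*} [Group G] [Fintype G] (p : ℕ) [Fact p.Prime] (M : Ideal Cfsg.AlgInt) (hM : Cfsg.IsPModular p M) (P : Subgroup G) (hP : IsPGroup p P) (H : Subgroup G) [Fintype H] (hH : H = P ⊔ Subgroup.centralizer (P : Set G)) (b : Set (Cfsg.IrrCharacter H)) (hb : Cfsg.IsPBlock M b) (hbP : Cfsg.IsDefectGroup p M b (P.subgroupOf H)) (B : Set (Cfsg.IrrCharacter G)) (hind : Cfsg.IsInducedBlock M H b B) (T : Subgroup G) (hT : ∀ g : G, g ∈ T ↔ (g ∈ Subgroup.normalizer (P : Set G) ∧ ∀ θ ∈ b, ∀ θ' : Cfsg.IrrCharacter H, (∀ h h' : H, (h' : G) = g * h * g⁻¹ → (θ' : H → ℂ) h' = (θ : H → ℂ) h) → θ' ∈ b)) : Cfsg.IsDefectGroup p M B P ↔ ¬ p ∣ H.relIndex T := by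
  have : M.IsMaximal := hM.2.1
  classical
  set C := Subgroup.centralizer (P : Set G) with hC
  have hPH : P ≤ H := hH ▸ le_sup_left
  have hCH : C ≤ H := hH ▸ le_sup_right
  have hHN : H ≤ Subgroup.normalizer (P : Set G) :=
    hH ▸ sup_le Subgroup.le_normalizer (Subgroup.centralizer_le_normalizer _)
  have hbC : CfsgLib.BrauerPairs.CentralIn C (CfsgLib.BrauerPairs.gidem M H b) :=
    CfsgLib.BrauerPairs.centralIn_of_mono (CfsgLib.BrauerPairs.centralIn_gidem b) hCH fun g hg => by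
      rw [← CfsgLib.BrauerPairs.br_eq_self_normalizer hM hP hPH hHN hb, CfsgLib.BrauerPairs.coeff_br,
        if_neg hg]
  obtain ⟨e, he, hbe⟩ := CfsgLib.BrauerPairs.exists_occurs' hbC
    (CfsgLib.BrauerPairs.gidem_mul_self hb) (CfsgLib.BrauerPairs.gidem_ne_zero hb)
  obtain ⟨F, hF, hgF, -⟩ := CfsgLib.BrauerPairs.exists_stable_block hM hP he hPH hCH hHN
    (CfsgLib.BrauerPairs.isFixed_iff_le_fixer.mpr (hH ▸ sup_le
      (fun x hx => CfsgLib.BrauerPairs.isFixed_self e x hx)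
      (fun x hx => (CfsgLib.BrauerPairs.centralIn_gidem e).2 x hx)))
  obtain rfl : b = F := by
    by_contra hne
    apply CfsgLib.BrauerPairs.gidem_ne_zero he
    rw [← hbe, ← hgF, CfsgLib.BrauerPairs.gidem_mul_of_ne hb hF hne]
  -- `(P, e)` is a pair of `B`
  have hPe : Cfsg.IsBrauerPair p M P e := ⟨hP, he⟩
  have hBb := ((CfsgLib.Blocks.isInducedBlock_iff H).mp hind).2.1
  obtain ⟨ξ, hξ⟩ := CfsgLib.Blocks.IsPBlock.nonempty hb
  obtain ⟨χ, hχ⟩ := CfsgLib.Blocks.IsPBlock.nonempty hBb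
  have h1 := ((CfsgLib.Blocks.isInducedBlock_iff H).mp hind).2.2 ξ hξ χ hχ (CfsgLib.Blocks.idem hBb)
  rw [CfsgLib.BrauerPairs.bomega_idem_self hBb hχ, CfsgLib.Blocks.indBomega_apply,
    ← CfsgLib.Blocks.bomega_truncC hM hP hPH hHN] at h1
  have hid : CfsgLib.Blocks.red (CfsgLib.Blocks.truncC P hHN (CfsgLib.Blocks.resIn H (CfsgLib.Blocks.idem hBb)) *
      CfsgLib.Blocks.truncC P hHN (CfsgLib.Blocks.resIn H (CfsgLib.Blocks.idem hBb))) =
      CfsgLib.Blocks.red (CfsgLib.Blocks.truncC P hHN (CfsgLib.Blocks.resIn H (CfsgLib.Blocks.idem hBb))) := by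
    rw [← CfsgLib.Blocks.red_truncC_mul hM hP hCH hHN, CfsgLib.Blocks.idem_mul_self]
  have h2 := congrArg (CfsgLib.BrauerPairs.emb H) ((CfsgLib.BrauerPairs.bomega_eq_one_iff hid hb hξ).mp h1)
  rw [map_mul, ← CfsgLib.BrauerPairs.gidem_eq_emb hb] at h2
  have hbr : CfsgLib.BrauerPairs.emb H (CfsgLib.Blocks.red
      (CfsgLib.Blocks.truncC P hHN (CfsgLib.Blocks.resIn H (CfsgLib.Blocks.idem hBb)))) =
      CfsgLib.BrauerPairs.br P (CfsgLib.BrauerPairs.gidemTop M B) := by
    refine CfsgLib.BrauerPairs.ext_coeff fun g => ?_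
    rw [CfsgLib.BrauerPairs.gidemTop_eq hBb, CfsgLib.BrauerPairs.coeff_br]
    by_cases hg : g ∈ H
    · rw [show (CfsgLib.BrauerPairs.emb H (CfsgLib.Blocks.red (CfsgLib.Blocks.truncC P hHN
        (CfsgLib.Blocks.resIn H (CfsgLib.Blocks.idem hBb))))).coeff g = _ from
        CfsgLib.BrauerPairs.coeff_emb H _ ⟨g, hg⟩, CfsgLib.Blocks.coeff_red,
        CfsgLib.Blocks.rcoeff_truncC]
      rfl
    · rw [CfsgLib.BrauerPairs.coeff_emb_of_notMem H _ hg, if_neg fun h => hg (hCH h)]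
  rw [hbr, hgF] at h2
  have hBe : Cfsg.IsBrauerPairOf p M B P e :=
    (CfsgLib.BrauerPairs.brauerPairOf_iff hM).mpr ⟨hPe, hBb, h2⟩
  -- the stabiliser
  have hTs : ∀ g, g ∈ T ↔ g ∈ CfsgLib.BrauerPairs.stab M P e := by
    intro g
    rw [hT]
    refine and_congr_right fun hg => ?_
    have hgH : g ∈ Subgroup.normalizer (H : Set G) := by
      rw [Subgroup.mem_normalizer_iff_map_conj_eq, hH]
      show (P ⊔ C).map (MulAut.conj g).toMonoidHom = P ⊔ C
      rw [Subgroup.map_sup, CfsgLib.BrauerPairs.map_conj_eq_self hg, CfsgLib.BrauerPairs.map_conj_eq_self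
        (CfsgLib.BrauerPairs.mem_normalizer_centralizer hg)]
    show _ ↔ CfsgLib.BrauerPairs.cjA g (CfsgLib.BrauerPairs.gidem M C e) =
      CfsgLib.BrauerPairs.gidem M C e
    rw [← hgF, show (CfsgLib.BrauerPairs.cjA g (CfsgLib.BrauerPairs.gidem M H b) =
      CfsgLib.BrauerPairs.gidem M H b) ↔ Cfsg.StabilizesBlock H b g from
      ⟨fun h => (CfsgLib.BrauerPairs.stabilizesBlock_iff hb).mpr ⟨hgH, h⟩,
        fun h => ((CfsgLib.BrauerPairs.stabilizesBlock_iff hb).mp h).2⟩]
    constructor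
    · intro h
      refine ⟨hgH, fun θ hθ => ?_⟩
      set E := CfsgLib.BrauerPairs.conjEquiv g H H (CfsgLib.BrauerPairs.mem_normalizer_iff''.mp hgH)
      refine ⟨CfsgLib.BrauerPairs.tirr E θ, h θ hθ _ ?_, ?_⟩ <;>
      · intro k k' hk
        obtain rfl : k' = E k := Subtype.ext hk
        exact congrArg (θ : H → ℂ) (E.symm_apply_apply k)
    · rintro ⟨-, h⟩ θ hθ θ' hθ'
      obtain ⟨χ', hχ', hc⟩ := h θ hθ
      convert hχ' using 1
      refine Subtype.ext (funext fun y => ?_)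
      have hy : g⁻¹ * (y : G) * g ∈ H := (CfsgLib.BrauerPairs.mem_normalizer_iff''.mp hgH y).mp y.2
      rw [hθ' ⟨_, hy⟩ y (by simp [mul_assoc]), hc ⟨_, hy⟩ y (by simp [mul_assoc])]
  have hTeq : T = CfsgLib.BrauerPairs.stab M P e := Subgroup.ext hTs
  subst hTeq
  have hCT : C ≤ CfsgLib.BrauerPairs.stab M P e := CfsgLib.BrauerPairs.cen_le_stab e
  constructor
  · intro hD
    have hmax : Cfsg.IsMaximalBrauerPair p M B P e :=
      CfsgLib.BrauerPairs.isMaximal_of_card hM hBe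
        (CfsgLib.Blocks.card_defectGroup hM hBb hD).ge
    have hF := CfsgLib.BrauerPairs.blockFusion_spec hM hmax
    obtain ⟨F', hF', hgF', -⟩ := CfsgLib.BrauerPairs.exists_stable_block hM hP he
      (CfsgLib.BrauerPairs.le_stab e) hCT inf_le_left (fun y hy => hy.2)
    have hD' := (CfsgLib.BrauerPairs.fullyNormalized_iff hM hF Relation.ReflTransGen.refl
      (fun y => CfsgLib.BrauerPairs.mem_stab_iff he) hF' hgF').mp
      (CfsgLib.BrauerPairs.fullyNormalized_top _)
    rw [inf_eq_left.mpr (Subgroup.le_normalizer : P ≤ Subgroup.normalizer (P : Set G))] at hD'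
    have h3 := CfsgLib.BrauerPairs.not_dvd_index_stable hM hCT inf_le_left he (fun y hy => hy.2)
      hF' hgF' hD'
    rw [← Subgroup.subgroupOf_sup hCT (CfsgLib.BrauerPairs.le_stab e), sup_comm, ← hH] at h3
    exact h3
  · intro hidx
    obtain ⟨⟨R, g⟩, hRmax, hle⟩ := CfsgLib.BrauerPairs.exists_maximal hM (a := ⟨P, e⟩) hBe
    have hPR : P ≤ R := CfsgLib.BrauerPairs.subgroup_le hle
    rcases hPR.eq_or_lt with hEq | hlt
    · have hd : Cfsg.IsDefectGroup p M B R := CfsgLib.BrauerPairs.isDefectGroup_of_maximal hM hRmax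
      change P = R at hEq
      subst hEq
      exact hd
    exfalso
    have hRp := hRmax.1.1
    set S := R ⊓ Subgroup.normalizer (P : Set G) with hS
    have hPS : P < S := CfsgLib.BrauerPairs.exists_normalizer_gt hRp.1 hlt
    obtain ⟨hfix, hne⟩ := CfsgLib.BrauerPairs.normal_between hM hRp hle hPS.le inf_le_left inf_le_right
    have hHT : H ≤ CfsgLib.BrauerPairs.stab M P e := hH ▸ sup_le (CfsgLib.BrauerPairs.le_stab e) hCT
    have hHn : (H.subgroupOf (CfsgLib.BrauerPairs.stab M P e)).Normal := by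
      refine (Subgroup.normal_subgroupOf_iff_le_normalizer hHT).mpr fun t ht => ?_
      rw [Subgroup.mem_normalizer_iff_map_conj_eq, hH]
      show (P ⊔ C).map (MulAut.conj t).toMonoidHom = P ⊔ C
      rw [Subgroup.map_sup, CfsgLib.BrauerPairs.map_conj_eq_self ht.1,
        CfsgLib.BrauerPairs.map_conj_eq_self (CfsgLib.BrauerPairs.mem_normalizer_centralizer ht.1)]
    have hSp : IsPGroup p S := hRp.1.to_le inf_le_left
    have hSH : S ≤ H := by
      intro s hs
      have hsT : s ∈ CfsgLib.BrauerPairs.stab M P e := ⟨hs.2, hfix s hs⟩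
      obtain ⟨k, hk⟩ := hSp ⟨s, hs⟩
      have h4 : (⟨s, hsT⟩ : CfsgLib.BrauerPairs.stab M P e) ^ p ^ k = 1 :=
        Subtype.ext (by simpa using congrArg Subtype.val hk)
      have h5 : ((⟨s, hsT⟩ : CfsgLib.BrauerPairs.stab M P e) :
          CfsgLib.BrauerPairs.stab M P e ⧸ H.subgroupOf (CfsgLib.BrauerPairs.stab M P e)) = 1 := by
        refine orderOf_eq_one_iff.mp (Nat.eq_one_of_dvd_coprimes
          (Nat.Coprime.pow_left k (hM.1.coprime_iff_not_dvd.mpr hidx))
          (orderOf_dvd_of_pow_eq_one ?_) (orderOf_dvd_natCard _))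
        rw [← QuotientGroup.mk_pow, h4, QuotientGroup.mk_one]
      exact (QuotientGroup.eq_one_iff (⟨s, hsT⟩ : CfsgLib.BrauerPairs.stab M P e)).mp h5
    have h6 := CfsgLib.BrauerPairs.card_le_defect hM hb hSp hSH (by rw [hgF]; exact hne) hbP
    rw [CfsgLib.BrauerPairs.card_subgroupOf' hPH] at h6
    exact absurd (CfsgLib.BrauerPairs.card_lt_card_of_lt hPS) (not_lt.mpr h6)


end Cfsg.Agent.S4437
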