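import Cfsg.Statements.S4440
import Cfsg.Agent.Lib.Modular.FongSwan.Main
import Cfsg.Agent.Lib.Modular.NormalBlocks

set_option autoImplicit false
open Cfsg

namespace Cfsg.Agent.S4440


open CfsgLib.Modular CfsgLib.Blocks CfsgLib.Char CfsgLib.BlockArith
open scoped ComplexConjugate

/-- Against a function vanishing on singular elements only the regular part counts. -/
theorem classInner_regPart_of_singular {G : Type*} [Group G] [Fintype G] {p : ℕ} {f : G → ℂ}
    (hf : ∀ x, p ∣ orderOf x → f x = 0) (g : G → ℂ) :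
    classInner f (pRegularPart p g) = classInner f g := by
  classical
  rw [classInner_def, classInner_def]
  refine congrArg _ (Finset.sum_congr rfl fun x _ => ?_)
  rw [pRegularPart_apply]
  split_ifs with hx
  · rw [hf x hx, zero_mul, zero_mul]
  · rfl

/-- Let G be a finite p-solvable group and fix a maximal ideal M of the algebraic integers containing p. Let U be a set of irreducible characters of G such that the class function Σ_{χ ∈ U} χ(1)·χ vanishes at every p-singular element of G. Then U is a union of p-blocks: if χ ∈ U and ψ lies in the same block as χ, then ψ ∈ U. -/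
theorem result {G : Type*} [Group G] [Finite G] (p : ℕ) [Fact p.Prime] (M : Ideal Cfsg.AlgInt) (hM : Cfsg.IsPModular p M) (hsolv : Cfsg.IsPSolvable p G) (U : Set (Cfsg.IrrCharacter G)) (hU : ∀ x : G, p ∣ orderOf x → ∑ᶠ χ ∈ U, (χ : G → ℂ) 1 * (χ : G → ℂ) x = 0) (χ : Cfsg.IrrCharacter G) (hχ : χ ∈ U) (ψ : Cfsg.IrrCharacter G) (hψ : Cfsg.SameBlock M (χ : G → ℂ) (ψ : G → ℂ)) : ψ ∈ U := by
  classical
  have : M.IsMaximal := hM.2.1
  let : Fintype G := Fintype.ofFinite _
  let f : G → ℂ := ∑ η : IrrCharacter G, (if η ∈ U then (η : G → ℂ) 1 else 0) • (η : G → ℂ)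
  have hf : ∀ x, p ∣ orderOf x → f x = 0 := fun x hx => by
    rw [← hU x hx, finsum_mem_eq_finite_toFinset_sum _ (Set.toFinite U)]
    simp only [f, Finset.sum_apply, Pi.smul_apply, smul_eq_mul, ite_mul, zero_mul]
    rw [← Finset.sum_filter]
    exact Finset.sum_congr (by ext; simp) fun _ _ => rfl
  have hfη : ∀ η : IrrCharacter G, classInner f (η : G → ℂ) = if η ∈ U then (η : G → ℂ) 1 else 0 := fun η => by
    rw [classInner_sum_left, Finset.sum_eq_single η]
    · rw [classInner_smul_left, classInner_irr_self η.2, mul_one]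
    · intro b _ hb
      rw [classInner_smul_left, classInner_irr_ne b.2 η.2 (fun h => hb (Subtype.ext h)), mul_zero]
    · simp
  choose L hL using fun φ : ibrF hM G => CfsgLib.Modular.FongSwan.fongSwan hM hsolv φ.2
  have h1 : ¬ p ∣ orderOf (1 : G) := by rw [orderOf_one]; exact hM.1.not_dvd_one
  choose e he0 he using fun φ : ibrF hM G => ibr_one_pos hM φ.2
  have hL1 : ∀ φ, (L φ : G → ℂ) 1 = (e φ : ℂ) := fun φ => by
    have := congrFun (hL φ) 1
    rw [pRegularPart_apply, if_neg h1] at this
    rw [this, he]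
  have hdeg : ∀ η : IrrCharacter G, (η : G → ℂ) 1 = ((∑ φ : ibrF hM G, dnum hM η φ * e φ : ℕ) : ℂ) := fun η => by
    have := congrFun (regPart_eq hM η) 1
    rw [pRegularPart_apply, if_neg h1] at this
    rw [this, Finset.sum_apply, ← Finset.sum_coe_sort]
    push_cast
    exact Finset.sum_congr rfl fun φ _ => by rw [Pi.smul_apply, smul_eq_mul, ← he]
  have hkey : ∀ η : IrrCharacter G, (if η ∈ U then (η : G → ℂ) 1 else 0) =
      ((∑ φ : ibrF hM G, (if L φ ∈ U then dnum hM η φ * e φ else 0) : ℕ) : ℂ) := fun η => by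
    rw [← hfη, ← classInner_regPart_of_singular hf, regPart_eq hM, classInner_sum_right, ← Finset.sum_coe_sort]
    push_cast
    refine Finset.sum_congr rfl fun φ _ => ?_
    rw [classInner_smul_right, map_natCast, ← hL φ, classInner_regPart_of_singular hf, hfη]
    split_ifs
    · rw [hL1, hL φ]
    · rw [mul_zero]
  have hin : ∀ η : IrrCharacter G, ∀ φ : ibrF hM G, dnum hM η φ ≠ 0 → (η ∈ U ↔ L φ ∈ U) := fun η φ hd => by
    have hpos : 0 < dnum hM η φ * e φ := Nat.mul_pos (Nat.pos_of_ne_zero hd) (he0 φ)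
    have hk := hkey η
    constructor <;> intro h
    · rw [if_pos h, hdeg, Nat.cast_inj] at hk
      by_contra hn
      have hle : ∀ x ∈ Finset.univ, (if L x ∈ U then dnum hM η x * e x else 0) ≤ dnum hM η x * e x := fun x _ => by
        split_ifs <;> omega
      have := (Finset.sum_eq_sum_iff_of_le hle).mp hk.symm φ (Finset.mem_univ _)
      rw [if_neg hn] at this
      omega
    · by_contra hn
      rw [if_neg hn, ← Nat.cast_zero, Nat.cast_inj] at hk
      have := (Finset.sum_eq_zero_iff.mp hk.symm) φ (Finset.mem_univ _)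
      rw [if_pos h] at this
      omega
  refine blockOf_subset_of_linked hM (T := U) (fun η hη θ φ hφ hdη hdθ => ?_) hχ hψ
  exact (hin θ ⟨φ, hφ⟩ hdθ).mpr ((hin η ⟨φ, hφ⟩ hdη).mp hη)


end Cfsg.Agent.S4440
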