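import Cfsg.Statements.S4442
import Cfsg.Agent.Lib.Blocks.PrimeBlock
-- import your own Cfsg.Agent.* helpers here

set_option autoImplicit false
open Cfsg CfsgLib.Blocks

namespace Cfsg.Agent.S4442

/-- Blocks of defect one. Let p be an odd prime and G a finite group whose Sylow p-subgroup P has order p; let C = C_G(P) and N = N_G(P), and fix a maximal ideal M of the algebraic integers containing p. Let B be a block of G with defect group P, b a block of C inducing B, and θ the member of b having P in its kernel (there is exactly one). Let T be the stabilizer of θ in N (the elements g ∈ N with θ(g c g⁻¹) = θ(c) for all c ∈ C) and e the index of C in T. Then e divides p − 1 and B contains exactly e + (p − 1)/e irreducible characters. Moreover B is the disjoint union of a set X of e characters and a set Y of (p − 1)/e characters such that, with f the index of C in N: every χ ∈ X has χ(1) ≡ ±(f/e)·θ(1) (mod p), there is one sign ε with ψ(1) ≡ ε f θ(1)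 (mod p) for all ψ ∈ Y, and all members of Y agree on the p-regular elements of G. -/
theorem result {G : Type*} [Group G] [Finite G] (p : ℕ) [Fact p.Prime] (M : Ideal Cfsg.AlgInt) (hM : Cfsg.IsPModular p M) (hodd : p ≠ 2) (P : Sylow p G) (hP : Nat.card P = p) (B : Set (Cfsg.IrrCharacter G)) (hB : Cfsg.IsPBlock M B) (hBP : Cfsg.IsDefectGroup p M B P) (b : Set (Cfsg.IrrCharacter (Subgroup.centralizer ((P : Subgroup G) : Set G)))) (hind : Cfsg.IsInducedBlock M (Subgroup.centralizer ((P : Subgroup G) : Set G)) b B) (θ : Cfsg.IrrCharacter (Subgroup.centralizer ((P : Subgroup G) : Set G))) (hθ : θ ∈ b) (hθP : ∀ x : Subgroup.centralizer ((P : Subgroup G) : Set G), (x : G) ∈ (P : Subgroup G) → (θ : Subgroup.centralizer ((P : Subgroup G) : Set G) → ℂ) x = (θ : Subgroup.centralizer ((P : Subgroup G) : Set G) → ℂ) 1) (T : Subgroup G) (hT : ∀ g : G, g ∈ T ↔ (g ∈ Subgroup.normalizer ((P : Subgroup G) : Set G) ∧ ∀ c c' : Subgroup.centralizer ((P : Subgroup G) :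 Set G), (c' : G) = g * c * g⁻¹ → (θ : Subgroup.centralizer ((P : Subgroup G) : Set G) → ℂ) c' = (θ : Subgroup.centralizer ((P : Subgroup G) : Set G) → ℂ) c)) (e f : ℕ) (he : (Subgroup.centralizer ((P : Subgroup G) : Set G)).relIndex T = e) (hf : (Subgroup.centralizer ((P : Subgroup G) : Set G)).relIndex (Subgroup.normalizer ((P : Subgroup G) : Set G)) = f) : e ∣ p - 1 ∧ Nat.card B = e + (p - 1) / e ∧ ∃ X Y : Set (Cfsg.IrrCharacter G), B = X ∪ Y ∧ Disjoint X Y ∧ Nat.card X = e ∧ Nat.card Y = (p - 1) / e ∧ (∀ χ ∈ X, (Cfsg.charDegree (χ : G → ℂ) : ℤ) ≡ ((f / e * Cfsg.charDegree (θ : Subgroup.centralizer ((P : Subgroup G) : Set G) → ℂ) : ℕ) : ℤ) [ZMOD p] ∨ (Cfsg.charDegree (χ : G → ℂ) : ℤ) ≡ -((f / e * Cfsg.charDegree (θ : Subgroup.centralizer ((P : Subgroup G) : Set G) → ℂ) : ℕ) : ℤ) [ZMOD p]) ∧ (∃ ε : ℤ, (ε = 1 ∨ ε = -1) ∧ ∀ ψ ∈ Y, (Cfsg.charDegree (ψ : G → ℂ) : ℤ) ≡ ε * ((f * Cfsg.charDegree (θ : Subgroup.centralizer ((P : Subgroup G) : Set G) → ℂ)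 : ℕ) : ℤ) [ZMOD p]) ∧ ∀ ψ ∈ Y, ∀ ψ' ∈ Y, ∀ g : G, ¬ p ∣ orderOf g → (ψ : G → ℂ) g = (ψ' : G → ℂ) g := by
  classical
  let _ := Fintype.ofFinite G
  let _ := Fintype.ofFinite (Subgroup.normalizer ((P : Subgroup G) : Set G))
  let _ := Fintype.ofFinite (Subgroup.centralizer ((P : Subgroup G) : Set G))
  have hTN : T ≤ Subgroup.normalizer ((P : Subgroup G) : Set G) := fun g hg => ((hT g).mp hg).1
  have hstab : PrimeBlock.stab P θ = T.subgroupOf (Subgroup.normalizer ((P : Subgroup G) : Set G)) := by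
    ext w
    rw [PrimeBlock.mem_stab, Subgroup.mem_subgroupOf, hT]
    refine ⟨fun h => ⟨w.2, fun c c' hc => ?_⟩, fun h => Subtype.ext (funext fun c => h.2 c _ rfl)⟩
    rw [show c' = PrimeLocal.cjC P w c from Subtype.ext hc, ← PrimeLocal.thn_apply, h]
  have heE : (PrimeBlock.Eset P hP θ).card = e := by
    rw [PrimeBlock.card_Eset, hstab, PrimeLocal.CN, Subgroup.relIndex_subgroupOf hTN, he]
  have hfO : (PrimeBlock.conjs P θ).card * e = f := by
    rw [← heE, PrimeBlock.card_conjs_mul, hf]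
  have he0 : 0 < e := heE ▸ PrimeBlock.card_Eset_pos P hP θ
  have hfe : f / e = (PrimeBlock.conjs P θ).card := by rw [← hfO, Nat.mul_div_cancel _ he0]
  have hdvd : e ∣ p - 1 := ⟨(PrimeBlock.orbits P hP θ).card, by
    rw [← heE, mul_comm, PrimeBlock.card_orbits_mul P hP θ]⟩
  have : M.IsMaximal := hM.2.1
  obtain ⟨Y, s, σ, hS⟩ := PrimeBlock.exists_shape P hP θ hθP hM hBP hind hθ
  have hcard := hS.card_eq
  have hY := hS.card_Y
  rw [heE] at hcard hY
  have hp1 : 1 ≤ p := (Fact.out : p.Prime).one_le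
  refine ⟨hdvd, hcard, B \ Y, Y, (Set.sdiff_union_of_subset hS.le).symm, Set.disjoint_sdiff_left, ?_, hY,
    fun χ hχ => ?_, ⟨σ, hS.sign, fun η hη => ?_⟩, fun η hη η' hη' g hg => ?_⟩
  · have h := Set.ncard_sdiff hS.le (Set.toFinite Y)
    rw [Nat.card_coe_set_eq, h, ← Nat.card_coe_set_eq, ← Nat.card_coe_set_eq, hcard, hY]
    omega
  · obtain ⟨a, ha⟩ := PrimeBlock.exists_degree_eq P hP θ hθP hM hBP hind hθ hχ.1
    have hsum : ∑ j : ZMod p, PrimeBlock.row P hP θ (χ : G → ℂ) j = ((p : ℤ) - 1) * s χ := by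
      rw [← Finset.add_sum_erase _ _ (Finset.mem_univ (0 : ZMod p)), PrimeBlock.row_eq_zero P hP θ hθP, zero_add,
        Finset.sum_congr rfl fun j hj => hS.row_X χ hχ.1 hχ.2 j (Finset.mem_erase.mp hj).1, Finset.sum_const,
        Finset.card_erase_of_mem (Finset.mem_univ _), Finset.card_univ, ZMod.card, nsmul_eq_mul,
        Nat.cast_sub hp1, Nat.cast_one]
    rw [hsum] at ha
    rw [hfe, ha]
    push_cast
    rcases hS.sign_X χ hχ.1 hχ.2 with h | h <;> rw [h]
    · exact Or.inr (Int.modEq_iff_dvd.mpr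
        ⟨-(((PrimeBlock.conjs P θ).card : ℤ) * (charDegree (θ : Subgroup.centralizer ((P : Subgroup G) : Set G) → ℂ) : ℤ)) - a, by ring⟩)
    · exact Or.inl (Int.modEq_iff_dvd.mpr
        ⟨((PrimeBlock.conjs P θ).card : ℤ) * (charDegree (θ : Subgroup.centralizer ((P : Subgroup G) : Set G) → ℂ) : ℤ) - a, by ring⟩)
  · obtain ⟨a, ha⟩ := PrimeBlock.exists_degree_eq P hP θ hθP hM hBP hind hθ (hS.le hη)
    obtain ⟨i, hi, hrow⟩ := hS.row_Y η hη
    have h0 : (0 : ZMod p) ∉ PrimeBlock.eOrbit P hP θ i := fun h => by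
      obtain ⟨u, hu, hu'⟩ := (PrimeBlock.mem_eOrbit P hP θ).mp h
      exact mul_ne_zero (PrimeBlock.ne_zero_of_mem P hP θ hu) hi hu'
    have hsum : ∑ j : ZMod p, PrimeBlock.row P hP θ (η : G → ℂ) j = (e : ℤ) * σ := by
      rw [Finset.sum_congr rfl fun j _ => show PrimeBlock.row P hP θ (η : G → ℂ) j =
          if j ∈ PrimeBlock.eOrbit P hP θ i then σ else 0 by
        by_cases hj : j = 0
        · rw [hj, PrimeBlock.row_eq_zero P hP θ hθP, if_neg h0]
        · exact hrow j hj, ← Finset.sum_filter, Finset.filter_univ_mem, Finset.sum_const,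
        PrimeBlock.card_eOrbit P hP θ hi, heE, nsmul_eq_mul]
    rw [hsum] at ha
    rw [ha, ← hfO]
    push_cast
    exact Int.modEq_iff_dvd.mpr ⟨-a, by ring⟩
  · have h := (hS.relation η hη g hg).trans (hS.relation η' hη' g hg).symm
    rw [add_right_inj] at h
    exact mul_left_cancel₀ (Int.cast_ne_zero.mpr (by rcases hS.sign with h1 | h1 <;> simp [h1])) h

end Cfsg.Agent.S4442
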