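import Cfsg.Statements.S4443
import Cfsg.Agent.Lib.BlockArith.NormalDefectRank

set_option autoImplicit false
open Cfsg

namespace Cfsg.Agent.S4443

/-- Let D be a normal p-subgroup of the finite group G, of order p^d, let p^a be the p-part of the order of G, and fix a Sylow p-subgroup S and a maximal ideal M of the algebraic integers containing p. Index by a finite type ι (via an injective map K) exactly the conjugacy classes of p-regular elements x of G for which D is a Sylow p-subgroup of C_G(x). For classes K_i, K_j let ω(i, j) be the number of pairs (y, z) ∈ K_i × K_j with z y⁻¹ ∈ S; this number is divisible by p^(a−d). Then the number of p-blocks of G having D as a defect group equals the rank over ℤ/pℤ of the matrix with (i, j) entry ω(i, j)/p^(a−d) reduced modulo p. -/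
theorem result {G : Type*} [Group G] [Finite G] (p : ℕ) [Fact p.Prime] (M : Ideal Cfsg.AlgInt) (hM : Cfsg.IsPModular p M) (D : Subgroup G) [D.Normal] (hD : IsPGroup p D) (S : Sylow p G) {ι : Type*} [Fintype ι] [DecidableEq ι] (K : ι → ConjClasses G) (hKinj : Function.Injective K) (hK : ∀ C : ConjClasses G, (∃ i, K i = C) ↔ ∃ x ∈ C.carrier, ¬ p ∣ orderOf x ∧ ∃ Q : Sylow p (Subgroup.centralizer ({x} : Set G)), (Q : Subgroup (Subgroup.centralizer ({x} : Set G))).map (Subgroup.centralizer ({x} : Set G)).subtype = D) : Nat.card {B : Set (Cfsg.IrrCharacter G) // Cfsg.IsPBlock M B ∧ Cfsg.IsDefectGroup p M B D} = (Matrix.of fun i j : ι => ((Nat.card {yz : G × G // yz.1 ∈ (K i).carrier ∧ yz.2 ∈ (K j).carrier ∧ yz.2 * yz.1⁻¹ ∈ (S : Subgroup G)} / p ^ ((Nat.card G).factorization p - (Nat.card D).factorization p) : ℕ) : ZMod p)).rank := by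
  have : M.IsMaximal := hM.2.1
  classical
  have := Fintype.ofFinite G
  have hp : p.Prime := Fact.out
  have hmem : ∀ (C : ConjClasses G) (g : G), g ∈ C.carrier ↔ IsConj C.out g := fun C g => by
    rw [ConjClasses.mem_carrier_iff_mk_eq, ← ConjClasses.mk_eq_mk_iff_isConj]
    exact ⟨fun h => (Quotient.out_eq C).trans h.symm, fun h => h.symm.trans (Quotient.out_eq C)⟩
  have hK' : ∀ C : ConjClasses G, (∃ i, K i = C) ↔ ¬ p ∣ orderOf C.out ∧
      D ≤ Subgroup.centralizer ({C.out} : Set G) ∧
      (Nat.card (Subgroup.centralizer ({C.out} : Set G))).factorization p = (Nat.card D).factorization p := by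
    intro C
    rw [hK C]
    constructor
    · rintro ⟨x, hx, hreg, Q, hQ⟩
      obtain ⟨c, hc⟩ := isConj_iff.mp ((hmem C x).mp hx).symm
      have hcard : (Nat.card (Subgroup.centralizer ({x} : Set G))).factorization p =
          (Nat.card D).factorization p := by
        have h1 : Nat.card (Q : Subgroup (Subgroup.centralizer ({x} : Set G))) = Nat.card D := by
          rw [← hQ]
          exact (Subgroup.card_map_of_injective (Subgroup.subtype_injective _)).symm
        rw [← h1, Sylow.card_eq_multiplicity, hp.factorization_pow, Finsupp.single_eq_same]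
      refine ⟨?_, ?_, ?_⟩
      · rwa [← hc, show orderOf (c * x * c⁻¹) = orderOf x from
          orderOf_injective (MulAut.conj c).toMonoidHom (MulAut.conj c).injective x]
      · intro q hq
        have hq' : c⁻¹ * q * c ∈ D := by simpa using (‹D.Normal›).conj_mem q hq c⁻¹
        rw [← hQ] at hq'
        obtain ⟨w, -, hw⟩ := hq'
        have h2 : c⁻¹ * q * c * x = x * (c⁻¹ * q * c) := by
          rw [← hw]; exact Subgroup.mem_centralizer_singleton_iff.mp w.2
        rw [Subgroup.mem_centralizer_singleton_iff, ← hc]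
        calc q * (c * x * c⁻¹) = c * (c⁻¹ * q * c * x) * c⁻¹ := by group
          _ = c * (x * (c⁻¹ * q * c)) * c⁻¹ := by rw [h2]
          _ = _ := by group
      · have e1 := CfsgLib.Blocks.index_centralizer_factorization p x
        have e2 := CfsgLib.Blocks.index_centralizer_factorization p C.out
        have hcj : IsConj x C.out := isConj_iff.mpr ⟨c, hc⟩
        rw [← CfsgLib.Char.card_isConj_eq_index] at e1 e2
        rw [show Nat.card {z : G // IsConj C.out z} = Nat.card {z : G // IsConj x z} from
          Nat.card_congr (Equiv.subtypeEquivRight fun z => ⟨hcj.trans, hcj.symm.trans⟩)] at e2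
        omega
    · rintro ⟨hreg, hle, hcard⟩
      refine ⟨C.out, (hmem C _).mpr (IsConj.refl _), hreg, ?_⟩
      obtain ⟨k, hk⟩ := IsPGroup.iff_card.mp hD
      have hk' : (Nat.card D).factorization p = k := by
        rw [hk, hp.factorization_pow, Finsupp.single_eq_same]
      refine ⟨Sylow.ofCard (D.subgroupOf _) ?_, ?_⟩
      · rw [Nat.card_congr (Subgroup.subgroupOfEquivOfLe hle).toEquiv, hk, hcard, hk']
      · rw [Sylow.coe_ofCard]
        exact Subgroup.map_subgroupOf_eq_of_le hle
  rw [CfsgLib.BlockArith.card_blocks_normal_defect hM D hD S K hKinj hK']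
  have hcount : ∀ i j, Nat.card {yz : G × G // IsConj (K i).out yz.1 ∧ IsConj (K j).out yz.2 ∧
      yz.2 * yz.1⁻¹ ∈ (S : Subgroup G)} =
      Nat.card {yz : G × G // yz.1 ∈ (K i).carrier ∧ yz.2 ∈ (K j).carrier ∧ yz.2 * yz.1⁻¹ ∈ (S : Subgroup G)} :=
    fun i j => Nat.card_congr (Equiv.subtypeEquivRight fun yz => by rw [hmem, hmem])
  simp only [hcount]


end Cfsg.Agent.S4443
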