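import Cfsg.Statements.S4444
import Cfsg.Agent.Lib.CharNormal.Glauberman
import Cfsg.Agent.Lib.CharNormal.ConjAut

set_option autoImplicit false
open Cfsg

namespace Cfsg.Agent.S4444

/-- The Glauberman correspondence for a p-group of operators. Inside a finite group Γ let S normalise G with the orders of G and S coprime, S a p-group, and let C = G ⊓ C(S) be the fixed points. Call an irreducible character χ of G S-invariant when χ(s g s⁻¹) = χ(g) for s ∈ S, g ∈ G. Then: (i) for every S-invariant χ there is exactly one irreducible character β of C whose multiplicity [χ_C, β] in the restriction of χ is not divisible by p; (ii) that multiplicity is ≡ 1 or ≡ −1 (mod p); (iii) distinct S-invariant χ give distinct β; (iv) every irreducible character of C arises in this way. So χ ↦ β is a bijection from the S-invariant irreducible characters of G onto the irreducible characters of C. -/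
theorem result {Γ : Type*} [Group Γ] [Fintype Γ] (G S : Subgroup Γ) [Fintype G] (hnorm : ∀ s ∈ S, ∀ g ∈ G, s * g * s⁻¹ ∈ G) (hcop : (Nat.card G).Coprime (Nat.card S)) (p : ℕ) (hp : p.Prime) (hS : IsPGroup p S) (C : Subgroup Γ) [Fintype C] (hC : C = G ⊓ Subgroup.centralizer (S : Set Γ)) (hCG : C ≤ G) : (∀ χ : Cfsg.IrrCharacter G, (∀ s ∈ S, ∀ g g' : G, (g' : Γ) = s * g * s⁻¹ → (χ : G → ℂ) g' = (χ : G → ℂ) g) → ∃! β : Cfsg.IrrCharacter C, ∃ m : ℕ, Cfsg.classInner (fun c : C => (χ : G → ℂ) ⟨c, hCG c.2⟩) (β : C → ℂ) = (m : ℂ) ∧ ¬ p ∣ m) ∧ (∀ χ : Cfsg.IrrCharacter G, (∀ s ∈ S, ∀ g g' : G, (g' : Γ) = s * g * s⁻¹ → (χ : G → ℂ) g' = (χ : G → ℂ) g) → ∀ β : Cfsg.IrrCharacter C, ∀ m : ℕ, Cfsg.classInner (fun c : C => (χ : G → ℂ) ⟨c, hCG c.2⟩) (β : C → ℂ) = (m : ℂ) → ¬ p ∣ m → ((m : ℤ) ≡ 1 [ZMOD p] ∨ (m : ℤ) ≡ -1 [ZMOD p])) ∧ (∀ χ χ' : Cfsg.IrrCharacter G, (∀ s ∈ S, ∀ g g' : G, (g' : Γ) = s * g * s⁻¹ → (χ : G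 → ℂ) g' = (χ : G → ℂ) g) → (∀ s ∈ S, ∀ g g' : G, (g' : Γ) = s * g * s⁻¹ → (χ' : G → ℂ) g' = (χ' : G → ℂ) g) → ∀ β : Cfsg.IrrCharacter C, ∀ m m' : ℕ, Cfsg.classInner (fun c : C => (χ : G → ℂ) ⟨c, hCG c.2⟩) (β : C → ℂ) = (m : ℂ) → ¬ p ∣ m → Cfsg.classInner (fun c : C => (χ' : G → ℂ) ⟨c, hCG c.2⟩) (β : C → ℂ) = (m' : ℂ) → ¬ p ∣ m' → χ = χ') ∧ (∀ β : Cfsg.IrrCharacter C, ∃ χ : Cfsg.IrrCharacter G, (∀ s ∈ S, ∀ g g' : G, (g' : Γ) = s * g * s⁻¹ → (χ : G → ℂ) g' = (χ : G → ℂ) g) ∧ ∃ m : ℕ, Cfsg.classInner (fun c : C => (χ : G → ℂ) ⟨c, hCG c.2⟩) (β : C → ℂ) = (m : ℂ) ∧ ¬ p ∣ m) := by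
  classical
  have : Fact p.Prime := ⟨hp⟩
  let φ := CfsgLib.CharNormal.conjAut G S hnorm
  let ι := Subgroup.inclusion hCG
  have hι : Function.Injective ι := Subgroup.inclusion_injective hCG
  have hfix : ∀ g, (∀ s, φ s g = g) ↔ g ∈ ι.range :=
    CfsgLib.CharNormal.fixed_iff_mem_range G S hnorm C hC hCG
  have hinv : ∀ χ : Cfsg.IrrCharacter G,
      CfsgLib.CharNormal.IsInvariant φ χ ↔
        ∀ s ∈ S, ∀ g g' : G, (g' : Γ) = s * g * s⁻¹ → (χ : G → ℂ) g' = (χ : G → ℂ) g :=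
    fun χ => CfsgLib.CharNormal.forall_conjAut_iff G S hnorm _
  have hm : ∀ (χ : Cfsg.IrrCharacter G) (β : Cfsg.IrrCharacter C) (m : ℕ),
      Cfsg.classInner (fun c : C => (χ : G → ℂ) ⟨c, hCG c.2⟩) (β : C → ℂ) = (m : ℂ) ↔
        CfsgLib.CharNormal.mult ι χ β = m := by
    intro χ β m
    rw [show (fun c : C => (χ : G → ℂ) ⟨c, hCG c.2⟩) = (χ : G → ℂ) ∘ ι from rfl,
      CfsgLib.CharNormal.classInner_eq_mult, Nat.cast_inj]
  by_cases hG : p ∣ Nat.card G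
  · -- then `S` is trivial and `C = G`
    obtain ⟨k, hk⟩ := IsPGroup.iff_card.mp hS
    have hS1 : Nat.card S = 1 := by
      rcases k with _ | k
      · simpa using hk
      · exact absurd (Nat.eq_one_of_dvd_coprimes hcop hG ⟨p ^ k, by rw [hk, pow_succ']⟩)
          hp.ne_one
    have hbij : Function.Bijective ι := by
      refine ⟨hι, fun g => ?_⟩
      have hbot := Subgroup.card_eq_one.mp hS1
      obtain ⟨c, hc⟩ := (hfix g).mp fun s => by
        have : s = 1 := Subtype.ext (Subgroup.mem_bot.mp (hbot ▸ s.2))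
        rw [this, map_one]; rfl
      exact ⟨c, hc⟩
    let e : C ≃* G := MulEquiv.ofBijective ι hbij
    let E : Cfsg.IrrCharacter G → Cfsg.IrrCharacter C := fun χ =>
      ⟨(χ : G → ℂ) ∘ e, CfsgLib.CharNormal.isIrr_comp_mulEquiv χ.2 e⟩
    have hE : Function.Injective E := fun χ ψ h => Subtype.ext (funext fun g => by
      have := congrArg (fun b : Cfsg.IrrCharacter C => (b : C → ℂ) (e.symm g)) h
      simpa [E] using this)
    have hval : ∀ χ β, CfsgLib.CharNormal.mult ι χ β = if E χ = β then 1 else 0 := by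
      intro χ β
      have h1 : Cfsg.classInner (E χ : C → ℂ) (β : C → ℂ) =
          CfsgLib.CharNormal.mult ι χ β := CfsgLib.CharNormal.classInner_eq_mult ι χ β
      split_ifs with h
      · subst h
        rw [CfsgLib.Char.classInner_irr_self (E χ).2] at h1
        exact_mod_cast h1.symm
      · rw [CfsgLib.Char.classInner_irr_ne (E χ).2 β.2 fun h' => h (Subtype.ext h')] at h1
        exact_mod_cast h1.symm
    have hnd : ∀ χ β, ¬ p ∣ CfsgLib.CharNormal.mult ι χ β ↔ E χ = β := by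
      intro χ β
      rw [hval]
      split_ifs with h <;> simp [h, hp.ne_one]
    refine ⟨fun χ _ => ?_, fun χ _ β m hm' hd => ?_, fun χ χ' _ _ β m m' h1 h2 h3 h4 => ?_,
      fun β => ?_⟩
    · refine ⟨E χ, ⟨_, (hm _ _ _).mpr rfl, (hnd _ _).mpr rfl⟩, ?_⟩
      rintro β ⟨m, h1, h2⟩
      rw [← (hm _ _ _).mp h1] at h2
      exact ((hnd _ _).mp h2).symm
    · rw [← (hm _ _ _).mp hm'] at hd ⊢
      rw [hval, if_pos ((hnd _ _).mp hd)]
      exact Or.inl rfl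
    · rw [← (hm _ _ _).mp h1] at h2
      rw [← (hm _ _ _).mp h3] at h4
      exact hE (((hnd _ _).mp h2).trans ((hnd _ _).mp h4).symm)
    · have hsurj : Function.Surjective E := fun β =>
        ⟨⟨(β : C → ℂ) ∘ e.symm, CfsgLib.CharNormal.isIrr_comp_mulEquiv β.2 e.symm⟩,
          Subtype.ext (funext fun c => by simp [E])⟩
      obtain ⟨χ, rfl⟩ := hsurj β
      refine ⟨χ, fun s hs g g' he => ?_, _, (hm _ _ _).mpr rfl, (hnd _ _).mpr rfl⟩
      have hs1 : s = 1 := Subgroup.mem_bot.mp (Subgroup.card_eq_one.mp hS1 ▸ hs)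
      exact congrArg _ (Subtype.ext (by simp [he, hs1]))
  refine ⟨fun χ h => ?_, fun χ h β m h1 h2 => ?_, fun χ χ' h h' β m m' h1 h2 h3 h4 => ?_,
    fun β => ?_⟩
  · obtain ⟨β, hβ⟩ := CfsgLib.CharNormal.exists_mult_of_invariant hS hι hfix hG ((hinv χ).mpr h)
    refine ⟨β, ⟨_, (hm _ _ _).mpr rfl, hβ⟩, ?_⟩
    rintro γ ⟨m, h1, h2⟩
    rw [← (hm _ _ _).mp h1] at h2
    exact CfsgLib.CharNormal.mult_unique hS hι hfix hG ((hinv χ).mpr h) h2 hβ
  · rw [← (hm _ _ _).mp h1] at h2 ⊢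
    exact CfsgLib.CharNormal.mult_modEq hS hι hfix hG ((hinv χ).mpr h) h2
  · rw [← (hm _ _ _).mp h1] at h2
    rw [← (hm _ _ _).mp h3] at h4
    exact CfsgLib.CharNormal.invariant_unique hS hι hfix hG ((hinv χ).mpr h) ((hinv χ').mpr h') h2 h4
  · obtain ⟨χ, hχ, hd⟩ := CfsgLib.CharNormal.exists_invariant_mult hS hι hfix hG β
    exact ⟨χ, (hinv χ).mp hχ, _, (hm _ _ _).mpr rfl, hd⟩

end Cfsg.Agent.S4444
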