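import Cfsg.Statements.S4446
import Cfsg.Agent.S4445
import Cfsg.Agent.Lib.CharNormal.GlaubermanCyclic

set_option autoImplicit false
open Cfsg

namespace Cfsg.Agent.S4446
open CfsgLib.Char CfsgLib.CharNormal.CyclicGlauberman

/-- Let the finite group Γ be generated by a normal subgroup G and a cyclic subgroup S of coprime orders, C = G ⊓ C(S), and let χ be an S-invariant irreducible character of G with canonical extension χ̂ to Γ (the extension whose determinantal order is coprime to the order of S). Then there are exactly one irreducible character β of C and one sign ε such that χ̂(c s) = ε β(c) for every c ∈ C and every generator s of S; this β is a constituent of the restriction of χ to C; distinct S-invariant χ give distinct β; and every irreducible character of C arises in this way. -/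
theorem result {Γ : Type*} [Group Γ] [Fintype Γ] (G S : Subgroup Γ) [Fintype G] (hnorm : ∀ s ∈ S, ∀ g ∈ G, s * g * s⁻¹ ∈ G) (hcop : (Nat.card G).Coprime (Nat.card S)) (htop : G ⊔ S = ⊤) (hcyc : IsCyclic S) (C : Subgroup Γ) [Fintype C] (hC : C = G ⊓ Subgroup.centralizer (S : Set Γ)) (hCG : C ≤ G) : (∀ (χ : Cfsg.IrrCharacter G) (χh : Cfsg.IrrCharacter Γ), (∀ s ∈ S, ∀ g g' : G, (g' : Γ) = s * g * s⁻¹ → (χ : G → ℂ) g' = (χ : G → ℂ) g) → (∀ g : G, (χh : Γ → ℂ) g = (χ : G → ℂ) g) → (Cfsg.detOrder (χh : Γ → ℂ)).Coprime (Nat.card S) → (∃! βε : Cfsg.IrrCharacter C × ℤ, (βε.2 = 1 ∨ βε.2 = -1) ∧ ∀ c : C, ∀ s : Γ, Subgroup.zpowers s = S → (χh : Γ → ℂ) ((c : Γ) * s) = (βε.2 : ℂ) * (βε.1 : C → ℂ) c) ∧ ∀ β : Cfsg.IrrCharacter C, ∀ ε : ℤ, (ε = 1 ∨ ε = -1) → (∀ c : C, ∀ s : Γ, Subgroup.zpowers s = S → (χh : Γ → ℂ) ((c : Γ) * s) = (ε : ℂ) * (β : C → ℂ) c) → Cfsg.classInner (fun c : C => (χ : G →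 ℂ) ⟨c, hCG c.2⟩) (β : C → ℂ) ≠ 0) ∧ (∀ (χ χ' : Cfsg.IrrCharacter G) (χh χh' : Cfsg.IrrCharacter Γ), (∀ s ∈ S, ∀ g g' : G, (g' : Γ) = s * g * s⁻¹ → (χ : G → ℂ) g' = (χ : G → ℂ) g) → (∀ s ∈ S, ∀ g g' : G, (g' : Γ) = s * g * s⁻¹ → (χ' : G → ℂ) g' = (χ' : G → ℂ) g) → (∀ g : G, (χh : Γ → ℂ) g = (χ : G → ℂ) g) → (∀ g : G, (χh' : Γ → ℂ) g = (χ' : G → ℂ) g) → (Cfsg.detOrder (χh : Γ → ℂ)).Coprime (Nat.card S) → (Cfsg.detOrder (χh' : Γ → ℂ)).Coprime (Nat.card S) → ∀ β : Cfsg.IrrCharacter C, ∀ ε ε' : ℤ, (ε = 1 ∨ ε = -1) → (ε' = 1 ∨ ε' = -1) → (∀ c : C, ∀ s : Γ, Subgroup.zpowers s = S → (χh : Γ → ℂ) ((c : Γ) * s) = (ε : ℂ) * (β : C → ℂ) c) → (∀ c : C, ∀ s : Γ, Subgroup.zpowers s = S → (χh' : Γ → ℂ) ((c : Γ) * s) = (ε' : ℂ) * (β : C → ℂ) c) → χ = χ') ∧ (∀ β : Cfsg.IrrCharacter C, ∃ (χ : Cfsg.IrrCharacter G) (χh : Cfsg.IrrCharacter Γ) (ε : ℤ), (∀ s ∈ S, ∀ g g' : G, (g' : Γ) = s * g * s⁻¹ → (χ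 : G → ℂ) g' = (χ : G → ℂ) g) ∧ (∀ g : G, (χh : Γ → ℂ) g = (χ : G → ℂ) g) ∧ (Cfsg.detOrder (χh : Γ → ℂ)).Coprime (Nat.card S) ∧ (ε = 1 ∨ ε = -1) ∧ ∀ c : C, ∀ s : Γ, Subgroup.zpowers s = S → (χh : Γ → ℂ) ((c : Γ) * s) = (ε : ℂ) * (β : C → ℂ) c) := by
  classical
  obtain ⟨s, hsS⟩ := (Subgroup.isCyclic_iff_exists_zpowers_eq_top S).1 hcyc
  haveI hGn : G.Normal := by
    refine Subgroup.normalizer_eq_top_iff.1 (top_unique ?_)
    rw [← htop]
    exact sup_le Subgroup.le_normalizer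
      (Subgroup.le_normalizer_iff.2 fun s hs g hg => hnorm s hs g hg)
  have hidx : G.index = Nat.card S := by
    refine Subgroup.IsComplement'.index_eq_card (Subgroup.isComplement'_of_disjoint_and_mul_eq_univ
      (Subgroup.disjoint_of_coprime_natCard hcop) ?_).symm
    rw [← Subgroup.normal_mul, htop, Subgroup.coe_top]
  have hord : orderOf s = G.index := by rw [hidx, ← hsS, Nat.card_zpowers]
  have hcop' : (Nat.card G).Coprime G.index := hidx.symm ▸ hcop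
  have hsup : G ⊔ Subgroup.zpowers s = ⊤ := hsS.symm ▸ htop
  have hCfix : C = fix G s := by
    rw [hC]
    refine le_antisymm (fun x hx => mem_fix.2 ⟨hx.1, ?_⟩)
      (fun x hx => ⟨(mem_fix.1 hx).1, Subgroup.mem_centralizer_iff.2 fun t ht => ?_⟩)
    · exact (Subgroup.mem_centralizer_iff.1 hx.2 s (hsS ▸ Subgroup.mem_zpowers s)).symm
    · rw [← hsS] at ht
      obtain ⟨i, rfl⟩ := ht
      exact (Commute.zpow_right (mem_fix.1 hx).2 i).symm.eq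
  subst hCfix
  have hinv : ∀ χ : Cfsg.IrrCharacter G,
      (∀ s ∈ S, ∀ g g' : G, (g' : Γ) = s * g * s⁻¹ → (χ : G → ℂ) g' = (χ : G → ℂ) g) →
      ∀ (x : Γ) (g : G), (χ : G → ℂ) ⟨x * g * x⁻¹, hGn.conj_mem (g : Γ) g.2 x⟩ = (χ : G → ℂ) g := by
    intro χ hχ x g
    have hx : x ∈ ((G ⊔ S : Subgroup Γ) : Set Γ) := by rw [htop]; exact Subgroup.mem_top x
    rw [Subgroup.normal_mul] at hx
    obtain ⟨a, ha, t, ht, rfl⟩ := hx
    have h1 := hχ t ht g ⟨t * g * t⁻¹, hGn.conj_mem (g : Γ) g.2 t⟩ rfl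
    rw [← h1, ← isClassFunction_of_isIrr χ.2 ⟨t * g * t⁻¹, hGn.conj_mem (g : Γ) g.2 t⟩ ⟨a, ha⟩]
    exact congrArg (χ : G → ℂ) (Subtype.ext (by
      show a * t * (g : Γ) * (a * t)⁻¹ = a * (t * g * t⁻¹) * a⁻¹
      group))
  have hcan : ∀ (χ : Cfsg.IrrCharacter G) (χh : Cfsg.IrrCharacter Γ),
      (∀ g : G, (χh : Γ → ℂ) g = (χ : G → ℂ) g) →
      (Cfsg.detOrder (χh : Γ → ℂ)).Coprime (Nat.card S) → IsCanonical G (χh : Γ → ℂ) :=
    fun χ χh hr hd => ⟨χh.2, by rw [show (fun g : G => (χh : Γ → ℂ) g) = (χ : G → ℂ) from funext hr]; exact χ.2,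
      hidx.symm ▸ hd⟩
  have hval : ∀ χh : Γ → ℂ, IsCanonical G χh → ∀ c : fix G s, ∀ t : Γ, Subgroup.zpowers t = S →
      χh ((c : Γ) * t) = χh ((c : Γ) * s) := by
    intro χh hχh c t ht
    have ht' : t ∈ Subgroup.zpowers s := by rw [hsS, ← ht]; exact Subgroup.mem_zpowers t
    obtain ⟨k, rfl⟩ := (isOfFinOrder_of_finite s).mem_powers_iff_mem_zpowers.2 ht'
    refine value_pow hcop' hord hχh ?_ (mem_fix.1 c.2).1 (mem_fix.1 c.2).2
    have h2 : orderOf (s ^ k) = orderOf s := by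
      rw [← Nat.card_zpowers, ← Nat.card_zpowers, hsS, ht]
    rw [orderOf_pow] at h2
    rw [Nat.Coprime, Nat.gcd_comm]
    exact (Nat.div_eq_self.1 h2).resolve_left (orderOf_pos s).ne'
  have huniq : ∀ {β β' : Cfsg.IrrCharacter (fix G s)} {ε ε' : ℤ}, (ε = 1 ∨ ε = -1) → (ε' = 1 ∨ ε' = -1) →
      (∀ c : fix G s, (ε : ℂ) * (β : fix G s → ℂ) c = (ε' : ℂ) * (β' : fix G s → ℂ) c) → β = β' ∧ ε = ε' := by
    intro β β' ε ε' hε hε' h
    have hb : β = β' := by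
      by_contra hne
      have e : (ε : ℂ) • (β : fix G s → ℂ) = (ε' : ℂ) • (β' : fix G s → ℂ) := funext h
      have := congrArg (fun f => Cfsg.classInner f (β : fix G s → ℂ)) e
      simp only [classInner_smul_left, classInner_irr_self β.2,
        classInner_irr_ne β'.2 β.2 (fun e => hne (Subtype.ext e.symm)), mul_one, mul_zero,
        Int.cast_eq_zero] at this
      rcases hε with rfl | rfl <;> simp at this
    subst hb
    exact ⟨rfl, by exact_mod_cast mul_right_cancel₀ (irr_one_ne_zero β.2) (h 1)⟩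
  have hmain : ∀ (χ : Cfsg.IrrCharacter G) (χh : Cfsg.IrrCharacter Γ),
      (∀ g : G, (χh : Γ → ℂ) g = (χ : G → ℂ) g) →
      (Cfsg.detOrder (χh : Γ → ℂ)).Coprime (Nat.card S) →
      ∃ (β : Cfsg.IrrCharacter (fix G s)) (ε : ℤ), (ε = 1 ∨ ε = -1) ∧ ∀ c : fix G s, ∀ t : Γ,
        Subgroup.zpowers t = S → (χh : Γ → ℂ) ((c : Γ) * t) = (ε : ℂ) * (β : fix G s → ℂ) c := by
    intro χ χh hr hd
    obtain ⟨β, ε, hε, h⟩ := exists_pm hcop' hord hsup (hcan χ χh hr hd)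
    exact ⟨β, ε, hε, fun c t ht => (hval _ (hcan χ χh hr hd) c t ht).trans (h c)⟩
  have hinj : ∀ (χ χ' : Cfsg.IrrCharacter G) (χh χh' : Cfsg.IrrCharacter Γ),
      (∀ g : G, (χh : Γ → ℂ) g = (χ : G → ℂ) g) → (∀ g : G, (χh' : Γ → ℂ) g = (χ' : G → ℂ) g) →
      (Cfsg.detOrder (χh : Γ → ℂ)).Coprime (Nat.card S) → (Cfsg.detOrder (χh' : Γ → ℂ)).Coprime (Nat.card S) →
      ∀ β : Cfsg.IrrCharacter (fix G s), ∀ ε ε' : ℤ, (ε = 1 ∨ ε = -1) → (ε' = 1 ∨ ε' = -1) →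
      (∀ c : fix G s, ∀ t : Γ, Subgroup.zpowers t = S → (χh : Γ → ℂ) ((c : Γ) * t) = (ε : ℂ) * (β : fix G s → ℂ) c) →
      (∀ c : fix G s, ∀ t : Γ, Subgroup.zpowers t = S → (χh' : Γ → ℂ) ((c : Γ) * t) = (ε' : ℂ) * (β : fix G s → ℂ) c) →
      χ = χ' := by
    intro χ χ' χh χh' hr hr' hd hd' β ε ε' hε hε' h h'
    by_contra hne
    have h0 := classInner_twisted_ne hcop' hord hsup (hcan χ χh hr hd) (hcan χ' χh' hr' hd') fun e =>
      hne (Subtype.ext (funext fun g => by rw [← hr, ← hr']; exact congrFun e g))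
    rw [show twisted s (fix G s) (χh : Γ → ℂ) = (ε : ℂ) • (β : fix G s → ℂ) from funext fun c => h c s hsS,
      show twisted s (fix G s) (χh' : Γ → ℂ) = (ε' : ℂ) • (β : fix G s → ℂ) from funext fun c => h' c s hsS,
      classInner_smul_left, classInner_smul_right, classInner_irr_self β.2] at h0
    rcases hε with rfl | rfl <;> rcases hε' with rfl | rfl <;> simp at h0
  refine ⟨fun χ χh _ hr hd => ?_, fun χ χ' χh χh' _ _ hr hr' hd hd' => hinj χ χ' χh χh' hr hr' hd hd', ?_⟩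
  · obtain ⟨β, ε, hε, h⟩ := hmain χ χh hr hd
    refine ⟨⟨(β, ε), ⟨hε, h⟩, fun p hp => ?_⟩, fun β' ε' hε' h' => ?_⟩
    · obtain ⟨h1, h2⟩ := huniq hp.1 hε fun c => (hp.2 c s hsS).symm.trans (h c s hsS)
      exact Prod.ext h1 h2
    · rw [show (fun c : fix G s => (χ : G → ℂ) ⟨c, hCG c.2⟩) = fun c : fix G s => (χh : Γ → ℂ) c from
        funext fun c => (hr ⟨c, hCG c.2⟩).symm]
      refine classInner_res_ne_zero hcop' hord (hcan χ χh hr hd) β'.2 ?_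
      rw [show twisted s (fix G s) (χh : Γ → ℂ) = (ε' : ℂ) • (β' : fix G s → ℂ) from funext fun c => h' c s hsS,
        classInner_smul_left, classInner_irr_self β'.2, mul_one]
      rcases hε' with rfl | rfl <;> norm_num
  · intro β
    let I := {χ : Cfsg.IrrCharacter G //
      ∀ s ∈ S, ∀ g g' : G, (g' : Γ) = s * g * s⁻¹ → (χ : G → ℂ) g' = (χ : G → ℂ) g}
    have hext : ∀ χ : I, ∃ χh : Cfsg.IrrCharacter Γ, (∀ g : G, (χh : Γ → ℂ) g = (χ.1 : G → ℂ) g) ∧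
        (Cfsg.detOrder (χh : Γ → ℂ)).Coprime (Nat.card S) := fun χ => by
      obtain ⟨f, h1, h2, h3⟩ := exists_ext χ.1.2 hcop' (hinv χ.1 χ.2)
      exact ⟨⟨f, h1⟩, h2, hidx ▸ h3⟩
    choose ext hr hd using hext
    choose b e he hb using fun χ : I => hmain χ.1 (ext χ) (hr χ) (hd χ)
    have hbij : Function.Bijective b := by
      refine (Nat.bijective_iff_injective_and_card _).2 ⟨fun χ χ' heq => Subtype.ext
        (hinj χ.1 χ'.1 (ext χ) (ext χ') (hr χ) (hr χ') (hd χ) (hd χ') (b χ) (e χ) (e χ') (he χ) (he χ')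
          (hb χ) (heq ▸ hb χ')), ?_⟩
      rw [Cfsg.Agent.S4445.result G S hnorm hcop
        (Group.isSolvable_of_comm hcyc.commGroup.mul_comm),
        card_irr_eq_card_conjClasses]
      exact card_invariant_classes hcop' hord hsS.symm
    obtain ⟨χ, rfl⟩ := hbij.2 β
    exact ⟨χ.1, ext χ, e χ, χ.2, hr χ, hd χ, he χ, hb χ⟩

end Cfsg.Agent.S4446
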