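import Cfsg.Statements.S4447
import Cfsg.Agent.Lib.CharNormal.AbelianQuotient
import Cfsg.Agent.Lib.CharNormal.ConjAut
import Cfsg.Agent.Lib.Solvable.CoprimeAction

set_option autoImplicit false
open Cfsg

set_option maxHeartbeats 400000

namespace Cfsg.Agent.S4447

/-- Inside a finite group Γ let S normalise G and also normalise a normal subgroup N of G, with the order of S coprime to the index of N in G and S or G/N solvable. Then for every S-invariant irreducible character χ of G, the restriction of χ to N has an S-invariant irreducible constituent. -/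
theorem result {Γ : Type*} [Group Γ] [Fintype Γ] (G S N : Subgroup Γ) [Fintype G] [Fintype N] (hnorm : ∀ s ∈ S, ∀ g ∈ G, s * g * s⁻¹ ∈ G) (hNG : N ≤ G) [hNn : (N.subgroupOf G).Normal] (hNS : ∀ s ∈ S, ∀ n ∈ N, s * n * s⁻¹ ∈ N) (hcop : (N.relIndex G).Coprime (Nat.card S)) (hsolv : Group.IsSolvable S ∨ Group.IsSolvable (G ⧸ N.subgroupOf G)) (χ : Cfsg.IrrCharacter G) (hinv : (∀ s ∈ S, ∀ g g' : G, (g' : Γ) = s * g * s⁻¹ → (χ : G → ℂ) g' = (χ : G → ℂ) g)) : ∃ θ : Cfsg.IrrCharacter N, Cfsg.classInner (fun n : N => (χ : G → ℂ) ⟨n, hNG n.2⟩) (θ : N → ℂ) ≠ 0 ∧ (∀ s ∈ S, ∀ g g' : N, (g' : Γ) = s * g * s⁻¹ → (θ : N → ℂ) g' = (θ : N → ℂ) g) := by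
  classical
  -- the group normalising both `G` and `N`
  let W : Subgroup Γ := Subgroup.normalizer (G : Set Γ) ⊓ Subgroup.normalizer (N : Set Γ)
  have hGW : G ≤ W := le_inf Subgroup.le_normalizer
    ((Subgroup.normal_subgroupOf_iff_le_normalizer hNG).mp hNn)
  have hSnorm : ∀ (H : Subgroup Γ), (∀ s ∈ S, ∀ h ∈ H, s * h * s⁻¹ ∈ H) →
      S ≤ Subgroup.normalizer (H : Set Γ) := fun H hH s hs => by
    rw [Subgroup.mem_normalizer_iff]
    refine fun h => ⟨fun hh => hH s hs h hh, fun hh => ?_⟩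
    simpa [mul_assoc] using hH s⁻¹ (S.inv_mem hs) _ hh
  have hSW : S ≤ W := le_inf (hSnorm G hnorm) (hSnorm N hNS)
  have hWN : ∀ w ∈ W, ∀ n ∈ N, w * n * w⁻¹ ∈ N := fun w hw n hn =>
    (Subgroup.mem_normalizer_iff.mp hw.2 n).mp hn
  let φ := CfsgLib.CharNormal.conjAut N W hWN
  let act : MulAction W (Cfsg.IrrCharacter N) := CfsgLib.CharNormal.irrAction φ
  have hsm : ∀ (w : W) (η : Cfsg.IrrCharacter N) (n n' : N),
      (n' : Γ) = (w : Γ)⁻¹ * n * w →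
        ((w • η : Cfsg.IrrCharacter N) : N → ℂ) n = (η : N → ℂ) n' := by
    intro w η n n' hn'
    show (η : N → ℂ) (φ w⁻¹ n) = _
    refine congrArg _ (Subtype.ext ?_)
    rw [hn', CfsgLib.CharNormal.coe_conjAut]
    push_cast
    rw [inv_inv]
  let N' := N.subgroupOf W
  have hN' : N'.Normal := ⟨fun n hn w => hWN w w.2 _ hn⟩
  have hker : ∀ n ∈ N', MulAction.toPermHom W (Cfsg.IrrCharacter N) n = 1 := by
    intro n hn
    refine Equiv.ext fun η => Subtype.ext (funext fun x => ?_)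
    show ((n • η : Cfsg.IrrCharacter N) : N → ℂ) x = (η : N → ℂ) x
    let m : N := ⟨(n : W), hn⟩
    rw [hsm n η x (m⁻¹ * x * m) rfl]
    simpa using CfsgLib.Char.isClassFunction_of_isIrr η.2 x m⁻¹
  let hom := QuotientGroup.lift N' (MulAction.toPermHom W (Cfsg.IrrCharacter N)) hker
  let qact : MulAction (W ⧸ N') (Cfsg.IrrCharacter N) := MulAction.compHom _ hom
  have hq : ∀ (w : W) (η : Cfsg.IrrCharacter N), (w : W ⧸ N') • η = w • η := fun _ _ => rfl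
  let π := QuotientGroup.mk' N'
  let A := (S.subgroupOf W).map π
  let K := (G.subgroupOf W).map π
  have hGn : (G.subgroupOf W).Normal :=
    (Subgroup.normal_subgroupOf_iff_le_normalizer hGW).mpr inf_le_left
  have hKn : K.Normal := hGn.map π (QuotientGroup.mk'_surjective N')
  have hAK : A ≤ Subgroup.normalizer (K : Set (W ⧸ N')) := by
    rw [Subgroup.normalizer_eq_top_iff.mpr hKn]
    exact le_top
  have hcardA : Nat.card A ∣ Nat.card S :=
    (Subgroup.card_dvd_of_surjective _ ((π.subgroupMap_surjective (S.subgroupOf W)))).trans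
      (Nat.card_congr (Subgroup.subgroupOfEquivOfLe hSW).toEquiv).dvd
  have hcardK : Nat.card K = N.relIndex G := by
    show Nat.card ((G.subgroupOf W).map π) = _
    rw [← Subgroup.relIndex_ker, QuotientGroup.ker_mk']
    exact Subgroup.relIndex_subgroupOf hGW
  have hcopAK : (Nat.card A).Coprime (Nat.card K) := by
    rw [hcardK]
    exact hcop.symm.coprime_dvd_left hcardA
  have hsol : Group.IsSolvable A ∨ Group.IsSolvable K := by
    rcases hsolv with h | h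
    · left
      have : Group.IsSolvable (S.subgroupOf W) :=
        Group.isSolvable_of_surjective (f := (Subgroup.subgroupOfEquivOfLe hSW).symm.toMonoidHom)
          (Subgroup.subgroupOfEquivOfLe hSW).symm.surjective
      exact Group.isSolvable_of_surjective (π.subgroupMap_surjective (S.subgroupOf W))
    · right
      let f : G →* K := (π.comp (Subgroup.inclusion hGW)).codRestrict K
        fun g => Subgroup.mem_map.mpr ⟨_, g.2, rfl⟩
      have hf : N.subgroupOf G ≤ f.ker := fun g hg => Subtype.ext ((QuotientGroup.eq_one_iff _).mpr hg)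
      refine Group.isSolvable_of_surjective (f := QuotientGroup.lift _ f hf) fun k => ?_
      obtain ⟨w, hw, he⟩ := Subgroup.mem_map.mp k.2
      exact ⟨((⟨w, hw⟩ : G) : G ⧸ N.subgroupOf G), Subtype.ext he⟩
  -- a constituent
  have hres : Cfsg.IsCharacter N (fun n : N => (χ : G → ℂ) ⟨n, hNG n.2⟩) :=
    CfsgLib.Char.isCharacter_comp (CfsgLib.Char.isCharacter_of_isIrr χ.2) (Subgroup.inclusion hNG)
  obtain ⟨θ₀, hθ₀, h0⟩ := CfsgLib.Char.exists_constituent hres fun h =>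
    CfsgLib.Char.irr_one_ne_zero χ.2 (congrFun h 1)
  let Over : Cfsg.IrrCharacter N → Prop := fun η =>
    Cfsg.classInner (fun n : N => (χ : G → ℂ) ⟨n, hNG n.2⟩) (η : N → ℂ) ≠ 0
  have hχN : ∀ (w : W), (∀ g g' : G, (g' : Γ) = (w : Γ)⁻¹ * g * w →
      (χ : G → ℂ) g' = (χ : G → ℂ) g) → ∀ η, Over η → Over (w • η) := by
    intro w hw η hη h
    refine hη (Eq.trans ?_ h)
    let e : N ≃* N := φ w⁻¹
    have h1 : ((w • η : Cfsg.IrrCharacter N) : N → ℂ) = (η : N → ℂ) ∘ e := rfl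
    have h2 : (fun n : N => (χ : G → ℂ) ⟨n, hNG n.2⟩) =
        (fun n : N => (χ : G → ℂ) ⟨n, hNG n.2⟩) ∘ e := by
      funext n
      refine (hw ⟨n, hNG n.2⟩ _ ?_).symm
      show ((φ w⁻¹ n : N) : Γ) = _
      rw [CfsgLib.CharNormal.coe_conjAut]
      push_cast
      rw [inv_inv]
    rw [h1]
    conv_rhs => rw [h2]
    exact (CfsgLib.Char.classInner_comp_mulEquiv e _ _).symm
  have hwS : ∀ (w : W), (w : Γ) ∈ S → ∀ g g' : G, (g' : Γ) = (w : Γ)⁻¹ * g * w →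
      (χ : G → ℂ) g' = (χ : G → ℂ) g := fun w hw g g' he =>
    hinv (w : Γ)⁻¹ (S.inv_mem hw) g g' (by rw [he, inv_inv])
  have hwG : ∀ (w : W), (w : Γ) ∈ G → ∀ g g' : G, (g' : Γ) = (w : Γ)⁻¹ * g * w →
      (χ : G → ℂ) g' = (χ : G → ℂ) g := fun w hw g g' he => by
    rw [← CfsgLib.Char.isClassFunction_of_isIrr χ.2 g (⟨(w : Γ), hw⟩ : G)⁻¹]
    exact congrArg _ (Subtype.ext (by simp [he]))
  have hN'' := Fintype.ofFinite (N.subgroupOf G)
  let e₀ : N.subgroupOf G ≃* N := Subgroup.subgroupOfEquivOfLe hNG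
  have hA : ∀ a ∈ A, ∃ k ∈ K, a • (⟨θ₀, hθ₀⟩ : Cfsg.IrrCharacter N) = k • ⟨θ₀, hθ₀⟩ := by
    rintro _ ⟨w, hw, rfl⟩
    have hover := hχN w (hwS w hw) ⟨θ₀, hθ₀⟩ h0
    obtain ⟨g, hg⟩ := CfsgLib.CharNormal.exists_conj_of_constituents (N.subgroupOf G) χ.2
      (CfsgLib.CharNormal.isIrr_comp_mulEquiv hθ₀ e₀)
      (CfsgLib.CharNormal.isIrr_comp_mulEquiv (w • ⟨θ₀, hθ₀⟩ : Cfsg.IrrCharacter N).2 e₀)
      (fun h => h0 (Eq.trans (CfsgLib.Char.classInner_comp_mulEquiv e₀ (fun n : N => (χ : G → ℂ) ⟨n, hNG n.2⟩) θ₀).symm h))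
      (fun h => hover (Eq.trans (CfsgLib.Char.classInner_comp_mulEquiv e₀ (fun n : N => (χ : G → ℂ) ⟨n, hNG n.2⟩) ((w • (⟨θ₀, hθ₀⟩ : Cfsg.IrrCharacter N) : Cfsg.IrrCharacter N) : N → ℂ)).symm h))
    let v : W := ⟨(g : Γ)⁻¹, hGW (G.inv_mem g.2)⟩
    refine ⟨π v, Subgroup.mem_map.mpr ⟨v, G.inv_mem g.2, rfl⟩, ?_⟩
    show (w : W ⧸ N') • _ = (v : W ⧸ N') • _
    rw [hq, hq]
    refine Subtype.ext (funext fun n => ?_)
    obtain ⟨m, rfl⟩ := e₀.surjective n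
    have h := congrFun hg m
    simp only [Function.comp_apply] at h
    rw [← h, hsm v ⟨θ₀, hθ₀⟩ (e₀ m) (e₀ ⟨g * (m : G) * g⁻¹, hNn.conj_mem m m.2 g⟩) (by
      show ((g : Γ) * ((m : G) : Γ) * (g : Γ)⁻¹) = ((g : Γ)⁻¹)⁻¹ * ((m : G) : Γ) * (g : Γ)⁻¹
      rw [inv_inv])]
    rfl
  obtain ⟨k, hk, hfix⟩ :=
    CfsgLib.Solvable.exists_fixed_point A K hAK hcopAK hsol (⟨θ₀, hθ₀⟩ : Cfsg.IrrCharacter N) hA
  obtain ⟨v, hv, rfl⟩ := Subgroup.mem_map.mp hk
  refine ⟨v • (⟨θ₀, hθ₀⟩ : Cfsg.IrrCharacter N), hχN v (hwG v hv) (⟨θ₀, hθ₀⟩ : Cfsg.IrrCharacter N) h0, fun s hs g g' he => ?_⟩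
  let w : W := ⟨s, hSW hs⟩
  have h1 : w • (v • (⟨θ₀, hθ₀⟩ : Cfsg.IrrCharacter N)) = v • ⟨θ₀, hθ₀⟩ :=
    hfix (π w) (Subgroup.mem_map.mpr ⟨w, hs, rfl⟩)
  have h2 := congrFun (congrArg Subtype.val h1) g'
  rw [hsm w _ g' g (by rw [he]; simp [w, mul_assoc])] at h2
  exact h2.symm

end Cfsg.Agent.S4447
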