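import Cfsg.Statements.S4448
import Cfsg.Agent.Lib.CharNormal.AbelianQuotient
import Cfsg.Agent.Lib.CharNormal.ConjAut

set_option autoImplicit false
open Cfsg

namespace Cfsg.Agent.S4448

/-- Inside a finite group Γ let S normalise G and also normalise a normal subgroup N of G, with the order of S coprime to the index of N in G and G/N solvable. Then for every S-invariant irreducible character ϑ of N, the induced character ϑ^G has an S-invariant irreducible constituent. -/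
theorem result {Γ : Type*} [Group Γ] [Fintype Γ] (G S N : Subgroup Γ) [Fintype G] [Fintype N] (hnorm : ∀ s ∈ S, ∀ g ∈ G, s * g * s⁻¹ ∈ G) (hNG : N ≤ G) [hNn : (N.subgroupOf G).Normal] (hNS : ∀ s ∈ S, ∀ n ∈ N, s * n * s⁻¹ ∈ N) (hcop : (N.relIndex G).Coprime (Nat.card S)) (hsolv : Group.IsSolvable (G ⧸ N.subgroupOf G)) (θ : Cfsg.IrrCharacter N) (hinv : (∀ s ∈ S, ∀ g g' : N, (g' : Γ) = s * g * s⁻¹ → (θ : N → ℂ) g' = (θ : N → ℂ) g)) : ∃ χ : Cfsg.IrrCharacter G, Cfsg.classInner (fun n : N => (χ : G → ℂ) ⟨n, hNG n.2⟩) (θ : N → ℂ) ≠ 0 ∧ (∀ s ∈ S, ∀ g g' : G, (g' : Γ) = s * g * s⁻¹ → (χ : G → ℂ) g' = (χ : G → ℂ) g) := by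
  classical
  let φ := CfsgLib.CharNormal.conjAut G S hnorm
  let N' := N.subgroupOf G
  have := Fintype.ofFinite N'
  have hstab : ∀ s, ∀ n ∈ N', φ s n ∈ N' := fun s n hn => hNS s s.2 n hn
  let e : N' ≃* N := Subgroup.subgroupOfEquivOfLe hNG
  obtain ⟨χ, hχ, h0⟩ := CfsgLib.CharNormal.exists_invariant_over_of_solvable_quot φ N' hsolv hstab
    (⊥ : Subgroup S) (fun s hs => ⟨1, one_mem _, fun g => by
      rw [Subgroup.mem_bot.mp hs, map_one]; simp⟩)
    (by rw [Subgroup.index_bot]; exact hcop)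
    ⟨(θ : N → ℂ) ∘ e, CfsgLib.CharNormal.isIrr_comp_mulEquiv θ.2 e⟩
    (fun s n => hinv s s.2 (e n) _ rfl)
  refine ⟨χ, fun h => h0 ?_, (CfsgLib.CharNormal.forall_conjAut_iff G S hnorm _).mp hχ⟩
  exact (CfsgLib.Char.classInner_comp_mulEquiv e _ _).trans h

end Cfsg.Agent.S4448
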