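import Cfsg.Statements.S4451
import Cfsg.Agent.Lib.CharNormal.CyclicFreeAction
import Cfsg.Agent.Lib.CharBlocks.Degree
import Cfsg.Agent.Lib.Blocks.Functional

set_option autoImplicit false
open Cfsg

namespace Cfsg.Agent.S4451

/-- Let the finite group Γ be generated by a normal subgroup G and a cyclic subgroup S of coprime orders such that every non-identity element of S has the same centraliser C = G ⊓ C(S) in G. Let χ be an S-invariant irreducible character of G, χ̂ its canonical extension to Γ (determinantal order coprime to the order of S), and β the irreducible character of C with χ̂(c s) = ε₀ β(c) for c ∈ C and generators s of S (ε₀ = ±1). Then there are a sign ε = ±1, which may differ from ε₀, and a linear character μ of S with μ² = 1, such that: (a) χ̂(c x) = ε β(c) μ(x) for all c ∈ C and all x ∈ S other than 1; (b) the restriction of χ to C equals |S|·ϑ + ε β for some character ϑ of C or ϑ = 0; (c) |S| divides χ(1)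 − ε β(1). -/
theorem result {Γ : Type*} [Group Γ] [Fintype Γ] (G S : Subgroup Γ) [Fintype G] (hnorm : ∀ s ∈ S, ∀ g ∈ G, s * g * s⁻¹ ∈ G) (hcop : (Nat.card G).Coprime (Nat.card S)) (htop : G ⊔ S = ⊤) (hcyc : IsCyclic S) (C : Subgroup Γ) [Fintype C] (hC : C = G ⊓ Subgroup.centralizer (S : Set Γ)) (hCG : C ≤ G) (hfpf : ∀ x ∈ S, x ≠ 1 → G ⊓ Subgroup.centralizer ({x} : Set Γ) = C) (χ : Cfsg.IrrCharacter G) (hinv : (∀ s ∈ S, ∀ g g' : G, (g' : Γ) = s * g * s⁻¹ → (χ : G → ℂ) g' = (χ : G → ℂ) g)) (χh : Cfsg.IrrCharacter Γ) (hext : (∀ g : G, (χh : Γ → ℂ) g = (χ : G → ℂ) g)) (hdet : (Cfsg.detOrder (χh : Γ → ℂ)).Coprime (Nat.card S)) (β : Cfsg.IrrCharacter C) (ε₀ : ℤ) (hε₀ : ε₀ = 1 ∨ ε₀ = -1) (hβ : ∀ c : C, ∀ s : Γ, Subgroup.zpowers s = S → (χh : Γ → ℂ) ((c : Γ) * s) = (ε₀ : ℂ) * (β : C → ℂ) c) : ∃ ε : ℤ, (ε = 1 ∨ ε = -1) ∧ (∃ μ : S → ℂ, Cfsg.IsCharacter S μ ∧ μ 1 = 1 ∧ (∀ x : S, μ x * μ x = 1) ∧ ∀ c : C, ∀ x : S, x ≠ 1 → (χh : Γ → ℂ)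 ((c : Γ) * x) = (ε : ℂ) * (β : C → ℂ) c * μ x) ∧ (∃ ϑ : C → ℂ, Cfsg.IsCharacter C ϑ ∧ (fun c : C => (χ : G → ℂ) ⟨c, hCG c.2⟩) = fun c => (Nat.card S : ℂ) * ϑ c + (ε : ℂ) * (β : C → ℂ) c) ∧ (Nat.card S : ℤ) ∣ (Cfsg.charDegree (χ : G → ℂ) : ℤ) - ε * (Cfsg.charDegree (β : C → ℂ) : ℤ) := by

  classical
  obtain ⟨s, hsS⟩ := (Subgroup.isCyclic_iff_exists_zpowers_eq_top S).1 hcyc
  subst hsS
  haveI hGn : G.Normal := by
    refine Subgroup.normalizer_eq_top_iff.1 (top_unique ?_)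
    rw [← htop]
    exact sup_le Subgroup.le_normalizer
      (Subgroup.le_normalizer_iff.2 fun s hs g hg => hnorm s hs g hg)
  have hidx : G.index = Nat.card (Subgroup.zpowers s) := by
    refine Subgroup.IsComplement'.index_eq_card (Subgroup.isComplement'_of_disjoint_and_mul_eq_univ
      (Subgroup.disjoint_of_coprime_natCard hcop) ?_).symm
    rw [← Subgroup.normal_mul, htop, Subgroup.coe_top]
  have hord : orderOf s = G.index := by rw [hidx, Nat.card_zpowers]
  have hcop' : (Nat.card G).Coprime G.index := hidx.symm ▸ hcop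
  have hCfix : C = CfsgLib.CharNormal.CyclicGlauberman.fix G s := by
    rw [hC]
    congr 1
    refine le_antisymm (Subgroup.centralizer_le (by simp [Subgroup.mem_zpowers])) fun y hy => ?_
    rw [Subgroup.mem_centralizer_singleton_iff] at hy
    refine Subgroup.mem_centralizer_iff.mpr fun t ht => ?_
    obtain ⟨i, rfl⟩ := ht
    exact ((show Commute y s from hy).zpow_right i).symm.eq
  subst hCfix
  have hres : (fun g : G => (χh : Γ → ℂ) g) = (χ : G → ℂ) := funext hext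
  have hcan : CfsgLib.CharNormal.CyclicGlauberman.IsCanonical G (χh : Γ → ℂ) :=
    ⟨χh.2, hres.symm ▸ χ.2, hidx.symm ▸ hdet⟩
  by_cases hs1 : s = 1
  · subst hs1
    have htop' : Subgroup.zpowers (1 : Γ) = ⊥ := Subgroup.zpowers_one_eq_bot
    have hres1 : ∀ c : CfsgLib.CharNormal.CyclicGlauberman.fix G (1 : Γ),
        (χ : G → ℂ) ⟨c, hCG c.2⟩ = (ε₀ : ℂ) * (β : _ → ℂ) c := fun c => by
      rw [← hext, ← hβ c 1 rfl, mul_one]
    have he : ε₀ = 1 := by
      rcases hε₀ with h | h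
      · exact h
      exfalso
      have h1 := hres1 1
      rw [h] at h1
      have h2 : ((Cfsg.charDegree (χ : G → ℂ) : ℕ) : ℂ) +
          ((Cfsg.charDegree (β : CfsgLib.CharNormal.CyclicGlauberman.fix G (1 : Γ) → ℂ) : ℕ) : ℂ) = 0 := by
        rw [CfsgLib.CharBlocks.coe_charDegree_irr, CfsgLib.CharBlocks.coe_charDegree_irr]
        rw [show (χ : G → ℂ) 1 = (χ : G → ℂ) ⟨(1 : CfsgLib.CharNormal.CyclicGlauberman.fix G (1 : Γ)), hCG (one_mem _)⟩ from rfl, h1]
        push_cast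
        ring
      rw [← Nat.cast_add, Nat.cast_eq_zero] at h2
      exact CfsgLib.Blocks.charDegree_ne_zero χ (by omega)
    subst he
    refine ⟨1, Or.inl rfl, ⟨fun _ => 1, ?_, rfl, fun _ => by simp, fun c x hx => ?_⟩, ⟨0, CfsgLib.Char.isCharacter_zero, ?_⟩, ?_⟩
    · exact CfsgLib.Char.isCharacter_one
    · exact absurd (Subtype.ext (Subgroup.mem_bot.mp (htop' ▸ x.2) : (x : Γ) = 1)) hx
    · funext c
      rw [hres1 c]
      simp
    · rw [htop', Subgroup.card_bot, Nat.cast_one]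
      exact one_dvd _
  have hfix : ∀ x ∈ Subgroup.zpowers s, x ≠ 1 →
      CfsgLib.CharNormal.CyclicGlauberman.fix G x = CfsgLib.CharNormal.CyclicGlauberman.fix G s :=
    fun x hx hx1 => hfpf x hx hx1
  obtain ⟨ε, hε, ψ, hψ2, hval⟩ := CfsgLib.CyclicFreeAction.exists_sign hcop' hord hcan hfix β hε₀
    (fun c => hβ c s rfl) hs1
  have : Fintype (Subgroup.zpowers s) := Fintype.ofFinite _
  let μ : Subgroup.zpowers s → ℂ := fun x => ((ψ x : ℂˣ) : ℂ)
  have hμ : Cfsg.IsCharacter (Subgroup.zpowers s) μ := (CfsgLib.Char.isCharacter_linFun ψ).1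
  set n := Nat.card (Subgroup.zpowers s) with hn
  have hn0 : (n : ℂ) ≠ 0 := CfsgLib.Char.card_ne_zero'
  -- the multiplicities
  let ϑ : CfsgLib.CharNormal.CyclicGlauberman.fix G s → ℂ := fun c =>
    (n : ℂ)⁻¹ * ((χ : G → ℂ) ⟨c, hCG c.2⟩ - (ε : ℂ) * (β : _ → ℂ) c)
  have hmain : Cfsg.IsCharacter (CfsgLib.CharNormal.CyclicGlauberman.fix G s) ϑ := by
    refine CfsgLib.Char.isCharacter_of_classInner_nat (fun g h => ?_) fun β' hβ' => ?_
    · show (n : ℂ)⁻¹ * _ = (n : ℂ)⁻¹ * _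
      rw [CfsgLib.Char.isClassFunction_of_isIrr β.2 g h,
        show (⟨((h * g * h⁻¹ : CfsgLib.CharNormal.CyclicGlauberman.fix G s) : Γ), hCG (h * g * h⁻¹).2⟩ : G) =
          ⟨h, hCG h.2⟩ * ⟨g, hCG g.2⟩ * ⟨h, hCG h.2⟩⁻¹ from Subtype.ext rfl,
        CfsgLib.Char.isClassFunction_of_isIrr χ.2]
    obtain ⟨lam, hlam⟩ : ∃ lam : Subgroup.zpowers s →* ℂˣ, lam ≠ ψ := by
      by_contra hc
      push Not at hc
      have hg1 : (⟨s, Subgroup.mem_zpowers s⟩ : Subgroup.zpowers s) ≠ 1 := fun h => hs1 (congrArg Subtype.val h)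
      let _ : CommGroup (Subgroup.zpowers s) := IsCyclic.commGroup
      obtain ⟨φ, hφ⟩ := CommGroup.exists_apply_ne_one_of_hasEnoughRootsOfUnity _ ℂ hg1
      exact hφ (by rw [hc φ, ← hc 1]; rfl)
    have hP := CfsgLib.CharNormal.CyclicGlauberman.exists_intersection_character hcop' hord hcan hβ'
    obtain ⟨k, hk⟩ := CfsgLib.Char.classInner_char_nat hP (CfsgLib.Char.isCharacter_linFun lam).1
    refine ⟨k, ?_⟩
    rw [← hk, CfsgLib.Char.classInner_def (G := Subgroup.zpowers s), ← hn,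
      ← Finset.add_sum_erase _ _ (Finset.mem_univ (1 : Subgroup.zpowers s)),
      Finset.sum_congr rfl (g := fun x => (ε : ℂ) * Cfsg.classInner (β : _ → ℂ) β' *
        (μ x * (starRingEnd ℂ) (CfsgLib.Char.linFun lam x))) fun x hx => ?_, ← Finset.mul_sum]
    · have hs : ∑ x ∈ Finset.univ.erase (1 : Subgroup.zpowers s),
          μ x * (starRingEnd ℂ) (CfsgLib.Char.linFun lam x) = -1 := by
        rw [Finset.sum_erase_eq_sub (Finset.mem_univ _)]
        have h0 : ∑ x : Subgroup.zpowers s, μ x * (starRingEnd ℂ) (CfsgLib.Char.linFun lam x) = 0 := by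
          have h := CfsgLib.Char.classInner_irr_ne (G := Subgroup.zpowers s)
            (CfsgLib.Char.isIrr_of_linear (CfsgLib.Char.isCharacter_linFun ψ).1 (CfsgLib.Char.isCharacter_linFun ψ).2)
            (CfsgLib.Char.isIrr_of_linear (CfsgLib.Char.isCharacter_linFun lam).1 (CfsgLib.Char.isCharacter_linFun lam).2)
            (fun e => hlam (MonoidHom.ext fun x => Units.ext (congrFun e x).symm))
          rw [CfsgLib.Char.classInner_def, mul_eq_zero] at h
          exact h.resolve_left (inv_ne_zero hn0)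
        rw [h0]
        simp [μ, CfsgLib.Char.linFun_apply]
      rw [hs]
      simp only [OneMemClass.coe_one, mul_one, CfsgLib.Char.linFun_apply, map_one, Units.val_one]
      rw [CfsgLib.Char.classInner_def, CfsgLib.Char.classInner_def, CfsgLib.Char.classInner_def]
      have he : ∀ c : CfsgLib.CharNormal.CyclicGlauberman.fix G s,
          ϑ c * (starRingEnd ℂ) (β' c) = (n : ℂ)⁻¹ * ((χh : Γ → ℂ) c * (starRingEnd ℂ) (β' c)) -
            (n : ℂ)⁻¹ * (ε : ℂ) * ((β : _ → ℂ) c * (starRingEnd ℂ) (β' c)) := fun c => by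
        show (n : ℂ)⁻¹ * ((χ : G → ℂ) ⟨c, hCG c.2⟩ - _) * _ = _
        rw [← hext]
        ring
      rw [Finset.sum_congr rfl fun c _ => he c, Finset.sum_sub_distrib, ← Finset.mul_sum, ← Finset.mul_sum]
      ring
    · show Cfsg.classInner (fun c : CfsgLib.CharNormal.CyclicGlauberman.fix G s => (χh : Γ → ℂ) ((c : Γ) * x)) β' * _ = _
      rw [show (fun c : CfsgLib.CharNormal.CyclicGlauberman.fix G s => (χh : Γ → ℂ) ((c : Γ) * x)) =
          ((ε : ℂ) * μ x) • (β : _ → ℂ) from funext fun c => by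
        rw [hval x (Finset.mem_erase.mp hx).1 c, Pi.smul_apply, smul_eq_mul]; ring,
        CfsgLib.Char.classInner_smul_left]
      ring
  refine ⟨ε, hε, ⟨μ, hμ, by simp [μ], fun x => ?_, fun c x hx => hval x hx c⟩, ⟨ϑ, hmain, ?_⟩, ?_⟩
  · show ((ψ x : ℂˣ) : ℂ) * ((ψ x : ℂˣ) : ℂ) = 1
    rw [← Units.val_mul, hψ2, Units.val_one]
  · funext c
    show _ = (n : ℂ) * ((n : ℂ)⁻¹ * _) + _
    rw [mul_inv_cancel_left₀ hn0, sub_add_cancel]
  · obtain ⟨d, hd⟩ := CfsgLib.Char.exists_degree hmain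
    refine ⟨d, ?_⟩
    rw [← Int.cast_inj (α := ℂ)]
    push_cast
    rw [CfsgLib.CharBlocks.coe_charDegree_irr, CfsgLib.CharBlocks.coe_charDegree_irr, ← hd]
    show _ = (n : ℂ) * ((n : ℂ)⁻¹ * _)
    rw [mul_inv_cancel_left₀ hn0]
    rfl


end Cfsg.Agent.S4451
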