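import Cfsg.Statements.S4452
import Cfsg.Agent.Lib.CharNormal.CoprimeDegreeCount

set_option autoImplicit false
open Cfsg

namespace Cfsg.Agent.S4452

/-- Let the finite group G be the product of a normal subgroup K and a solvable subgroup H of coprime orders, and let N = N_G(H). Then the number of irreducible characters of G of degree coprime to the order of H equals the number of irreducible characters of N of degree coprime to the order of H. (The two sets are in fact in a canonical bijection; only the equality of their sizes is stated here.) -/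
theorem result {G : Type*} [Group G] [Finite G] (K H : Subgroup G) [K.Normal] (hKH : K ⊔ H = ⊤) (hcop : (Nat.card K).Coprime (Nat.card H)) (hsolv : Group.IsSolvable H) : Nat.card {χ : Cfsg.IrrCharacter G // (Cfsg.charDegree (χ : G → ℂ)).Coprime (Nat.card H)} = Nat.card {η : Cfsg.IrrCharacter (Subgroup.normalizer (H : Set G)) // (Cfsg.charDegree (η : Subgroup.normalizer (H : Set G) → ℂ)).Coprime (Nat.card H)} := by

  set N := Subgroup.normalizer (H : Set G) with hN
  have hHN : H ≤ N := Subgroup.le_normalizer
  have hCN : Subgroup.centralizer (H : Set G) ≤ N := by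
    intro g hg
    rw [hN, Subgroup.mem_normalizer_iff]
    intro h
    have key : ∀ y ∈ H, g * y * g⁻¹ = y := fun y hy => by
      rw [← Subgroup.mem_centralizer_iff.mp hg y hy, mul_inv_cancel_right]
    constructor
    · intro hh; rw [key h hh]; exact hh
    · intro hh
      have h1 := key _ hh
      have h2 : g * h * g⁻¹ = h := by
        have h3 : g⁻¹ * (g * h * g⁻¹) * g = g * h * g⁻¹ := by
          conv_lhs => rw [← h1]
          group
        rw [← h3]; group
      rw [h2] at hh; exact hh
  have : (K.subgroupOf N).Normal := Subgroup.normal_subgroupOf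
  have hsup : K.subgroupOf N ⊔ H.subgroupOf N = ⊤ := by
    rw [eq_top_iff]
    rintro n -
    obtain ⟨k, hk, h, hh, hn⟩ := Subgroup.mem_sup_of_normal_left.mp
      (hKH ▸ Subgroup.mem_top (n : G) : (n : G) ∈ K ⊔ H)
    have hkN : k ∈ N := by
      have h1 : k = (n : G) * h⁻¹ := by rw [← hn, mul_inv_cancel_right]
      rw [h1]; exact mul_mem n.2 (inv_mem (hHN hh))
    exact Subgroup.mem_sup_of_normal_left.mpr ⟨⟨k, hkN⟩, Subgroup.mem_subgroupOf.mpr hk, ⟨h, hHN hh⟩,
      Subgroup.mem_subgroupOf.mpr hh, Subtype.ext hn⟩
  have hcardH : Nat.card (H.subgroupOf N) = Nat.card H :=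
    Nat.card_congr (Subgroup.subgroupOfEquivOfLe hHN).toEquiv
  have hcop' : (Nat.card (K.subgroupOf N)).Coprime (Nat.card (H.subgroupOf N)) := by
    rw [hcardH]
    refine hcop.coprime_dvd_left ?_
    rw [← Subgroup.card_map_of_injective N.subtype_injective]
    exact Subgroup.card_dvd_of_le (by rw [Subgroup.subgroupOf_map_subtype]; exact inf_le_left)
  have hsolv' : Group.IsSolvable (H.subgroupOf N) :=
    haveI := hsolv
    Group.isSolvable_of_isSolvable_injective (f := (Subgroup.subgroupOfEquivOfLe hHN).toMonoidHom)
      (Subgroup.subgroupOfEquivOfLe hHN).injective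
  rw [CfsgLib.CharNormal.card_coprime_degree K H hKH hcop hsolv, ← hcardH,
    CfsgLib.CharNormal.card_coprime_degree (K.subgroupOf N) (H.subgroupOf N) hsup hcop' hsolv']
  congr 1
  · refine Nat.card_congr (CfsgLib.CharNormal.card_invariantClass_eq_fixed.conjEquiv
      { toFun := fun k => ⟨⟨(k : G), hCN k.2.2⟩, Subgroup.mem_subgroupOf.mpr k.2.1,
          fun h hh => Subtype.ext (k.2.2 (h : G) hh)⟩
        invFun := fun k => ⟨((k : N) : G), k.2.1, fun h hh =>
          congrArg Subtype.val (k.2.2 ⟨h, hHN hh⟩ hh)⟩
        left_inv := fun k => rfl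
        right_inv := fun k => rfl
        map_mul' := fun a b => rfl })
  · have h1 : (commutator (H.subgroupOf N)).map
        (Subgroup.subgroupOfEquivOfLe hHN).toMonoidHom = commutator H := by
      rw [commutator_def, commutator_def, Subgroup.map_commutator,
        Subgroup.map_top_of_surjective _ (Subgroup.subgroupOfEquivOfLe hHN).surjective]
    rw [← h1]
    exact (Subgroup.index_map_of_bijective (Subgroup.subgroupOfEquivOfLe hHN).bijective _)

end Cfsg.Agent.S4452
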