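import Cfsg.Statements.S4453
import Cfsg.Agent.Lib.CharBlocks.OddStep.Top
import Cfsg.Agent.Lib.CharNormal.ConjAut
import Cfsg.Agent.Lib.Solvable.CoprimeAction

set_option autoImplicit false
open Cfsg

namespace Cfsg.Agent.S4453

open CfsgLib.Char CfsgLib.CharNormal CfsgLib.CharBlocks.OddStep

theorem mem_sup_prod {Γ : Type*} [Group Γ] (A B : Subgroup Γ)
    (hB : ∀ b ∈ B, ∀ a ∈ A, b * a * b⁻¹ ∈ A) {x : Γ} (hx : x ∈ A ⊔ B) :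
    ∃ a ∈ A, ∃ b ∈ B, x = a * b := by
  let P : Subgroup Γ :=
    { carrier := {x | ∃ a ∈ A, ∃ b ∈ B, x = a * b}
      one_mem' := ⟨1, A.one_mem, 1, B.one_mem, (one_mul 1).symm⟩
      mul_mem' := by
        rintro _ _ ⟨a, ha, b, hb, rfl⟩ ⟨a', ha', b', hb', rfl⟩
        exact ⟨a * (b * a' * b⁻¹), A.mul_mem ha (hB b hb a' ha'), b * b', B.mul_mem hb hb',
          by simp only [mul_assoc, inv_mul_cancel_left]⟩
      inv_mem' := by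
        rintro _ ⟨a, ha, b, hb, rfl⟩
        exact ⟨b⁻¹ * a⁻¹ * b⁻¹⁻¹, hB _ (B.inv_mem hb) _ (A.inv_mem ha), b⁻¹, B.inv_mem hb,
          by simp [mul_assoc]⟩ }
  exact (sup_le (fun a ha => ⟨a, ha, 1, B.one_mem, (mul_one a).symm⟩)
    (fun b hb => ⟨1, A.one_mem, b, hb, (one_mul b).symm⟩) : A ⊔ B ≤ P) hx

/-- Inside a finite group Γ let S normalise the solvable subgroup G of odd order with the orders of G and S coprime, let C = G ⊓ C(S), and let L ≤ K be S-invariant normal subgroups of G with K/L abelian, G = KC and H = LC (so C ≤ H ≤ G). Then for each S-invariant irreducible character χ of G there is exactly one S-invariant irreducible character ψ of H whose multiplicity in the restriction of χ to H is odd, and χ ↦ ψ is a bijection from the S-invariant irreducible characters of G onto those of H (distinct χ give distinct ψ, and every S-invariant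 ψ arises). -/
theorem result {Γ : Type*} [Group Γ] [Fintype Γ] (G S : Subgroup Γ) [Fintype G] (hnorm : ∀ s ∈ S, ∀ g ∈ G, s * g * s⁻¹ ∈ G) (hcop : (Nat.card G).Coprime (Nat.card S)) (hGsolv : Group.IsSolvable G) (hodd : Odd (Nat.card G)) (C : Subgroup Γ) [Fintype C] (hC : C = G ⊓ Subgroup.centralizer (S : Set Γ)) (hCG : C ≤ G) (K L H : Subgroup Γ) [Fintype H] (hLK : L ≤ K) (hKG : K ≤ G) (hKn : ∀ g ∈ G, ∀ k ∈ K, g * k * g⁻¹ ∈ K) (hLn : ∀ g ∈ G, ∀ l ∈ L, g * l * g⁻¹ ∈ L) (hKS : ∀ s ∈ S, ∀ k ∈ K, s * k * s⁻¹ ∈ K) (hLS : ∀ s ∈ S, ∀ l ∈ L, s * l * s⁻¹ ∈ L) (hab : ∀ a ∈ K, ∀ b ∈ K, a * b * a⁻¹ * b⁻¹ ∈ L) (hGKC : K ⊔ C = G) (hH : H = L ⊔ C) (hHG : H ≤ G) : (∀ χ : Cfsg.IrrCharacter G, (∀ s ∈ S, ∀ g g' : G, (g' : Γ) = s * g * s⁻¹ → (χ : G → ℂ) g' = (χ : G → ℂ) g) → ∃! ψ : Cfsg.IrrCharacter H, (∀ s ∈ S, ∀ g g' : H, (g' : Γ) = s * g * s⁻¹ → (ψ : H → ℂ) g'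 = (ψ : H → ℂ) g) ∧ ∃ m : ℕ, Cfsg.classInner (fun h : H => (χ : G → ℂ) ⟨h, hHG h.2⟩) (ψ : H → ℂ) = (m : ℂ) ∧ Odd m) ∧ (∀ χ χ' : Cfsg.IrrCharacter G, (∀ s ∈ S, ∀ g g' : G, (g' : Γ) = s * g * s⁻¹ → (χ : G → ℂ) g' = (χ : G → ℂ) g) → (∀ s ∈ S, ∀ g g' : G, (g' : Γ) = s * g * s⁻¹ → (χ' : G → ℂ) g' = (χ' : G → ℂ) g) → ∀ ψ : Cfsg.IrrCharacter H, (∀ s ∈ S, ∀ g g' : H, (g' : Γ) = s * g * s⁻¹ → (ψ : H → ℂ) g' = (ψ : H → ℂ) g) → ∀ m m' : ℕ, Cfsg.classInner (fun h : H => (χ : G → ℂ) ⟨h, hHG h.2⟩) (ψ : H → ℂ) = (m : ℂ) → Odd m → Cfsg.classInner (fun h : H => (χ' : G → ℂ) ⟨h, hHG h.2⟩) (ψ : H → ℂ) = (m' : ℂ) → Odd m' → χ = χ') ∧ (∀ ψ : Cfsg.IrrCharacter H, (∀ s ∈ S, ∀ g g' : H, (g' : Γ) = s * g * s⁻¹ → (ψ : H → ℂ) g' = (ψ : H → ℂ) g) → ∃ χ : Cfsg.IrrCharacter G, (∀ s ∈ S, ∀ g g' : G, (g' : Γ) = s * g * s⁻¹ → (χ : G → ℂ) g' = (χ : G → ℂ) g) ∧ ∃ m : ℕ, Cfsg.classInner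 (fun h : H => (χ : G → ℂ) ⟨h, hHG h.2⟩) (ψ : H → ℂ) = (m : ℂ) ∧ Odd m) := by
  classical
  have := Fintype.ofFinite S
  let φ := conjAut G S hnorm
  have hCfix : ∀ c ∈ C, ∀ s ∈ S, s * c * s⁻¹ = c := by
    intro c hc s hs
    rw [hC] at hc
    exact mul_inv_eq_iff_eq_mul.mpr (Subgroup.mem_centralizer_iff.mp hc.2 s hs)
  have hLH : L ≤ H := hH ▸ le_sup_left
  have hCH : C ≤ H := hH ▸ le_sup_right
  have hLC : ∀ h ∈ H, ∃ l ∈ L, ∃ c ∈ C, h = l * c := fun h hh =>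
    mem_sup_prod L C (fun c hc l hl => hLn c (hCG hc) l hl) (hH ▸ hh)
  have hKC : ∀ g ∈ G, ∃ k ∈ K, ∃ c ∈ C, g = k * c := fun g hg =>
    mem_sup_prod K C (fun c hc k hk => hKn c (hCG hc) k hk) (hGKC.symm ▸ hg)
  have hHS : ∀ s ∈ S, ∀ h ∈ H, s * h * s⁻¹ ∈ H := by
    intro s hs h hh
    obtain ⟨l, hl, c, hc, rfl⟩ := hLC h hh
    rw [show s * (l * c) * s⁻¹ = (s * l * s⁻¹) * (s * c * s⁻¹) by group, hCfix c hc s hs]
    exact H.mul_mem (hLH (hLS s hs l hl)) (hCH hc)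
  let K' := K.subgroupOf G
  let H' := H.subgroupOf G
  let L' := K' ⊓ H'
  have hLL' : ∀ x : G, (x : Γ) ∈ L → x ∈ L' := fun x hx => ⟨hLK hx, hLH hx⟩
  have hK'n : K'.Normal := ⟨fun k hk g => hKn g g.2 k hk⟩
  have hL'n : L'.Normal := ⟨fun x hx g => by
    obtain ⟨k, hk, c, hc, hg⟩ := hKC g g.2
    refine ⟨hKn g g.2 x hx.1, ?_⟩
    show (g : Γ) * (x : Γ) * (g : Γ)⁻¹ ∈ H
    have hy : c * (x : Γ) * c⁻¹ ∈ H := H.mul_mem (H.mul_mem (hCH hc) hx.2) (H.inv_mem (hCH hc))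
    have hy2 : c * (x : Γ) * c⁻¹ ∈ K := hKn c (hCG hc) _ hx.1
    have h1 := H.mul_mem (hLH (hab k hk _ hy2)) hy
    rw [hg]
    convert h1 using 1
    group⟩
  have hsetup : OddSetup φ K' L' H' :=
    { odd := hodd
      cop := hcop.symm
      le := inf_le_left
      ab := fun a ha b hb => hLL' _ (hab _ ha _ hb)
      stK := fun s k hk => hKS s s.2 k hk
      stL := fun s l hl => ⟨hKS s s.2 l hl.1, hHS s s.2 l hl.2⟩
      decomp := fun g => by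
        obtain ⟨k, hk, c, hc, hg⟩ := hKC g g.2
        exact ⟨⟨k, hKG hk⟩, hk, ⟨c, hCG hc⟩, fun s => Subtype.ext (hCfix c hc s s.2), Subtype.ext hg⟩
      mem_H := fun h => by
        constructor
        · intro hh
          obtain ⟨l, hl, c, hc, he⟩ := hLC h hh
          exact ⟨⟨l, hKG (hLK hl)⟩, hLL' _ hl, ⟨c, hCG hc⟩,
            fun s => Subtype.ext (hCfix c hc s s.2), Subtype.ext he⟩
        · rintro ⟨l, hl, c, hc, rfl⟩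
          obtain ⟨c', hc'⟩ := (fixed_iff_mem_range G S hnorm C hC hCG c).mp hc
          refine H.mul_mem hl.2 (hCH ?_)
          rw [← hc']
          exact c'.2
      fixed := fun k hk hs => by
        refine ⟨hk, ?_⟩
        have hN : S ≤ Subgroup.normalizer ((K ⊓ H : Subgroup Γ) : Set Γ) := by
          intro s hs'
          rw [Subgroup.mem_normalizer_iff]
          intro x
          refine ⟨fun hx => ⟨hKS s hs' x hx.1, hHS s hs' x hx.2⟩, fun hx => ?_⟩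
          have e : s⁻¹ * (s * x * s⁻¹) * s⁻¹⁻¹ = x := by group
          exact e ▸ ⟨hKS _ (S.inv_mem hs') _ hx.1, hHS _ (S.inv_mem hs') _ hx.2⟩
        obtain ⟨n, hn, hfix⟩ := CfsgLib.Solvable.exists_mul_mem_centralizer S (K ⊓ H) hN
          (hcop.symm.coprime_dvd_right (Subgroup.card_dvd_of_le (inf_le_left.trans hKG)))
          (Or.inr (CfsgLib.Solvable.isSolvable_of_le hGsolv (inf_le_left.trans hKG))) (k : Γ)
          (fun a ha => by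
            have h1 := hs ⟨a, ha⟩
            exact ⟨h1.1, h1.2⟩)
        have h2 : n * (k : Γ) ∈ H := hCH (hC ▸ ⟨G.mul_mem (hKG hn.1) k.2, hfix⟩)
        show (k : Γ) ∈ H
        simpa using H.mul_mem (H.inv_mem hn.2) h2 }
  let e : H' ≃* H := Subgroup.subgroupOfEquivOfLe hHG
  obtain ⟨hA, hB⟩ := correspondence hsetup
  have hinvG : ∀ χ : Cfsg.IrrCharacter G, IsInvariant φ χ ↔
      ∀ s ∈ S, ∀ g g' : G, (g' : Γ) = s * g * s⁻¹ → (χ : G → ℂ) g' = (χ : G → ℂ) g := fun χ =>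
    forall_conjAut_iff G S hnorm (χ : G → ℂ)
  let toH' : Cfsg.IrrCharacter H → Cfsg.IrrCharacter H' := fun ψ =>
    ⟨(ψ : H → ℂ) ∘ e, isIrr_comp_mulEquiv ψ.2 e⟩
  let ofH' : Cfsg.IrrCharacter H' → Cfsg.IrrCharacter H := fun β =>
    ⟨(β : H' → ℂ) ∘ e.symm, isIrr_comp_mulEquiv β.2 e.symm⟩
  have hto : ∀ β, toH' (ofH' β) = β := fun β => Subtype.ext (funext fun x => by
    show (β : H' → ℂ) (e.symm (e x)) = _
    rw [e.symm_apply_apply])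
  have hof : ∀ ψ, ofH' (toH' ψ) = ψ := fun ψ => Subtype.ext (funext fun x => by
    show (ψ : H → ℂ) (e (e.symm x)) = _
    rw [e.apply_symm_apply])
  have hinvH : ∀ ψ : Cfsg.IrrCharacter H,
      (∀ s ∈ S, ∀ g g' : H, (g' : Γ) = s * g * s⁻¹ → (ψ : H → ℂ) g' = (ψ : H → ℂ) g) ↔
      CfsgLib.CharBlocks.RelGlauberman.InvOn φ H' ((toH' ψ : H' → ℂ)) := by
    intro ψ
    constructor
    · exact fun h s c c' hc => h s s.2 (e c) (e c') (congrArg Subtype.val hc)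
    · intro h s hs g g' hg
      obtain ⟨c, rfl⟩ := e.surjective g
      obtain ⟨c', rfl⟩ := e.surjective g'
      exact h ⟨s, hs⟩ c c' (Subtype.ext hg)
  have hmult : ∀ (χ : Cfsg.IrrCharacter G) (ψ : Cfsg.IrrCharacter H),
      Cfsg.classInner (fun h : H => (χ : G → ℂ) ⟨h, hHG h.2⟩) (ψ : H → ℂ) =
        (mult H'.subtype χ (toH' ψ) : ℂ) := fun χ ψ => by
    rw [← classInner_eq_mult, ← classInner_comp_mulEquiv e]
    rfl
  have hodd' : ∀ (χ : Cfsg.IrrCharacter G) (ψ : Cfsg.IrrCharacter H),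
      (∃ m : ℕ, Cfsg.classInner (fun h : H => (χ : G → ℂ) ⟨h, hHG h.2⟩) (ψ : H → ℂ) = (m : ℂ) ∧
        Odd m) ↔ Odd (mult H'.subtype χ (toH' ψ)) := by
    intro χ ψ
    refine ⟨?_, fun ho => ⟨_, hmult χ ψ, ho⟩⟩
    rintro ⟨m, hm, ho⟩
    rw [hmult] at hm
    rwa [Nat.cast_inj.mp hm]
  refine ⟨fun χ hχ => ?_, fun χ χ' hχ hχ' ψ hψ m m' hm ho hm' ho' => ?_, fun ψ hψ => ?_⟩
  · obtain ⟨β, ⟨hβS, hβ⟩, hu⟩ := hA χ ((hinvG χ).mpr hχ)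
    refine ⟨ofH' β, ⟨(hinvH _).mpr (by rw [hto]; exact hβS), (hodd' χ _).mpr (by rw [hto]; exact hβ)⟩,
      fun ψ hψ => ?_⟩
    rw [← hof ψ, hu (toH' ψ) ⟨(hinvH ψ).mp hψ.1, (hodd' χ ψ).mp hψ.2⟩]
  · exact (hB (toH' ψ) ((hinvH ψ).mp hψ)).unique
      ⟨(hinvG χ).mpr hχ, (hodd' χ ψ).mp ⟨m, hm, ho⟩⟩
      ⟨(hinvG χ').mpr hχ', (hodd' χ' ψ).mp ⟨m', hm', ho'⟩⟩
  · obtain ⟨χ, ⟨hχ, hodd''⟩, -⟩ := hB (toH' ψ) ((hinvH ψ).mp hψ)
    exact ⟨χ, (hinvG χ).mp hχ, (hodd' χ ψ).mpr hodd''⟩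

end Cfsg.Agent.S4453
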