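import Cfsg.Statements.S4455
import Cfsg.Agent.Lib.Char.PResidualSum

set_option autoImplicit false
open Cfsg

namespace Cfsg.Agent.S4455

/-- Fix a prime p and a finite group G. Let s be the sum of χ(1)² over the irreducible characters χ of G whose degree is not divisible by p and whose determinantal order o(χ) is not divisible by p. Then the order of O^p(G), the subgroup generated by the elements of order prime to p, is congruent to s modulo p. -/
theorem result {G : Type*} [Group G] [Finite G] (p : ℕ) (hp : p.Prime) : (Nat.card (Cfsg.pResidual p G) : ℤ) ≡ (∑ᶠ χ ∈ {χ : Cfsg.IrrCharacter G | ¬ p ∣ Cfsg.charDegree (χ : G → ℂ) ∧ ¬ p ∣ Cfsg.detOrder (χ : G → ℂ)}, (Cfsg.charDegree (χ : G → ℂ) : ℤ) ^ 2) [ZMOD p] := by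
  classical
  have := Fact.mk hp
  have := Fintype.ofFinite G
  have : (Cfsg.pResidual p G).Characteristic := CfsgLib.Transfer.pResidual_characteristic
  obtain ⟨k, hk⟩ := CfsgLib.Transfer.index_pResidual (G := G) (p := p)
  rw [← ZMod.intCast_eq_intCast_iff, finsum_mem_eq_toFinset_sum]
  push_cast
  rw [CfsgLib.Char.card_pResidual_modEq hk CfsgLib.Char.not_dvd_orderOf_pResidual]
  refine Finset.sum_congr ?_ fun _ _ => rfl
  ext χ
  erw [Finset.mem_filter, Set.mem_toFinset]
  simp [CfsgLib.Char.IsPrimeChar]

end Cfsg.Agent.S4455
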