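import Cfsg.Statements.S4459
import Cfsg.Agent.Lib.CharNormal.TwoDegrees
import Cfsg.Agent.Lib.Char.PResidualSum
import Cfsg.Agent.S4456

set_option autoImplicit false
open Cfsg

namespace Cfsg.Agent.S4459

/-- Let G be a non-abelian finite group and p a prime. Then the irreducible character degrees of G are exactly 1 and p if and only if either G has an abelian normal subgroup of index p or the centre of G has index p³. -/
theorem result {G : Type*} [Group G] [Finite G] (hG : ∃ a b : G, a * b ≠ b * a) (p : ℕ) (hp : p.Prime) : ((∀ χ : Cfsg.IrrCharacter G, Cfsg.charDegree (χ : G → ℂ) = 1 ∨ Cfsg.charDegree (χ : G → ℂ) = p) ∧ ∃ χ : Cfsg.IrrCharacter G, Cfsg.charDegree (χ : G → ℂ) = p) ↔ ((∃ A : Subgroup G, A.Normal ∧ (∀ a ∈ A, ∀ b ∈ A, a * b = b * a) ∧ A.index = p) ∨ (Subgroup.center G).index = p ^ 3) := by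
  classical
  have := Fact.mk hp
  have := Fintype.ofFinite G
  have hcast : ∀ χ : Cfsg.IrrCharacter G,
      (χ : G → ℂ) 1 = (Cfsg.charDegree (χ : G → ℂ) : ℂ) :=
    fun χ => CfsgLib.Char.charDegree_cast (CfsgLib.Char.isCharacter_of_isIrr χ.2)
  constructor
  · rintro ⟨hcd, -⟩
    obtain ⟨N, hN, hNc, k, hk⟩ := Cfsg.Agent.S4456.result (G := G) p hp
      fun χ hne => ((hcd χ).resolve_left hne) ▸ dvd_refl _
    exact CfsgLib.CharNormal.two_degrees_structure (fun χ hχ => by
      rcases hcd ⟨χ, hχ⟩ with e | e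
      · exact Or.inl (by rw [show χ 1 = _ from hcast ⟨χ, hχ⟩, e, Nat.cast_one])
      · exact Or.inr (by rw [show χ 1 = _ from hcast ⟨χ, hχ⟩, e])) hG N hNc hk
  · intro h
    have hcd : ∀ χ : Cfsg.IrrCharacter G, Cfsg.charDegree (χ : G → ℂ) = 1 ∨
        Cfsg.charDegree (χ : G → ℂ) = p := by
      intro χ
      rcases h with ⟨A, hAn, hA, hAi⟩ | hZ
      · haveI := hAn
        have hd := CfsgLib.Char.degree_dvd_index_abelian_normal A hA χ.2 (hcast χ)
        rw [hAi] at hd
        exact (Nat.dvd_prime hp).mp hd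
      · have hsq := CfsgLib.CharNormal.degree_sq_le_center χ.2 (hcast χ)
        obtain ⟨n, ρ, hirr, hχ⟩ := χ.2
        haveI : ρ.IsIrreducible := hirr
        have hd := CfsgLib.Char.degree_dvd_index_center ρ
        have hn : Cfsg.charDegree (χ : G → ℂ) = n := by
          have h1 := hcast χ
          rw [← hχ, Representation.char_one, Module.finrank_fin_fun] at h1
          rw [← hχ]
          exact_mod_cast h1.symm
        rw [Module.finrank_fin_fun, ← hn, hZ] at hd
        obtain ⟨j, hj, hd'⟩ := (Nat.dvd_prime_pow hp).mp hd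
        rw [hd'] at hsq
        rw [hZ, ← pow_add] at hsq
        have := (Nat.pow_le_pow_iff_right hp.one_lt).mp hsq
        rw [hd']
        have hj1 : j ≤ 1 := by omega
        interval_cases j <;> simp
    refine ⟨hcd, ?_⟩
    by_contra hne
    push Not at hne
    obtain ⟨a, b, hab⟩ := hG
    exact hab (CfsgLib.Char.comm_iff_forall_linear.mpr
      (fun χ => by rw [hcast χ, (hcd χ).resolve_right (hne χ), Nat.cast_one]) a b)

end Cfsg.Agent.S4459
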