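import Cfsg.Statements.S4460
import Cfsg.Agent.Lib.Char.ThreeDegrees

set_option autoImplicit false
open Cfsg

namespace Cfsg.Agent.S4460

/-- A finite group with exactly three distinct irreducible character degrees is solvable of derived length at most 3: its third derived subgroup is trivial. -/
theorem result {G : Type*} [Group G] [Finite G] (hcd : Nat.card {n : ℕ // ∃ χ : Cfsg.IrrCharacter G, Cfsg.charDegree (χ : G → ℂ) = n} = 3) : derivedSeries G 3 = ⊥ := by
  classical
  have := Fintype.ofFinite G
  set T : Finset ℕ := Finset.univ.image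
    fun χ : Cfsg.IrrCharacter G => Cfsg.charDegree (χ : G → ℂ) with hT
  have hcard : T.card = 3 := by
    rw [← hcd, ← Nat.card_eq_finsetCard]
    exact Nat.card_congr (Equiv.subtypeEquivRight fun n => by simp [hT])
  refine CfsgLib.ThreeDeg.derived_three _ G rfl (T.erase 1) ?_ fun χ hχ => ?_
  · have h1 : 1 ∈ T := Finset.mem_image.2
      ⟨⟨fun _ => 1, CfsgLib.Char.isIrrCharacter_one⟩, Finset.mem_univ _,
        CfsgLib.ThreeDeg.deg_of_cast (by simp)⟩
    rw [Finset.card_erase_of_mem h1, hcard]
  · exact (em _).imp id fun h => Finset.mem_erase.2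
      ⟨h, Finset.mem_image.2 ⟨⟨χ, hχ⟩, Finset.mem_univ _, rfl⟩⟩

end Cfsg.Agent.S4460
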