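import Cfsg.Statements.S4462
import Cfsg.Agent.Lib.Char.BrolineGarrison

set_option autoImplicit false
open Cfsg

namespace Cfsg.Agent.S4462

open CfsgLib.Char CfsgLib.CharNormal

/-- Chains of length `n` for solvable groups with at most `n` degrees. -/
theorem exists_chain : ∀ (n : ℕ) {G : Type*} [Group G] [Finite G], Group.IsSolvable G →
    Nat.card {d : ℕ // ∃ χ : Cfsg.IrrCharacter G, Cfsg.charDegree (χ : G → ℂ) = d} ≤ n →
    ∃ N : Fin (n + 1) → Subgroup G, N 0 = ⊥ ∧ N (Fin.last n) = ⊤ ∧ Monotone N ∧
      (∀ i, (N i).Normal) ∧ ∀ i : Fin n, ∀ h : (N i.castSucc).subgroupOf (N i.succ) |>.Normal,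
        Group.IsNilpotent (↥(N i.succ) ⧸ (N i.castSucc).subgroupOf (N i.succ)) := by
  intro n
  induction n with
  | zero =>
    intro G _ _ _ hn
    exfalso
    have := Fintype.ofFinite G
    have : Nonempty {d : ℕ // ∃ χ : Cfsg.IrrCharacter G, Cfsg.charDegree (χ : G → ℂ) = d} :=
      ⟨⟨_, irrOne, rfl⟩⟩
    have : Finite {d : ℕ // ∃ χ : Cfsg.IrrCharacter G, Cfsg.charDegree (χ : G → ℂ) = d} :=
      (Set.finite_range fun χ : Cfsg.IrrCharacter G => Cfsg.charDegree (χ : G → ℂ)).to_subtype
    exact absurd hn (Nat.not_le.2 Nat.card_pos)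
  | succ n ih =>
    intro G _ _ hsol hn
    classical
    have := Fintype.ofFinite G
    set F := Cfsg.fittingSubgroup G with hFdef
    have hFn : F.Normal := CfsgLib.Cores.fittingSubgroup_normal
    have hFnil : Group.IsNilpotent F := CfsgLib.Cores.isNilpotent_fittingSubgroup
    by_cases hF : F = ⊤
    · have : Group.IsNilpotent G :=
        Group.nilpotent_of_mulEquiv ((MulEquiv.subgroupCongr hF).trans Subgroup.topEquiv)
      refine ⟨fun i => if i = 0 then ⊥ else ⊤, by simp, by simp [Fin.ext_iff], ?_, ?_, ?_⟩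
      · intro i j hij
        simp only
        split_ifs with h1 h2 <;> simp_all
      · intro i
        dsimp only
        split_ifs <;> infer_instance
      · intro i h
        exact Group.nilpotent_of_surjective (QuotientGroup.mk' _) (QuotientGroup.mk'_surjective _)
    obtain ⟨χ, -, hmax⟩ := Finset.exists_max_image (Finset.univ : Finset (Cfsg.IrrCharacter G))
      (fun χ => Cfsg.charDegree (χ : G → ℂ)) ⟨irrOne, Finset.mem_univ _⟩
    have hker : ∀ ψ : Cfsg.IrrCharacter G,
        Cfsg.charDegree (ψ : G → ℂ) = Cfsg.charDegree (χ : G → ℂ) →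
        ¬ ∀ x ∈ F, (ψ : G → ℂ) x = (ψ : G → ℂ) 1 := by
      intro ψ hψ hF1
      let K := charKer (isCharacter_of_isIrr ψ.2)
      have : K.Normal := charKer_normal _
      have hh : ¬ K ≤ F ∨ (K = F ∧ Group.IsSolvable (G ⧸ K) ∧ K ≠ ⊤) := by
        by_cases hle : K ≤ F
        · have e : K = F := le_antisymm hle fun x hx => hF1 x hx
          exact Or.inr ⟨e, inferInstance, e ▸ hF⟩
        · exact Or.inl hle
      obtain ⟨φ, hφ, -⟩ := CfsgLib.Broline.exists_larger_degree ψ K (fun g => Iff.rfl) hh
      have := hmax φ (Finset.mem_univ _)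
      omega
    have hcard : Nat.card {d : ℕ // ∃ ψ : Cfsg.IrrCharacter (G ⧸ F),
        Cfsg.charDegree (ψ : G ⧸ F → ℂ) = d} ≤ n := by
      have hfin : Set.Finite {d : ℕ | ∃ χ : Cfsg.IrrCharacter G, Cfsg.charDegree (χ : G → ℂ) = d} :=
        Set.finite_range fun χ : Cfsg.IrrCharacter G => Cfsg.charDegree (χ : G → ℂ)
      have hlt : Set.ncard {d : ℕ | ∃ ψ : Cfsg.IrrCharacter (G ⧸ F),
          Cfsg.charDegree (ψ : G ⧸ F → ℂ) = d} <
          Set.ncard {d : ℕ | ∃ χ : Cfsg.IrrCharacter G, Cfsg.charDegree (χ : G → ℂ) = d} := by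
        refine Set.ncard_lt_ncard (Set.ssubset_iff_subset_ne.2 ⟨?_, fun e => ?_⟩) hfin
        · rintro d ⟨ψ, rfl⟩
          exact ⟨(inflEquiv F ψ).1, rfl⟩
        · obtain ⟨ψ, hψ⟩ : Cfsg.charDegree (χ : G → ℂ) ∈ {d : ℕ | ∃ ψ : Cfsg.IrrCharacter (G ⧸ F),
              Cfsg.charDegree (ψ : G ⧸ F → ℂ) = d} := e ▸ ⟨χ, rfl⟩
          exact hker (inflEquiv F ψ).1 hψ (inflEquiv F ψ).2
      rw [← Nat.card_coe_set_eq, ← Nat.card_coe_set_eq] at hlt
      exact Nat.le_of_lt_succ (lt_of_lt_of_le hlt hn)
    obtain ⟨N, hN0, hNl, hNm, hNn, hNq⟩ := ih (G := G ⧸ F) inferInstance hcard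
    refine ⟨Fin.cases ⊥ fun i => (N i).comap (QuotientGroup.mk' F), by simp, ?_, ?_, ?_, ?_⟩
    · simp only [← Fin.succ_last, Fin.cases_succ]
      rw [hNl, Subgroup.comap_top]
    · intro i j hij
      induction i using Fin.cases with
      | zero => simp
      | succ i =>
        induction j using Fin.cases with
        | zero => simp [Fin.le_def] at hij
        | succ j =>
          simp only [Fin.cases_succ]
          exact Subgroup.comap_mono (hNm (Fin.succ_le_succ_iff.1 hij))
    · intro i
      induction i using Fin.cases with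
      | zero => simp only [Fin.cases_zero]; infer_instance
      | succ i =>
        simp only [Fin.cases_succ]
        have := hNn i
        infer_instance
    · intro i
      induction i using Fin.cases with
      | zero =>
        intro h
        change ((⊥ : Subgroup G).subgroupOf ((N 0).comap (QuotientGroup.mk' F))).Normal at h
        change Group.IsNilpotent (↥((N 0).comap (QuotientGroup.mk' F)) ⧸
          (⊥ : Subgroup G).subgroupOf ((N 0).comap (QuotientGroup.mk' F)))
        haveI hz : ((⊥ : Subgroup G).subgroupOf ((N 0).comap (QuotientGroup.mk' F))).Normal :=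
          inferInstance
        have e : (N 0).comap (QuotientGroup.mk' F) = F := by
          rw [hN0, MonoidHom.comap_bot, QuotientGroup.ker_mk']
        have : Group.IsNilpotent ↥((N 0).comap (QuotientGroup.mk' F)) :=
          Group.nilpotent_of_mulEquiv (MulEquiv.subgroupCongr e).symm
        exact Group.nilpotent_of_surjective (QuotientGroup.mk' _) (QuotientGroup.mk'_surjective _)
      | succ i =>
        intro h
        change (((N i.castSucc).comap (QuotientGroup.mk' F)).subgroupOf
          ((N i.succ).comap (QuotientGroup.mk' F))).Normal at h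
        change Group.IsNilpotent (↥((N i.succ).comap (QuotientGroup.mk' F)) ⧸
          ((N i.castSucc).comap (QuotientGroup.mk' F)).subgroupOf
            ((N i.succ).comap (QuotientGroup.mk' F)))
        haveI hz : (((N i.castSucc).comap (QuotientGroup.mk' F)).subgroupOf
            ((N i.succ).comap (QuotientGroup.mk' F))).Normal := by
          have := hNn i.castSucc
          infer_instance
        set A := N i.succ with hA
        set B := N i.castSucc with hB
        have hBn : (B.subgroupOf A).Normal := by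
          have := hNn i.castSucc
          infer_instance
        have hnil := hNq i hBn
        let f : ↥(A.comap (QuotientGroup.mk' F)) →* A ⧸ B.subgroupOf A :=
          (QuotientGroup.mk' (B.subgroupOf A)).comp ((QuotientGroup.mk' F).subgroupComap A)
        have hk : f.ker = (B.comap (QuotientGroup.mk' F)).subgroupOf (A.comap (QuotientGroup.mk' F)) := by
          ext x
          rw [MonoidHom.mem_ker]
          exact (QuotientGroup.eq_one_iff _).trans Iff.rfl
        have : Group.IsNilpotent f.range := inferInstance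
        exact Group.nilpotent_of_mulEquiv
          (((QuotientGroup.quotientKerEquivRange f).symm).trans
            (QuotientGroup.quotientMulEquivOfEq hk))


/-- Let G be a finite solvable group with exactly n distinct irreducible character degrees. Then G has normal subgroups 1 = N₀ ≤ N₁ ≤ ⋯ ≤ Nₙ = G with every quotient N_{i+1}/N_i nilpotent (the nilpotent length of G is at most n). -/
theorem result {G : Type*} [Group G] [Finite G] (hsolv : Group.IsSolvable G) (n : ℕ) (hcd : Nat.card {d : ℕ // ∃ χ : Cfsg.IrrCharacter G, Cfsg.charDegree (χ : G → ℂ) = d} = n) : ∃ N : Fin (n + 1) → Subgroup G, N 0 = ⊥ ∧ N (Fin.last n) = ⊤ ∧ Monotone N ∧ (∀ i, (N i).Normal) ∧ ∀ i : Fin n, ∀ h : (N i.castSucc).subgroupOf (N i.succ) |>.Normal, Group.IsNilpotent (↥(N i.succ) ⧸ (N i.castSucc).subgroupOf (N i.succ)) := by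
  exact exists_chain n hsolv hcd.le

end Cfsg.Agent.S4462
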