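import Cfsg.Statements.S4464
import Cfsg.Agent.Lib.CharNormal.SmallDegrees
import Cfsg.Agent.Lib.CharNormal.ItoCoprime

set_option autoImplicit false
open Cfsg

namespace Cfsg.Agent.S4464

open CfsgLib.Char CfsgLib.InvolChar CfsgLib.CharNormal
open scoped commutatorElement

universe u

theorem deg_subgroup {p : ℕ} {G : Type u} [Group G] [Finite G]
    (hb : ∀ χ : Cfsg.IrrCharacter G, deg χ < p) (L : Subgroup G) (θ : Cfsg.IrrCharacter L) :
    deg θ < p := by
  classical
  have := Fintype.ofFinite G
  have := Fintype.ofFinite L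
  obtain ⟨χ, hχ⟩ : ∃ χ : Cfsg.IrrCharacter G,
      Cfsg.classInner (fun x : L => (χ : G → ℂ) x) (θ : L → ℂ) ≠ 0 := by
    by_contra hcon
    push Not at hcon
    have h1 : ∑ χ : Cfsg.IrrCharacter G, (χ : G → ℂ) 1 *
        Cfsg.classInner (fun x : L => (χ : G → ℂ) x) (θ : L → ℂ) = 0 :=
      Finset.sum_eq_zero fun χ _ => by rw [hcon χ, mul_zero]
    simp only [classInner_def, Finset.mul_sum] at h1
    rw [Finset.sum_comm, Finset.sum_congr rfl fun (x : L) _ => show
      (∑ χ : Cfsg.IrrCharacter G, (χ : G → ℂ) 1 * ((Nat.card L : ℂ)⁻¹ *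
        ((χ : G → ℂ) x * (starRingEnd ℂ) ((θ : L → ℂ) x)))) =
      (if (x : G) = 1 then (Nat.card G : ℂ) else 0) *
        ((Nat.card L : ℂ)⁻¹ * (starRingEnd ℂ) ((θ : L → ℂ) x)) by
      rw [← sum_degree_mul_apply, Finset.sum_mul]
      exact Finset.sum_congr rfl fun χ _ => by ring,
      Finset.sum_eq_single (1 : L) (fun x _ hx => by
        rw [if_neg fun (h : (x : G) = 1) => hx (Subtype.ext h), zero_mul]) (by simp), if_pos (OneMemClass.coe_one L),
      char_conj_one (isCharacter_of_isIrr θ.2)] at h1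
    exact mul_ne_zero card_ne_zero' (mul_ne_zero (inv_ne_zero card_ne_zero')
      (irr_one_ne_zero θ.2)) h1
  have h := constituent_degree_le (isCharacter_res L (isCharacter_of_isIrr χ.2)) θ.2 hχ
  simp only [OneMemClass.coe_one, deg_spec, Complex.natCast_re] at h
  have h' : deg θ ≤ deg χ := by exact_mod_cast h
  exact h'.trans_lt (hb χ)

theorem deg_quotient {p : ℕ} {G : Type u} [Group G] [Finite G]
    (hb : ∀ χ : Cfsg.IrrCharacter G, deg χ < p) (N : Subgroup G) [N.Normal]
    (θ : Cfsg.IrrCharacter (G ⧸ N)) : deg θ < p := by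
  have := Fintype.ofFinite G
  have := Fintype.ofFinite (G ⧸ N)
  set χ : Cfsg.IrrCharacter G := ⟨_, isIrr_comp_mk' (N := N) θ.2⟩
  have h : (deg χ : ℂ) = deg θ := by rw [← deg_spec, ← deg_spec]; rfl
  have h' : deg χ = deg θ := by exact_mod_cast h
  exact h' ▸ hb χ

theorem sylow_comm {p : ℕ} [hp : Fact p.Prime] {G : Type u} [Group G] [Finite G]
    (hb : ∀ χ : Cfsg.IrrCharacter G, deg χ < p) (P : Sylow p G) :
    ∀ a ∈ (P : Subgroup G), ∀ b ∈ (P : Subgroup G), a * b = b * a := by
  classical
  have := Fintype.ofFinite G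
  have := Fintype.ofFinite (P : Subgroup G)
  have hlin : ∀ θ : Cfsg.IrrCharacter (P : Subgroup G), deg θ = 1 := fun θ => by
    obtain ⟨i, hi⟩ := IsPGroup.iff_card.mp P.isPGroup'
    obtain ⟨j, -, hj⟩ := (Nat.dvd_prime_pow hp.out).mp (hi ▸ degree_dvd_card θ.2 (deg_spec θ))
    rcases Nat.eq_zero_or_pos j with h | h
    · rw [hj, h, pow_zero]
    · have := Nat.le_self_pow h.ne' p
      have := deg_subgroup hb _ θ
      omega
  intro a ha b hb'
  refine congrArg Subtype.val (comm_iff_forall_linear.mpr (fun θ => ?_) (⟨a, ha⟩ : (P : Subgroup G)) ⟨b, hb'⟩)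
  rw [deg_spec, hlin, Nat.cast_one]

theorem main (p : ℕ) [hp : Fact p.Prime] : ∀ (m : ℕ) (G : Type u) [Group G] [Finite G],
    Nat.card G = m → (∀ χ : Cfsg.IrrCharacter G, deg χ < p) →
    ∀ P : Sylow p G, (P : Subgroup G).Normal := by
  intro m
  induction m using Nat.strong_induction_on with
  | _ m ih =>
  intro G _ _ hm hb P
  classical
  have := Fintype.ofFinite G
  by_contra hP
  have hsub : ∀ L : Subgroup G, L ≠ ⊤ → ∀ Q : Sylow p L, (Q : Subgroup L).Normal := fun L hL =>
    ih (Nat.card L) (hm ▸ lt_of_le_of_ne L.card_le_card_group fun e => hL (L.eq_top_of_card_eq e))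
      L rfl (deg_subgroup hb L)
  have hgen : ∀ M : Subgroup G, M.Normal → (P : Subgroup G) ≤ M → M = ⊤ := by
    intro M hM hPM
    by_contra hne
    have hQ := hsub M hne (P.subtype hPM)
    have hchar := (P.subtype hPM).characteristic_of_normal hQ
    have h2 : ((P.subtype hPM : Subgroup M).map M.subtype).Normal := inferInstance
    rw [Sylow.coe_subtype, Subgroup.map_subgroupOf_eq_of_le hPM] at h2
    exact hP h2
  have hp2 : p ≠ 2 := by
    intro e
    refine hP ?_
    have hall : ∀ χ : Cfsg.IrrCharacter G, (χ : G → ℂ) 1 = 1 := fun χ => by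
      have h1 := hb χ
      have h2 := deg_pos χ
      rw [deg_spec, show deg χ = 1 by omega, Nat.cast_one]
    have hab := comm_iff_forall_linear.mpr hall
    exact ⟨fun x hx g => by rwa [hab g x, mul_inv_cancel_right]⟩
  have hquot : ∀ M : Subgroup G, M.Normal → M ≠ ⊥ → (M ⊔ (P : Subgroup G)).Normal := by
    intro M hM hMb
    have hlt : Nat.card (G ⧸ M) < m := by
      rw [← hm, ← M.index_mul_card]
      refine lt_mul_of_one_lt_right (Nat.pos_of_ne_zero Subgroup.index_ne_zero_of_finite) ?_
      exact lt_of_le_of_ne Nat.card_pos fun h => hMb (Subgroup.card_eq_one.mp h.symm)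
    have hN := ih _ hlt (G ⧸ M) rfl (deg_quotient hb M) (P.mapSurjective (QuotientGroup.mk'_surjective M))
    have h := hN.comap (QuotientGroup.mk' M)
    rwa [Sylow.coe_mapSurjective, Subgroup.comap_map_eq, QuotientGroup.ker_mk', sup_comm] at h
  -- every proper normal subgroup is trivial
  have hsimple : ∀ M : Subgroup G, M.Normal → M ≠ ⊥ → M = ⊤ := by
    intro M hM hMb
    by_contra hMt
    have htop := hgen _ (hquot M hM hMb) le_sup_right
    obtain ⟨R⟩ := (inferInstance : Nonempty (Sylow p M))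
    have hR := hsub M hMt R
    have hRc := R.characteristic_of_normal hR
    set R' := (R : Subgroup M).map M.subtype
    have hR'n : R'.Normal := inferInstance
    have hR'P : R' ≤ (P : Subgroup G) := by
      obtain ⟨S, hS⟩ := (R.isPGroup'.map M.subtype).exists_le_sylow
      obtain ⟨g, hg⟩ := MulAction.exists_smul_eq G S P
      intro x hx
      rw [← hg, Sylow.coe_subgroup_smul]
      have hx' := hR'n.conj_mem x hx g⁻¹
      rw [inv_inv] at hx'
      exact ⟨g⁻¹ * x * g, hS hx', by simp [mul_assoc]⟩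
    by_cases hRb : R' = ⊥
    · -- a normal `p'`-subgroup
      have hpM : ¬ p ∣ Nat.card M := by
        intro h
        have h1 : Nat.card R' = Nat.card R := Subgroup.card_map_of_injective M.subtype_injective
        rw [hRb, Subgroup.card_bot, R.card_eq_multiplicity] at h1
        have h' := (hp.out.dvd_iff_one_le_factorization Nat.card_pos.ne').mp h
        rcases Nat.pow_eq_one.mp h1.symm with h'' | h''
        · exact hp.out.one_lt.ne' h''
        · omega
      have hcomm : ∀ a ∈ M, ∀ x ∈ (P : Subgroup G), x * a = a * x := by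
        intro a ha x hx
        refine commute_of_fixes_irr (p := p) hpM ?_ ?_ a ha
        · obtain ⟨k, hk⟩ := IsPGroup.iff_orderOf.mp P.isPGroup' ⟨x, hx⟩
          exact ⟨k, by rw [← hk, Subgroup.orderOf_mk]⟩
        intro θ b
        have := Fintype.ofFinite M
        obtain ⟨χ, hχ⟩ := exists_irr_over M θ.2
        have horb : (orbit M θ).card = 1 := by
          obtain ⟨i, hi⟩ := IsPGroup.iff_card.mp P.isPGroup'
          have hidx : M.index ∣ p ^ i := by
            have h := CfsgLib.Cores.card_sup_dvd_mul M (P : Subgroup G)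
            rw [htop, Subgroup.card_top, ← M.card_mul_index, hi] at h
            exact Nat.dvd_of_mul_dvd_mul_left Nat.card_pos h
          obtain ⟨j, -, hj⟩ := (Nat.dvd_prime_pow hp.out).mp ((card_orbit_dvd_index M θ).trans hidx)
          rcases Nat.eq_zero_or_pos j with h | h
          · rw [hj, h, pow_zero]
          exfalso
          obtain ⟨e, he⟩ := classInner_char_nat (isCharacter_res M (isCharacter_of_isIrr χ.2))
            (isCharacter_of_isIrr θ.2)
          have hd := degree_eq_mul_card_orbit M χ.2 θ hχ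
          rw [deg_spec, he, deg_spec] at hd
          have hd' : deg χ = e * (orbit M θ).card * deg θ := by exact_mod_cast hd
          have := hb χ
          have := Nat.le_self_pow h.ne' p
          have := deg_pos χ
          have h2 : (orbit M θ).card ≤ deg χ := Nat.le_of_dvd this
            ⟨e * deg θ, by rw [hd']; ring⟩
          omega
        obtain ⟨φ, hφ⟩ := Finset.card_eq_one.mp horb
        have h1 : conjIrr M x θ = θ := by
          have ha' : conjIrr M x θ ∈ orbit M θ := (mem_orbit M).mpr ⟨x, (conjIrr_coe M x θ).symm⟩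
          have hθ' := self_mem_orbit M θ
          rw [hφ, Finset.mem_singleton] at ha' hθ'
          exact ha'.trans hθ'.symm
        exact congrFun (congrArg Subtype.val h1) b
      exact hP (sylow_normal_of_centralizes P (by rw [htop]; infer_instance) hcomm)
    · have h := hquot R' hR'n hRb
      rw [sup_eq_right.mpr hR'P] at h
      exact hP h
  have hne : Nontrivial G := by
    by_contra h
    rw [not_nontrivial_iff_subsingleton] at h
    exact hP ⟨fun a ha g => by rwa [Subsingleton.elim (g * a * g⁻¹) a]⟩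
  have : IsSimpleGroup G := ⟨fun H hH => (em (H = ⊥)).imp_right fun h => hsimple H hH h⟩
  have hna : ¬ IsMulCommutative G := fun h =>
    hP ⟨fun x hx g => by rwa [h.is_comm.comm g x, mul_inv_cancel_right]⟩
  have hZ : (P : Subgroup G) ⊓ Subgroup.center G = ⊥ := by
    rcases IsSimpleGroup.eq_bot_or_eq_top_of_normal (Subgroup.center G) inferInstance with h | h
    · rw [h, inf_bot_eq]
    · exact absurd ⟨⟨fun a b => (Subgroup.mem_center_iff.mp (h.ge (Subgroup.mem_top b)) a)⟩⟩ hna
  have hP1 : (P : Subgroup G) ≠ ⊥ := fun h => hP (by rw [h]; infer_instance)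
  have := Fintype.ofFinite (P : Subgroup G)
  obtain ⟨u, hu, hu1⟩ : ∃ u ∈ (P : Subgroup G), u ≠ 1 := by
    by_contra h
    push Not at h
    exact hP1 ((Subgroup.eq_bot_iff_forall _).mpr h)
  obtain ⟨ψ, hψ⟩ : ∃ ψ : Cfsg.IrrCharacter G, (ψ : G → ℂ) u ≠ (ψ : G → ℂ) 1 := by
    by_contra h
    push Not at h
    exact hu1 (isConj_one_left.mp ((isConj_iff_forall_irr u 1).mpr h))
  have hd1 : (ψ : G → ℂ) 1 ≠ 1 := by
    intro h
    refine hψ ?_
    have hm := linear_map_mul (isCharacter_of_isIrr ψ.2) h
    have htop : commutator G = ⊤ := hsimple _ inferInstance fun e =>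
      hna ⟨⟨fun a b => commutatorElement_eq_one_iff_mul_comm.mp (Subgroup.mem_bot.mp
        (e ▸ Subgroup.commutator_mem_commutator (Subgroup.mem_top a) (Subgroup.mem_top b)))⟩⟩
    have hk : commutator G ≤ charKer (isCharacter_of_isIrr ψ.2) := by
      show ⁅(⊤ : Subgroup G), ⊤⁆ ≤ _
      rw [Subgroup.commutator_le]
      intro a _ b _
      rw [mem_charKer, commutatorElement_def, hm (a * b * a⁻¹), isClassFunction_of_isIrr ψ.2, ← hm,
        mul_inv_cancel]
    exact mem_charKer.mp (hk (htop.ge (Subgroup.mem_top u)))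
  have hbound := (Cfsg.Agent.S0898.result (P : Subgroup G) (sylow_comm hb P) hZ
    (meets_one_conjugate P hZ (sylow_comm hb) hsub) ψ.1 ψ.2 ⟨u, hu, hψ⟩).2 hd1 hgen
  rw [deg_spec, Complex.natCast_re] at hbound
  have hb' : Nat.card (P : Subgroup G) < (1 + deg ψ) ^ 2 := by exact_mod_cast hbound
  have hb2 : (1 + deg ψ) ^ 2 ≤ p ^ 2 := Nat.pow_le_pow_left (by have := hb ψ; omega) 2
  have hcard : Nat.card P = p := by
    obtain ⟨i, hi⟩ := IsPGroup.iff_card.mp P.isPGroup'
    rcases (show i = 0 ∨ i = 1 ∨ 2 ≤ i by omega) with h | h | h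
    · exact absurd (Subgroup.card_eq_one.mp (by rw [hi, h, pow_zero])) hP1
    · rw [show Nat.card P = Nat.card (P : Subgroup G) from rfl, hi, h, pow_one]
    · have := Nat.pow_le_pow_right hp.out.pos h
      omega
  exact no_simple_small_degrees hna hp2 P hcard hb

/-- Let p be a prime and G a finite group all of whose irreducible character degrees are less than p. Then G has a normal abelian Sylow p-subgroup. -/
theorem result {G : Type*} [Group G] [Finite G] (p : ℕ) (hp : p.Prime) (hb : ∀ χ : Cfsg.IrrCharacter G, Cfsg.charDegree (χ : G → ℂ) < p) : ∃ P : Subgroup G, P.Normal ∧ (∀ x ∈ P, ∀ y ∈ P, x * y = y * x) ∧ IsPGroup p P ∧ ¬ p ∣ P.index := by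
  have := Fact.mk hp
  obtain ⟨P⟩ := (inferInstance : Nonempty (Sylow p G))
  have := Fintype.ofFinite G
  have hb' : ∀ χ : Cfsg.IrrCharacter G, deg χ < p := fun χ => by
    rw [← CfsgLib.SmallGroups.BrauerFew.deg_eq_charDegree]; exact hb χ
  exact ⟨P, main p _ G rfl hb' P, sylow_comm hb' P, P.isPGroup', P.not_dvd_index⟩

end Cfsg.Agent.S4464
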