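import Cfsg.Statements.S4466
import Cfsg.Agent.Lib.CharNormal.Clifford
import Cfsg.Agent.Lib.CharNormal.SmallDegrees
import Cfsg.Agent.Lib.Char.Burnside
import Cfsg.Agent.S4464
import Cfsg.Agent.Lib.InvolChar.A8Normalizer

set_option autoImplicit false
open Cfsg

namespace Cfsg.Agent.S4466

open CfsgLib.Char CfsgLib.InvolChar CfsgLib.CharNormal CfsgLib.Blocks
open scoped ComplexConjugate commutatorElement

universe u

def PrimeDegrees (G : Type u) [Group G] : Prop :=
  ∀ χ : Cfsg.IrrCharacter G, deg χ = 1 ∨ (deg χ).Prime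

theorem normal_subgroup {G : Type u} [Group G] [Finite G] (h : PrimeDegrees G) (N : Subgroup G)
    [N.Normal] : PrimeDegrees N := by
  classical
  have := Fintype.ofFinite G
  have := Fintype.ofFinite N
  intro θ
  obtain ⟨χ, hχ⟩ : ∃ χ : Cfsg.IrrCharacter G,
      Cfsg.classInner (fun x : N => (χ : G → ℂ) x) (θ : N → ℂ) ≠ 0 := by
    by_contra hcon
    push Not at hcon
    have h1 : ∑ χ : Cfsg.IrrCharacter G, (χ : G → ℂ) 1 *
        Cfsg.classInner (fun x : N => (χ : G → ℂ) x) (θ : N → ℂ) = 0 :=
      Finset.sum_eq_zero fun χ _ => by rw [hcon χ, mul_zero]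
    simp only [classInner_def, Finset.mul_sum] at h1
    rw [Finset.sum_comm, Finset.sum_congr rfl fun (x : N) _ => show
      (∑ χ : Cfsg.IrrCharacter G, (χ : G → ℂ) 1 * ((Nat.card N : ℂ)⁻¹ *
        ((χ : G → ℂ) x * (starRingEnd ℂ) ((θ : N → ℂ) x)))) =
      (if (x : G) = 1 then (Nat.card G : ℂ) else 0) *
        ((Nat.card N : ℂ)⁻¹ * (starRingEnd ℂ) ((θ : N → ℂ) x)) by
      rw [← sum_degree_mul_apply, Finset.sum_mul]
      exact Finset.sum_congr rfl fun χ _ => by ring,
      Finset.sum_eq_single (1 : N) (fun x _ hx => by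
        rw [if_neg fun (h : (x : G) = 1) => hx (Subtype.ext h), zero_mul]) (by simp), if_pos (OneMemClass.coe_one N),
      char_conj_one (isCharacter_of_isIrr θ.2)] at h1
    exact mul_ne_zero card_ne_zero' (mul_ne_zero (inv_ne_zero card_ne_zero')
      (irr_one_ne_zero θ.2)) h1
  obtain ⟨e, he⟩ := classInner_char_nat (isCharacter_res N (isCharacter_of_isIrr χ.2))
    (isCharacter_of_isIrr θ.2)
  have hd := degree_eq_mul_card_orbit N χ.2 θ hχ
  rw [he, deg_spec, deg_spec] at hd
  have hdvd : deg θ ∣ deg χ := ⟨e * (orbit N θ).card, by rw [mul_comm]; exact_mod_cast hd⟩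
  rcases h χ with h1 | h1
  · exact Or.inl (Nat.dvd_one.mp (h1 ▸ hdvd))
  · rcases h1.eq_one_or_self_of_dvd _ hdvd with h2 | h2
    · exact Or.inl h2
    · exact Or.inr (h2.symm ▸ h1)

theorem quotient {G : Type u} [Group G] [Finite G] (h : PrimeDegrees G) (N : Subgroup G) [N.Normal] :
    PrimeDegrees (G ⧸ N) := by
  have := Fintype.ofFinite G
  have := Fintype.ofFinite (G ⧸ N)
  intro θ
  set χ : Cfsg.IrrCharacter G := ⟨_, isIrr_comp_mk' (N := N) θ.2⟩
  have h1 : (deg χ : ℂ) = deg θ := by rw [← deg_spec, ← deg_spec]; rfl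
  have h2 : deg χ = deg θ := by exact_mod_cast h1
  exact h2 ▸ h χ

theorem no_simple {G : Type u} [Group G] [Fintype G] [IsSimpleGroup G]
    (hna : ¬ IsMulCommutative G) (h : PrimeDegrees G) : False := by
  classical
  have hperf : commutator G = ⊤ := by
    refine (IsSimpleGroup.eq_bot_or_eq_top_of_normal (commutator G) inferInstance).resolve_left fun h => ?_
    refine hna ⟨⟨fun a b => commutatorElement_eq_one_iff_mul_comm.mp ?_⟩⟩
    exact Subgroup.mem_bot.mp (h ▸ Subgroup.commutator_mem_commutator (Subgroup.mem_top a)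
      (Subgroup.mem_top b))
  have hnsolv : ¬ Group.IsSolvable G := fun hs => hna ⟨⟨fun a b =>
    IsSimpleGroup.comm_iff_isSolvable.mpr hs a b⟩⟩
  obtain ⟨χ, -, hmax⟩ := Finset.exists_max_image (Finset.univ : Finset (Cfsg.IrrCharacter G)) deg
    ⟨irrOne, Finset.mem_univ _⟩
  -- small degrees
  have hsmall : ∀ b : ℕ, b ≤ 3 → (∀ ψ : Cfsg.IrrCharacter G, deg ψ ≤ b) → False := by
    intro b hb hle
    refine hnsolv ?_
    have hdiv : ∀ r : ℕ, r.Prime → r ∣ Nat.card G → r = 2 ∨ r = 3 := by
      intro r hr hrd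
      by_contra hne
      push Not at hne
      have hr5 : 3 < r := by
        have := hr.two_le
        omega
      obtain ⟨Q, hQn, -, hQp, hQi⟩ := Cfsg.Agent.S4464.result r hr (G := G) fun ψ => by
        rw [CfsgLib.SmallGroups.BrauerFew.deg_eq_charDegree]
        exact ((hle ψ).trans hb).trans_lt hr5
      rcases IsSimpleGroup.eq_bot_or_eq_top_of_normal Q hQn with h' | h'
      · subst h'
        rw [Subgroup.index_bot] at hQi
        exact hQi hrd
      · subst h'
        have := Fact.mk hr
        exact hnsolv (by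
          have := (hQp.of_equiv Subgroup.topEquiv).isNilpotent
          infer_instance)
    refine isSolvable_of_card_eq_pow_mul_pow Nat.prime_two Nat.prime_three
      (a := (Nat.card G).factorization 2) (b := (Nat.card G).factorization 3) ?_
    rw [Nat.dvd_iff_prime_pow_dvd_dvd]
    intro r k hr hrk
    rcases k.eq_zero_or_pos with rfl | hk
    · rw [pow_zero]; exact one_dvd _
    · rcases hdiv r hr ((dvd_pow_self r hk.ne').trans hrk) with rfl | rfl
      · exact (pow_dvd_pow 2 ((hr.pow_dvd_iff_le_factorization Nat.card_pos.ne').mp hrk)).trans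
          (dvd_mul_right _ _)
      · exact (pow_dvd_pow 3 ((hr.pow_dvd_iff_le_factorization Nat.card_pos.ne').mp hrk)).trans
          (dvd_mul_left _ _)
  rcases h χ with h1 | hp
  · exact hsmall 1 (by norm_num) fun ψ => h1 ▸ hmax ψ (Finset.mem_univ _)
  set p := deg χ with hpdef
  have hp' : Fact p.Prime := ⟨hp⟩
  by_cases hp3 : p ≤ 3
  · exact hsmall p hp3 fun ψ => hmax ψ (Finset.mem_univ _)
  have hfaith : ∀ g, (χ : G → ℂ) g = (χ : G → ℂ) 1 → g = 1 := by
    intro g hg
    rcases IsSimpleGroup.eq_bot_or_eq_top_of_normal _ (charKer_normal (isCharacter_of_isIrr χ.2)) with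
      h' | h'
    · exact Subgroup.mem_bot.mp (h' ▸ mem_charKer.mpr hg)
    · exfalso
      refine hna ⟨⟨fun a b => ?_⟩⟩
      have hc : ∀ x, (χ : G → ℂ) x = p := fun x => by
        rw [mem_charKer.mp (h'.ge (Subgroup.mem_top x)), deg_spec]
      have h2 := classInner_irr_self χ.2
      rw [classInner_def] at h2
      simp only [hc, map_natCast, Finset.sum_const, Finset.card_univ, nsmul_eq_mul,
        ← Nat.card_eq_fintype_card, inv_mul_cancel_left₀ card_ne_zero'] at h2
      have h3 : p * p = 1 := by exact_mod_cast h2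
      have := Nat.eq_one_of_mul_eq_one_left h3
      omega
  have hZ : Subgroup.center G = ⊥ := by
    refine (IsSimpleGroup.eq_bot_or_eq_top_of_normal _ inferInstance).resolve_right fun h' => ?_
    exact hna ⟨⟨fun a b => Subgroup.mem_center_iff.mp (h'.ge (Subgroup.mem_top b)) a⟩⟩
  obtain ⟨P⟩ := (inferInstance : Nonempty (Sylow p G))
  let _ := Fintype.ofFinite (P : Subgroup G)
  have hpG : p ∣ Nat.card G := degree_dvd_card χ.2 (deg_spec χ)
  -- the values at elements centralizing the Sylow subgroup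
  have hvan : ∀ z ∈ (P : Subgroup G), z ≠ 1 → (P : Subgroup G) ≤ Subgroup.centralizer {z} →
      (χ : G → ℂ) z = 0 := by
    intro z hz hz1 hle
    obtain ⟨d, ρ, hirr, hρ⟩ := χ.2
    have hfr : Module.finrank ℂ (Fin d → ℂ) = p := by
      have h' := congrFun hρ 1
      rw [Representation.char_one, deg_spec] at h'
      exact_mod_cast h'
    rw [← congrFun hρ z]
    refine (zero_or_norm_eq ρ z ?_).resolve_right fun hn => ?_
    · rw [hfr]
      exact hp.coprime_iff_not_dvd.mpr fun hd =>
        P.not_dvd_index (hd.trans (Subgroup.index_dvd_of_le hle))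
    · obtain ⟨ω, hω⟩ := (norm_character_eq_iff ρ z).mp hn
      refine hz1 (Subgroup.mem_bot.mp (hZ ▸ Subgroup.mem_center_iff.mpr fun g => ?_))
      refine commutatorElement_eq_one_iff_mul_comm.mp (hfaith _ ?_)
      rw [← congrFun hρ, ← congrFun hρ]
      refine congrArg (LinearMap.trace ℂ _) ?_
      have hc : ρ g * ρ z = ρ z * ρ g := by
        rw [hω]; exact LinearMap.ext fun v => by simp
      simp only [commutatorElement_def, map_mul]
      rw [hc, mul_assoc (ρ z), ← map_mul ρ g, mul_inv_cancel, map_one, mul_one, ← map_mul, mul_inv_cancel,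
        map_one]
  -- the Sylow subgroup is abelian
  have hcomm : ∀ a b : (P : Subgroup G), a * b = b * a := by
    by_contra hcon
    have hP1 : (P : Subgroup G) ≠ ⊥ := fun e => hcon fun a b => by
      have : Subsingleton (P : Subgroup G) := by rw [e]; infer_instance
      exact Subsingleton.elim _ _
    have : Nontrivial (P : Subgroup G) := (Subgroup.nontrivial_iff_ne_bot _).mpr hP1
    have := P.isPGroup'.center_nontrivial
    obtain ⟨⟨z, hz⟩, hz1⟩ := exists_ne (1 : Subgroup.center (P : Subgroup G))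
    have hz1' : (z : G) ≠ 1 := fun e => hz1 (Subtype.ext (Subtype.ext e))
    have h0 : (χ : G → ℂ) z = 0 := hvan z z.2 hz1' fun a ha =>
      Subgroup.mem_centralizer_singleton_iff.mpr
        (congrArg Subtype.val (Subgroup.mem_center_iff.mp hz ⟨a, ha⟩))
    obtain ⟨c, hc, hci⟩ := char_decomp (isCharacter_res (P : Subgroup G) (isCharacter_of_isIrr χ.2))
    obtain ⟨ψ, hψ0, hψ1⟩ : ∃ ψ : Cfsg.IrrCharacter (P : Subgroup G), c ψ ≠ 0 ∧ deg ψ ≠ 1 := by
      by_contra hall
      push Not at hall
      refine hcon fun a b => Subtype.ext (commutatorElement_eq_one_iff_mul_comm.mp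
        (hfaith ⁅(a : G), (b : G)⁆ ?_))
      have e1 := congrFun hc ⁅a, b⁆
      have e2 := congrFun hc 1
      simp only [Finset.sum_apply, Pi.smul_apply, smul_eq_mul] at e1 e2
      have e3 : ∀ ψ : Cfsg.IrrCharacter (P : Subgroup G),
          (c ψ : ℂ) * (ψ : ↥(P : Subgroup G) → ℂ) ⁅a, b⁆ = (c ψ : ℂ) * (ψ : ↥(P : Subgroup G) → ℂ) 1 := by
        intro ψ
        by_cases h0 : c ψ = 0
        · simp [h0]
        · have h1 : (ψ : ↥(P : Subgroup G) → ℂ) 1 = 1 := by rw [deg_spec, hall ψ h0, Nat.cast_one]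
          have hm := linear_map_mul (isCharacter_of_isIrr ψ.2) h1
          rw [commutatorElement_def, hm (a * b * a⁻¹), isClassFunction_of_isIrr ψ.2, ← hm, mul_inv_cancel]
      rw [Finset.sum_congr rfl fun ψ _ => e3 ψ, ← e2] at e1
      exact e1
    have hle : deg ψ ≤ p := by
      have h' := constituent_degree_le (isCharacter_res (P : Subgroup G) (isCharacter_of_isIrr χ.2)) ψ.2
        (by rw [hci]; exact_mod_cast hψ0)
      simp only [OneMemClass.coe_one, deg_spec, Complex.natCast_re] at h'
      exact_mod_cast h'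
    obtain ⟨i, hi⟩ := IsPGroup.iff_card.mp P.isPGroup'
    obtain ⟨j, -, hj⟩ := (Nat.dvd_prime_pow hp).mp (hi ▸ degree_dvd_card ψ.2 (deg_spec ψ))
    have hdψ : deg ψ = p := by
      rcases (show j = 0 ∨ 1 ≤ j by omega) with h' | h'
      · exact absurd (by rw [hj, h', pow_zero]) hψ1
      · exact le_antisymm hle (hj ▸ Nat.le_self_pow (by omega) p)
    have heq : (fun u : (P : Subgroup G) => (χ : G → ℂ) u) = (ψ : ↥(P : Subgroup G) → ℂ) := by
      have e2 := congrFun hc 1
      simp only [Finset.sum_apply, Pi.smul_apply, smul_eq_mul, OneMemClass.coe_one, deg_spec] at e2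
      have e3 : p = ∑ φ, c φ * deg φ := by exact_mod_cast e2
      have e4 : p ≤ c ψ * deg ψ := by
        rw [hdψ]; exact Nat.le_mul_of_pos_left _ (Nat.pos_of_ne_zero hψ0)
      rw [← Finset.add_sum_erase _ _ (Finset.mem_univ ψ)] at e3
      have h6 : c ψ * deg ψ = p := by omega
      have h7 : c ψ = 1 := by
        rw [hdψ] at h6
        exact Nat.eq_of_mul_eq_mul_right hp.pos (h6.trans (one_mul p).symm)
      rw [hc, ← Finset.add_sum_erase _ _ (Finset.mem_univ ψ), h7, Nat.cast_one, one_smul,
        Finset.sum_eq_zero fun φ hφ => ?_, add_zero]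
      have h8 : c φ * deg φ = 0 := by
        have := Finset.single_le_sum (f := fun φ => c φ * deg φ) (fun _ _ => Nat.zero_le _) hφ
        omega
      rw [(mul_eq_zero.mp h8).resolve_right (deg_pos φ).ne', Nat.cast_zero, zero_smul]
    have h9 := apply_central_mul' ψ.2 hz (⟨z, hz⟩ : Subgroup.center (P : Subgroup G)).1⁻¹
    rw [mul_inv_cancel, ← congrFun heq z, h0, zero_mul, zero_div] at h9
    exact irr_one_ne_zero ψ.2 h9
  -- its order is `p`
  have hP : Nat.card (P : Subgroup G) = p := by
    obtain ⟨m, hm⟩ := classInner_char_nat (isCharacter_res (P : Subgroup G) (isCharacter_of_isIrr χ.2))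
      (isCharacter_one (G := (P : Subgroup G)))
    have h5 := card_mul_classInner (fun u : (P : Subgroup G) => (χ : G → ℂ) u) (fun _ => 1)
    rw [hm, Finset.sum_eq_single (1 : (P : Subgroup G)), OneMemClass.coe_one, map_one, mul_one,
      deg_spec] at h5
    · have h6 : Nat.card (P : Subgroup G) * m = p := by exact_mod_cast h5
      rcases hp.eq_one_or_self_of_dvd _ ⟨m, h6.symm⟩ with h' | h'
      · exfalso
        have := P.dvd_card_of_dvd_card hpG
        rw [show Nat.card P = Nat.card (P : Subgroup G) from rfl, h'] at this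
        exact hp.not_dvd_one this
      · exact h'
    · intro u _ hu
      rw [hvan u u.2 (fun e => hu (Subtype.ext e)) (fun a ha =>
        Subgroup.mem_centralizer_singleton_iff.mpr (congrArg Subtype.val (hcomm ⟨a, ha⟩ u))), zero_mul]
    · simp
  -- the principal block
  obtain ⟨M, hM⟩ := CfsgLib.Blocks.exists_isPModular hp
  have : M.IsMaximal := hM.2.1
  set e := (Subgroup.centralizer ((P : Subgroup G) : Set G)).relIndex
    (Subgroup.normalizer ((P : Subgroup G) : Set G)) with he
  have he1 : e ≠ 1 := fun h' =>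
    CfsgLib.SmallGroups.not_normalizer_le_centralizer hna hpG P (Subgroup.relIndex_eq_one.mp h')
  have hedvd : e ∣ p - 1 := PrimeSylow.relIndex_dvd P hP
  obtain ⟨X, Y, -, -, hXcard, -, -, εX, ε, hX, -⟩ := principal_block_prime_sylow P hM hP e rfl
  obtain ⟨ξ, hξ, hξ1⟩ : ∃ ξ ∈ X, ξ ≠ irrOne := by
    by_contra hcon
    push Not at hcon
    have hle : e ≤ 1 := by
      rw [← hXcard, Nat.card_coe_set_eq]
      exact (Set.ncard_le_ncard (t := {irrOne}) hcon (Set.finite_singleton _)).trans
        (Set.ncard_singleton _).le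
    rcases Nat.le_one_iff_eq_zero_or_eq_one.mp hle with h' | h'
    · rw [h'] at hedvd
      have := Nat.eq_zero_of_zero_dvd hedvd
      omega
    · exact he1 h'
  have hd := CfsgLib.SmallGroups.BrauerFew.one_lt_deg hperf hξ1
  have hdp : (deg ξ).Prime := (h ξ).resolve_left (by omega)
  have hdle := hmax ξ (Finset.mem_univ _)
  obtain ⟨hs, hcong, -⟩ := hX ξ hξ
  rw [CfsgLib.SmallGroups.BrauerFew.deg_eq_charDegree, Int.modEq_iff_dvd] at hcong
  rcases hs with h' | h' <;> rw [h'] at hcong
  · have := Int.le_of_dvd (by omega) (dvd_neg.mpr hcong)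
    omega
  · rw [show (-1 : ℤ) - (deg ξ : ℤ) = -((deg ξ : ℤ) + 1) by ring, dvd_neg] at hcong
    have h2 := Int.le_of_dvd (by omega) hcong
    have hodd := hp.odd_of_ne_two (by omega)
    have h4 : deg ξ = p - 1 := by
      by_contra h5
      have h6 : deg ξ = p := by omega
      rw [h6] at hcong
      have := Int.eq_one_of_dvd_one (Int.natCast_nonneg p) ((dvd_add_right (dvd_refl _)).mp hcong)
      omega
    rcases hdp.eq_two_or_odd' with h5 | h5
    · omega
    · rw [h4] at h5
      obtain ⟨k, hk⟩ := hodd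
      obtain ⟨l, hl⟩ := h5
      omega

theorem main : ∀ (m : ℕ) (G : Type u) [Group G] [Finite G], Nat.card G = m → PrimeDegrees G →
    Group.IsSolvable G := by
  intro m
  induction m using Nat.strong_induction_on with
  | _ m ih =>
  intro G _ _ hm h
  classical
  have := Fintype.ofFinite G
  by_cases hN : ∃ N : Subgroup G, N.Normal ∧ N ≠ ⊥ ∧ N ≠ ⊤
  · obtain ⟨N, hNn, hb, ht⟩ := hN
    have h1 : Group.IsSolvable N := ih _ (hm ▸ lt_of_le_of_ne N.card_le_card_group fun e =>
      ht (N.eq_top_of_card_eq e)) N rfl (normal_subgroup h N)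
    have hlt : Nat.card (G ⧸ N) < m := by
      rw [← hm, ← N.index_mul_card]
      refine lt_mul_of_one_lt_right (Nat.pos_of_ne_zero Subgroup.index_ne_zero_of_finite) ?_
      exact lt_of_le_of_ne Nat.card_pos fun h => hb (Subgroup.card_eq_one.mp h.symm)
    have h2 : Group.IsSolvable (G ⧸ N) := ih _ hlt (G ⧸ N) rfl (quotient h N)
    exact CfsgLib.InvolChar.A8Normalizer.isSolvable_of_normal N h1 h2
  · push Not at hN
    by_cases hna : IsMulCommutative G
    · exact Group.isSolvable_of_comm fun a b => hna.is_comm.comm a b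
    · have : Nontrivial G := not_subsingleton_iff_nontrivial.mp fun _ =>
        hna ⟨⟨fun a b => Subsingleton.elim _ _⟩⟩
      have : IsSimpleGroup G := ⟨fun N hNn => or_iff_not_imp_left.mpr (hN N hNn)⟩
      exact (no_simple hna h).elim

/-- If every irreducible character of the finite group G of degree greater than one has prime degree, then G is solvable. -/
theorem result {G : Type*} [Group G] [Finite G] (h : ∀ χ : Cfsg.IrrCharacter G, Cfsg.charDegree (χ : G → ℂ) ≠ 1 → (Cfsg.charDegree (χ : G → ℂ)).Prime) : Group.IsSolvable G := by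
  have := Fintype.ofFinite G
  refine main _ G rfl fun χ => ?_
  by_cases h1 : CfsgLib.InvolChar.deg χ = 1
  · exact Or.inl h1
  · refine Or.inr ?_
    have := h χ (by rwa [CfsgLib.SmallGroups.BrauerFew.deg_eq_charDegree])
    rwa [CfsgLib.SmallGroups.BrauerFew.deg_eq_charDegree] at this

end Cfsg.Agent.S4466
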