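import Cfsg.Statements.S4467
import Cfsg.Agent.Lib.CharNormal.LinearDivisorStep

set_option autoImplicit false
open Cfsg

namespace Cfsg.Agent.S4467

/-- Let the finite solvable group G have a faithful irreducible character of degree n, and suppose that for the prime p a Sylow p-subgroup of G is not normal. Then n is divisible by a prime power q > 1 with q congruent to −1, 0 or 1 modulo p. -/
theorem result {G : Type*} [Group G] [Finite G] (χ : Cfsg.IrrCharacter G) (hfaith : ∀ g : G, (χ : G → ℂ) g = (χ : G → ℂ) 1 → g = 1) (n : ℕ) (hn : Cfsg.charDegree (χ : G → ℂ) = n) (hsolv : Group.IsSolvable G) (p : ℕ) (hp : p.Prime) (P : Sylow p G) (hP : ¬ (P : Subgroup G).Normal) : ∃ q : ℕ, IsPrimePow q ∧ q ∣ n ∧ ((q : ℤ) ≡ -1 [ZMOD p] ∨ (q : ℤ) ≡ 0 [ZMOD p] ∨ (q : ℤ) ≡ 1 [ZMOD p]) := by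
  have := Fact.mk hp
  obtain ⟨d, hd0, hd⟩ := CfsgLib.Char.exists_degree_pos χ.2
  have hdn : d = n := by rw [← hn, Cfsg.charDegree, hd, Complex.natCast_re, Nat.floor_natCast]
  subst hdn
  by_contra hcon
  push Not at hcon
  refine hP (CfsgLib.CharNormal.irr_normal p (Nat.card G + 1) G (Nat.lt_succ_self _) hsolv χ.1 d
    χ.2 hfaith hd (fun q hq hqd hbad => ?_) P)
  obtain ⟨h1, h2, h3⟩ := hcon q hq hqd
  simp only [Int.modEq_iff_dvd] at h1 h2 h3
  rcases hbad with hb | hb | hb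
  · exact h2 (by rw [zero_sub, dvd_neg]; exact_mod_cast hb)
  · refine h3 ?_
    rw [← neg_sub, dvd_neg]
    have := Int.natCast_dvd_natCast.mpr hb
    rwa [Nat.cast_sub hq.one_lt.le, Nat.cast_one] at this
  · refine h1 ?_
    rw [show (-1 : ℤ) - q = -((q + 1 : ℕ) : ℤ) by push_cast; ring, dvd_neg]
    exact Int.natCast_dvd_natCast.mpr hb

end Cfsg.Agent.S4467
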