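import Cfsg.Statements.S4468
import Cfsg.Agent.Lib.CharNormal.ItoCoprime
import Cfsg.Agent.Lib.CharNormal.BlichfeldtHall
import Cfsg.Agent.Lib.Transfer.PSolvable
import Cfsg.Agent.Lib.Cores.Basic

set_option autoImplicit false
open Cfsg

namespace Cfsg.Agent.S4468

/-- Let the finite p-solvable group G have a faithful character χ of degree n ≤ p − 1 and suppose that a Sylow p-subgroup of G is not normal. Then n = p − 1, n is a power of 2, and χ is irreducible. -/
theorem result {G : Type*} [Group G] [Finite G] (χ : G → ℂ) (hχ : Cfsg.IsCharacter G χ) (hfaith : ∀ g : G, χ g = χ 1 → g = 1) (n : ℕ) (hn : Cfsg.charDegree χ = n) (p : ℕ) (hp : p.Prime) (hsolv : Cfsg.IsPSolvable p G) (hnp : n + 1 ≤ p) (P : Sylow p G) (hP : ¬ (P : Subgroup G).Normal) : n + 1 = p ∧ (∃ k : ℕ, n = 2 ^ k) ∧ Cfsg.IsIrrCharacter G χ := by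
  have := Fact.mk hp
  obtain ⟨d, hd⟩ := CfsgLib.Char.exists_degree hχ
  have hdn : d = n := by rw [← hn, Cfsg.charDegree, hd, Complex.natCast_re, Nat.floor_natCast]
  subst hdn
  set K := pPrimeCore p G
  have hK : ¬ p ∣ Nat.card K := CfsgLib.Cores.not_dvd_card_pPrimeCore p
  refine (CfsgLib.CharNormal.sylow_normal_or_extreme hχ hfaith hd hnp P hK ?_).resolve_left hP
  have hab : ∀ a b : (P : Subgroup G), a * b = b * a :=
    CfsgLib.CharNormal.comm_of_faithful_small (CfsgLib.Char.isCharacter_res _ hχ)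
      (fun g h => Subtype.ext (hfaith _ h)) hd fun q hq hqd => by
        obtain ⟨i, hi⟩ := IsPGroup.iff_card.mp P.isPGroup'
        rw [hi] at hqd
        rw [(Nat.prime_dvd_prime_iff_eq hq hp).mp (hq.dvd_of_dvd_pow hqd)]
        omega
  set Pb : Sylow p (G ⧸ K) := P.mapSurjective (QuotientGroup.mk'_surjective K) with hPb
  have hcore : pCore p (G ⧸ K) = (Pb : Subgroup (G ⧸ K)) := by
    refine le_antisymm (CfsgLib.Cores.pCore_le_sylow Pb) fun y hy => ?_
    refine CfsgLib.Transfer.centralizer_pCore_le_of_isPSolvable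
      (CfsgLib.Transfer.isPSolvable_quotient hsolv K) (CfsgLib.Cores.pPrimeCore_quotient_self p)
      (Subgroup.mem_centralizer_iff.mpr fun z hz => ?_)
    have hz' := CfsgLib.Cores.pCore_le_sylow Pb hz
    rw [hPb, Sylow.coe_mapSurjective] at hy hz'
    obtain ⟨a, ha, rfl⟩ := hy
    obtain ⟨b, hb, rfl⟩ := hz'
    rw [← map_mul, ← map_mul]
    exact congrArg _ (congrArg Subtype.val (hab ⟨b, hb⟩ ⟨a, ha⟩))
  have he : K ⊔ (P : Subgroup G) = (pCore p (G ⧸ K)).comap (QuotientGroup.mk' K) := by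
    rw [hcore, hPb, Sylow.coe_mapSurjective, Subgroup.comap_map_eq, QuotientGroup.ker_mk', sup_comm]
  rw [he]
  have : (pCore p (G ⧸ K)).Normal := Subgroup.sSup_normal _ fun _ h => h.1
  exact this.comap _

end Cfsg.Agent.S4468
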