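import Cfsg.Statements.S4471
import Cfsg.Agent.Lib.BlockArith.TwoEigen
import Cfsg.Agent.Lib.CharNormal.CentralCount
import Cfsg.Agent.Lib.CharNormal.Clifford
import Cfsg.Agent.Lib.Char.Linear
import Cfsg.Agent.Lib.Cores.Basic
import Cfsg.Agent.Lib.CharBlocks.Degree
import Cfsg.Agent.Lib.PGroup.Basic

set_option autoImplicit false
open Cfsg

namespace Cfsg.Agent.S4471

/-- Let p ≥ 7 be a prime and let the finite group G have a faithful irreducible character of degree n with n < 2p and n ≠ p. If the Sylow p-subgroups of G are non-abelian then p² does not divide the index of O_p(G) in G; consequently, in every case G/O_p(G) has abelian Sylow p-subgroups. -/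
theorem result {G : Type*} [Group G] [Finite G] (χ : Cfsg.IrrCharacter G) (hfaith : ∀ g : G, (χ : G → ℂ) g = (χ : G → ℂ) 1 → g = 1) (n : ℕ) (hn : Cfsg.charDegree (χ : G → ℂ) = n) (p : ℕ) (hp : p.Prime) (h7 : 7 ≤ p) (hn2 : n < 2 * p) (hnp : n ≠ p) : ((∃ P : Sylow p G, ∃ x ∈ (P : Subgroup G), ∃ y ∈ (P : Subgroup G), x * y ≠ y * x) → ¬ p ^ 2 ∣ (Cfsg.pCore p G).index) ∧ ∀ Q : Sylow p (G ⧸ Cfsg.pCore p G), ∀ x ∈ (Q : Subgroup (G ⧸ Cfsg.pCore p G)), ∀ y ∈ (Q : Subgroup (G ⧸ Cfsg.pCore p G)), x * y = y * x := by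
  classical
  have : Fact p.Prime := ⟨hp⟩
  let _ := Fintype.ofFinite G
  have hN : (Cfsg.pCore p G).Characteristic := CfsgLib.Cores.pCore_characteristic p
  suffices h : (∃ P : Sylow p G, ∃ x ∈ (P : Subgroup G), ∃ y ∈ (P : Subgroup G), x * y ≠ y * x) →
      ¬ p ^ 2 ∣ (Cfsg.pCore p G).index by
    refine ⟨h, fun Q x hx y hy => ?_⟩
    obtain ⟨P, rfl⟩ := Sylow.mapSurjective_surjective (QuotientGroup.mk'_surjective (Cfsg.pCore p G)) p Q
    by_cases hab : ∃ x ∈ (P : Subgroup G), ∃ y ∈ (P : Subgroup G), x * y ≠ y * x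
    · have hidx := h ⟨P, hab⟩
      rw [Subgroup.index_eq_card] at hidx
      obtain ⟨k, hk⟩ := IsPGroup.iff_card.1 (P.mapSurjective (QuotientGroup.mk'_surjective (Cfsg.pCore p G))).2
      have hk1 : k ≤ 1 := by
        by_contra hk2
        exact hidx (((Nat.pow_dvd_pow p (by omega : 2 ≤ k)).trans (dvd_of_eq hk.symm)).trans
          (Subgroup.card_subgroup_dvd_card _))
      have := isCyclic_of_card_dvd_prime (p := p) (hk ▸ (Nat.pow_dvd_pow p hk1).trans (dvd_of_eq (pow_one p)))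
      exact congrArg Subtype.val (IsCyclic.isMulCommutative.is_comm.comm ⟨x, hx⟩ ⟨y, hy⟩)
    · push Not at hab
      rw [Sylow.coe_mapSurjective] at hx hy
      obtain ⟨a, ha, rfl⟩ := hx
      obtain ⟨b, hb, rfl⟩ := hy
      rw [← map_mul, ← map_mul, hab a ha b hb]
  rintro ⟨P, hab⟩ hdvd
  have hχc := CfsgLib.Char.isCharacter_of_isIrr χ.2
  obtain ⟨d₀, ρ, hirr, hρχ⟩ := χ.2
  have hχ1 : (χ : G → ℂ) 1 = (n : ℂ) := by rw [← hn, CfsgLib.CharBlocks.coe_charDegree hχc]
  have hρinj : Function.Injective ρ := fun a b hab => by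
    have h1 : (χ : G → ℂ) (b⁻¹ * a) = (χ : G → ℂ) 1 := by
      rw [← hρχ]
      simp only [Representation.character, map_mul, hab]
      rw [← map_mul, inv_mul_cancel]
    exact (inv_mul_eq_one.1 (hfaith _ h1)).symm
  let _ := Fintype.ofFinite (P : Subgroup G)
  have hres := CfsgLib.Char.isCharacter_res (P : Subgroup G) hχc
  obtain ⟨mult, hmult, -⟩ := CfsgLib.Char.char_decomp hres
  choose dg hdg using fun ψ : Cfsg.IrrCharacter (P : Subgroup G) =>
    CfsgLib.Char.exists_degree (CfsgLib.Char.isCharacter_of_isIrr ψ.2)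
  have htot : n = ∑ ψ, mult ψ * dg ψ := by
    have h1 := congrFun hmult 1
    simp only [OneMemClass.coe_one, hχ1, Finset.sum_apply, Pi.smul_apply, smul_eq_mul, hdg] at h1
    exact_mod_cast h1
  have hlin : ∀ ψ : Cfsg.IrrCharacter (P : Subgroup G), dg ψ = 1 → ∀ c ∈ commutator (P : Subgroup G),
      (ψ : ↥(P : Subgroup G) → ℂ) c = 1 := by
    intro ψ hψ c hc
    have h1 : (ψ : ↥(P : Subgroup G) → ℂ) 1 = 1 := by rw [hdg, hψ, Nat.cast_one]
    let l := CfsgLib.Char.linearHom (CfsgLib.Char.isCharacter_of_isIrr ψ.2) h1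
    have hc1 : l c = 1 := Abelianization.commutator_subset_ker l hc
    rw [← CfsgLib.Char.linearHom_apply (CfsgLib.Char.isCharacter_of_isIrr ψ.2) h1]
    exact (congrArg Units.val hc1).trans Units.val_one
  obtain ⟨x, hx, y, hy, hxy⟩ := hab
  set P' := commutator (P : Subgroup G) with hP'
  have hcne : ∀ c ∈ P', (χ : G → ℂ) (c : G) = (χ : G → ℂ) 1 → c = 1 :=
    fun c _ h => Subtype.ext (hfaith _ h)
  have hxyP' := Subgroup.commutator_mem_commutator (H₁ := (⊤ : Subgroup (P : Subgroup G))) (H₂ := ⊤)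
    (g₁ := ⟨x, hx⟩) (g₂ := ⟨y, hy⟩) trivial trivial
  rw [← commutator_def] at hxyP'
  have hP'bot : P' ≠ ⊥ := fun h => by
    rw [← hP', h, Subgroup.mem_bot, commutatorElement_eq_one_iff_mul_comm] at hxyP'
    exact hxy (congrArg Subtype.val hxyP')
  obtain ⟨ψ₀, hψ₀m, hψ₀d⟩ : ∃ ψ, mult ψ ≠ 0 ∧ dg ψ ≠ 1 := by
    by_contra hno
    push Not at hno
    refine hP'bot ((Subgroup.eq_bot_iff_forall _).2 fun c hc => hcne c hc ?_)
    have h1 := congrFun hmult c
    have h2 := congrFun hmult 1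
    simp only [Finset.sum_apply, Pi.smul_apply, smul_eq_mul, OneMemClass.coe_one] at h1 h2
    rw [h1, h2]
    refine Finset.sum_congr rfl fun ψ _ => ?_
    by_cases hm : mult ψ = 0
    · simp [hm]
    · rw [hlin ψ (hno ψ hm) c hc, hdg, hno ψ hm, Nat.cast_one]
  have hdegp : ∀ ψ, ∃ k, dg ψ = p ^ k := fun ψ => by
    obtain ⟨k, hk⟩ := IsPGroup.iff_card.1 P.2
    obtain ⟨j, -, hj⟩ := (Nat.dvd_prime_pow hp).1 (hk ▸ CfsgLib.Char.degree_dvd_card ψ.2 (hdg ψ))
    exact ⟨j, hj⟩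
  have hle : mult ψ₀ * dg ψ₀ ≤ n := htot ▸ Finset.single_le_sum (f := fun ψ => mult ψ * dg ψ) (fun ψ _ => Nat.zero_le _) (Finset.mem_univ ψ₀)
  have hψ₀p : dg ψ₀ = p ∧ mult ψ₀ = 1 := by
    obtain ⟨k, hk⟩ := hdegp ψ₀
    have hk0 : k ≠ 0 := fun h => hψ₀d (by rw [hk, h, pow_zero])
    have hk2 : k < 2 := by
      by_contra hk2
      have h1 : p ^ 2 ≤ dg ψ₀ := hk ▸ Nat.pow_le_pow_right hp.pos (by omega)
      nlinarith [Nat.pos_of_ne_zero hψ₀m]
    obtain rfl : k = 1 := by omega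
    rw [pow_one] at hk
    refine ⟨hk, ?_⟩
    rw [hk] at hle
    have : mult ψ₀ < 2 := by
      by_contra h2
      nlinarith
    omega
  have hrest : ∑ ψ ∈ Finset.univ.erase ψ₀, mult ψ * dg ψ = n - p ∧ p ≤ n := by
    have h1 := Finset.add_sum_erase Finset.univ (fun ψ => mult ψ * dg ψ) (Finset.mem_univ ψ₀)
    simp only [hψ₀p.1, hψ₀p.2, one_mul, ← htot] at h1
    omega
  have hrest1 : ∀ ψ ∈ Finset.univ.erase ψ₀, mult ψ ≠ 0 → dg ψ = 1 := by
    intro ψ hψ hm
    obtain ⟨k, hk⟩ := hdegp ψ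
    rcases k with _ | k
    · rw [hk, pow_zero]
    · exfalso
      have h1 : p ≤ dg ψ := hk ▸ Nat.le_self_pow (Nat.succ_ne_zero k) p
      have h2 : dg ψ ≤ mult ψ * dg ψ := Nat.le_mul_of_pos_left _ (Nat.pos_of_ne_zero hm)
      have h3 : mult ψ * dg ψ ≤ n - p :=
        hrest.1 ▸ Finset.single_le_sum (f := fun ψ => mult ψ * dg ψ) (fun _ _ => Nat.zero_le _) hψ
      omega
  -- the central element
  have hne := CfsgLib.PGroup.inf_center_ne_bot P.2 P' hP'bot
  obtain ⟨z, hz, hzo⟩ : ∃ z ∈ P' ⊓ Subgroup.center (P : Subgroup G), orderOf z = p := by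
    obtain ⟨k, hk⟩ := IsPGroup.iff_card.1 (P.2.to_subgroup (P' ⊓ Subgroup.center (P : Subgroup G)))
    have hk0 : k ≠ 0 := fun h => hne (Subgroup.eq_bot_of_card_eq _ (by rw [hk, h, pow_zero]))
    obtain ⟨z, hz⟩ := exists_prime_orderOf_dvd_card' p (hk ▸ dvd_pow_self p hk0)
    exact ⟨z, z.2, by rw [Subgroup.orderOf_coe, hz]⟩
  set ω : ℂ := (ψ₀ : ↥(P : Subgroup G) → ℂ) z / p with hω
  have hp0 : (p : ℂ) ≠ 0 := Nat.cast_ne_zero.2 hp.ne_zero
  have hψpow : ∀ k : ℕ, (ψ₀ : ↥(P : Subgroup G) → ℂ) (z ^ k) = (p : ℂ) * ω ^ k := by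
    intro k
    induction k with
    | zero => rw [pow_zero, hdg, hψ₀p.1, pow_zero, mul_one]
    | succ k ih =>
      have h := CfsgLib.CharNormal.char_center_mul ψ₀.2 hz.2 (z ^ k)
      rw [hdg, hψ₀p.1, ih, ← pow_succ'] at h
      rw [eq_div_iff hp0] at hω
      apply mul_right_cancel₀ hp0
      rw [h, ← hω, pow_succ]
      ring
  have hχpow : ∀ k : ℕ, (χ : G → ℂ) ((z : G) ^ k) = (p : ℂ) * ω ^ k + ((n - p : ℕ) : ℂ) := by
    intro k
    have h1 := congrFun hmult (z ^ k)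
    simp only [SubmonoidClass.coe_pow, Finset.sum_apply, Pi.smul_apply, smul_eq_mul] at h1
    rw [h1, ← Finset.add_sum_erase _ _ (Finset.mem_univ ψ₀), hψpow, hψ₀p.2, Nat.cast_one, one_mul, ← hrest.1]
    push_cast
    congr 1
    refine Finset.sum_congr rfl fun ψ hψ => ?_
    by_cases hm : mult ψ = 0
    · simp [hm]
    · rw [hlin ψ (hrest1 ψ hψ hm) _ (pow_mem hz.1 k), hrest1 ψ hψ hm, Nat.cast_one]
  have hωp : ω ^ p = 1 := by
    have h := hψpow p
    rw [orderOf_dvd_iff_pow_eq_one.1 (dvd_of_eq hzo), hdg, hψ₀p.1] at h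
    exact mul_left_cancel₀ hp0 (by rw [← h, mul_one])
  have hω1 : ω ≠ 1 := fun h => by
    have h1 := hχpow 1
    rw [pow_one, h, one_pow, mul_one, ← Nat.cast_add, Nat.add_sub_cancel' hrest.2, ← hχ1] at h1
    have := hcne z hz.1 h1
    rw [this, orderOf_one] at hzo
    exact hp.ne_one hzo.symm
  -- normalise the eigenvalue
  set ζ : ℂ := Complex.exp (2 * Real.pi * Complex.I / p) with hζdef
  have hζprim : IsPrimitiveRoot ζ p := Complex.isPrimitiveRoot_exp p hp.ne_zero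
  have hωprim : IsPrimitiveRoot ω p := by
    have h2 := IsPrimitiveRoot.orderOf ω
    have h3 : orderOf ω = p := orderOf_eq_prime hωp hω1
    rwa [h3] at h2
  obtain ⟨t, -, ht⟩ := have : NeZero p := ⟨hp.ne_zero⟩; hωprim.eq_pow_of_pow_eq_one hζprim.pow_eq_one
  set s : G := (z : G) ^ t with hsdef
  have hspow : ∀ k : ℕ, (χ : G → ℂ) (s ^ k) = (p : ℂ) * ζ ^ k + ((n - p : ℕ) : ℂ) := fun k => by
    rw [hsdef, ← pow_mul, hχpow, pow_mul, ht]
  have hzp : (z : G) ^ p = 1 := congrArg Subtype.val (orderOf_dvd_iff_pow_eq_one.1 (dvd_of_eq hzo))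
  have hsp : s ^ p = 1 := by rw [hsdef, ← pow_mul, mul_comm, pow_mul, hzp, one_pow]
  have hζ1 : ζ ≠ 1 := hζprim.ne_one hp.one_lt
  have hnear : Complex.normSq (ζ - 1) < 1 := by
    have e : ζ = Complex.exp (((2 * Real.pi / p : ℝ) : ℂ) * Complex.I) := by
      rw [hζdef]; congr 1; push_cast; ring
    have hp7 : (7 : ℝ) ≤ p := by exact_mod_cast h7
    have hpi := Real.pi_pos
    have hlt : 2 * Real.pi / p < Real.pi / 3 := by
      rw [div_lt_div_iff₀ (by linarith) (by norm_num)]; nlinarith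
    have hcos : 1 / 2 < Real.cos (2 * Real.pi / p) := by
      rw [← Real.cos_pi_div_three]
      exact Real.cos_lt_cos_of_nonneg_of_le_pi (by positivity) (by linarith) hlt
    rw [e, Complex.normSq_apply, Complex.sub_re, Complex.sub_im, Complex.one_re, Complex.one_im,
      Complex.exp_ofReal_mul_I_re, Complex.exp_ofReal_mul_I_im]
    nlinarith [Real.sin_sq_add_cos_sq (2 * Real.pi / p)]
  obtain ⟨bas, w, hw⟩ := CfsgLib.Char.exists_eigenbasis ρ s
  have hwp : ∀ i, w i ^ p = 1 := fun i => by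
    obtain ⟨c, hc⟩ := orderOf_dvd_of_pow_eq_one hsp
    rw [hc, pow_mul, (hw i).1, one_pow]
  have hwval : ∀ i, w i = 1 ∨ w i = ζ := fun i =>
    CfsgLib.BlockArith.TwoEigen.mem_pair_of_power_sums hp.pos Finset.univ w (e := 1) one_ne_zero
      (fun j _ => hwp j) hζprim.pow_eq_one (a := (p : ℂ)) (b := ((n - p : ℕ) : ℂ)) (fun k => by
        rw [Nat.cast_one, one_mul, ← hspow k, ← hρχ]
        exact (CfsgLib.Char.trace_eq_sum_eigen bas _ _
          fun j => CfsgLib.Char.apply_pow_eigen ρ bas s w (fun j => (hw j).2) k j).symm) (Finset.mem_univ i)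
  have hquad : ∀ v, ρ s (ρ s v - v) = ζ • (ρ s v - v) := by
    have h : ρ s ∘ₗ (ρ s - LinearMap.id) = ζ • (ρ s - LinearMap.id) := by
      refine bas.ext fun i => ?_
      simp only [LinearMap.comp_apply, LinearMap.sub_apply, LinearMap.id_apply, LinearMap.smul_apply,
        map_sub, (hw i).2, map_smul]
      rcases hwval i with h | h <;> simp [h, smul_sub, smul_smul]
    exact fun v => LinearMap.congr_fun h v
  have hcomm : ∀ g, Commute s (g * s * g⁻¹) := fun g =>
    CfsgLib.BlockArith.TwoEigen.conj_commute ρ hρinj hp.pos hsp hζprim.pow_eq_one hζ1 hnear hquad g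
  -- the abelian normal subgroup
  set A := Subgroup.normalClosure ({s} : Set G) with hA
  have hsA : s ∈ A := Subgroup.subset_normalClosure rfl
  have hconjs : ∀ u ∈ Group.conjugatesOfSet ({s} : Set G), ∃ g, g * s * g⁻¹ = u := fun u hu => by
    obtain ⟨v, rfl, hv⟩ := Group.mem_conjugatesOfSet_iff.1 hu
    exact isConj_iff.1 hv
  have hAcomm : IsMulCommutative A := Subgroup.isMulCommutative_closure fun u hu v hv => by
    obtain ⟨a, rfl⟩ := hconjs u hu
    obtain ⟨b, rfl⟩ := hconjs v hv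
    have h := (hcomm (a⁻¹ * b)).map (MulAut.conj a).toMonoidHom
    simp only [MulEquiv.coe_toMonoidHom, MulAut.conj_apply] at h
    have e : a * (a⁻¹ * b * s * (a⁻¹ * b)⁻¹) * a⁻¹ = b * s * b⁻¹ := by group
    rw [e] at h
    exact h.eq
  let _ := Fintype.ofFinite A
  have hAcm : ∀ a b : A, a * b = b * a := fun a b => hAcomm.is_comm.comm a b
  obtain ⟨θ, hθ, hθne⟩ := CfsgLib.Char.exists_constituent (CfsgLib.Char.isCharacter_res A hχc)
    (fun h => CfsgLib.Char.irr_one_ne_zero χ.2 (by simpa using congrFun h 1))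
  obtain ⟨e, he⟩ := CfsgLib.Char.classInner_char_nat (CfsgLib.Char.isCharacter_res A hχc)
    (CfsgLib.Char.isCharacter_of_isIrr hθ)
  set O := CfsgLib.CharNormal.orbit A ⟨θ, hθ⟩ with hO
  have hCl := CfsgLib.CharNormal.res_eq_smul_sum_orbit A χ.2 ⟨θ, hθ⟩ hθne
  rw [he] at hCl
  have he0 : e ≠ 0 := fun h => hθne (by rw [he, h, Nat.cast_zero])
  have hlinA : ∀ φ : Cfsg.IrrCharacter A, (φ : A → ℂ) 1 = 1 := fun φ =>
    CfsgLib.Char.irr_one_eq_one_of_comm hAcm φ.2
  have hpowA : ∀ (φ : Cfsg.IrrCharacter A) (a : A) (k : ℕ), (φ : A → ℂ) (a ^ k) = (φ : A → ℂ) a ^ k := by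
    intro φ a k
    rw [← CfsgLib.Char.linearHom_apply (CfsgLib.Char.isCharacter_of_isIrr φ.2) (hlinA φ), map_pow,
      Units.val_pow_eq_pow_val, CfsgLib.Char.linearHom_apply]
  have hsum : ∀ k : ℕ, (e : ℂ) * ∑ φ ∈ O, (φ : A → ℂ) ⟨s, hsA⟩ ^ k = (p : ℂ) * ζ ^ k + ((n - p : ℕ) : ℂ) := by
    intro k
    have h1 := congrFun hCl (⟨s, hsA⟩ ^ k)
    simp only [Pi.smul_apply, Finset.sum_apply, smul_eq_mul, SubmonoidClass.coe_pow, hpowA] at h1
    rw [← hspow k, h1]
  have hcardO : e * O.card = n := by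
    have h := hsum 0
    simp only [pow_zero, Finset.sum_const, nsmul_eq_mul, mul_one] at h
    rw [← Nat.cast_add, Nat.add_sub_cancel' hrest.2] at h
    exact_mod_cast h
  have he1 : e = 1 := by
    have hv : ∀ φ ∈ O, (φ : A → ℂ) ⟨s, hsA⟩ = 1 ∨ (φ : A → ℂ) ⟨s, hsA⟩ = ζ := fun φ hφ =>
      CfsgLib.BlockArith.TwoEigen.mem_pair_of_power_sums hp.pos O (fun φ => (φ : A → ℂ) ⟨s, hsA⟩) he0
        (fun ψ _ => by
          show (ψ : A → ℂ) ⟨s, hsA⟩ ^ p = 1
          rw [← hpowA, show (⟨s, hsA⟩ : A) ^ p = 1 from Subtype.ext hsp, hlinA])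
        hζprim.pow_eq_one hsum hφ
    set a := (O.filter fun φ : Cfsg.IrrCharacter A => (φ : A → ℂ) ⟨s, hsA⟩ = ζ).card with ha
    have h := hsum 1
    simp only [pow_one] at h
    rw [← Finset.sum_filter_add_sum_filter_not O (fun φ => (φ : A → ℂ) ⟨s, hsA⟩ = ζ),
      Finset.sum_congr rfl (fun φ hφ => (Finset.mem_filter.1 hφ).2),
      Finset.sum_congr rfl (fun φ hφ => (hv φ (Finset.mem_filter.1 hφ).1).resolve_right (Finset.mem_filter.1 hφ).2),
      Finset.sum_const, Finset.sum_const, nsmul_eq_mul, nsmul_eq_mul, mul_one, ← ha] at h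
    have hcs : (O.filter fun φ : Cfsg.IrrCharacter A => ¬(φ : A → ℂ) ⟨s, hsA⟩ = ζ).card = O.card - a := by
      rw [ha, ← Finset.card_filter_add_card_filter_not (s := O) (fun φ => (φ : A → ℂ) ⟨s, hsA⟩ = ζ)]
      omega
    have haO : a ≤ O.card := Finset.card_filter_le _ _
    rw [hcs, Nat.cast_sub haO, Nat.cast_sub hrest.2, ← hcardO] at h
    push_cast at h
    have h2 : ((e * a : ℕ) : ℂ) = (p : ℂ) := by
      push_cast
      refine mul_right_cancel₀ (sub_ne_zero.2 hζ1) ?_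
      linear_combination h
    have h3 : e * a = p := by exact_mod_cast h2
    rcases (Nat.dvd_prime hp).1 (Dvd.intro a h3) with h4 | h4
    · exact h4
    · exfalso
      have hd : p ∣ n := hcardO ▸ h4 ▸ dvd_mul_right e O.card
      obtain ⟨c, hc⟩ := hd
      rcases c with _ | _ | c
      · omega
      · exact hnp (by rw [hc]; simp)
      · nlinarith
  subst he1
  rw [one_mul] at hcardO
  -- its centralizer
  set C := Subgroup.centralizer (A : Set G) with hC
  have hCcomm : ∀ c ∈ C, ∀ c' ∈ C, c * c' = c' * c := by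
    intro c hc c' hc'
    apply hρinj
    let E : Cfsg.IrrCharacter A → Module.End ℂ (Fin d₀ → ℂ) := fun φ =>
      (Nat.card A : ℂ)⁻¹ • ∑ a : A, (starRingEnd ℂ) ((φ : A → ℂ) a) • ρ (a : G)
    have hA0 : (Nat.card A : ℂ) ≠ 0 := CfsgLib.Char.card_ne_zero'
    have hone : ∀ v, ∑ φ, E φ v = v := fun v => by
      simp only [E, LinearMap.smul_apply, LinearMap.sum_apply, ← Finset.smul_sum]
      rw [Finset.sum_comm]
      simp only [← Finset.sum_smul]
      have hs : ∀ a : A, ∑ φ : Cfsg.IrrCharacter A, (starRingEnd ℂ) ((φ : A → ℂ) a) =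
          if a = 1 then (Nat.card A : ℂ) else 0 := fun a => by
        have h := CfsgLib.Char.sum_degree_mul_apply a
        simp only [hlinA, one_mul] at h
        rw [← map_sum, h]
        split_ifs <;> simp
      simp only [hs, ite_smul, zero_smul, Finset.sum_ite_eq', Finset.mem_univ, if_true, Subgroup.coe_one,
        map_one, Module.End.one_apply, smul_smul, inv_mul_cancel₀ hA0, one_smul]
    have hact : ∀ (b : A) φ, ρ (b : G) * E φ = (φ : A → ℂ) b • E φ := fun b φ => by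
      simp only [E, mul_smul_comm, Finset.mul_sum]
      rw [smul_comm]
      congr 1
      rw [Finset.smul_sum]
      refine Fintype.sum_equiv (Equiv.mulLeft b) _ _ fun a => ?_
      have hbb : (φ : A → ℂ) b * (starRingEnd ℂ) ((φ : A → ℂ) b) = 1 := by
        rw [← CfsgLib.Char.char_inv (CfsgLib.Char.isCharacter_of_isIrr φ.2),
          ← CfsgLib.Char.linear_map_mul (CfsgLib.Char.isCharacter_of_isIrr φ.2) (hlinA φ), mul_inv_cancel, hlinA]
      rw [Equiv.coe_mulLeft, smul_smul, ← map_mul ρ, Subgroup.coe_mul,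
        CfsgLib.Char.linear_map_mul (CfsgLib.Char.isCharacter_of_isIrr φ.2) (hlinA φ) b a, map_mul (starRingEnd ℂ), ← mul_assoc,
        hbb, one_mul]
    have hidem : ∀ φ, E φ * E φ = E φ := fun φ => by
      conv_lhs => arg 1; simp only [E]
      simp only [smul_mul_assoc, Finset.sum_mul, hact, smul_smul]
      have h1 : ∀ a : A, (starRingEnd ℂ) ((φ : A → ℂ) a) * (φ : A → ℂ) a = 1 := fun a => by
        rw [← CfsgLib.Char.char_inv (CfsgLib.Char.isCharacter_of_isIrr φ.2),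
          ← CfsgLib.Char.linear_map_mul (CfsgLib.Char.isCharacter_of_isIrr φ.2) (hlinA φ), inv_mul_cancel, hlinA]
      simp only [h1, one_smul, Finset.sum_const, Finset.card_univ, ← Nat.card_eq_fintype_card,
        ← Nat.cast_smul_eq_nsmul ℂ, smul_smul, inv_mul_cancel₀ hA0]
    have htr : ∀ φ, LinearMap.trace ℂ _ (E φ) = Cfsg.classInner (fun a : A => (χ : G → ℂ) a) (φ : A → ℂ) := fun φ => by
      rw [CfsgLib.Char.classInner_def]
      simp only [E, map_smul, map_sum, smul_eq_mul, ← hρχ, Representation.character]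
      exact congrArg _ (Finset.sum_congr rfl fun a _ => mul_comm _ _)
    have htr01 : ∀ φ, LinearMap.trace ℂ _ (E φ) = 1 ∨ LinearMap.trace ℂ _ (E φ) = 0 := fun φ => by
      rw [htr, hCl, Nat.cast_one, one_smul, CfsgLib.Char.classInner_sum_left]
      simp only [CfsgLib.Char.classInner_irrCharacter, Finset.sum_ite_eq']
      split_ifs
      · exact Or.inl rfl
      · exact Or.inr rfl
    have hscal : ∀ φ, ∀ u ∈ C, ∃ μ : ℂ, ρ u * E φ = μ • E φ := fun φ u hu => by
      have hcomm' : ρ u * E φ = E φ * ρ u := by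
        simp only [E, mul_smul_comm, smul_mul_assoc, Finset.mul_sum, Finset.sum_mul, ← map_mul]
        refine congrArg _ (Finset.sum_congr rfl fun a _ => ?_)
        rw [(Subgroup.mem_centralizer_iff.1 hu (a : G) a.2)]
      have hproj : LinearMap.IsProj (LinearMap.range (E φ)) (E φ) := by
        refine ⟨fun v => LinearMap.mem_range_self _ v, ?_⟩
        rintro _ ⟨v, rfl⟩
        rw [← Module.End.mul_apply, hidem]
      have ht := hproj.trace
      rcases htr01 φ with h | h <;> rw [h] at ht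
      · have hfr : Module.finrank ℂ (LinearMap.range (E φ)) = 1 := by exact_mod_cast ht.symm
        obtain ⟨⟨v, hv⟩, hv0, hspan⟩ := finrank_eq_one_iff'.1 hfr
        have hv' : E φ v = v := hproj.map_id v hv
        have hmem : ρ u v ∈ LinearMap.range (E φ) :=
          ⟨ρ u v, by rw [← Module.End.mul_apply, ← hcomm', Module.End.mul_apply, hv']⟩
        obtain ⟨μ, hμ⟩ := hspan ⟨ρ u v, hmem⟩
        refine ⟨μ, LinearMap.ext fun x => ?_⟩
        obtain ⟨c, hc⟩ := hspan ⟨E φ x, LinearMap.mem_range_self _ x⟩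
        have hc' : c • v = E φ x := congrArg Subtype.val hc
        have hμ' : μ • v = ρ u v := congrArg Subtype.val hμ
        show ρ u (E φ x) = μ • E φ x
        rw [← hc', map_smul, ← hμ', smul_comm]
      · have hfr : Module.finrank ℂ (LinearMap.range (E φ)) = 0 := by exact_mod_cast ht.symm
        exact ⟨0, by rw [LinearMap.range_eq_bot.1 (Submodule.finrank_eq_zero.1 hfr), mul_zero, smul_zero]⟩
    rw [map_mul, map_mul]
    apply LinearMap.ext
    intro v
    rw [← hone v, map_sum, map_sum]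
    refine Finset.sum_congr rfl fun φ _ => ?_
    obtain ⟨μ, hμ⟩ := hscal φ c hc
    obtain ⟨μ', hμ'⟩ := hscal φ c' hc'
    have e1 : ρ c * (ρ c' * E φ) = ρ c' * (ρ c * E φ) := by
      rw [hμ', mul_smul_comm, hμ, mul_smul_comm, hμ', smul_comm]
    exact LinearMap.congr_fun e1 v
  have hAn : A.Normal := Subgroup.normalClosure_normal
  have hCn : C.Normal := ⟨fun c hc g => Subgroup.mem_centralizer_iff.2 fun a ha => by
    have h := Subgroup.mem_centralizer_iff.1 hc (g⁻¹ * a * g) (by simpa using hAn.conj_mem a ha g⁻¹)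
    calc a * (g * c * g⁻¹) = g * (g⁻¹ * a * g * c) * g⁻¹ := by group
      _ = g * (c * (g⁻¹ * a * g)) * g⁻¹ := by rw [h]
      _ = g * c * g⁻¹ * a := by group⟩
  have hOst : ∀ (g : G) (φ : Cfsg.IrrCharacter A), φ ∈ O → CfsgLib.CharNormal.conjIrr A g φ ∈ O := by
    intro g φ hφ
    obtain ⟨u, hu⟩ := (CfsgLib.CharNormal.mem_orbit A).1 hφ
    refine (CfsgLib.CharNormal.mem_orbit A).2 ⟨u * g, ?_⟩
    rw [CfsgLib.CharNormal.conjIrr_coe, ← hu, CfsgLib.CharNormal.conjFun_conjFun]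
  let act : G →* Equiv.Perm O := MonoidHom.toHomPerm
    { toFun := fun g φ => ⟨CfsgLib.CharNormal.conjIrr A g⁻¹ φ.1, hOst _ _ φ.2⟩
      map_one' := funext fun φ => Subtype.ext (Subtype.ext (by
        show CfsgLib.CharNormal.conjFun A (1 : G)⁻¹ (φ.1 : A → ℂ) = _
        rw [inv_one, CfsgLib.CharNormal.conjFun_one]; rfl))
      map_mul' := fun g h => funext fun φ => Subtype.ext (Subtype.ext (by
        show CfsgLib.CharNormal.conjFun A (g * h)⁻¹ (φ.1 : A → ℂ) =
          CfsgLib.CharNormal.conjFun A g⁻¹ (CfsgLib.CharNormal.conjFun A h⁻¹ (φ.1 : A → ℂ))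
        rw [CfsgLib.CharNormal.conjFun_conjFun, mul_inv_rev])) }
  have hker : act.ker ≤ C := by
    intro g hg
    rw [MonoidHom.mem_ker] at hg
    refine Subgroup.mem_centralizer_iff.2 fun a ha => ?_
    have hfix : ∀ φ ∈ O, (φ : A → ℂ) ⟨g⁻¹ * a * (g⁻¹)⁻¹, hAn.conj_mem a ha g⁻¹⟩ = (φ : A → ℂ) ⟨a, ha⟩ :=
      fun φ hφ => congrFun (congrArg (fun σ : Equiv.Perm O => ((σ ⟨φ, hφ⟩).1 : A → ℂ)) hg) ⟨a, ha⟩
    have hval : (χ : G → ℂ) (g⁻¹ * a * (g⁻¹)⁻¹ * a⁻¹) = (χ : G → ℂ) 1 := by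
      have h1 := congrFun hCl (⟨g⁻¹ * a * (g⁻¹)⁻¹, hAn.conj_mem a ha g⁻¹⟩ * ⟨a, ha⟩⁻¹)
      have h2 := congrFun hCl 1
      simp only [Pi.smul_apply, Finset.sum_apply, smul_eq_mul, Subgroup.coe_mul, Subgroup.coe_inv,
        Subgroup.coe_one] at h1 h2
      rw [h1, h2]
      refine congrArg _ (Finset.sum_congr rfl fun φ hφ => ?_)
      rw [CfsgLib.Char.linear_map_mul (CfsgLib.Char.isCharacter_of_isIrr φ.2) (hlinA φ), hfix φ hφ,
        ← CfsgLib.Char.linear_map_mul (CfsgLib.Char.isCharacter_of_isIrr φ.2) (hlinA φ), mul_inv_cancel]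
    have h3 := hfaith _ hval
    rw [inv_inv, mul_inv_eq_one] at h3
    calc a * g = g * (g⁻¹ * a * g) := by group
      _ = g * a := by rw [h3]
  have hCidx : ¬ p ^ 2 ∣ C.index := fun hd => by
    have h1 : act.ker.index ∣ n.factorial := by
      rw [Subgroup.index_ker, ← hcardO]
      refine (Subgroup.card_subgroup_dvd_card _).trans (dvd_of_eq ?_)
      rw [Nat.card_perm, Nat.card_eq_fintype_card, Fintype.card_coe]
    have h2 := (hp.pow_dvd_iff_le_factorization (Nat.factorial_ne_zero n)).1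
      (hd.trans ((Subgroup.index_dvd_of_le hker).trans h1))
    rw [Nat.factorization_factorial hp (b := 2) (Nat.log_lt_of_lt_pow' two_ne_zero (by nlinarith)),
      Nat.Ico_succ_singleton, Finset.sum_singleton, pow_one] at h2
    have h4 : n / p < 2 := Nat.div_lt_of_lt_mul (by omega)
    omega
  let R : Subgroup G :=
    { carrier := {c | c ∈ C ∧ ∃ k : ℕ, c ^ p ^ k = 1}
      one_mem' := ⟨C.one_mem, 0, one_pow _⟩
      mul_mem' := by
        rintro a b ⟨ha, i, hi⟩ ⟨hb, j, hj⟩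
        refine ⟨C.mul_mem ha hb, i + j, ?_⟩
        rw [(show Commute a b from hCcomm a ha b hb).mul_pow, pow_add, pow_mul, hi, one_pow, one_mul,
          mul_comm, pow_mul, hj, one_pow]
      inv_mem' := by
        rintro a ⟨ha, i, hi⟩
        exact ⟨C.inv_mem ha, i, by rw [inv_pow, hi, inv_one]⟩ }
  have hRn : R.Normal := ⟨fun c ⟨hc, k, hk⟩ g => ⟨hCn.conj_mem c hc g, k, by rw [conj_pow, hk]; group⟩⟩
  have hRN : R ≤ Cfsg.pCore p G := CfsgLib.Cores.le_pCore (fun ⟨c, hc⟩ => by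
    obtain ⟨k, hk⟩ := hc.2
    exact ⟨k, Subtype.ext hk⟩)
  have hRC : R ≤ C := fun c hc => hc.1
  have hRrel : ¬ p ∣ R.relIndex C := by
    obtain ⟨S⟩ : Nonempty (Sylow p C) := inferInstance
    have hle : (S : Subgroup C) ≤ R.subgroupOf C := fun c hc => by
      obtain ⟨k, hk⟩ := S.2 ⟨c, hc⟩
      exact ⟨c.2, k, congrArg (fun u : (S : Subgroup C) => ((u : C) : G)) hk⟩
    have hSn : (S : Subgroup C).Normal := ⟨fun c hc g => by
      have : g * c = c * g := Subtype.ext (hCcomm g g.2 c c.2)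
      rwa [this, mul_inv_cancel_right]⟩
    exact fun hd => S.not_dvd_index (hd.trans (Subgroup.index_dvd_of_le hle))
  have h1 : p ^ 2 ∣ R.relIndex C * C.index := by
    rw [Subgroup.relIndex_mul_index hRC]
    exact hdvd.trans (Subgroup.index_dvd_of_le hRN)
  exact hCidx ((Nat.Coprime.pow_left 2 (hp.coprime_iff_not_dvd.2 hRrel)).dvd_of_dvd_mul_left h1)

end Cfsg.Agent.S4471
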