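import Cfsg.Statements.S4472
import Cfsg.Agent.Lib.BlockArith.SchurBound
import Cfsg.Agent.Lib.BlockArith.CoprimeRational
import Cfsg.Agent.Lib.PGroup.CyclicTransvection
import Cfsg.Agent.Lib.Cores.Basic
import Cfsg.Agent.S0001
import Cfsg.Agent.Lib.CharBlocks.Degree

set_option autoImplicit false
open Cfsg

namespace Cfsg.Agent.S4472

/-- Let the finite p-solvable group G have a faithful character of degree n, and let p^a be the index of O_p(G) in a Sylow p-subgroup of G (the p-part of [G : O_p(G)]). Then a ≤ Σ_{i ≥ 0} ⌊n / ((p − 1) p^i)⌋ (a finite sum; the terms vanish for p^i > n). -/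
theorem result {G : Type*} [Group G] [Finite G] (χ : G → ℂ) (hχ : Cfsg.IsCharacter G χ) (hfaith : ∀ g : G, χ g = χ 1 → g = 1) (n : ℕ) (hn : Cfsg.charDegree χ = n) (p : ℕ) (hp : p.Prime) (hsolv : Cfsg.IsPSolvable p G) : ((Cfsg.pCore p G).index).factorization p ≤ ∑ i ∈ Finset.range (n + 1), n / ((p - 1) * p ^ i) := by
  classical
  have : Fact p.Prime := ⟨hp⟩
  set N := Cfsg.pCore p G with hNdef
  have : N.Characteristic := CfsgLib.Cores.pCore_characteristic p
  set Gb := G ⧸ N
  set K := Cfsg.pPrimeCore p Gb with hK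
  have : K.Characteristic := CfsgLib.Cores.pPrimeCore_characteristic p
  set Mc := K.comap (QuotientGroup.mk' N) with hMc
  have hNM : N ≤ Mc := fun x hx => by
    rw [hMc, Subgroup.mem_comap, (QuotientGroup.mk'_apply N x), (QuotientGroup.eq_one_iff x).2 hx]
    exact K.one_mem
  have hKp : (Nat.card K).Coprime p := CfsgLib.Cores.coprime_card_pPrimeCore p
  have hrel : N.relIndex Mc = Nat.card K := by
    have h1 := Subgroup.card_mul_index (N.subgroupOf Mc)
    have h2 := Subgroup.card_eq_card_quotient_mul_card_subgroup (N.subgroupOf Mc)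
    let f : Mc →* K := ((QuotientGroup.mk' N).comp Mc.subtype).codRestrict K fun x => x.2
    have hf : Function.Surjective f := fun ⟨y, hy⟩ => by
      obtain ⟨x, rfl⟩ := QuotientGroup.mk'_surjective N y
      exact ⟨⟨x, hy⟩, rfl⟩
    have hker : f.ker = N.subgroupOf Mc := by
      ext x
      rw [MonoidHom.mem_ker, Subgroup.mem_subgroupOf, ← QuotientGroup.eq_one_iff]
      exact ⟨fun h => congrArg Subtype.val h, fun h => Subtype.ext h⟩
    rw [Subgroup.relIndex, ← hker, Subgroup.index_ker, MonoidHom.range_eq_top.2 hf, Subgroup.card_top]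
  have hNp : IsPGroup p N := CfsgLib.Cores.isPGroup_pCore p
  have hNcop : (Nat.card (N.subgroupOf Mc)).Coprime (N.subgroupOf Mc).index := by
    obtain ⟨k, hk⟩ := IsPGroup.iff_card.1 hNp
    rw [Nat.card_congr (Subgroup.subgroupOfEquivOfLe hNM).toEquiv, hk]
    exact (hKp.symm.pow_left k).coprime_dvd_right (hrel ▸ dvd_rfl)
  obtain ⟨Q0, hQ0⟩ := Subgroup.exists_right_complement'_of_coprime hNcop
  have hQ0card : Nat.card Q0 = Nat.card K := by rw [← hrel, ← hQ0.symm.index_eq_card]; rfl
  set Q := Q0.map Mc.subtype with hQdef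
  have hQcard : Nat.card Q = Nat.card K := by rw [hQdef, Subgroup.card_map_of_injective Mc.subtype_injective, hQ0card]
  have hQM : Q ≤ Mc := by rintro _ ⟨x, -, rfl⟩; exact x.2
  set NQ := Subgroup.normalizer (Q : Set G) with hNQ
  have hfrat : ∀ g : G, ∃ x ∈ Mc, x⁻¹ * g ∈ NQ := by
    intro g
    have hMn : Mc.Normal := inferInstance
    let cg : Mc ≃* Mc := MulAut.conjNormal g
    have hcomp : Subgroup.IsComplement' (N.subgroupOf Mc) (Q0.map cg.toMonoidHom) := by
      refine Subgroup.isComplement'_of_coprime ?_ ?_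
      · rw [Subgroup.card_map_of_injective (f := cg.toMonoidHom) cg.injective]
        exact hQ0.card_mul
      · rw [Subgroup.card_map_of_injective (f := cg.toMonoidHom) cg.injective, ← hQ0.symm.index_eq_card]
        exact hNcop
    obtain ⟨x, hx⟩ := Cfsg.Agent.S0001.result (N.subgroupOf Mc) hNcop
      (Or.inl (by
        have := hNp.of_equiv (Subgroup.subgroupOfEquivOfLe hNM).symm
        haveI := this.isNilpotent
        infer_instance)) Q0 (Q0.map cg.toMonoidHom) hQ0 hcomp
    refine ⟨(x : G), x.2, ?_⟩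
    have hmem : ∀ y : G, y ∈ Q ↔ (x : G)⁻¹ * g * y * ((x : G)⁻¹ * g)⁻¹ ∈ Q := by
      intro y
      constructor
      · rintro ⟨z, hz, rfl⟩
        have h1 : cg z ∈ Q0.map cg.toMonoidHom := ⟨z, hz, rfl⟩
        rw [← hx, Subgroup.mem_pointwise_smul_iff_inv_smul_mem] at h1
        refine ⟨_, h1, ?_⟩
        simp [cg, mul_assoc]
      · rintro ⟨z, hz, hzy⟩
        have h1 : MulAut.conj x • z ∈ Q0.map cg.toMonoidHom := by
          rw [← hx]; exact Subgroup.smul_mem_pointwise_smul z _ Q0 hz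
        obtain ⟨w, hw, hwe⟩ := h1
        refine ⟨w, hw, ?_⟩
        have h2 : g * (w : G) * g⁻¹ = (x : G) * z * (x : G)⁻¹ := by
          simpa [cg] using congrArg Subtype.val hwe
        have h3 : (z : G) = (x : G)⁻¹ * g * y * ((x : G)⁻¹ * g)⁻¹ := hzy
        calc (w : G) = g⁻¹ * (g * w * g⁻¹) * g := by group
          _ = y := by rw [h2, h3]; group
    exact Subgroup.mem_normalizer_iff.2 hmem
  let f : NQ →* Gb := (QuotientGroup.mk' N).comp NQ.subtype
  have hQimg : ∀ y ∈ K, ∃ q ∈ Q, QuotientGroup.mk' N q = y := by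
    intro y hy
    obtain ⟨x, rfl⟩ := QuotientGroup.mk'_surjective N y
    obtain ⟨⟨⟨n, hn⟩, ⟨q, hq⟩⟩, hnq⟩ := hQ0.2 (⟨x, hy⟩ : Mc)
    refine ⟨(q : G), ⟨q, hq, rfl⟩, ?_⟩
    rw [← show (n : G) * q = x from congrArg Subtype.val hnq, map_mul,
      show QuotientGroup.mk' N (n : G) = 1 from (QuotientGroup.eq_one_iff _).2 hn, one_mul]
  have hf : Function.Surjective f := by
    intro y
    obtain ⟨g, rfl⟩ := QuotientGroup.mk'_surjective N y
    obtain ⟨x, hx, hxg⟩ := hfrat g
    obtain ⟨q, hq, hqx⟩ := hQimg _ hx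
    refine ⟨⟨q * (x⁻¹ * g), mul_mem (Subgroup.le_normalizer hq) hxg⟩, ?_⟩
    show QuotientGroup.mk' N (q * (x⁻¹ * g)) = _
    rw [map_mul, hqx, ← map_mul, mul_inv_cancel_left]
  obtain ⟨P0⟩ : Nonempty (Sylow p NQ) := inferInstance
  let PG := P0.mapSurjective hf
  have hPG : (Nat.card Gb).factorization p = (Nat.card (PG : Subgroup Gb)).factorization p := by
    rw [PG.card_eq_multiplicity, hp.factorization_pow, Finsupp.single_eq_same]
  -- the action on Q
  let act : NQ →* MulAut Q := MonoidHom.mk' (fun g =>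
    { toFun := fun q => ⟨(g : G) * q * (g : G)⁻¹, (Subgroup.mem_normalizer_iff.1 g.2 q).1 q.2⟩
      invFun := fun q => ⟨(g : G)⁻¹ * q * g, by
        have := (Subgroup.mem_normalizer_iff.1 (NQ.inv_mem g.2) q).1 q.2
        rwa [inv_inv] at this⟩
      left_inv := fun q => Subtype.ext (by simp [mul_assoc])
      right_inv := fun q => Subtype.ext (by simp [mul_assoc])
      map_mul' := fun a b => Subtype.ext (by simp [mul_assoc]) }) fun a b => by
    ext q
    simp [mul_assoc]
  set A := (P0 : Subgroup NQ).map act with hA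
  have hAp : IsPGroup p A := P0.2.map act
  have hkey : Nat.card (PG : Subgroup Gb) ∣ Nat.card A := by
    have hle : (act.comp (P0 : Subgroup NQ).subtype).ker ≤ (f.comp (P0 : Subgroup NQ).subtype).ker := by
      intro x hx
      rw [MonoidHom.mem_ker, MonoidHom.comp_apply] at hx ⊢
      have hcen : f ((P0 : Subgroup NQ).subtype x) ∈ Subgroup.centralizer (K : Set Gb) := by
        rw [Subgroup.mem_centralizer_iff]
        intro y hy
        obtain ⟨q, hq, rfl⟩ := hQimg y hy
        have hx' : act (x : NQ) = 1 := hx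
        have h0 : act (x : NQ) ⟨q, hq⟩ = (⟨q, hq⟩ : Q) := by rw [hx']; rfl
        have h1 : ((x : NQ) : G) * q * ((x : NQ) : G)⁻¹ = q := congrArg Subtype.val h0
        show QuotientGroup.mk' N q * QuotientGroup.mk' N ((x : NQ) : G) =
          QuotientGroup.mk' N ((x : NQ) : G) * QuotientGroup.mk' N q
        rw [← map_mul, ← map_mul, mul_inv_eq_iff_eq_mul.1 h1]
      have hin := CfsgLib.PGroup.CyclicTransvection.centralizer_pPrimeCore_le (CfsgLib.Transfer.isPSolvable_quotient hsolv N)
        (CfsgLib.Cores.pCore_quotient_self p) hcen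
      have hd1 : orderOf (f ((P0 : Subgroup NQ).subtype x)) ∣ Nat.card K :=
        (Subgroup.orderOf_mk _ hin) ▸ orderOf_dvd_natCard (⟨_, hin⟩ : K)
      obtain ⟨k, hk⟩ := IsPGroup.iff_orderOf.1 P0.2 x
      have hd2 : orderOf (f ((P0 : Subgroup NQ).subtype x)) ∣ p ^ k :=
        hk ▸ orderOf_map_dvd (f.comp (P0 : Subgroup NQ).subtype) x
      exact orderOf_eq_one_iff.1 (Nat.eq_one_of_dvd_coprimes (hKp.pow_right k) hd1 hd2)
    have h := Subgroup.index_dvd_of_le hle
    rw [Subgroup.index_ker, Subgroup.index_ker, MonoidHom.range_comp, MonoidHom.range_comp,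
      Subgroup.range_subtype] at h
    exact h
  have hidx : N.index = Nat.card Gb := Subgroup.index_eq_card _
  rw [hidx, hPG]
  refine ((Nat.factorization_le_iff_dvd Nat.card_pos.ne' Nat.card_pos.ne').2 hkey p).trans ?_
  -- the semidirect product
  have : Finite (Q ⋊[A.subtype] A) := Finite.of_equiv _ SemidirectProduct.equivProd.symm
  let _ := Fintype.ofFinite (Q ⋊[A.subtype] A)
  let Q' : Subgroup (Q ⋊[A.subtype] A) := (SemidirectProduct.inl : Q →* (Q ⋊[A.subtype] A)).range
  have hQ'n : Q'.Normal := by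
    show (SemidirectProduct.inl : Q →* (Q ⋊[A.subtype] A)).range.Normal
    rw [SemidirectProduct.range_inl_eq_ker_rightHom]; infer_instance
  let _ := Fintype.ofFinite Q'
  let e : Q ≃* Q' := MonoidHom.ofInjective SemidirectProduct.inl_injective
  have hQ'card : Nat.card Q' = Nat.card K := by rw [← Nat.card_congr e.toEquiv, hQcard]
  obtain ⟨E, hE⟩ := IsPGroup.iff_card.1 hAp
  have hQ'idx : Q'.index = p ^ E := by
    show (SemidirectProduct.inl : Q →* (Q ⋊[A.subtype] A)).range.index = _
    rw [SemidirectProduct.range_inl_eq_ker_rightHom, Subgroup.index_ker,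
      MonoidHom.range_eq_top.2 SemidirectProduct.rightHom_surjective, Subgroup.card_top, hE]
  have hpQ : ¬ p ∣ Nat.card Q' := hQ'card ▸ hp.coprime_iff_not_dvd.1 hKp.symm
  have hC : Subgroup.centralizer (Q' : Set (Q ⋊[A.subtype] A)) ≤ Q' := by
    intro w hw
    rw [Subgroup.mem_centralizer_iff] at hw
    have hinner : (w.right : MulAut Q) = MulAut.conj (w.left)⁻¹ := by
      apply MulEquiv.ext
      intro x
      have h1 := congrArg SemidirectProduct.left (hw (SemidirectProduct.inl x) ⟨x, rfl⟩)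
      simp only [SemidirectProduct.mul_left, SemidirectProduct.left_inl, SemidirectProduct.right_inl, map_one,
        MulAut.one_apply, Subgroup.coe_subtype] at h1
      rw [MulAut.conj_apply, inv_inv, mul_assoc, h1, inv_mul_cancel_left]
    obtain ⟨k, hk⟩ := IsPGroup.iff_orderOf.1 hAp w.right
    have hd1 : orderOf (w.right : MulAut Q) ∣ Nat.card K := by
      rw [hinner, ← hQcard]
      exact (orderOf_map_dvd _ _).trans (orderOf_dvd_natCard _)
    have hd2 : orderOf (w.right : MulAut Q) ∣ p ^ k := by rw [Subgroup.orderOf_coe, hk]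
    have hr : w.right = 1 := Subtype.ext (orderOf_eq_one_iff.1
      (Nat.eq_one_of_dvd_coprimes (hKp.pow_right k) hd1 hd2))
    exact ⟨w.left, by apply SemidirectProduct.ext <;> simp [hr]⟩
  let ξ : Q' → ℂ := fun x => χ ((e.symm x : Q) : G)
  have hξ : Cfsg.IsCharacter Q' ξ := CfsgLib.Char.isCharacter_comp hχ (Q.subtype.comp e.symm.toMonoidHom)
  have hξ1 : ξ 1 = (n : ℂ) := by
    show χ ((e.symm 1 : Q) : G) = _
    rw [map_one, Subgroup.coe_one, ← hn, CfsgLib.CharBlocks.coe_charDegree hχ]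
  have hξf : ∀ x : Q', ξ x = ξ 1 → x = 1 := by
    intro x hx
    have h1 : ((e.symm x : Q) : G) = 1 := hfaith _ (by
      refine hx.trans ?_
      show χ ((e.symm 1 : Q) : G) = χ 1
      rw [map_one, Subgroup.coe_one])
    have h2 : e.symm x = 1 := Subtype.ext h1
    rw [← e.apply_symm_apply x, h2, map_one]
  have hξinv : ∀ g : (Q ⋊[A.subtype] A), CfsgLib.CharNormal.conjFun Q' g ξ = ξ := by
    intro g
    funext x
    obtain ⟨q, rfl⟩ : ∃ q, e q = x := ⟨_, e.apply_symm_apply x⟩
    obtain ⟨p0, hp0, hp0e⟩ := g.right.2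
    have h1 : (⟨g * (e q : (Q ⋊[A.subtype] A)) * g⁻¹, hQ'n.conj_mem _ (e q).2 g⟩ : Q') =
        e (g.left * (g.right : MulAut Q) q * g.left⁻¹) := by
      apply Subtype.ext
      show g * SemidirectProduct.inl q * g⁻¹ = SemidirectProduct.inl _
      ext <;> simp
    show χ ((e.symm ⟨g * (e q : (Q ⋊[A.subtype] A)) * g⁻¹, _⟩ : Q) : G) = χ ((e.symm (e q) : Q) : G)
    rw [h1, e.symm_apply_apply, e.symm_apply_apply, ← hp0e]
    show χ ((g.left : G) * (((p0 : NQ) : G) * q * ((p0 : NQ) : G)⁻¹) * (g.left : G)⁻¹) = _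
    rw [CfsgLib.Char.isClassFunction_of_isCharacter hχ, CfsgLib.Char.isClassFunction_of_isCharacter hχ]
  obtain ⟨Φ, d', hΦ, hΦ1, hd', hrat⟩ :=
    CfsgLib.BlockArith.Rational.exists_rational_char Q' hp hpQ hQ'idx hC hξ hξinv hξf hξ1
  let ι : A →* (Q ⋊[A.subtype] A) := SemidirectProduct.inr
  have hι : Function.Injective ι := SemidirectProduct.inr_injective
  let _ := Fintype.ofFinite A
  have hpel : ∀ a : A, ∃ k, orderOf (ι a) = p ^ k := fun a => by
    obtain ⟨k, hk⟩ := IsPGroup.iff_orderOf.1 hAp a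
    exact ⟨k, by rw [orderOf_injective ι hι, hk]⟩
  refine (CfsgLib.BlockArith.Schur.schur_bound (χ := Φ ∘ ι) (CfsgLib.Char.isCharacter_comp hΦ ι)
    (n := d') (by rw [Function.comp_apply, map_one, hΦ1]) hAp
    (fun a ha => hι (((hrat (ι a) (hpel a)).2 (by rw [Function.comp_apply, Function.comp_apply, map_one] at ha; exact ha)).trans
      (map_one ι).symm))
    (fun a => (hrat (ι a) (hpel a)).1)).trans ?_
  exact (Finset.sum_le_sum fun i _ => Nat.div_le_div_right hd').trans
    (Finset.sum_le_sum_of_subset (Finset.range_mono (by omega)))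

end Cfsg.Agent.S4472
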