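import Cfsg.Statements.S4473
import Cfsg.Agent.Lib.Char.Induced
import Cfsg.Agent.Lib.Char.Ortho
import Cfsg.Agent.Lib.CharNormal.CentralCount
import Mathlib.GroupTheory.IndexNormal
import Mathlib.GroupTheory.GroupAction.Quotient

set_option autoImplicit false
open Cfsg

namespace Cfsg.Agent.S4473

open CfsgLib.Char

theorem three_numbers {a b c N : ℕ} (ha : 2 ≤ a) (hab : a ≤ b) (hbc : b ≤ c) (hcN : 3 * c ≤ N)
    (he : 1 + 2 / (N : ℚ) = 1 / a + 1 / b + 1 / c) : N = 12 ∨ N = 24 ∨ N = 60 := by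
  have hN : 0 < N := by omega
  have hNq : (0 : ℚ) < N := by exact_mod_cast hN
  have hN2 : (0 : ℚ) < 2 / (N : ℚ) := by positivity
  have hle : ∀ n m : ℕ, 0 < n → n ≤ m → (1 : ℚ) / m ≤ 1 / n := fun n m hn hnm =>
    one_div_le_one_div_of_le (by exact_mod_cast hn) (by exact_mod_cast hnm)
  have hb1 := hle a b (by omega) hab
  have hc1 := hle b c (by omega) hbc
  have ha2 : a = 2 := by
    by_contra h
    have h3 := hle 3 a (by norm_num) (by omega)
    norm_num at h3 hb1 hc1
    norm_num at he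
    linarith
  subst ha2
  have hb4 : b < 4 := by
    by_contra h
    have h3 := hle 4 b (by norm_num) (by omega)
    norm_num at h3 hb1 hc1
    norm_num at he
    linarith
  have hc0 : (0 : ℚ) < c := by exact_mod_cast (show 0 < c by omega)
  interval_cases b
  · have h2 : (2 : ℚ) / N = 1 / c := by norm_num at he; rw [one_div]; linarith
    rw [div_eq_div_iff hNq.ne' hc0.ne'] at h2
    have : 2 * c = N := by exact_mod_cast (by linarith : (2 : ℚ) * c = N)
    omega
  · have hc6 : c < 6 := by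
      by_contra h
      have h3 := hle 6 c (by norm_num) (by omega)
      norm_num at h3
      norm_num at he
      linarith
    interval_cases c
    all_goals
      norm_num at he
      field_simp at he
      first
        | (left; exact_mod_cast (by linarith : (N : ℚ) = 12))
        | (right; left; exact_mod_cast (by linarith : (N : ℚ) = 24))
        | (right; right; exact_mod_cast (by linarith : (N : ℚ) = 60))

theorem three_numbers' {a b c N : ℕ} (ha : 2 ≤ a) (hb : 2 ≤ b) (hc : 2 ≤ c) (ha' : 3 * a ≤ N)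
    (hb' : 3 * b ≤ N) (hc' : 3 * c ≤ N)
    (he : 1 + 2 / (N : ℚ) = 1 / a + 1 / b + 1 / c) : N = 12 ∨ N = 24 ∨ N = 60 := by
  rcases le_total a b with h1 | h1 <;> rcases le_total b c with h2 | h2 <;> rcases le_total a c with h3 | h3
  all_goals first
    | exact three_numbers ha h1 h2 hc' he
    | exact three_numbers ha h3 h2 hb' (by linarith)
    | exact three_numbers hb h1 h3 hc' (by linarith)
    | exact three_numbers hb h2 h3 ha' (by linarith)
    | exact three_numbers hc h3 h1 hb' (by linarith)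
    | exact three_numbers hc h2 h1 ha' (by linarith)

/-- The possible orders of a group in which every nontrivial element fixes two points. -/
theorem count {G X : Type*} [Group G] [Finite G] [Finite X] [MulAction G X] (Z : Subgroup G)
    (hZne : Z ≠ ⊤) (hZfix : ∀ z ∈ Z, ∀ x : X, z • x = x)
    (htwo : ∀ g, g ∉ Z → Nat.card {x : X // g • x = x} = 2)
    (hex : ∀ x : X, ∃ g, g ∉ Z ∧ g • x = x)
    (horb : ∀ x : X, 3 ≤ Nat.card (MulAction.orbit G x)) :
    Z.index = 12 ∨ Z.index = 24 ∨ Z.index = 60 := by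
  classical
  have := Fintype.ofFinite G
  have := Fintype.ofFinite X
  have := Fintype.ofFinite (MulAction.orbitRel.Quotient G X)
  set N := Z.index with hN
  have hN2 : 2 ≤ N := by
    have h1 : N ≠ 1 := fun h => hZne (Subgroup.index_eq_one.mp h)
    have h0 : N ≠ 0 := Subgroup.index_ne_zero_of_finite
    omega
  let S : X → Subgroup G := fun x => MulAction.stabilizer G x
  have hZS : ∀ x, Z ≤ S x := fun x z hz => hZfix z hz x
  let m : X → ℕ := fun x => Z.relIndex (S x)
  have hmN : ∀ x, m x * Nat.card (MulAction.orbit G x) = N := fun x => by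
    rw [hN, ← Subgroup.relIndex_mul_index (hZS x)]
    congr 1
    rw [Subgroup.index_eq_card]
    exact Nat.card_congr (MulAction.orbitEquivQuotientStabilizer G x)
  have hm2 : ∀ x, 2 ≤ m x := fun x => by
    obtain ⟨g, hgZ, hg⟩ := hex x
    have h1 : m x ≠ 1 := fun h => hgZ (Subgroup.relIndex_eq_one.mp h hg)
    have h0 : m x ≠ 0 := fun h => by have := hmN x; rw [h, zero_mul] at this; omega
    omega
  have hm3 : ∀ x, 3 * m x ≤ N := fun x => by
    rw [← hmN x, mul_comm 3]; exact Nat.mul_le_mul_left _ (horb x)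
  -- count the pairs
  have hpairs : 2 * (Nat.card G - Nat.card Z) = ∑ x : X, (Nat.card (S x) - Nat.card Z) := by
    have h1 : ∀ x : X, Nat.card (S x) - Nat.card Z =
        ((Finset.univ.filter fun g : G => g ∉ Z).filter fun g => g • x = x).card := fun x => by
      rw [Finset.filter_filter, Nat.card_eq_fintype_card, Nat.card_eq_fintype_card,
        Fintype.card_subtype, Fintype.card_subtype, ← Finset.card_sdiff_of_subset]
      · congr 1
        ext g
        simp [S, MulAction.mem_stabilizer_iff, and_comm]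
      · intro g hg
        simp only [Finset.mem_filter, Finset.mem_univ, true_and] at hg ⊢
        exact hZS x hg
    simp only [h1, Finset.card_filter]
    rw [Finset.sum_comm]
    simp only [← Finset.card_filter]
    rw [Finset.sum_congr rfl fun g hg => (show (Finset.univ.filter fun x : X => g • x = x).card = 2 by
      rw [← Fintype.card_subtype, ← Nat.card_eq_fintype_card]
      exact htwo g (Finset.mem_filter.mp hg).2), Finset.sum_const, smul_eq_mul, mul_comm 2]
    congr 1
    rw [Nat.card_eq_fintype_card, Nat.card_eq_fintype_card, Fintype.card_subtype, ← Finset.card_univ,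
      ← Finset.card_sdiff_of_subset (Finset.subset_univ _)]
    congr 1
    ext g
    simp
  have hZ0 : (0 : ℚ) < Nat.card Z := by exact_mod_cast Nat.card_pos
  have hG : (Nat.card G : ℚ) = N * Nat.card Z := by
    rw [hN, ← Subgroup.index_mul_card Z]; push_cast; ring
  have hS : ∀ x, (Nat.card (S x) : ℚ) = m x * Nat.card Z := fun x => by
    have h := Subgroup.card_mul_index (Z.subgroupOf (S x))
    rw [Nat.card_congr (Subgroup.subgroupOfEquivOfLe (hZS x)).toEquiv] at h
    rw [← h]; push_cast; ring_nf; rfl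
  have hq : 2 * ((N : ℚ) - 1) = ∑ x : X, ((m x : ℚ) - 1) := by
    have h := congrArg (Nat.cast (R := ℚ)) hpairs
    rw [Nat.cast_mul, Nat.cast_sub (Subgroup.card_le_card_group Z), Nat.cast_sum,
      Finset.sum_congr rfl fun x _ => (Nat.cast_sub (Nat.card_mono (Set.toFinite _) (hZS x)) :
        ((Nat.card (S x) - Nat.card Z : ℕ) : ℚ) = _)] at h
    simp only [hG, hS] at h
    refine mul_left_cancel₀ hZ0.ne' ?_
    rw [Finset.mul_sum]
    push_cast at h
    rw [Finset.sum_congr rfl fun x _ => (mul_sub (Nat.card Z : ℚ) (m x : ℚ) 1)]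
    simp only [mul_one, mul_comm (Nat.card Z : ℚ) (m _ : ℚ)]
    linarith
  -- sort into orbits
  have hmo : ∀ (g : G) x, m (g • x) = m x := fun g x => by
    have h1 := hmN x
    have h2 := hmN (g • x)
    rw [MulAction.orbit_smul] at h2
    exact Nat.eq_of_mul_eq_mul_right (show 0 < _ by have := horb x; omega) (h2.trans h1.symm)
  have horbit : ∑ ω : MulAction.orbitRel.Quotient G X, (1 - 1 / (m ω.out : ℚ)) = 2 - 2 / (N : ℚ) := by
    have hN0 : (N : ℚ) ≠ 0 := by exact_mod_cast (show N ≠ 0 by omega)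
    refine mul_left_cancel₀ hN0 ?_
    rw [Finset.mul_sum, show (N : ℚ) * (2 - 2 / N) = 2 * ((N : ℚ) - 1) by field_simp, hq,
      ← (MulAction.selfEquivSigmaOrbits G X).symm.sum_comp, Fintype.sum_sigma]
    refine Finset.sum_congr rfl fun ω _ => ?_
    have hc : ∀ y : MulAction.orbit G ω.out,
        ((m ((MulAction.selfEquivSigmaOrbits G X).symm ⟨ω, y⟩) : ℚ) - 1) = (m ω.out : ℚ) - 1 := by
      rintro ⟨_, g, rfl⟩
      exact congrArg (fun t : ℕ => (t : ℚ) - 1) (hmo g ω.out)
    rw [Finset.sum_congr rfl fun y _ => hc y, Finset.sum_const, Finset.card_univ, nsmul_eq_mul,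
      ← Nat.card_eq_fintype_card, ← hmN ω.out]
    have hm0 : (m ω.out : ℚ) ≠ 0 := by exact_mod_cast (show m ω.out ≠ 0 by have := hm2 ω.out; omega)
    push_cast
    field_simp
  set k := (Finset.univ : Finset (MulAction.orbitRel.Quotient G X)).card with hk
  have hup : ∀ ω : MulAction.orbitRel.Quotient G X, 1 - 1 / (m ω.out : ℚ) < 1 := fun ω => by
    have : (0 : ℚ) < 1 / (m ω.out : ℚ) := by
      have := hm2 ω.out
      positivity
    linarith
  have hlo : ∀ ω : MulAction.orbitRel.Quotient G X, (1 / 2 : ℚ) ≤ 1 - 1 / (m ω.out : ℚ) := fun ω => by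
    have : (1 : ℚ) / (m ω.out : ℚ) ≤ 1 / 2 :=
      one_div_le_one_div_of_le (by norm_num) (by exact_mod_cast hm2 ω.out)
    linarith
  have hNq : (2 : ℚ) ≤ N := by exact_mod_cast hN2
  have h2N : (2 : ℚ) / N ≤ 1 := (div_le_one (by linarith)).mpr hNq
  have h2N' : (0 : ℚ) < 2 / N := div_pos two_pos (by linarith)
  have hk3 : k ≤ 3 := by
    by_contra h
    have h1 := Finset.sum_le_sum (s := (Finset.univ : Finset (MulAction.orbitRel.Quotient G X)))
      fun ω _ => hlo ω
    rw [horbit, Finset.sum_const, nsmul_eq_mul, ← hk] at h1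
    have : (4 : ℚ) ≤ k := by exact_mod_cast (show 4 ≤ k by omega)
    linarith
  interval_cases hk' : k
  · rw [Finset.card_eq_zero.mp hk.symm, Finset.sum_empty] at horbit
    linarith
  · obtain ⟨a, ha⟩ := Finset.card_eq_one.mp hk.symm
    rw [ha, Finset.sum_singleton] at horbit
    linarith [hup a]
  · obtain ⟨a, b, hab, ha⟩ := Finset.card_eq_two.mp hk.symm
    rw [ha, Finset.sum_pair hab] at horbit
    exfalso
    have h3 : ∀ x, 3 / (N : ℚ) ≤ 1 / (m x : ℚ) := fun x => by
      rw [div_le_div_iff₀ (by linarith) (by have := hm2 x; positivity), one_mul]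
      exact_mod_cast hm3 x
    have h4 : (3 : ℚ) / N = 2 / N + 1 / N := by ring
    have h5 : (0 : ℚ) < 1 / (N : ℚ) := one_div_pos.mpr (by linarith)
    linarith [h3 a.out, h3 b.out]
  · obtain ⟨a, b, c, hab, hac, hbc, ha⟩ := Finset.card_eq_three.mp hk.symm
    rw [ha, Finset.sum_insert (by simp [hab, hac]), Finset.sum_pair hbc] at horbit
    exact three_numbers' (hm2 a.out) (hm2 b.out) (hm2 c.out) (hm3 _) (hm3 _) (hm3 _) (by linarith)

/-- A character of degree two which is nonzero against a monomial one equals it. -/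
theorem eq_ind_of_inner_ne_zero {G : Type*} [Group G] [Fintype G] {χ ψ : G → ℂ}
    (hχ : Cfsg.IsIrrCharacter G χ) (hψ : Cfsg.IsCharacter G ψ) (h1 : ψ 1 = χ 1)
    (hne : Cfsg.classInner ψ χ ≠ 0) : ψ = χ := by
  classical
  obtain ⟨m, hm, hmi⟩ := char_decomp hψ
  have hmχ : 1 ≤ m ⟨χ, hχ⟩ := Nat.one_le_iff_ne_zero.mpr fun e => hne (by
    rw [hmi ⟨χ, hχ⟩, e, Nat.cast_zero])
  choose d hd0 hd using fun φ : Cfsg.IrrCharacter G => exists_degree_pos φ.2
  have hsum : ∑ φ : Cfsg.IrrCharacter G, m φ * d φ = d ⟨χ, hχ⟩ := by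
    have h := congrFun hm 1
    simp only [Finset.sum_apply, Pi.smul_apply, smul_eq_mul, hd] at h
    rw [h1, show χ 1 = (d ⟨χ, hχ⟩ : ℂ) from hd ⟨χ, hχ⟩] at h
    exact_mod_cast h.symm
  rw [← Finset.add_sum_erase _ _ (Finset.mem_univ (⟨χ, hχ⟩ : Cfsg.IrrCharacter G))] at hsum
  have hle : d ⟨χ, hχ⟩ ≤ m ⟨χ, hχ⟩ * d ⟨χ, hχ⟩ := Nat.le_mul_of_pos_left _ hmχ
  have hrest : ∑ φ ∈ Finset.univ.erase (⟨χ, hχ⟩ : Cfsg.IrrCharacter G), m φ * d φ = 0 := by omega
  have h0 : ∀ φ ∈ Finset.univ.erase (⟨χ, hχ⟩ : Cfsg.IrrCharacter G), m φ = 0 := fun φ hφ =>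
    (Nat.mul_eq_zero.mp ((Finset.sum_eq_zero_iff.mp hrest) φ hφ)).resolve_right (hd0 φ).ne'
  rw [Finset.sum_eq_zero fun φ hφ => by rw [h0 φ hφ, zero_mul], add_zero] at hsum
  have hm1 : m ⟨χ, hχ⟩ = 1 := by
    by_contra h
    have h2 : 2 * d ⟨χ, hχ⟩ ≤ m ⟨χ, hχ⟩ * d ⟨χ, hχ⟩ := Nat.mul_le_mul_right _ (by omega)
    have := hd0 ⟨χ, hχ⟩
    omega
  rw [hm, Finset.sum_eq_single (⟨χ, hχ⟩ : Cfsg.IrrCharacter G) (fun φ _ hφ => by
    rw [h0 φ (Finset.mem_erase.mpr ⟨hφ, Finset.mem_univ _⟩), Nat.cast_zero, zero_smul]) (by simp),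
    hm1, Nat.cast_one, one_smul]


/-- Let the finite group G have a faithful irreducible character χ of degree 2 that is primitive: χ is not induced from a character of any proper subgroup. Then the centre of G has index 12, 24 or 60. -/
theorem result {G : Type*} [Group G] [Fintype G] (χ : Cfsg.IrrCharacter G) (hfaith : ∀ g : G, (χ : G → ℂ) g = (χ : G → ℂ) 1 → g = 1) (h2 : Cfsg.charDegree (χ : G → ℂ) = 2) (hprim : ∀ H : Subgroup G, H ≠ ⊤ → ∀ θ : H → ℂ, Cfsg.IsCharacter H θ → (χ : G → ℂ) ≠ Cfsg.indFun H θ) : (Subgroup.center G).index = 12 ∨ (Subgroup.center G).index = 24 ∨ (Subgroup.center G).index = 60 := by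
  classical
  obtain ⟨n, ρ, hirr, hρ⟩ := χ.2
  have hn : n = 2 := by
    have : (χ : G → ℂ) 1 = (n : ℂ) := by rw [← hρ]; simp [Representation.character]
    rw [Cfsg.charDegree] at h2
    rw [this] at h2
    simpa using h2
  subst hn
  have hinj : ∀ g h, ρ g = ρ h → g = h := fun g h e => by
    have h1 : ρ (g⁻¹ * h) = 1 := by
      rw [map_mul, ← e, ← map_mul, inv_mul_cancel, map_one]
    refine inv_mul_eq_one.mp (hfaith _ ?_)
    rw [← hρ]
    simp [Representation.character, h1]
  set Z := Subgroup.center G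
  have hscal : ∀ g, g ∈ Z → ∃ ω : ℂ, ρ g = ω • LinearMap.id := fun g hg =>
    haveI : ρ.IsIrreducible := hirr
    exists_eq_smul_id ρ (ρ g) fun k => by
      rw [← Module.End.mul_eq_comp, ← Module.End.mul_eq_comp, ← map_mul, ← map_mul,
        Subgroup.mem_center_iff.mp hg k]
  have hcent : ∀ g (ω : ℂ), ρ g = ω • LinearMap.id → g ∈ Z := fun g ω hg =>
    Subgroup.mem_center_iff.mpr fun h => hinj _ _ (by
      rw [map_mul, map_mul, hg]
      exact LinearMap.ext fun x => by simp [Module.End.mul_apply])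
  let act : MulAction G (Submodule ℂ (Fin 2 → ℂ)) :=
    { smul := fun g L => L.map (ρ g)
      one_smul := fun L => by
        show L.map (ρ 1) = L
        rw [map_one]; exact Submodule.map_id L
      mul_smul := fun g h L => by
        show L.map (ρ (g * h)) = (L.map (ρ h)).map (ρ g)
        rw [map_mul, ← Submodule.map_comp]; rfl }
  have smul_def : ∀ (g : G) (L : Submodule ℂ (Fin 2 → ℂ)), g • L = L.map (ρ g) := fun _ _ => rfl
  -- a line fixed by everything
  have hred : ∀ L : Submodule ℂ (Fin 2 → ℂ), Module.finrank ℂ L = 1 → (∀ g : G, g • L = L) → False := by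
    intro L hL hfix
    have := hirr
    rcases eq_bot_or_eq_top (⟨L, fun g x hx => by
        have h1 : ρ g x ∈ g • L := Submodule.mem_map_of_mem hx
        rwa [hfix g] at h1⟩ : Subrepresentation ρ) with h | h
    · have h' : L = ⊥ := congrArg Subrepresentation.toSubmodule h
      rw [h'] at hL
      simp at hL
    · have h' : L = ⊤ := congrArg Subrepresentation.toSubmodule h
      rw [h'] at hL
      simp at hL
  -- eigenlines
  have hlines : ∀ g, g ∉ Z → ∃ x y : Fin 2 → ℂ, LinearIndependent ℂ ![x, y] ∧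
      ∀ L : Submodule ℂ (Fin 2 → ℂ), Module.finrank ℂ L = 1 →
        (g • L = L ↔ L = ℂ ∙ x ∨ L = ℂ ∙ y) := by
    intro g hg
    obtain ⟨b, z, hb⟩ := exists_eigenbasis ρ g
    have h22 : Module.finrank ℂ (Fin 2 → ℂ) = 2 := Module.finrank_fin_fun ℂ
    let b2 := b.reindex (finCongr h22)
    let w : Fin 2 → ℂ := fun i => z ((finCongr h22).symm i)
    have hb2 : ∀ i, ρ g (b2 i) = w i • b2 i := fun i => by
      simp only [b2, Module.Basis.reindex_apply]
      exact (hb _).2
    have hw0 : ∀ i, w i ≠ 0 := fun i h => by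
      have h3 := (hb ((finCongr h22).symm i)).1
      simp only [w] at h
      rw [h, zero_pow (orderOf_pos g).ne'] at h3
      exact zero_ne_one h3
    have hne : w 0 ≠ w 1 := fun e => hg (hcent g (w 0) (b2.ext fun i => by
      rw [hb2]; fin_cases i <;> simp [e]))
    refine ⟨b2 0, b2 1, by
      rw [show ![b2 0, b2 1] = ⇑b2 from funext fun i => by fin_cases i <;> rfl]
      exact b2.linearIndependent, fun L hL => ⟨fun hfix => ?_, ?_⟩⟩
    · obtain ⟨v, hv0, hv⟩ := finrank_eq_one_iff'.mp hL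
      have hgv : ρ g v ∈ L := by
        have h1 : ρ g (v : Fin 2 → ℂ) ∈ g • L := Submodule.mem_map_of_mem v.2
        rwa [hfix] at h1
      obtain ⟨μ, hμ⟩ := hv ⟨_, hgv⟩
      have hμ' : μ • (v : Fin 2 → ℂ) = ρ g v := congrArg Subtype.val hμ
      have hrep : ∀ i, μ * b2.repr v i = w i * b2.repr v i := by
        intro i
        have h1 := congrArg (fun x => b2.repr x i) hμ'
        simp only [map_smul, Finsupp.smul_apply, smul_eq_mul] at h1
        rw [h1]
        conv_lhs => rw [← b2.sum_repr (v : Fin 2 → ℂ)]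
        simp only [Fin.sum_univ_two, map_add, map_smul, hb2, Finsupp.add_apply, Finsupp.smul_apply,
          b2.repr_self, smul_eq_mul]
        fin_cases i <;> simp [mul_comm]
      have hspan : ∀ x : Fin 2 → ℂ, ∀ c : ℂ, (v : Fin 2 → ℂ) = c • x → L = ℂ ∙ x := by
        intro x c hc
        have hc0 : c ≠ 0 := fun h => hv0 (Subtype.ext (by rw [hc, h, zero_smul]; rfl))
        refine le_antisymm (fun u hu => ?_) ((Submodule.span_singleton_le_iff_mem _ _).mpr ?_)
        · obtain ⟨a, ha⟩ := hv ⟨u, hu⟩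
          have ha' : a • (v : Fin 2 → ℂ) = u := congrArg Subtype.val ha
          rw [← ha', hc, smul_smul]
          exact Submodule.smul_mem _ _ (Submodule.mem_span_singleton_self _)
        · have h3 : x = c⁻¹ • (v : Fin 2 → ℂ) := by rw [hc, smul_smul, inv_mul_cancel₀ hc0, one_smul]
          rw [h3]
          exact L.smul_mem _ v.2
      by_cases h0 : b2.repr v 0 = 0
      · right
        refine hspan _ (b2.repr v 1) ?_
        conv_lhs => rw [← b2.sum_repr (v : Fin 2 → ℂ), Fin.sum_univ_two, h0, zero_smul, zero_add]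
      · left
        have hμ0 : μ = w 0 := mul_right_cancel₀ h0 (hrep 0)
        have h1 : b2.repr v 1 = 0 := by
          by_contra h1
          exact hne (hμ0.symm.trans (mul_right_cancel₀ h1 (hrep 1)))
        refine hspan _ (b2.repr v 0) ?_
        conv_lhs => rw [← b2.sum_repr (v : Fin 2 → ℂ), Fin.sum_univ_two, h1, zero_smul, add_zero]
    · rintro (rfl | rfl) <;>
        rw [smul_def, Submodule.map_span, Set.image_singleton, hb2,
          Submodule.span_singleton_smul_eq (IsUnit.mk0 _ (hw0 _))]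
  -- the finite set of fixed lines
  let X : Set (Submodule ℂ (Fin 2 → ℂ)) := {L | Module.finrank ℂ L = 1 ∧ ∃ g, g ∉ Z ∧ g • L = L}
  have hXf : X.Finite := by
    choose x y _ hxy using fun g : {g : G // g ∉ Z} => hlines g.1 g.2
    refine ((Set.finite_range fun g => ℂ ∙ x g).union (Set.finite_range fun g => ℂ ∙ y g)).subset ?_
    rintro L ⟨hL, g, hg, hfix⟩
    rcases (hxy ⟨g, hg⟩ L hL).mp hfix with h | h
    · exact Or.inl ⟨⟨g, hg⟩, h.symm⟩
    · exact Or.inr ⟨⟨g, hg⟩, h.symm⟩
  have hXinv : ∀ (h : G), ∀ L ∈ X, h • L ∈ X := by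
    rintro h L ⟨hL, g, hg, hfix⟩
    refine ⟨?_, h * g * h⁻¹, fun hc => hg ?_, ?_⟩
    · rw [smul_def, ← hL]
      exact (LinearEquiv.finrank_eq (Submodule.equivMapOfInjective _
        (ρ.apply_bijective h).injective L)).symm
    · simpa [mul_assoc] using (inferInstance : Z.Normal).conj_mem _ hc h⁻¹
    · rw [smul_smul, inv_mul_cancel_right, mul_smul, hfix]
  have : Finite X := hXf
  let actX : MulAction G X :=
    { smul := fun g L => ⟨g • L.1, hXinv g L.1 L.2⟩
      one_smul := fun L => Subtype.ext (one_smul G L.1)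
      mul_smul := fun g h L => Subtype.ext (mul_smul g h L.1) }
  have hZne : Z ≠ ⊤ := by
    intro hZ
    refine hred (ℂ ∙ (Pi.single 0 1 : Fin 2 → ℂ)) (finrank_span_singleton (by simp)) fun g => ?_
    obtain ⟨ω, hω⟩ := hscal g (hZ ▸ Subgroup.mem_top g)
    rw [smul_def, Submodule.map_span, Set.image_singleton, hω, LinearMap.smul_apply, LinearMap.id_apply]
    refine Submodule.span_singleton_smul_eq (IsUnit.mk0 ω fun h0 => ?_) _
    have := hω
    rw [h0, zero_smul] at this
    have hh := LinearMap.congr_fun this (Pi.single 0 1)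
    have := (ρ.apply_bijective g).injective (hh.trans (map_zero (ρ g)).symm)
    simp at this
  refine count (X := X) Z hZne (fun z hz L => Subtype.ext ?_) (fun g hg => ?_) (fun L => ?_) fun L => ?_
  · obtain ⟨ω, hω⟩ := hscal z hz
    show z • L.1 = L.1
    rw [smul_def]
    refine Submodule.eq_of_le_of_finrank_eq (fun u hu => ?_)
      (LinearEquiv.finrank_eq (Submodule.equivMapOfInjective _ (ρ.apply_bijective z).injective L.1)).symm
    obtain ⟨v, hv, rfl⟩ := Submodule.mem_map.mp hu
    rw [hω]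
    exact L.1.smul_mem ω hv
  · obtain ⟨x, y, hxy, hiff⟩ := hlines g hg
    have hx0 : x ≠ 0 := hxy.ne_zero 0
    have hy0 : y ≠ 0 := hxy.ne_zero 1
    have hne : (ℂ ∙ x) ≠ ℂ ∙ y := fun e => by
      obtain ⟨c, hc⟩ := Submodule.mem_span_singleton.mp (e ▸ Submodule.mem_span_singleton_self x : x ∈ ℂ ∙ y)
      have := (LinearIndependent.pair_iff.mp hxy) 1 (-c) (by rw [one_smul, neg_smul, hc, add_neg_cancel])
      exact one_ne_zero this.1
    have hxX : ∀ u : Fin 2 → ℂ, u ≠ 0 → (ℂ ∙ u = ℂ ∙ x ∨ ℂ ∙ u = ℂ ∙ y) → (ℂ ∙ u) ∈ X :=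
      fun u hu h => ⟨finrank_span_singleton hu, g, hg, (hiff _ (finrank_span_singleton hu)).mpr h⟩
    have hfx : (g • (⟨_, hxX x hx0 (Or.inl rfl)⟩ : X)) = ⟨_, hxX x hx0 (Or.inl rfl)⟩ :=
      Subtype.ext ((hiff _ (finrank_span_singleton hx0)).mpr (Or.inl rfl))
    have hfy : (g • (⟨_, hxX y hy0 (Or.inr rfl)⟩ : X)) = ⟨_, hxX y hy0 (Or.inr rfl)⟩ :=
      Subtype.ext ((hiff _ (finrank_span_singleton hy0)).mpr (Or.inr rfl))
    rw [Nat.card_eq_two_iff]
    refine ⟨⟨_, hfx⟩, ⟨_, hfy⟩, fun e => hne (congrArg (fun t => t.1.1) e), ?_⟩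
    rw [Set.eq_univ_iff_forall]
    rintro ⟨⟨L, hL⟩, hfix⟩
    rcases (hiff L hL.1).mp (congrArg Subtype.val hfix) with h | h
    · exact Or.inl (Subtype.ext (Subtype.ext h))
    · exact Or.inr (Subtype.ext (Subtype.ext h))
  · obtain ⟨hL, g, hg, hfix⟩ := L.2
    exact ⟨g, hg, Subtype.ext hfix⟩
  · by_contra hlt
    push Not at hlt
    have hpos : 0 < Nat.card (MulAction.orbit G L) :=
      Nat.card_pos_iff.mpr ⟨⟨⟨L, MulAction.mem_orbit_self L⟩⟩, inferInstance⟩
    have hidx : (MulAction.stabilizer G L).index = Nat.card (MulAction.orbit G L) := by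
      rw [Subgroup.index_eq_card]
      exact (Nat.card_congr (MulAction.orbitEquivQuotientStabilizer G L)).symm
    set H := MulAction.stabilizer G L with hH
    rcases Nat.lt_or_ge (Nat.card (MulAction.orbit G L)) 2 with h1 | h1
    · have hHt : H = ⊤ := Subgroup.index_eq_one.mp (by omega)
      refine hred L.1 L.2.1 fun g => ?_
      have hg : g • L = L := MulAction.mem_stabilizer_iff.mp (hHt ▸ Subgroup.mem_top g : g ∈ H)
      exact congrArg Subtype.val hg
    have hi2 : H.index = 2 := by omega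
    have hHn : H.Normal := Subgroup.normal_of_index_eq_two (H := H) hi2
    obtain ⟨g₀, hg₀⟩ : ∃ g₀, g₀ ∉ H := by
      by_contra h
      push Not at h
      rw [(Subgroup.eq_top_iff' H).mpr h, Subgroup.index_top] at hi2
      omega
    obtain ⟨v, hv0, hv⟩ := finrank_eq_one_iff'.mp L.2.1
    have hHfix : ∀ h : H, ρ h (v : Fin 2 → ℂ) ∈ L.1 := fun h => by
      have h1 : ρ h (v : Fin 2 → ℂ) ∈ (h : G) • L.1 := Submodule.mem_map_of_mem v.2
      rwa [show (h : G) • L.1 = L.1 from congrArg Subtype.val (MulAction.mem_stabilizer_iff.mp h.2)] at h1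
    set v' := ρ g₀ (v : Fin 2 → ℂ)
    have hind : LinearIndependent ℂ ![(v : Fin 2 → ℂ), v'] := by
      rw [LinearIndependent.pair_iff' (fun h => hv0 (Subtype.ext h))]
      intro a ha
      refine hg₀ (MulAction.mem_stabilizer_iff.mpr (Subtype.ext ?_))
      show g₀ • L.1 = L.1
      rw [smul_def]
      refine Submodule.eq_of_le_of_finrank_eq (fun u hu => ?_)
        (LinearEquiv.finrank_eq (Submodule.equivMapOfInjective _ (ρ.apply_bijective g₀).injective L.1)).symm
      obtain ⟨x, hx, rfl⟩ := Submodule.mem_map.mp hu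
      obtain ⟨c, hc⟩ := hv ⟨x, hx⟩
      have hc' : c • (v : Fin 2 → ℂ) = x := congrArg Subtype.val hc
      rw [← hc', map_smul, show ρ g₀ (v : Fin 2 → ℂ) = a • (v : Fin 2 → ℂ) from ha.symm]
      exact L.1.smul_mem _ (L.1.smul_mem _ v.2)
    let bb := basisOfLinearIndependentOfCardEqFinrank hind (by simp)
    choose μ hμ using fun h : H => hv ⟨_, hHfix h⟩
    have hμ' : ∀ h : H, μ h • (v : Fin 2 → ℂ) = ρ h v := fun h => congrArg Subtype.val (hμ h)
    have hvne : (v : Fin 2 → ℂ) ≠ 0 := fun h => hv0 (Subtype.ext h)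
    let θ : H →* ℂ :=
      { toFun := μ
        map_one' := smul_left_injective ℂ hvne (by simp only [hμ', OneMemClass.coe_one, map_one,
          Module.End.one_apply, one_smul])
        map_mul' := fun a b => smul_left_injective ℂ hvne (by
          show μ (a * b) • (v : Fin 2 → ℂ) = (μ a * μ b) • (v : Fin 2 → ℂ)
          rw [hμ', Subgroup.coe_mul, map_mul, Module.End.mul_apply, ← hμ' b, map_smul, ← hμ' a, smul_smul,
            mul_comm]) }
    let cj : H →* H := (MulAut.conjNormal (H := H) g₀⁻¹).toMonoidHom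
    have hv'act : ∀ h : H, ρ h v' = θ (cj h) • v' := fun h => by
      show ρ h (ρ g₀ v) = μ (cj h) • ρ g₀ v
      rw [← map_smul, hμ' (cj h), ← Module.End.mul_apply, ← Module.End.mul_apply, ← map_mul, ← map_mul]
      congr 2
      simp [cj, MulAut.conjNormal_apply, mul_assoc]
    have htr : ∀ h : H, (χ : G → ℂ) h = θ h + θ (cj h) := fun h => by
      rw [← hρ]
      show LinearMap.trace ℂ _ (ρ h) = _
      rw [trace_eq_sum_eigen bb _ ![θ h, θ (cj h)] (fun i => by
        rw [coe_basisOfLinearIndependentOfCardEqFinrank]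
        fin_cases i
        · exact (hμ' h).symm
        · exact hv'act h), Fin.sum_univ_two]
      rfl
    have := Fintype.ofFinite H
    have hθ : Cfsg.IsIrrCharacter H θ := isIrrCharacter_hom θ
    refine hprim H (fun h => by rw [h, Subgroup.index_top] at hi2; omega) θ (isCharacter_of_isIrr hθ) ?_
    refine (eq_ind_of_inner_ne_zero χ.2 (isCharacter_indFun H (isCharacter_of_isIrr hθ)) ?_ ?_).symm
    · rw [indFun_one, map_one θ, mul_one, hi2, ← hρ]
      simp [Representation.character]
    · rw [frobenius_reciprocity H _ (isClassFunction_of_isIrr χ.2)]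
      obtain ⟨k, hk⟩ := classInner_char_nat (isCharacter_of_isIrr hθ)
        (isCharacter_comp (isCharacter_of_isIrr hθ) cj)
      have e : Cfsg.classInner (θ : H → ℂ) (fun h : H => (χ : G → ℂ) h) = 1 + (k : ℂ) := by
        rw [show (fun h : H => (χ : G → ℂ) h) = (θ : H → ℂ) + (θ : H → ℂ) ∘ cj from funext htr,
          classInner_add_right, classInner_irr_self hθ, hk]
      rw [e]
      intro h0
      have : ((1 + k : ℕ) : ℂ) = 0 := by push_cast; exact h0
      rw [Nat.cast_eq_zero] at this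
      omega


end Cfsg.Agent.S4473
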