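import Cfsg.Statements.S4474
import Cfsg.Agent.Lib.Char.RealForms

set_option autoImplicit false
open Cfsg

namespace Cfsg.Agent.S4474

/-- Let χ be an irreducible character of the finite group G. Then the Frobenius–Schur indicator of χ (the average over s ∈ G of χ(s²)) equals 1 if and only if χ is afforded by a real representation: there is a representation of G on a real coordinate space whose trace function, viewed in ℂ, is χ. -/
theorem result {G : Type*} [Group G] [Fintype G] (χ : Cfsg.IrrCharacter G) : ((Nat.card G : ℂ)⁻¹ * ∑ s : G, (χ : G → ℂ) (s * s)) = 1 ↔ ∃ (n : ℕ) (ρ : Representation ℝ G (Fin n → ℝ)), ∀ g : G, ((LinearMap.trace ℝ (Fin n → ℝ) (ρ g) : ℝ) : ℂ) = (χ : G → ℂ) g := by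
  obtain ⟨χ, hχ⟩ := χ
  constructor
  · intro hν
    obtain ⟨n, ρ, hirr, rfl⟩ := hχ
    obtain ⟨R, hR⟩ := CfsgLib.Char.exists_real_form ρ hν
    refine ⟨n, (Matrix.toLinAlgEquiv' : Matrix (Fin n) (Fin n) ℝ ≃ₐ[ℝ] _).toAlgHom.toMonoidHom.comp R,
      fun g => ?_⟩
    show ((LinearMap.trace ℝ (Fin n → ℝ) (Matrix.toLin' (R g)) : ℝ) : ℂ) = _
    rw [Matrix.trace_toLin'_eq, hR]
  · rintro ⟨n, ρ, hρ⟩
    refine CfsgLib.Char.indicator_of_real_rep hχ
      ((LinearMap.toMatrixAlgEquiv' : _ ≃ₐ[ℝ] Matrix (Fin n) (Fin n) ℝ).toAlgHom.toMonoidHom.comp ρ)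
      fun g => ?_
    rw [← hρ g, LinearMap.trace_eq_matrix_trace ℝ (Pi.basisFun ℝ (Fin n)),
      LinearMap.toMatrix_eq_toMatrix']
    rfl

end Cfsg.Agent.S4474
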