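import Cfsg.Statements.S4476
import Cfsg.Agent.Lib.CharBlocks.Indicator
import Mathlib.Algebra.Order.Chebyshev
import Mathlib.GroupTheory.GroupAction.CardCommute

set_option autoImplicit false
open Cfsg

namespace Cfsg.Agent.S4476

/-- Let G be a finite group of even order g with exactly t involutions, and put α = (g − 1)/t (a rational number). Then (a) some non-identity element x of G has at most α² conjugates; and (b) some non-principal real-valued irreducible character of G has degree at most α. -/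
theorem result {G : Type*} [Group G] [Fintype G] (heven : Even (Nat.card G)) (t : ℕ) (ht : Nat.card {x : G // orderOf x = 2} = t) : (∃ x : G, x ≠ 1 ∧ ((Subgroup.centralizer ({x} : Set G)).index : ℚ) ≤ (((Nat.card G : ℚ) - 1) / t) ^ 2) ∧ ∃ χ : Cfsg.IrrCharacter G, (χ : G → ℂ) ≠ (fun _ => 1) ∧ (∀ g : G, ((χ : G → ℂ) g).im = 0) ∧ (Cfsg.charDegree (χ : G → ℂ) : ℚ) ≤ ((Nat.card G : ℚ) - 1) / t := by
  classical
  choose e he0 he using fun χ : Cfsg.IrrCharacter G => CfsgLib.Char.exists_degree_pos χ.2
  set R : Finset (Cfsg.IrrCharacter G) := Finset.univ.filter fun χ : Cfsg.IrrCharacter G =>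
    (∀ g, starRingEnd ℂ ((χ : G → ℂ) g) = (χ : G → ℂ) g) ∧ χ ≠ CfsgLib.Char.irrOne with hR
  have he1 : e CfsgLib.Char.irrOne = 1 := by
    have h := he (CfsgLib.Char.irrOne (G := G))
    rw [CfsgLib.Char.irrOne_apply] at h
    exact_mod_cast h.symm
  -- the number of square roots of one
  have hroots : (Finset.univ.filter fun s : G => s * s = 1).card = t + 1 := by
    rw [← ht, Nat.card_eq_fintype_card, Fintype.card_subtype,
      ← Finset.card_erase_add_one (s := Finset.univ.filter fun s : G => s * s = 1) (a := 1)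
        (by simp)]
    congr 2
    ext s
    simp only [Finset.mem_erase, Finset.mem_filter, Finset.mem_univ, true_and]
    rw [orderOf_eq_prime_iff, sq]
    tauto
  have htR : (t : ℝ) ≤ ∑ χ ∈ R, (e χ : ℝ) := by
    have h := congrArg Complex.re (CfsgLib.CharBlocks.sum_fsInd_mul (G := G) 1)
    rw [hroots, Complex.natCast_re, Complex.re_sum] at h
    simp only [he, Complex.mul_re, Complex.natCast_im, mul_zero, sub_zero,
      Complex.natCast_re] at h
    rw [← Finset.add_sum_erase _ _ (Finset.mem_univ (CfsgLib.Char.irrOne (G := G))),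
      CfsgLib.CharBlocks.fsInd_irrOne, he1] at h
    have hle : ∑ χ ∈ Finset.univ.erase (CfsgLib.Char.irrOne (G := G)),
        (CfsgLib.CharBlocks.fsInd (χ : G → ℂ)).re * (e χ : ℝ) ≤ ∑ χ ∈ R, (e χ : ℝ) := by
      rw [hR, Finset.sum_filter, ← Finset.add_sum_erase Finset.univ _ (Finset.mem_univ (CfsgLib.Char.irrOne (G := G))),
        if_neg (fun h => h.2 rfl), zero_add]
      refine Finset.sum_le_sum fun χ hχ => ?_
      rcases CfsgLib.CharBlocks.fsInd_cases χ.2 with ⟨hr, hν⟩ | ⟨hr, hν⟩
      · rw [if_pos ⟨hr, (Finset.mem_erase.mp hχ).1⟩]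
        rcases hν with hν | hν <;> rw [hν] <;> simp
      · rw [if_neg fun h => hr h.1, hν]
        simp
    push_cast at h
    simp only [Complex.one_re, one_mul] at h
    linarith
  have hsq : (∑ χ ∈ R, e χ * e χ) + 1 ≤ Nat.card G := by
    have h := CfsgLib.Char.sum_degree_sq (G := G)
    simp only [he] at h
    have h' : ∑ χ, e χ * e χ = Nat.card G := by
      simp only [← sq]; exact_mod_cast h
    rw [← h', ← Finset.add_sum_erase _ _ (Finset.mem_univ (CfsgLib.Char.irrOne (G := G))), he1,
      add_comm]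
    refine Nat.add_le_add_left (Finset.sum_le_sum_of_subset fun χ hχ => ?_) 1
    exact Finset.mem_erase.mpr ⟨(Finset.mem_filter.mp hχ).2.2, Finset.mem_univ _⟩
  have hg2 : 2 ≤ Nat.card G := Nat.le_of_dvd Nat.card_pos heven.two_dvd
  have ht0 : 0 < t := by
    obtain ⟨s, hs⟩ := exists_prime_orderOf_dvd_card' 2 heven.two_dvd
    rw [← ht]
    have : Nonempty {x : G // orderOf x = 2} := ⟨⟨s, hs⟩⟩
    exact Nat.card_pos
  have htq : (0 : ℚ) < t := by exact_mod_cast ht0
  have htN : t ≤ ∑ χ ∈ R, e χ := by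
    have : (t : ℝ) ≤ ((∑ χ ∈ R, e χ : ℕ) : ℝ) := by push_cast; exact htR
    exact_mod_cast this
  set α : ℚ := ((Nat.card G : ℚ) - 1) / t with hα
  constructor
  · by_contra hcon
    push Not at hcon
    -- many classes
    have hk : R.card + 1 ≤ Nat.card (ConjClasses G) := by
      rw [← CfsgLib.Char.card_irr_eq_card_conjClasses, Nat.card_eq_fintype_card]
      calc R.card + 1 ≤ (Finset.univ.erase (CfsgLib.Char.irrOne (G := G))).card + 1 :=
            Nat.add_le_add_right (Finset.card_le_card fun χ hχ =>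
              Finset.mem_erase.mpr ⟨(Finset.mem_filter.mp hχ).2.2, Finset.mem_univ _⟩) 1
        _ = _ := by rw [Finset.card_erase_add_one (Finset.mem_univ _), Finset.card_univ]
    have hcs : t * t ≤ R.card * ∑ χ ∈ R, e χ * e χ := by
      refine le_trans (Nat.mul_le_mul htN htN) ?_
      have := sq_sum_le_card_mul_sum_sq (s := R) (f := e)
      simpa [sq] using this
    have hpairs : ∑ x : G, Nat.card (Subgroup.centralizer ({x} : Set G)) =
        Nat.card (ConjClasses G) * Nat.card G := by
      rw [← card_comm_eq_card_conjClasses_mul_card, ← Nat.card_sigma]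
      refine Nat.card_congr ((Equiv.subtypeProdEquivSigmaSubtype (fun a b : G => Commute a b)).trans
        (Equiv.sigmaCongrRight fun x => Equiv.subtypeEquivRight fun y => ?_)).symm
      rw [Subgroup.mem_centralizer_singleton_iff]
      exact ⟨fun h => h.symm, fun h => h.symm⟩
    set g : ℕ := Nat.card G with hg
    set k : ℕ := Nat.card (ConjClasses G)
    have hx : ∀ x : G, x ≠ 1 →
        (Nat.card (Subgroup.centralizer ({x} : Set G)) : ℚ) * α ^ 2 ≤ g := by
      intro x hx1
      have h := hcon x hx1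
      have h2 : (Nat.card (Subgroup.centralizer ({x} : Set G)) : ℚ) *
          ((Subgroup.centralizer ({x} : Set G)).index : ℚ) = g := by
        exact_mod_cast (Subgroup.centralizer ({x} : Set G)).card_mul_index
      rw [← h2]
      exact mul_le_mul_of_nonneg_left h.le (Nat.cast_nonneg _)
    obtain ⟨x₀, hx₀⟩ := exists_prime_orderOf_dvd_card' 2 heven.two_dvd
    have hx01 : x₀ ≠ 1 := fun h => by rw [h, orderOf_one] at hx₀; omega
    have hx0 : (Nat.card (Subgroup.centralizer ({x₀} : Set G)) : ℚ) * α ^ 2 < g := by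
      have h2 : (Nat.card (Subgroup.centralizer ({x₀} : Set G)) : ℚ) *
          ((Subgroup.centralizer ({x₀} : Set G)).index : ℚ) = g := by
        exact_mod_cast (Subgroup.centralizer ({x₀} : Set G)).card_mul_index
      rw [← h2]
      exact mul_lt_mul_of_pos_left (hcon x₀ hx01) (by exact_mod_cast Nat.card_pos)
    have hbig : ((∑ x ∈ Finset.univ.erase (1 : G),
        Nat.card (Subgroup.centralizer ({x} : Set G)) : ℕ) : ℚ) * α ^ 2 < ((g : ℚ) - 1) * g := by
      push_cast
      rw [Finset.sum_mul]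
      have hc : ((g : ℚ) - 1) * g = ∑ _x ∈ Finset.univ.erase (1 : G), (g : ℚ) := by
        rw [Finset.sum_const, Finset.card_erase_of_mem (Finset.mem_univ _), nsmul_eq_mul,
          Finset.card_univ, ← Nat.card_eq_fintype_card, ← hg, Nat.cast_sub (by omega), Nat.cast_one]
      rw [hc]
      exact Finset.sum_lt_sum (fun x hx' => hx x (Finset.mem_erase.mp hx').1)
        ⟨x₀, Finset.mem_erase.mpr ⟨hx01, Finset.mem_univ _⟩, hx0⟩
    have hC1 : Nat.card (Subgroup.centralizer ({1} : Set G)) = g := by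
      have : Subgroup.centralizer ({1} : Set G) = ⊤ :=
        eq_top_iff.mpr fun x _ => Subgroup.mem_centralizer_singleton_iff.mpr (by simp)
      rw [this, Subgroup.card_top]
    rw [← Finset.add_sum_erase _ _ (Finset.mem_univ (1 : G)), hC1] at hpairs
    have hp : ((g : ℚ) + (∑ x ∈ Finset.univ.erase (1 : G),
        Nat.card (Subgroup.centralizer ({x} : Set G)) : ℕ)) = (k : ℚ) * g := by
      exact_mod_cast hpairs
    have h1 : ((k : ℚ) - 1) * g * α ^ 2 < ((g : ℚ) - 1) * g := by
      rw [show ((k : ℚ) - 1) * g = (∑ x ∈ Finset.univ.erase (1 : G),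
        Nat.card (Subgroup.centralizer ({x} : Set G)) : ℕ) by linear_combination -hp]
      exact hbig
    have h2 : ((k : ℚ) - 1) * α ^ 2 < (g : ℚ) - 1 := by
      have : (0 : ℚ) < g := by exact_mod_cast Nat.card_pos
      nlinarith
    have h3 : (t : ℚ) * t ≤ ((k : ℚ) - 1) * ((g : ℚ) - 1) := by
      have ha : (R.card : ℚ) + 1 ≤ k := by exact_mod_cast hk
      have hb : ((∑ χ ∈ R, e χ * e χ : ℕ) : ℚ) + 1 ≤ g := by exact_mod_cast hsq
      calc (t : ℚ) * t ≤ (R.card : ℚ) * ((∑ χ ∈ R, e χ * e χ : ℕ) : ℚ) := by exact_mod_cast hcs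
        _ ≤ _ := mul_le_mul (by linarith) (by linarith) (Nat.cast_nonneg _)
            (le_trans (Nat.cast_nonneg R.card) (by linarith))
    have h4 : α * t = (g : ℚ) - 1 := by rw [hα]; field_simp
    have h5 : (1 : ℚ) ≤ (g : ℚ) - 1 := by
      have : (2 : ℚ) ≤ g := by exact_mod_cast hg2
      linarith
    nlinarith [mul_le_mul_of_nonneg_right h3 (sq_nonneg α)]
  · by_contra hcon
    push Not at hcon
    have hR1 : ∀ χ ∈ R, α < e χ := by
      intro χ hχ
      obtain ⟨hr, h1⟩ := (Finset.mem_filter.mp hχ).2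
      have h := hcon χ (fun h => h1 (Subtype.ext h)) fun g => Complex.conj_eq_iff_im.mp (hr g)
      rwa [Cfsg.charDegree, he, Complex.natCast_re, Nat.floor_natCast] at h
    have hne : R.Nonempty := by
      by_contra h
      rw [Finset.not_nonempty_iff_eq_empty] at h
      rw [h, Finset.sum_empty] at htN
      omega
    have hlt : α * ∑ χ ∈ R, (e χ : ℚ) < ∑ χ ∈ R, (e χ : ℚ) * e χ := by
      rw [Finset.mul_sum]
      exact Finset.sum_lt_sum_of_nonempty hne fun χ hχ =>
        mul_lt_mul_of_pos_right (hR1 χ hχ) (by exact_mod_cast he0 χ)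
    have hb : (∑ χ ∈ R, (e χ : ℚ) * e χ) + 1 ≤ Nat.card G := by exact_mod_cast hsq
    have h4 : α * t = (Nat.card G : ℚ) - 1 := by rw [hα]; field_simp
    have h6 : (t : ℚ) ≤ ∑ χ ∈ R, (e χ : ℚ) := by exact_mod_cast htN
    have h7 : 0 ≤ α := by
      rw [hα]
      have : (2 : ℚ) ≤ Nat.card G := by exact_mod_cast hg2
      exact div_nonneg (by linarith) htq.le
    nlinarith [mul_le_mul_of_nonneg_left h6 h7]

end Cfsg.Agent.S4476
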