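import Cfsg.Statements.S4477
import Cfsg.Agent.Lib.CharBlocks.Indicator
import Mathlib.GroupTheory.Nilpotent
import Cfsg.Agent.Lib.Char.EqualCentralizers
import Cfsg.Agent.Lib.Char.Extension
import Cfsg.Agent.Lib.CharNormal.Gallagher

set_option autoImplicit false
open Cfsg

namespace Cfsg.Agent.S4477

open CfsgLib.Char CfsgLib.CharBlocks CfsgLib.CharNormal
open scoped ComplexConjugate

universe u

variable {G : Type u} [Group G] [Fintype G]

/-- The product of an irreducible character with a linear one. -/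
noncomputable def tw (f : G →* ℂˣ) (χ : Cfsg.IrrCharacter G) : Cfsg.IrrCharacter G :=
  ⟨(χ : G → ℂ) * linFun f, isIrr_mul_linear χ.2 (isCharacter_linFun f).1 (isCharacter_linFun f).2⟩

theorem tw_apply (f : G →* ℂˣ) (χ : Cfsg.IrrCharacter G) (g : G) :
    (tw f χ : G → ℂ) g = (χ : G → ℂ) g * (f g : ℂ) := rfl

theorem tw_one (χ : Cfsg.IrrCharacter G) : tw 1 χ = χ :=
  Subtype.ext (funext fun g => by rw [tw_apply]; simp)

theorem tw_mul (f f' : G →* ℂˣ) (χ : Cfsg.IrrCharacter G) : tw (f * f') χ = tw f (tw f' χ) :=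
  Subtype.ext (funext fun g => by
    simp only [tw_apply, MonoidHom.mul_apply, Units.val_mul]; ring)

theorem conj_hom (f : G →* ℂˣ) (g : G) : conj (f g : ℂ) = ((f g)⁻¹ : ℂˣ) := by
  have h := char_inv (isCharacter_of_isIrr (isIrrCharacter_units_hom f)) g
  rw [← h, map_inv]

/-- The stabilizer of a character among the linear characters is small. -/
theorem card_le_of_fixed (χ : Cfsg.IrrCharacter G) {d : ℕ} (hd : (χ : G → ℂ) 1 = d)
    (S : Subgroup (G →* ℂˣ)) [Fintype S] (h : ∀ f ∈ S, tw f χ = χ) :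
    Fintype.card S ≤ d * d := by
  classical
  refine EqualCentralizers.card_le_degree
    (Θ := (χ : G → ℂ) * fun g => conj ((χ : G → ℂ) g))
    (isCharacter_mul (isCharacter_of_isIrr χ.2) (isCharacter_conj (isCharacter_of_isIrr χ.2)))
    (by simp [hd]) (fun f => ⟨linFun f.1, isIrrCharacter_units_hom f.1⟩)
    (fun f f' e => Subtype.ext (linFun_injective (congrArg Subtype.val e))) fun f => ?_
  have h1 : Cfsg.classInner ((χ : G → ℂ) * fun g => conj ((χ : G → ℂ) g)) (linFun f.1) =
      Cfsg.classInner (χ : G → ℂ) (tw f.1 χ : G → ℂ) := by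
    rw [classInner_def, classInner_def]
    congr 1
    refine Finset.sum_congr rfl fun g _ => ?_
    rw [tw_apply, map_mul, linFun_apply, Pi.mul_apply]
    ring
  show Cfsg.classInner _ (linFun f.1) ≠ 0
  rw [h1, h f.1 f.2, classInner_irr_self χ.2]
  exact one_ne_zero

theorem isCyclic_of_few (hG : IsPGroup 2 G)
    (h : Nat.card {f : G →* ℂˣ // f ^ 2 = 1} ≤ 2) [Finite (G →* ℂˣ)] : IsCyclic G := by
  classical
  have : Fact (Nat.Prime 2) := ⟨Nat.prime_two⟩
  have := hG.isNilpotent
  obtain ⟨k, hk⟩ := IsPGroup.iff_card.mp hG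
  by_contra hc
  -- a maximal subgroup has index two
  have hidx : ∀ M : Subgroup G, IsCoatom M → M.index = 2 := by
    intro M hM
    obtain ⟨n, hn⟩ := IsPGroup.iff_card.mp (hG.to_subgroup M)
    have hlt : n < k := by
      by_contra hle
      push Not at hle
      refine hM.1 (Subgroup.eq_top_of_le_card M ?_)
      rw [hk, hn]
      exact Nat.pow_le_pow_right two_pos hle
    obtain ⟨K, hK, hMK⟩ := Sylow.exists_subgroup_card_pow_succ
      (hk ▸ pow_dvd_pow 2 (Nat.succ_le_of_lt hlt)) hn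
    have hK' : K = ⊤ := hM.2 K (lt_of_le_of_ne hMK fun e => by
      rw [e, hK] at hn
      exact absurd (Nat.pow_right_injective le_rfl hn) (Nat.succ_ne_self n))
    rw [hK', Subgroup.card_top] at hK
    have h1 := M.index_mul_card
    rw [hn, hK, pow_succ] at h1
    exact Nat.eq_of_mul_eq_mul_right (pow_pos two_pos n) (h1.trans (mul_comm _ _))
  -- the sign homomorphism
  have hsign : ∀ M : Subgroup G, M.index = 2 →
      ∃ f : G →* ℂˣ, f ^ 2 = 1 ∧ ∀ g, f g = 1 ↔ g ∈ M := by
    intro M hM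
    have hne : (-1 : ℂˣ) ≠ 1 := fun e => by
      have := congrArg Units.val e
      norm_num at this
    refine ⟨MonoidHom.mk' (fun g => if g ∈ M then 1 else -1) fun a b => ?_, ?_, fun g => ?_⟩
    · show (if a * b ∈ M then (1 : ℂˣ) else -1) = _
      by_cases ha : a ∈ M <;> by_cases hb : b ∈ M <;>
        simp [Subgroup.mul_mem_iff_of_index_two hM, ha, hb]
    · ext g
      simp only [MonoidHom.pow_apply, MonoidHom.one_apply, MonoidHom.mk'_apply]
      split_ifs <;> simp
    · simp only [MonoidHom.mk'_apply]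
      split_ifs with hg <;> simp [hg, hne]
  have hnt : (⊥ : Subgroup G) ≠ ⊤ := by
    intro e
    refine hc ⟨1, fun g => ?_⟩
    have : g ∈ (⊥ : Subgroup G) := e ▸ Subgroup.mem_top g
    rw [Subgroup.mem_bot.mp this]
    exact ⟨0, zpow_zero 1⟩
  obtain ⟨M, hM, -⟩ := (eq_top_or_exists_le_coatom (⊥ : Subgroup G)).resolve_left hnt
  obtain ⟨g, hgM⟩ : ∃ g, g ∉ M := by
    by_contra hall
    push Not at hall
    exact hM.1 (eq_top_iff.mpr fun g _ => hall g)
  obtain ⟨M', hM', hgM'⟩ := (eq_top_or_exists_le_coatom (Subgroup.zpowers g)).resolve_left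
    fun e => hc ⟨g, fun x => e.ge (Subgroup.mem_top x)⟩
  obtain ⟨f, hf2, hf⟩ := hsign M (hidx M hM)
  obtain ⟨f', hf2', hf'⟩ := hsign M' (hidx M' hM')
  have hgf : f' g = 1 := (hf' g).mpr (hgM' (Subgroup.mem_zpowers g))
  have hfg : f g ≠ 1 := fun e => hgM ((hf g).mp e)
  have hf'1 : f' ≠ 1 := fun e =>
    hM'.1 (eq_top_iff.mpr fun x _ => (hf' x).mp (by rw [e]; rfl))
  have hinj : Function.Injective (![⟨1, MonoidHom.ext fun x => by simp⟩, ⟨f, hf2⟩, ⟨f', hf2'⟩] :
      Fin 3 → {f : G →* ℂˣ // f ^ 2 = 1}) := by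
    intro i j hij
    fin_cases i <;> fin_cases j <;> simp at hij ⊢
    · exact hfg (by rw [← hij]; rfl)
    · exact hf'1 hij.symm
    · exact hfg (by rw [hij]; rfl)
    · exact hfg (by rw [hij, hgf])
    · exact hf'1 hij
    · exact hfg (by rw [← hij, hgf])
  have h3 := Nat.card_le_card_of_injective _ hinj
  rw [Nat.card_eq_fintype_card, Fintype.card_fin] at h3
  omega

theorem index_four (hG : IsPGroup 2 G) (ht : Nat.card {x : G // orderOf x = 2} % 4 = 1)
    (hc : ¬ IsCyclic G) : (commutator G).index = 4 := by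
  classical
  have : Fact (Nat.Prime 2) := ⟨Nat.prime_two⟩
  have hfin : Finite (G →* ℂˣ) :=
    Finite.of_injective (fun f : G →* ℂˣ => (⟨linFun f, isIrrCharacter_units_hom f⟩ :
      Cfsg.IrrCharacter G)) fun f f' e => linFun_injective (congrArg Subtype.val e)
  have := Fintype.ofFinite (G →* ℂˣ)
  obtain ⟨k, hk⟩ := IsPGroup.iff_card.mp hG
  have hpow : ∀ f : G →* ℂˣ, f ^ 2 ^ k = 1 := fun f => MonoidHom.ext fun g => by
    rw [MonoidHom.pow_apply, ← map_pow, ← hk, pow_card_eq_one', map_one]; rfl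
  let A : Subgroup (G →* ℂˣ) := (powMonoidHom 2).ker
  let B : Subgroup (G →* ℂˣ) := (powMonoidHom 4).ker
  have hA : ∀ f, f ∈ A ↔ f ^ 2 = 1 := fun f => by
    simp only [A, MonoidHom.mem_ker, powMonoidHom_apply]
  have hB : ∀ f, f ∈ B ↔ f ^ 4 = 1 := fun f => by
    simp only [B, MonoidHom.mem_ker, powMonoidHom_apply]
  have hA2 : IsPGroup 2 A := fun f => ⟨1, Subtype.ext ((hA f.1).mp f.2)⟩
  have hB2 : IsPGroup 2 B := fun f => ⟨2, Subtype.ext ((hB f.1).mp f.2)⟩
  have hAcard : Nat.card A = Nat.card {f : G →* ℂˣ // f ^ 2 = 1} :=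
    Nat.card_congr (Equiv.subtypeEquivRight hA)
  have hA4 : 4 ∣ Nat.card A := by
    obtain ⟨a, ha⟩ := IsPGroup.iff_card.mp hA2
    rw [ha]
    rcases lt_or_ge a 2 with h | h
    · refine absurd (isCyclic_of_few hG ?_) hc
      rw [← hAcard, ha]
      calc 2 ^ a ≤ 2 ^ 1 := Nat.pow_le_pow_right two_pos (by omega)
        _ = 2 := by norm_num
    · exact pow_dvd_pow 2 h
  -- degrees
  choose e he0 he using fun χ : Cfsg.IrrCharacter G => exists_degree_pos χ.2
  have he4 : ∀ χ, e χ = 1 ∨ e χ = 2 ∨ 4 ∣ e χ := by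
    intro χ
    have hdvd : e χ ∣ 2 ^ k := hk ▸ degree_dvd_card χ.2 (he χ)
    obtain ⟨i, -, hi⟩ := (Nat.dvd_prime_pow Nat.prime_two).mp hdvd
    match i, hi with
    | 0, hi => exact Or.inl (by simpa using hi)
    | 1, hi => exact Or.inr (Or.inl (by simpa using hi))
    | (j + 2), hi => exact Or.inr (Or.inr (by rw [hi]; exact pow_dvd_pow 2 (show 2 ≤ j + 2 by omega)))
  let Real' : Cfsg.IrrCharacter G → Prop := fun χ => ∀ g, conj ((χ : G → ℂ) g) = (χ : G → ℂ) g
  -- the real linear characters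
  let LinA : Finset (Cfsg.IrrCharacter G) := Finset.univ.filter fun χ => Real' χ ∧ e χ = 1
  let R2 : Finset (Cfsg.IrrCharacter G) := Finset.univ.filter fun χ => Real' χ ∧ e χ = 2
  have hLin : LinA.card = Nat.card A := by
    rw [Nat.card_eq_fintype_card, Fintype.card]
    symm
    refine Finset.card_bij (fun f _ => (⟨linFun f.1, isIrrCharacter_units_hom f.1⟩ :
      Cfsg.IrrCharacter G)) (fun f _ => ?_)
      (fun f _ f' _ h => Subtype.ext (linFun_injective (congrArg Subtype.val h))) fun χ hχ => ?_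
    · refine Finset.mem_filter.mpr ⟨Finset.mem_univ _, fun g => ?_, ?_⟩
      · show conj (f.1 g : ℂ) = (f.1 g : ℂ)
        rw [conj_hom]
        have h := DFunLike.congr_fun ((hA f.1).mp f.2) g
        rw [MonoidHom.pow_apply, MonoidHom.one_apply, sq] at h
        rw [inv_eq_of_mul_eq_one_right h]
      · have h := he ⟨linFun f.1, isIrrCharacter_units_hom f.1⟩
        change linFun f.1 1 = _ at h
        rw [(isCharacter_linFun f.1).2] at h
        exact_mod_cast h.symm
    · obtain ⟨hr, h1⟩ := (Finset.mem_filter.mp hχ).2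
      obtain ⟨f, hf⟩ := exists_linHom (isCharacter_of_isIrr χ.2) (by rw [he, h1, Nat.cast_one])
      refine ⟨⟨f, (hA f).mpr (MonoidHom.ext fun g => ?_)⟩, Finset.mem_univ _, Subtype.ext hf⟩
      have h := hr g
      rw [← hf] at h
      change conj (f g : ℂ) = (f g : ℂ) at h
      rw [conj_hom] at h
      rw [MonoidHom.pow_apply, MonoidHom.one_apply, sq]
      conv_lhs => arg 1; rw [← Units.ext h]
      exact inv_mul_cancel _
  -- counting square roots of one modulo four
  have hodd : R2.card % 2 = 1 := by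
    choose z hz using fun χ : Cfsg.IrrCharacter G => show ∃ z : ℤ,
        fsInd (χ : G → ℂ) * (χ : G → ℂ) 1 = (z : ℂ) ∧ ((z : ZMod 4) =
          (if Real' χ ∧ e χ = 1 then 1 else 0) + (if Real' χ ∧ e χ = 2 then 2 else 0)) by
      rcases fsInd_cases χ.2 with ⟨hr, hν⟩ | ⟨hr, hν⟩
      · have hr' : Real' χ := hr
        rcases he4 χ with h1 | h2 | h4
        · refine ⟨1, ?_, by simp [hr', h1]⟩
          have hlin : (χ : G → ℂ) 1 = 1 := by rw [he, h1, Nat.cast_one]
          have hsq : ∀ s, (χ : G → ℂ) (s * s) = 1 := fun s => by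
            rw [linear_map_mul (isCharacter_of_isIrr χ.2) hlin]
            have hi : (χ : G → ℂ) s⁻¹ = (χ : G → ℂ) s :=
              (char_inv (isCharacter_of_isIrr χ.2) s).trans (hr s)
            calc (χ : G → ℂ) s * (χ : G → ℂ) s = (χ : G → ℂ) s⁻¹ * (χ : G → ℂ) s := by rw [hi]
              _ = 1 := by rw [← linear_map_mul (isCharacter_of_isIrr χ.2) hlin, inv_mul_cancel, hlin]
          simp [fsInd, hsq, hlin, ← Nat.card_eq_fintype_card]
        · rcases hν with hν | hν
          · exact ⟨2, by rw [hν, he, h2]; norm_num, by simp [hr', h2]⟩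
          · exact ⟨-2, by rw [hν, he, h2]; norm_num, by simp [hr', h2]; decide⟩
        · have hne1 : e χ ≠ 1 := by omega
          have hne2 : e χ ≠ 2 := by omega
          have h0 : ((e χ : ℕ) : ZMod 4) = 0 := (ZMod.natCast_eq_zero_iff _ _).mpr h4
          rcases hν with hν | hν
          · exact ⟨e χ, by rw [hν, he, one_mul]; rfl, by simp [hne1, hne2, h0]⟩
          · exact ⟨-(e χ : ℤ), by rw [hν, he]; simp, by simp [hne1, hne2, h0]⟩
      · have hr' : ¬ Real' χ := hr
        exact ⟨0, by rw [hν, zero_mul, Int.cast_zero], by simp [hr']⟩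
    have hsum := sum_fsInd_mul (G := G) 1
    simp only [fun χ => (hz χ).1] at hsum
    rw [← Int.cast_sum, ← Int.cast_natCast (R := ℂ)
      (Finset.univ.filter fun s : G => s * s = 1).card] at hsum
    have h4 := congrArg (fun a : ℤ => (a : ZMod 4)) (Int.cast_injective hsum)
    simp only [Int.cast_sum, Int.cast_natCast, fun χ => (hz χ).2, Finset.sum_add_distrib] at h4
    rw [← Finset.sum_filter, ← Finset.sum_filter, Finset.sum_const, Finset.sum_const,
      nsmul_eq_mul, nsmul_eq_mul, mul_one] at h4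
    have hroot : (Finset.univ.filter fun s : G => s * s = 1).card =
        Nat.card {x : G // orderOf x = 2} + 1 := by
      rw [Nat.card_eq_fintype_card, Fintype.card_subtype,
        ← Finset.card_erase_add_one (s := Finset.univ.filter fun s : G => s * s = 1) (a := 1)
          (by simp)]
      congr 2
      ext s
      simp only [Finset.mem_erase, Finset.mem_filter, Finset.mem_univ, true_and]
      rw [orderOf_eq_prime_iff, sq]
      tauto
    change ((LinA.card : ℕ) : ZMod 4) + ((R2.card : ℕ) : ZMod 4) * 2 = _ at h4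
    rw [hroot, hLin] at h4
    have h5 : ((Nat.card A + R2.card * 2 : ℕ) : ZMod 4) =
        ((Nat.card {x : G // orderOf x = 2} + 1 : ℕ) : ZMod 4) := by
      push_cast at h4 ⊢; exact h4
    rw [ZMod.natCast_eq_natCast_iff'] at h5
    obtain ⟨a, ha⟩ := hA4
    omega
  -- the action of `A`
  have hreal : ∀ f : G →* ℂˣ, f ^ 2 = 1 → ∀ χ ∈ R2, tw f χ ∈ R2 := by
    intro f hf χ hχ
    obtain ⟨hr, h2⟩ := (Finset.mem_filter.mp hχ).2
    refine Finset.mem_filter.mpr ⟨Finset.mem_univ _, fun g => ?_, ?_⟩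
    · have h := DFunLike.congr_fun hf g
      rw [MonoidHom.pow_apply, MonoidHom.one_apply, sq] at h
      rw [tw_apply, map_mul, hr, conj_hom, inv_eq_of_mul_eq_one_right h]
    · have h := he (tw f χ)
      rw [tw_apply, he, map_one, Units.val_one, mul_one, h2] at h
      exact_mod_cast h.symm
  let : MulAction A {χ // χ ∈ R2} :=
    { smul := fun f χ => ⟨tw f.1 χ.1, hreal _ ((hA f.1).mp f.2) _ χ.2⟩
      one_smul := fun χ => Subtype.ext (tw_one χ.1)
      mul_smul := fun f f' χ => Subtype.ext (tw_mul f.1 f'.1 χ.1) }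
  have hfix := hA2.card_modEq_card_fixedPoints {χ // χ ∈ R2}
  rw [Nat.card_eq_fintype_card (α := {χ // χ ∈ R2}), Fintype.card_coe] at hfix
  let F : Finset (Cfsg.IrrCharacter G) := R2.filter fun χ => ∀ f ∈ A, tw f χ = χ
  have hF : F.card % 2 = 1 := by
    have e1 : Nat.card (MulAction.fixedPoints A {χ // χ ∈ R2}) = F.card := by
      rw [← Nat.card_eq_finsetCard]
      refine Nat.card_congr
        { toFun := fun χ => ⟨χ.1.1, Finset.mem_filter.mpr ⟨χ.1.2, fun f hf =>
            congrArg Subtype.val (χ.2 ⟨f, hf⟩)⟩⟩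
          invFun := fun χ => ⟨⟨χ.1, (Finset.mem_filter.mp χ.2).1⟩, fun f =>
            Subtype.ext ((Finset.mem_filter.mp χ.2).2 f.1 f.2)⟩
          left_inv := fun χ => rfl
          right_inv := fun χ => rfl }
    rw [e1] at hfix
    unfold Nat.ModEq at hfix
    omega
  have hBF : ∀ f ∈ B, ∀ χ ∈ F, tw f χ ∈ F := by
    intro f hf χ hχ
    obtain ⟨hχ2, hfix'⟩ := Finset.mem_filter.mp hχ
    obtain ⟨hr, h2⟩ := (Finset.mem_filter.mp hχ2).2
    have hf2 : f⁻¹ * f⁻¹ ∈ A := (hA _).mpr (MonoidHom.ext fun g => by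
      have h := DFunLike.congr_fun ((hB f).mp hf) g
      rw [MonoidHom.pow_apply, MonoidHom.one_apply] at h ⊢
      rw [MonoidHom.mul_apply, MonoidHom.inv_apply, ← mul_inv, ← pow_two, inv_pow, ← pow_mul, h,
        inv_one])
    refine Finset.mem_filter.mpr ⟨Finset.mem_filter.mpr ⟨Finset.mem_univ _, fun g => ?_, ?_⟩,
      fun a ha => ?_⟩
    · have h := congrFun (congrArg Subtype.val (hfix' _ hf2)) g
      rw [tw_apply] at h
      simp only [MonoidHom.mul_apply, MonoidHom.inv_apply, Units.val_mul] at h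
      rw [tw_apply, map_mul, hr, conj_hom]
      have hu : (((f g)⁻¹ : ℂˣ) : ℂ) * (f g : ℂ) = 1 := Units.inv_mul _
      linear_combination (f g : ℂ) * h - (χ : G → ℂ) g * (((f g)⁻¹ : ℂˣ) : ℂ) * hu
    · have h := he (tw f χ)
      rw [tw_apply, he, map_one, Units.val_one, mul_one, h2] at h
      exact_mod_cast h.symm
    · rw [← tw_mul, show a * f = f * a from mul_comm a f, tw_mul, hfix' a ha]
  let : MulAction B {χ // χ ∈ F} :=
    { smul := fun f χ => ⟨tw f.1 χ.1, hBF _ f.2 _ χ.2⟩
      one_smul := fun χ => Subtype.ext (tw_one χ.1)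
      mul_smul := fun f f' χ => Subtype.ext (tw_mul f.1 f'.1 χ.1) }
  have hfixB := hB2.card_modEq_card_fixedPoints {χ // χ ∈ F}
  rw [Nat.card_eq_fintype_card (α := {χ // χ ∈ F}), Fintype.card_coe] at hfixB
  obtain ⟨⟨⟨χ, hχ⟩, hχfix⟩⟩ : Nonempty (MulAction.fixedPoints B {χ // χ ∈ F}) := by
    refine (Nat.card_pos_iff.mp ?_).1
    unfold Nat.ModEq at hfixB
    omega
  obtain ⟨-, hχ2⟩ := (Finset.mem_filter.mp (Finset.mem_filter.mp hχ).1).2
  have hB4 := card_le_of_fixed χ (by rw [he χ, hχ2]) B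
    fun f hf => congrArg Subtype.val (hχfix ⟨f, hf⟩)
  rw [← Nat.card_eq_fintype_card] at hB4
  have hAB : A ≤ B := fun f hf => (hB f).mpr (by
    refine MonoidHom.ext fun g => ?_
    have h := DFunLike.congr_fun ((hA f).mp hf) g
    rw [MonoidHom.pow_apply, MonoidHom.one_apply] at h ⊢
    rw [show 4 = 2 * 2 from rfl, pow_mul, h, one_pow])
  have hA0 : 0 < Nat.card A := Nat.card_pos
  obtain ⟨a, ha⟩ := hA4
  have hle := Subgroup.card_le_of_le hAB
  have heq : A = B := Subgroup.eq_of_le_of_card_ge hAB (by omega)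
  have hall : ∀ i : ℕ, ∀ f : G →* ℂˣ, f ^ 2 ^ i = 1 → f ∈ A := by
    intro i
    induction i with
    | zero =>
      intro f hf
      rw [pow_zero, pow_one] at hf
      rw [hf]; exact one_mem _
    | succ i ih =>
      intro f hf
      have h := ih (f ^ 2) (by rw [← pow_mul, ← pow_succ', hf])
      rw [hA, ← pow_mul] at h
      rw [heq]
      exact (hB f).mpr h
  rw [← card_linear]
  have e : {χ : Cfsg.IrrCharacter G // (χ : G → ℂ) 1 = 1} ≃ A :=
    { toFun := fun χ => ⟨linearHom (isCharacter_of_isIrr χ.1.2) χ.2, hall k _ (hpow _)⟩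
      invFun := fun f => ⟨⟨linFun f.1, isIrrCharacter_units_hom f.1⟩, (isCharacter_linFun f.1).2⟩
      left_inv := fun χ => rfl
      right_inv := fun f => Subtype.ext (MonoidHom.ext fun g => Units.ext rfl) }
  rw [Nat.card_congr e]
  omega


/-- Let G be a finite 2-group whose number of involutions is congruent to 1 modulo 4. Then G is cyclic or its commutator subgroup has index 4. -/
theorem result {G : Type*} [Group G] [Finite G] (hG : IsPGroup 2 G) (ht : Nat.card {x : G // orderOf x = 2} % 4 = 1) : IsCyclic G ∨ (commutator G).index = 4 := by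
  classical
  have := Fintype.ofFinite G
  by_cases hc : IsCyclic G
  · exact Or.inl hc
  exact Or.inr (index_four hG ht hc)

end Cfsg.Agent.S4477
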