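import Cfsg.Statements.S4478
import Cfsg.Agent.Lib.CharBlocks.Indicator
import Cfsg.Agent.Lib.Char.DefectZero

set_option autoImplicit false
open Cfsg

namespace Cfsg.Agent.S4478

/-- Let G be a finite group of even order and χ an irreducible character of G whose degree x is divisible by the full power of 2 dividing the order of G and, for every odd prime p such that G has an element of order 2p, by the full power of p dividing the order of G. Then all involutions of G are conjugate, the centralizer of every involution has order exactly x with x coprime to its index, and the Frobenius–Schur indicator of χ equals 1. -/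
theorem result {G : Type*} [Group G] [Fintype G] (heven : Even (Nat.card G)) (χ : Cfsg.IrrCharacter G) (h2 : 2 ^ (Nat.card G).factorization 2 ∣ Cfsg.charDegree (χ : G → ℂ)) (hp : ∀ p : ℕ, p.Prime → p ≠ 2 → (∃ g : G, orderOf g = 2 * p) → p ^ (Nat.card G).factorization p ∣ Cfsg.charDegree (χ : G → ℂ)) : (∀ s t : G, orderOf s = 2 → orderOf t = 2 → IsConj s t) ∧ (∀ s : G, orderOf s = 2 → Nat.card (Subgroup.centralizer ({s} : Set G)) = Cfsg.charDegree (χ : G → ℂ) ∧ (Nat.card (Subgroup.centralizer ({s} : Set G))).Coprime (Subgroup.centralizer ({s} : Set G)).index) ∧ (Nat.card G : ℂ)⁻¹ * ∑ g : G, (χ : G → ℂ) (g * g) = 1 := by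
  classical
  obtain ⟨χ, hχ⟩ := χ
  set g : ℕ := Nat.card G with hg
  set d : ℕ := Cfsg.charDegree χ with hd'
  obtain ⟨d0, hd00, hd0⟩ := CfsgLib.Char.exists_degree_pos hχ
  have hdd : d = d0 := by rw [hd', Cfsg.charDegree, hd0, Complex.natCast_re, Nat.floor_natCast]
  subst hdd
  have hg0 : g ≠ 0 := Nat.card_pos.ne'
  have hvan : ∀ q : ℕ, q.Prime → q ^ g.factorization q ∣ d → ∀ x : G, q ∣ orderOf x → χ x = 0 :=
    fun q hq hqd x hx => CfsgLib.Char.vanish_of_defect_zero hχ hq (Nat.ordProj_dvd g q)
      (Nat.pow_succ_factorization_not_dvd hg0 hq) hd0 hqd hx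
  -- elements with an involution in the centralizer
  have hcomm : ∀ i y : G, orderOf i = 2 → Commute i y → y ≠ 1 → χ y = 0 := by
    intro i y hi hiy hy
    obtain ⟨q, hq, hqy⟩ := Nat.exists_prime_and_dvd (fun h => hy (orderOf_eq_one_iff.mp h))
    by_cases hq2 : q = 2
    · exact hvan q hq (hq2 ▸ h2) y hqy
    refine hvan q hq (hp q hq hq2 ⟨i * y ^ (orderOf y / q), ?_⟩) y hqy
    have ho : orderOf (y ^ (orderOf y / q)) = q := by
      rw [orderOf_pow_orderOf_div (orderOf_pos y).ne' hqy]
    rw [(hiy.pow_right _).orderOf_mul_eq_mul_orderOf_of_coprime (by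
      rw [hi, ho]; exact (Nat.coprime_primes Nat.prime_two hq).mpr (Ne.symm hq2)), hi, ho]
  have hsqrt : ∀ y : G, y ≠ 1 → χ y ≠ 0 →
      (Finset.univ.filter fun s : G => s * s = y).card = 1 := by
    intro y hy hy0
    have hodd : ¬ 2 ∣ orderOf y := fun h => hy0 (hvan 2 Nat.prime_two h2 y h)
    obtain ⟨m, hm⟩ : Odd (orderOf y) := Nat.not_even_iff_odd.mp fun h => hodd h.two_dvd
    rw [Finset.card_eq_one]
    refine ⟨y ^ (m + 1), Finset.ext fun s => ?_⟩
    simp only [Finset.mem_filter, Finset.mem_univ, true_and, Finset.mem_singleton]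
    constructor
    · intro hs
      have hs2 : s ^ 2 = y := by rw [sq]; exact hs
      by_cases hi : s ^ (2 * m + 1) = 1
      · calc s = s ^ (2 * m + 1) * s := by rw [hi, one_mul]
          _ = y ^ (m + 1) := by rw [← hs2, ← pow_mul, ← pow_succ]; congr 1
      · refine absurd (hcomm (s ^ (2 * m + 1)) y (orderOf_eq_prime ?_ hi) ?_ hy) hy0
        · rw [← pow_mul, mul_comm, pow_mul, hs2, ← hm, pow_orderOf_eq_one]
        · rw [← hs2]; exact (Commute.refl s).pow_pow _ _
    · rintro rfl
      rw [← pow_add, show (m + 1) + (m + 1) = (2 * m + 1) + 1 by omega, ← hm, pow_succ,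
        pow_orderOf_eq_one, one_mul]
  have h2g : 2 ∣ g := heven.two_dvd
  have hd2 : 2 ∣ d := (dvd_pow_self 2 (by
    have := (Nat.prime_two.dvd_iff_one_le_factorization hg0).mp h2g
    omega)).trans h2
  set t : ℕ := (Finset.univ.filter fun s : G => orderOf s = 2).card with ht
  have hroot1 : (Finset.univ.filter fun s : G => s * s = 1).card = t + 1 := by
    rw [ht, ← Finset.card_erase_add_one (s := Finset.univ.filter fun s : G => s * s = 1) (a := 1)
        (by simp)]
    congr 2
    ext s
    simp only [Finset.mem_erase, Finset.mem_filter, Finset.mem_univ, true_and]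
    rw [orderOf_eq_prime_iff, sq]
    tauto
  have hsum : ∑ s : G, χ (s * s) = (t : ℂ) * d := by
    rw [← Finset.sum_fiberwise Finset.univ (fun s : G => s * s) (fun s => χ (s * s)),
      Finset.sum_congr rfl (g := fun y => χ y + if y = 1 then (t : ℂ) * d else 0) fun y _ => ?_,
      Finset.sum_add_distrib, Finset.sum_ite_eq', if_pos (Finset.mem_univ _)]
    · have h0 : ∑ y : G, χ y = 0 := by
        have h := CfsgLib.Char.card_mul_classInner χ (fun _ => 1)
        rw [CfsgLib.Char.classInner_irr_ne hχ CfsgLib.Char.isIrrCharacter_one (fun e => by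
          rw [e] at hd0
          have : d = 1 := by simpa using hd0.symm
          omega), mul_zero] at h
        simpa using h.symm
      rw [h0, zero_add]
    rw [Finset.sum_congr rfl (g := fun _ => χ y) fun s hs => by rw [(Finset.mem_filter.mp hs).2],
      Finset.sum_const, nsmul_eq_mul]
    by_cases hy : y = 1
    · subst hy
      rw [if_pos rfl, hroot1, hd0]
      push_cast
      ring
    · rw [if_neg hy, add_zero]
      by_cases hy0 : χ y = 0
      · rw [hy0, mul_zero]
      · rw [hsqrt y hy hy0, Nat.cast_one, one_mul]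
  obtain ⟨s0, hs0⟩ := exists_prime_orderOf_dvd_card' 2 h2g
  have ht0 : 0 < t := Finset.card_pos.mpr ⟨s0, Finset.mem_filter.mpr ⟨Finset.mem_univ _, hs0⟩⟩
  have hgC : (g : ℂ) ≠ 0 := by exact_mod_cast hg0
  have hν : CfsgLib.CharBlocks.fsInd χ = 1 := by
    have h0 : CfsgLib.CharBlocks.fsInd χ = (g : ℂ)⁻¹ * ((t : ℂ) * d) := by
      rw [CfsgLib.CharBlocks.fsInd, hsum]
    rcases CfsgLib.CharBlocks.fsInd_cases hχ with ⟨-, h | h⟩ | ⟨-, h⟩
    · exact h
    all_goals
      rw [h] at h0
      field_simp at h0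
    · have h1 : ((t * d + g : ℕ) : ℂ) = ((0 : ℕ) : ℂ) := by push_cast; linear_combination -h0
      have := Nat.cast_injective h1
      omega
    · have h1 : ((t * d : ℕ) : ℂ) = ((0 : ℕ) : ℂ) := by push_cast; linear_combination -h0
      have := Nat.cast_injective h1
      rcases mul_eq_zero.mp this with e | e <;> omega
  have htd : t * d = g := by
    have h := hν
    rw [CfsgLib.CharBlocks.fsInd, hsum] at h
    field_simp at h
    exact_mod_cast h
  have hCd : ∀ s : G, orderOf s = 2 → Nat.card (Subgroup.centralizer ({s} : Set G)) ∣ d := by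
    intro s hs
    refine (Nat.dvd_iff_prime_pow_dvd_dvd _ _).mpr fun q k hq hqk => ?_
    rcases Nat.eq_zero_or_pos k with rfl | hk
    · simp
    have hle : q ^ k ∣ q ^ g.factorization q :=
      pow_dvd_pow q ((hq.pow_dvd_iff_le_factorization hg0).mp
        (hqk.trans (Subgroup.card_subgroup_dvd_card _)))
    refine hle.trans ?_
    by_cases hq2 : q = 2
    · exact hq2 ▸ h2
    have := Fact.mk hq
    obtain ⟨⟨z, hz⟩, hzo⟩ := exists_prime_orderOf_dvd_card' q ((dvd_pow_self q hk.ne').trans hqk)
    rw [Subgroup.orderOf_mk] at hzo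
    refine hp q hq hq2 ⟨s * z, ?_⟩
    rw [(show Commute s z from (Subgroup.mem_centralizer_singleton_iff.mp hz).symm).orderOf_mul_eq_mul_orderOf_of_coprime (by
      rw [hs, hzo]; exact (Nat.coprime_primes Nat.prime_two hq).mpr (Ne.symm hq2)), hs, hzo]
  have hkey : ∀ s : G, orderOf s = 2 →
      Nat.card (Subgroup.centralizer ({s} : Set G)) = d ∧ ∀ u, orderOf u = 2 → IsConj s u := by
    intro s hs
    have hsub : (Finset.univ.filter fun u : G => IsConj s u) ⊆
        Finset.univ.filter fun u : G => orderOf u = 2 := by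
      intro u hu
      obtain ⟨c, rfl⟩ := isConj_iff.mp (Finset.mem_filter.mp hu).2
      exact Finset.mem_filter.mpr ⟨Finset.mem_univ _, ((MulAut.conj c).orderOf_eq s).trans hs⟩
    have hc := CfsgLib.Char.card_isConj_mul_card_centralizer s
    rw [Nat.card_eq_fintype_card (α := {u // IsConj s u}), Fintype.card_subtype, ← hg] at hc
    have hle : Nat.card (Subgroup.centralizer ({s} : Set G)) ≤ d := Nat.le_of_dvd hd00 (hCd s hs)
    have hle' := Finset.card_le_card hsub
    have hc0 : 0 < Nat.card (Subgroup.centralizer ({s} : Set G)) := Nat.card_pos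
    rw [← ht] at hle'
    have h1 : (Finset.univ.filter fun u : G => IsConj s u).card = t := by
      by_contra hne
      have := Nat.mul_lt_mul_of_lt_of_le (lt_of_le_of_ne hle' hne) hle hd00
      omega
    rw [h1, ← htd] at hc
    refine ⟨Nat.eq_of_mul_eq_mul_left ht0 hc, fun u hu => ?_⟩
    have := Finset.eq_of_subset_of_card_le hsub (by rw [h1, ht])
    have hu' : u ∈ Finset.univ.filter fun u : G => orderOf u = 2 :=
      Finset.mem_filter.mpr ⟨Finset.mem_univ _, hu⟩
    rw [← this] at hu'
    exact (Finset.mem_filter.mp hu').2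
  refine ⟨fun s u hs hu => (hkey s hs).2 u hu, fun s hs => ⟨(hkey s hs).1, ?_⟩, hν⟩
  refine Nat.coprime_of_dvd fun q hq hqc hqi => ?_
  have hd := (hkey s hs).1
  have hqd : q ^ g.factorization q ∣ d := by
    by_cases hq2 : q = 2
    · exact hq2 ▸ h2
    have := Fact.mk hq
    obtain ⟨⟨z, hz⟩, hzo⟩ := exists_prime_orderOf_dvd_card' q hqc
    rw [Subgroup.orderOf_mk] at hzo
    refine hp q hq hq2 ⟨s * z, ?_⟩
    rw [(show Commute s z from (Subgroup.mem_centralizer_singleton_iff.mp hz).symm).orderOf_mul_eq_mul_orderOf_of_coprime (by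
      rw [hs, hzo]; exact (Nat.coprime_primes Nat.prime_two hq).mpr (Ne.symm hq2)), hs, hzo]
  refine Nat.pow_succ_factorization_not_dvd hg0 hq ?_
  have h := Nat.mul_dvd_mul (hd.symm ▸ hqd :
    q ^ g.factorization q ∣ Nat.card (Subgroup.centralizer ({s} : Set G))) hqi
  rw [Subgroup.card_mul_index, ← hg] at h
  rw [pow_succ]
  exact h

end Cfsg.Agent.S4478
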