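import Cfsg.Statements.S4480
import Cfsg.Agent.Lib.Blocks.KleinFormula
-- import your own Cfsg.Agent.* helpers here

set_option autoImplicit false
open Cfsg

namespace Cfsg.Agent.S4480

/-- Same setting as the Klein-four order formula: G of order 4·g₀ (g₀ odd) with no normal 2-complement, P a Sylow 2-subgroup, J an involution of P, M over 2, principal 2-block {1, χ₁, χ₂, χ₃} with χ_i(J) = ε_i = ±1. Suppose ε₁ε₂ε₃ = −1 and ε₃ = −1, and put q = x₃ = χ₃(1). Then there is a natural number m with 4·c(J) = m·c(P)·(q + 1), and the order of G equals (m³·c(P)/4)·(q³ − q)/2, that is 8·#G = m³·c(P)·(q³ − q). -/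
theorem result {G : Type*} [Group G] [Finite G] (M : Ideal Cfsg.AlgInt) (hM : Cfsg.IsPModular 2 M) (g₀ : ℕ) (hg₀ : Odd g₀) (hG : Nat.card G = 4 * g₀) (hnc : ¬ ∃ N : Subgroup G, N.Normal ∧ Nat.card N = g₀) (P : Sylow 2 G) (J : G) (hJ : J ∈ (P : Subgroup G)) (hJ2 : orderOf J = 2) (χ₁ χ₂ χ₃ : Cfsg.IrrCharacter G) (ε₁ ε₂ ε₃ : ℤ) (hB : Cfsg.principalBlock M G = {χ : Cfsg.IrrCharacter G | (χ : G → ℂ) = (fun _ => 1) ∨ χ = χ₁ ∨ χ = χ₂ ∨ χ = χ₃}) (hdist : (χ₁ : G → ℂ) ≠ (fun _ => 1) ∧ (χ₂ : G → ℂ) ≠ (fun _ => 1) ∧ (χ₃ : G → ℂ) ≠ (fun _ => 1) ∧ χ₁ ≠ χ₂ ∧ χ₁ ≠ χ₃ ∧ χ₂ ≠ χ₃) (hε : (ε₁ = 1 ∨ ε₁ = -1) ∧ (ε₂ = 1 ∨ ε₂ = -1) ∧ (ε₃ = 1 ∨ ε₃ = -1)) (hval : (χ₁ : G → ℂ) J = ε₁ ∧ (χ₂ : G → ℂ) J = ε₂ ∧ (χ₃ : G → ℂ) J = ε₃) (hprod : ε₁ * ε₂ * ε₃ = -1) (hε₃ : ε₃ = -1) : ∃ m : ℕ, 4 * Nat.card (Subgroup.centralizer ({J} : Set G)) = m * Nat.card (Subgroup.centralizer ((P : Subgroup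 G) : Set G)) * (Cfsg.charDegree (χ₃ : G → ℂ) + 1) ∧ 8 * Nat.card G = m ^ 3 * Nat.card (Subgroup.centralizer ((P : Subgroup G) : Set G)) * (Cfsg.charDegree (χ₃ : G → ℂ) ^ 3 - Cfsg.charDegree (χ₃ : G → ℂ)) := by
  classical
  have := hM.2.1
  let _ := Fintype.ofFinite G
  obtain ⟨hrel, hf⟩ := CfsgLib.Blocks.klein_order_facts hM g₀ hg₀ hG hnc P hJ hJ2 χ₁ χ₂ χ₃ ε₁ ε₂ ε₃ hB hdist hε hval
  obtain ⟨hK, -⟩ := CfsgLib.Blocks.klein_of_no_complement g₀ hg₀ hG hnc P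
  obtain ⟨rfl, rfl, hx⟩ := CfsgLib.Blocks.degrees_of_sign_product hM P hK hJ hJ2 χ₁ χ₂ χ₃ ε₁ ε₂ ε₃ hB hdist hε hval hprod hε₃ hrel
  subst hε₃
  have hposx : 0 < Cfsg.charDegree (χ₁ : G → ℂ) := Nat.pos_of_ne_zero (CfsgLib.Blocks.charDegree_ne_zero χ₁)
  have hH : Subgroup.centralizer ((P : Subgroup G) : Set G) ≤ Subgroup.centralizer ({J} : Set G) :=
    Subgroup.centralizer_le (Set.singleton_subset_iff.mpr hJ)
  obtain ⟨w, hw⟩ := Subgroup.card_dvd_of_le hH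
  obtain ⟨N, hN⟩ := Subgroup.card_subgroup_dvd_card (Subgroup.centralizer ({J} : Set G))
  rw [← hx] at hrel hf
  generalize Cfsg.charDegree (χ₁ : G → ℂ) = x at hrel hf hposx ⊢
  generalize Cfsg.charDegree (χ₃ : G → ℂ) = q at hrel hf ⊢
  have hq : q = 2 * x + 1 := by omega
  subst hq
  have hcP : 0 < Nat.card (Subgroup.centralizer ((P : Subgroup G) : Set G)) := Nat.card_pos
  have hcJ : 0 < Nat.card (Subgroup.centralizer ({J} : Set G)) := Nat.card_pos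
  generalize Nat.card (Subgroup.centralizer ((P : Subgroup G) : Set G)) = cP at hw hf hcP ⊢
  generalize Nat.card (Subgroup.centralizer ({J} : Set G)) = cJ at hw hf hN hcJ ⊢
  generalize Nat.card G = g at hN hf ⊢
  subst hw
  subst hN
  have hwpos : 0 < w := Nat.pos_of_mul_pos_left hcJ
  -- the order formula in the natural numbers
  have hfn : N * (x + 1) ^ 2 = 4 * (w ^ 2 * (x * (2 * x + 1))) := by
    have hx0 : (x : ℚ) ≠ 0 := Nat.cast_ne_zero.mpr hposx.ne'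
    have hq0 : (2 * (x : ℚ) + 1) ≠ 0 := by positivity
    have hc : (cP : ℚ) ≠ 0 := Nat.cast_ne_zero.mpr hcP.ne'
    have hw0 : (w : ℚ) ≠ 0 := Nat.cast_ne_zero.mpr hwpos.ne'
    push_cast at hf
    rw [show (1 : ℚ) + 1 / (x : ℚ) + 1 / (x : ℚ) + -1 / (2 * (x : ℚ) + 1) =
      2 * ((x : ℚ) + 1) ^ 2 / ((x : ℚ) * (2 * (x : ℚ) + 1)) by field_simp; ring, mul_div_assoc'] at hf
    have hf' := (div_eq_iff (mul_ne_zero hx0 hq0)).mp hf
    have : ((N * (x + 1) ^ 2 : ℕ) : ℚ) = ((4 * (w ^ 2 * (x * (2 * x + 1))) : ℕ) : ℚ) := by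
      push_cast
      apply mul_left_cancel₀ (mul_ne_zero (pow_ne_zero 3 hc) hw0)
      linear_combination (1 / 2 : ℚ) * hf'
    exact_mod_cast this
  have hdvd : (x + 1) ∣ 2 * w := by
    rw [← Nat.pow_dvd_pow_iff (two_ne_zero)]
    have h1 : (x + 1) ^ 2 ∣ (2 * w) ^ 2 * (x * (2 * x + 1)) := ⟨N, by rw [mul_comm ((x + 1) ^ 2) N, hfn]; ring⟩
    have c1 : (x + 1).Coprime x := Nat.coprime_self_add_left.mpr (Nat.coprime_one_left x)
    have c2 : (x + 1).Coprime (2 * x + 1) := by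
      rw [show 2 * x + 1 = (x + 1) + x by ring, Nat.coprime_self_add_right]
      exact c1
    exact ((c1.mul_right c2).pow_left 2).dvd_of_dvd_mul_right h1
  obtain ⟨m, hm⟩ := hdvd
  refine ⟨m, ?_, ?_⟩
  · calc 4 * (cP * w) = 2 * cP * (2 * w) := by ring
      _ = m * cP * (2 * x + 1 + 1) := by rw [hm]; ring
  · have hNm : N = m ^ 2 * (x * (2 * x + 1)) := by
      refine mul_right_cancel₀ (pow_ne_zero 2 (Nat.succ_ne_zero x)) (hfn.trans ?_)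
      calc 4 * (w ^ 2 * (x * (2 * x + 1))) = (2 * w) ^ 2 * (x * (2 * x + 1)) := by ring
        _ = _ := by rw [hm, Nat.succ_eq_add_one]; ring
    have hcube : (2 * x + 1) ^ 3 - (2 * x + 1) = 4 * x * (x + 1) * (2 * x + 1) := by
      rw [Nat.sub_eq_iff_eq_add (Nat.le_self_pow (by norm_num) _)]
      ring
    rw [hcube, hNm]
    calc 8 * (cP * w * (m ^ 2 * (x * (2 * x + 1)))) = 4 * cP * (2 * w) * (m ^ 2 * (x * (2 * x + 1))) := by ring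
      _ = _ := by rw [hm]; ring

end Cfsg.Agent.S4480
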