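import Cfsg.Statements.S4481
import Cfsg.Agent.Lib.Blocks.DihBlock.Rows

set_option autoImplicit false
open Cfsg

namespace Cfsg.Agent.S4481

/-- The principal 2-block of a group with dihedral Sylow 2-subgroups. Let G be a finite group whose Sylow 2-subgroup P is dihedral of order 2^n ≥ 8, let σ be an element of P of order 2^(n−1), ζ a primitive 2^(n−1)-th root of unity, and M a maximal ideal of the algebraic integers containing 2. Then the principal 2-block consists of exactly 3 + 2^(n−2) irreducible characters, which can be labelled 1, χ₁, χ₂, χ₃ and χ^(j) for 1 ≤ j ≤ 2^(n−2) − 1 (all distinct), with signs δ₁, δ₂, δ₃ such that for 0 < λ < 2^(n−1): χ₁(σ^λ) = δ₁, χ₂(σ^λ) = δ₂(−1)^(λ+1), χ₃(σ^λ) = δ₃(−1)^(λ+1) and χ^(j)(σ^λ) = δ₁(ζ^(jλ) + ζ^(−jλ)); and for every element ρ of odd order and every j: 1 + δ₁χ₁(ρ) = −δ₂χ₂(ρ) − δ₃χ₃(ρ) = δ₁χ^(j)(ρ). -/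
theorem result {G : Type*} [Group G] [Finite G] (M : Ideal Cfsg.AlgInt) (hM : Cfsg.IsPModular 2 M) (n : ℕ) (hn : 3 ≤ n) (P : Sylow 2 G) (hP : Nonempty ((P : Subgroup G) ≃* DihedralGroup (2 ^ (n - 1)))) (σ : G) (hσ : σ ∈ (P : Subgroup G)) (hσo : orderOf σ = 2 ^ (n - 1)) (ζ : ℂ) (hζ : IsPrimitiveRoot ζ (2 ^ (n - 1))) : Nat.card (Cfsg.principalBlock M G) = 3 + 2 ^ (n - 2) ∧ ∃ (χ₁ χ₂ χ₃ : Cfsg.IrrCharacter G) (χ' : Fin (2 ^ (n - 2) - 1) → Cfsg.IrrCharacter G) (δ₁ δ₂ δ₃ : ℤ), (δ₁ = 1 ∨ δ₁ = -1) ∧ (δ₂ = 1 ∨ δ₂ = -1) ∧ (δ₃ = 1 ∨ δ₃ = -1) ∧ Function.Injective χ' ∧ (χ₁ : G → ℂ) ≠ (fun _ => 1) ∧ (χ₂ : G → ℂ) ≠ (fun _ => 1) ∧ (χ₃ : G → ℂ) ≠ (fun _ => 1) ∧ χ₁ ≠ χ₂ ∧ χ₁ ≠ χ₃ ∧ χ₂ ≠ χ₃ ∧ (∀ j, χ' j ≠ χ₁ ∧ χ' j ≠ χ₂ ∧ χ' j ≠ χ₃ ∧ (χ' j : G → ℂ) ≠ (fun _ => 1)) ∧ Cfsg.principalBlock M G = {χ : Cfsg.IrrCharacter G | (χ : G → ℂ) = (fun _ => 1) ∨ χ = χ₁ ∨ χ = χ₂ ∨ χ = χ₃ ∨ ∃ j, χ = χ'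 j} ∧ (∀ l : ℕ, 0 < l → l < 2 ^ (n - 1) → (χ₁ : G → ℂ) (σ ^ l) = δ₁ ∧ (χ₂ : G → ℂ) (σ ^ l) = δ₂ * (-1) ^ (l + 1) ∧ (χ₃ : G → ℂ) (σ ^ l) = δ₃ * (-1) ^ (l + 1) ∧ ∀ j : Fin (2 ^ (n - 2) - 1), (χ' j : G → ℂ) (σ ^ l) = δ₁ * (ζ ^ (((j : ℕ) + 1) * l) + (ζ ^ (((j : ℕ) + 1) * l))⁻¹)) ∧ ∀ ρ : G, Odd (orderOf ρ) → ∀ j : Fin (2 ^ (n - 2) - 1), 1 + δ₁ * (χ₁ : G → ℂ) ρ = -δ₂ * (χ₂ : G → ℂ) ρ - δ₃ * (χ₃ : G → ℂ) ρ ∧ 1 + δ₁ * (χ₁ : G → ℂ) ρ = δ₁ * (χ' j : G → ℂ) ρ := by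
  classical
  let _ := Fintype.ofFinite G
  have : M.IsMaximal := hM.2.1
  obtain ⟨e⟩ := hP
  have h4 : 4 ≤ 2 ^ (n - 1) := (show 4 = 2 ^ 2 by rfl).le.trans (Nat.pow_le_pow_right two_pos (by omega))
  have : NeZero (2 ^ (n - 1)) := ⟨pow_ne_zero _ two_ne_zero⟩
  obtain ⟨i, hi⟩ : ∃ i, e ⟨σ, hσ⟩ = DihedralGroup.r i := by
    rcases hd : e ⟨σ, hσ⟩ with i | i
    · exact ⟨i, rfl⟩
    · have := e.orderOf_eq ⟨σ, hσ⟩
      rw [hd, DihedralGroup.orderOf_sr, Subgroup.orderOf_mk, hσo] at this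
      omega
  set τ' : (P : Subgroup G) := e.symm (DihedralGroup.sr 0) with hτ'
  have hio : orderOf (DihedralGroup.r i) = 2 ^ (n - 1) := by
    rw [← hi, MulEquiv.orderOf_eq, Subgroup.orderOf_mk, hσo]
  have hτo : orderOf (τ' : G) = 2 := by
    rw [Subgroup.orderOf_coe, hτ', MulEquiv.orderOf_eq, DihedralGroup.orderOf_sr]
  have hrel : (τ' : G) * σ * (τ' : G)⁻¹ = σ⁻¹ := by
    have : τ' * ⟨σ, hσ⟩ * τ'⁻¹ = (⟨σ, hσ⟩ : (P : Subgroup G))⁻¹ := by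
      apply e.injective
      rw [map_mul, map_mul, map_inv, map_inv, hi, hτ', e.apply_symm_apply, DihedralGroup.inv_sr,
        DihedralGroup.sr_mul_r, DihedralGroup.sr_mul_sr, DihedralGroup.inv_r]
      congr 1; ring
    exact congrArg Subtype.val this
  have hgen : Subgroup.closure ({σ, (τ' : G)} : Set G) = (P : Subgroup G) := by
    refine le_antisymm ((Subgroup.closure_le _).mpr ?_) fun x hx => ?_
    · rintro x (rfl | rfl)
      · exact hσ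
      · exact τ'.2
    · have hr : ∀ k : ℕ, σ ^ k ∈ Subgroup.closure ({σ, (τ' : G)} : Set G) := fun k =>
        pow_mem (Subgroup.subset_closure (Set.mem_insert _ _)) _
      have hsurj : ∀ j : ZMod (2 ^ (n - 1)), ∃ k : ℕ, (DihedralGroup.r i) ^ k = DihedralGroup.r j := by
        have hinj : Function.Injective fun k : Fin (2 ^ (n - 1)) => (k : ℕ) * i := fun a b hab => by
          have h2 : (DihedralGroup.r i) ^ (a : ℕ) = (DihedralGroup.r i) ^ (b : ℕ) := by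
            simp only at hab
            rw [DihedralGroup.r_pow, DihedralGroup.r_pow]
            congr 1; linear_combination hab
          exact Fin.ext (pow_injOn_Iio_orderOf (by rw [hio]; exact a.2) (by rw [hio]; exact b.2) h2)
        intro j
        obtain ⟨k, hk⟩ := (Fintype.bijective_iff_injective_and_card _).mpr ⟨hinj, by simp⟩ |>.2 j
        exact ⟨k, by rw [DihedralGroup.r_pow]; congr 1; rw [mul_comm]; exact hk⟩
      rcases hd : e ⟨x, hx⟩ with j | j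
      · obtain ⟨k, hk⟩ := hsurj j
        have : (⟨x, hx⟩ : (P : Subgroup G)) = ⟨σ, hσ⟩ ^ k := e.injective (by rw [map_pow, hi, hk, hd])
        rw [show x = σ ^ k from congrArg Subtype.val this]
        exact hr k
      · obtain ⟨k, hk⟩ := hsurj j
        have : (⟨x, hx⟩ : (P : Subgroup G)) = τ' * ⟨σ, hσ⟩ ^ k := e.injective (by
          rw [map_mul, map_pow, hi, hk, hd, hτ', e.apply_symm_apply, DihedralGroup.sr_mul_r, zero_add])
        rw [show x = (τ' : G) * σ ^ k from congrArg Subtype.val this]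
        exact mul_mem (Subgroup.subset_closure (Set.mem_insert_of_mem _ rfl)) (hr k)
  obtain ⟨ι, hd, hισ, -⟩ :=
    CfsgLib.Blocks.DihBlock.exists_data_of_generators hn hσ τ'.2 hσo hτo hrel hgen
  have hζm : ζ ^ (2 ^ (n - 1)) = 1 := hζ.pow_eq_one
  set ψ := AddChar.zmodChar (2 ^ (n - 1)) hζm with hψdef
  have hψ : ψ.IsPrimitive := AddChar.zmodChar_primitive_of_primitive_root _ hζ
  have hψk : ∀ k : ℕ, ψ (k : ZMod (2 ^ (n - 1))) = ζ ^ k := fun k => AddChar.zmodChar_apply' hζm k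
  obtain ⟨a, b, c, f, s, t₂, t₃, hs, ht₂, ht₃, ha, hb, hc, hab, hac, hbc, hfinj, hf, hB, hval, hodd⟩ :=
    CfsgLib.Blocks.DihBlock.exists_rows hM hd hψ
  have h2q : 2 * 2 ^ (n - 3) = 2 ^ (n - 2) := by
    rw [show n - 2 = (n - 3) + 1 by omega, pow_succ, mul_comm]
  have hm : 2 ^ (n - 1) = 4 * 2 ^ (n - 3) := hd.hm
  have hneg : ζ ^ (2 * 2 ^ (n - 3)) = -1 := by
    have hsq : ζ ^ (2 * 2 ^ (n - 3)) * ζ ^ (2 * 2 ^ (n - 3)) = 1 := by
      rw [← pow_add, show 2 * 2 ^ (n - 3) + 2 * 2 ^ (n - 3) = 2 ^ (n - 1) by omega, hζm]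
    rcases mul_self_eq_one_iff.mp hsq with h | h
    · exact absurd h (hζ.pow_ne_one_of_pos_of_lt (by positivity) (by have := hd.hq; omega))
    · exact h
  have hone : ∀ χ : Cfsg.IrrCharacter G, χ ≠ CfsgLib.Char.irrOne → (χ : G → ℂ) ≠ fun _ => 1 :=
    fun χ h e => h (Subtype.ext e)
  let e' : Fin (2 ^ (n - 2) - 1) ≃ Fin (2 * 2 ^ (n - 3) - 1) := finCongr (by rw [h2q])
  have hBset : Cfsg.principalBlock M G = {χ : Cfsg.IrrCharacter G | (χ : G → ℂ) = (fun _ => 1) ∨ χ = a ∨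
      χ = b ∨ χ = c ∨ ∃ j, χ = f (e' j)} := by
    rw [hB]
    ext χ
    simp only [Set.mem_setOf_eq, e'.surjective.exists, Subtype.ext_iff]
    exact Iff.rfl
  refine ⟨?_, a, b, c, fun j => f (e' j), -s, -t₂, -t₃, by omega, by omega, by omega,
    hfinj.comp e'.injective, hone a ha, hone b hb, hone c hc, hab, hac, hbc,
    fun j => ⟨(hf _).2.1, (hf _).2.2.1, (hf _).2.2.2, hone _ (hf _).1⟩, hBset, ?_, ?_⟩
  · rw [hB, show {χ : Cfsg.IrrCharacter G | χ = CfsgLib.Char.irrOne ∨ χ = a ∨ χ = b ∨ χ = c ∨ ∃ i, χ = f i} =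
      (({CfsgLib.Char.irrOne, a, b, c} : Finset (Cfsg.IrrCharacter G)) ∪ Finset.univ.image f :
        Finset (Cfsg.IrrCharacter G)) by ext; simp [eq_comm],
      Nat.card_coe_set_eq, Set.ncard_coe_finset, Finset.card_union_of_disjoint,
      Finset.card_image_of_injective _ hfinj, Finset.card_univ, Fintype.card_fin]
    · rw [Finset.card_insert_of_notMem (by simp [Ne.symm ha, Ne.symm hb, Ne.symm hc]),
        Finset.card_insert_of_notMem (by simp [hab, hac]), Finset.card_pair hbc, h2q]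
      have := Nat.one_le_two_pow (n := n - 2)
      omega
    · rw [Finset.disjoint_left]
      rintro x hx hx'
      obtain ⟨j, -, rfl⟩ := Finset.mem_image.mp hx'
      have := hf j
      simp at hx
      tauto
  · intro l hl0 hl
    have hlne : (l : ZMod (2 ^ (n - 1))) ≠ 0 := fun h => by
      have := Nat.le_of_dvd hl0 ((ZMod.natCast_eq_zero_iff _ _).mp h) |>.trans_lt hl
      omega
    have hσl : σ ^ l = ι (DihedralGroup.r (l : ZMod (2 ^ (n - 1)))) := by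
      rw [← DihedralGroup.r_one_pow, map_pow, hισ]
    obtain ⟨h1, h2, h3, h4'⟩ := hval _ hlne
    have hpar : ψ (((2 * 2 ^ (n - 3) : ℕ) : ZMod (2 ^ (n - 1))) * (l : ZMod (2 ^ (n - 1)))) = (-1 : ℂ) ^ l := by
      rw [← Nat.cast_mul, hψk, pow_mul, hneg]
    rw [hσl]
    refine ⟨by rw [h1]; push_cast; ring, by rw [h2, hpar]; push_cast; ring,
      by rw [h3, hpar]; push_cast; ring, fun j => ?_⟩
    rw [h4' (e' j), AddChar.map_neg_eq_inv, show ((e' j : ℕ)) = (j : ℕ) from rfl, ← Nat.cast_mul, hψk]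
    push_cast; ring
  · intro ρ hρ j
    obtain ⟨hr1, hr2⟩ := hodd ρ (fun h => Nat.not_even_iff_odd.mpr hρ (even_iff_two_dvd.mpr h))
    have hr3 := hr1 (e' j)
    push_cast
    exact ⟨by linear_combination -hr2, by linear_combination -hr3⟩

end Cfsg.Agent.S4481
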