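import Cfsg.Statements.S4483
import Cfsg.Agent.Lib.BlockArith.RegCoef
import Cfsg.Agent.Lib.BlockArith.RealBlock

set_option autoImplicit false
open Cfsg

namespace Cfsg.Agent.S4483

/-- Let G be a finite group of order 2^n·g₀ with g₀ odd, and M a maximal ideal of the algebraic integers containing 2. Every real-valued irreducible character of G of odd degree lies in the principal 2-block; consequently G has at most 2^(2n) real-valued irreducible characters of odd degree. -/
theorem result {G : Type*} [Group G] [Finite G] (M : Ideal Cfsg.AlgInt) (hM : Cfsg.IsPModular 2 M) : (∀ χ : Cfsg.IrrCharacter G, (∀ g : G, ((χ : G → ℂ) g).im = 0) → Odd (Cfsg.charDegree (χ : G → ℂ)) → χ ∈ Cfsg.principalBlock M G) ∧ Nat.card {χ : Cfsg.IrrCharacter G // (∀ g : G, ((χ : G → ℂ) g).im = 0) ∧ Odd (Cfsg.charDegree (χ : G → ℂ))} ≤ 2 ^ (2 * (Nat.card G).factorization 2) := by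
  classical
  have := hM.2.1
  have := Fintype.ofFinite G
  have : Fact (Nat.Prime 2) := ⟨Nat.prime_two⟩
  have hmem : ∀ χ : Cfsg.IrrCharacter G, (∀ g : G, ((χ : G → ℂ) g).im = 0) →
      Odd (Cfsg.charDegree (χ : G → ℂ)) → χ ∈ Cfsg.principalBlock M G := fun χ hr ho =>
    CfsgLib.BlockArith.mem_principalBlock_of_odd_degree hM χ ho fun x _ => by
      rw [CfsgLib.Char.char_inv (CfsgLib.Char.isCharacter_of_isIrr χ.2)]
      exact Complex.conj_eq_iff_im.mpr (hr x)
  refine ⟨hmem, ?_⟩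
  let o : Cfsg.IrrCharacter G := CfsgLib.Char.irrOne
  set s := (Finset.univ.filter fun χ : Cfsg.IrrCharacter G =>
    (∀ g : G, ((χ : G → ℂ) g).im = 0) ∧ Odd (Cfsg.charDegree (χ : G → ℂ)))
  have h1 : (s.card : ℤ) ≤ ∑ χ ∈ s, CfsgLib.BlockArith.regCoef 2 o χ ^ 2 := by
    rw [Finset.card_eq_sum_ones, Nat.cast_sum]
    refine Finset.sum_le_sum fun χ hχ => ?_
    obtain ⟨-, hr, ho⟩ := Finset.mem_filter.mp hχ
    rw [Nat.cast_one]
    refine (show (0 : ℤ) < _ from sq_pos_iff.mpr fun h0 => ?_)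
    refine (CfsgLib.BlockArith.not_dvd_regCoef_iff (p := 2) hM o χ).mpr ⟨?_, ?_⟩
      (h0 ▸ dvd_zero _)
    · rw [← CfsgLib.Blocks.principalBlock_eq]
      exact hmem χ hr ho
    · rw [Cfsg.blockHeight, Nat.factorization_eq_zero_of_not_dvd ho.not_two_dvd_nat]
      exact Nat.zero_sub _
  have h2 : ∑ χ ∈ s, CfsgLib.BlockArith.regCoef 2 o χ ^ 2 ≤
      (2 : ℤ) ^ (2 * (Nat.card G).factorization 2) := by
    refine (Finset.sum_le_sum_of_subset_of_nonneg (Finset.subset_univ s)
      fun χ _ _ => sq_nonneg _).trans ?_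
    rw [CfsgLib.BlockArith.sum_sq_regCoef, two_mul, pow_add]
    exact mul_le_mul_of_nonneg_left (CfsgLib.BlockArith.regCoef_self_le o) (by positivity)
  rw [Nat.card_eq_fintype_card, Fintype.card_subtype]
  exact_mod_cast h1.trans h2

end Cfsg.Agent.S4483
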