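import Cfsg.Statements.S4484
import Cfsg.Agent.Lib.BlockArith.EigenCount
import Cfsg.Agent.Lib.Blocks.PrincipalSection
import Cfsg.Agent.Lib.Invol.ZStarBasic
import Cfsg.Agent.Lib.CharBlocks.Degree

set_option autoImplicit false
open Cfsg

namespace Cfsg.Agent.S4484

/-- A refinement of Burnside's result on simple groups of order divisible by only two primes. Let G be a finite simple group of order p^a · q^b · g₀ with p, q distinct primes, a > 0, g₀ coprime to p and q, and the order of G different from p. Then g₀ − 1 > log p / log 6, that is 6^(g₀ − 1) > p. -/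
theorem result {G : Type*} [Group G] [Finite G] [IsSimpleGroup G] (p q a b g₀ : ℕ) (hp : p.Prime) (hq : q.Prime) (hpq : p ≠ q) (ha : 0 < a) (hg : Nat.card G = p ^ a * q ^ b * g₀) (hcop : ¬ p ∣ g₀) (hcoq : ¬ q ∣ g₀) (hne : Nat.card G ≠ p) : p < 6 ^ (g₀ - 1) := by
  classical
  let _ := Fintype.ofFinite G
  have hp' : Fact p.Prime := ⟨hp⟩
  obtain ⟨M, hM⟩ := CfsgLib.Invol.exists_isPModular p hp
  have : M.IsMaximal := hM.2.1
  have hpG : p ∣ Nat.card G := hg ▸ dvd_mul_of_dvd_left (dvd_mul_of_dvd_left (dvd_pow_self p ha.ne') _) _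
  have hcen : ∀ z : G, (∀ g, g * z = z * g) → z = 1 := by
    intro z hz
    rcases (inferInstance : (Subgroup.center G).Normal).eq_bot_or_eq_top with h | h
    · exact Subgroup.mem_bot.1 (h ▸ Subgroup.mem_center_iff.2 hz)
    · exfalso
      obtain ⟨y, hy⟩ := exists_prime_orderOf_dvd_card' p hpG
      have hn : (Subgroup.zpowers y).Normal := ⟨fun a ha g => by
        have hag : g * a = a * g := Subgroup.mem_center_iff.1 (h ▸ Subgroup.mem_top a) g
        rwa [hag, mul_inv_cancel_right]⟩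
      rcases hn.eq_bot_or_eq_top with h' | h'
      · rw [Subgroup.zpowers_eq_bot.1 h', orderOf_one] at hy; exact hp.ne_one hy.symm
      · exact hne (by rw [← Subgroup.card_top, ← h', Nat.card_zpowers, hy])
  obtain ⟨P⟩ : Nonempty (Sylow p G) := inferInstance
  have hPnt : Nontrivial (P : Subgroup G) := by
    rw [Subgroup.nontrivial_iff_ne_bot]
    intro h
    have := P.card_eq_multiplicity
    rw [h, Subgroup.card_bot] at this
    exact Nat.ne_of_lt (Nat.one_lt_pow (hp.factorization_pos_of_dvd Nat.card_pos.ne' hpG).ne' hp.one_lt) this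
  obtain ⟨y, hy, hidx⟩ : ∃ y : G, orderOf y = p ∧ ¬ p ∣ (Subgroup.centralizer ({y} : Set G)).index := by
    have := P.2.center_nontrivial
    have hd : p ∣ Nat.card (Subgroup.center (P : Subgroup G)) := by
      obtain ⟨k, hk0, hk⟩ := (IsPGroup.to_subgroup P.2 (Subgroup.center (P : Subgroup G))).nontrivial_iff_card.1 this
      rw [hk]; exact dvd_pow_self p (Nat.pos_iff_ne_zero.1 hk0)
    obtain ⟨z, hz⟩ := exists_prime_orderOf_dvd_card' p hd
    refine ⟨((z : (P : Subgroup G)) : G), by rw [Subgroup.orderOf_coe, Subgroup.orderOf_coe, hz], fun hd => ?_⟩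
    refine P.not_dvd_index (hd.trans (Subgroup.index_dvd_of_le fun w hw => ?_))
    exact Subgroup.mem_centralizer_singleton_iff.2 (congrArg Subtype.val (Subgroup.mem_center_iff.1 z.2 ⟨w, hw⟩))
  have hB := CfsgLib.Blocks.isPBlock_principalBlock (M := M) (G := G)
  have hsum := CfsgLib.Blocks.weak_orthogonality (p := p) hM hB (x := (1 : G)) (y := y)
    (by rw [orderOf_one]; exact hp.not_dvd_one) (by rw [hy])
  obtain ⟨χ, hχB, hχ1, hχq⟩ : ∃ χ : Cfsg.IrrCharacter G, χ ∈ Cfsg.principalBlock M G ∧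
      χ ≠ CfsgLib.Char.irrOne ∧ ¬ q ∣ Cfsg.charDegree (χ : G → ℂ) := by
    by_contra hno
    push Not at hno
    rw [← Finset.sum_filter, ← Finset.add_sum_erase _ _ (Finset.mem_filter.2 ⟨Finset.mem_univ _,
      CfsgLib.Blocks.irrOne_mem_principalBlock⟩)] at hsum
    simp only [CfsgLib.Char.irrOne_apply, map_one, mul_one] at hsum
    set s := (Finset.univ.filter (· ∈ Cfsg.principalBlock M G)).erase CfsgLib.Char.irrOne with hs
    set R := ∑ χ ∈ s, ((Cfsg.charDegree (χ : G → ℂ) / q : ℕ) : ℂ) * (starRingEnd ℂ) ((χ : G → ℂ) y) with hR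
    have hRint : IsIntegral ℤ R := IsIntegral.sum _ fun χ _ =>
      (CfsgLib.CharBlocks.isIntegral_natCast _).mul (by
        rw [← CfsgLib.Char.char_inv (CfsgLib.Char.isCharacter_of_isIrr χ.2)]
        exact CfsgLib.Char.char_isIntegral (CfsgLib.Char.isCharacter_of_isIrr χ.2) _)
    have hqR : (q : ℂ) * R = -1 := by
      rw [hR, Finset.mul_sum, eq_neg_iff_add_eq_zero, add_comm]
      refine Eq.trans ?_ hsum
      congr 1
      refine Finset.sum_congr rfl fun χ hχ => ?_
      obtain ⟨h1, h2⟩ := Finset.mem_erase.1 hχ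
      rw [← CfsgLib.CharBlocks.coe_charDegree_irr χ, ← mul_assoc, ← Nat.cast_mul,
        Nat.mul_div_cancel' (hno χ (Finset.mem_filter.1 h2).2 h1)]
    have hint : IsIntegral ℤ (((1 : ℕ) : ℂ) / (q : ℂ)) := by
      have e : ((1 : ℕ) : ℂ) / (q : ℂ) = -R := by
        rw [Nat.cast_one, div_eq_iff (Nat.cast_ne_zero.2 hq.ne_zero)]
        linear_combination hqR
      rw [e]
      exact hRint.neg
    exact hq.not_dvd_one (CfsgLib.Char.dvd_of_isIntegral_div hq.ne_zero hint)
  set d := Cfsg.charDegree (χ : G → ℂ) with hd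
  have hd0 : d ≠ 0 := (CfsgLib.CharBlocks.charDegree_pos χ.2).ne'
  set i := d.factorization p with hi
  set g' := d / p ^ i with hg'
  have hdeq : d = p ^ i * g' := (Nat.mul_div_cancel' (Nat.ordProj_dvd d p)).symm
  obtain ⟨n, hn, -, hcard⟩ := CfsgLib.BlockArith.Blichfeldt.exists_few_eigen hM χ hχB hy hidx (i := i) (g' := g')
    (by rw [← hdeq, hd, CfsgLib.CharBlocks.coe_charDegree_irr])
  have hle := CfsgLib.BlockArith.Blichfeldt.few_eigen_bound hcen χ
    (fun e => hχ1 (Subtype.ext e)) hy hn hcard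
  have hdvd : g' ∣ g₀ := by
    have h1 : g' ∣ p ^ a * (q ^ b * g₀) := by
      rw [← mul_assoc, ← hg]
      exact (Dvd.intro_left _ hdeq.symm).trans (CfsgLib.CharBlocks.charDegree_dvd_card χ.2)
    have h2 : Nat.Coprime g' p := (hp.coprime_iff_not_dvd.2 (Nat.not_dvd_ordCompl hp hd0)).symm
    have h3 : Nat.Coprime g' q := (hq.coprime_iff_not_dvd.2 fun h => hχq (h.trans (Dvd.intro_left _ hdeq.symm))).symm
    exact (h3.pow_right b).dvd_of_dvd_mul_left ((h2.pow_right a).dvd_of_dvd_mul_left h1)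
  have hg0 : 0 < g₀ := Nat.pos_of_ne_zero fun h => hcop (h ▸ dvd_zero p)
  refine lt_of_le_of_ne (hle.trans (Nat.pow_le_pow_right (by norm_num)
    (Nat.sub_le_sub_right (Nat.le_of_dvd hg0 hdvd) 1))) fun h => ?_
  generalize g₀ - 1 = e at h
  rcases e with _ | k
  · exact hp.ne_one (h.trans (pow_zero 6))
  · have h2 : 2 ∣ p := h ▸ dvd_pow (by norm_num) (Nat.succ_ne_zero k)
    have h3 : 3 ∣ p := h ▸ dvd_pow (by norm_num) (Nat.succ_ne_zero k)
    have := (Nat.prime_dvd_prime_iff_eq Nat.prime_two hp).1 h2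
    have := (Nat.prime_dvd_prime_iff_eq Nat.prime_three hp).1 h3
    omega

end Cfsg.Agent.S4484
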