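import Cfsg.Statements.S4485
import Cfsg.Agent.Lib.Char.EqualCentralizersSylow

set_option autoImplicit false
open Cfsg

namespace Cfsg.Agent.S4485

universe u

theorem aux {p : ℕ} [Fact p.Prime] (m : ℕ) : ∀ (G : Type u) [Group G] [Finite G],
    Nat.card G = m → ∀ (P : Sylow p G),
    (∀ x ∈ (P : Subgroup G), x ≠ 1 → Subgroup.centralizer ({x} : Set G) =
      Subgroup.centralizer ((P : Subgroup G) : Set G)) →
    ∀ (χ : G → ℂ), Cfsg.IsCharacter G χ → (∀ g : G, χ g = χ 1 → g = 1) → ∀ x : ℕ, χ 1 = x →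
      x * x + 1 < Nat.card P → (P : Subgroup G).Normal := by
  induction m using Nat.strong_induction_on with
  | _ m ih =>
  intro G _ _ hm P hstar χ hχ hfaith x hx hq
  classical
  have := Fintype.ofFinite G
  by_cases hK : ∃ K : Subgroup G, K.Normal ∧ K ≠ ⊤ ∧ (P : Subgroup G) ≤ K
  · obtain ⟨K, hKn, hKtop, hPK⟩ := hK
    let P' : Sylow p K := P.subtype hPK
    have hlt : Nat.card K < m := hm ▸
      lt_of_le_of_ne K.card_le_card_group fun e => hKtop (K.eq_top_of_card_eq e)
    have hPmem : ∀ k : K, k ∈ (P' : Subgroup K) ↔ (k : G) ∈ (P : Subgroup G) := fun k => by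
      simp [P', Subgroup.mem_subgroupOf]
    have hn : (P' : Subgroup K).Normal := ih _ hlt K rfl P' (fun y hy hy1 => by
        have h := hstar y ((hPmem y).mp hy) (fun e => hy1 (Subtype.ext e))
        ext c
        rw [Subgroup.mem_centralizer_singleton_iff, Subgroup.mem_centralizer_iff]
        have hc := SetLike.ext_iff.mp h (c : G)
        rw [Subgroup.mem_centralizer_singleton_iff, Subgroup.mem_centralizer_iff] at hc
        refine ⟨fun hcy z hz => Subtype.ext (hc.mp (congrArg Subtype.val hcy) z ((hPmem z).mp hz)),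
          fun hall => (hall y hy).symm⟩)
      (fun k : K => χ k) (CfsgLib.Char.isCharacter_res K hχ)
      (fun k hk => Subtype.ext (hfaith _ hk)) x hx
      (by
        rwa [show Nat.card P' = Nat.card P from
          Nat.card_congr (Subgroup.subgroupOfEquivOfLe hPK).toEquiv])
    refine ⟨fun y hy g => ?_⟩
    -- conjugation by `g` fixes the normal Sylow subgroup of `K`
    have hgK : g * y * g⁻¹ ∈ K := hKn.conj_mem y (hPK hy) g
    have hz : IsPGroup p (Subgroup.zpowers (⟨g * y * g⁻¹, hgK⟩ : K)) := by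
      obtain ⟨k, hk⟩ := IsPGroup.iff_card.mp P.isPGroup'
      refine IsPGroup.iff_card.mpr ?_
      rw [Nat.card_zpowers]
      have h1 : (⟨g * y * g⁻¹, hgK⟩ : K) ^ p ^ k = 1 := Subtype.ext (by
        have h2 : y ^ p ^ k = 1 := by
          rw [← hk]
          exact congrArg Subtype.val (pow_card_eq_one' (G := (P : Subgroup G)) (x := ⟨y, hy⟩))
        simp only [SubmonoidClass.coe_pow, OneMemClass.coe_one]
        rw [conj_pow, h2, mul_one, mul_inv_cancel])
      obtain ⟨i, -, hi⟩ := (Nat.dvd_prime_pow Fact.out).mp (orderOf_dvd_of_pow_eq_one h1)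
      exact ⟨i, hi⟩
    have h := hz.to_sup_of_normal_right' P'.isPGroup' (by
      rw [Subgroup.normalizer_eq_top_iff.mpr hn]; exact le_top)
    refine (hPmem ⟨_, hgK⟩).mp ?_
    rw [← P'.is_maximal' h le_sup_right]
    exact Subgroup.mem_sup_left (Subgroup.mem_zpowers _)
  -- no proper normal subgroup: all constituents are linear, so the group is abelian
  have hlin : ∀ ψ : Cfsg.IrrCharacter G, Cfsg.classInner χ ψ ≠ 0 → (ψ : G → ℂ) 1 = 1 := by
    intro ψ hψ
    by_cases h1 : (ψ : G → ℂ) = fun _ => 1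
    · rw [h1]
    obtain ⟨d, -, hd⟩ := CfsgLib.Char.exists_degree_pos ψ.2
    have hdle : d ≤ x := by
      have h := CfsgLib.Char.constituent_degree_le hχ ψ.2 hψ
      rw [hx, hd, Complex.natCast_re, Complex.natCast_re] at h
      exact_mod_cast h
    have := (CfsgLib.Char.EqualCentralizers.small_degree P hstar hK ψ.2 h1 hd
      (lt_of_le_of_lt (Nat.add_le_add_right (Nat.mul_le_mul hdle hdle) 1) hq)).2
    rw [hd, this, Nat.cast_one]
  have hcomm : ∀ a b : G, a * b = b * a := by
    intro a b
    have h : ∀ ψ : Cfsg.IrrCharacter G, Cfsg.classInner χ ψ *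
        (ψ : G → ℂ) (a * b * a⁻¹ * b⁻¹) = Cfsg.classInner χ ψ * (ψ : G → ℂ) 1 := by
      intro ψ
      by_cases h0 : Cfsg.classInner χ ψ = 0
      · rw [h0, zero_mul, zero_mul]
      have hm' := CfsgLib.Char.linear_map_mul (CfsgLib.Char.isCharacter_of_isIrr ψ.2) (hlin ψ h0)
      congr 1
      rw [hm', CfsgLib.Char.isClassFunction_of_isIrr ψ.2, ← hm', mul_inv_cancel]
    have he : a * b * a⁻¹ * b⁻¹ = 1 := by
      refine hfaith _ ?_
      rw [CfsgLib.Char.classFun_eq_sum (CfsgLib.Char.isClassFunction_of_isCharacter hχ)]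
      simp only [Finset.sum_apply, Pi.smul_apply, smul_eq_mul]
      exact Finset.sum_congr rfl fun ψ _ => h ψ
    calc a * b = (a * b * a⁻¹ * b⁻¹) * (b * a) := by group
      _ = b * a := by rw [he, one_mul]
  exact ⟨fun y hy g => by rwa [hcomm g y, mul_inv_cancel_right]⟩


/-- Let G be a finite group and p a prime dividing its order such that every non-identity element of a Sylow p-subgroup P has the same centralizer as P itself (so P is abelian); let p^n be the order of P. If G has a faithful character of degree x with x² < p^n − 1, then P is normal in G. -/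
theorem result {G : Type*} [Group G] [Finite G] (p : ℕ) (hp : p.Prime) (hpG : p ∣ Nat.card G) (P : Sylow p G) (hstar : ∀ x ∈ (P : Subgroup G), x ≠ 1 → Subgroup.centralizer ({x} : Set G) = Subgroup.centralizer ((P : Subgroup G) : Set G)) (n : ℕ) (hn : Nat.card P = p ^ n) (χ : G → ℂ) (hχ : Cfsg.IsCharacter G χ) (hfaith : ∀ g : G, χ g = χ 1 → g = 1) (hdeg : Cfsg.charDegree χ ^ 2 + 1 < p ^ n) : (P : Subgroup G).Normal := by
  have := Fact.mk hp
  obtain ⟨x, hx⟩ := CfsgLib.Char.exists_degree hχ
  have hd : Cfsg.charDegree χ = x := by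
    rw [Cfsg.charDegree, hx, Complex.natCast_re, Nat.floor_natCast]
  rw [hd, sq, ← hn] at hdeg
  exact aux (Nat.card G) G rfl P hstar χ hχ hfaith x hx hdeg

end Cfsg.Agent.S4485
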