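import Cfsg.Statements.S4487
import Cfsg.Agent.Lib.Blocks.Brauer
import Cfsg.Agent.Lib.Blocks.Orth
import Cfsg.Agent.Lib.Cores.Basic

set_option autoImplicit false
open Cfsg

namespace Cfsg.Agent.S4487

/-- Let G be a finite group and p a prime such that G has no non-trivial normal subgroup of order prime to p and C_G(O_p(G)) ≤ O_p(G). Then G has a single p-block: any two irreducible characters lie in the same block relative to every maximal ideal M of the algebraic integers containing p. -/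
theorem result {G : Type*} [Group G] [Finite G] (p : ℕ) [Fact p.Prime] (M : Ideal Cfsg.AlgInt) (hM : Cfsg.IsPModular p M) (hcore : Cfsg.pPrimeCore p G = ⊥) (hconstr : Subgroup.centralizer ((Cfsg.pCore p G) : Set G) ≤ Cfsg.pCore p G) (χ ψ : Cfsg.IrrCharacter G) : Cfsg.SameBlock M (χ : G → ℂ) (ψ : G → ℂ) := by
  classical
  have := Fintype.ofFinite G
  have := hM.2.1
  have hp : p.Prime := hM.1
  set B := Cfsg.blockOf M (χ : G → ℂ) with hBdef
  have hB : Cfsg.IsPBlock M B := CfsgLib.Blocks.isPBlock_blockOf χ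
  let c : CfsgLib.Blocks.locRing M :=
    ⟨Cfsg.blockCoeff B 1, CfsgLib.Blocks.blockCoeff_mem_locRing hB 1⟩
  have hQ : IsPGroup p (Cfsg.pCore p G) := CfsgLib.Cores.isPGroup_pCore p
  have hval : ∀ η : Cfsg.IrrCharacter G, CfsgLib.Blocks.bomega (M := M) η
      (CfsgLib.Blocks.idem hB) = CfsgLib.Blocks.res M c := by
    intro η
    rw [← CfsgLib.Blocks.bomega_scal η c, ← sub_eq_zero, ← map_sub]
    refine CfsgLib.Blocks.bomega_eq_zero_of_support hM hQ η fun g hg => ?_
    have hs : CfsgLib.Blocks.rcoeff (CfsgLib.Blocks.scal M c) g =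
        if g = 1 then CfsgLib.Blocks.res M c else 0 := by
      have h1 := CfsgLib.Blocks.rcoeff_scal_mul c (1 : CfsgLib.Blocks.Zint M G) g
      rw [mul_one, CfsgLib.Blocks.rcoeff_one] at h1
      rw [h1]; split_ifs <;> simp
    rw [CfsgLib.Blocks.rcoeff_sub, hs]
    by_cases hg1 : g = 1
    · subst hg1
      rw [if_pos rfl]
      exact sub_eq_zero.mpr (congrArg (CfsgLib.Blocks.res M) (Subtype.ext rfl))
    · rw [if_neg hg1, sub_zero, CfsgLib.Blocks.rcoeff_eq_zero_iff]
      obtain ⟨j, hj⟩ := hQ ⟨g, hconstr hg⟩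
      obtain ⟨i, -, hi⟩ := (Nat.dvd_prime_pow hp).mp (orderOf_dvd_of_pow_eq_one hj)
      rw [← Subgroup.orderOf_coe] at hi
      have hi0 : i ≠ 0 := fun h => hg1 (orderOf_eq_one_iff.mp (by simpa [h] using hi))
      show Cfsg.MemLocalIdeal M (Cfsg.blockCoeff B g)
      rw [CfsgLib.Blocks.blockCoeff_eq_zero hM hB (hi.symm ▸ dvd_pow_self p hi0)]
      exact (CfsgLib.Blocks.res_eq_zero_iff M 0).mp (map_zero _)
  by_contra hne
  have h1 := hval χ
  have h2 := hval ψ
  rw [CfsgLib.Blocks.bomega_idem, if_pos (CfsgLib.Blocks.mem_blockOf_self χ)] at h1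
  rw [CfsgLib.Blocks.bomega_idem, if_neg (show ψ ∉ B from hne), ← h1] at h2
  exact zero_ne_one h2

end Cfsg.Agent.S4487
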