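import Cfsg.Statements.S4488
import Cfsg.Agent.Lib.CharNormal.SchurBound
import Cfsg.Agent.Lib.CharBlocks.Degree

set_option autoImplicit false
open Cfsg

namespace Cfsg.Agent.S4488

/-- Let the finite group G have a faithful p-rational character χ of degree n (all values of χ lie in the field generated over ℚ by a root of unity of order prime to p), and let p^a be the order of a Sylow p-subgroup of G. Then a ≤ Σ_{i ≥ 0} ⌊n / ((p − 1)·p^i)⌋ (a finite sum; the terms vanish once (p − 1)p^i > n). -/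
theorem result {G : Type*} [Group G] [Finite G] (p : ℕ) (hp : p.Prime) (χ : G → ℂ) (hχ : Cfsg.IsCharacter G χ) (hfaith : ∀ g : G, χ g = χ 1 → g = 1) (hrat : (∃ r : ℕ, 0 < r ∧ ¬ p ∣ r ∧ ∀ g : G, χ g ∈ IntermediateField.adjoin ℚ ({Complex.exp (2 * Real.pi * Complex.I / r)} : Set ℂ))) (n : ℕ) (hn : Cfsg.charDegree χ = n) : (Nat.card G).factorization p ≤ ∑ i ∈ Finset.range (n + 1), n / ((p - 1) * p ^ i) := by
  have : Fact p.Prime := ⟨hp⟩
  obtain ⟨r, -, hr, hval⟩ := hrat
  have hn' : χ 1 = n := by rw [← CfsgLib.CharBlocks.coe_charDegree hχ, hn]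
  refine (CfsgLib.CharNormal.Schur.factorization_le hχ hfaith hr hval hn').trans ?_
  set M := n / (p - 1)
  have hM : M < p ^ (n + 1) := (Nat.div_le_self n (p - 1)).trans_lt
    ((Nat.lt_succ_self n).trans_le (Nat.lt_pow_self hp.one_lt).le)
  have hlog : Nat.log p M < n + 1 := by
    rcases Nat.eq_zero_or_pos M with h | h
    · rw [h, Nat.log_zero_right]; omega
    · exact Nat.log_lt_of_lt_pow h.ne' hM
  rw [Nat.factorization_def _ hp, padicValNat_factorial hlog]
  simp_rw [← Nat.div_div_eq_div_mul]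
  rw [Finset.sum_range_succ', pow_zero, Nat.div_one]
  rw [Finset.sum_Ico_eq_sum_range, Nat.add_sub_cancel, add_comm]
  refine le_of_eq ?_
  congr 1
  exact Finset.sum_congr rfl fun i _ => by rw [add_comm 1 i]

end Cfsg.Agent.S4488
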