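import Cfsg.Statements.S4490
import Cfsg.Agent.Lib.BlockArith.RealBlock
import Cfsg.Agent.Lib.CharNormal.Galois

set_option autoImplicit false
open Cfsg

namespace Cfsg.Agent.S4490

/-- Let G be a finite group and M a maximal ideal of the algebraic integers containing 2. Every 2-block B of G whose defect groups are the Sylow 2-subgroups of G (a block of full defect) and which is not the principal block is different from its complex-conjugate block, the block formed by the complex conjugates of the members of B. -/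
theorem result {G : Type*} [Group G] [Finite G] (M : Ideal Cfsg.AlgInt) (hM : Cfsg.IsPModular 2 M) (B : Set (Cfsg.IrrCharacter G)) (hB : Cfsg.IsPBlock M B) (P : Sylow 2 G) (hfull : Cfsg.IsDefectGroup 2 M B (P : Subgroup G)) (hnp : B ≠ Cfsg.principalBlock M G) : {ψ : Cfsg.IrrCharacter G | ∃ χ ∈ B, (ψ : G → ℂ) = fun g => (starRingEnd ℂ) ((χ : G → ℂ) g)} ≠ B := by
  classical
  intro he
  have := Fintype.ofFinite G
  have := hM.2.1
  obtain ⟨g, ⟨hloc, hnid, -⟩, Q, hQ⟩ := hfull
  refine hnp (CfsgLib.BlockArith.eq_principalBlock_of_inv_invariant hM hB ?_ fun x _ => ?_)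
  · refine CfsgLib.BlockArith.res_blockCoeff_one_ne_zero_of_centralizer hM hB P (x₀ := g)
      (fun u hu => ?_) (fun h => hnid ((CfsgLib.Blocks.res_eq_zero_iff M _).mp h))
    have hu' : u ∈ Subgroup.centralizer ({g} : Set G) := Subgroup.map_subtype_le _ (hQ ▸ hu)
    exact Subgroup.mem_centralizer_singleton_iff.mp hu'
  · rw [CfsgLib.Blocks.blockCoeff_eq, CfsgLib.Blocks.blockCoeff_eq]
    congr 1
    rw [← Finset.sum_filter, ← Finset.sum_filter]
    let c : Cfsg.IrrCharacter G → Cfsg.IrrCharacter G := fun χ =>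
      CfsgLib.CharNormal.galIrr Complex.conjAe.toRingEquiv χ
    have hc : ∀ χ g, (c χ : G → ℂ) g = (starRingEnd ℂ) ((χ : G → ℂ) g) := fun χ g => rfl
    have hcc : ∀ χ, c (c χ) = χ := fun χ => Subtype.ext (funext fun g => by
      rw [hc, hc, Complex.conj_conj])
    have hmem : ∀ χ, χ ∈ B → c χ ∈ B := fun χ hχ => by
      rw [← he]
      exact ⟨χ, hχ, funext fun g => hc χ g⟩
    refine Finset.sum_nbij' c c (fun χ hχ => ?_) (fun χ hχ => ?_) (fun χ _ => hcc χ)
      (fun χ _ => hcc χ) (fun χ hχ => ?_)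
    · exact Finset.mem_filter.mpr ⟨Finset.mem_univ _, hmem _ (Finset.mem_filter.mp hχ).2⟩
    · exact Finset.mem_filter.mpr ⟨Finset.mem_univ _, hmem _ (Finset.mem_filter.mp hχ).2⟩
    · rw [hc, hc, CfsgLib.Char.char_conj_one (CfsgLib.Char.isCharacter_of_isIrr χ.2),
        Complex.conj_conj, CfsgLib.Char.char_inv (CfsgLib.Char.isCharacter_of_isIrr χ.2),
        Complex.conj_conj]

end Cfsg.Agent.S4490
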