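import Cfsg.Statements.S4491
import Cfsg.Agent.Lib.BlockArith.RegCoef

set_option autoImplicit false
open Cfsg

namespace Cfsg.Agent.S4491

/-- Let B be a p-block of defect d of the finite group G (relative to a maximal ideal M of the algebraic integers containing p), and let p^a be the p-part of the order of G. Then the exact power of p dividing the sum of the squares of the degrees of the irreducible characters in B is p^(2a − d). -/
theorem result {G : Type*} [Group G] [Finite G] (p : ℕ) [Fact p.Prime] (M : Ideal Cfsg.AlgInt) (hM : Cfsg.IsPModular p M) (B : Set (Cfsg.IrrCharacter G)) (hB : Cfsg.IsPBlock M B) : (∑ᶠ χ ∈ B, Cfsg.charDegree (χ : G → ℂ) ^ 2).factorization p = 2 * (Nat.card G).factorization p - Cfsg.blockDefect p B := by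
  classical
  have := hM.2.1
  have := Fintype.ofFinite G
  have hp : p.Prime := Fact.out
  obtain ⟨z, hz⟩ := CfsgLib.BlockArith.blockMat_vec (p := p) hM hB
  obtain ⟨χ₀, h₀, h0⟩ := CfsgLib.Blocks.exists_height_zero (p := p) hM hB
  set d := Cfsg.blockDefect p B with hd
  set a := (Nat.card G).factorization p with ha
  have hda : d ≤ a := CfsgLib.BlockArith.blockDefect_le
  let A := CfsgLib.BlockArith.blockMat (G := G) p B
  have hA : ∀ χ ψ, (χ ∉ B ∨ ψ ∉ B) → A χ ψ = 0 := fun χ ψ h => if_neg (by tauto)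
  set u : Cfsg.IrrCharacter G → ℤ := fun χ => ∑ ψ, A χ ψ * z ψ with hu
  set W : ℤ := ∑ χ : Cfsg.IrrCharacter G, z χ * u χ with hW
  have hsum : ((∑ᶠ χ ∈ B, Cfsg.charDegree (χ : G → ℂ) ^ 2 : ℕ) : ℤ) =
      (p : ℤ) ^ (2 * a - d) * W := by
    rw [finsum_mem_eq_finite_toFinset_sum _ (Set.toFinite B), Nat.cast_sum]
    rw [Finset.sum_congr rfl (g := fun χ => (p : ℤ) ^ (2 * (a - d)) * u χ ^ 2) fun χ hχ => by
      rw [Nat.cast_pow, ← hz χ ((Set.Finite.mem_toFinset _).mp hχ), mul_pow, ← pow_mul,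
        mul_comm (a - d)]]
    rw [← Finset.mul_sum, show 2 * a - d = 2 * (a - d) + d by omega, pow_add, mul_assoc]
    congr 1
    rw [Finset.sum_subset (Finset.subset_univ _) (fun χ _ hχ => by
      rw [show u χ = 0 from Finset.sum_eq_zero fun ψ _ => by
        rw [hA χ ψ (.inl fun h => hχ ((Set.Finite.mem_toFinset _).mpr h)), zero_mul]]; simp)]
    calc ∑ χ, u χ ^ 2 = ∑ χ, ∑ ψ, ∑ η, z ψ * z η * (A ψ χ * A χ η) := by
          refine Finset.sum_congr rfl fun χ _ => ?_
          rw [sq, hu, Finset.sum_mul_sum]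
          refine Finset.sum_congr rfl fun ψ _ => Finset.sum_congr rfl fun η _ => ?_
          rw [show A χ ψ = A ψ χ from CfsgLib.BlockArith.blockMat_symm χ ψ]
          ring
      _ = ∑ ψ, ∑ η, z ψ * z η * ∑ χ, A ψ χ * A χ η := by
          rw [Finset.sum_comm]
          refine Finset.sum_congr rfl fun ψ _ => ?_
          rw [Finset.sum_comm]
          exact Finset.sum_congr rfl fun η _ => (Finset.mul_sum ..).symm
      _ = (p : ℤ) ^ d * W := by
          simp only [hW, hu, Finset.mul_sum]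
          refine Finset.sum_congr rfl fun ψ _ => Finset.sum_congr rfl fun η _ => ?_
          by_cases h : ψ ∈ B ∧ η ∈ B
          · rw [← Finset.mul_sum, CfsgLib.BlockArith.blockMat_sum_mul hM hB h.1 h.2]
            ring
          · rw [hA ψ η (by tauto)]
            simp only [mul_zero, zero_mul]
            refine Finset.sum_eq_zero fun χ _ => ?_
            rcases not_and_or.mp h with h | h <;> simp [hA, h]
  -- modulo p
  have hu0 : ¬ (p : ℤ) ∣ u χ₀ := by
    rintro ⟨t, ht⟩
    have h1 := hz χ₀ h₀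
    rw [show ∑ ψ, CfsgLib.BlockArith.blockMat p B χ₀ ψ * z ψ = u χ₀ from rfl, ht, ← mul_assoc,
      ← pow_succ] at h1
    have h2 : p ^ (a - d + 1) ∣ Cfsg.charDegree (χ₀ : G → ℂ) :=
      Int.natCast_dvd_natCast.mp ⟨t, by push_cast; exact h1.symm⟩
    rw [hp.pow_dvd_iff_le_factorization (CfsgLib.Blocks.charDegree_ne_zero _),
      CfsgLib.BlockArith.degree_factorization hM hB h₀, h0, ← ha, ← hd] at h2
    omega
  have hWnd : ¬ (p : ℤ) ∣ W := by
    obtain ⟨L, hL, hAL⟩ := CfsgLib.BlockArith.res_blockMat (p := p) hM hB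
    set m := ((Nat.card G / p ^ (Nat.card G).factorization p : ℕ) : CfsgLib.Blocks.Res M)
    let k : Cfsg.IrrCharacter G → CfsgLib.Blocks.Res M := fun χ =>
      if χ ∈ B then CfsgLib.Blocks.kappa M p B χ else 0
    set K := ∑ χ, (z χ : CfsgLib.Blocks.Res M) * k χ with hK
    have hk : ∀ χ ψ, (A χ ψ : CfsgLib.Blocks.Res M) * m = k χ * (k ψ * L) := fun χ ψ => by
      by_cases h : χ ∈ B ∧ ψ ∈ B
      · simp only [k, if_pos h.1, if_pos h.2]; exact hAL χ h.1 ψ h.2
      · rw [hA χ ψ (by tauto), Int.cast_zero, zero_mul]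
        rcases not_and_or.mp h with h | h <;> simp [k, h]
    have hu' : ∀ χ, (u χ : CfsgLib.Blocks.Res M) * m = k χ * (K * L) := fun χ => by
      simp only [hu, hK, Int.cast_sum, Int.cast_mul, Finset.sum_mul, Finset.mul_sum]
      exact Finset.sum_congr rfl fun ψ _ => by linear_combination (z ψ : CfsgLib.Blocks.Res M) * hk χ ψ
    have hW' : (W : CfsgLib.Blocks.Res M) * m = K * (K * L) :=
      calc (W : CfsgLib.Blocks.Res M) * m
          = ∑ χ, ((z χ : CfsgLib.Blocks.Res M) * ((u χ : CfsgLib.Blocks.Res M) * m)) := by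
            rw [hW, Int.cast_sum, Finset.sum_mul]
            exact Finset.sum_congr rfl fun χ _ => by rw [Int.cast_mul, mul_assoc]
        _ = ∑ χ, ((z χ : CfsgLib.Blocks.Res M) * k χ * (K * L)) :=
            Finset.sum_congr rfl fun χ _ => by rw [hu', mul_assoc]
        _ = K * (K * L) := (Finset.sum_mul ..).symm
    intro hdvd
    have hW0 : (W : CfsgLib.Blocks.Res M) = 0 :=
      (CfsgLib.Blocks.res_intCast_eq_zero_iff M hM W).mpr hdvd |>
        fun h => by rwa [map_intCast] at h
    have hm : m ≠ 0 := fun h => Nat.not_dvd_ordCompl hp Nat.card_pos.ne'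
      ((CfsgLib.Blocks.res_natCast_eq_zero_iff M hM _).mp (by rwa [map_natCast]))
    have hK0 : K ≠ 0 := fun h => hu0 ((CfsgLib.Blocks.res_intCast_eq_zero_iff M hM _).mp (by
      rw [map_intCast]
      have := hu' χ₀
      rw [h, zero_mul, mul_zero] at this
      exact (mul_eq_zero.mp this).resolve_right hm))
    rw [hW0, zero_mul] at hW'
    exact mul_ne_zero hK0 (mul_ne_zero hK0 hL) hW'.symm
  have hne : W ≠ 0 := fun h => hWnd (h ▸ dvd_zero _)
  rw [show (∑ᶠ χ ∈ B, Cfsg.charDegree (χ : G → ℂ) ^ 2) = p ^ (2 * a - d) * W.natAbs by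
    have := congrArg Int.natAbs hsum
    rwa [Int.natAbs_natCast, Int.natAbs_mul, Int.natAbs_pow, Int.natAbs_natCast] at this]
  rw [Nat.factorization_mul (pow_ne_zero _ hp.ne_zero) (Int.natAbs_ne_zero.mpr hne),
    Finsupp.add_apply, hp.factorization_pow, Finsupp.single_eq_same,
    Nat.factorization_eq_zero_of_not_dvd (fun h => hWnd (Int.natCast_dvd.mpr h)), add_zero]

end Cfsg.Agent.S4491
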