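import Cfsg.Statements.S4495
import Cfsg.Agent.Lib.BlockArith.SelfCentralDerived
import Cfsg.Agent.Lib.Blocks.ExtraThree.Fusion
import Cfsg.Agent.Lib.OddLocal.Ten.Complement

set_option autoImplicit false
open Cfsg
open scoped commutatorElement

namespace Cfsg.Agent.S4495

/-- Let the finite group G contain an element x of prime order p with C_G(x) = ⟨x⟩, and let t be the number of conjugacy classes of elements of order p. If t ≠ p − 1 then the commutator subgroup has index at most (p − 1)/t; if t = p − 1 it has index exactly p. -/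
theorem result {G : Type*} [Group G] [Finite G] (p : ℕ) (hp : p.Prime) (x : G) (hx : orderOf x = p) (hC : Subgroup.centralizer ({x} : Set G) = Subgroup.zpowers x) (t : ℕ) (ht : Nat.card {C : ConjClasses G // ∃ g ∈ C.carrier, orderOf g = p} = t) : (t ≠ p - 1 → (commutator G).index * t ≤ p - 1) ∧ (t = p - 1 → (commutator G).index = p) := by
  classical
  haveI : Fact p.Prime := ⟨hp⟩
  have := Fintype.ofFinite G
  obtain ⟨P, hP⟩ := CfsgLib.BlockArith.sylow_eq_zpowers hx hC
  set N := Subgroup.normalizer ((P : Subgroup G) : Set G) with hN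
  have hPc : Nat.card (P : Subgroup G) = p := by rw [hP, Nat.card_zpowers, hx]
  have hgen : ∀ y ∈ (P : Subgroup G), y ≠ 1 → Subgroup.zpowers y = (P : Subgroup G) := by
    intro y hy hy1
    refine Subgroup.eq_of_le_of_card_ge (Subgroup.zpowers_le.2 hy) ?_
    rw [hPc, Nat.card_zpowers]
    have hd : orderOf y ∣ p := hPc ▸ Subgroup.orderOf_dvd_natCard _ hy
    rcases (Nat.dvd_prime hp).1 hd with h | h
    · exact absurd (orderOf_eq_one_iff.1 h) hy1
    · exact h.ge
  set e := (P : Subgroup G).relIndex N with he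
  set X : Finset G := Finset.univ.filter fun w => w ∈ (P : Subgroup G) ∧ w ≠ 1 with hX
  have hXc : X.card = p - 1 := by
    have h1 : X = (Finset.univ.filter fun w => w ∈ (P : Subgroup G)).erase 1 := by
      ext w; simp [hX, and_comm]
    rw [h1, Finset.card_erase_of_mem (by simp [one_mem]), ← Fintype.card_subtype,
      ← Nat.card_eq_fintype_card]
    exact congrArg (· - 1) hPc
  have hord : ∀ w ∈ X, orderOf w = p := by
    intro w hw
    obtain ⟨hwP, hw1⟩ := (Finset.mem_filter.1 hw).2
    rw [← Nat.card_zpowers, hgen w hwP hw1, hPc]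
  have hfib : ∀ y ∈ X, (X.filter fun w => ConjClasses.mk w = ConjClasses.mk y).card = e := by
    intro y hy
    obtain ⟨hyP, hy1⟩ := (Finset.mem_filter.1 hy).2
    have hCy : N ⊓ Subgroup.centralizer ({y} : Set G) = (P : Subgroup G) := by
      refine le_antisymm (fun w hw => ?_) (le_inf Subgroup.le_normalizer ?_)
      · obtain ⟨k, hk⟩ := Subgroup.mem_zpowers_iff.1
          (show x ∈ Subgroup.zpowers y by rw [hgen y hyP hy1, hP]; exact Subgroup.mem_zpowers x)
        rw [hP, ← hC, Subgroup.mem_centralizer_singleton_iff, ← hk]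
        exact (Commute.zpow_right (show Commute w y from
          Subgroup.mem_centralizer_singleton_iff.1 hw.2) k).eq
      · intro w hw
        rw [Subgroup.mem_centralizer_singleton_iff]
        obtain ⟨i, rfl⟩ := Subgroup.mem_zpowers_iff.1 (hP ▸ hw)
        obtain ⟨j, rfl⟩ := Subgroup.mem_zpowers_iff.1 (hP ▸ hyP)
        exact ((Commute.refl x).zpow_zpow i j).eq
    rw [he]
    conv_rhs => rw [← hCy]
    rw [CfsgLib.Blocks.ExtraThree.relIndex_centralizer_eq, ← Nat.card_eq_finsetCard]
    refine Nat.card_congr (Equiv.subtypeEquivRight fun w => ?_)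
    simp only [Finset.mem_filter, hX, Finset.mem_univ, true_and, ConjClasses.mk_eq_mk_iff_isConj]
    constructor
    · rintro ⟨⟨hw, hw1⟩, hc⟩
      obtain ⟨g, hg⟩ := isConj_iff.1 hc.symm
      refine ⟨g, Subgroup.mem_normalizer_fintype fun v hv => ?_, hg⟩
      obtain ⟨i, rfl⟩ := Subgroup.mem_zpowers_iff.1 ((hgen y hyP hy1).symm ▸ hv)
      show g * y ^ i * g⁻¹ ∈ (P : Subgroup G)
      rw [← conj_zpow, hg]
      exact zpow_mem hw i
    · rintro ⟨n, hn, rfl⟩
      exact ⟨⟨(Subgroup.mem_normalizer_iff.1 hn y).1 hyP, fun h => hy1 (conj_eq_one_iff.1 h)⟩,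
        (isConj_iff.2 ⟨n, rfl⟩).symm⟩
  have hte : t * e = p - 1 := by
    have hcard : (X.image ConjClasses.mk).card = t := by
      rw [← ht, ← Nat.card_eq_finsetCard]
      refine Nat.card_congr (Equiv.subtypeEquivRight fun C => ?_)
      constructor
      · intro hC'
        obtain ⟨w, hw, rfl⟩ := Finset.mem_image.1 hC'
        exact ⟨w, ConjClasses.mem_carrier_mk, hord w hw⟩
      · rintro ⟨g, hg, hgo⟩
        obtain ⟨Q, hQ⟩ := (IsPGroup.of_card (n := 1) (G := Subgroup.zpowers g)
          (by rw [Nat.card_zpowers, hgo, pow_one])).exists_le_sylow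
        obtain ⟨c, hc⟩ := MulAction.exists_smul_eq G Q P
        have hmem : c * g * c⁻¹ ∈ (P : Subgroup G) := by
          rw [← hc, Sylow.coe_subgroup_smul]
          exact ⟨g, hQ (Subgroup.mem_zpowers g), rfl⟩
        refine Finset.mem_image.2 ⟨c * g * c⁻¹, Finset.mem_filter.2 ⟨Finset.mem_univ _, hmem,
          fun h => ?_⟩, ?_⟩
        · rw [conj_eq_one_iff.1 h, orderOf_one] at hgo
          exact hp.ne_one hgo.symm
        · rw [← ConjClasses.mem_carrier_iff_mk_eq.1 hg]
          exact (ConjClasses.mk_eq_mk_iff_isConj.2 (isConj_iff.2 ⟨c, rfl⟩)).symm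
    have h := Finset.card_eq_sum_card_image ConjClasses.mk X
    rw [Finset.sum_congr rfl fun C hC' => show _ = e from (by
      obtain ⟨w, hw, rfl⟩ := Finset.mem_image.1 hC'
      exact hfib w hw), Finset.sum_const, smul_eq_mul, hcard, hXc] at h
    exact h.symm
  have hp1 : 0 < p - 1 := by have := hp.two_le; omega
  constructor
  · intro htne
    have he1 : e ≠ 1 := fun h => htne (by rw [h, mul_one] at hte; exact hte)
    obtain ⟨n, hn, hnP⟩ : ∃ n ∈ N, n ∉ (P : Subgroup G) := by
      by_contra hcon
      simp only [not_exists, not_and, not_not] at hcon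
      exact he1 (Subgroup.relIndex_eq_one.2 hcon)
    have hxP : x ∈ (P : Subgroup G) := hP ▸ Subgroup.mem_zpowers x
    have hcm : n * x * n⁻¹ * x⁻¹ ∈ commutator G := by
      have h := Subgroup.commutator_mem_commutator (H₁ := (⊤ : Subgroup G)) (H₂ := ⊤)
        (Subgroup.mem_top n) (Subgroup.mem_top x)
      rwa [commutatorElement_def] at h
    have hne : n * x * n⁻¹ * x⁻¹ ≠ 1 := fun h => hnP (by
      rw [hP, ← hC, Subgroup.mem_centralizer_singleton_iff]
      exact mul_inv_eq_iff_eq_mul.1 (mul_inv_eq_one.1 h))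
    have hPle : (P : Subgroup G) ≤ commutator G := by
      rw [← hgen _ (mul_mem ((Subgroup.mem_normalizer_iff.1 hn x).1 hxP) (inv_mem hxP)) hne]
      exact Subgroup.zpowers_le.2 hcm
    have hF : N ⊔ commutator G = ⊤ := Sylow.normalizer_sup_eq_top' P hPle
    have h1 : (commutator G).index = (commutator G).relIndex N := by
      rw [← Subgroup.relIndex_top_right, ← hF, Subgroup.relIndex_sup_right]
    have h2 : (commutator G).relIndex N ≤ e :=
      Nat.le_of_dvd (Nat.pos_of_ne_zero (by rintro h; rw [h, mul_zero] at hte; omega))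
        (Subgroup.relIndex_dvd_of_le_left N hPle)
    calc (commutator G).index * t ≤ e * t := Nat.mul_le_mul_right t (h1 ▸ h2)
      _ = p - 1 := by rw [mul_comm, hte]
  · intro htp
    have he1 : e = 1 := by
      rw [htp] at hte
      exact Nat.eq_of_mul_eq_mul_left hp1 (hte.trans (mul_one _).symm)
    have hNC' : N ≤ Subgroup.centralizer ((P : Subgroup G) : Set G) := by
      intro n hn
      rw [Subgroup.mem_centralizer_iff]
      intro w hw
      obtain ⟨i, rfl⟩ := Subgroup.mem_zpowers_iff.1 (hP ▸ hw)
      obtain ⟨j, rfl⟩ := Subgroup.mem_zpowers_iff.1 (hP ▸ Subgroup.relIndex_eq_one.1 he1 hn)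
      exact ((Commute.refl x).zpow_zpow i j).eq
    obtain ⟨k, hk⟩ := CfsgLib.OddLocal.Ten.index_pPrimeCore_eq_pow
      (CfsgLib.Transfer.hasNormalPComplement_of_normalizer_le_centralizer P hNC')
    set K := Cfsg.pPrimeCore p G with hK
    have hKn : K.Normal := by
      have := CfsgLib.Cores.pPrimeCore_characteristic (G := G) p
      exact inferInstance
    have hidx : K.index = p := by
      have h1 := K.card_mul_index
      have h2 := P.card_eq_multiplicity
      rw [hPc, ← h1, hk, Nat.factorization_mul Nat.card_pos.ne' (pow_ne_zero _ hp.ne_zero),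
        Finsupp.add_apply, Nat.factorization_eq_zero_of_not_dvd
          (CfsgLib.SelfCentralDerived.not_dvd_card_core p), zero_add,
        hp.factorization_pow, Finsupp.single_eq_same] at h2
      rw [hk, ← h2]
    have hle : commutator G ≤ K := by
      haveI : Fact p.Prime := ⟨hp⟩
      have hcyc : IsCyclic (G ⧸ K) := isCyclic_of_prime_card (p := p) (by rw [← Subgroup.index_eq_card, hidx])
      rw [commutator_def, Subgroup.commutator_le]
      intro a _ b _
      refine (QuotientGroup.eq_one_iff _).1 ?_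
      show (QuotientGroup.mk' K) ⁅a, b⁆ = 1
      rw [map_commutatorElement, commutatorElement_eq_one_iff_mul_comm]
      exact (hcyc.commGroup).mul_comm _ _
    rw [le_antisymm hle (CfsgLib.SelfCentralDerived.core_le_commutator hx hC), hidx]


end Cfsg.Agent.S4495
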