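import Cfsg.Statements.S4497
import Cfsg.Agent.S4495
import Cfsg.Agent.Lib.BlockArith.SelfCentralDerived

set_option autoImplicit false
open Cfsg

namespace Cfsg.Agent.S4497


theorem dvd_or_eq {G : Type*} [Group G] [Finite G] {p : ℕ} [hp : Fact p.Prime] {x : G} (hx : orderOf x = p)
    (hC : Subgroup.centralizer ({x} : Set G) = Subgroup.zpowers x) {t : ℕ}
    (ht : Nat.card {C : ConjClasses G // ∃ g ∈ C.carrier, orderOf g = p} = t) :
    t ≤ p - 1 ∧ (t ≠ p - 1 → p ∣ Nat.card (commutator G)) ∧ (t = p - 1 → ¬ p ∣ Nat.card (commutator G)) := by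
  obtain ⟨h1, h2⟩ := Cfsg.Agent.S4495.result p hp.out x hx hC t ht
  have ht0 : 0 < t := by
    rw [← ht]
    have : Nonempty {C : ConjClasses G // ∃ g ∈ C.carrier, orderOf g = p} :=
      ⟨⟨ConjClasses.mk x, x, ConjClasses.mem_carrier_mk, hx⟩⟩
    exact Nat.card_pos
  have hi : 0 < (commutator G).index := Nat.pos_of_ne_zero Subgroup.index_ne_zero_of_finite
  have hmul := (commutator G).card_mul_index
  refine ⟨?_, fun h => ?_, fun h hd => ?_⟩
  · by_cases h : t = p - 1
    · exact h.le
    · exact (Nat.le_mul_of_pos_left t hi).trans (h1 h)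
  · have hd : p ∣ Nat.card G := hx ▸ orderOf_dvd_natCard x
    rw [← hmul] at hd
    refine (hp.out.dvd_mul.mp hd).resolve_right fun hd' => ?_
    have := Nat.le_of_dvd hi hd'
    have := (Nat.le_mul_of_pos_right (commutator G).index ht0).trans (h1 h)
    have := hp.out.one_lt
    omega
  · obtain ⟨P, hP⟩ := CfsgLib.BlockArith.sylow_eq_zpowers hx hC
    refine P.not_dvd_index ?_
    obtain ⟨k, hk⟩ := hd
    rw [h2 h, hk, ← (P : Subgroup G).card_mul_index, hP, Nat.card_zpowers, hx, mul_assoc] at hmul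
    exact ⟨k, by rw [hP, ← Nat.eq_of_mul_eq_mul_left hp.out.pos hmul, mul_comm]⟩

/-- Let the finite group G contain an element x of prime order p with C_G(x) = ⟨x⟩, let t be the number of conjugacy classes of elements of order p, and let S* = O_{p′}(G) be the largest normal subgroup of order prime to p. Then S* ≤ G′; if t ≠ p − 1 the quotient G′/S* is simple (in particular non-trivial); if t = p − 1 then G′ = S*. -/
theorem result {G : Type*} [Group G] [Finite G] (p : ℕ) (hp : p.Prime) (x : G) (hx : orderOf x = p) (hC : Subgroup.centralizer ({x} : Set G) = Subgroup.zpowers x) (t : ℕ) (ht : Nat.card {C : ConjClasses G // ∃ g ∈ C.carrier, orderOf g = p} = t) : Cfsg.pPrimeCore p G ≤ commutator G ∧ (t ≠ p - 1 → ∀ h : ((Cfsg.pPrimeCore p G).subgroupOf (commutator G)).Normal, IsSimpleGroup (↥(commutator G) ⧸ (Cfsg.pPrimeCore p G).subgroupOf (commutator G))) ∧ (t = p - 1 → commutator G = Cfsg.pPrimeCore p G) := by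

  have : Fact p.Prime := ⟨hp⟩
  obtain ⟨-, h1, h2⟩ := dvd_or_eq hx hC ht
  exact ⟨CfsgLib.SelfCentralDerived.core_le_commutator hx hC,
    fun h hn => CfsgLib.SelfCentralDerived.simple_quotient hx hC (h1 h),
    fun h => CfsgLib.SelfCentralDerived.commutator_eq_core hx hC (h2 h)⟩


end Cfsg.Agent.S4497
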