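import Cfsg.Statements.S4498
import Cfsg.Agent.Lib.BlockArith.RegInd
import Mathlib.GroupTheory.Perm.Cycle.Type

set_option autoImplicit false
open Cfsg

namespace Cfsg.Agent.S4498

/-- Let p and q be distinct primes dividing the order of the finite group G, and suppose G has no element of order p·q. Fix maximal ideals M_p over p and M_q over q of the algebraic integers. Then the principal p-block and the principal q-block of G have a non-principal irreducible character in common. -/
theorem result {G : Type*} [Group G] [Finite G] (p q : ℕ) [Fact p.Prime] [Fact q.Prime] (hpq : p ≠ q) (hp : p ∣ Nat.card G) (hq : q ∣ Nat.card G) (hno : ∀ g : G, orderOf g ≠ p * q) (Mp Mq : Ideal Cfsg.AlgInt) (hMp : Cfsg.IsPModular p Mp) (hMq : Cfsg.IsPModular q Mq) : ∃ χ : Cfsg.IrrCharacter G, (χ : G → ℂ) ≠ (fun _ => 1) ∧ χ ∈ Cfsg.principalBlock Mp G ∧ χ ∈ Cfsg.principalBlock Mq G := by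
  classical
  have := Fintype.ofFinite G
  have hp' := Fact.out (p := p.Prime)
  have hq' := Fact.out (p := q.Prime)
  by_contra hne
  push Not at hne
  let u : G → ℂ := CfsgLib.BlockArith.regInd p
  let v : G → ℂ := CfsgLib.BlockArith.regInd q
  have hu : Cfsg.IsClassFunction G u := CfsgLib.BlockArith.isClassFunction_regInd p
  have hone : ∀ χ : Cfsg.IrrCharacter G, χ ≠ CfsgLib.Char.irrOne →
      Cfsg.classInner u χ * (starRingEnd ℂ) (Cfsg.classInner v χ) = 0 := by
    intro χ hχ
    by_contra h
    obtain ⟨h1, h2⟩ := mul_ne_zero_iff.mp h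
    have hp1 := CfsgLib.BlockArith.mem_principalBlock_of_classInner_regInd hMp χ fun h0 => h1 (by
      rw [← CfsgLib.Char.classInner_conj_symm (χ : G → ℂ) u, h0, map_zero])
    have hq1 := CfsgLib.BlockArith.mem_principalBlock_of_classInner_regInd hMq χ fun h0 => h2 (by
      rw [CfsgLib.Char.classInner_conj_symm, h0])
    exact hne χ (fun h' => hχ (Subtype.ext h')) hp1 hq1
  have hin := CfsgLib.Char.classInner_eq_sum (f' := v) hu
  rw [Finset.sum_eq_single CfsgLib.Char.irrOne (fun χ _ hχ => hone χ hχ) (by simp)] at hin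
  set a := (Finset.univ.filter fun g : G => ¬ p ∣ orderOf g).card with ha
  set b := (Finset.univ.filter fun g : G => ¬ q ∣ orderOf g).card with hb
  set c := (Finset.univ.filter fun g : G => ¬ p ∣ orderOf g ∧ ¬ q ∣ orderOf g).card with hc
  have e1 : Cfsg.classInner u (CfsgLib.Char.irrOne (G := G) : G → ℂ) =
      (a : ℂ) / (Nat.card G : ℂ) := by
    rw [eq_div_iff CfsgLib.Char.card_ne_zero', mul_comm, CfsgLib.Char.card_mul_classInner, ha,
      Finset.natCast_card_filter]
    exact Finset.sum_congr rfl fun g _ => by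
      simp only [u, CfsgLib.BlockArith.regInd, CfsgLib.Char.irrOne_apply]; split_ifs <;> simp_all
  have e2 : Cfsg.classInner v (CfsgLib.Char.irrOne (G := G) : G → ℂ) =
      (b : ℂ) / (Nat.card G : ℂ) := by
    rw [eq_div_iff CfsgLib.Char.card_ne_zero', mul_comm, CfsgLib.Char.card_mul_classInner, hb,
      Finset.natCast_card_filter]
    exact Finset.sum_congr rfl fun g _ => by
      simp only [v, CfsgLib.BlockArith.regInd, CfsgLib.Char.irrOne_apply]; split_ifs <;> simp_all
  have e3 : Cfsg.classInner u v = (c : ℂ) / (Nat.card G : ℂ) := by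
    rw [eq_div_iff CfsgLib.Char.card_ne_zero', mul_comm, CfsgLib.Char.card_mul_classInner, hc,
      Finset.natCast_card_filter]
    exact Finset.sum_congr rfl fun g _ => by
      simp only [u, v, CfsgLib.BlockArith.regInd]; split_ifs <;> simp_all
  rw [e1, e2, e3, map_div₀, map_natCast, map_natCast] at hin
  have hG : (Nat.card G : ℂ) ≠ 0 := CfsgLib.Char.card_ne_zero'
  field_simp at hin
  have h4 : c * Nat.card G = a * b := by exact_mod_cast hin
  -- counting the singular elements
  set A := (Finset.univ.filter fun g : G => p ∣ orderOf g).card with hA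
  set B := (Finset.univ.filter fun g : G => q ∣ orderOf g).card with hB
  have hAa : A + a = Nat.card G := by
    rw [hA, ha, Finset.card_filter_add_card_filter_not, Finset.card_univ,
      Nat.card_eq_fintype_card]
  have hBb : B + b = Nat.card G := by
    rw [hB, hb, Finset.card_filter_add_card_filter_not, Finset.card_univ,
      Nat.card_eq_fintype_card]
  have hABc : A + B + c = Nat.card G := by
    have hd : ∀ g : G, ¬ (p ∣ orderOf g ∧ q ∣ orderOf g) := by
      rintro g ⟨h1, h2⟩
      have hpq' : p * q ∣ orderOf g := ((Nat.coprime_primes hp' hq').mpr hpq).mul_dvd_of_dvd_of_dvd h1 h2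
      refine hno (g ^ (orderOf g / (p * q))) ?_
      exact orderOf_pow_orderOf_div (orderOf_pos g).ne' hpq'
    rw [Nat.card_eq_fintype_card, hA, hB, hc, Finset.card_eq_sum_ones, Finset.card_eq_sum_ones,
      Finset.card_eq_sum_ones, ← Finset.card_univ, Finset.card_eq_sum_ones,
      Finset.sum_filter, Finset.sum_filter, Finset.sum_filter, ← Finset.sum_add_distrib,
      ← Finset.sum_add_distrib]
    refine Finset.sum_congr rfl fun g _ => ?_
    have := hd g
    split_ifs <;> simp_all
  have hA1 : 1 ≤ A := by
    obtain ⟨g, hg⟩ := exists_prime_orderOf_dvd_card' p hp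
    exact Finset.card_pos.mpr ⟨g, by simp [hg]⟩
  have hB1 : 1 ≤ B := by
    obtain ⟨g, hg⟩ := exists_prime_orderOf_dvd_card' q hq
    exact Finset.card_pos.mpr ⟨g, by simp [hg]⟩
  nlinarith [Nat.mul_le_mul hA1 hB1]

end Cfsg.Agent.S4498
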