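import Cfsg.Statements.S4500
import Cfsg.Agent.S4710
import Cfsg.Agent.Lib.Blocks.Orth
import Cfsg.Agent.Lib.Blocks.GaloisInv
import Cfsg.Agent.Lib.Blocks.PrincipalSection
import Cfsg.Agent.Lib.Char.Burnside
import Cfsg.Agent.Lib.Char.Linear
import Cfsg.Agent.Lib.CharBlocks.Degree

set_option autoImplicit false
open Cfsg

namespace Cfsg.Agent.S4500

open CfsgLib.Char CfsgLib.Blocks
open scoped ComplexConjugate

theorem main {G : Type*} [Group G] [Finite G] [Nontrivial G] (p q r a b c : ℕ) (hp : p.Prime)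
    (hq : q.Prime) (hr : r.Prime) (hpq : p ≠ q) (hpr : p ≠ r) (ha : a ≤ 2)
    (hG : Nat.card G = p ^ a * q ^ b * r ^ c) :
    ∃ χ : IrrCharacter G, (χ : G → ℂ) ≠ (fun _ => 1) ∧ ∃ k : ℕ, charDegree (χ : G → ℂ) = q ^ k := by
  classical
  let _ := Fintype.ofFinite G
  rcases Nat.eq_zero_or_pos a with rfl | ha0
  · -- solvable: a nontrivial linear character
    have hs : Group.IsSolvable G :=
      isSolvable_of_card_eq_pow_mul_pow hq hr (a := b) (b := c) (by rw [hG, pow_zero, one_mul])
    have hlt := Group.IsSolvable.commutator_lt_top_of_nontrivial G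
    have hcard : 1 < Nat.card {χ : IrrCharacter G // (χ : G → ℂ) 1 = 1} := by
      rw [card_linear]
      exact (Nat.one_lt_iff_ne_zero_and_ne_one).mpr
        ⟨Subgroup.index_ne_zero_of_finite, fun h => hlt.ne (Subgroup.index_eq_one.mp h)⟩
    obtain ⟨⟨χ, hχ⟩, ⟨η, hη⟩, hne⟩ := (Finite.one_lt_card_iff_nontrivial.mp hcard)
    by_cases h : (χ : G → ℂ) = fun _ => 1
    · refine ⟨η, fun h' => hne (Subtype.ext (Subtype.ext (h.trans h'.symm))), 0, ?_⟩
      rw [pow_zero]
      exact_mod_cast (CfsgLib.CharBlocks.coe_charDegree_irr η).trans hη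
    · refine ⟨χ, h, 0, ?_⟩
      rw [pow_zero]
      exact_mod_cast (CfsgLib.CharBlocks.coe_charDegree_irr χ).trans hχ
  · have := Fact.mk hp
    obtain ⟨M, hM⟩ := exists_isPModular hp
    have := hM.2.1
    set B := principalBlock M G with hBdef
    have hB : IsPBlock M B := isPBlock_principalBlock
    have h1B : (irrOne : IrrCharacter G) ∈ B := irrOne_mem_principalBlock
    have hpa : (Nat.card G).factorization p ≤ 2 := by
      by_contra hc
      have h1 : p ^ 3 ∣ p ^ a * (q ^ b * r ^ c) := by
        rw [← mul_assoc, ← hG]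
        exact (pow_dvd_pow p (by omega)).trans (Nat.ordProj_dvd _ p)
      have h2 : Nat.Coprime (p ^ 3) (q ^ b * r ^ c) :=
        Nat.Coprime.mul_right (((Nat.coprime_primes hp hq).mpr hpq).pow 3 b)
          (((Nat.coprime_primes hp hr).mpr hpr).pow 3 c)
      exact absurd ((Nat.pow_dvd_pow_iff_le_right hp.one_lt).mp (h2.dvd_of_dvd_mul_right h1)) (by omega)
    have hsInf : sInf ((fun χ : IrrCharacter G => (charDegree (χ : G → ℂ)).factorization p) '' B) = 0 :=
      Nat.sInf_eq_zero.mpr (Or.inl ⟨irrOne, h1B, by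
        show (charDegree ((irrOne : IrrCharacter G) : G → ℂ)).factorization p = 0
        rw [show ((irrOne : IrrCharacter G) : G → ℂ) = fun _ => 1 from funext irrOne_apply,
          CfsgLib.Blocks.charDegree_one]
        simp⟩)
    have hd : blockDefect p B = (Nat.card G).factorization p := by
      rw [blockDefect, hsInf, Nat.sub_zero]
    have hdeg : ∀ χ ∈ B, (charDegree (χ : G → ℂ)).factorization p = 0 := fun χ hχ => by
      have h := (Cfsg.Agent.S4710.result p M hM B hB _ hd).2 χ hχ
      rw [blockHeight, hsInf, Nat.sub_zero] at h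
      rcases Nat.lt_or_ge ((Nat.card G).factorization p) 2 with h2 | h2
      · exact h.1 (by omega)
      · have := h.2 h2; omega
    have hpG : p ∣ Nat.card G := by
      rw [hG, mul_assoc]; exact (dvd_pow_self p (by omega)).mul_right _
    obtain ⟨x, hx⟩ := exists_prime_orderOf_dvd_card' p hpG
    have horth := weak_orthogonality hM hB (x := 1) (y := x)
      (by rw [orderOf_one]; exact hp.not_dvd_one) (by rw [hx])
    by_contra hno
    push Not at hno
    have hdvd : ∀ χ ∈ B, χ ≠ irrOne → r ∣ charDegree (χ : G → ℂ) := fun χ hχ hne => by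
      by_contra hr'
      have hne' : (χ : G → ℂ) ≠ fun _ => 1 := fun h =>
        hne (Subtype.ext (h.trans (funext fun g => (irrOne_apply g).symm)))
      have hnd := CfsgLib.CharBlocks.charDegree_dvd_card χ.2
      rw [hG, mul_comm (p ^ a), mul_assoc] at hnd
      have hp' : ¬ p ∣ charDegree (χ : G → ℂ) := fun h => by
        have := hdeg χ hχ
        have h0 : charDegree (χ : G → ℂ) ≠ 0 := fun h0 => hr' (h0 ▸ dvd_zero r)
        exact absurd (hp.factorization_pos_of_dvd h0 h) (by omega)
      have hcop : (charDegree (χ : G → ℂ)).Coprime (p ^ a * r ^ c) :=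
        Nat.Coprime.mul_right (((hp.coprime_iff_not_dvd.mpr hp').symm).pow_right a)
          (((hr.coprime_iff_not_dvd.mpr hr').symm).pow_right c)
      obtain ⟨k, -, hk⟩ := (Nat.dvd_prime_pow hq).mp (hcop.dvd_of_dvd_mul_right hnd)
      exact hno χ hne' k hk
    choose u hu using fun χ : IrrCharacter G =>
      show ∃ u : ℕ, χ ∈ B → χ ≠ irrOne → charDegree (χ : G → ℂ) = r * u from by
        by_cases h : χ ∈ B ∧ χ ≠ irrOne
        · obtain ⟨u, hu⟩ := hdvd χ h.1 h.2
          exact ⟨u, fun _ _ => hu⟩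
        · exact ⟨0, fun h1 h2 => absurd ⟨h1, h2⟩ h⟩
    set T : ℂ := ∑ η : IrrCharacter G,
      if η ∈ B ∧ η ≠ irrOne then (u η : ℂ) * conj ((η : G → ℂ) x) else 0 with hT
    have hTint : IsIntegral ℤ T := by
      refine IsIntegral.sum _ fun η _ => ?_
      split_ifs
      · rw [← char_inv (isCharacter_of_isIrr η.2)]
        exact IsIntegral.mul (map_natCast (algebraMap ℤ ℂ) _ ▸ isIntegral_algebraMap)
          (char_isIntegral (isCharacter_of_isIrr η.2) _)
      · exact isIntegral_zero
    have hsum : 1 + (r : ℂ) * T = 0 := by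
      rw [← horth, ← Finset.add_sum_erase _ _ (Finset.mem_univ (irrOne : IrrCharacter G)), if_pos h1B,
        irrOne_apply, irrOne_apply, map_one, mul_one, hT, Finset.mul_sum,
        ← Finset.add_sum_erase _ _ (Finset.mem_univ (irrOne : IrrCharacter G)), if_neg (by simp),
        mul_zero, zero_add]
      refine congrArg (1 + ·) (Finset.sum_congr rfl fun η hη => ?_)
      have hne := (Finset.mem_erase.mp hη).1
      by_cases hηB : η ∈ B
      · rw [if_pos ⟨hηB, hne⟩, if_pos hηB, ← CfsgLib.CharBlocks.coe_charDegree_irr η, hu η hηB hne]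
        push_cast; ring
      · rw [if_neg fun h => hηB h.1, if_neg hηB, mul_zero]
    have hTq : T = -((1 : ℕ) : ℂ) / (r : ℂ) := by
      rw [Nat.cast_one, eq_div_iff (Nat.cast_ne_zero.mpr hr.ne_zero)]
      linear_combination hsum
    refine hr.not_dvd_one (dvd_of_isIntegral_div hr.ne_zero ?_)
    have := hTint.neg
    rwa [hTq, neg_div, neg_neg] at this

/-- Let G be a non-trivial finite group of order p^a · q^b · r^c with p, q, r distinct primes and a ≤ 2. Then G has a non-principal irreducible character whose degree is a power of q, and a non-principal irreducible character whose degree is a power of r; the power may be the zeroth, so a non-principal linear character serves for both. -/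
theorem result {G : Type*} [Group G] [Finite G] [Nontrivial G] (p q r a b c : ℕ) (hp : p.Prime) (hq : q.Prime) (hr : r.Prime) (hpq : p ≠ q) (hpr : p ≠ r) (hqr : q ≠ r) (ha : a ≤ 2) (hG : Nat.card G = p ^ a * q ^ b * r ^ c) : (∃ χ : Cfsg.IrrCharacter G, (χ : G → ℂ) ≠ (fun _ => 1) ∧ ∃ k : ℕ, Cfsg.charDegree (χ : G → ℂ) = q ^ k) ∧ ∃ χ : Cfsg.IrrCharacter G, (χ : G → ℂ) ≠ (fun _ => 1) ∧ ∃ k : ℕ, Cfsg.charDegree (χ : G → ℂ) = r ^ k := by
  exact ⟨main p q r a b c hp hq hr hpq hpr ha hG,
    main p r q a c b hp hr hq hpr hpq ha (by rw [hG]; ring)⟩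

end Cfsg.Agent.S4500
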