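import Cfsg.Statements.S4501
import Cfsg.Agent.Lib.PQFour.Main

set_option autoImplicit false
open Cfsg

namespace Cfsg.Agent.S4501

/-- Let G be a non-abelian finite simple group and p, q distinct primes. If the order of G is 4·p^a·q^b with a ≤ 2, then G is isomorphic to the alternating group of degree 5. If the order of G is 3·p^a·q^b with a ≤ 2, then G is isomorphic to the alternating group of degree 5 or to PSL(2,7). -/
theorem result {G : Type*} [Group G] [Finite G] [IsSimpleGroup G] (hna : ∃ x y : G, x * y ≠ y * x) (p q a b : ℕ) (hp : p.Prime) (hq : q.Prime) (hpq : p ≠ q) (ha : a ≤ 2) : (Nat.card G = 4 * p ^ a * q ^ b → Nonempty (G ≃* alternatingGroup (Fin 5))) ∧ (Nat.card G = 3 * p ^ a * q ^ b → Nonempty (G ≃* alternatingGroup (Fin 5)) ∨ Nonempty (G ≃* Matrix.ProjectiveSpecialLinearGroup (Fin 2) (ZMod 7))) := by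
  have hna' : ¬ IsMulCommutative G := by
    rintro h
    obtain ⟨x, y, hxy⟩ := hna
    exact hxy (isMulCommutative_iff.1 h x y)
  refine ⟨fun h => CfsgLib.PQFour.shape_four hna' hp hq hpq ha h, fun h => ?_⟩
  by_cases hp3 : p = 3
  · subst hp3
    exact (CfsgLib.PQFour.not_two_primes hna' Nat.prime_three hq (u := a + 1) (v := b)
      (by rw [h]; ring)).elim
  by_cases hq3 : q = 3
  · subst hq3
    exact (CfsgLib.PQFour.not_two_primes hna' hp Nat.prime_three (u := a) (v := b + 1)
      (by rw [h]; ring)).elim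
  exact CfsgLib.PQFour.shape_three hna' hp hq hp3 hq3 hpq (u := a) (v := b) (by rw [h]; ring)

end Cfsg.Agent.S4501
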