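import Cfsg.Statements.S4502
import Cfsg.Agent.Lib.Blocks.GaloisInv
import Cfsg.Agent.Lib.Blocks.PrimeCount
-- import your own Cfsg.Agent.* helpers here

set_option autoImplicit false
open Cfsg CfsgLib.Blocks

namespace Cfsg.Agent.S4502

/-- Let G be a finite group whose order is divisible by the prime p exactly once, and let P be a Sylow p-subgroup. Then the number of irreducible characters of G of degree not divisible by p equals the number of conjugacy classes of the normalizer of P. -/
theorem result {G : Type*} [Group G] [Finite G] (p : ℕ) [Fact p.Prime] (hdiv : p ∣ Nat.card G) (hsq : ¬ p ^ 2 ∣ Nat.card G) (P : Sylow p G) : Nat.card {χ : Cfsg.IrrCharacter G // ¬ p ∣ Cfsg.charDegree (χ : G → ℂ)} = Nat.card (ConjClasses (Subgroup.normalizer ((P : Subgroup G) : Set G))) := by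
  classical
  let _ := Fintype.ofFinite G
  obtain ⟨M, hM⟩ := exists_isPModular (Fact.out : p.Prime)
  have : M.IsMaximal := hM.2.1
  have hP : Nat.card P = p := by
    rw [P.card_eq_multiplicity]
    have h1 : 0 < (Nat.card G).factorization p :=
      (Fact.out : p.Prime).factorization_pos_of_dvd Nat.card_pos.ne' hdiv
    have h2 : ¬ 2 ≤ (Nat.card G).factorization p := fun h =>
      hsq ((Nat.Prime.pow_dvd_iff_le_factorization (Fact.out : p.Prime) Nat.card_pos.ne').mpr h)
    rw [show (Nat.card G).factorization p = 1 by omega, pow_one]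
  let _ := Fintype.ofFinite (Subgroup.normalizer ((P : Subgroup G) : Set G))
  let _ := Fintype.ofFinite (Subgroup.centralizer ((P : Subgroup G) : Set G))
  let _ := Fintype.ofFinite (Subgroup.centralizer ((PrimeBlock.PN P : Subgroup (Subgroup.normalizer ((P : Subgroup G) : Set G))) : Set (Subgroup.normalizer ((P : Subgroup G) : Set G))))
  let _ := Fintype.ofFinite (Subgroup.normalizer ((PrimeBlock.PN P : Subgroup (Subgroup.normalizer ((P : Subgroup G) : Set G))) : Set (Subgroup.normalizer ((P : Subgroup G) : Set G))))
  rw [PrimeBlock.card_not_dvd_eq P hP hM, ← CfsgLib.Char.card_irr_eq_card_conjClasses]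
  exact Nat.card_congr (Equiv.subtypeUnivEquiv fun χ => PrimeLocal.not_dvd_degree P hP χ
    (charDegree_eq (CfsgLib.Char.isCharacter_of_isIrr χ.2)))

end Cfsg.Agent.S4502
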