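import Cfsg.Statements.S4503
import Cfsg.Agent.Lib.CharNormal.SmallLinearPrime
import Cfsg.Agent.Lib.CharNormal.ItoCoprime

set_option autoImplicit false
open Cfsg

namespace Cfsg.Agent.S4503

open CfsgLib.Char CfsgLib.InvolChar CfsgLib.CharNormal
open scoped commutatorElement

universe u

/-- A faithful character of degree `n` with `2n + 1 < p` and a Sylow `p`-subgroup of order at most
`p` make it normal. -/
theorem main (p : ℕ) [hp : Fact p.Prime] : ∀ (m : ℕ) (G : Type u) [Group G] [Finite G],
    Nat.card G = m → ¬ p ^ 2 ∣ Nat.card G → ∀ (χ : G → ℂ) (n : ℕ), Cfsg.IsCharacter G χ →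
    (∀ g, χ g = χ 1 → g = 1) → χ 1 = n → 2 * n + 1 < p →
    ∀ P : Sylow p G, (P : Subgroup G).Normal := by
  intro m
  induction m using Nat.strong_induction_on with
  | _ m ih =>
  intro G _ _ hm hsq χ n hχ hfaith hn hnp P
  classical
  have := Fintype.ofFinite G
  by_contra hPn
  have hsub : ∀ L : Subgroup G, L ≠ ⊤ → ∀ Q : Sylow p L, (Q : Subgroup L).Normal := fun L hL =>
    ih (Nat.card L) (hm ▸ lt_of_le_of_ne L.card_le_card_group fun e => hL (L.eq_top_of_card_eq e))
      L rfl (fun h => hsq (h.trans L.card_subgroup_dvd_card)) (fun g : L => χ g) n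
      (isCharacter_res L hχ) (fun g h => Subtype.ext (hfaith _ h)) hn hnp
  have hgen : ∀ M : Subgroup G, M.Normal → (P : Subgroup G) ≤ M → M = ⊤ := by
    intro M hM hPM
    by_contra hne
    have hQ := hsub M hne (P.subtype hPM)
    have hchar := (P.subtype hPM).characteristic_of_normal hQ
    have h2 : ((P.subtype hPM : Subgroup M).map M.subtype).Normal := inferInstance
    rw [Sylow.coe_subtype, Subgroup.map_subgroupOf_eq_of_le hPM] at h2
    exact hPn h2
  have hP : Nat.card (P : Subgroup G) = p := by
    rw [P.card_eq_multiplicity]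
    have h1 : (Nat.card G).factorization p ≤ 1 := by
      by_contra h
      exact hsq ((hp.out.pow_dvd_iff_le_factorization Nat.card_pos.ne').mpr (by omega))
    rcases Nat.le_one_iff_eq_zero_or_eq_one.mp h1 with h | h
    · refine absurd ?_ hPn
      have : (P : Subgroup G) = ⊥ := Subgroup.card_eq_one.mp (by
        rw [P.card_eq_multiplicity, h, pow_zero])
      rw [this]; infer_instance
    · rw [h, pow_one]
  have hKP : (commutator G ⊔ (P : Subgroup G)).Normal := by
    refine ⟨fun x hx g => ?_⟩
    rw [show g * x * g⁻¹ = ⁅g, x⁆ * x by rw [commutatorElement_def]; group]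
    exact mul_mem (Subgroup.mem_sup_left
      (Subgroup.commutator_mem_commutator (Subgroup.mem_top g) (Subgroup.mem_top x))) hx
  have hpC : p ∣ Nat.card (commutator G) := by
    by_contra h
    rcases sylow_normal_or_extreme hχ hfaith hn (by omega) P h hKP with h' | h'
    · exact hPn h'
    · omega
  have hperf : commutator G = ⊤ := by
    refine hgen _ inferInstance ?_
    obtain ⟨R⟩ := (inferInstance : Nonempty (Sylow p (commutator G)))
    obtain ⟨S, hS⟩ := (R.isPGroup'.map (commutator G).subtype).exists_le_sylow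
    have hcard : p ∣ Nat.card ((R : Subgroup (commutator G)).map (commutator G).subtype) := by
      rw [Subgroup.card_map_of_injective (commutator G).subtype_injective]
      exact R.dvd_card_of_dvd_card hpC
    have hScard : Nat.card (S : Subgroup G) = p := by
      rw [S.card_eq_multiplicity, ← P.card_eq_multiplicity, hP]
    have hSC : (S : Subgroup G) ≤ commutator G := by
      have h1 := Nat.le_of_dvd Nat.card_pos hcard
      have := Subgroup.eq_of_le_of_card_ge hS (hScard.le.trans h1)
      exact this.symm.le.trans (Subgroup.map_subtype_le _)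
    obtain ⟨g, hg⟩ := MulAction.exists_smul_eq G S P
    rw [← hg, Sylow.coe_subgroup_smul]
    rintro _ ⟨x, hx, rfl⟩
    exact (inferInstance : (commutator G).Normal).conj_mem x (hSC hx) g
  have hcore : ∀ K : Subgroup G, K.Normal → IsPGroup p K → K = ⊥ := by
    intro K hK hKp
    obtain ⟨S, hS⟩ := hKp.exists_le_sylow
    obtain ⟨g, hg⟩ := MulAction.exists_smul_eq G S P
    have hle : K ≤ (P : Subgroup G) := by
      intro x hx
      rw [← hg, Sylow.coe_subgroup_smul]
      have hx' := hK.conj_mem x hx g⁻¹
      rw [inv_inv] at hx'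
      exact ⟨g⁻¹ * x * g, hS hx', by simp [mul_assoc]⟩
    rcases hp.out.eq_one_or_self_of_dvd _ (hP ▸ Subgroup.card_dvd_of_le hle) with h | h
    · exact Subgroup.card_eq_one.mp h
    · exact absurd (Subgroup.eq_of_le_of_card_ge hle (hP.trans h.symm).le ▸ hK) hPn
  obtain ⟨c, hc, hci⟩ := char_decomp hχ
  obtain ⟨ψ, hψ0, hψP⟩ : ∃ ψ : Cfsg.IrrCharacter G, c ψ ≠ 0 ∧
      ¬ (P : Subgroup G) ≤ charKer (isCharacter_of_isIrr ψ.2) := by
    by_contra hall
    push Not at hall
    obtain ⟨x, hxP, hox, -⟩ := CfsgLib.Blocks.PrimeSylow.exists_gen P hP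
    refine hp.out.one_lt.ne' ?_
    rw [← hox, hfaith x ?_, orderOf_one]
    rw [hc]
    simp only [Finset.sum_apply, Pi.smul_apply, smul_eq_mul]
    refine Finset.sum_congr rfl fun ψ _ => ?_
    by_cases h0 : c ψ = 0
    · simp [h0]
    · rw [mem_charKer.mp (hall ψ h0 hxP)]
  have hdn : deg ψ ≤ n := by
    have h := constituent_degree_le hχ ψ.2 (by rw [hci]; exact_mod_cast hψ0)
    rw [hn, deg_spec, Complex.natCast_re, Complex.natCast_re] at h
    exact_mod_cast h
  set K := charKer (isCharacter_of_isIrr ψ.2) with hK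
  have hKn : K.Normal := charKer_normal _
  have hKb : K = ⊥ := by
    by_contra hne
    obtain ⟨φ, hφ, hφe⟩ := exists_irr_eq_comp_mk' K ψ.2 fun k hk => mem_charKer.mp hk
    have hlt : Nat.card (G ⧸ K) < m := by
      rw [← hm, ← K.index_mul_card]
      refine lt_mul_of_one_lt_right (Nat.pos_of_ne_zero Subgroup.index_ne_zero_of_finite) ?_
      exact lt_of_le_of_ne Nat.card_pos fun h => hne (Subgroup.card_eq_one.mp h.symm)
    have := Fintype.ofFinite (G ⧸ K)
    have hN := ih _ hlt (G ⧸ K) rfl
      (fun h => hsq (h.trans (Subgroup.card_quotient_dvd_card K))) φ (deg ψ) (isCharacter_of_isIrr hφ)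
      (fun q hq => by
        obtain ⟨g, rfl⟩ := QuotientGroup.mk'_surjective K q
        refine (QuotientGroup.eq_one_iff g).mpr (mem_charKer.mpr ?_)
        have e1 := congrFun hφe g
        have e2 := congrFun hφe 1
        simp only [Function.comp_apply] at e1 e2
        rw [QuotientGroup.mk'_apply] at hq
        simp only [QuotientGroup.mk_one] at e2
        exact (e1.symm.trans hq).trans e2 )
      (by rw [← deg_spec ψ, ← congrFun hφe 1]; rfl)
      (by omega) (P.mapSurjective (QuotientGroup.mk'_surjective K))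
    have h := hN.comap (QuotientGroup.mk' K)
    rw [Sylow.coe_mapSurjective, Subgroup.comap_map_eq, QuotientGroup.ker_mk', sup_comm] at h
    have htop := hgen _ h le_sup_right
    refine hψP ?_
    have hC : commutator G ≤ K := by
      rw [commutator_eq_closure, Subgroup.closure_le]
      rintro _ ⟨a, b, rfl⟩
      have hPc : ∀ q : G ⧸ K, ∃ u ∈ (P : Subgroup G), QuotientGroup.mk' K u = q := by
        intro q
        have : (P : Subgroup G).map (QuotientGroup.mk' K) = ⊤ := by
          have h2 := Subgroup.map_top_of_surjective _ (QuotientGroup.mk'_surjective K)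
          rw [← htop, Subgroup.map_sup, QuotientGroup.map_mk'_self, bot_sup_eq] at h2
          exact h2
        exact Subgroup.mem_map.mp (this.ge (Subgroup.mem_top q))
      obtain ⟨u, hu, hu'⟩ := hPc (QuotientGroup.mk' K a)
      obtain ⟨v, hv, hv'⟩ := hPc (QuotientGroup.mk' K b)
      have hcyc : IsCyclic (P : Subgroup G) := isCyclic_of_prime_card (p := p) hP
      have huv : (⟨u, hu⟩ : (P : Subgroup G)) * ⟨v, hv⟩ = ⟨v, hv⟩ * ⟨u, hu⟩ :=
        (IsCyclic.commutative (α := (P : Subgroup G))).is_comm.comm _ _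
      rw [SetLike.mem_coe, ← QuotientGroup.eq_one_iff]
      show QuotientGroup.mk' K ⁅a, b⁆ = 1
      rw [map_commutatorElement, commutatorElement_eq_one_iff_mul_comm, ← hu', ← hv', ← map_mul,
        ← map_mul]
      exact congrArg _ (congrArg Subtype.val huv)
    exact le_trans (hperf ▸ le_top) hC
  have hfψ : ∀ g, (ψ : G → ℂ) g = (ψ : G → ℂ) 1 → g = 1 := fun g hg =>
    Subgroup.mem_bot.mp (hKb ▸ mem_charKer.mpr hg)
  have hb := SmallPrime.bound P hP hperf hcore
    (fun y hy hy' => SmallPrime.centralizer_central P hP hgen hcore ψ hfψ (by omega) hy hy') ψ hfψ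
  omega

/-- Let G be a finite group whose order is divisible by the prime p exactly once and which has no normal subgroup of order p. Then every faithful character χ of G has degree at least (p − 1)/2: 2·χ(1) + 1 ≥ p. -/
theorem result {G : Type*} [Group G] [Finite G] (p : ℕ) (hp : p.Prime) (hdiv : p ∣ Nat.card G) (hsq : ¬ p ^ 2 ∣ Nat.card G) (hnn : ∀ H : Subgroup G, H.Normal → Nat.card H ≠ p) (χ : G → ℂ) (hχ : Cfsg.IsCharacter G χ) (hfaith : ∀ g : G, χ g = χ 1 → g = 1) : p ≤ 2 * Cfsg.charDegree χ + 1 := by
  have : Fact p.Prime := ⟨hp⟩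
  by_contra hlt
  push Not at hlt
  obtain ⟨P⟩ := (inferInstance : Nonempty (Sylow p G))
  refine hnn P (main p _ G rfl hsq χ _ hχ hfaith (CfsgLib.CharBlocks.coe_charDegree hχ).symm hlt P) ?_
  rw [P.card_eq_multiplicity]
  have h1 := (hp.dvd_iff_one_le_factorization Nat.card_pos.ne').mp hdiv
  have h2 : (Nat.card G).factorization p ≤ 1 := by
    by_contra h
    exact hsq ((hp.pow_dvd_iff_le_factorization Nat.card_pos.ne').mpr (by omega))
  rw [le_antisymm h2 h1, pow_one]

end Cfsg.Agent.S4503
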