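import Cfsg.Statements.S4507
import Cfsg.Agent.Lib.Blocks.PrimeGalois
-- import your own Cfsg.Agent.* helpers here

set_option autoImplicit false
open Cfsg CfsgLib.Blocks

namespace Cfsg.Agent.S4507

/-- Let G be a finite group whose order g is divisible by the prime p exactly once, g′ = g/p, and fix a maximal ideal M of the algebraic integers containing p. Call two irreducible characters p-conjugate when a field automorphism of ℂ fixing the g′-th roots of unity carries one to the other. Let B be a p-block of positive defect (its defect group is a Sylow p-subgroup). Then B contains a subset Y (the exceptional family) such that: Y is a full p-conjugacy class (its members are pairwise p-conjugate and every p-conjugate of a member of Y lies in Y); every member of B outside Y is p-conjugate only to itself; the size t of Y divides p − 1 and B has exactly t + (p − 1)/t members; and there are signs δ_χ = ±1 (χ ∈ B) such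 that for every p-regular element x and every θ ∈ Y, Σ_{χ ∈ B ∖ Y} δ_χ χ(x) + δ_θ θ(x) = 0. -/
theorem result {G : Type*} [Group G] [Finite G] (p : ℕ) [Fact p.Prime] (M : Ideal Cfsg.AlgInt) (hM : Cfsg.IsPModular p M) (hdiv : p ∣ Nat.card G) (hsq : ¬ p ^ 2 ∣ Nat.card G) (B : Set (Cfsg.IrrCharacter G)) (hB : Cfsg.IsPBlock M B) (hd : 0 < Cfsg.blockDefect p B) : ∃ Y : Set (Cfsg.IrrCharacter G), Y ⊆ B ∧ Y.Nonempty ∧ (∀ θ ∈ Y, ∀ ψ : Cfsg.IrrCharacter G, (∃ σ : ℂ ≃+* ℂ, σ (Complex.exp (2 * Real.pi * Complex.I / ((Nat.card G / p ^ (Nat.card G).factorization p) : ℕ))) = Complex.exp (2 * Real.pi * Complex.I / ((Nat.card G / p ^ (Nat.card G).factorization p) : ℕ)) ∧ (ψ : G → ℂ) = fun g => σ ((θ : G → ℂ) g)) ↔ ψ ∈ Y) ∧ (∀ χ ∈ B, χ ∉ Y → ∀ ψ : Cfsg.IrrCharacter G, (∃ σ : ℂ ≃+* ℂ, σ (Complex.exp (2 * Real.pi * Complex.I / ((Nat.card G / p ^ (Nat.card G).factorization p) : ℕ))) = Complex.exp (2 * Real.pi * Complex.I / ((Nat.card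 G / p ^ (Nat.card G).factorization p) : ℕ)) ∧ (ψ : G → ℂ) = fun g => σ ((χ : G → ℂ) g)) → ψ = χ) ∧ Nat.card Y ∣ p - 1 ∧ Nat.card B = Nat.card Y + (p - 1) / Nat.card Y ∧ ∃ δ : Cfsg.IrrCharacter G → ℤ, (∀ χ ∈ B, δ χ = 1 ∨ δ χ = -1) ∧ ∀ x : G, ¬ p ∣ orderOf x → ∀ θ ∈ Y, (∑ᶠ χ ∈ B \ Y, (δ χ : ℂ) * (χ : G → ℂ) x) + (δ θ : ℂ) * (θ : G → ℂ) x = 0 := by
  classical
  let _ := Fintype.ofFinite G
  have : M.IsMaximal := hM.2.1
  let P : Sylow p G := default
  have hP : Nat.card P = p := by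
    rw [P.card_eq_multiplicity]
    have h1 : 0 < (Nat.card G).factorization p :=
      (Fact.out : p.Prime).factorization_pos_of_dvd Nat.card_pos.ne' hdiv
    have h2 : ¬ 2 ≤ (Nat.card G).factorization p := fun h =>
      hsq ((Nat.Prime.pow_dvd_iff_le_factorization (Fact.out : p.Prime) Nat.card_pos.ne').mpr h)
    rw [show (Nat.card G).factorization p = 1 by omega, pow_one]
  let _ := Fintype.ofFinite (Subgroup.normalizer ((P : Subgroup G) : Set G))
  let _ := Fintype.ofFinite (Subgroup.centralizer ((P : Subgroup G) : Set G))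
  have hBP := PrimeBlock.isDefectGroup_of_pos P hP hM hB hd
  obtain ⟨b, θ, hθ, hind, hθP⟩ := PrimeBlock.exists_local P hP hM hBP hB
  obtain ⟨Y, s, sg, hS⟩ := PrimeBlock.exists_shape P hP θ hθP hM hBP hind hθ
  have he0 := PrimeBlock.card_Eset_pos P hP θ
  have hdvd : (PrimeBlock.Eset P hP θ).card ∣ p - 1 :=
    ⟨(PrimeBlock.orbits P hP θ).card, by rw [mul_comm, PrimeBlock.card_orbits_mul P hP θ]⟩
  have hp1 : p - 1 ≠ 0 := by have := (Fact.out : p.Prime).two_le; omega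
  have htpos : 0 < Nat.card Y := by
    rw [hS.card_Y]
    exact Nat.div_pos (Nat.le_of_dvd (by omega) hdvd) he0
  have hne : Y.Nonempty := Set.nonempty_of_ncard_ne_zero (by rw [← Nat.card_coe_set_eq]; exact htpos.ne')
  -- the image of a member is in the block
  have himage : ∀ χ ∈ B, ∀ (σ : ℂ ≃+* ℂ), σ (Complex.exp (2 * Real.pi * Complex.I / (PrimeBlock.gp p G : ℕ))) =
      Complex.exp (2 * Real.pi * Complex.I / (PrimeBlock.gp p G : ℕ)) → ∀ χ' : IrrCharacter G,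
      (χ' : G → ℂ) = (fun g => σ ((χ : G → ℂ) g)) → χ' ∈ B ∧
      (∀ g : G, ¬ p ∣ orderOf g → (χ' : G → ℂ) g = (χ : G → ℂ) g) ∧
      ∃ m : ZMod p, m ≠ 0 ∧
        ∀ j, PrimeBlock.row P hP θ (χ' : G → ℂ) (m * j) = PrimeBlock.row P hP θ (χ : G → ℂ) j := by
    intro χ hχ σ hσ χ' hχ'
    obtain ⟨m, hm, hmσ⟩ := PrimeBlock.exists_shift (p := p) σ
    have hrow := fun j => PrimeBlock.row_galois P hP θ hθP hσ hm hmσ hχ' j
    refine ⟨?_, fun g hg => ?_, m, hm, hrow⟩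
    · by_cases hY : χ ∈ Y
      · obtain ⟨i, hi, hri⟩ := hS.row_Y χ hY
        refine PrimeBlock.mem_of_row_ne_zero P hP θ hθP hM hind hθ (j := m * i) ?_
        rw [hrow, hri i hi, if_pos (PrimeBlock.self_mem_eOrbit P hP θ i)]
        rcases hS.sign with h | h <;> simp [h]
      · refine PrimeBlock.mem_of_row_ne_zero P hP θ hθP hM hind hθ (j := m * 1) ?_
        rw [hrow, hS.row_X χ hχ hY 1 one_ne_zero]
        rcases hS.sign_X χ hχ hY with h | h <;> simp [h]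
    · rw [hχ']
      exact PrimeBlock.fix_regular (CfsgLib.Char.isCharacter_of_isIrr χ.2) hσ (PrimeBlock.orderOf_dvd_gp hg)
  -- constant rows
  have hconst : ∀ χ ∈ B, ∀ χ' ∈ B, (∀ g : G, ¬ p ∣ orderOf g → (χ' : G → ℂ) g = (χ : G → ℂ) g) →
      ∀ (m : ZMod p), m ≠ 0 → ∀ c : ℤ, (∀ j, j ≠ 0 → PrimeBlock.row P hP θ (χ : G → ℂ) j = c) →
      (∀ j, PrimeBlock.row P hP θ (χ' : G → ℂ) (m * j) = PrimeBlock.row P hP θ (χ : G → ℂ) j) → χ' = χ := by
    intro χ hχ χ' hχ' hreg m hm c hc hrow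
    refine PrimeBlock.ext_of_row P hP θ hθP hM hBP hind hθ hχ' hχ hreg fun j hj => ?_
    rw [← mul_inv_cancel_left₀ hm j, hrow, hc _ (mul_ne_zero (inv_ne_zero hm) hj),
      mul_inv_cancel_left₀ hm, hc j hj]
  -- the family is closed
  have hclosed : ∀ η ∈ Y, ∀ (σ : ℂ ≃+* ℂ), σ (Complex.exp (2 * Real.pi * Complex.I / (PrimeBlock.gp p G : ℕ))) =
      Complex.exp (2 * Real.pi * Complex.I / (PrimeBlock.gp p G : ℕ)) → ∀ χ' : IrrCharacter G,
      (χ' : G → ℂ) = (fun g => σ ((η : G → ℂ) g)) → χ' ∈ Y := by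
    intro η hη σ hσ χ' hχ'
    obtain ⟨hB', hreg, m, hm, hrow⟩ := himage η (hS.le hη) σ hσ χ' hχ'
    by_contra hY
    refine hY ?_
    rw [hconst η (hS.le hη) χ' hB' hreg m hm (s χ') (fun j hj => by
      rw [← hrow, hS.row_X χ' hB' hY _ (mul_ne_zero hm hj)]) hrow]
    exact hη
  refine ⟨Y, hS.le, hne, fun η hη χ' => ⟨fun ⟨σ, hσ, hχ'⟩ => hclosed η hη σ hσ χ' hχ', fun hχ' => ?_⟩,
    fun χ hχ hY χ' ⟨σ, hσ, hχ'⟩ => ?_, ?_, ?_, fun χ => if χ ∈ Y then sg else s χ, fun χ hχ => ?_,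
    fun x hx η hη => ?_⟩
  · obtain ⟨i, hi, hri⟩ := hS.row_Y η hη
    obtain ⟨i', hi', hri'⟩ := hS.row_Y χ' hχ'
    obtain ⟨σ, hσ, hmσ⟩ := PrimeBlock.exists_ringEquiv_shift P hP (m := i' * i⁻¹) (mul_ne_zero hi' (inv_ne_zero hi))
    obtain ⟨χ'', hχ''⟩ := PrimeBlock.exists_galois_image σ η
    have hY'' : χ'' ∈ Y := hclosed η hη σ hσ χ'' hχ''
    refine ⟨σ, hσ, ?_⟩
    have hrow := PrimeBlock.row_galois P hP θ hθP hσ (mul_ne_zero hi' (inv_ne_zero hi)) hmσ hχ'' i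
    rw [inv_mul_cancel_right₀ hi, hri i hi, if_pos (PrimeBlock.self_mem_eOrbit P hP θ i)] at hrow
    obtain ⟨k, hk, hrk⟩ := hS.row_Y χ'' hY''
    have hmem : i' ∈ PrimeBlock.eOrbit P hP θ k := by
      by_contra h
      rw [hrk i' hi', if_neg h] at hrow
      rcases hS.sign with h1 | h1 <;> omega
    have heq : χ'' = χ' := hS.inj χ'' hY'' χ' hχ' fun j hj => by
      rw [hrk j hj, hri' j hj, PrimeBlock.eOrbit_eq P hP θ hmem]
    rw [← heq]
    exact hχ''
  · obtain ⟨hB', hreg, m, hm, hrow⟩ := himage χ hχ σ hσ χ' hχ'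
    exact hconst χ hχ χ' hB' hreg m hm (s χ) (fun j hj => hS.row_X χ hχ hY j hj) hrow
  · rw [hS.card_Y]
    exact Nat.div_dvd_of_dvd hdvd
  · rw [hS.card_eq, hS.card_Y, Nat.div_div_self hdvd hp1, add_comm]
  · dsimp only
    split_ifs with h
    · exact hS.sign
    · exact hS.sign_X χ hχ h
  · dsimp only
    rw [if_pos hη, finsum_mem_congr rfl (fun χ hχ => show ((if χ ∈ Y then sg else s χ : ℤ) : ℂ) * (χ : G → ℂ) x =
      (s χ : ℂ) * (χ : G → ℂ) x by rw [if_neg hχ.2])]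
    exact hS.relation η hη x hx

end Cfsg.Agent.S4507
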