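import Cfsg.Statements.S4508
import Cfsg.Agent.S4495
import Cfsg.Agent.Lib.BlockArith.SelfCentralDegree

set_option autoImplicit false
open Cfsg

namespace Cfsg.Agent.S4508

/-- Let the finite group G contain an element x of prime order p with C_G(x) = ⟨x⟩, and let t be the number of conjugacy classes of elements of order p. If G has an irreducible character of degree p − 1, then t is even or the commutator subgroup has even index. -/
theorem result {G : Type*} [Group G] [Finite G] (p : ℕ) (hp : p.Prime) (x : G) (hx : orderOf x = p) (hC : Subgroup.centralizer ({x} : Set G) = Subgroup.zpowers x) (t : ℕ) (ht : Nat.card {C : ConjClasses G // ∃ g ∈ C.carrier, orderOf g = p} = t) (χ : Cfsg.IrrCharacter G) (hχ : Cfsg.charDegree (χ : G → ℂ) + 1 = p) : Even t ∨ Even (commutator G).index := by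

  classical
  have hF : Fact p.Prime := ⟨hp⟩
  let _ := Fintype.ofFinite G
  by_cases hte : Even t
  · exact Or.inl hte
  refine Or.inr ?_
  have hto : Odd t := Nat.not_even_iff_odd.mp hte
  obtain ⟨h1, h2⟩ := Cfsg.Agent.S4495.result p hp x hx hC t ht
  have hmul := CfsgLib.SelfCentralDegree.t_mul_relIndex hx hC ht
  set e := (Subgroup.zpowers x).relIndex (Subgroup.normalizer (Subgroup.zpowers x : Set G)) with he
  rcases hp.eq_two_or_odd' with h2p | hodd
  · have ht1 : t = p - 1 := by
      rw [h2p] at hmul ⊢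
      exact Nat.dvd_one.mp ⟨e, hmul.symm⟩
    rw [h2 ht1, h2p]
    exact even_two
  have hp3 : 3 ≤ p := by obtain ⟨a, rfl⟩ := hodd; have := hp.two_le; omega
  have hme : Even e := by
    have h3 : Even (t * e) := by rw [hmul]; exact Nat.Odd.sub_odd hodd odd_one
    exact (Nat.even_mul.mp h3).resolve_left hte
  obtain ⟨P, hP⟩ := CfsgLib.BlockArith.sylow_eq_zpowers hx hC
  have hPc : Nat.card (P : Subgroup G) = p := by rw [hP, Nat.card_zpowers, hx]
  have hCy : ∀ y : G, y ∈ (P : Subgroup G) → y ≠ 1 → Subgroup.centralizer ({y} : Set G) = (P : Subgroup G) := by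
    intro y hy hy1
    have hgen : Subgroup.zpowers y = (P : Subgroup G) := by
      refine Subgroup.eq_of_le_of_card_ge (Subgroup.zpowers_le.mpr hy) ?_
      rw [hPc, Nat.card_zpowers]
      have hd : orderOf y ∣ p := hPc ▸ Subgroup.orderOf_dvd_natCard _ hy
      rcases hp.eq_one_or_self_of_dvd _ hd with h | h
      · exact absurd (orderOf_eq_one_iff.mp h) hy1
      · rw [h]
    refine le_antisymm (fun g hg => ?_) fun g hg => ?_
    · rw [hP, ← hC, Subgroup.mem_centralizer_singleton_iff]
      obtain ⟨k, hk⟩ := Subgroup.mem_zpowers_iff.mp (show x ∈ Subgroup.zpowers y by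
        rw [hgen, hP]; exact Subgroup.mem_zpowers x)
      rw [← hk]
      exact (show Commute g y from Subgroup.mem_centralizer_singleton_iff.mp hg).zpow_right k |>.eq
    · rw [← hgen] at hg
      obtain ⟨k, rfl⟩ := Subgroup.mem_zpowers_iff.mp hg
      exact Subgroup.mem_centralizer_singleton_iff.mpr ((Commute.refl y).zpow_left k).eq
  obtain ⟨F, hCP⟩ := CfsgLib.SelfCentralDegree.free_of_card_prime hPc hCy
  have := F.hab
  have hm : (Subgroup.centralizer ((P : Subgroup G) : Set G)).relIndex
      (Subgroup.normalizer ((P : Subgroup G) : Set G)) = e := by rw [hCP, hP, he]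
  have hχ1 : (χ : G → ℂ) 1 = (p : ℂ) - 1 := by
    rw [← CfsgLib.CharBlocks.coe_charDegree_irr χ, ← hχ]
    push_cast
    ring
  obtain ⟨M, hM⟩ := CfsgLib.Blocks.exists_isPModular hp
  have := hM.2.1
  have hval := CfsgLib.SelfCentralDegree.value_eq_neg_one hM hPc hCy hp3 hm hmul hto hχ1
  obtain ⟨f, g, hfg⟩ := CfsgLib.SelfCentralDegree.exists_det_neg_one hPc hCy hm hmul hto hme hχ1 hval
  have hle : commutator G ≤ f.ker := by
    rw [commutator_def, Subgroup.commutator_le]
    intro a _ b _
    rw [MonoidHom.mem_ker, map_commutatorElement, commutatorElement_eq_one_iff_mul_comm, mul_comm]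
  refine (even_iff_two_dvd).mpr (dvd_trans ?_ (Subgroup.index_dvd_of_le hle))
  rw [Subgroup.index_ker]
  have hord : orderOf (⟨f g, g, rfl⟩ : f.range) = 2 := by
    rw [← Subgroup.orderOf_coe]
    show orderOf (f g) = 2
    rw [hfg]
    refine orderOf_eq_prime (Units.ext (by simp)) fun h => ?_
    have := congrArg (fun u : ℂˣ => (u : ℂ)) h
    norm_num at this
  exact hord ▸ orderOf_dvd_natCard _


end Cfsg.Agent.S4508
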