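import Cfsg.Statements.S4509
import Cfsg.Agent.S4497

set_option autoImplicit false
open Cfsg

namespace Cfsg.Agent.S4509

/-- Let the finite group G contain an element x of prime order p with C_G(x) = ⟨x⟩; let t be the number of conjugacy classes of elements of order p and 1 + n·p the number of subgroups of order p. Then G has a normal subgroup of order 1 + n·p if and only if either t = p − 1, or t < p − 1 and G″ ≠ G′. Moreover, if t = p − 1 then G′ has order 1 + n·p and G/G′ is cyclic of order p; and if t < p − 1 and G″ ≠ G′ then G″ has order 1 + n·p and G′ has order p·(1 + n·p). -/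
theorem result {G : Type*} [Group G] [Finite G] (p : ℕ) (hp : p.Prime) (x : G) (hx : orderOf x = p) (hC : Subgroup.centralizer ({x} : Set G) = Subgroup.zpowers x) (t : ℕ) (ht : Nat.card {C : ConjClasses G // ∃ g ∈ C.carrier, orderOf g = p} = t) (n : ℕ) (hn : Nat.card {H : Subgroup G // Nat.card H = p} = 1 + n * p) : ((∃ S : Subgroup G, S.Normal ∧ Nat.card S = 1 + n * p) ↔ (t = p - 1 ∨ (t < p - 1 ∧ derivedSeries G 2 ≠ derivedSeries G 1))) ∧ (t = p - 1 → Nat.card (commutator G) = 1 + n * p ∧ IsCyclic (G ⧸ commutator G) ∧ (commutator G).index = p) ∧ (t < p - 1 → derivedSeries G 2 ≠ derivedSeries G 1 → Nat.card (derivedSeries G 2) = 1 + n * p ∧ Nat.card (commutator G) = p * (1 + n * p)) := by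

  have : Fact p.Prime := ⟨hp⟩
  obtain ⟨-, h2'⟩ := Cfsg.Agent.S4495.result p hp x hx hC t ht
  obtain ⟨hle, h1, h2⟩ := Cfsg.Agent.S4497.dvd_or_eq hx hC ht
  have hA : t = p - 1 → Nat.card (commutator G) = 1 + n * p ∧ IsCyclic (G ⧸ commutator G) ∧ (commutator G).index = p := by
    intro h
    have hidx : (commutator G).index = p := h2' h
    refine ⟨?_, isCyclic_of_prime_card (p := p) ((Subgroup.index_eq_card _).symm.trans hidx), hidx⟩
    obtain ⟨P, hP⟩ := CfsgLib.BlockArith.sylow_eq_zpowers hx hC
    have hK := CfsgLib.SelfCentralDerived.commutator_eq_core hx hC (h2 h)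
    obtain ⟨hd, -⟩ := CfsgLib.BlockArith.quotient_self_centralizing (S := Cfsg.pPrimeCore p G) hx hC
      (CfsgLib.SelfCentralDerived.not_dvd_card_core p)
    rw [hn, ← hK] at hd
    refine Nat.dvd_antisymm hd ?_
    rw [← hn, CfsgLib.SelfCentralDerived.card_subgroups_eq hx hC P hP, P.card_eq_index_normalizer]
    have h3 : (P : Subgroup G).index = Nat.card (commutator G) := by
      have e1 := (P : Subgroup G).card_mul_index
      have e2 := (commutator G).card_mul_index
      rw [hP, CfsgLib.SelfCentralDerived.zpowers_card hx, ← e2, hidx, mul_comm (Nat.card (commutator G))] at e1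
      rw [hP]
      exact Nat.eq_of_mul_eq_mul_left hp.pos e1
    rw [← h3]
    exact Subgroup.index_dvd_of_le Subgroup.le_normalizer
  have hB : t < p - 1 → derivedSeries G 2 ≠ derivedSeries G 1 →
      Nat.card (derivedSeries G 2) = 1 + n * p ∧ Nat.card (commutator G) = p * (1 + n * p) := by
    intro h hne
    obtain ⟨e1, e2, e3⟩ := CfsgLib.SelfCentralDerived.card_core_of_derived_ne hx hC (h1 h.ne) hne
    rw [e1, e2, e3, hn]
    exact ⟨rfl, rfl⟩
  refine ⟨⟨?_, ?_⟩, hA, hB⟩
  · rintro ⟨S, hS, hSc⟩
    by_cases h : t = p - 1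
    · exact Or.inl h
    refine Or.inr ⟨lt_of_le_of_ne hle h, CfsgLib.SelfCentralDerived.derived_ne_of_normal (S := S) hx hC (h1 h)
      (hSc.trans hn.symm) ?_⟩
    rw [hSc]
    intro hd
    have hd1 : p ∣ 1 := (Nat.dvd_add_left (Dvd.intro_left n rfl)).mp hd
    exact hp.not_dvd_one hd1
  · rintro (h | ⟨h, hne⟩)
    · exact ⟨commutator G, inferInstance, (hA h).1⟩
    · exact ⟨derivedSeries G 2, derivedSeries_normal G 2, (hB h hne).1⟩


end Cfsg.Agent.S4509
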