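import Cfsg.Statements.S4512
import Cfsg.Agent.Lib.Blocks.KleinRank
-- import your own Cfsg.Agent.* helpers here

set_option autoImplicit false
open Cfsg

namespace Cfsg.Agent.S4512

/-- If G is a finite group with a Sylow 2-subgroup that is a Klein four-group and a single conjugacy class of involutions, then its principal 2-block (relative to a maximal ideal M of the algebraic integers containing 2) has 2-regular rank 3: the restrictions of its irreducible characters to the elements of odd order span a space of dimension 3 (it has three irreducible Brauer characters). -/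
theorem result {G : Type*} [Group G] [Finite G] (M : Ideal Cfsg.AlgInt) (hM : Cfsg.IsPModular 2 M) (P : Sylow 2 G)
    (hP : Nat.card P = 4) (hexp : ∀ x : P, x * x = 1)
    (hone : ∀ s t : G, orderOf s = 2 → orderOf t = 2 → IsConj s t) :
    Cfsg.blockRank 2 (Cfsg.principalBlock M G) = 3 := by
  classical
  have := hM.2.1
  have : Fact (Nat.Prime 2) := ⟨Nat.prime_two⟩
  let _ := Fintype.ofFinite G
  have hk : IsKleinFour (P : Subgroup G) := by
    have : Nontrivial (P : Subgroup G) := Finite.one_lt_card_iff_nontrivial.mp (lt_of_lt_of_eq (by norm_num) hP.symm)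
    obtain ⟨a, ha⟩ := exists_ne (1 : (P : Subgroup G))
    refine ⟨hP, Nat.dvd_antisymm (Monoid.exponent_dvd_of_forall_pow_eq_one fun x => by rw [pow_two]; exact hexp x) ?_⟩
    have h2 : orderOf a = 2 := orderOf_eq_prime (by rw [pow_two]; exact hexp a) ha
    exact (dvd_of_eq h2.symm).trans (Monoid.order_dvd_exponent a)
  exact CfsgLib.Blocks.klein_blockRank hM P hk hone

end Cfsg.Agent.S4512
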