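import Cfsg.Statements.S4513
import Cfsg.Agent.Lib.Blocks.FirstMain
import Cfsg.Agent.Lib.Blocks.Laradji
import Cfsg.Agent.Lib.BlockArith.KleinDefect
-- import your own Cfsg.Agent.* helpers here

set_option autoImplicit false
open Cfsg CfsgLib.Blocks

namespace Cfsg.Agent.S4513

/-- Blocks of defect one for p = 2. Let M be a maximal ideal of the algebraic integers containing 2, B a 2-block of the finite group G whose defect group is the subgroup generated by an involution x, C = C_G(x), b a block of C inducing B and θ a member of b taking the same value at x as at 1 (there is exactly one). Then B consists of exactly two irreducible characters, which agree on every element of odd order, and they can be labelled χ₁, χ₂ with signs ε₁, ε₂ = ±1, ε₁ε₂ = −1, such that χᵢ(x y) = εᵢ θ(y) for every element y of C of odd order. -/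
theorem result {G : Type*} [Group G] [Finite G] (M : Ideal Cfsg.AlgInt) (hM : Cfsg.IsPModular 2 M) (x : G) (hx : orderOf x = 2)
    (B : Set (Cfsg.IrrCharacter G)) (hB : Cfsg.IsPBlock M B) (hBD : Cfsg.IsDefectGroup 2 M B (Subgroup.zpowers x))
    (b : Set (Cfsg.IrrCharacter ↥(Subgroup.centralizer ({x} : Set G)))) (hb : Cfsg.IsInducedBlock M (Subgroup.centralizer ({x} : Set G)) b B)
    (θ : Cfsg.IrrCharacter ↥(Subgroup.centralizer ({x} : Set G))) (hθ : θ ∈ b)
    (hθx : ∀ z : ↥(Subgroup.centralizer ({x} : Set G)), (z : G) = x → (θ : ↥(Subgroup.centralizer ({x} : Set G)) → ℂ) z = (θ : ↥(Subgroup.centralizer ({x} : Set G)) → ℂ) 1) :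
    Nat.card B = 2 ∧ (∀ χ ∈ B, ∀ ψ ∈ B, ∀ g : G, ¬ 2 ∣ orderOf g → (χ : G → ℂ) g = (ψ : G → ℂ) g) ∧
      ∃ χ₁ ∈ B, ∃ χ₂ ∈ B, χ₁ ≠ χ₂ ∧ ∃ ε₁ ε₂ : ℤ, (ε₁ = 1 ∨ ε₁ = -1) ∧ (ε₂ = 1 ∨ ε₂ = -1) ∧ ε₁ * ε₂ = -1 ∧
        ∀ y : ↥(Subgroup.centralizer ({x} : Set G)), ¬ 2 ∣ orderOf y →
          (χ₁ : G → ℂ) (x * y) = (ε₁ : ℂ) * (θ : ↥(Subgroup.centralizer ({x} : Set G)) → ℂ) y ∧ (χ₂ : G → ℂ) (x * y) = (ε₂ : ℂ) * (θ : ↥(Subgroup.centralizer ({x} : Set G)) → ℂ) y := by
  classical
  let _ := Fintype.ofFinite G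
  have : M.IsMaximal := hM.2.1
  have := Fact.mk Nat.prime_two
  let _ := Fintype.ofFinite (Subgroup.centralizer ({x} : Set G))
  let _ := Fintype.ofFinite {b : Set (IrrCharacter (Subgroup.centralizer ({x} : Set G))) // IsPBlock M b}
  have hxp : ∃ k : ℕ, orderOf x = 2 ^ k := ⟨1, by rw [hx, pow_one]⟩
  have hx2 : x ^ 2 = 1 := by rw [← hx]; exact pow_orderOf_eq_one x
  have hxi : x⁻¹ = x := inv_eq_of_mul_eq_one_left (by rw [← pow_two, hx2])
  have hQ : Nat.card (Subgroup.zpowers x) = 2 := by rw [Nat.card_zpowers, hx]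
  have hQp : IsPGroup 2 (Subgroup.zpowers x) := IsPGroup.of_card (n := 1) (by rw [hQ, pow_one])
  have hd : blockDefect 2 B = 1 := (Nat.pow_right_injective (le_refl 2)
    (show 2 ^ 1 = 2 ^ blockDefect 2 B by rw [← card_defectGroup hM hB hBD, hQ, pow_one])).symm
  -- two members
  have hcard : Nat.card B = 2 := by
    have h1 := (CfsgLib.BlockArith.brauer_feit hM 1 G B hB hd).1 (by norm_num)
    have h2 := CfsgLib.BlockArith.blockRank_lt_card hM hB (by omega)
    have h3 := CfsgLib.BlockArith.blockRank_eq_one_defect_one hM hB hd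
    omega
  -- the local block
  have hxC : x ∈ Subgroup.centralizer ({x} : Set G) := Subgroup.mem_centralizer_singleton_iff.mpr rfl
  set Z := (Subgroup.zpowers x).subgroupOf (Subgroup.centralizer ({x} : Set G)) with hZ
  have hle : Subgroup.zpowers x ≤ Subgroup.centralizer ({x} : Set G) := Subgroup.zpowers_le.mpr hxC
  have hZcard : Nat.card Z = 2 := by
    rw [Nat.card_congr (Subgroup.subgroupOfEquivOfLe hle).toEquiv, hQ]
  have hZC : Z ≤ Subgroup.center (Subgroup.centralizer ({x} : Set G)) := fun z hz => by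
    refine Subgroup.mem_center_iff.mpr fun c => Subtype.ext ?_
    obtain ⟨k, hk⟩ := Subgroup.mem_zpowers_iff.mp (Subgroup.mem_subgroupOf.mp hz)
    simp only [Subgroup.coe_mul, ← hk]
    exact ((show Commute x (c : G) from (Subgroup.mem_centralizer_singleton_iff.mp c.2).symm).zpow_left k).eq.symm
  have hZp : IsPGroup 2 Z := IsPGroup.of_card (n := 1) (by rw [hZcard, pow_one])
  have : Z.Normal := ⟨fun z hz g => by
    rw [Subgroup.mem_center_iff.mp (hZC hz) g, mul_inv_cancel_right]; exact hz⟩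
  have hdef : ∀ b', IsInducedBlock M (Subgroup.centralizer ({x} : Set G)) b' B → IsDefectGroup 2 M b' Z := by
    intro b' hb'
    obtain ⟨D', hD'⟩ := exists_isDefectGroup (p := 2) hb'.1
    have hZD := normal_le_defect hM hb'.1 hD' hZp
    obtain ⟨g, hg⟩ := defect_le_of_induced hM hb' hD' hBD
    have h := card_le_of_cj_le hg
    rw [Subgroup.card_map_of_injective (Subgroup.subtype_injective _), hQ] at h
    rwa [Subgroup.eq_of_le_of_card_ge hZD (by rw [hZcard]; exact h)]
  have hNC : Subgroup.centralizer ({x} : Set G) = Subgroup.normalizer ((Subgroup.zpowers x : Subgroup G) : Set G) := by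
    refine le_antisymm ?_ fun n hn => Subgroup.mem_centralizer_singleton_iff.mpr ?_
    · rw [← Subgroup.centralizer_closure, ← Subgroup.zpowers_eq_closure]
      exact Subgroup.centralizer_le_normalizer _
    · have h := (Subgroup.mem_normalizer_iff.mp hn x).mp (Subgroup.mem_zpowers x)
      obtain ⟨k, hk⟩ := Subgroup.mem_zpowers_iff.mp h
      rcases Int.even_or_odd k with ⟨m, hm⟩ | ⟨m, hm⟩
      · exfalso
        rw [hm, ← two_mul, zpow_mul, show x ^ (2 : ℤ) = 1 from by exact_mod_cast hx2, one_zpow] at hk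
        have : x = 1 := (conj_eq_one_iff (a := n)).mp hk.symm
        rw [this, orderOf_one] at hx
        omega
      · rw [hm, zpow_add, zpow_mul, show x ^ (2 : ℤ) = 1 from by exact_mod_cast hx2, one_zpow, one_mul,
          zpow_one] at hk
        exact mul_inv_eq_iff_eq_mul.mp hk.symm
  have huniq : ∀ b', IsInducedBlock M (Subgroup.centralizer ({x} : Set G)) b' B → b' = b := by
    have key : ∀ H : Subgroup G, H = Subgroup.normalizer ((Subgroup.zpowers x : Subgroup G) : Set G) →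
        ∀ b₁ b₂ : Set (IrrCharacter H), IsInducedBlock M H b₁ B → IsInducedBlock M H b₂ B →
        IsDefectGroup 2 M b₁ ((Subgroup.zpowers x).subgroupOf H) →
        IsDefectGroup 2 M b₂ ((Subgroup.zpowers x).subgroupOf H) → b₁ = b₂ := by
      rintro H rfl b₁ b₂ h1 h2 d1 d2
      exact (existsUnique_inducing_with_defect hM hQp hB hBD).unique ⟨h1.1, d1, h1⟩ ⟨h2.1, d2, h2⟩
    exact fun b' hb' => key _ hNC b' b hb' hb (hdef b' hb') (hdef b hb)
  have hbd : blockDefect 2 b = 1 := (Nat.pow_right_injective (le_refl 2)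
    (show 2 ^ 1 = 2 ^ blockDefect 2 b by rw [← card_defectGroup hM hb.1 (hdef b hb), hZcard, pow_one])).symm
  have hrank := CfsgLib.BlockArith.blockRank_eq_one_defect_one hM hb.1 hbd
  -- `θ` on the regular elements
  have hdeg : (charDegree (θ : Subgroup.centralizer ({x} : Set G) → ℂ)).factorization 2 = Z.index.factorization 2 := by
    refine le_antisymm (degree_le_index_central hZC θ) ?_
    have h1 := CfsgLib.BlockArith.degree_factorization hM hb.1 hθ
    have h2 : (Nat.card (Subgroup.centralizer ({x} : Set G))).factorization 2 = 1 + Z.index.factorization 2 := by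
      rw [← Subgroup.card_mul_index Z, Nat.factorization_mul Nat.card_pos.ne' Subgroup.index_ne_zero_of_finite,
        Finsupp.add_apply, hZcard, Nat.prime_two.factorization_self]
    omega
  have hθ2 : ∀ z ∈ Z, centScal θ z = 1 := by
    intro z hz
    obtain ⟨k, hk⟩ := Subgroup.mem_zpowers_iff.mp (Subgroup.mem_subgroupOf.mp hz)
    rcases Int.even_or_odd k with ⟨m, hm⟩ | ⟨m, hm⟩
    · rw [hm, ← two_mul, zpow_mul, show x ^ (2 : ℤ) = 1 from by exact_mod_cast hx2, one_zpow] at hk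
      rw [show z = 1 from Subtype.ext hk.symm, centScal_one]
    · rw [hm, zpow_add, zpow_mul, show x ^ (2 : ℤ) = 1 from by exact_mod_cast hx2, one_zpow, one_mul, zpow_one] at hk
      rw [centScal, hθx z hk.symm, div_self (CfsgLib.Char.irr_one_ne_zero θ.2)]
  have hnorm : (2 : ℂ) * ∑ s : Subgroup.centralizer ({x} : Set G), (if 2 ∣ orderOf s then 0 else
      (θ : Subgroup.centralizer ({x} : Set G) → ℂ) s * (starRingEnd ℂ) ((θ : Subgroup.centralizer ({x} : Set G) → ℂ) s)) =
      (Nat.card (Subgroup.centralizer ({x} : Set G)) : ℂ) := by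
    have h1 := CfsgLib.Char.classInner_irr_self θ.2
    rw [CfsgLib.Char.classInner_def, inv_mul_eq_one₀ CfsgLib.Char.card_ne_zero',
      sum_eq_card_mul_regular (p := 2) hZp hZC (fun d hd y => ?_) (fun g w hw hwZ => ?_), hZcard] at h1
    · rw [h1]; norm_num
    · rw [char_central_mul θ (hZC hd), hθ2 d hd, one_mul]
    · rw [eq_zero_of_pPart_notMem hM hZC hdeg hw hwZ, zero_mul]
  -- proportionality
  set V := Submodule.span ℂ ((fun φ : IrrCharacter (Subgroup.centralizer ({x} : Set G)) =>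
    pRegularPart 2 (φ : Subgroup.centralizer ({x} : Set G) → ℂ)) '' b) with hV
  have hVrank : Module.finrank ℂ V = 1 := hrank
  have hθne : (⟨pRegularPart 2 (θ : Subgroup.centralizer ({x} : Set G) → ℂ),
      Submodule.subset_span (Set.mem_image_of_mem _ hθ)⟩ : V) ≠ 0 := fun h0 => by
    have h1 := congrFun (congrArg Subtype.val h0) 1
    have this : pRegularPart 2 (θ : Subgroup.centralizer ({x} : Set G) → ℂ) 1 = 0 := h1
    rw [CfsgLib.BlockArith.pRegularPart_apply, if_neg (by rw [orderOf_one]; norm_num)] at this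
    exact CfsgLib.Char.irr_one_ne_zero θ.2 this
  have hsec : ∀ χ : IrrCharacter G, ∃ c : ℂ, ∀ y : Subgroup.centralizer ({x} : Set G), ¬ 2 ∣ orderOf y →
      CfsgLib.BlockArith.secPart x b χ y = c * (θ : Subgroup.centralizer ({x} : Set G) → ℂ) y := by
    intro χ
    set f := fun c : Subgroup.centralizer ({x} : Set G) => (χ : G → ℂ) (x * (c : G))
    have hmem : pRegularPart 2 (CfsgLib.BlockArith.secPart x b χ) ∈ V := by
      rw [show pRegularPart 2 (CfsgLib.BlockArith.secPart x b χ) = ∑ φ : IrrCharacter (Subgroup.centralizer ({x} : Set G)),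
          (if φ ∈ b then classInner f (φ : Subgroup.centralizer ({x} : Set G) → ℂ) else 0) •
            pRegularPart 2 (φ : Subgroup.centralizer ({x} : Set G) → ℂ) from funext fun y => by
        simp only [CfsgLib.BlockArith.pRegularPart_apply, Finset.sum_apply, Pi.smul_apply, smul_eq_mul,
          CfsgLib.BlockArith.secPart, blockPart_apply]
        split_ifs with hy
        · simp
        · exact Finset.sum_congr rfl fun φ _ => by split_ifs <;> simp [f]]
      refine Submodule.sum_mem _ fun φ _ => ?_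
      split_ifs with h
      · exact Submodule.smul_mem _ _ (Submodule.subset_span (Set.mem_image_of_mem _ h))
      · rw [zero_smul]; exact Submodule.zero_mem _
    obtain ⟨c, hc⟩ := (finrank_eq_one_iff_of_nonzero' _ hθne).mp hVrank ⟨_, hmem⟩
    refine ⟨c, fun y hy => ?_⟩
    have h := congrFun (congrArg Subtype.val hc) y
    simp only [Submodule.coe_smul, Pi.smul_apply, smul_eq_mul, CfsgLib.BlockArith.pRegularPart_apply, if_neg hy] at h
    exact h.symm
  choose c hc using hsec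
  have hval : ∀ χ ∈ B, ∀ y : Subgroup.centralizer ({x} : Set G), ¬ 2 ∣ orderOf y →
      (χ : G → ℂ) (x * (y : G)) = c χ * (θ : Subgroup.centralizer ({x} : Set G) → ℂ) y := by
    intro χ hχ y hy
    have h := sum_inducing hM hxp hB χ hy
    rw [if_pos hχ, Finset.sum_eq_single (⟨b, hb.1⟩ : {b : Set (IrrCharacter (Subgroup.centralizer ({x} : Set G))) //
      IsPBlock M b}) (fun b' _ hne => if_neg fun h' => hne (Subtype.ext (huniq b'.1 h'))) (by simp), if_pos hb] at h
    rw [← h]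
    exact hc χ y hy
  have hcontrib : ∀ χ ψ : IrrCharacter G,
      CfsgLib.BlockArith.contrib 2 x b χ ψ = c χ * (starRingEnd ℂ) (c ψ) := by
    intro χ ψ
    simp only [CfsgLib.BlockArith.contrib, hbd, pow_one]
    rw [Finset.sum_congr rfl fun s _ => show (if 2 ∣ orderOf s then 0 else CfsgLib.BlockArith.secPart x b χ s *
        (starRingEnd ℂ) (CfsgLib.BlockArith.secPart x b ψ s)) = c χ * (starRingEnd ℂ) (c ψ) *
        (if 2 ∣ orderOf s then 0 else (θ : Subgroup.centralizer ({x} : Set G) → ℂ) s *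
          (starRingEnd ℂ) ((θ : Subgroup.centralizer ({x} : Set G) → ℂ) s)) by
      split_ifs with hs
      · rw [mul_zero]
      · rw [hc χ s hs, hc ψ s hs, map_mul]; ring, ← Finset.mul_sum]
    have hC0 : (Nat.card (Subgroup.centralizer ({x} : Set G)) : ℂ) ≠ 0 := CfsgLib.Char.card_ne_zero'
    rw [div_mul_eq_mul_div, div_eq_iff hC0, ← hnorm]
    push_cast
    ring
  -- the two members
  obtain ⟨χ₁, χ₂, h12, hB2⟩ := Set.ncard_eq_two.mp (by rw [← Nat.card_coe_set_eq]; exact hcard)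
  have hχ₁ : χ₁ ∈ B := by rw [hB2]; exact Set.mem_insert _ _
  have hχ₂ : χ₂ ∈ B := by rw [hB2]; exact Set.mem_insert_of_mem _ rfl
  have hsum : c χ₁ * (starRingEnd ℂ) (c χ₁) + c χ₂ * (starRingEnd ℂ) (c χ₂) = 2 := by
    have h := CfsgLib.BlockArith.sum_contrib_self hM hxp hb
    rw [hrank, hbd, ← Finset.sum_filter, show (Finset.univ.filter fun χ : IrrCharacter G => χ ∈ B) = {χ₁, χ₂} by
      ext χ; simp [hB2], Finset.sum_pair h12, hcontrib, hcontrib] at h
    rw [h]; norm_num
  have hreal : ∀ χ : IrrCharacter G, χ ∈ B → (starRingEnd ℂ) (c χ) = c χ := by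
    intro χ hχ
    have h := hval χ hχ 1 (by rw [orderOf_one]; norm_num)
    rw [OneMemClass.coe_one, mul_one] at h
    have h' := congrArg (starRingEnd ℂ) h
    rw [← CfsgLib.Char.char_inv (CfsgLib.Char.isCharacter_of_isIrr χ.2), hxi, h, map_mul,
      CfsgLib.Char.char_conj_one (CfsgLib.Char.isCharacter_of_isIrr θ.2)] at h'
    exact (mul_right_cancel₀ (CfsgLib.Char.irr_one_ne_zero θ.2) h').symm
  have hheight : ∀ χ ∈ B, blockHeight 2 B (χ : G → ℂ) = 0 := fun χ hχ => by
    by_contra h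
    have := CfsgLib.BlockArith.height_le hM hB hχ h
    omega
  have hint : ∀ χ ∈ B, ∃ m : ℤ, c χ * c χ = m ∧ 0 < m := by
    intro χ hχ
    obtain ⟨m, hm⟩ := CfsgLib.BlockArith.contrib_int hM hb.1 hx2 χ χ
    have hne := CfsgLib.BlockArith.contrib_ne_zero hM hxp hb hχ (hheight χ hχ) hχ (hheight χ hχ)
    rw [hm] at hne
    rw [hcontrib, Complex.mul_conj] at hm
    refine ⟨m, ?_, ?_⟩
    · rw [← hm, ← Complex.mul_conj, hreal χ hχ]
    · have h2 : Complex.normSq (c χ) = (m : ℝ) := by exact_mod_cast hm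
      have h3 := Complex.normSq_nonneg (c χ)
      rw [h2] at h3
      have h4 : m ≠ 0 := fun h => hne (by simp [h])
      have h5 : (0 : ℤ) ≤ m := by exact_mod_cast h3
      omega
  rw [hreal χ₁ hχ₁, hreal χ₂ hχ₂] at hsum
  obtain ⟨m₁, hm₁, hp₁⟩ := hint χ₁ hχ₁
  obtain ⟨m₂, hm₂, hp₂⟩ := hint χ₂ hχ₂
  have hm : m₁ + m₂ = 2 := by
    rw [hm₁, hm₂] at hsum
    exact_mod_cast hsum
  have hsq : ∀ χ : IrrCharacter G, c χ * c χ = 1 → ∃ ε : ℤ, (ε = 1 ∨ ε = -1) ∧ c χ = (ε : ℂ) := fun χ h => by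
    rcases mul_self_eq_one_iff.mp h with h1 | h1
    · exact ⟨1, Or.inl rfl, by rw [h1, Int.cast_one]⟩
    · exact ⟨-1, Or.inr rfl, by rw [h1, Int.cast_neg, Int.cast_one]⟩
  obtain ⟨ε₁, hε₁, hc₁⟩ := hsq χ₁ (by rw [hm₁, show m₁ = 1 by omega, Int.cast_one])
  obtain ⟨ε₂, hε₂, hc₂⟩ := hsq χ₂ (by rw [hm₂, show m₂ = 1 by omega, Int.cast_one])
  have horth : ∀ g : G, ¬ 2 ∣ orderOf g → (ε₁ : ℂ) * (χ₁ : G → ℂ) g + (ε₂ : ℂ) * (χ₂ : G → ℂ) g = 0 := by
    intro g hg
    have h := block_orthogonality hM (g := x) (h := g⁻¹) (x := x) (y := 1) (isPPart_self Nat.prime_two hxp)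
      (isPPart_one_iff.mpr (by rwa [orderOf_inv])) (fun h => by
        rw [isConj_one_left.mp h, orderOf_one] at hx; omega) hB
    rw [← Finset.sum_filter, show (Finset.univ.filter fun χ : IrrCharacter G => χ ∈ B) = {χ₁, χ₂} by
      ext χ; simp [hB2], Finset.sum_pair h12] at h
    have e : ∀ χ : IrrCharacter G, χ ∈ B →
        (χ : G → ℂ) x * (starRingEnd ℂ) ((χ : G → ℂ) g⁻¹) =
          (θ : Subgroup.centralizer ({x} : Set G) → ℂ) 1 * (c χ * (χ : G → ℂ) g) := fun χ hχ => by
      have h' := hval χ hχ 1 (by rw [orderOf_one]; norm_num)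
      rw [OneMemClass.coe_one, mul_one] at h'
      rw [h', CfsgLib.Char.char_inv (CfsgLib.Char.isCharacter_of_isIrr χ.2), Complex.conj_conj]
      ring
    rw [e χ₁ hχ₁, e χ₂ hχ₂, ← mul_add, hc₁, hc₂] at h
    exact (mul_eq_zero.mp h).resolve_left (CfsgLib.Char.irr_one_ne_zero θ.2)
  have hopp : ε₁ * ε₂ = -1 := by
    have h := horth 1 (by rw [orderOf_one]; norm_num)
    rw [charDegree_eq (CfsgLib.Char.isCharacter_of_isIrr χ₁.2), charDegree_eq (CfsgLib.Char.isCharacter_of_isIrr χ₂.2)] at h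
    have h' : ε₁ * (charDegree (χ₁ : G → ℂ) : ℤ) + ε₂ * (charDegree (χ₂ : G → ℂ) : ℤ) = 0 := by exact_mod_cast h
    have := charDegree_ne_zero χ₁
    have := charDegree_ne_zero χ₂
    rcases hε₁ with e1 | e1 <;> rcases hε₂ with e2 | e2 <;> simp only [e1, e2] at h' ⊢ <;> omega
  have hagree : ∀ g : G, ¬ 2 ∣ orderOf g → (χ₁ : G → ℂ) g = (χ₂ : G → ℂ) g := by
    intro g hg
    have h := horth g hg
    have e2 : (ε₂ : ℂ) = -(ε₁ : ℂ) := by
      have : ε₂ = -ε₁ := by rcases hε₁ with e1 | e1 <;> simp only [e1] at hopp ⊢ <;> omega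
      rw [this, Int.cast_neg]
    rw [e2, neg_mul, ← sub_eq_add_neg, ← mul_sub] at h
    exact sub_eq_zero.mp ((mul_eq_zero.mp h).resolve_left (Int.cast_ne_zero.mpr (by omega)))
  refine ⟨hcard, fun χ hχ ψ hψ g hg => ?_, χ₁, hχ₁, χ₂, hχ₂, h12, ε₁, ε₂, hε₁, hε₂, hopp, fun y hy => ⟨?_, ?_⟩⟩
  · rw [hB2] at hχ hψ
    rcases hχ with rfl | rfl <;> rcases hψ with rfl | rfl
    · rfl
    · exact hagree g hg
    · exact (hagree g hg).symm
    · rfl
  · rw [hval χ₁ hχ₁ y hy, hc₁]
  · rw [hval χ₂ hχ₂ y hy, hc₂]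

end Cfsg.Agent.S4513
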