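import Cfsg.Statements.S4517
import Cfsg.Agent.Lib.BlockArith.RealBlock

set_option autoImplicit false
open Cfsg

namespace Cfsg.Agent.S4517

/-- Let G be a finite group, M a maximal ideal of the algebraic integers containing 2, and k a natural number coprime to the order of G with g ^ k = g⁻¹ for every element g of odd order (so that g ↦ g ^ k induces a field automorphism of the character values inverting the roots of unity of odd order). If B is a 2-block of full defect (its defect equals the exponent of 2 in the order of G) that is stable under χ ↦ χ ∘ (· ^ k), then B is the principal 2-block. -/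
theorem result {G : Type*} [Group G] [Finite G] (M : Ideal Cfsg.AlgInt) (hM : Cfsg.IsPModular 2 M) (k : ℕ) (hk : Nat.Coprime k (Nat.card G)) (hk₂ : ∀ g : G, Odd (orderOf g) → g ^ k = g⁻¹) (B : Set (Cfsg.IrrCharacter G)) (hB : Cfsg.IsPBlock M B) (hdef : Cfsg.blockDefect 2 B = (Nat.card G).factorization 2) (hstab : ∀ χ ∈ B, ∃ ψ ∈ B, ∀ g : G, (ψ : G → ℂ) g = (χ : G → ℂ) (g ^ k)) : B = Cfsg.principalBlock M G := by
  classical
  have := Fintype.ofFinite G
  have := hM.2.1
  -- a member of odd degree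
  obtain ⟨χ, hχ, hdeg⟩ : ∃ χ ∈ B, ¬ 2 ∣ Cfsg.charDegree (χ : G → ℂ) := by
    set T := (fun χ : Cfsg.IrrCharacter G => (Cfsg.charDegree (χ : G → ℂ)).factorization 2) '' B
    have hT : T.Nonempty := (CfsgLib.Blocks.IsPBlock.nonempty hB).image _
    obtain ⟨χ, hχ, he⟩ := Nat.sInf_mem hT
    refine ⟨χ, hχ, fun hdvd => ?_⟩
    have hpos : 0 < (Cfsg.charDegree (χ : G → ℂ)).factorization 2 :=
      Nat.prime_two.factorization_pos_of_dvd (CfsgLib.CharBlocks.charDegree_pos χ.2).ne' hdvd
    have hle : (Cfsg.charDegree (χ : G → ℂ)).factorization 2 ≤ (Nat.card G).factorization 2 :=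
      (Nat.factorization_le_iff_dvd (CfsgLib.CharBlocks.charDegree_pos χ.2).ne'
        Nat.card_pos.ne').mpr (CfsgLib.CharBlocks.charDegree_dvd_card χ.2) 2
    have hd : (Nat.card G).factorization 2 - sInf T = (Nat.card G).factorization 2 := hdef
    simp only at he
    rw [← he] at hd
    omega
  refine CfsgLib.BlockArith.eq_principalBlock_of_inv_invariant hM hB
    (CfsgLib.BlockArith.res_blockCoeff_one_ne_zero hM hB hχ hdeg) fun x hx => ?_
  rw [← hk₂ x (Nat.odd_iff.mpr (Nat.two_dvd_ne_zero.mp hx)), CfsgLib.Blocks.blockCoeff_eq,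
    CfsgLib.Blocks.blockCoeff_eq]
  congr 1
  rw [← Finset.sum_filter, ← Finset.sum_filter]
  choose σ hσB hσ using hstab
  have hsurj : Function.Surjective fun g : G => g ^ k := (powCoprime hk.symm).surjective
  refine Finset.sum_bij (fun χ hχ => σ χ (Finset.mem_filter.mp hχ).2) ?_ ?_ ?_ ?_
  · intro χ hχ
    exact Finset.mem_filter.mpr ⟨Finset.mem_univ _, hσB _ _⟩
  · intro χ₁ h₁ χ₂ h₂ he
    refine Subtype.ext (funext fun g => ?_)
    obtain ⟨y, rfl⟩ := hsurj g
    have := congrArg (fun c : Cfsg.IrrCharacter G => (c : G → ℂ) y) he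
    simpa only [hσ] using this
  · intro ψ hψ
    have hinj : Function.Injective fun c : {c // c ∈ B} => (⟨σ c.1 c.2, hσB _ _⟩ : {c // c ∈ B}) :=
      fun c₁ c₂ he => Subtype.ext (Subtype.ext (funext fun g => by
        obtain ⟨y, rfl⟩ := hsurj g
        have := congrArg (fun c : {c // c ∈ B} => (c.1 : G → ℂ) y) he
        simpa only [hσ] using this))
    obtain ⟨⟨c, hc⟩, he⟩ := (Finite.injective_iff_surjective.mp hinj)
      ⟨ψ, (Finset.mem_filter.mp hψ).2⟩
    exact ⟨c, Finset.mem_filter.mpr ⟨Finset.mem_univ _, hc⟩, congrArg Subtype.val he⟩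
  · intro χ hχ
    rw [hσ, hσ, one_pow]

end Cfsg.Agent.S4517
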