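import Cfsg.Statements.S4518
import Cfsg.Agent.Lib.CharNormal.Clifford
import Cfsg.Agent.Lib.CharNormal.Galois
import Mathlib.GroupTheory.Perm.Cycle.Type

set_option autoImplicit false
open Cfsg

namespace Cfsg.Agent.S4518

/-- Let N be a normal subgroup of the finite group G whose index is not divisible by the prime p, and let k be coprime to the order of G with k ^ (p ^ e) ≡ 1 modulo the order of G for some e (so g ↦ g ^ k induces a field automorphism of p-power order on character values). If an irreducible character χ of G satisfies χ (g ^ k) = χ g for all g, then every irreducible constituent θ of the restriction of χ to N satisfies θ (n ^ k) = θ n for all n. -/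
theorem result {G : Type*} [Group G] [Fintype G] (p : ℕ) [Fact p.Prime] (N : Subgroup G) [N.Normal] [Fintype N] (hidx : ¬ p ∣ N.index) (k e : ℕ) (hk : Nat.Coprime k (Nat.card G)) (hke : k ^ (p ^ e) ≡ 1 [MOD Nat.card G]) (χ : Cfsg.IrrCharacter G) (hχ : ∀ g : G, (χ : G → ℂ) (g ^ k) = (χ : G → ℂ) g) (θ : Cfsg.IrrCharacter N) (hθ : Cfsg.classInner (fun n : N => (χ : G → ℂ) n) (θ : N → ℂ) ≠ 0) : ∀ n : N, (θ : N → ℂ) (n ^ k) = (θ : N → ℂ) n := by
  classical
  obtain ⟨σ, hσ⟩ := CfsgLib.CharNormal.exists_ringEquiv_root_pow (n := Nat.card G) Nat.card_pos.ne' hk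
  have hval : ∀ (η : Cfsg.IrrCharacter N) (n : N),
      (CfsgLib.CharNormal.galIrr σ η : N → ℂ) n = (η : N → ℂ) (n ^ k) := fun η n =>
    CfsgLib.CharNormal.ringEquiv_char_apply hσ (CfsgLib.Char.isCharacter_of_isIrr η.2)
      ((orderOf_dvd_natCard n).trans (Subgroup.card_subgroup_dvd_card N))
  have hstab : ∀ η ∈ CfsgLib.CharNormal.orbit N θ,
      CfsgLib.CharNormal.galIrr σ η ∈ CfsgLib.CharNormal.orbit N θ := by
    intro η hη
    obtain ⟨g, hg⟩ := (CfsgLib.CharNormal.mem_orbit N).mp hη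
    have h1 : Cfsg.classInner (fun n : N => (χ : G → ℂ) n) (η : N → ℂ) ≠ 0 := by
      rw [← hg, CfsgLib.CharNormal.classInner_res_conjFun N (CfsgLib.Char.isClassFunction_of_isIrr χ.2)]
      exact hθ
    have e : (σ ∘ fun n : N => (χ : G → ℂ) n) = fun n : N => (χ : G → ℂ) n := funext fun n =>
      (CfsgLib.CharNormal.ringEquiv_char_apply hσ (CfsgLib.Char.isCharacter_of_isIrr χ.2)
        (orderOf_dvd_natCard (n : G))).trans (hχ _)
    have h2 : Cfsg.classInner (fun n : N => (χ : G → ℂ) n)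
        (CfsgLib.CharNormal.galIrr σ η : N → ℂ) ≠ 0 := by
      rw [← e]
      show Cfsg.classInner _ (σ ∘ (η : N → ℂ)) ≠ 0
      rw [CfsgLib.CharNormal.classInner_ringEquiv σ _ (CfsgLib.Char.isCharacter_of_isIrr η.2)]
      exact (map_ne_zero σ).mpr h1
    obtain ⟨g', hg'⟩ := CfsgLib.CharNormal.exists_conj_of_constituents N χ.2 θ.2
      (CfsgLib.CharNormal.galIrr σ η).2 hθ h2
    exact (CfsgLib.CharNormal.mem_orbit N).mpr ⟨g', hg'⟩
  let f : (CfsgLib.CharNormal.orbit N θ) → (CfsgLib.CharNormal.orbit N θ) :=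
    fun η => ⟨_, hstab η.1 η.2⟩
  have hf : Function.Injective f := fun a b h =>
    Subtype.ext ((CfsgLib.CharNormal.galIrr σ).injective (congrArg Subtype.val h))
  let π : Equiv.Perm (CfsgLib.CharNormal.orbit N θ) := Equiv.ofBijective f (Finite.injective_iff_bijective.mp hf)
  have hiter : ∀ (j : ℕ) (η : (CfsgLib.CharNormal.orbit N θ)) (n : N),
      (((π ^ j) η).1 : N → ℂ) n = (η.1 : N → ℂ) (n ^ (k ^ j)) := by
    intro j
    induction j with
    | zero => intro η n; simp
    | succ j ih =>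
      intro η n
      rw [pow_succ' π, Equiv.Perm.mul_apply]
      show (CfsgLib.CharNormal.galIrr σ ((π ^ j) η).1 : N → ℂ) n = _
      rw [hval, ih, ← pow_mul, ← pow_succ']
  have hπ : π ^ p ^ e = 1 := Equiv.ext fun η => Subtype.ext (Subtype.ext (funext fun n => by
    rw [hiter, Equiv.Perm.one_apply]
    refine congrArg _ ((pow_eq_pow_iff_modEq.mpr ?_).trans (pow_one n))
    exact hke.of_dvd ((orderOf_dvd_natCard n).trans (Subgroup.card_subgroup_dvd_card N))))
  obtain ⟨η, hη⟩ := π.exists_fixed_point_of_prime (p := p) (n := e) (by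
    rw [Fintype.card_coe]
    exact fun h => hidx (h.trans (CfsgLib.CharNormal.card_orbit_dvd_index N θ))) hπ
  have hfix : ∀ n : N, (η.1 : N → ℂ) (n ^ k) = (η.1 : N → ℂ) n := fun n => by
    rw [← hval]
    exact congrArg (fun x : (CfsgLib.CharNormal.orbit N θ) => (x.1 : N → ℂ) n) hη
  obtain ⟨g, hg⟩ := (CfsgLib.CharNormal.mem_orbit N).mp η.2
  intro n
  have h2 : (θ : N → ℂ) = CfsgLib.CharNormal.conjFun N g⁻¹ (η.1 : N → ℂ) := by
    rw [← hg, CfsgLib.CharNormal.conjFun_inv_conjFun]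
  rw [h2, CfsgLib.CharNormal.conjFun_apply, CfsgLib.CharNormal.conjFun_apply]
  refine Eq.trans (congrArg _ (Subtype.ext ?_)) (hfix _)
  show g⁻¹ * ((n ^ k : N) : G) * g⁻¹⁻¹ = ((_ : N) : G)
  rw [Subgroup.coe_pow, Subgroup.coe_pow, conj_pow]

end Cfsg.Agent.S4518
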