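import Cfsg.Statements.S4519
import Cfsg.Agent.Lib.CharNormal.OddGaloisFixed

set_option autoImplicit false
open Cfsg

namespace Cfsg.Agent.S4519

/-- Let N be a normal subgroup of odd index in the finite group G, and let k be coprime to the order of G with k ^ (2 ^ e) ≡ 1 modulo the order of G for some e and g ^ k = g⁻¹ for every element g of odd order (so g ↦ g ^ k induces a field automorphism of 2-power order inverting the roots of unity of odd order). If an irreducible character θ of N satisfies θ (n ^ k) = θ n for all n, then there is exactly one irreducible character χ of G with θ a constituent of its restriction to N and χ (g ^ k) = χ g for all g; moreover, if θ is invariant under conjugation by G, that χ restricts to θ. -/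
theorem result {G : Type*} [Group G] [Fintype G] (N : Subgroup G) [hN : N.Normal] [Fintype N] (hidx : Odd N.index) (k e : ℕ) (hk : Nat.Coprime k (Nat.card G)) (hke : k ^ (2 ^ e) ≡ 1 [MOD Nat.card G]) (hk₂ : ∀ g : G, Odd (orderOf g) → g ^ k = g⁻¹) (θ : Cfsg.IrrCharacter N) (hθ : ∀ n : N, (θ : N → ℂ) (n ^ k) = (θ : N → ℂ) n) : ∃ χ : Cfsg.IrrCharacter G, (Cfsg.classInner (fun n : N => (χ : G → ℂ) n) (θ : N → ℂ) ≠ 0 ∧ (∀ g : G, (χ : G → ℂ) (g ^ k) = (χ : G → ℂ) g) ∧ ((∀ g : G, ∀ n : N, (θ : N → ℂ) ⟨g * n * g⁻¹, hN.conj_mem n n.2 g⟩ = (θ : N → ℂ) n) → ∀ n : N, (χ : G → ℂ) n = (θ : N → ℂ) n)) ∧ ∀ χ' : Cfsg.IrrCharacter G, Cfsg.classInner (fun n : N => (χ' : G → ℂ) n) (θ : N → ℂ) ≠ 0 → (∀ g : G, (χ' : G → ℂ) (g ^ k) = (χ' : G → ℂ) g) → χ' = χ := by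

  classical
  have hn0 : Nat.card G ≠ 0 := Nat.card_pos.ne'
  obtain ⟨σ, hσ⟩ := CfsgLib.CharNormal.exists_ringEquiv_root_pow hn0 hk
  have hInv : CfsgLib.OddGaloisFixed.InvertsOdd σ G := by
    intro g z hz hodd
    have hd : orderOf z ∣ orderOf g := orderOf_dvd_of_pow_eq_one hz
    obtain ⟨c, hc⟩ := hd.trans (orderOf_dvd_natCard g)
    have hzn : z ^ Nat.card G = 1 := by rw [hc, pow_mul, pow_orderOf_eq_one, one_pow]
    set g' := g ^ (orderOf g / orderOf z) with hg'
    have ho : orderOf g' = orderOf z := orderOf_pow_orderOf_div (orderOf_pos g).ne' hd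
    have h1 : g' ^ (k + 1) = 1 := by rw [pow_succ, hk₂ g' (ho ▸ hodd), inv_mul_cancel]
    rw [← orderOf_dvd_iff_pow_eq_one, ho, orderOf_dvd_iff_pow_eq_one, pow_succ] at h1
    rw [hσ z hzn]
    exact eq_inv_of_mul_eq_one_left h1
  have hG : ∀ {φ : G → ℂ}, Cfsg.IsCharacter G φ → ∀ g : G, σ (φ g) = φ (g ^ k) := fun hφ g =>
    CfsgLib.CharNormal.ringEquiv_char_apply hσ hφ (orderOf_dvd_natCard g)
  have hfix : ∀ n : N, σ ((θ : N → ℂ) n) = (θ : N → ℂ) n := fun n => by
    rw [CfsgLib.CharNormal.ringEquiv_char_apply hσ (CfsgLib.Char.isCharacter_of_isIrr θ.2)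
      ((orderOf_dvd_natCard n).trans (Subgroup.card_subgroup_dvd_card N)), hθ n]
  obtain ⟨χ, hχ, h0, hχfix, hext, huniq⟩ := CfsgLib.OddGaloisFixed.exists_unique_fixed N hInv hidx θ.2 hfix
  refine ⟨⟨χ, hχ⟩, ⟨h0, fun g => ?_, fun hinv => hext fun g => funext fun n => hinv g n⟩,
    fun χ' h0' hfix' => Subtype.ext (huniq _ χ'.2 h0' fun g => ?_)⟩
  · exact (hG (CfsgLib.Char.isCharacter_of_isIrr hχ) g).symm.trans (hχfix g)
  · exact (hG (CfsgLib.Char.isCharacter_of_isIrr χ'.2) g).trans (hfix' g)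


end Cfsg.Agent.S4519
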