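import Cfsg.Statements.S4520
import Cfsg.Agent.Lib.Blocks.Covering
import Cfsg.Agent.Lib.BlockArith.RealBlock
import Cfsg.Agent.Lib.CharBlocks.RealOddIndex
import Cfsg.Agent.Lib.Char.PermLemma

set_option autoImplicit false
open Cfsg

namespace Cfsg.Agent.S4520
open CfsgLib.Blocks CfsgLib.CharNormal CfsgLib.Char
open scoped ComplexConjugate

variable {G : Type*} [Group G] [Fintype G] {M : Ideal Cfsg.AlgInt} [M.IsMaximal]

lemma centralizer_inv (g : G) :
    Subgroup.centralizer ({g⁻¹} : Set G) = Subgroup.centralizer ({g} : Set G) := by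
  ext x
  simp only [Subgroup.mem_centralizer_singleton_iff]
  exact ⟨fun h => (Commute.inv_right_iff.mp (show Commute x g⁻¹ from h)).eq,
    fun h => (Commute.inv_right (show Commute x g from h))⟩

lemma centralChar_irrOne (g : G) :
    centralChar ((irrOne : IrrCharacter G) : G → ℂ) g =
      ((Subgroup.centralizer ({g} : Set G)).index : ℂ) := by
  simp [centralChar, irrOne_apply]

/-- The principal block is closed under complex conjugation. -/
lemma irrConj_mem (η : IrrCharacter G) (h : η ∈ principalBlock M G) :
    irrConj η ∈ principalBlock M G := by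
  rw [principalBlock_eq] at h ⊢
  intro g
  have h' := h g⁻¹
  rw [centralChar_irrOne, centralizer_inv] at h'
  rw [centralChar_irrOne]
  have e : centralChar (irrConj η : G → ℂ) g = centralChar (η : G → ℂ) g⁻¹ := by
    simp only [centralChar, irrConj_apply, centralizer_inv,
      char_inv (isCharacter_of_isIrr η.2), char_conj_one (isCharacter_of_isIrr η.2)]
  rw [e]
  exact h'

lemma blockCoeff_inv (x : G) :
    blockCoeff (principalBlock M G) x⁻¹ = blockCoeff (principalBlock M G) x := by
  classical
  rw [blockCoeff_eq, blockCoeff_eq]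
  congr 1
  refine Finset.sum_bij' (fun η _ => irrConj η) (fun η _ => irrConj η) (by simp) (by simp)
    (fun η _ => irrConj_irrConj η) (fun η _ => irrConj_irrConj η) (fun η _ => ?_)
  have hiff : irrConj η ∈ principalBlock M G ↔ η ∈ principalBlock M G :=
    ⟨fun h => irrConj_irrConj η ▸ irrConj_mem _ h, irrConj_mem η⟩
  by_cases hη : η ∈ principalBlock M G
  · rw [if_pos hη, if_pos (hiff.mpr hη), irrConj_apply, irrConj_apply,
      char_inv (isCharacter_of_isIrr η.2), char_conj_one (isCharacter_of_isIrr η.2)]
  · rw [if_neg hη, if_neg (fun h => hη (hiff.mp h))]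

/-- Let N be a normal subgroup of odd index in the finite group G, M a maximal ideal of the algebraic integers containing 2, and k coprime to the order of G with k ^ (2 ^ e) ≡ 1 modulo the order of G for some e and g ^ k = g⁻¹ for every element g of odd order. Let θ be an irreducible character of N and χ an irreducible character of G over θ, both unchanged by composing with g ↦ g ^ k. Then χ lies in the principal 2-block of G if and only if θ lies in the principal 2-block of N. -/
theorem result {G : Type*} [Group G] [Fintype G] (M : Ideal Cfsg.AlgInt) (hM : Cfsg.IsPModular 2 M) (N : Subgroup G) [N.Normal] [Fintype N] (hidx : Odd N.index) (k e : ℕ) (hk : Nat.Coprime k (Nat.card G)) (hke : k ^ (2 ^ e) ≡ 1 [MOD Nat.card G]) (hk₂ : ∀ g : G, Odd (orderOf g) → g ^ k = g⁻¹) (θ : Cfsg.IrrCharacter N) (hθ : ∀ n : N, (θ : N → ℂ) (n ^ k) = (θ : N → ℂ) n) (χ : Cfsg.IrrCharacter G) (hχ : ∀ g : G, (χ : G → ℂ) (g ^ k) = (χ : G → ℂ) g) (hover : Cfsg.classInner (fun n : N => (χ : G → ℂ) n) (θ : N → ℂ) ≠ 0) : χ ∈ Cfsg.principalBlock M G ↔ θ ∈ Cfsg.principalBlock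 M N := by
  classical
  haveI : M.IsMaximal := hM.2.1
  have hone : classInner (fun n : N => ((irrOne : IrrCharacter G) : G → ℂ) n)
      ((irrOne : IrrCharacter N) : N → ℂ) ≠ 0 :=
    classInner_res_one_ne_zero irrOne.2 (fun n _ => by simp [irrOne_apply])
  constructor
  · intro hmem
    rw [principalBlock_eq] at hmem ⊢
    obtain ⟨g, hg⟩ := exists_conj_sameBlock_of_congr (M := M) χ.2 hover (θ' := irrOne) fun n => by
      rw [← centralChar_eq_icc_of_over irrOne.2 hone n.2]
      exact ((sameBlock_iff χ irrOne).mpr ((mem_blockOf_iff irrOne χ).mp hmem).symm) n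
    have h2 := sameBlock_conjFun hg g⁻¹
    rw [conjFun_inv_conjFun] at h2
    have e : conjFun N g⁻¹ ((irrOne : IrrCharacter N) : N → ℂ) =
        ((irrOne : IrrCharacter N) : N → ℂ) := by
      funext n; simp [conjFun_apply, irrOne_apply]
    rw [e] at h2
    exact (mem_blockOf_iff irrOne θ).mpr ((sameBlock_iff θ irrOne).mp h2).symm
  · intro hmem
    rw [principalBlock_eq] at hmem ⊢
    have hN : ∀ n ∈ N, bomega (M := M) χ (zclass M n) = bomega irrOne (zclass M n) := by
      intro n hn
      rw [bomega_apply, bomega_apply, ← memLocalIdeal_sub_iff, coe_zomega_zclass, coe_zomega_zclass,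
        centralChar_eq_icc_of_over χ.2 hover hn, centralChar_eq_icc_of_over irrOne.2 hone hn]
      exact icc_congr_of_sameBlock N
        ((sameBlock_iff θ irrOne).mpr ((mem_blockOf_iff irrOne θ).mp hmem).symm) n
    have hB : IsPBlock M (blockOf M ((irrOne : IrrCharacter G) : G → ℂ)) := isPBlock_blockOf _
    have : Finite (ConjClasses G) := Finite.of_surjective _ ConjClasses.mk_surjective
    have := Fintype.ofFinite (ConjClasses G)
    let t : G → Res M := fun g =>
      res M ⟨blockCoeff (blockOf M ((irrOne : IrrCharacter G) : G → ℂ)) g,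
        blockCoeff_mem_locRing hB g⟩ *
        (bomega χ (zclass M g) - bomega irrOne (zclass M g))
    have ht_conj : ∀ g c : G, t (c * g * c⁻¹) = t g := by
      intro g c
      have e : zclass M (c * g * c⁻¹) = zclass M g := Subtype.ext (by
        rw [coe_zclass, coe_zclass]
        apply MonoidAlgebra.coeff_injective
        ext x
        rw [classSum_coeff, classSum_coeff]
        refine if_congr ⟨fun h => ?_, fun h => ?_⟩ rfl rfl
        · exact (isConj_iff.mpr ⟨c, rfl⟩).trans h
        · exact (isConj_iff.mpr ⟨c, rfl⟩).symm.trans h)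
      simp only [t, blockCoeff_conj, e]
    have ht_even : ∀ g : G, 2 ∣ orderOf g → t g = 0 := by
      intro g hg
      have : (⟨blockCoeff (blockOf M ((irrOne : IrrCharacter G) : G → ℂ)) g,
        blockCoeff_mem_locRing hB g⟩ : locRing M) = 0 := Subtype.ext (blockCoeff_eq_zero hM hB hg)
      simp only [t, this, map_zero, zero_mul]
    have ht_N : ∀ g ∈ N, t g = 0 := by
      intro g hg
      simp only [t, hN g hg, sub_self, mul_zero]
    have ht_inv : ∀ g : G, t g⁻¹ = t g := by
      intro g
      by_cases hg : 2 ∣ orderOf g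
      · rw [ht_even g hg, ht_even g⁻¹ (by rwa [orderOf_inv])]
      have hodd : Odd (orderOf g) := Nat.not_even_iff_odd.mp (fun h => hg h.two_dvd)
      have hz : ∀ η : IrrCharacter G, (η : G → ℂ) g⁻¹ = (η : G → ℂ) g →
          bomega (M := M) η (zclass M g⁻¹) = bomega η (zclass M g) := by
        intro η hη
        rw [bomega_apply, bomega_apply]
        congr 1
        apply Subtype.ext
        rw [coe_zomega_zclass, coe_zomega_zclass, centralChar, centralChar, centralizer_inv, hη]
      simp only [t]
      rw [hz χ (by rw [← hk₂ g hodd, hχ]), hz irrOne (by simp [irrOne_apply])]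
      congr 2
      apply Subtype.ext
      have hb := blockCoeff_inv (M := M) g
      rw [principalBlock_eq] at hb
      exact hb
    have hsum : ∑ C : ConjClasses G, t C.out = 0 := by
      have h2 : (2 : Res M) = 0 := by
        have h := (Ideal.Quotient.eq_zero_iff_mem (I := M)).mpr hM.2.2
        rw [map_natCast] at h
        exact_mod_cast h
      refine Finset.sum_involution (fun C _ => classInv C) ?_ ?_ (fun C _ => Finset.mem_univ _) ?_
      · intro C _
        obtain ⟨g, rfl⟩ := ConjClasses.mk_surjective C
        rw [classInv_mk]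
        obtain ⟨c, hc⟩ := isConj_iff.mp (ConjClasses.mk_eq_mk_iff_isConj.mp
          (Quotient.out_eq (ConjClasses.mk g))).symm
        obtain ⟨d, hd⟩ := isConj_iff.mp (ConjClasses.mk_eq_mk_iff_isConj.mp
          (Quotient.out_eq (ConjClasses.mk g⁻¹))).symm
        rw [← hc, ← hd, ht_conj, ht_conj, ht_inv, ← two_mul, h2, zero_mul]
      · intro C _ hne he
        apply hne
        obtain ⟨g, hg⟩ : ∃ g, C.out = g := ⟨_, rfl⟩
        rw [hg]
        refine ht_N g (CfsgLib.CharBlocks.RealOddIndex.real_mem N hidx ?_).1
        refine ConjClasses.mk_eq_mk_iff_isConj.mp ?_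
        have hC : ConjClasses.mk g = C := hg ▸ Quotient.out_eq C
        rw [← classInv_mk, hC, he]
      · intro C _
        obtain ⟨g, rfl⟩ := ConjClasses.mk_surjective C
        rw [classInv_mk, classInv_mk, inv_inv]
    have hidem : ∀ η : IrrCharacter G, bomega η (idem hB) = ∑ C : ConjClasses G,
        res M ⟨blockCoeff (blockOf M ((irrOne : IrrCharacter G) : G → ℂ)) C.out,
          blockCoeff_mem_locRing hB _⟩ * bomega η (zclass M C.out) := by
      intro η
      conv_lhs => rw [Zint_eq_sum (idem hB), map_sum]
      refine Finset.sum_congr rfl fun C _ => ?_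
      rw [map_mul, bomega_scal]
      congr 2
    have hkey : bomega χ (idem hB) = bomega irrOne (idem hB) := by
      rw [hidem, hidem, ← sub_eq_zero, ← Finset.sum_sub_distrib, ← hsum]
      exact Finset.sum_congr rfl fun C _ => (mul_sub _ _ _).symm
    rw [bomega_idem, bomega_idem, if_pos (mem_blockOf_self irrOne)] at hkey
    by_contra hc
    rw [if_neg hc] at hkey
    exact zero_ne_one hkey

end Cfsg.Agent.S4520
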