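import Cfsg.Statements.S4531
import Cfsg.Agent.Lib.BlockArith.RankThree.Main

set_option autoImplicit false
open Cfsg

namespace Cfsg.Agent.S4531

/-- Let the finite group G have a 2-block B (relative to a maximal ideal M of the algebraic integers containing 2) of 2-regular rank three (three irreducible Brauer characters) whose defect group D is dihedral of order 2 ^ n with n ≥ 3 or semidihedral. Then the centre of G has odd order and G is not solvable. -/
theorem result {G : Type*} [Group G] [Finite G] (M : Ideal Cfsg.AlgInt) (hM : Cfsg.IsPModular 2 M) (B : Set (Cfsg.IrrCharacter G)) (hB : Cfsg.IsPBlock M B) (D : Subgroup G) (hD : Cfsg.IsDefectGroup 2 M B D) (hD' : (∃ n : ℕ, 3 ≤ n ∧ Nonempty (D ≃* DihedralGroup (2 ^ (n - 1)))) ∨ Cfsg.IsQuasiDihedral D) (hl : Cfsg.blockRank 2 B = 3) : Odd (Nat.card (Subgroup.center G)) ∧ ¬ Group.IsSolvable G := by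
  have : M.IsMaximal := hM.2.1
  let _ := Fintype.ofFinite G
  rcases hD' with ⟨n, hn, ⟨ε⟩⟩ | hS
  · obtain ⟨k, rfl⟩ : ∃ k, n = k + 2 := ⟨n - 2, by omega⟩
    refine CfsgLib.RankThree.center_odd_and_not_solvable hM hB hD hl
      ((CfsgLib.RankThree.hasCycTwo_dihedral ?_).congr ε.symm) fun z hz =>
      CfsgLib.RankThree.not_central_involution_dihedral hM hB hD (show 1 ≤ k by omega) ε hl hz
    have := Nat.pow_le_pow_right (show 0 < 2 by norm_num) (show 2 ≤ k + 2 - 1 by omega)
    omega
  · obtain ⟨k, -, ⟨ε⟩⟩ := CfsgLib.Invol.QDW.exists_equiv_sd hS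
    exact CfsgLib.RankThree.center_odd_and_not_solvable hM hB hD hl
      ((CfsgLib.RankThree.hasCycTwo_sd k).congr ε.symm) fun z hz =>
      CfsgLib.RankThree.not_central_involution_sd hM hB hD ε hl hz

end Cfsg.Agent.S4531
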