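import Cfsg.Statements.S4540
import Cfsg.Agent.Lib.BlockArith.TwoBound

set_option autoImplicit false
open Cfsg

namespace Cfsg.Agent.S4540

/-- Let B be a 2-block of the finite group G (relative to a maximal ideal M of the algebraic integers containing 2) of defect d with defect group D. Let z be an element of D commuting with every element of D, and let b be a block of the centralizer C of z with defect group D that induces B (a major subsection (z, b)). If b has 2-regular rank at most three, then 3·k(B) ≤ 3·k₀(B) + 2·Σ 2 ^ h(χ), where k(B) is the number of members of B, k₀(B) the number of members of height zero, and the sum runs over the members χ of B of positive height h(χ); this bound is at most 3·2 ^ d, so in particular B contains at most 2 ^ d irreducible characters. -/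
theorem result {G : Type*} [Group G] [Finite G] (M : Ideal Cfsg.AlgInt) (hM : Cfsg.IsPModular 2 M) (B : Set (Cfsg.IrrCharacter G)) (hB : Cfsg.IsPBlock M B) (D : Subgroup G) (hD : Cfsg.IsDefectGroup 2 M B D) (z : G) (hzD : z ∈ D) (hzc : ∀ d ∈ D, d * z = z * d) (b : Set (Cfsg.IrrCharacter ↥(Subgroup.centralizer ({z} : Set G)))) (hb : Cfsg.IsInducedBlock M (Subgroup.centralizer ({z} : Set G)) b B) (hbD : Cfsg.IsDefectGroup 2 M b (D.subgroupOf (Subgroup.centralizer ({z} : Set G)))) (hl : Cfsg.blockRank 2 b ≤ 3) : 3 * Nat.card B ≤ 3 * Nat.card {χ : Cfsg.IrrCharacter G // χ ∈ B ∧ Cfsg.blockHeight 2 B (χ : G → ℂ) = 0} + 2 * (∑ᶠ χ ∈ {χ : Cfsg.IrrCharacter G | χ ∈ B ∧ 1 ≤ Cfsg.blockHeight 2 B (χ : G → ℂ)}, 2 ^ Cfsg.blockHeight 2 B (χ : G → ℂ)) ∧ 3 * Nat.card {χ : Cfsg.IrrCharacter G // χ ∈ B ∧ Cfsg.blockHeight 2 B (χ : G → ℂ) = 0} + 2 * (∑ᶠ χ ∈ {χ : Cfsg.IrrCharacter G | χ ∈ B ∧ 1 ≤ Cfsg.blockHeight 2 B (χ : G → ℂ)}, 2 ^ Cfsg.blockHeight 2 B (χ : G → ℂ)) ≤ 3 * 2 ^ Cfsg.blockDefect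 2 B := by
  classical
  have : M.IsMaximal := hM.2.1
  have := Fact.mk Nat.prime_two
  have := Fintype.ofFinite G
  have := Fintype.ofFinite (Subgroup.centralizer ({z} : Set G))
  have hx : ∃ k : ℕ, orderOf z = 2 ^ k := by
    obtain ⟨k, hk⟩ := IsPGroup.iff_orderOf.mp (CfsgLib.Blocks.IsDefectGroup.isPGroup hD) ⟨z, hzD⟩
    exact ⟨k, by rwa [Subgroup.orderOf_mk] at hk⟩
  have hle : D ≤ Subgroup.centralizer ({z} : Set G) := fun d hd =>
    Subgroup.mem_centralizer_singleton_iff.mpr (hzc d hd)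
  have hd : Cfsg.blockDefect 2 b = Cfsg.blockDefect 2 B :=
    Nat.pow_right_injective le_rfl (by
      show 2 ^ _ = 2 ^ _
      rw [← CfsgLib.Blocks.card_defectGroup hM hb.1 hbD, ← CfsgLib.Blocks.card_defectGroup hM hB hD,
        Nat.card_congr (Subgroup.subgroupOfEquivOfLe hle).toEquiv])
  have h2 := CfsgLib.BlockArith.two_major_bound hM hx hb hd hl
  rw [finsum_mem_eq_finite_toFinset_sum _ (Set.toFinite _),
    show (Set.toFinite {χ : IrrCharacter G | χ ∈ B ∧ 1 ≤ blockHeight 2 B (χ : G → ℂ)}).toFinset =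
      Finset.univ.filter (fun χ : IrrCharacter G => χ ∈ B ∧ 1 ≤ blockHeight 2 B (χ : G → ℂ)) by
      ext; simp,
    show Nat.card {χ : IrrCharacter G // χ ∈ B ∧ blockHeight 2 B (χ : G → ℂ) = 0} =
      (Finset.univ.filter fun χ : IrrCharacter G => χ ∈ B ∧ blockHeight 2 B (χ : G → ℂ) = 0).card by
      rw [Nat.card_eq_fintype_card, Fintype.card_subtype],
    show Nat.card B = (Finset.univ.filter fun χ : IrrCharacter G => χ ∈ B).card by
      rw [Nat.card_eq_fintype_card, ← Set.toFinset_card]; congr 1; ext; simp]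
  refine ⟨?_, h2⟩
  rw [← Finset.card_filter_add_card_filter_not (fun χ : IrrCharacter G => blockHeight 2 B (χ : G → ℂ) = 0),
    Finset.filter_filter, Finset.filter_filter, mul_add]
  refine Nat.add_le_add_left ?_ _
  rw [show (Finset.univ.filter fun χ : IrrCharacter G => χ ∈ B ∧ ¬ blockHeight 2 B (χ : G → ℂ) = 0) =
      Finset.univ.filter (fun χ : IrrCharacter G => χ ∈ B ∧ 1 ≤ blockHeight 2 B (χ : G → ℂ)) from
    Finset.filter_congr fun χ _ => by rw [Nat.one_le_iff_ne_zero], Finset.mul_sum]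
  refine le_trans (by rw [smul_eq_mul, mul_comm]) (Finset.card_nsmul_le_sum _ _ 3 fun χ hχ => ?_)
  have := Nat.pow_le_pow_right (show 0 < 2 by norm_num) (Finset.mem_filter.mp hχ).2.2
  omega


end Cfsg.Agent.S4540
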