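import Cfsg.Statements.S4549
import Cfsg.Agent.Lib.Blocks.FixedOverSign
import Cfsg.Agent.Lib.Transfer.Tate
import Cfsg.Agent.Lib.OddLocal.Ten.Complement
import Cfsg.Agent.S0939

set_option autoImplicit false
open Cfsg CfsgLib.Blocks CfsgLib.Char

namespace Cfsg.Agent.S4549

/-- Let G be a finite group and M a maximal ideal of the algebraic integers containing 2. Let k be a natural number with g ^ k = g ^ 3 for every 2-element g and g ^ k = g for every element g of odd order (such k exist); an irreducible character χ is unchanged by g ↦ g ^ k exactly when it is fixed by the field automorphism that cubes the 2-power roots of unity and fixes the roots of unity of odd order. Then G has a normal 2-complement if and only if every member χ of the principal 2-block of odd degree with χ (g ^ k) = χ g for all g has degree one. -/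
theorem result {G : Type*} [Group G] [Finite G] (M : Ideal Cfsg.AlgInt) (hM : Cfsg.IsPModular 2 M) (k : ℕ) (hk₁ : ∀ g : G, (∃ j : ℕ, orderOf g = 2 ^ j) → g ^ k = g ^ 3) (hk₂ : ∀ g : G, Odd (orderOf g) → g ^ k = g) : Cfsg.HasNormalPComplement 2 G ↔ ∀ χ ∈ Cfsg.principalBlock M G, Odd (Cfsg.charDegree (χ : G → ℂ)) → (∀ g : G, (χ : G → ℂ) (g ^ k) = (χ : G → ℂ) g) → Cfsg.charDegree (χ : G → ℂ) = 1 := by
  classical
  haveI : Fact (Nat.Prime 2) := ⟨Nat.prime_two⟩
  haveI := hM.2.1
  let _ := Fintype.ofFinite G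
  constructor
  · intro hnc χ hχ hodd _
    have hidx := CfsgLib.OddLocal.Ten.index_pPrimeCore_eq_pow hnc
    rw [Cfsg.Agent.S0939.result 2 M hM hidx] at hχ
    have : (pPrimeCore 2 G).Normal := by
      have := CfsgLib.Cores.pPrimeCore_characteristic (G := G) 2
      infer_instance
    let _ := Fintype.ofFinite (G ⧸ pPrimeCore 2 G)
    obtain ⟨ψ, hψ, hψe⟩ := CfsgLib.CharNormal.exists_irr_eq_comp_mk' (N := pPrimeCore 2 G) χ.2 hχ
    obtain ⟨d, hd⟩ := exists_degree (isCharacter_of_isIrr hψ)
    obtain ⟨a, ha⟩ := hidx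
    obtain ⟨j, -, rfl⟩ := (Nat.dvd_prime_pow Nat.prime_two).mp
      (ha ▸ Subgroup.index_eq_card (pPrimeCore 2 G) ▸ degree_dvd_card hψ hd)
    have hdeg : charDegree (χ : G → ℂ) = 2 ^ j := CfsgLib.CharBlocks.charDegree_eq (by
      rw [← hψe]; simpa using hd)
    rw [hdeg] at hodd ⊢
    rcases j with _ | j
    · rfl
    · exact absurd (Nat.even_pow.mpr ⟨even_two, j.succ_ne_zero⟩) (Nat.not_even_iff_odd.mpr hodd)
  · intro h
    obtain ⟨σ, happ, hblock, hper⟩ := FixedOverSign.exists_galois hM 3 k (by decide) hk₁ hk₂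
    let P : Sylow 2 G := default
    let _ := Fintype.ofFinite (P : Subgroup G)
    refine CfsgLib.Transfer.hasNormalPComplement_of_le_frattini P fun x hx => ?_
    by_contra hxΦ
    obtain ⟨lam, hsgn, hlx⟩ := FixedOverSign.exists_sign_hom P.2 (x := (⟨x, hx.1⟩ : ↥(P : Subgroup G)))
      fun hmem => hxΦ ⟨_, hmem, rfl⟩
    obtain ⟨χ, hχ, hfix, hodd, hne⟩ := FixedOverSign.exists_fixed_over_sign hM σ hblock _ hper P lam
      fun u => by rcases hsgn u with e | e <;> simp [e]
    have h1 : (χ : G → ℂ) 1 = 1 := by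
      rw [← CfsgLib.CharBlocks.coe_charDegree_irr, h χ hχ hodd fun g => by
        rw [← happ, hfix], Nat.cast_one]
    set f := linearHom (isCharacter_of_isIrr χ.2) h1 with hf
    have hres : (⟨_, isIrrCharacter_units_hom lam⟩ : IrrCharacter ↥(P : Subgroup G)) =
        ⟨_, isIrrCharacter_units_hom (f.comp (P : Subgroup G).subtype)⟩ := by
      by_contra hne'
      refine hne ?_
      have := classInner_irrCharacter (⟨_, isIrrCharacter_units_hom lam⟩ : IrrCharacter ↥(P : Subgroup G))
        ⟨_, isIrrCharacter_units_hom (f.comp (P : Subgroup G).subtype)⟩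
      rw [if_neg hne'] at this
      exact this
    have hfx : f x = -1 := by
      have := congrFun (congrArg Subtype.val hres) (⟨x, hx.1⟩ : ↥(P : Subgroup G))
      simp only [hlx] at this
      exact Units.ext this.symm
    set n := ordCompl[2] (Nat.card G) with hn
    have hnodd : Odd n := Nat.odd_iff.mpr
      (Nat.two_dvd_ne_zero.mp (Nat.not_dvd_ordCompl Nat.prime_two Nat.card_pos.ne'))
    have hker : pResidual 2 G ≤ (f ^ n).ker := by
      refine (Subgroup.closure_le _).mpr fun g hg => ?_
      have hdvd : orderOf g ∣ n := Nat.Coprime.dvd_of_dvd_mul_left (hg.pow_right _)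
        ((Nat.ordProj_mul_ordCompl_eq_self (Nat.card G) 2).symm ▸ orderOf_dvd_natCard g)
      show (f ^ n) g = 1
      rw [MonoidHom.pow_apply, ← map_pow, orderOf_dvd_iff_pow_eq_one.mp hdvd, map_one]
    have := hker hx.2
    rw [MonoidHom.mem_ker, MonoidHom.pow_apply, hfx, hnodd.neg_one_pow, ← Units.val_inj] at this
    norm_num at this

end Cfsg.Agent.S4549
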