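import Cfsg.Statements.S4550
import Cfsg.Agent.Lib.Modular.GaloisFix
import Cfsg.Agent.Lib.Blocks.PrincipalSection
import Cfsg.Agent.Lib.Blocks.Functional
-- import your own Cfsg.Agent.* helpers here

set_option autoImplicit false
open Cfsg CfsgLib.Blocks

namespace Cfsg.Agent.S4550

/-- Let G be a finite group of even order and M a maximal ideal of the algebraic integers containing 2. Let k be a natural number with g ^ k = g ^ 3 for every 2-element g and g ^ k = g for every element g of odd order (such k exist); an irreducible character χ is unchanged by g ↦ g ^ k exactly when it is fixed by the field automorphism that cubes the 2-power roots of unity and fixes the roots of unity of odd order. Then the number of members χ of the principal 2-block of odd degree with χ (g ^ k) = χ g for all g is even. -/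
theorem result {G : Type*} [Group G] [Finite G] (M : Ideal Cfsg.AlgInt) (hM : Cfsg.IsPModular 2 M) (hev : Even (Nat.card G)) (k : ℕ) (hk₁ : ∀ g : G, (∃ j : ℕ, orderOf g = 2 ^ j) → g ^ k = g ^ 3) (hk₂ : ∀ g : G, Odd (orderOf g) → g ^ k = g) : Even (Nat.card {χ : Cfsg.IrrCharacter G // χ ∈ Cfsg.principalBlock M G ∧ Odd (Cfsg.charDegree (χ : G → ℂ)) ∧ ∀ g : G, (χ : G → ℂ) (g ^ k) = (χ : G → ℂ) g}) := by
  classical
  haveI : Fact (2 : ℕ).Prime := ⟨Nat.prime_two⟩
  haveI := hM.2.1
  let _ := Fintype.ofFinite G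
  have hk : k.Coprime (Nat.card G) := by
    refine Nat.coprime_of_dvd fun q hq hqk hqG => ?_
    haveI := Fact.mk hq
    obtain ⟨x, hx⟩ := exists_prime_orderOf_dvd_card' q hqG
    have hx1 : x ^ k = 1 := orderOf_dvd_iff_pow_eq_one.mp (hx ▸ hqk)
    rcases hq.eq_two_or_odd' with rfl | hodd
    · rw [hk₁ x ⟨1, by simpa using hx⟩, ← orderOf_dvd_iff_pow_eq_one, hx] at hx1
      norm_num at hx1
    · rw [hk₂ x (hx ▸ hodd), ← orderOf_eq_one_iff, hx] at hx1
      exact hq.ne_one hx1
  have hodd : k % 2 = 1 := by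
    have h2 : k.Coprime 2 := hk.coprime_dvd_right (even_iff_two_dvd.mp hev)
    exact Nat.odd_iff.mp (Nat.coprime_two_right.mp h2)
  obtain ⟨σ, hσ⟩ := CfsgLib.CharNormal.exists_ringEquiv_root_pow (n := Nat.card G) Nat.card_pos.ne' hk
  have happ : ∀ (χ : IrrCharacter G) (g : G),
      (CfsgLib.CharNormal.galIrr σ χ : G → ℂ) g = (χ : G → ℂ) (g ^ k) := fun χ g => by
    rw [CfsgLib.CharNormal.galIrr_apply, CfsgLib.CharNormal.ringEquiv_char_apply hσ
      (CfsgLib.Char.isCharacter_of_isIrr χ.2) (orderOf_dvd_natCard g)]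
  set N := 2 ^ Nat.card G with hN
  have hperiod : ∀ g : G, g ^ (k ^ N) = g := by
    intro g
    obtain ⟨j, m, hm, hg⟩ := Nat.exists_eq_pow_mul_and_not_dvd (orderOf_pos g).ne' 2 (by norm_num)
    have hm0 : m ≠ 0 := by rintro rfl; simp at hg; exact (orderOf_pos g).ne' (orderOf_eq_zero_iff.mpr hg)
    have hy : orderOf (g ^ 2 ^ j) = m := by
      rw [orderOf_pow_of_dvd (by positivity) (hg ▸ dvd_mul_right _ _), hg, Nat.mul_div_cancel_left _ (by positivity)]
    have h2 : k ≡ 1 [MOD m] := by
      have h := hk₂ (g ^ 2 ^ j) (by rw [hy]; exact Nat.odd_iff.mpr (Nat.two_dvd_ne_zero.mp hm))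
      conv_rhs at h => rw [← pow_one (g ^ 2 ^ j)]
      rw [pow_eq_pow_iff_modEq, hy] at h
      exact h
    have hjn : j ≤ Nat.card G := (Nat.lt_two_pow_self).le.trans (Nat.le_of_dvd Nat.card_pos
      ((dvd_mul_right _ _).trans (hg ▸ orderOf_dvd_natCard g)))
    have h1 : k ^ N ≡ 1 [MOD 2 ^ j] := by
      have ht : Nat.totient (2 ^ j) ∣ N := by
        rcases Nat.eq_zero_or_pos j with rfl | hj
        · simp
        · rw [Nat.totient_prime_pow Nat.prime_two hj, hN]
          simpa using pow_dvd_pow 2 (by omega : j - 1 ≤ Nat.card G)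
      obtain ⟨c, hc⟩ := ht
      rw [hc, pow_mul]
      simpa using (Nat.ModEq.pow_totient
        ((Nat.coprime_two_right.mpr (Nat.odd_iff.mpr hodd)).pow_right j)).pow c
    have hmod : k ^ N ≡ 1 [MOD 2 ^ j * m] :=
      (Nat.modEq_and_modEq_iff_modEq_mul
        ((Nat.prime_two.coprime_iff_not_dvd.mpr hm).pow_left j)).mp ⟨h1, by simpa using h2.pow N⟩
    conv_rhs => rw [← pow_one g]
    rw [pow_eq_pow_iff_modEq, hg]
    exact hmod
  -- the number of members of odd degree is even
  set B := principalBlock M G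
  have hB : IsPBlock M B := isPBlock_principalBlock
  have hev2 : Even (Finset.univ.filter fun χ : IrrCharacter G => χ ∈ B ∧ Odd (charDegree (χ : G → ℂ))).card := by
    have hc := blockCoeff_mem_locRing hB (1 : G)
    set S := ∑ χ : IrrCharacter G, if χ ∈ B then charDegree (χ : G → ℂ) ^ 2 else 0 with hS
    have hval : (S : ℂ) = (Nat.card G : ℂ) * blockCoeff B (1 : G) := by
      rw [blockCoeff_eq, ← mul_assoc, mul_inv_cancel₀ (Nat.cast_ne_zero.mpr Nat.card_pos.ne'), one_mul, hS]
      push_cast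
      refine Finset.sum_congr rfl fun χ _ => ?_
      split_ifs
      · rw [charDegree_eq (CfsgLib.Char.isCharacter_of_isIrr χ.2), map_natCast]
        push_cast
        ring
      · rfl
    have := res_charP M hM
    have h0 : ((S : ℕ) : Res M) = 0 := by
      have h1 : ((S : ℕ) : locRing M) = ((Nat.card G : ℕ) : locRing M) * ⟨_, hc⟩ := Subtype.ext (by push_cast; exact hval)
      have h2 := congrArg (res M) h1
      rw [map_natCast, map_mul, map_natCast, (CharP.cast_eq_zero_iff (Res M) 2 _).mpr (even_iff_two_dvd.mp hev), zero_mul] at h2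
      exact h2
    rw [CharP.cast_eq_zero_iff (Res M) 2, hS, ← ZMod.natCast_eq_zero_iff] at h0
    push_cast at h0
    rw [even_iff_two_dvd, ← ZMod.natCast_eq_zero_iff, Finset.card_filter]
    push_cast
    refine Eq.trans ?_ h0
    refine Finset.sum_congr rfl fun χ _ => ?_
    by_cases hχ : χ ∈ B
    · rw [if_pos hχ]
      by_cases ho : Odd (charDegree (χ : G → ℂ))
      · rw [if_pos ⟨hχ, ho⟩, (ZMod.natCast_eq_one_iff_odd).mpr ho]; rfl
      · rw [if_neg (fun h => ho h.2), (ZMod.natCast_eq_zero_iff_even).mpr (Nat.not_odd_iff_even.mp ho)]; rfl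
    · rw [if_neg hχ, if_neg (fun h => hχ h.1)]
  let T := {χ : IrrCharacter G // χ ∈ B ∧ Odd (charDegree (χ : G → ℂ))}
  let f : Function.End T := fun χ => ⟨CfsgLib.CharNormal.galIrr σ χ.1,
    CfsgLib.Modular.galIrr_mem_block hM hσ (fun g hg => hk₂ g (Nat.odd_iff.mpr (Nat.two_dvd_ne_zero.mp hg))) hB χ.2.1, by
      have : charDegree ((CfsgLib.CharNormal.galIrr σ χ.1 : IrrCharacter G) : G → ℂ) = charDegree (χ.1 : G → ℂ) := by
        have h := happ χ.1 1
        rw [one_pow] at h
        simp only [charDegree, h]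
      rw [this]; exact χ.2.2⟩
  have hiter : ∀ (r : ℕ) (χ : T) (g : G), (((f^[r]) χ).1 : G → ℂ) g = (χ.1 : G → ℂ) (g ^ k ^ r) := by
    intro r
    induction r with
    | zero => intro χ g; rw [pow_zero, pow_one]; rfl
    | succ r ih =>
      intro χ g
      rw [Function.iterate_succ_apply', show ((f ((f^[r]) χ)).1 : G → ℂ) g = _ from happ _ g, ih, ← pow_mul, ← pow_succ']
  have hf : f ^ 2 ^ Nat.card G = 1 := by
    funext χ
    show (f^[2 ^ Nat.card G]) χ = χ
    refine Subtype.ext (Subtype.ext (funext fun g => ?_))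
    rw [hiter, hperiod]
  have := Fintype.ofFinite T
  have hfix := Equiv.Perm.card_fixedPoints_modEq hf
  have hcard : Fintype.card T = (Finset.univ.filter fun χ : IrrCharacter G => χ ∈ B ∧ Odd (charDegree (χ : G → ℂ))).card :=
    Fintype.card_subtype _
  rw [hcard] at hfix
  have hfixeven : Even (Fintype.card (Function.fixedPoints f)) :=
    Nat.even_iff.mpr ((Eq.symm hfix).trans (Nat.even_iff.mp hev2))
  rw [← Nat.card_eq_fintype_card] at hfixeven
  convert hfixeven using 1
  refine Nat.card_congr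
    { toFun := fun χ => ⟨⟨χ.1, χ.2.1, χ.2.2.1⟩, Subtype.ext (Subtype.ext (funext fun g => (happ χ.1 g).trans (χ.2.2.2 g)))⟩
      invFun := fun χ => ⟨χ.1.1, χ.1.2.1, χ.1.2.2, fun g => by
        have h := congrArg (fun t : T => (t.1 : G → ℂ) g) χ.2
        exact (happ χ.1.1 g).symm.trans h⟩
      left_inv := fun χ => rfl
      right_inv := fun χ => rfl }

end Cfsg.Agent.S4550
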