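import Cfsg.Statements.S4552
import Cfsg.Agent.Lib.Blocks.FreeInertia.Main
import Cfsg.Agent.Lib.BlockArith.KleinDefect

set_option autoImplicit false
open Cfsg

namespace Cfsg.Agent.S4552

theorem CfsgLib.Blocks.free_of_odd {D : Type*} [Group D] [Finite D] (hcomm : ∀ a b : D, a * b = b * a)
    (hp2 : ∃ n, Nat.card D = 2 ^ n) (hinv : Nat.card {x : D // x ^ 2 = 1 ∧ x ≠ 1} ≤ 3) {e : ℕ} (he : Odd e)
    {f : MulAut D} (hf : f ^ e = 1) {x : D} (hx : x ≠ 1) (hfix : f x = x) : f = 1 := by
  classical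
  obtain ⟨r, rfl⟩ := he
  have hiter : ∀ y : D, f (f y) = y → f y = y := fun y hy => by
    have h1 : ∀ n, (f ^ (2 * n)) y = y := fun n => by
      induction n with
      | zero => rfl
      | succ n ih =>
        rw [show 2 * (n + 1) = 2 * n + 1 + 1 by ring, pow_succ, pow_succ, MulAut.mul_apply, MulAut.mul_apply, hy,
          ih]
    have h2 : (f ^ (2 * r + 1)) y = y := by rw [hf]; rfl
    rw [pow_succ', MulAut.mul_apply, h1] at h2
    exact h2
  -- a fixed involution
  obtain ⟨n, hn⟩ := hp2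
  obtain ⟨z, hz2, hz1, hzf⟩ : ∃ z : D, z ^ 2 = 1 ∧ z ≠ 1 ∧ f z = z := by
    obtain ⟨k, hk, ho⟩ := (Nat.dvd_prime_pow Nat.prime_two).mp (hn ▸ orderOf_dvd_natCard x)
    cases k with
    | zero => exact absurd (orderOf_eq_one_iff.mp (ho.trans (pow_zero 2))) hx
    | succ k =>
      refine ⟨x ^ 2 ^ k, ?_, fun h => ?_, by rw [map_pow, hfix]⟩
      · rw [← pow_mul, ← pow_succ, ← ho, pow_orderOf_eq_one]
      · have := orderOf_dvd_of_pow_eq_one h
        rw [ho, Nat.pow_dvd_pow_iff_le_right (by norm_num)] at this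
        omega
  -- all involutions are fixed
  have hall : ∀ w : D, w ^ 2 = 1 → f w = w := by
    intro w hw
    by_cases hwz : w = z
    · rw [hwz, hzf]
    by_cases hw1 : w = 1
    · rw [hw1, map_one]
    apply hiter
    by_contra hne
    have hS : ∀ v : D, v ^ 2 = 1 → v ≠ 1 → f v ^ 2 = 1 ∧ f v ≠ 1 := fun v hv hv1 =>
      ⟨by rw [← map_pow, hv, map_one], fun h => hv1 (f.injective (h.trans (map_one _).symm))⟩
    have h1 := hS w hw hw1
    have h2 := hS _ h1.1 h1.2
    have : Fintype {x : D // x ^ 2 = 1 ∧ x ≠ 1} := Fintype.ofFinite _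
    rw [Nat.card_eq_fintype_card] at hinv
    have hfw : f w ≠ w := fun h => hne (by rw [h, h])
    have h3 : ({⟨z, hz2, hz1⟩, ⟨w, hw, hw1⟩, ⟨f w, h1⟩, ⟨f (f w), h2⟩} : Finset {x : D // x ^ 2 = 1 ∧ x ≠ 1}).card = 4 := by
      have hzw : z ≠ f w := fun h => hwz (f.injective (h.symm.trans hzf.symm))
      rw [Finset.card_insert_of_notMem, Finset.card_insert_of_notMem, Finset.card_pair]
      · exact fun h => hfw (f.injective (congrArg Subtype.val h)).symm
      · simp only [Finset.mem_insert, Finset.mem_singleton, Subtype.mk.injEq]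
        push Not
        exact ⟨fun h => hfw h.symm, fun h => hne h.symm⟩
      · simp only [Finset.mem_insert, Finset.mem_singleton, Subtype.mk.injEq]
        push Not
        refine ⟨fun h => hwz h.symm, fun h => hzw h, fun h => hzw ?_⟩
        exact f.injective (hzf.trans h)
    have := Finset.card_le_univ ({⟨z, hz2, hz1⟩, ⟨w, hw, hw1⟩, ⟨f w, h1⟩, ⟨f (f w), h2⟩} : Finset {x : D // x ^ 2 = 1 ∧ x ≠ 1})
    omega
  -- everything is fixed
  refine MulEquiv.ext fun y => ?_
  suffices h : ∀ k, ∀ y : D, y ^ 2 ^ k = 1 → f y = y from h n y (hn ▸ pow_card_eq_one')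
  intro k
  induction k with
  | zero => intro y hy; rw [pow_zero, pow_one] at hy; rw [hy, map_one]
  | succ k ih =>
    intro y hy
    have hy2 : f (y ^ 2) = y ^ 2 := ih _ (by rw [← pow_mul, ← pow_succ', hy])
    obtain ⟨v, hv, hfy⟩ : ∃ v : D, v ^ 2 = 1 ∧ f y = v * y := by
      refine ⟨f y * y⁻¹, ?_, by group⟩
      rw [(Commute.mul_pow (hcomm _ _) 2), ← map_pow, hy2, inv_pow, mul_inv_cancel]
    refine hiter y ?_
    rw [hfy, map_mul, hall v hv, hfy, ← mul_assoc, ← sq, hv, one_mul]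
/-- Let B be a 2-block of the finite group G (relative to a maximal ideal M of the algebraic integers containing 2) whose defect group D is the direct product of two cyclic groups of the same order 2 ^ m, m ≥ 2. Then either B has 2-regular rank one and exactly 4 ^ m irreducible characters, or B has 2-regular rank three and exactly (4 ^ m + 8) / 3 irreducible characters. -/
theorem result {G : Type*} [Group G] [Finite G] (M : Ideal Cfsg.AlgInt) (hM : Cfsg.IsPModular 2 M) (B : Set (Cfsg.IrrCharacter G)) (hB : Cfsg.IsPBlock M B) (D : Subgroup G) (hD : Cfsg.IsDefectGroup 2 M B D) (m : ℕ) (hm : 2 ≤ m) (hiso : Nonempty (D ≃* Multiplicative (ZMod (2 ^ m) × ZMod (2 ^ m)))) : (Cfsg.blockRank 2 B = 1 ∧ Nat.card B = 4 ^ m) ∨ (Cfsg.blockRank 2 B = 3 ∧ 3 * Nat.card B = 4 ^ m + 8) := by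
  classical
  have : M.IsMaximal := hM.2.1
  have := Fact.mk Nat.prime_two
  have := Fintype.ofFinite G
  obtain ⟨c, hmax⟩ := CfsgLib.BrauerPairs.exists_maximal_at hM hB hD
  obtain ⟨Φ⟩ := hiso
  have hab : ∀ x ∈ D, ∀ y ∈ D, x * y = y * x := fun x hx y hy =>
    congrArg Subtype.val (Φ.injective (a₁ := ⟨x, hx⟩ * ⟨y, hy⟩) (a₂ := ⟨y, hy⟩ * ⟨x, hx⟩)
      (by rw [map_mul, map_mul, mul_comm]))
  have : NeZero (2 ^ m) := ⟨(Nat.two_pow_pos m).ne'⟩
  have hcard : Nat.card D = 4 ^ m := by
    rw [Nat.card_congr Φ.toEquiv, Nat.card_congr Multiplicative.toAdd, Nat.card_prod, Nat.card_zmod,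
      show (4 : ℕ) = 2 * 2 from rfl, mul_pow]
  have h4m : 16 ≤ 4 ^ m := le_trans (by norm_num) (Nat.pow_le_pow_right (by norm_num : 0 < 4) hm)
  have hne : D ≠ ⊥ := fun h => by
    rw [h, Subgroup.card_bot] at hcard; omega
  set T := CfsgLib.BrauerPairs.stab M D c with hT
  have hodd := CfsgLib.BrauerPairs.not_dvd_relIndex_stab hM hmax hab
  have hn : ((CfsgLib.BrauerPairs.Cen D).subgroupOf T).Normal :=
    (Subgroup.normal_subgroupOf_iff_le_normalizer (CfsgLib.BrauerPairs.cen_le_stab c)).mpr fun t ht =>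
      CfsgLib.BrauerPairs.mem_normalizer_centralizer ht.1
  -- an element of `T` fixing an involution centralizes `D`
  have hnorm : ∀ t ∈ T, ∀ x ∈ D, t * x * t⁻¹ ∈ D := fun t ht x hx =>
    (Subgroup.mem_set_normalizer_iff.mp ht.1 x).mp hx
  have hinv3 : Nat.card {x : D // x ^ 2 = 1 ∧ x ≠ 1} ≤ 3 := by
    rw [Nat.card_eq_fintype_card, Fintype.card_subtype]
    have h1 : (Finset.univ.filter fun x : D => x ^ 2 = 1).card ≤ 4 := by
      refine le_trans (Finset.card_le_card_of_injOn (fun x => (Φ x).toAdd)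
        (t := (Finset.univ.filter fun a : ZMod (2 ^ m) => 2 • a = 0) ×ˢ
          (Finset.univ.filter fun a : ZMod (2 ^ m) => 2 • a = 0)) (fun x hx => ?_)
        fun x _ y _ h => Φ.injective (Multiplicative.toAdd.injective h)) ?_
      · simp only [Finset.coe_filter, Finset.mem_univ, true_and, Set.mem_setOf_eq] at hx
        have h2 : (2 : ℕ) • (Φ x).toAdd = 0 := by rw [← toAdd_pow, ← map_pow, hx, map_one]; rfl
        simp only [Finset.coe_product, Set.mem_prod, Finset.coe_filter, Finset.mem_univ, true_and, Set.mem_setOf_eq]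
        exact ⟨congrArg Prod.fst h2, congrArg Prod.snd h2⟩
      · rw [Finset.card_product]
        exact Nat.mul_le_mul (IsAddCyclic.card_nsmul_eq_zero_le (by norm_num))
          (IsAddCyclic.card_nsmul_eq_zero_le (by norm_num))
    have h2 : (Finset.univ.filter fun x : D => x ^ 2 = 1 ∧ x ≠ 1) ⊆
        (Finset.univ.filter fun x : D => x ^ 2 = 1).erase 1 := fun x hx => by
      simp only [Finset.mem_filter, Finset.mem_univ, true_and] at hx
      simp [hx.1, hx.2]
    have h3 := (Finset.card_le_card h2).trans (Finset.card_erase_of_mem (by simp)).le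
    omega
  -- the conjugation action
  let conjT : T →* MulAut D :=
    { toFun := fun t =>
        { toFun := fun y => ⟨(t : G) * y * (t : G)⁻¹, (Subgroup.mem_set_normalizer_iff.mp t.2.1 _).mp y.2⟩
          invFun := fun y => ⟨(t : G)⁻¹ * y * (t : G), (Subgroup.mem_set_normalizer_iff''.mp t.2.1 _).mp y.2⟩
          left_inv := fun y => Subtype.ext (by simp [mul_assoc])
          right_inv := fun y => Subtype.ext (by simp [mul_assoc])
          map_mul' := fun y z => Subtype.ext (by simp [mul_assoc]) }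
      map_one' := MulEquiv.ext fun y => Subtype.ext (by simp)
      map_mul' := fun t t' => MulEquiv.ext fun y => Subtype.ext (by simp [mul_assoc]) }
  set e := (CfsgLib.BrauerPairs.Cen D).relIndex T with he
  have hpow : ∀ t : T, conjT t ^ e = 1 := fun t => by
    rw [← map_pow]
    have h1 : (t : G) ^ e ∈ CfsgLib.BrauerPairs.Cen D :=
      Subgroup.pow_index_mem ((CfsgLib.BrauerPairs.Cen D).subgroupOf T) t
    refine MulEquiv.ext fun y => Subtype.ext ?_
    show (t : G) ^ e * (y : G) * ((t : G) ^ e)⁻¹ = y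
    rw [← Subgroup.mem_centralizer_iff.mp h1 y y.2, mul_inv_cancel_right]
  have hfree0 : ∀ t : T, ∀ x : D, x ≠ 1 → conjT t x = x → conjT t = 1 :=
    fun t x hx hfix => CfsgLib.Blocks.free_of_odd (fun a b => Subtype.ext (hab a a.2 b b.2))
      ⟨2 * m, by rw [hcard, pow_mul]; norm_num⟩ hinv3 (Nat.odd_iff.mpr (Nat.two_dvd_ne_zero.mp hodd)) (hpow t) hx hfix
  have hfree : ∀ t ∈ T, ∀ x ∈ D, x ≠ 1 → t * x * t⁻¹ = x → t ∈ CfsgLib.BrauerPairs.Cen D := by
    intro t ht x hx hx1 hfix
    have h := hfree0 ⟨t, ht⟩ ⟨x, hx⟩ (fun h => hx1 (congrArg Subtype.val h)) (Subtype.ext hfix)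
    refine Subgroup.mem_centralizer_iff.mpr fun y hy => ?_
    exact (mul_inv_eq_iff_eq_mul.mp (congrArg Subtype.val (DFunLike.congr_fun h ⟨y, hy⟩))).symm
  -- the index is one or three
  obtain ⟨a, ha2⟩ := exists_prime_orderOf_dvd_card' (G := D) 2 (by
    rw [hcard]; exact dvd_pow (by norm_num) (by omega))
  have ha : a ^ 2 = 1 ∧ a ≠ 1 := ⟨ha2 ▸ pow_orderOf_eq_one a, fun h => by rw [h, orderOf_one] at ha2; omega⟩
  have he3 : e ≤ 3 := by
    refine le_trans ?_ hinv3
    have hker : conjT.ker = (CfsgLib.BrauerPairs.Cen D).subgroupOf T := by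
      ext t
      rw [MonoidHom.mem_ker, Subgroup.mem_subgroupOf]
      refine ⟨fun h => hfree t t.2 a a.2 (fun h1 => ha.2 (Subtype.ext h1))
        (congrArg Subtype.val (DFunLike.congr_fun h a)), fun h => MulEquiv.ext fun y => Subtype.ext ?_⟩
      show (t : G) * (y : G) * (t : G)⁻¹ = y
      rw [← Subgroup.mem_centralizer_iff.mp h y y.2, mul_inv_cancel_right]
    have : e = Nat.card conjT.range := by rw [← Subgroup.index_ker, hker]; rfl
    rw [this]
    refine Nat.card_le_card_of_injective (fun f => ⟨(f : MulAut D) a, by rw [← map_pow, ha.1, map_one],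
      fun h => ha.2 ((f : MulAut D).injective (h.trans (map_one _).symm))⟩) fun f g hfg => ?_
    obtain ⟨_, t, rfl⟩ := f
    obtain ⟨_, s, rfl⟩ := g
    apply Subtype.ext
    have h1 : conjT t a = conjT s a := congrArg Subtype.val hfg
    have h2 : conjT (s⁻¹ * t) a = a := by
      rw [map_mul, map_inv, MulAut.mul_apply, h1]; exact (conjT s).symm_apply_apply a
    have h3 := hfree0 _ a ha.2 h2
    rw [map_mul, map_inv, inv_mul_eq_one] at h3
    exact h3.symm
  obtain ⟨k, hk, hepos, hkl, -, hsmall⟩ :=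
    CfsgLib.Blocks.FreeInertia.Hyp.counts ⟨hM, hmax, hab, hne, hfree⟩
  have hl := hsmall he3
  rw [hcard] at hk
  change k * e = _ at hk
  change Cfsg.blockRank 2 B = e at hl
  have hodd2 : e % 2 = 1 := Nat.two_dvd_ne_zero.mp hodd
  have hepos' : 0 < e := hepos
  rcases (show e = 1 ∨ e = 3 by omega) with he1 | he1
  · left; rw [he1] at hk hl; omega
  · right; rw [he1] at hk hl; omega

end Cfsg.Agent.S4552
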