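import Cfsg.Statements.S4553
import Cfsg.Agent.Lib.Char.PResidualSum
import Cfsg.Agent.Lib.Blocks.AlperinDade
import Cfsg.Agent.Lib.CharNormal.Galois

set_option autoImplicit false
open Cfsg

namespace Cfsg.Agent.S4553

open CfsgLib.Char CfsgLib.CharNormal CfsgLib.Blocks

section aux

variable {G : Type*} [Group G] [Fintype G] {p : ℕ} [hp : Fact p.Prime]
  {M : Ideal AlgInt} [M.IsMaximal] {N : Subgroup G} [hN : N.Normal]

omit hp in
theorem principal_of_over [Fintype N] (hM : IsPModular p M)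
    (hreg : ∀ g : G, ¬ p ∣ orderOf g → g ∈ N) {χ : IrrCharacter G} {θ : IrrCharacter N}
    (hθ : θ ∈ principalBlock M N)
    (hover : classInner (fun n : N => (χ : G → ℂ) n) (θ : N → ℂ) ≠ 0) :
    χ ∈ principalBlock M G := by
  classical
  set hB := isPBlock_principalBlock (M := M) (G := G) with hBdef
  have hsupp : ∀ g ∉ N, ((idem hB : Zint M G) : CA G).coeff g = 0 := by
    intro g hg
    have hd : p ∣ orderOf g := by
      by_contra h
      exact hg (hreg g h)
    show (blockElt (principalBlock M G)).coeff g = 0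
    simpa [blockElt] using blockCoeff_eq_zero hM hB hd
  have key : ∀ (χ' : IrrCharacter G) (θ' : IrrCharacter N),
      classInner (fun n : N => (χ' : G → ℂ) n) (θ' : N → ℂ) ≠ 0 →
      bomega (M := M) χ' (idem hB) = bomega θ' (resZ N M (idem hB)) := by
    intro χ' θ' h
    rw [bomega_apply, bomega_apply]
    congr 1
    apply Subtype.ext
    rw [coe_zomega, coe_zomega, coe_resZ]
    exact omega_eq_omega_resCA_of_over χ'.2 h (Zint_center _) hsupp
  have h1 : bomega (M := M) (CfsgLib.Char.irrOne : IrrCharacter G) (idem hB) = 1 := by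
    rw [bomega_idem, if_pos irrOne_mem_principalBlock]
  rw [key _ (CfsgLib.Char.irrOne : IrrCharacter N)
      (classInner_res_one_ne_zero (CfsgLib.Char.irrOne : IrrCharacter G).2 fun n _ => rfl),
    ← bomega_eq_of_mem (isPBlock_principalBlock (M := M) (G := N)) hθ irrOne_mem_principalBlock,
    ← key χ θ hover, bomega_idem] at h1
  by_contra h
  rw [if_neg h] at h1
  exact zero_ne_one h1

end aux

variable {G : Type*} [Group G]

theorem detChar_ringEquiv [Finite G] (σ : ℂ ≃+* ℂ) {χ : G → ℂ} (hχ : Cfsg.IsCharacter G χ) :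
    Cfsg.detChar (σ ∘ χ) = σ ∘ Cfsg.detChar χ := by
  obtain ⟨d, ρ, rfl⟩ := hχ
  let ρ' : Representation ℂ G (Fin d → ℂ) :=
    (Matrix.toLinAlgEquiv' : Matrix (Fin d) (Fin d) ℂ ≃ₐ[ℂ] _).toRingEquiv.toMonoidHom.comp
      ((σ : ℂ →+* ℂ).mapMatrix.toMonoidHom.comp
        ((LinearMap.toMatrixAlgEquiv' : _ ≃ₐ[ℂ] Matrix (Fin d) (Fin d) ℂ).toRingEquiv.toMonoidHom.comp
          ρ))
  have hρ : ρ'.character = σ ∘ ρ.character := by
    funext g
    refine Eq.symm ?_
    show σ (LinearMap.trace ℂ _ (ρ g)) = LinearMap.trace ℂ _ (ρ' g)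
    rw [LinearMap.trace_eq_matrix_trace ℂ (Pi.basisFun ℂ (Fin d)) (ρ g),
      LinearMap.trace_eq_matrix_trace ℂ (Pi.basisFun ℂ (Fin d)) (ρ' g)]
    rw [LinearMap.toMatrix_eq_toMatrix']
    show σ (Matrix.trace (LinearMap.toMatrix' (ρ g))) =
      Matrix.trace (LinearMap.toMatrix' (Matrix.toLin' ((LinearMap.toMatrix' (ρ g)).map σ)))
    rw [LinearMap.toMatrix'_toLin', Matrix.trace, Matrix.trace, map_sum]
    rfl
  funext g
  rw [← hρ, detChar_eq, Function.comp_apply, detChar_eq, ← LinearMap.det_toMatrix' ,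
    ← LinearMap.det_toMatrix']
  show Matrix.det (LinearMap.toMatrix' (Matrix.toLin' ((LinearMap.toMatrix' (ρ g)).map σ))) = _
  rw [LinearMap.toMatrix'_toLin']
  exact ((σ : ℂ →+* ℂ).map_det _).symm

theorem detOrder_ringEquiv [Finite G] (σ : ℂ ≃+* ℂ) {χ : G → ℂ} (hχ : Cfsg.IsCharacter G χ) :
    Cfsg.detOrder (σ ∘ χ) = Cfsg.detOrder χ := by
  rw [Cfsg.detOrder, Cfsg.detOrder, detChar_ringEquiv σ hχ]
  refine orderOf_eq_orderOf_iff.mpr fun n => ?_
  constructor
  · intro h
    funext g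
    have := congrFun h g
    simp only [Pi.pow_apply, Function.comp_apply, ← map_pow, Pi.one_apply] at this ⊢
    exact σ.injective (this.trans σ.map_one.symm)
  · intro h
    funext g
    have := congrFun h g
    simp only [Pi.pow_apply, Function.comp_apply, ← map_pow, Pi.one_apply] at this ⊢
    rw [this, map_one]

/-- In a cyclic group of nontrivial `p`-power order the characters killed by `p` number `p`. -/
theorem card_hom_pow_eq_one {Q : Type*} [Group Q] [Finite Q] [IsCyclic Q] {p : ℕ}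
    [hp : Fact p.Prime] (hQ : p ∣ Nat.card Q) :
    Nat.card {f : Q →* ℂˣ // f ^ p = 1} = p := by
  obtain ⟨g, hg⟩ := IsCyclic.exists_generator (α := Q)
  have hord : orderOf g = Nat.card Q := orderOf_eq_card_of_forall_mem_zpowers hg
  let F : {f : Q →* ℂˣ // f ^ p = 1} → rootsOfUnity p ℂ := fun f => ⟨f.1 g, by
    rw [mem_rootsOfUnity, ← MonoidHom.pow_apply, f.2, MonoidHom.one_apply]⟩
  have hF : Function.Bijective F := by
    constructor
    · intro f f' h
      exact Subtype.ext ((MonoidHom.eq_iff_eq_on_generator hg f.1 f'.1).mpr (congrArg Subtype.val h))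
    · rintro ⟨z, hz⟩
      rw [mem_rootsOfUnity] at hz
      have hz' : orderOf z ∣ orderOf g := (orderOf_dvd_of_pow_eq_one hz).trans (hord ▸ hQ)
      refine ⟨⟨monoidHomOfForallMemZpowers hg hz', ?_⟩, Subtype.ext ?_⟩
      · refine (MonoidHom.eq_iff_eq_on_generator hg _ _).mpr ?_
        rw [MonoidHom.pow_apply, monoidHomOfForallMemZpowers_apply_gen, hz, MonoidHom.one_apply]
      · exact monoidHomOfForallMemZpowers_apply_gen hg hz'
  have : NeZero p := ⟨hp.out.ne_zero⟩
  rw [Nat.card_congr (Equiv.ofBijective F hF), Complex.card_rootsOfUnity]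

/-- Let G be a finite group, p a prime, P a Sylow p-subgroup, N the p-residual of G (the subgroup generated by the elements of order prime to p, the smallest normal subgroup with G/N a p-group), and M a maximal ideal of the algebraic integers containing p; suppose G/N is cyclic and nontrivial. Let k be a natural number with g ^ k = g ^ (1 + p) for every p-element g and g ^ k = g for every element g of order prime to p (so that χ (g ^ k) is the image of χ g under the field automorphism that raises p-power roots of unity to the power 1 + p and fixes the roots of unity of order prime to p). Then the number of members χ of the principal block of G of degree prime to p with χ (g ^ k) = χ g for all g equals p times the number of members θ of the principal block of N of degree prime to p that are invariant under conjugation by P and satisfy θ (n ^ k) = θ n for all n. -/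
theorem result {G : Type*} [Group G] [Finite G] (p : ℕ) [Fact p.Prime] (M : Ideal Cfsg.AlgInt) (hM : Cfsg.IsPModular p M) (P : Sylow p G) (N : Subgroup G) [hN : N.Normal] (hNres : N = Cfsg.pResidual p G) (hcyc : IsCyclic (G ⧸ N)) (hnt : N ≠ ⊤) (k : ℕ) (hk₁ : ∀ g : G, (∃ j : ℕ, orderOf g = p ^ j) → g ^ k = g ^ (1 + p)) (hk₂ : ∀ g : G, Nat.Coprime (orderOf g) p → g ^ k = g) : Nat.card {χ : Cfsg.IrrCharacter G // χ ∈ Cfsg.principalBlock M G ∧ ¬ p ∣ Cfsg.charDegree (χ : G → ℂ) ∧ ∀ g : G, (χ : G → ℂ) (g ^ k) = (χ : G → ℂ) g} = p * Nat.card {θ : Cfsg.IrrCharacter ↥N // θ ∈ Cfsg.principalBlock M ↥N ∧ ¬ p ∣ Cfsg.charDegree (θ : ↥N → ℂ) ∧ (∀ x ∈ (P : Subgroup G), ∀ n : ↥N, (θ : ↥N → ℂ) ⟨x * n * x⁻¹, hN.conj_mem n n.2 x⟩ = (θ : ↥N → ℂ) n) ∧ ∀ n : ↥N, (θ : ↥N → ℂ) (n ^ k) = (θ : ↥N → ℂ) n} := by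
  classical
  have : M.IsMaximal := hM.2.1
  have := Fintype.ofFinite G
  have := Fintype.ofFinite N
  have := Fintype.ofFinite (G ⧸ N)
  have hp : p.Prime := Fact.out
  obtain ⟨e, he⟩ : ∃ e, N.index = p ^ e := by
    subst hNres; exact CfsgLib.Transfer.index_pResidual
  have hlin : ∀ f : N →* ℂˣ, ¬ p ∣ orderOf f := by
    subst hNres; exact not_dvd_orderOf_pResidual
  have hreg : ∀ g : G, ¬ p ∣ orderOf g → g ∈ N := fun g h => hNres ▸
    Subgroup.subset_closure ((hp.coprime_iff_not_dvd.mpr h).symm : Nat.Coprime (orderOf g) p)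
  have hkc : k.Coprime (Nat.card G) := by
    refine Nat.coprime_of_dvd fun q hq hqk hqG => ?_
    have : Fact q.Prime := ⟨hq⟩
    obtain ⟨x, hx⟩ := exists_prime_orderOf_dvd_card' q hqG
    have hxk : x ^ k = 1 := orderOf_dvd_iff_pow_eq_one.mp (hx ▸ hqk)
    have hne : x ≠ 1 := fun h => hq.ne_one (by rw [← hx, h, orderOf_one])
    rcases eq_or_ne q p with rfl | hqp
    · have := hk₁ x ⟨1, by rw [hx, pow_one]⟩
      rw [hxk, pow_add, pow_one, ← hx, pow_orderOf_eq_one, mul_one] at this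
      exact hne this.symm
    · have := hk₂ x (hx ▸ (Nat.coprime_primes hq hp).mpr hqp)
      exact hne (this.symm.trans hxk)
  obtain ⟨σ, hσ⟩ := exists_ringEquiv_root_pow (Nat.card_pos (α := G)).ne' hkc
  have hσG : ∀ (χ : IrrCharacter G) (g : G), σ ((χ : G → ℂ) g) = (χ : G → ℂ) (g ^ k) :=
    fun χ g => ringEquiv_char_apply hσ (isCharacter_of_isIrr χ.2) (orderOf_dvd_natCard g)
  have hσN : ∀ (θ : IrrCharacter N) (n : N), σ ((θ : N → ℂ) n) = (θ : N → ℂ) (n ^ k) :=
    fun θ n => ringEquiv_char_apply hσ (isCharacter_of_isIrr θ.2)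
      ((orderOf_dvd_natCard n).trans (Subgroup.card_subgroup_dvd_card N))
  -- `P` covers the quotient
  have hsup : N ⊔ (P : Subgroup G) = ⊤ := by
    have h1 : (N ⊔ (P : Subgroup G)).index ∣ p ^ e :=
      he ▸ Subgroup.index_dvd_of_le le_sup_left
    have h2 : (N ⊔ (P : Subgroup G)).index ∣ (P : Subgroup G).index :=
      Subgroup.index_dvd_of_le le_sup_right
    rw [← Subgroup.index_eq_one]
    exact Nat.eq_one_of_dvd_coprimes
      (Nat.Coprime.pow_left e (hp.coprime_iff_not_dvd.mpr P.not_dvd_index)) h1 h2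
  have hcover : ∀ q : G ⧸ N, ∃ x ∈ (P : Subgroup G), (x : G ⧸ N) = q := by
    intro q
    obtain ⟨g, rfl⟩ := QuotientGroup.mk_surjective q
    obtain ⟨n, hn, x, hx, rfl⟩ :=
      Subgroup.mem_sup_of_normal_left.mp (hsup ▸ Subgroup.mem_top g : g ∈ N ⊔ (P : Subgroup G))
    refine ⟨x, hx, ?_⟩
    rw [QuotientGroup.mk_mul, (QuotientGroup.eq_one_iff n).mpr hn, one_mul]
  have hinv : ∀ θ : IrrCharacter N, (∀ x ∈ (P : Subgroup G), ∀ n : N,
      (θ : N → ℂ) ⟨x * n * x⁻¹, hN.conj_mem n n.2 x⟩ = (θ : N → ℂ) n) →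
      ∀ g : G, conjFun N g (θ : N → ℂ) = (θ : N → ℂ) := by
    intro θ hθ g
    funext m
    obtain ⟨n, hn, x, hx, rfl⟩ :=
      Subgroup.mem_sup_of_normal_left.mp (hsup ▸ Subgroup.mem_top g : g ∈ N ⊔ (P : Subgroup G))
    rw [conjFun_apply]
    rw [← hθ x hx m, ← isClassFunction_of_isIrr θ.2 ⟨x * m * x⁻¹, hN.conj_mem m m.2 x⟩ ⟨n, hn⟩]
    exact congrArg (θ : N → ℂ) (Subtype.ext (by simp [mul_assoc]))
  set S := {χ : IrrCharacter G // χ ∈ principalBlock M G ∧ ¬ p ∣ charDegree (χ : G → ℂ) ∧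
    ∀ g : G, (χ : G → ℂ) (g ^ k) = (χ : G → ℂ) g}
  set T := {θ : IrrCharacter N // θ ∈ principalBlock M N ∧ ¬ p ∣ charDegree (θ : N → ℂ) ∧
    (∀ x ∈ (P : Subgroup G), ∀ n : N,
      (θ : N → ℂ) ⟨x * n * x⁻¹, hN.conj_mem n n.2 x⟩ = (θ : N → ℂ) n) ∧
    ∀ n : N, (θ : N → ℂ) (n ^ k) = (θ : N → ℂ) n}
  have hext : ∀ θ : T, ∃ χ : IrrCharacter G, (∀ n : N, (χ : G → ℂ) n = (θ.1 : N → ℂ) n) ∧
      ∀ g : G, (χ : G → ℂ) (g ^ k) = (χ : G → ℂ) g := by
    rintro ⟨θ, hθB, hθd, hθP, hθk⟩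
    obtain ⟨χ, ⟨hχN, hχp⟩, hu⟩ := existsUnique_prime_ext he hlin θ.2 (hinv θ hθP) hθd
    refine ⟨χ, hχN, fun g => ?_⟩
    have hgal : galIrr σ χ = χ := by
      refine hu _ ⟨fun n => ?_, ?_, ?_⟩
      · rw [galIrr_apply, hχN, hσN, hθk]
      · show ¬ p ∣ ⌊((galIrr σ χ : G → ℂ) 1).re⌋₊
        rw [galIrr_apply, hσG, one_pow]
        exact hχp.1
      · show ¬ p ∣ detOrder (σ ∘ (χ : G → ℂ))
        rw [detOrder_ringEquiv σ (isCharacter_of_isIrr χ.2)]
        exact hχp.2
    rw [← hσG, ← galIrr_apply, hgal]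
  choose χ₀ hχ₀N hχ₀k using hext
  have hres : ∀ θ : T, IsIrrCharacter N (fun n : N => (χ₀ θ : G → ℂ) n) := fun θ => by
    rw [show (fun n : N => (χ₀ θ : G → ℂ) n) = (θ.1 : N → ℂ) from funext (hχ₀N θ)]
    exact θ.1.2
  let F := {f : (G ⧸ N) →* ℂˣ // f ^ p = 1}
  have hfk : ∀ (f : F) (q : G ⧸ N), f.1 (q ^ k) = f.1 q := by
    intro f q
    obtain ⟨x, hx, rfl⟩ := hcover q
    obtain ⟨j, hj⟩ := IsPGroup.iff_orderOf.mp P.isPGroup' ⟨x, hx⟩
    rw [Subgroup.orderOf_mk] at hj
    rw [← QuotientGroup.mk_pow, hk₁ x ⟨j, hj⟩, QuotientGroup.mk_pow, pow_add, pow_one, map_mul,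
      map_pow, ← MonoidHom.pow_apply, f.2, MonoidHom.one_apply, mul_one]
  let prod : T × F → G → ℂ := fun t =>
    (χ₀ t.1 : G → ℂ) * (linFun t.2.1 ∘ QuotientGroup.mk)
  have hprodN : ∀ (t : T × F) (n : N), prod t n = (t.1.1 : N → ℂ) n := by
    intro t n
    simp only [prod, Pi.mul_apply, Function.comp_apply, linFun_apply,
      (QuotientGroup.eq_one_iff (n : G)).mpr n.2, map_one, Units.val_one, mul_one, hχ₀N]
  have hprodS : ∀ t : T × F, ∃ s : S, (s.1 : G → ℂ) = prod t := by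
    intro t
    have hi : IsIrrCharacter G (prod t) :=
      isIrr_mul_comp_mk' N (isCharacter_of_isIrr (χ₀ t.1).2) (hres t.1)
        (isIrrCharacter_units_hom t.2.1)
    refine ⟨⟨⟨prod t, hi⟩, ?_, ?_, fun g => ?_⟩, rfl⟩
    · refine principal_of_over hM hreg t.1.2.1 ?_
      show classInner (fun n : N => prod t n) (t.1.1 : N → ℂ) ≠ 0
      rw [funext (hprodN t), classInner_irr_self t.1.1.2]
      exact one_ne_zero
    · show ¬ p ∣ ⌊(prod t ((1 : N) : G)).re⌋₊
      rw [hprodN]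
      exact t.1.2.2.1
    · show prod t (g ^ k) = prod t g
      simp only [prod, Pi.mul_apply, Function.comp_apply, linFun_apply, QuotientGroup.mk_pow,
        hfk, hχ₀k]
  choose Φ hΦ using hprodS
  have hbij : Function.Bijective Φ := by
    constructor
    · intro t t' h
      have h' : prod t = prod t' := by rw [← hΦ, ← hΦ, h]
      obtain ⟨θ, f⟩ := t
      obtain ⟨θ', f'⟩ := t'
      obtain rfl : θ = θ' := Subtype.ext (Subtype.ext (funext fun n => by
        rw [← hprodN (θ, f), ← hprodN (θ', f'), h']))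
      have := mul_comp_mk'_injective N (isCharacter_of_isIrr (χ₀ θ).2) (hres θ)
        (isIrrCharacter_units_hom f.1) (isIrrCharacter_units_hom f'.1) h'
      rw [Subtype.ext (linFun_injective this) (a1 := f) (a2 := f')]
    · rintro ⟨χ, hχB, hχd, hχk⟩
      let θ : IrrCharacter N := ⟨_, res_of_prime he hlin χ.2 hχd⟩
      have hover : classInner (fun n : N => (χ : G → ℂ) n) (θ : N → ℂ) ≠ 0 := by
        show classInner (θ : N → ℂ) (θ : N → ℂ) ≠ 0
        rw [classInner_irr_self θ.2]; exact one_ne_zero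
      let t : T := ⟨θ, AlperinDade.mem_principal_of_over N hχB hover, by
          show ¬ p ∣ ⌊((χ : G → ℂ) ((1 : N) : G)).re⌋₊
          exact hχd,
        fun x _ n => isClassFunction_of_isIrr χ.2 (n : G) x,
        fun n => by show (χ : G → ℂ) ((n ^ k : N) : G) = _; rw [SubmonoidClass.coe_pow]; exact hχk _⟩
      have hover' : classInner (fun n : N => (χ : G → ℂ) n) (fun n : N => (χ₀ t : G → ℂ) n) ≠ 0 := by
        rw [funext (hχ₀N t)]; exact hover
      obtain ⟨β, hβ, hχe⟩ :=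
        exists_eq_mul_comp_mk' N (isCharacter_of_isIrr (χ₀ t).2) (hres t) χ.2 hover'
      have hβ1 : β 1 = 1 := by
        have h := congrFun hχe ((1 : N) : G)
        rw [Pi.mul_apply, hχ₀N t 1] at h
        change (χ : G → ℂ) 1 = (χ : G → ℂ) 1 * β 1 at h
        exact (mul_left_cancel₀ (irr_one_ne_zero χ.2) (by rw [← h, mul_one])).symm
      obtain ⟨f, rfl⟩ := exists_linHom (isCharacter_of_isIrr hβ) hβ1
      have hfix : (fun q => σ (linFun f q)) = linFun f := by
        refine mul_comp_mk'_injective N (isCharacter_of_isIrr (χ₀ t).2) (hres t)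
          (isIrr_ringEquiv σ hβ) hβ (funext fun g => ?_)
        have h : σ ((χ : G → ℂ) g) = (χ : G → ℂ) g := by rw [hσG, hχk]
        rw [congrFun hχe g, Pi.mul_apply, map_mul, hσG, hχ₀k] at h
        exact h
      have hfp : f ^ p = 1 := by
        refine MonoidHom.ext fun q => ?_
        have h := congrFun hfix q
        rw [ringEquiv_char_apply hσ (isCharacter_linFun f).1
          ((orderOf_dvd_natCard q).trans (Subgroup.card_quotient_dvd_card N))] at h
        simp only [linFun_apply] at h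
        obtain ⟨x, hx, rfl⟩ := hcover q
        obtain ⟨j, hj⟩ := IsPGroup.iff_orderOf.mp P.isPGroup' ⟨x, hx⟩
        rw [Subgroup.orderOf_mk] at hj
        rw [← QuotientGroup.mk_pow, hk₁ x ⟨j, hj⟩, QuotientGroup.mk_pow, pow_add, pow_one,
          map_mul, map_pow, Units.ext_iff.symm] at h
        rw [MonoidHom.pow_apply, MonoidHom.one_apply]
        exact mul_left_cancel (a := f (x : G ⧸ N)) (by rw [mul_one]; exact h)
      exact ⟨(t, ⟨f, hfp⟩), Subtype.ext (Subtype.ext ((hΦ _).trans hχe.symm))⟩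
  have hQ : p ∣ Nat.card (G ⧸ N) := by
    rw [← Subgroup.index_eq_card, he]
    refine dvd_pow_self p fun h0 => hnt ?_
    rw [← Subgroup.index_eq_one, he, h0, pow_zero]
  rw [← Nat.card_eq_of_bijective Φ hbij, Nat.card_prod, card_hom_pow_eq_one hQ, mul_comm]

end Cfsg.Agent.S4553
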