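import Cfsg.Statements.S4558
import Cfsg.Agent.Lib.Blocks.GaloisInv
import Cfsg.Agent.Lib.CharBlocks.Degree

set_option autoImplicit false
open Cfsg

namespace Cfsg.Agent.S4558

/-- Let χ be a character of the finite group G and g an element of p-power order for the prime p. If χ g = 0, then p divides the degree of χ. -/
theorem result {G : Type*} [Group G] [Finite G] (p : ℕ) [Fact p.Prime] (χ : G → ℂ) (hχ : Cfsg.IsCharacter G χ) (g : G) (hg : ∃ j : ℕ, orderOf g = p ^ j) (h0 : χ g = 0) : p ∣ Cfsg.charDegree χ := by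
  classical
  obtain ⟨d, ρ, hρ⟩ := id hχ
  obtain ⟨z, hz, hsum⟩ := CfsgLib.Char.exists_roots_char ρ g
  obtain ⟨M, hM⟩ := CfsgLib.Blocks.exists_isPModular (Fact.out : p.Prime)
  have := hM.2.1
  obtain ⟨j, hj⟩ := hg
  rw [hj] at hz
  let w : Fin (Module.finrank ℂ (Fin d → ℂ)) → CfsgLib.Blocks.locRing M := fun i =>
    CfsgLib.Blocks.ofInt M ⟨z i, IsIntegral.of_pow (pow_pos (Fact.out : p.Prime).pos j)
      (hz i ▸ isIntegral_one)⟩
  have hw : ∑ i, w i = 0 := by
    apply Subtype.ext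
    push_cast [w, CfsgLib.Blocks.coe_ofInt]
    rw [← hsum, hρ]
    exact h0
  have hres := congrArg (CfsgLib.Blocks.res M) hw
  rw [map_sum, map_zero, Finset.sum_congr rfl (fun i _ =>
    CfsgLib.Blocks.res_pPow_rootOfUnity M hM (z := w i) (k := j) (Subtype.ext (by
      push_cast [w, CfsgLib.Blocks.coe_ofInt]; exact hz i))), Finset.sum_const, nsmul_one,
    Finset.card_univ, Fintype.card_fin, ← map_natCast (CfsgLib.Blocks.res M),
    CfsgLib.Blocks.res_natCast_eq_zero_iff M hM, Module.finrank_fin_fun] at hres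
  rwa [CfsgLib.CharBlocks.charDegree_eq (χ := χ) (n := d) (by rw [← hρ]; simp)]

end Cfsg.Agent.S4558
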