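import Cfsg.Statements.S4560
import Cfsg.Agent.Lib.Char.SmallPermChars
import Mathlib.GroupTheory.Perm.Fin
import Mathlib.GroupTheory.SpecificGroups.Alternating

set_option autoImplicit false
open Cfsg

namespace Cfsg.Agent.S4560

open CfsgLib.Char.SmallPerm Equiv

/-- Fixed points and points of period exactly two of a permutation. -/
def Counts {α : Type*} (σ : Perm α) (f d : ℕ) : Prop :=
  Nat.card {a // σ a = a} = f ∧ Nat.card {a // σ (σ a) = a ∧ σ a ≠ a} = d

theorem counts_sum {α β : Type*} [Finite α] [Finite β] {σ : Perm α} {τ : Perm β} {f d f' d' : ℕ}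
    (h : Counts σ f d) (h' : Counts τ f' d') : Counts (Equiv.sumCongr σ τ) (f + f') (d + d') := by
  have key : ∀ (P : α ⊕ β → Prop), Nat.card {x // P x} =
      Nat.card {a // P (Sum.inl a)} + Nat.card {b // P (Sum.inr b)} := fun P => by
    rw [Nat.card_congr Equiv.subtypeSum, Nat.card_sum]
  constructor
  · rw [key, ← h.1, ← h'.1]
    simp
  · rw [key, ← h.2, ← h'.2]
    simp

theorem counts_prod_rot (j k : ℕ) :
    Counts (Equiv.prodCongrRight fun _ : Fin j => finRotate (k + 3)) 0 0 := by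
  have h1 : ∀ a : Fin (k + 3), finRotate (k + 3) a ≠ a := fun a => by
    rw [finRotate_succ_apply]
    simp [Fin.ext_iff]
  have h2 : ∀ a : Fin (k + 3), finRotate (k + 3) (finRotate (k + 3) a) ≠ a := fun a => by
    rw [finRotate_succ_apply, finRotate_succ_apply, add_assoc]
    simp [Fin.ext_iff, Fin.val_add, Nat.mod_eq_of_lt (show 2 < k + 2 + 1 by omega)]
  constructor
  · rw [Nat.card_eq_zero]
    exact Or.inl ⟨fun a => h1 a.1.2 (congrArg Prod.snd a.2)⟩
  · rw [Nat.card_eq_zero]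
    exact Or.inl ⟨fun a => h2 a.1.2 (congrArg Prod.snd a.2.1)⟩

theorem counts_prod_swap (c : ℕ) :
    Counts (Equiv.prodCongrRight fun _ : Fin c => finRotate 2) 0 (2 * c) := by
  have h1 : ∀ a : Fin 2, finRotate 2 a ≠ a := by decide
  have h2 : ∀ a : Fin 2, finRotate 2 (finRotate 2 a) = a := by decide
  constructor
  · rw [Nat.card_eq_zero]
    exact Or.inl ⟨fun a => h1 a.1.2 (congrArg Prod.snd a.2)⟩
  · rw [Nat.card_congr (Equiv.subtypeUnivEquiv fun a => ⟨Prod.ext rfl (h2 a.2),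
      fun e => h1 a.2 (congrArg Prod.snd e)⟩)]
    simp [mul_comm]

theorem counts_one (f : ℕ) : Counts (1 : Perm (Fin f)) f 0 := by
  constructor
  · simp
  · rw [Nat.card_eq_zero]
    exact Or.inl ⟨fun a => a.2.2 rfl⟩

theorem exists_element {n : ℕ} (f c j i k₁ k₂ M : ℕ)
    (hn : f + 2 * c + j * (k₁ + 3) + i * (k₂ + 3) = n)
    (hs : Even (c + j * (k₁ + 2) + i * (k₂ + 2))) (hc : 2 ∣ M ∨ c = 0) (h1 : k₁ + 3 ∣ M)
    (h2 : k₂ + 3 ∣ M) :
    ∃ x : alternatingGroup (Fin n), x ^ M = 1 ∧ fx (Fin n) x = f ∧ dx (Fin n) x = 2 * c := by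
  have hrot : ∀ m : ℕ, finRotate (m + 1) ^ (m + 1) = 1 := fun m => by
    refine Equiv.ext fun a => Fin.ext ?_
    have h : ∀ t : ℕ, ((finRotate (m + 1) ^ t) a : ℕ) = ((a : ℕ) + t) % (m + 1) := by
      intro t
      induction t with
      | zero => simp [Nat.mod_eq_of_lt a.isLt]
      | succ t ih =>
        rw [pow_succ', Perm.mul_apply, finRotate_succ_apply, Fin.val_add, ih, Fin.val_one',
          ← Nat.add_mod, add_assoc]
    rw [h, Nat.add_mod_right, Nat.mod_eq_of_lt a.isLt]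
    rfl
  set A := Equiv.prodCongrRight fun _ : Fin c => finRotate 2
  set B := Equiv.prodCongrRight fun _ : Fin j => finRotate (k₁ + 3)
  set C := Equiv.prodCongrRight fun _ : Fin i => finRotate (k₂ + 3)
  set σ := Equiv.sumCongr (1 : Perm (Fin f)) (Equiv.sumCongr A (Equiv.sumCongr B C)) with hσ
  have hcσ : Counts σ f (2 * c) := by
    have := counts_sum (counts_one f)
      (counts_sum (counts_prod_swap c) (counts_sum (counts_prod_rot j k₁) (counts_prod_rot i k₂)))
    simpa using this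
  let e : Fin f ⊕ (Fin c × Fin 2 ⊕ (Fin j × Fin (k₁ + 3) ⊕ Fin i × Fin (k₂ + 3))) ≃ Fin n :=
    Fintype.equivFinOfCardEq (by simp; omega)
  have hsign : Perm.sign (e.permCongr σ) = 1 := by
    rw [Perm.sign_permCongr, hσ, Perm.sign_sumCongr, Perm.sign_sumCongr, Perm.sign_sumCongr,
      Perm.sign_one, Perm.sign_prodCongrRight, Perm.sign_prodCongrRight, Perm.sign_prodCongrRight]
    simp only [Finset.prod_const, Finset.card_univ, Fintype.card_fin, sign_finRotate, one_mul]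
    rw [← pow_mul, ← pow_mul, ← pow_mul, ← pow_add, ← pow_add]
    refine Even.neg_one_pow ?_
    convert hs using 1
    simp only [show k₁ + 3 - 1 = k₁ + 2 by omega, show k₂ + 3 - 1 = k₂ + 2 by omega]
    ring
  have hM : σ ^ M = 1 := by
    have hp : ∀ {α : Type} {m : ℕ} (r : Perm (Fin m)), r ^ M = 1 →
        (Equiv.prodCongrRight fun _ : α => r) ^ M = 1 := by
      intro α m r hr
      refine Equiv.ext fun a => ?_
      have h : ∀ t : ℕ, ((Equiv.prodCongrRight fun _ : α => r) ^ t) a = (a.1, (r ^ t) a.2) := by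
        intro t
        induction t with
        | zero => simp
        | succ t ih => rw [pow_succ', Perm.mul_apply, ih, pow_succ']; rfl
      rw [h, hr]
      rfl
    have hsc : ∀ {α β : Type} (u : Perm α) (v : Perm β), u ^ M = 1 → v ^ M = 1 →
        (Equiv.sumCongr u v) ^ M = 1 := by
      intro α β u v hu hv
      have : (Equiv.sumCongr u v) = Perm.sumCongrHom α β (u, v) := rfl
      rw [this, ← map_pow, Prod.pow_mk, hu, hv]
      exact map_one _
    refine hsc _ _ (one_pow M) (hsc _ _ ?_ (hsc _ _ (hp _ ?_) (hp _ ?_)))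
    · rcases hc with hc | rfl
      · exact hp _ (by obtain ⟨t, rfl⟩ := hc; rw [pow_mul, hrot 1, one_pow])
      · exact Equiv.ext fun a => a.1.elim0
    · obtain ⟨t, ht⟩ := h1; rw [ht, pow_mul, hrot (k₁ + 2), one_pow]
    · obtain ⟨t, ht⟩ := h2; rw [ht, pow_mul, hrot (k₂ + 2), one_pow]
  refine ⟨⟨e.permCongr σ, Perm.mem_alternatingGroup.mpr hsign⟩, Subtype.ext ?_, ?_, ?_⟩
  · show (e.permCongr σ) ^ M = 1
    rw [show e.permCongr σ = e.permCongrHom σ from rfl, ← map_pow, hM, map_one]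
  · refine Eq.trans (Nat.card_congr (Equiv.subtypeEquiv e fun a => ?_)).symm hcσ.1
    show σ a = a ↔ e.permCongr σ (e a) = e a
    simp
  · refine Eq.trans (Nat.card_congr (Equiv.subtypeEquiv e fun a => ?_)).symm hcσ.2
    show (σ (σ a) = a ∧ σ a ≠ a) ↔
      (e.permCongr σ (e.permCongr σ (e a)) = e a ∧ e.permCongr σ (e a) ≠ e a)
    simp


/-- For n ≥ 7 the alternating group on n letters has an irreducible character that vanishes at some 2-element and is the restriction of an irreducible character of the symmetric group, and an irreducible character that vanishes at some element of order 3 and is the restriction of an irreducible character of the symmetric group. -/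
theorem result (n : ℕ) (hn : 7 ≤ n) : (∃ χ : Cfsg.IrrCharacter (alternatingGroup (Fin n)), (∃ x : alternatingGroup (Fin n), (∃ j : ℕ, orderOf x = 2 ^ j) ∧ (χ : alternatingGroup (Fin n) → ℂ) x = 0) ∧ ∃ ψ : Cfsg.IrrCharacter (Equiv.Perm (Fin n)), ∀ x : alternatingGroup (Fin n), (ψ : Equiv.Perm (Fin n) → ℂ) x = (χ : alternatingGroup (Fin n) → ℂ) x) ∧ (∃ χ : Cfsg.IrrCharacter (alternatingGroup (Fin n)), (∃ y : alternatingGroup (Fin n), orderOf y = 3 ∧ (χ : alternatingGroup (Fin n) → ℂ) y = 0) ∧ ∃ ψ : Cfsg.IrrCharacter (Equiv.Perm (Fin n)), ∀ x : alternatingGroup (Fin n), (ψ : Equiv.Perm (Fin n) → ℂ) x = (χ : alternatingGroup (Fin n) → ℂ) x) := by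
  classical
  haveI : MulAction.IsMultiplyPretransitive (Equiv.Perm (Fin n)) (Fin n) 4 :=
    Equiv.Perm.isMultiplyPretransitive (Fin n) 4
  haveI : MulAction.IsMultiplyPretransitive (alternatingGroup (Fin n)) (Fin n) 4 := by
    haveI := alternatingGroup.isMultiplyPretransitive (Fin n)
    refine MulAction.isMultiplyPretransitive_of_le (n := Nat.card (Fin n) - 2) ?_ ?_ <;> simp <;> omega
  have hcard : 4 ≤ Nat.card (Fin n) := by simp; omega
  obtain ⟨a1, a2, a3⟩ := irreducible (G := alternatingGroup (Fin n)) hcard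
  obtain ⟨p1, p2, p3⟩ := irreducible (G := Equiv.Perm (Fin n)) hcard
  set P : (alternatingGroup (Fin n) → Prop) → Prop := fun Q =>
    ∃ χ : Cfsg.IrrCharacter (alternatingGroup (Fin n)),
      (∃ x : alternatingGroup (Fin n), Q x ∧ (χ : alternatingGroup (Fin n) → ℂ) x = 0) ∧
      ∃ ψ : Cfsg.IrrCharacter (Equiv.Perm (Fin n)), ∀ x : alternatingGroup (Fin n),
        (ψ : Equiv.Perm (Fin n) → ℂ) x = (χ : alternatingGroup (Fin n) → ℂ) x
  show P (fun x => ∃ j : ℕ, orderOf x = 2 ^ j) ∧ P (fun y => orderOf y = 3)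
  have m1 : ∀ (Q : alternatingGroup (Fin n) → Prop) x, Q x → fx (Fin n) x = 1 → P Q :=
    fun Q x hx hf => ⟨⟨_, a1⟩, ⟨x, hx, by simp [chi1, hf]⟩, ⟨_, p1⟩, fun y => rfl⟩
  have m22 : ∀ (Q : alternatingGroup (Fin n) → Prop) x, Q x →
      ((fx (Fin n) x : ℂ) ^ 2 - 3 * fx (Fin n) x + dx (Fin n) x) = 0 → P Q :=
    fun Q x hx hf => ⟨⟨_, a2⟩, ⟨x, hx, by show chi22 (Fin n) x = 0; rw [chi22, hf, zero_div]⟩,
      ⟨_, p2⟩, fun y => rfl⟩
  have m11 : ∀ (Q : alternatingGroup (Fin n) → Prop) x, Q x →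
      ((fx (Fin n) x : ℂ) ^ 2 - 3 * fx (Fin n) x + 2 - dx (Fin n) x) = 0 → P Q :=
    fun Q x hx hf => ⟨⟨_, a3⟩, ⟨x, hx, by show chi11 (Fin n) x = 0; rw [chi11, hf, zero_div]⟩,
      ⟨_, p3⟩, fun y => rfl⟩
  have two : ∀ f c j : ℕ, f + 2 * c + 4 * j = n → (2 ≤ j ∨ Even (c + j)) →
      ∃ x : alternatingGroup (Fin n), (∃ l : ℕ, orderOf x = 2 ^ l) ∧ fx (Fin n) x = f ∧
        dx (Fin n) x = 2 * c := by
    intro f c j h hj
    obtain ⟨x, hx, hf, hd⟩ : ∃ x : alternatingGroup (Fin n), x ^ 8 = 1 ∧ fx (Fin n) x = f ∧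
        dx (Fin n) x = 2 * c := by
      by_cases he : Even (c + j)
      · refine exists_element f c j 0 1 5 8 (by omega) ?_ (Or.inl (by norm_num)) (by norm_num) (by norm_num)
        rcases he with ⟨t, ht⟩
        exact ⟨t + j, by omega⟩
      · have hj2 : 2 ≤ j := hj.resolve_right he
        obtain ⟨t, ht⟩ := Nat.not_even_iff_odd.mp he
        refine exists_element f c (j - 2) 1 1 5 8 (by omega) ?_ (Or.inl (by norm_num)) (by norm_num) (by norm_num)
        exact ⟨t + j + 1, by omega⟩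
    obtain ⟨l, -, hl⟩ := (Nat.dvd_prime_pow Nat.prime_two).mp
      (show orderOf x ∣ 2 ^ 3 from orderOf_dvd_of_pow_eq_one hx)
    exact ⟨x, ⟨l, hl⟩, hf, hd⟩
  have three : ∀ f j : ℕ, f + 3 * j = n → f < n →
      ∃ x : alternatingGroup (Fin n), orderOf x = 3 ∧ fx (Fin n) x = f ∧ dx (Fin n) x = 0 := by
    intro f j h hlt
    obtain ⟨x, hx, hf, hd⟩ := exists_element (n := n) f 0 j 0 0 0 3 (by omega) ⟨j, by omega⟩
      (Or.inr rfl) (by norm_num) (by norm_num)
    refine ⟨x, ?_, hf, hd⟩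
    haveI := Fact.mk Nat.prime_three
    refine orderOf_eq_prime hx fun e => ?_
    rw [e, fx, MulAction.fixedBy_one_eq_univ, Nat.card_coe_set_eq, Set.ncard_univ] at hf
    simp at hf
    omega
  refine ⟨?_, ?_⟩
  · obtain ⟨j, hj⟩ : ∃ j, n = 4 * j + n % 4 := ⟨n / 4, by omega⟩
    rcases (show n % 4 = 0 ∨ n % 4 = 1 ∨ n % 4 = 2 ∨ n % 4 = 3 by omega) with h | h | h | h <;>
      rw [h] at hj
    · obtain ⟨x, hQ, hf, hd⟩ := two 0 0 j (by omega) (Or.inl (by omega))
      exact m22 _ x hQ (by rw [hf, hd]; norm_num)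
    · obtain ⟨x, hQ, hf, hd⟩ := two 1 0 j (by omega) (Or.inl (by omega))
      exact m1 _ x hQ hf
    · obtain ⟨x, hQ, hf, hd⟩ := two 0 1 j (by omega) (Or.inl (by omega))
      exact m11 _ x hQ (by rw [hf, hd]; norm_num)
    · obtain ⟨x, hQ, hf, hd⟩ := two 1 1 j (by omega) (by
        rcases (show j = 1 ∨ 2 ≤ j by omega) with rfl | h'
        · exact Or.inr ⟨1, rfl⟩
        · exact Or.inl h')
      exact m1 _ x hQ hf
  · obtain ⟨j, hj⟩ : ∃ j, n = 3 * j + n % 3 := ⟨n / 3, by omega⟩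
    rcases (show n % 3 = 0 ∨ n % 3 = 1 ∨ n % 3 = 2 by omega) with h | h | h <;> rw [h] at hj
    · obtain ⟨x, hQ, hf, hd⟩ := three 3 (j - 1) (by omega) (by omega)
      exact m22 _ x hQ (by rw [hf, hd]; norm_num)
    · obtain ⟨x, hQ, hf, hd⟩ := three 1 j (by omega) (by omega)
      exact m1 _ x hQ hf
    · obtain ⟨x, hQ, hf, hd⟩ := three 2 j (by omega) (by omega)
      exact m11 _ x hQ (by rw [hf, hd]; norm_num)

end Cfsg.Agent.S4560
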