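import Cfsg.Statements.S4566
import Cfsg.Agent.Lib.CharNormal.Clifford
import Cfsg.Agent.Lib.CharNormal.Linear

set_option autoImplicit false
open Cfsg

namespace Cfsg.Agent.S4566

/-- Let N be a central subgroup of the finite group G, ψ a faithful irreducible (hence degree-one) character of N, and χ an irreducible character of G whose restriction to N contains ψ. If g ∈ G and some x ∈ G has commutator x⁻¹ g⁻¹ x g in N but different from 1, then χ g = 0. -/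
theorem result {G : Type*} [Group G] [Fintype G] (N : Subgroup G) [Fintype N] (hN : N ≤ Subgroup.center G) (ψ : Cfsg.IrrCharacter ↥N) (hfaith : ∀ n : ↥N, (ψ : ↥N → ℂ) n = (ψ : ↥N → ℂ) 1 → n = 1) (χ : Cfsg.IrrCharacter G) (hover : Cfsg.classInner (fun n : ↥N => (χ : G → ℂ) n) (ψ : ↥N → ℂ) ≠ 0) (g x : G) (hcomm : x⁻¹ * g⁻¹ * x * g ∈ N) (hne : x⁻¹ * g⁻¹ * x * g ≠ 1) : (χ : G → ℂ) g = 0 := by
  classical
  have hNn : N.Normal := ⟨fun n hn a => by
    rw [Subgroup.mem_center_iff.mp (hN hn) a, mul_inv_cancel_right]; exact hn⟩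
  have hinv : ∀ a : G, CfsgLib.CharNormal.conjFun N a (ψ : N → ℂ) = (ψ : N → ℂ) := fun a => by
    funext n
    refine congrArg (ψ : N → ℂ) (Subtype.ext ?_)
    show a * n * a⁻¹ = n
    rw [Subgroup.mem_center_iff.mp (hN n.2) a, mul_inv_cancel_right]
  have hres := CfsgLib.CharNormal.res_eq_smul_of_invariant N χ.2 ψ.2 hinv hover
  set e := Cfsg.classInner (fun n : N => (χ : G → ℂ) n) (ψ : N → ℂ) with he
  have hn : ∀ n : N, (χ : G → ℂ) n = e * (ψ : N → ℂ) n := fun n => by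
    simpa using congrFun hres n
  have hψ1 : (ψ : N → ℂ) 1 = 1 := CfsgLib.CharNormal.irr_one_of_comm
    (fun a b => Subtype.ext (Subgroup.mem_center_iff.mp (hN b.2) a)) ψ.2
  set c : N := ⟨x⁻¹ * g⁻¹ * x * g, hcomm⟩
  obtain ⟨d, ρ, -, hρ⟩ := id χ.2
  have hnorm : ‖ρ.character ((c : G)⁻¹)‖ = (Module.finrank ℂ (Fin d → ℂ) : ℝ) := by
    have h1 : (χ : G → ℂ) 1 = e := by simpa [hψ1] using hn 1
    have h2 := hn c⁻¹
    let L := CfsgLib.Char.linearHom (CfsgLib.Char.isCharacter_of_isIrr ψ.2) hψ1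
    have h3 : ‖(ψ : N → ℂ) c⁻¹‖ = 1 := by
      refine CfsgLib.Char.norm_eq_one_of_pow_eq_one' (orderOf_pos (c⁻¹)).ne' ?_
      rw [← CfsgLib.Char.linearHom_apply (CfsgLib.Char.isCharacter_of_isIrr ψ.2) hψ1,
        ← Units.val_pow_eq_pow_val, ← map_pow, pow_orderOf_eq_one, map_one, Units.val_one]
    have h4 : (χ : G → ℂ) 1 = (d : ℂ) := by rw [← hρ]; simp
    rw [hρ, Module.finrank_fin_fun, ← Subgroup.coe_inv, h2, norm_mul, h3, mul_one, ← h1, h4]
    simp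
  obtain ⟨ω, hω⟩ := (CfsgLib.Char.norm_character_eq_iff ρ _).mp hnorm
  have hmul : ∀ y : G, (χ : G → ℂ) (y * (c : G)⁻¹) = ω * (χ : G → ℂ) y := fun y => by
    rw [← hρ]
    show LinearMap.trace ℂ _ (ρ (y * (c : G)⁻¹)) = ω * LinearMap.trace ℂ _ (ρ y)
    rw [map_mul, hω, Module.End.mul_eq_comp, LinearMap.comp_smul, LinearMap.comp_id, map_smul,
      smul_eq_mul]
  have hω1 : ω ≠ 1 := by
    intro h
    have h1 := hmul 1
    rw [one_mul, h, one_mul, ← Subgroup.coe_inv, hn,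
      show (χ : G → ℂ) 1 = e * (ψ : N → ℂ) 1 from by simpa using hn 1] at h1
    have h2 := hfaith c⁻¹ (mul_left_cancel₀ (fun h0 => hover h0) h1)
    exact hne (congrArg Subtype.val (inv_eq_one.mp h2))
  have hconj : (χ : G → ℂ) g = ω * (χ : G → ℂ) g := by
    rw [← hmul, ← CfsgLib.Char.isClassFunction_of_isIrr χ.2 g x⁻¹]
    refine congrArg (χ : G → ℂ) ?_
    show x⁻¹ * g * x⁻¹⁻¹ = g * (x⁻¹ * g⁻¹ * x * g)⁻¹
    group
  by_contra h0
  exact hω1 ((mul_eq_right₀ h0).mp hconj.symm)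

end Cfsg.Agent.S4566
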