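import Cfsg.Statements.S4570
import Cfsg.Agent.Lib.Blocks.ElemFree.Reduce

set_option autoImplicit false
open Cfsg

namespace Cfsg.Agent.S4570

/-- Let G be a finite group with a commutative Sylow 2-subgroup P and M a maximal ideal of the algebraic integers containing 2, and suppose some involution x of G has the property that the principal 2-block of its centralizer has 2-regular rank one. If P has order 8 then the principal 2-block of G contains exactly 8 irreducible characters, and if P has order 16 it contains 8 or 16. -/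
theorem result {G : Type*} [Group G] [Finite G] (M : Ideal Cfsg.AlgInt) (hM : Cfsg.IsPModular 2 M) (P : Sylow 2 G) (hab : IsMulCommutative P) (x : G) (hx : orderOf x = 2) (hl : Cfsg.blockRank 2 (Cfsg.principalBlock M ↥(Subgroup.centralizer ({x} : Set G))) = 1) : (Nat.card P = 8 → Nat.card (Cfsg.principalBlock M G) = 8) ∧ (Nat.card P = 16 → Nat.card (Cfsg.principalBlock M G) = 8 ∨ Nat.card (Cfsg.principalBlock M G) = 16) := by
  classical
  have : M.IsMaximal := hM.2.1
  have := Fintype.ofFinite G
  have hx2 : x * x = 1 := by rw [← pow_two, ← hx]; exact pow_orderOf_eq_one x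
  have hx1 : x ≠ 1 := fun h => by rw [h, orderOf_one] at hx; omega
  have hp : IsPGroup 2 (Subgroup.zpowers x) :=
    CfsgLib.NilBlock.isPGroup_zpowers ⟨1, by rw [hx, pow_one]⟩
  obtain ⟨S, hS⟩ := hp.exists_le_sylow
  obtain ⟨g, hg⟩ := MulAction.exists_smul_eq G S P
  have hmem : ∀ a ∈ (S : Subgroup G), g * a * g⁻¹ ∈ (P : Subgroup G) := fun a ha => by
    rw [← hg, Sylow.coe_subgroup_smul]
    exact ⟨a, ha, rfl⟩
  have hSab : IsMulCommutative (S : Subgroup G) := ⟨⟨fun a b => Subtype.ext (by
    have h := congrArg Subtype.val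
      (hab.is_comm.comm (⟨_, hmem a a.2⟩ : (P : Subgroup G)) ⟨_, hmem b b.2⟩)
    simp only [Subgroup.coe_mul] at h
    calc (a : G) * b = g⁻¹ * (g * a * g⁻¹ * (g * b * g⁻¹)) * g := by group
      _ = (b : G) * a := by rw [h]; group)⟩⟩
  have hcard : Nat.card (S : Subgroup G) = Nat.card (P : Subgroup G) := by
    rw [S.card_eq_multiplicity, P.card_eq_multiplicity]
  have h := CfsgLib.ElemFree.counts (P := S) hM hSab (hS (Subgroup.mem_zpowers x)) hx2 hx1 hl
  rw [hcard] at h
  exact h

end Cfsg.Agent.S4570
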