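import Cfsg.Statements.S4571
import Cfsg.Agent.Lib.Blocks.PrincipalSection
import Cfsg.Agent.Lib.BlockArith.QuotientRank
-- import your own Cfsg.Agent.* helpers here

set_option autoImplicit false
open Cfsg CfsgLib.Blocks

namespace Cfsg.Agent.S4571

/-- Let Q be a normal p-subgroup of the finite group G with G = Q·C_G(Q), and M a maximal ideal of the algebraic integers containing p. Then the principal p-blocks of G and of G/Q have the same p-regular rank (the same number of irreducible Brauer characters). -/
theorem result {G : Type*} [Group G] [Finite G] (p : ℕ) [Fact p.Prime] (M : Ideal Cfsg.AlgInt) (hM : Cfsg.IsPModular p M) (Q : Subgroup G) [Q.Normal] (hQ : IsPGroup p Q) (hsup : Q ⊔ Subgroup.centralizer (Q : Set G) = ⊤) : Cfsg.blockRank p (Cfsg.principalBlock M G) = Cfsg.blockRank p (Cfsg.principalBlock M (G ⧸ Q)) := by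
  classical
  haveI := hM.2.1
  let _ := Fintype.ofFinite G
  let _ := Fintype.ofFinite (G ⧸ Q)
  have hC : ∃ k : ℕ, (Subgroup.centralizer (Q : Set G)).index = p ^ k := by
    have h1 : (Subgroup.centralizer (Q : Set G)).index = (Subgroup.centralizer (Q : Set G)).relIndex Q := by
      rw [← Subgroup.relIndex_sup_right (K := Subgroup.centralizer (Q : Set G)) (H := Q), hsup, Subgroup.relIndex_top_right]
    obtain ⟨n, hn⟩ := IsPGroup.iff_card.mp hQ
    have h2 : (Subgroup.centralizer (Q : Set G)).relIndex Q ∣ p ^ n := hn ▸ Subgroup.relIndex_dvd_card _ _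
    obtain ⟨k, -, hk⟩ := (Nat.dvd_prime_pow (Fact.out : p.Prime)).mp h2
    exact ⟨k, h1.trans hk⟩
  have hB : IsPBlock M (principalBlock M G) := isPBlock_principalBlock
  rw [CfsgLib.BlockArith.blockRank_inflSet hM hQ hC hB]
  congr 1
  refine isPBlock_eq_of_mem (CfsgLib.BlockArith.isPBlock_inflSet hM hQ hC hB) isPBlock_principalBlock (χ := CfsgLib.Char.irrOne) ?_ irrOne_mem_principalBlock
  exact (CfsgLib.BlockArith.mem_inflSet (η := CfsgLib.Char.irrOne) (funext fun g => rfl)).mpr irrOne_mem_principalBlock

end Cfsg.Agent.S4571
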