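import Cfsg.Statements.S4574
import Cfsg.Agent.Lib.BlockArith.Averaging
import Cfsg.Agent.Lib.CharNormal.Galois
import Cfsg.Agent.Lib.Char.PResidualSum
import Cfsg.Agent.Lib.CharBlocks.Degree

set_option autoImplicit false
open Cfsg

namespace Cfsg.Agent.S4574

open CfsgLib.BlockArith CfsgLib.Char CfsgLib.CharNormal
open scoped ComplexConjugate

theorem norm_zero_counts {G : Type*} [Group G] [Fintype G] [DecidableEq G] {χ : G → ℂ}
    (hχ : Cfsg.IsIrrCharacter G χ) :
    (Cfsg.charDegree χ ^ 2 - 1) * (Finset.univ.filter (fun g : G => ‖χ g‖ = (Cfsg.charDegree χ : ℝ))).card ≤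
      (Finset.univ.filter (fun g : G => χ g = 0)).card ∧
    ((∀ g : G, ‖χ g‖ = 0 ∨ ‖χ g‖ = 1 ∨ ‖χ g‖ = (Cfsg.charDegree χ : ℝ)) →
      (Cfsg.charDegree χ ^ 2 - 1) * (Finset.univ.filter (fun g : G => ‖χ g‖ = (Cfsg.charDegree χ : ℝ))).card =
        (Finset.univ.filter (fun g : G => χ g = 0)).card) := by
  classical
  have hc := isCharacter_of_isIrr hχ
  have hd1 : 1 ≤ charDegree χ := by
    refine Nat.pos_of_ne_zero fun h => irr_one_ne_zero hχ ?_
    rw [charDegree_cast hc, h, Nat.cast_zero]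
  set d := charDegree χ
  set Z := Finset.univ.filter (fun g : G => ‖χ g‖ = (d : ℝ))
  set N := Finset.univ.filter (fun g : G => χ g = 0)
  set R := Finset.univ.filter (fun g : G => χ g ≠ 0 ∧ ‖χ g‖ ≠ (d : ℝ))
  have hsum : ∑ g : G, ‖χ g‖ ^ 2 = (Fintype.card G : ℝ) := by
    have h := card_mul_classInner χ χ
    rw [classInner_irr_self hχ, mul_one] at h
    have h2 : ((∑ g : G, ‖χ g‖ ^ 2 : ℝ) : ℂ) = ((Fintype.card G : ℝ) : ℂ) := by
      rw [Complex.ofReal_natCast, ← Nat.card_eq_fintype_card, h, Complex.ofReal_sum]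
      exact Finset.sum_congr rfl fun g _ => by rw [Complex.mul_conj, ← Complex.normSq_eq_norm_sq]
    exact_mod_cast h2
  have hdis : ∀ g : G, (if χ g = 0 then 1 else 0) + (if ‖χ g‖ = (d : ℝ) then 1 else 0) +
      (if χ g ≠ 0 ∧ ‖χ g‖ ≠ (d : ℝ) then 1 else 0) = (1 : ℕ) := by
    intro g
    by_cases h0 : χ g = 0
    · have hne : ‖χ g‖ ≠ (d : ℝ) := by
        rw [h0, norm_zero]; exact fun h => by
          have : (1 : ℝ) ≤ (d : ℝ) := by exact_mod_cast hd1
          linarith
      simp [h0]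
      exact fun h => hne (by rw [h0, norm_zero]; exact h)
    · by_cases h1 : ‖χ g‖ = (d : ℝ) <;> simp [h0, h1]
  have hcard : N.card + Z.card + R.card = Fintype.card G := by
    simp only [N, Z, R, Finset.card_filter, ← Finset.sum_add_distrib, hdis]
    simp
  have hsplit : ∑ g : G, ‖χ g‖ ^ 2 = (Z.card : ℝ) * (d : ℝ) ^ 2 + ∑ g ∈ R, ‖χ g‖ ^ 2 := by
    rw [show (Z.card : ℝ) * (d : ℝ) ^ 2 = ∑ g ∈ Z, ‖χ g‖ ^ 2 by
      rw [Finset.sum_congr rfl (g := fun _ => (d : ℝ) ^ 2) (fun g hg => by rw [(Finset.mem_filter.mp hg).2]),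
        Finset.sum_const, nsmul_eq_mul]]
    rw [← Finset.sum_union]
    · symm
      refine Finset.sum_subset (Finset.subset_univ _) fun g _ hg => ?_
      have h0 : χ g = 0 := by
        by_contra h0
        by_cases h1 : ‖χ g‖ = (d : ℝ) <;> simp [Z, R, h0, h1] at hg
      simp [h0]
    · rw [Finset.disjoint_left]
      intro g h1 h2
      exact (Finset.mem_filter.mp h2).2.2 (Finset.mem_filter.mp h1).2
  have hk : ∀ σ : ℂ ≃+* ℂ, ∀ g : G, σ (χ g * conj (χ g)) = σ (χ g) * σ (χ g⁻¹) := fun σ g => by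
    rw [map_mul, char_inv hc]
  have hR : (R.card : ℝ) ≤ ∑ g ∈ R, ‖χ g‖ ^ 2 := by
    have hnn : ∀ a ∈ R, ∀ σ : ℂ ≃+* ℂ, ∃ r : ℝ, 0 ≤ r ∧ σ (χ a * conj (χ a)) = (r : ℂ) := by
      intro a _ σ
      refine ⟨Complex.normSq (σ (χ a)), Complex.normSq_nonneg _, ?_⟩
      rw [map_mul, show σ (conj (χ a)) = conj (σ (χ a)) from char_mem_conjCommute σ hc a, Complex.mul_conj]
    obtain ⟨σ, hσ⟩ := exists_conjugate_sum_ge R (fun g => χ g * conj (χ g)) (fun _ => 1)
      (fun g _ => (char_isIntegral hc g).mul (by rw [← char_inv hc]; exact char_isIntegral hc _))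
      (fun g hg => mul_ne_zero (Finset.mem_filter.mp hg).2.1
        ((map_ne_zero _).mpr (Finset.mem_filter.mp hg).2.1)) hnn
    obtain ⟨k, hk1, hk2⟩ := CfsgLib.CharBlocks.exists_pow_galois (G := G) σ
    have hval : ∀ g : G, σ (χ g) = χ (g ^ k) := fun g => hk2 χ hc g
    have hval2 : ∀ g : G, σ (χ g * conj (χ g)) = ((‖χ (g ^ k)‖ ^ 2 : ℝ) : ℂ) := by
      intro g
      rw [map_mul, show σ (conj (χ g)) = conj (σ (χ g)) from char_mem_conjCommute σ hc g, hval, Complex.mul_conj, ← Complex.normSq_eq_norm_sq]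
    have hinj : Function.Injective (fun g : G => g ^ k) :=
      (powCoprime hk1.symm).injective
    have hmem : ∀ g ∈ R, g ^ k ∈ R := by
      intro g hg
      have h1 := (Finset.mem_filter.mp hg).2
      refine Finset.mem_filter.mpr ⟨Finset.mem_univ _, fun h0 => h1.1 ?_, fun hd => h1.2 ?_⟩
      · exact (map_eq_zero_iff σ σ.injective).mp ((hval g).trans h0)
      · have h2 : σ (χ g * conj (χ g)) = σ ((d : ℂ) ^ 2) := by
          rw [hval2, hd, map_pow, map_natCast]; push_cast; rfl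
        have h3 := σ.injective h2
        rw [Complex.mul_conj, Complex.normSq_eq_norm_sq] at h3
        have h4 : ‖χ g‖ ^ 2 = (d : ℝ) ^ 2 := by exact_mod_cast h3
        exact (pow_left_inj₀ (norm_nonneg _) (Nat.cast_nonneg d) two_ne_zero).mp h4
    have himg : R.image (fun g : G => g ^ k) = R :=
      Finset.eq_of_subset_of_card_le (fun x hx => by
        obtain ⟨g, hg, rfl⟩ := Finset.mem_image.mp hx; exact hmem g hg)
        (by rw [Finset.card_image_of_injective _ hinj])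
    simp only [hval2, Complex.ofReal_re, Nat.cast_one, one_mul, Finset.sum_const, smul_eq_mul, mul_one] at hσ
    rw [← himg, Finset.sum_image fun a _ b _ h => hinj h]
    rw [himg]
    exact hσ
  have hd2 : (((d ^ 2 - 1 : ℕ)) : ℝ) = (d : ℝ) ^ 2 - 1 := by
    rw [Nat.cast_sub (Nat.one_le_pow _ _ hd1)]; push_cast; rfl
  have hcard' : (N.card : ℝ) + Z.card + R.card = (Fintype.card G : ℝ) := by exact_mod_cast hcard
  constructor
  · have h : (((d ^ 2 - 1) * Z.card : ℕ) : ℝ) ≤ (N.card : ℝ) := by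
      rw [Nat.cast_mul, hd2]; nlinarith [hsum, hsplit, hR, hcard']
    exact_mod_cast h
  · intro hall
    have hR1 : ∑ g ∈ R, ‖χ g‖ ^ 2 = (R.card : ℝ) := by
      rw [Finset.sum_congr rfl (g := fun _ => (1 : ℝ)) (fun g hg => by
        have h1 := (Finset.mem_filter.mp hg).2
        rcases hall g with h | h | h
        · exact absurd (norm_eq_zero.mp h) h1.1
        · rw [h, one_pow]
        · exact absurd h h1.2), Finset.sum_const, nsmul_eq_mul, mul_one]
    have h : (((d ^ 2 - 1) * Z.card : ℕ) : ℝ) = (N.card : ℝ) := by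
      rw [Nat.cast_mul, hd2]; nlinarith [hsum, hsplit, hR1, hcard']
    exact_mod_cast h


/-- Let χ be an irreducible character of the finite group G, of degree d, and let Z(χ) be the set of elements g with |χ g| = d (the centre of χ). Then χ vanishes on at least (d ^ 2 - 1) · |Z(χ)| elements of G, with equality when every value |χ g| is 0, 1 or d. -/
theorem result {G : Type*} [Group G] [Fintype G] [DecidableEq G] (χ : G → ℂ) (hχ : Cfsg.IsIrrCharacter G χ) : (Cfsg.charDegree χ ^ 2 - 1) * (Finset.univ.filter (fun g : G => ‖χ g‖ = (Cfsg.charDegree χ : ℝ))).card ≤ (Finset.univ.filter (fun g : G => χ g = 0)).card ∧ ((∀ g : G, ‖χ g‖ = 0 ∨ ‖χ g‖ = 1 ∨ ‖χ g‖ = (Cfsg.charDegree χ : ℝ)) → (Cfsg.charDegree χ ^ 2 - 1) * (Finset.univ.filter (fun g : G => ‖χ g‖ = (Cfsg.charDegree χ : ℝ))).card = (Finset.univ.filter (fun g : G => χ g = 0)).card) := by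
  exact norm_zero_counts hχ


end Cfsg.Agent.S4574
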