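import Cfsg.Statements.S4580
import Cfsg.Agent.Lib.BlockArith.RealBlock
import Cfsg.Agent.Lib.CharNormal.Gallagher

set_option autoImplicit false
open Cfsg

namespace Cfsg.Agent.S4580

/-- Let N be a normal subgroup of the finite group G, M a maximal ideal of the algebraic integers containing 2, and θ a real-valued irreducible character of N of odd degree that extends to G (some irreducible character of G restricts to θ). Then θ has an extension to G lying in the principal 2-block of G. -/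
theorem result {G : Type*} [Group G] [Finite G] (N : Subgroup G) [N.Normal] (M : Ideal Cfsg.AlgInt) (hM : Cfsg.IsPModular 2 M) (θ : Cfsg.IrrCharacter N) (hreal : ∀ n : N, ((θ : N → ℂ) n).im = 0) (hodd : Odd (Cfsg.charDegree (θ : N → ℂ))) (hext : ∃ η : Cfsg.IrrCharacter G, ∀ n : N, (η : G → ℂ) n = (θ : N → ℂ) n) :
    ∃ η : Cfsg.IrrCharacter G, (∀ n : N, (η : G → ℂ) n = (θ : N → ℂ) n) ∧ η ∈ Cfsg.principalBlock M G := by
  classical
  have := Fintype.ofFinite G
  have := Fintype.ofFinite N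
  have := hM.2.1
  obtain ⟨η, hη⟩ := hext
  have hηc : Cfsg.IsCharacter G (η : G → ℂ) := CfsgLib.Char.isCharacter_of_isIrr η.2
  have hres : Cfsg.IsIrrCharacter N (fun n : N => (η : G → ℂ) n) := by
    rw [funext hη]; exact θ.2
  obtain ⟨lam, hl, hl1, hlN, heq⟩ := CfsgLib.CharNormal.exists_linear_eq_mul_of_extensions N hηc
    (CfsgLib.Char.isCharacter_conj hηc) hres (fun n => by
      rw [hη, Complex.conj_eq_iff_im.mpr (hreal n)])
  let L : G →* ℂˣ := CfsgLib.Char.linearHom hl hl1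
  obtain ⟨j, hj⟩ : ∃ j, 1 + 2 * j = ordCompl[2] (Nat.card G) := by
    have h : Odd (ordCompl[2] (Nat.card G)) := Nat.odd_iff.mpr
      (Nat.two_dvd_ne_zero.mp (Nat.not_dvd_ordCompl Nat.prime_two Nat.card_pos.ne'))
    obtain ⟨j, hj⟩ := h
    exact ⟨j, by omega⟩
  let μ : G →* ℂˣ := (L ^ j)⁻¹
  have hμc : Cfsg.IsCharacter G (fun g => (μ g : ℂ)) :=
    CfsgLib.Char.isCharacter_of_isIrr (CfsgLib.Char.isIrrCharacter_units_hom μ)
  have hη' := CfsgLib.CharNormal.isIrr_mul_linear η.2 hμc (by simp)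
  have hLN : ∀ n : N, L (n : G) = 1 := fun n => Units.ext (by
    rw [CfsgLib.Char.linearHom_apply, hlN n n.2, Units.val_one])
  have hext' : ∀ n : N, ((η : G → ℂ) * fun g => (μ g : ℂ)) n = (θ : N → ℂ) n := fun n => by
    simp only [Pi.mul_apply, μ, MonoidHom.inv_apply, MonoidHom.pow_apply, hLN n, one_pow, inv_one,
      Units.val_one, mul_one, hη]
  have hdeg : Cfsg.charDegree ((η : G → ℂ) * fun g => (μ g : ℂ)) =
      Cfsg.charDegree (θ : N → ℂ) := by
    have h1 := hext' 1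
    simp only [OneMemClass.coe_one] at h1
    simp only [Cfsg.charDegree]
    rw [h1]
  refine ⟨⟨_, hη'⟩, hext', CfsgLib.BlockArith.mem_principalBlock_of_odd_degree hM ⟨_, hη'⟩
    (hdeg ▸ hodd) fun x hx => ?_⟩
  -- on elements of odd order the twist is real
  have hLx : L x ^ (1 + 2 * j) = 1 := by
    have hdvd : orderOf x ∣ 1 + 2 * j := by
      rw [hj]
      refine ((Nat.prime_two.coprime_iff_not_dvd.mpr hx).pow_left
        ((Nat.card G).factorization 2)).symm.dvd_of_dvd_mul_left ?_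
      rw [Nat.ordProj_mul_ordCompl_eq_self]
      exact orderOf_dvd_natCard x
    rw [← map_pow, orderOf_dvd_iff_pow_eq_one.mp hdvd, map_one]
  show (η : G → ℂ) x⁻¹ * (((L x⁻¹ ^ j)⁻¹ : ℂˣ) : ℂ) = (η : G → ℂ) x * (((L x ^ j)⁻¹ : ℂˣ) : ℂ)
  rw [CfsgLib.Char.char_inv hηc, show (starRingEnd ℂ) ((η : G → ℂ) x) =
    (η : G → ℂ) x * (L x : ℂ) from by
      rw [CfsgLib.Char.linearHom_apply]; exact congrFun heq x, map_inv, mul_assoc, ← Units.val_mul]
  congr 2
  rw [inv_pow, inv_inv, eq_inv_iff_mul_eq_one, mul_assoc, ← pow_add, ← pow_succ',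
    show j + j + 1 = 1 + 2 * j by omega]
  exact hLx

end Cfsg.Agent.S4580
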