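import Cfsg.Statements.S4581
import Cfsg.Agent.Lib.CharNormal.RealOdd.AllReal
import Cfsg.Agent.Lib.PGroup.Basic
import Cfsg.Agent.Lib.Transfer.Critical
import Mathlib.GroupTheory.FiniteAbelian.Duality

set_option autoImplicit false
open Cfsg

namespace Cfsg.Agent.S4581

open CfsgLib.Char CfsgLib.RealOdd

theorem realOdd_iff {H : Type*} [Group H] [Finite H] (χ : IrrCharacter H) :
    ((∀ g : H, ((χ : H → ℂ) g).im = 0) ∧ Odd (charDegree (χ : H → ℂ))) ↔ RO (χ : H → ℂ) := by
  obtain ⟨n, hn⟩ := exists_degree (isCharacter_of_isIrr χ.2)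
  have hd : charDegree (χ : H → ℂ) = n := by
    rw [charDegree, hn, Complex.natCast_re, Nat.floor_natCast]
  constructor
  · rintro ⟨h1, h2⟩
    exact ⟨χ.2, fun g => Complex.conj_eq_iff_im.mpr (h1 g), n, hd ▸ h2, hn⟩
  · rintro ⟨-, h1, m, hm, hm1⟩
    refine ⟨fun g => Complex.conj_eq_iff_im.mp (h1 g), ?_⟩
    rw [hd]
    obtain rfl : m = n := by exact_mod_cast hm1.symm.trans hn
    exact hm

theorem commutator_eq_frattini_iff {P : Type*} [Group P] [Finite P] (hP : IsPGroup 2 P) :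
    (∀ l : P →* ℂˣ, l ^ 2 = 1) ↔ commutator P = frattini P := by
  have : Fact (Nat.Prime 2) := ⟨Nat.prime_two⟩
  constructor
  · intro h
    refine le_antisymm (CfsgLib.PGroup.commutator_le_frattini hP) ?_
    refine CfsgLib.Transfer.frattini_le_of_commutator_pow (p := 2) _
      (fun a b => Subgroup.commutator_mem_commutator (Subgroup.mem_top a) (Subgroup.mem_top b))
      fun a => ?_
    by_contra ha
    have ha' : Abelianization.of (a ^ 2) ≠ 1 := fun he => ha
      ((QuotientGroup.eq_one_iff _).mp he)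
    obtain ⟨f, hf⟩ :=
      CommGroup.exists_apply_ne_one_of_hasEnoughRootsOfUnity (Abelianization P) ℂ ha'
    refine hf ?_
    rw [map_pow, map_pow]
    exact DFunLike.congr_fun (h (f.comp Abelianization.of)) a
  · intro h l
    refine MonoidHom.ext fun a => ?_
    have h1 : a ^ 2 ∈ commutator P := h ▸ CfsgLib.PGroup.pow_mem_frattini hP a
    rw [MonoidHom.pow_apply, ← map_pow]
    exact Abelianization.commutator_subset_ker l h1

/-- Let G be a finite solvable group, P a Sylow 2-subgroup and N its normalizer. Then G and N have the same number of real-valued irreducible characters of odd degree; and every odd-degree irreducible character of G is real-valued exactly when the derived subgroup of P equals the Frattini subgroup of P and P is its own normalizer in G. -/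
theorem result {G : Type*} [Group G] [Finite G] [Group.IsSolvable G] (P : Sylow 2 G) :
    Nat.card {χ : Cfsg.IrrCharacter G // (∀ g : G, ((χ : G → ℂ) g).im = 0) ∧ Odd (Cfsg.charDegree (χ : G → ℂ))} =
      Nat.card {ψ : Cfsg.IrrCharacter (Subgroup.normalizer ((P : Subgroup G) : Set G)) // (∀ g, ((ψ : Subgroup.normalizer ((P : Subgroup G) : Set G) → ℂ) g).im = 0) ∧ Odd (Cfsg.charDegree (ψ : Subgroup.normalizer ((P : Subgroup G) : Set G) → ℂ))} ∧
    ((∀ χ : Cfsg.IrrCharacter G, Odd (Cfsg.charDegree (χ : G → ℂ)) → ∀ g : G, ((χ : G → ℂ) g).im = 0) ↔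
      (commutator (P : Subgroup G) = frattini (P : Subgroup G) ∧ Subgroup.normalizer ((P : Subgroup G) : Set G) = (P : Subgroup G))) := by
  classical
  have : Fact (Nat.Prime 2) := ⟨Nat.prime_two⟩
  have := Fintype.ofFinite G
  have := Fintype.ofFinite (P : Subgroup G)
  set N := Subgroup.normalizer ((P : Subgroup G) : Set G) with hNdef
  have := Fintype.ofFinite N
  have hodd : Odd (P : Subgroup G).index := by
    rw [← Nat.not_even_iff_odd, even_iff_two_dvd]
    exact P.not_dvd_index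
  let ι : (P : Subgroup G) →* G := (P : Subgroup G).subtype
  have hι : SylEmb ι := ⟨Subtype.val_injective, P.isPGroup', by rwa [Subgroup.range_subtype]⟩
  have hPN : (P : Subgroup G) ≤ N := Subgroup.le_normalizer
  let ιN : (P : Subgroup G) →* N := Subgroup.inclusion hPN
  have hιN : SylEmb ιN := ⟨Subgroup.inclusion_injective hPN, P.isPGroup', by
    rw [Subgroup.inclusion_range]
    exact hodd.of_dvd_nat (Subgroup.relIndex_dvd_index_of_le hPN)⟩
  have hmemN : ∀ g : G, (∀ a, ∃ b, g * ι a * g⁻¹ = ι b) → g ∈ N := by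
    intro g hg
    refine CfsgLib.Solvable.mem_normalizer_of_conj_mem fun x hx => ?_
    obtain ⟨b, hb⟩ := hg ⟨x, hx⟩
    exact hb ▸ b.2
  refine ⟨?_, ?_⟩
  · obtain ⟨hE, hU, hC⟩ := main _ ι hι le_rfl
    obtain ⟨hEN, hUN, hCN⟩ := main _ ιN hιN le_rfl
    set S := {χ : Cfsg.IrrCharacter G // (∀ g : G, ((χ : G → ℂ) g).im = 0) ∧
      Odd (Cfsg.charDegree (χ : G → ℂ))}
    set T := {ψ : Cfsg.IrrCharacter N // (∀ g, ((ψ : N → ℂ) g).im = 0) ∧
      Odd (Cfsg.charDegree (ψ : N → ℂ))}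
    have hex : ∀ s : S, ∃ t : T, ∃ l, l ^ 2 = 1 ∧ Con ι (s.1 : G → ℂ) l ∧
        Con ιN (t.1 : N → ℂ) l := by
      intro s
      obtain ⟨l, hl, hc⟩ := exists_con_real (ι := ι) hι.pgroup ((realOdd_iff s.1).mp s.2)
      obtain ⟨ψ, hψ, hψc⟩ := hEN l hl
      exact ⟨⟨⟨ψ, hψ.1⟩, (realOdd_iff _).mpr hψ⟩, l, hl, hc, hψc⟩
    choose Φ l hl hcG hcN using hex
    refine Nat.card_eq_of_bijective Φ ⟨fun s s' h => ?_, fun t => ?_⟩
    · obtain ⟨g, hg⟩ := hCN _ ((realOdd_iff (Φ s').1).mp (Φ s').2) (l s) (l s') (hl s) (hl s')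
        (h ▸ hcN s) (hcN s')
      have hn : NConj ι (l s) (l s') := ⟨g, fun a => by
        obtain ⟨b, hb, hbl⟩ := hg a
        exact ⟨b, congrArg Subtype.val hb, hbl⟩⟩
      exact Subtype.ext (Subtype.ext (hU _ _ ((realOdd_iff s.1).mp s.2) ((realOdd_iff s'.1).mp s'.2)
        (l s') (hl s') ((hcG s).conj hι.inj
          (CfsgLib.Char.isClassFunction_of_isIrr s.1.2) hn) (hcG s')))
    · obtain ⟨m, hm, hmc⟩ := exists_con_real (ι := ιN) hιN.pgroup ((realOdd_iff t.1).mp t.2)
      obtain ⟨χ, hχ, hχc⟩ := hE m hm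
      let s : S := ⟨⟨χ, hχ.1⟩, (realOdd_iff _).mpr hχ⟩
      obtain ⟨g, hg⟩ := hC χ hχ (l s) m (hl s) hm (hcG s) hχc
      have hgN : g ∈ N := hmemN g fun a => by
        obtain ⟨b, hb, -⟩ := hg a
        exact ⟨b, hb⟩
      have hn : NConj ιN (l s) m := ⟨⟨g, hgN⟩, fun a => by
        obtain ⟨b, hb, hbl⟩ := hg a
        exact ⟨b, Subtype.ext hb, hbl⟩⟩
      exact ⟨s, Subtype.ext (Subtype.ext (hUN _ _ ((realOdd_iff (Φ s).1).mp (Φ s).2)
        ((realOdd_iff t.1).mp t.2) m hm
        ((hcN s).conj hιN.inj (CfsgLib.Char.isClassFunction_of_isIrr (Φ s).1.2) hn) hmc))⟩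
  · rw [← commutator_eq_frattini_iff P.isPGroup']
    constructor
    · intro h
      obtain ⟨hself, hlin⟩ := selfNormalizing_of_real _ ι hι le_rfl fun χ hχ hd g => by
        obtain ⟨n, hn, hn1⟩ := hd
        refine Complex.conj_eq_iff_im.mpr (h ⟨χ, hχ⟩ ?_ g)
        show Odd ⌊(χ 1).re⌋₊
        rw [hn1, Complex.natCast_re, Nat.floor_natCast]
        exact hn
      refine ⟨hlin, le_antisymm (fun g hg => ?_) hPN⟩
      obtain ⟨a, ha⟩ := hself g fun a => ⟨⟨_, (Subgroup.mem_normalizer_iff.mp hg a).mp a.2⟩, rfl⟩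
      exact ha ▸ a.2
    · rintro ⟨hlin, hN⟩ χ hχ g
      obtain ⟨n, hn⟩ := exists_degree (isCharacter_of_isIrr χ.2)
      have hd : OddDeg (χ : G → ℂ) := ⟨n, by
        rwa [charDegree, hn, Complex.natCast_re, Nat.floor_natCast] at hχ, hn⟩
      exact Complex.conj_eq_iff_im.mp (real_of_selfNormalizing _ ι hι le_rfl
        (fun x hx => by rw [Subgroup.range_subtype]; exact hN ▸ hmemN x hx) hlin χ χ.2 hd g)

end Cfsg.Agent.S4581
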