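import Cfsg.Statements.S4582
import Mathlib.GroupTheory.Transfer
import Mathlib.GroupTheory.Abelianization.Finite

set_option autoImplicit false
open Cfsg

namespace Cfsg.Agent.S4582

open scoped Pointwise

theorem transfer_restrict {G A : Type*} [Group G] [CommGroup A] (H : Subgroup G) [H.FiniteIndex]
    (Φ : G →* A) (g : G) : MonoidHom.transfer (Φ.comp H.subtype) g = Φ g ^ H.index := by
  classical
  let := H.fintypeQuotientOfFiniteIndex
  rw [MonoidHom.transfer_def _ default g, Subgroup.leftTransversals.diff]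
  simp only [MonoidHom.comp_apply, Subgroup.subtype_apply,
    Subgroup.smul_apply_eq_smul_apply_inv_smul, smul_eq_mul, map_mul, map_inv]
  rw [Finset.prod_mul_distrib, Finset.prod_mul_distrib, Finset.prod_const, Finset.card_univ,
    ← Nat.card_eq_fintype_card, Finset.prod_inv_distrib]
  rw [show ∀ a b c : A, a * (b * c) = a * c * b from fun a b c => by rw [mul_comm b, mul_assoc]]
  rw [← Finset.prod_inv_distrib]
  have e : ∀ f : G ⧸ H → A, (∏ q, (f q)⁻¹) * (∏ q, f (g⁻¹ • q)) = 1 := fun f => by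
    rw [show (∏ q, f (g⁻¹ • q)) = ∏ q, f q from Equiv.prod_comp (MulAction.toPerm g⁻¹) f,
      Finset.prod_inv_distrib, inv_mul_cancel]
  rw [e, one_mul]
  rfl

theorem transfer_sq {G A : Type*} [Group G] [CommGroup A] (H : Subgroup G) [H.FiniteIndex]
    (φ : H →* A) (g : G) :
    MonoidHom.transfer φ g ^ 2 = MonoidHom.transfer ((powMonoidHom 2).comp φ) g := by
  rw [MonoidHom.transfer_def φ default g, MonoidHom.transfer_def _ default g,
    Subgroup.leftTransversals.diff, Subgroup.leftTransversals.diff, ← Finset.prod_pow]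
  rfl

theorem aux {G : Type*} [Group G] [Finite G] (N : Subgroup G) [N.Normal] (P : Sylow 2 G)
    (htop : N ⊔ (P : Subgroup G) = ⊤)
    (hP : ∀ x ∈ (P : Subgroup G), x ^ 2 ∈ ((P : Subgroup G) ⊓ N) ⊔ ⁅(P : Subgroup G), (P : Subgroup G)⁆)
    (hQ : ∀ x ∈ (P : Subgroup G) ⊓ N, x ^ 2 ∈ ⁅(P : Subgroup G) ⊓ N, (P : Subgroup G) ⊓ N⁆)
    (hodd : Odd (Nat.card (Abelianization N))) :
    ∀ x ∈ (P : Subgroup G), x ^ 2 ∈ ⁅(P : Subgroup G), (P : Subgroup G)⁆ := by
  classical
  intro x hx
  let A := Abelianization (P : Subgroup G)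
  let of : (P : Subgroup G) →* A := Abelianization.of
  have hPc : ∀ (y : G) (hy : y ∈ ⁅(P : Subgroup G), (P : Subgroup G)⁆),
      ∃ hyP : y ∈ (P : Subgroup G), of ⟨y, hyP⟩ = 1 := fun y hy => by
    rw [← Subgroup.map_subtype_commutator] at hy
    obtain ⟨c, hc, rfl⟩ := hy
    exact ⟨c.2, by rw [← MonoidHom.mem_ker, Abelianization.ker_of]; exact hc⟩
  let π : (P : Subgroup G) →* G ⧸ N := (QuotientGroup.mk' N).comp (P : Subgroup G).subtype
  have hπ : Function.Surjective π := fun q => by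
    obtain ⟨g, rfl⟩ := QuotientGroup.mk'_surjective N q
    obtain ⟨m, hm, p, hp, rfl⟩ := Subgroup.mem_sup_of_normal_left.mp (htop ▸ Subgroup.mem_top g :
      g ∈ N ⊔ (P : Subgroup G))
    refine ⟨⟨p, hp⟩, ?_⟩
    show QuotientGroup.mk' N p = QuotientGroup.mk' N (m * p)
    rw [map_mul, show QuotientGroup.mk' N m = 1 from (QuotientGroup.eq_one_iff m).mpr hm, one_mul]
  let φ : (P : Subgroup G) →* A := (powMonoidHom 2).comp of
  have hker : π.ker ≤ φ.ker := fun y hy => by
    have hyN : (y : G) ∈ N := (QuotientGroup.eq_one_iff _).mp hy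
    obtain ⟨h1, h2⟩ := hPc _ (Subgroup.commutator_mono inf_le_left inf_le_left (hQ _ ⟨y.2, hyN⟩))
    show of y ^ 2 = 1
    rw [← map_pow]
    exact h2
  let Φ : G →* A := (π.liftOfSurjective hπ ⟨φ, hker⟩).comp (QuotientGroup.mk' N)
  have hΦ : Φ.comp (P : Subgroup G).subtype = φ := by
    show (π.liftOfSurjective hπ ⟨φ, hker⟩).comp π = φ
    exact MonoidHom.liftOfRightInverse_comp _ _ _ ⟨φ, hker⟩
  have hΦN : ∀ m ∈ N, Φ m = 1 := fun m hm => by
    show π.liftOfSurjective hπ ⟨φ, hker⟩ (QuotientGroup.mk' N m) = 1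
    rw [show QuotientGroup.mk' N m = 1 from (QuotientGroup.eq_one_iff m).mpr hm, map_one]
  set i := (P : Subgroup G).index with hi
  set τ : G →* A := MonoidHom.transfer of with hτ
  have hτ2 : ∀ g, τ g ^ 2 = Φ g ^ i := fun g => by
    rw [hτ, transfer_sq, ← transfer_restrict (P : Subgroup G) Φ g, hΦ]
  have hτN : ∀ m ∈ N, τ m = 1 := fun m hm => by
    have h1 : τ m ^ 2 = 1 := by rw [hτ2, hΦN m hm, one_pow]
    have h2 : τ m ^ Nat.card (Abelianization N) = 1 := by
      have : τ.comp N.subtype = (Abelianization.lift (τ.comp N.subtype)).comp Abelianization.of :=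
        MonoidHom.ext fun z => (Abelianization.lift_apply_of _ z).symm
      rw [show τ m = (τ.comp N.subtype) ⟨m, hm⟩ from rfl, this, MonoidHom.comp_apply, ← map_pow,
        pow_card_eq_one', map_one]
    have := pow_gcd_eq_one.mpr ⟨h1, h2⟩
    rwa [(Nat.coprime_two_left.mpr hodd : Nat.Coprime 2 _), pow_one] at this
  have hτc : ∀ c ∈ ⁅(P : Subgroup G), (P : Subgroup G)⁆, τ c = 1 := fun c hc => by
    have h : ⁅(P : Subgroup G), (P : Subgroup G)⁆ ≤ τ.ker :=
      (Subgroup.commutator_mono le_top le_top).trans (Abelianization.commutator_subset_ker τ)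
    exact h hc
  have hsup : ((P : Subgroup G) ⊓ N) ⊔ ⁅(P : Subgroup G), (P : Subgroup G)⁆ ≤ τ.ker :=
    sup_le (fun q hq => hτN q hq.2) hτc
  have h1 : τ (x ^ 2) = 1 := hsup (hP x hx)
  rw [map_pow, hτ2, show Φ x = φ ⟨x, hx⟩ from DFunLike.congr_fun hΦ ⟨x, hx⟩] at h1
  have hA : IsPGroup 2 A := P.isPGroup'.of_surjective of QuotientGroup.mk_surjective
  obtain ⟨k, hk⟩ := hA (φ ⟨x, hx⟩)
  have hcop : Nat.Coprime i (2 ^ k) := Nat.Coprime.pow_right k
    ((Nat.prime_two.coprime_iff_not_dvd.mpr P.not_dvd_index).symm)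
  have h2 := pow_gcd_eq_one.mpr ⟨h1, hk⟩
  rw [hcop, pow_one] at h2
  have h2' : of (⟨x, hx⟩ ^ 2) = 1 := by rw [map_pow]; exact h2
  rw [← MonoidHom.mem_ker, Abelianization.ker_of] at h2'
  rw [← Subgroup.map_subtype_commutator]
  exact ⟨_, h2', rfl⟩


/-- Let N be a normal subgroup of the finite group G, P a Sylow 2-subgroup of G and Q = P ∩ N. Suppose that P/QP' and Q/Q' are elementary abelian (every square of an element of P lies in the subgroup generated by Q and the derived subgroup of P, and every square of an element of Q lies in the derived subgroup of Q), and that the commutator factor group N/N' has odd order. Then P/P' is elementary abelian. -/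
theorem result {G : Type*} [Group G] [Finite G] (N : Subgroup G) [N.Normal] (P : Sylow 2 G)
    (hP : ∀ x ∈ (P : Subgroup G), x ^ 2 ∈ ((P : Subgroup G) ⊓ N) ⊔ ⁅(P : Subgroup G), (P : Subgroup G)⁆)
    (hQ : ∀ x ∈ (P : Subgroup G) ⊓ N, x ^ 2 ∈ ⁅(P : Subgroup G) ⊓ N, (P : Subgroup G) ⊓ N⁆)
    (hodd : Odd (Nat.card (Abelianization N))) :
    ∀ x ∈ (P : Subgroup G), x ^ 2 ∈ ⁅(P : Subgroup G), (P : Subgroup G)⁆ := by
  classical
  let M : Subgroup G := N ⊔ (P : Subgroup G)
  have hNM : N ≤ M := le_sup_left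
  have hPM : (P : Subgroup G) ≤ M := le_sup_right
  let P' : Sylow 2 M := P.subtype hPM
  have hcoe : ((P' : Subgroup M)).map M.subtype = (P : Subgroup G) := by
    rw [Sylow.coe_subtype, Subgroup.map_subgroupOf_eq_of_le hPM]
  have hinf : ((P' : Subgroup M) ⊓ N.subgroupOf M).map M.subtype = (P : Subgroup G) ⊓ N := by
    rw [Subgroup.map_inf _ _ _ M.subtype_injective, hcoe, Subgroup.map_subgroupOf_eq_of_le hNM]
  have hcc : ⁅(P' : Subgroup M), (P' : Subgroup M)⁆.map M.subtype =
      ⁅(P : Subgroup G), (P : Subgroup G)⁆ := by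
    rw [Subgroup.map_commutator, hcoe]
  have hmem : ∀ (L : Subgroup M) (y : M), (y : G) ∈ L.map M.subtype → y ∈ L := fun L y h =>
    (Subgroup.mem_map_iff_mem M.subtype_injective).mp h
  intro x hx
  have key := aux (N.subgroupOf M) P' (by
      apply Subgroup.map_injective M.subtype_injective
      rw [Subgroup.map_sup, Subgroup.map_subgroupOf_eq_of_le hNM, hcoe, ← MonoidHom.range_eq_map,
        Subgroup.range_subtype])
    (fun y hy => hmem _ _ (by
      rw [Subgroup.map_sup, hinf, hcc, Subgroup.coe_pow]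
      exact hP y hy))
    (fun y hy => hmem _ _ (by
      rw [Subgroup.map_commutator, hinf, Subgroup.coe_pow]
      exact hQ y hy))
    (by rwa [Nat.card_congr (MulEquiv.abelianizationCongr (Subgroup.subgroupOfEquivOfLe hNM)).toEquiv])
    ⟨x, hPM hx⟩ hx
  have h := Subgroup.mem_map_of_mem M.subtype key
  rw [hcc] at h
  exact h

end Cfsg.Agent.S4582
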