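import Cfsg.Statements.S4583
import Cfsg.Agent.Lib.Blocks.Covering
import Cfsg.Agent.Lib.Blocks.Orth
import Cfsg.Agent.Lib.Blocks.CyclicLower
import Cfsg.Agent.Lib.BrauerPairs.Idem
import Cfsg.Agent.Lib.BrauerPairs.Principal
import Cfsg.Agent.Lib.CharBlocks.Degree
import Cfsg.Agent.Lib.Char.Restrict

set_option autoImplicit false
open Cfsg

namespace Cfsg.Agent.S4583

open CfsgLib.Char CfsgLib.Blocks CfsgLib.BrauerPairs
open scoped ComplexConjugate

variable {G : Type*} [Group G] {p : ℕ} [hp : Fact p.Prime] {M : Ideal AlgInt} [M.IsMaximal]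

/-- The reduced principal idempotent has nonzero sum over every overgroup of a Sylow subgroup. -/
theorem sum_rcoeff_idem_ne_zero [Fintype G] (hM : IsPModular p M) (P : Sylow p G) (H : Subgroup G)
    [DecidablePred (· ∈ H)] (hPH : (P : Subgroup G) ≤ H) (hB : IsPBlock M (principalBlock M G)) :
    ∑ g : G, (if g ∈ H then rcoeff (idem hB) g else 0) ≠ 0 := by
  classical
  have : CharP (Res M) p := res_charP M hM
  set C := Cen (P : Subgroup G) with hCdef
  let _ := Fintype.ofFinite C
  have hQ : IsPGroup p (P : Subgroup G) := P.isPGroup'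
  have hB0 : IsPBlock M (principalBlock M C) := isPBlock_principalBlock
  set r := resIn (M := M) C (idem hB) with hr
  set f := idem hB0 with hf
  have hrr : red (r * r) = red r := by rw [hr, ← red_resIn_mul hM hQ, idem_mul_self]
  -- the Brauer image of the principal idempotent is the principal idempotent
  have hbom : ∀ ξ : IrrCharacter C, bomega ξ r = bomega ξ f := by
    intro ξ
    obtain ⟨B', hB'⟩ := exists_induced_cen hM hQ (isPBlock_blockOf (M := M) ξ)
    obtain ⟨-, hB'b, hind⟩ := (isInducedBlock_iff C).mp hB'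
    obtain ⟨χ', hχ'⟩ := IsPBlock.nonempty hB'b
    rw [hr, ← indBomega_apply, hind ξ (mem_blockOf_self ξ) χ' hχ' (idem hB), bomega_idem, hf,
      bomega_idem]
    have h3 := third_main hM ⟨B', hB'⟩
    by_cases hmem : ξ ∈ principalBlock M C
    · rw [if_pos hmem, if_pos]
      rw [← inducedBlock_unique C (h3.mpr (isPBlock_eq_blockOf hB0 hmem).symm) hB'] at hχ'
      exact hχ'
    · rw [if_neg hmem, if_neg]
      intro h
      obtain rfl := isPBlock_eq_of_mem hB'b hB hχ' h
      exact hmem (h3.mp hB' ▸ mem_blockOf_self ξ)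
  have hred : red r = red f := by
    have hfr : red r * red f = red f :=
      (bomega_eq_one_iff hrr hB0 irrOne_mem_principalBlock).mp
        (by rw [hbom, hf, bomega_idem, if_pos irrOne_mem_principalBlock])
    by_contra hne
    obtain ⟨ξ, hξ⟩ := exists_bomega_ne_zero (a := r - r * f) (by
      simp only [map_mul, map_sub, hfr]
      rw [map_mul] at hrr
      have hff : red f * red f = red f := by rw [← map_mul, idem_mul_self]
      have hfr' : red f * red r = red f := by rw [← map_mul, mul_comm, map_mul, hfr]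
      rw [sub_mul, mul_sub, mul_sub, hrr, hfr, hfr', hff, sub_self, sub_zero])
      (by rw [map_sub, map_mul, hfr, sub_ne_zero]; exact hne)
    apply hξ
    rw [map_sub, map_mul, hbom, hf, bomega_idem]
    split_ifs <;> simp
  have hrc : ∀ c : C, rcoeff (idem hB) (c : G) = rcoeff f c := fun c => by
    rw [← rcoeff_resIn, ← coeff_red, ← coeff_red, ← hred]
  -- the structure of the centralizer
  let Z : Subgroup C := (P : Subgroup G).subgroupOf C
  have hZc : ∀ z : C, (z : G) ∈ (P : Subgroup G) → ∀ c : C, z * c = c * z := fun z hz c =>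
    Subtype.ext (Subgroup.mem_centralizer_iff.mp c.2 z hz)
  have hZn : Z.Normal := ⟨fun z hz c => by
    rw [mul_assoc, hZc z hz c⁻¹, mul_inv_cancel_left]; exact hz⟩
  obtain ⟨S⟩ : Nonempty (Sylow p C) := inferInstance
  have hSZ : (S : Subgroup C) ≤ Z := fun x hx => by
    have hSG : IsPGroup p ((S : Subgroup C).map C.subtype) := S.isPGroup'.map _
    have hnorm : (S : Subgroup C).map C.subtype ≤ Subgroup.normalizer ((P : Subgroup G) : Set G) :=
      (Subgroup.map_subtype_le _).trans (Subgroup.centralizer_le_normalizer _)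
    have hmax := P.3 (IsPGroup.to_sup_of_normal_left' hQ hSG hnorm) le_sup_left
    exact Subgroup.mem_subgroupOf.mpr (hmax.le (Subgroup.mem_sup_right ⟨x, hx, rfl⟩))
  have hZp : IsPGroup p Z := hQ.comap_of_injective C.subtype C.subtype_injective
  have hZidx : ¬ p ∣ Z.index := fun h => S.not_dvd_index (h.trans (Subgroup.index_dvd_of_le hSZ))
  obtain ⟨k, hk⟩ := IsPGroup.iff_card.mp hZp
  obtain ⟨K, hK⟩ := Subgroup.exists_left_complement'_of_coprime (N := Z)
    (by rw [hk]; exact (hp.out.coprime_iff_not_dvd.mpr hZidx).pow_left k)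
  have hKn : K.Normal := ⟨fun y hy c => by
    obtain ⟨⟨a, z⟩, rfl⟩ := hK.2 c
    dsimp only
    rw [show (a : C) * z * y * ((a : C) * z)⁻¹ = a * (z * y * (z : C)⁻¹) * (a : C)⁻¹ by group,
      hZc z z.2 y, mul_inv_cancel_right]
    exact K.mul_mem (K.mul_mem a.2 hy) (K.inv_mem a.2)⟩
  have hKp : ¬ p ∣ Nat.card K := by rwa [← hK.index_eq_card]
  let _ := Fintype.ofFinite K
  have hregK : ∀ c : C, ¬ p ∣ orderOf c → c ∈ K := fun c hc => by
    have hcard : Nat.card (C ⧸ K) = p ^ k := by
      rw [← Subgroup.index_eq_card, hK.symm.index_eq_card, hk]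
    have h1 : orderOf (QuotientGroup.mk' K c) = 1 := by
      refine Nat.eq_one_of_dvd_coprimes ?_ (orderOf_map_dvd _ c) (hcard ▸ orderOf_dvd_natCard _)
      exact ((hp.out.coprime_iff_not_dvd.mpr hc).symm).pow_right k
    exact (QuotientGroup.eq_one_iff c).mp (orderOf_eq_one_iff.mp h1)
  have hconst : ∀ c ∈ K, rcoeff f c = rcoeff f 1 := fun c hc => by
    refine congrArg (res M) (Subtype.ext ?_)
    simp only [hf, idem, blockElt, coeff_ofFun]
    rw [blockCoeff_eq, blockCoeff_eq]
    congr 1
    refine Finset.sum_congr rfl fun χ _ => ?_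
    split_ifs with hχ
    · rw [trivialOn_of_sameBlock (N := K) hM hKp (χ := irrOne) (ψ := χ)
        (by rw [principalBlock_eq] at hχ; exact hχ) (fun n _ => by simp [irrOne_apply]) c hc]
    · rfl
  have hsupp : ∀ c : C, c ∉ K → rcoeff f c = 0 := fun c hc => by
    have h0 : blockCoeff (principalBlock M C) c = 0 :=
      CfsgLib.Blocks.blockCoeff_eq_zero hM hB0 (by_contra fun h => hc (hregK c h))
    rw [rcoeff, show (⟨(f : CA C).coeff c, _⟩ : locRing M) = 0 from
      Subtype.ext ((coeff_ofFun _ c).trans h0), map_zero]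
  have hsum1 : ∑ c : C, rcoeff f c = 1 := sum_rcoeff_idem_principal hB0
  have hval : ∀ c : C, rcoeff f c = if c ∈ K then rcoeff f 1 else 0 := fun c => by
    split_ifs with h
    · exact hconst c h
    · exact hsupp c h
  have hf1 : rcoeff f 1 ≠ 0 := fun h => by
    rw [Finset.sum_eq_zero fun c _ => by rw [hval c]; split_ifs <;> first | exact h | rfl] at hsum1
    exact zero_ne_one hsum1
  -- restrict the sum to the centralizer
  rw [sum_centralizer hM hQ _ fun x hx g => ?_]
  · rw [Finset.sum_subtype (p := fun g => g ∈ C) (F := inferInstance) _ (fun g => by simp [hCdef, Cen]),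
      Finset.sum_congr rfl fun (c : C) _ => show _ = (if (c : G) ∈ H ∧ c ∈ K then rcoeff f 1 else 0) by
        rw [hrc, hval, ite_and],
      ← Finset.sum_filter, Finset.sum_const, nsmul_eq_mul]
    refine mul_ne_zero ?_ hf1
    rw [Ne, CharP.cast_eq_zero_iff (Res M) p]
    refine fun h => hKp (h.trans ?_)
    have : (Finset.univ.filter fun c : C => (c : G) ∈ H ∧ c ∈ K).card =
        Nat.card ↥(H.subgroupOf C ⊓ K) := by
      rw [← Fintype.card_subtype, ← Nat.card_eq_fintype_card]
      exact Nat.card_congr (Equiv.subtypeEquivRight fun c => Iff.rfl)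
    rw [this]
    exact Subgroup.card_dvd_of_le inf_le_right
  · have hmem : x * g * x⁻¹ ∈ H ↔ g ∈ H := by
      rw [H.mul_mem_cancel_right (H.inv_mem (hPH hx)), H.mul_mem_cancel_left (hPH hx)]
    simp only [hmem]
    split_ifs
    · exact (rcoeff_eq_of_isConj _ (isConj_iff.mpr ⟨x, rfl⟩)).symm
    · rfl

theorem main [Finite G] (N : Subgroup G) [N.Normal] (hM : IsPModular p M) (P : Sylow p G)
    (θ : IrrCharacter N) (hθ : θ ∈ principalBlock M N) (hdeg : ¬ p ∣ charDegree (θ : N → ℂ))
    (hext : ∃ η : IrrCharacter ↥(N ⊔ (P : Subgroup G)), ∀ n : N,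
      (η : ↥(N ⊔ (P : Subgroup G)) → ℂ) (Subgroup.inclusion le_sup_left n) = (θ : N → ℂ) n) :
    ∃ χ : IrrCharacter G, χ ∈ principalBlock M G ∧ ¬ p ∣ charDegree (χ : G → ℂ) ∧
      haveI := Fintype.ofFinite N
      Cfsg.classInner (fun n : N => (χ : G → ℂ) n) (θ : N → ℂ) ≠ 0 := by
  classical
  let _ := Fintype.ofFinite G
  let _ := Fintype.ofFinite N
  set H := N ⊔ (P : Subgroup G) with hH
  obtain ⟨η, hη⟩ := hext
  let _ := Fintype.ofFinite H
  have hB : IsPBlock M (principalBlock M G) := isPBlock_principalBlock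
  have hd : ∀ χ : IrrCharacter G, (χ : G → ℂ) 1 = (charDegree (χ : G → ℂ) : ℂ) := fun χ =>
    (CfsgLib.CharBlocks.coe_charDegree_irr χ).symm
  choose m hm using fun χ : IrrCharacter G =>
    classInner_char_nat (isCharacter_res H (isCharacter_of_isIrr χ.2)) (isCharacter_of_isIrr η.2)
  -- the degree sum of the principal block part of the induced character
  set S : ℕ := ∑ χ : IrrCharacter G,
    if χ ∈ principalBlock M G then charDegree (χ : G → ℂ) * m χ else 0 with hS
  have hregN : ∀ h : H, ¬ p ∣ orderOf h → (h : G) ∈ N := fun h hh => by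
    obtain ⟨n, hn, u, hu, hnu⟩ := Subgroup.mem_sup_of_normal_left.mp h.2
    obtain ⟨a, ha⟩ := P.isPGroup'.exists_orderOf_eq_pow ⟨u, hu⟩
    have h1 : orderOf (QuotientGroup.mk' N (h : G)) = 1 := by
      refine Nat.eq_one_of_dvd_coprimes ?_
        ((orderOf_map_dvd _ _).trans (Subgroup.orderOf_coe h).dvd) ?_ (b := p ^ a)
      · exact ((hp.out.coprime_iff_not_dvd.mpr hh).symm).pow_right a
      · rw [← ha, ← Subgroup.orderOf_coe]
        have : QuotientGroup.mk' N (h : G) = QuotientGroup.mk' N u := by
          rw [← hnu, map_mul, show QuotientGroup.mk' N n = 1 from (QuotientGroup.eq_one_iff n).mpr hn,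
            one_mul]
        rw [this]
        exact orderOf_map_dvd _ _
    exact (QuotientGroup.eq_one_iff _).mp (orderOf_eq_one_iff.mp h1)
  have heval : (H.index : ℂ) * ∑ n : N, blockCoeff (principalBlock M G) (n : G) * (θ : N → ℂ) n =
      (S : ℂ) := by
    have h1 : ∑ n : N, blockCoeff (principalBlock M G) (n : G) * (θ : N → ℂ) n =
        ∑ h : H, blockCoeff (principalBlock M G) (h : G) * (η : H → ℂ) h := by
      rw [← Finset.sum_map Finset.univ ⟨Subgroup.inclusion (le_sup_left : N ≤ H),
        Subgroup.inclusion_injective _⟩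
          (fun h : H => blockCoeff (principalBlock M G) (h : G) * (η : H → ℂ) h) |>.trans
        (Finset.sum_congr rfl fun n _ => by rw [← hη n]; rfl)]
      refine Finset.sum_subset (Finset.subset_univ _) fun h _ hh => ?_
      have hnot : (h : G) ∉ N := fun hn => hh (Finset.mem_map.mpr ⟨⟨h, hn⟩, Finset.mem_univ _, rfl⟩)
      rw [CfsgLib.Blocks.blockCoeff_eq_zero hM hB
        (by rw [Subgroup.orderOf_coe]; exact by_contra fun h' => hnot (hregN h h')), zero_mul]
    rw [h1]
    simp only [blockCoeff_eq, mul_assoc, Finset.sum_mul, Finset.mul_sum, hS, Nat.cast_sum]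
    rw [Finset.sum_comm]
    refine Finset.sum_congr rfl fun χ _ => ?_
    by_cases hχ : χ ∈ principalBlock M G
    · have hinner := hm χ
      have hci : ∑ h : H, (χ : G → ℂ) h * conj ((η : H → ℂ) h) = (Nat.card H : ℂ) * (m χ : ℂ) := by
        rw [← hinner, card_mul_classInner]
      have hcj := congrArg conj hci
      rw [map_sum, map_mul, map_natCast, map_natCast] at hcj
      simp only [map_mul, Complex.conj_conj] at hcj
      simp only [if_pos hχ, ← mul_assoc, Nat.cast_mul]
      calc ∑ h : H, (H.index : ℂ) * (Nat.card G : ℂ)⁻¹ * (χ : G → ℂ) 1 *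
            conj ((χ : G → ℂ) h) * (η : H → ℂ) h
          = (H.index : ℂ) * (Nat.card G : ℂ)⁻¹ * (χ : G → ℂ) 1 *
              ∑ h : H, conj ((χ : G → ℂ) h) * (η : H → ℂ) h := by
            rw [Finset.mul_sum]; exact Finset.sum_congr rfl fun h _ => by ring
        _ = ((H.index : ℂ) * (Nat.card H : ℂ)) * (Nat.card G : ℂ)⁻¹ * ((χ : G → ℂ) 1 * (m χ : ℂ)) := by
            rw [hcj]; ring
        _ = _ := by
            rw [← Nat.cast_mul, H.index_mul_card, mul_inv_cancel₀ (card_ne_zero' (G := G)), one_mul, hd]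
    · simp [hχ]
  have hz : (zomega θ (resIn N (idem hB)) : ℂ) * (θ : N → ℂ) 1 =
      ∑ n : N, blockCoeff (principalBlock M G) (n : G) * (θ : N → ℂ) n := by
    rw [coe_zomega, omega, div_mul_cancel₀ _ (irr_one_ne_zero θ.2), charLin_apply]
    refine Finset.sum_congr rfl fun n _ => ?_
    simp [resIn, idem, blockElt]
  rw [← hz, (CfsgLib.CharBlocks.coe_charDegree_irr θ).symm] at heval
  have hSloc : (H.index : locRing M) * (zomega θ (resIn N (idem hB)) *
      (charDegree (θ : N → ℂ) : locRing M)) = (S : locRing M) := Subtype.ext (by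
    simp only [Subring.coe_mul, SubringClass.coe_natCast]; exact heval)
  have hθ1 : bomega θ (resIn N (idem hB)) =
      bomega (irrOne : IrrCharacter N) (resIn N (idem hB)) := by
    rw [bomega_eq_of_mem isPBlock_principalBlock hθ irrOne_mem_principalBlock]
  have hsumH : bomega (irrOne : IrrCharacter N) (resIn N (idem hB)) =
      ∑ g : G, (if g ∈ H then rcoeff (idem hB) g else 0) := by
    have h1 : bomega (irrOne : IrrCharacter N) (resIn N (idem hB)) =
        ∑ n : N, rcoeff (idem hB) (n : G) := by
      simp only [bomega_apply, rcoeff, ← map_sum]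
      refine congrArg (res M) (Subtype.ext ?_)
      rw [coe_zomega, AddSubmonoidClass.coe_finsetSum, omega, charLin_apply]
      simp [resIn, irrOne_apply]
    rw [h1, ← Finset.sum_filter, Finset.sum_subtype _ (p := fun g => g ∈ H) (F := inferInstance) (fun g => by simp)]
    refine ((Finset.sum_map Finset.univ ⟨Subgroup.inclusion (le_sup_left : N ≤ H),
        Subgroup.inclusion_injective _⟩ (fun h : H => rcoeff (idem hB) (h : G))).trans
        (Finset.sum_congr rfl fun n _ => rfl)).symm.trans ?_
    refine Finset.sum_subset (Finset.subset_univ _) fun h _ hh => ?_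
    have hnot : (h : G) ∉ N := fun hn => hh (Finset.mem_map.mpr ⟨⟨h, hn⟩, Finset.mem_univ _, rfl⟩)
    have h0 : blockCoeff (principalBlock M G) (h : G) = 0 :=
      CfsgLib.Blocks.blockCoeff_eq_zero hM hB
        (by rw [Subgroup.orderOf_coe]; exact by_contra fun h' => hnot (hregN h h'))
    rw [rcoeff, show (⟨(idem hB : CA G).coeff (h : G), _⟩ : locRing M) = 0 from
      Subtype.ext ((coeff_ofFun _ _).trans h0), map_zero]
  have : IsDomain (Res M) := Ideal.Quotient.isDomain M
  have hSne : ¬ p ∣ S := by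
    rw [← res_natCast_eq_zero_iff M hM, ← hSloc, map_mul, map_mul, mul_eq_zero, mul_eq_zero,
      res_natCast_eq_zero_iff M hM, res_natCast_eq_zero_iff M hM]
    refine not_or.mpr ⟨fun h => ?_, not_or.mpr ⟨?_, hdeg⟩⟩
    · exact P.not_dvd_index (h.trans (Subgroup.index_dvd_of_le le_sup_right))
    · rw [← bomega_apply, hθ1, hsumH]
      exact sum_rcoeff_idem_ne_zero hM P H le_sup_right hB
  obtain ⟨χ, -, hχ⟩ : ∃ χ ∈ (Finset.univ : Finset (IrrCharacter G)),
      ¬ p ∣ if χ ∈ principalBlock M G then charDegree (χ : G → ℂ) * m χ else 0 := by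
    by_contra hc
    push Not at hc
    exact hSne (Finset.dvd_sum hc)
  split_ifs at hχ with hχB
  · refine ⟨χ, hχB, fun h => hχ (h.mul_right _), ?_⟩
    show Cfsg.classInner (fun n : N => (χ : G → ℂ) n) (θ : N → ℂ) ≠ 0
    obtain ⟨c, hc, hci⟩ := char_decomp (isCharacter_res H (isCharacter_of_isIrr χ.2))
    have hcη : c η = m χ := by exact_mod_cast (hci η).symm.trans (hm χ)
    let r : IrrCharacter H → N → ℂ := fun ν n => (ν : H → ℂ) (Subgroup.inclusion le_sup_left n)
    choose u hu using fun ν : IrrCharacter H => classInner_char_nat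
      (isCharacter_comp (isCharacter_of_isIrr ν.2) (Subgroup.inclusion (le_sup_left : N ≤ H)))
      (isCharacter_of_isIrr θ.2)
    have hsum : Cfsg.classInner (fun n : N => (χ : G → ℂ) n) (θ : N → ℂ) =
        ((∑ ν : IrrCharacter H, c ν * u ν : ℕ) : ℂ) := by
      have : (fun n : N => (χ : G → ℂ) n) = ∑ ν : IrrCharacter H, (c ν : ℂ) • r ν := by
        funext n
        have := congrFun hc (Subgroup.inclusion le_sup_left n)
        simpa [Finset.sum_apply, r] using this
      rw [this, classInner_sum_left, Nat.cast_sum]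
      exact Finset.sum_congr rfl fun ν _ => by
        rw [classInner_smul_left, Nat.cast_mul]; exact congrArg _ (hu ν)
    have huη : u η = 1 := by
      have h1 : ((η : H → ℂ) ∘ Subgroup.inclusion (le_sup_left : N ≤ H)) = (θ : N → ℂ) := funext hη
      have := hu η
      rw [h1, classInner_irr_self θ.2] at this
      exact_mod_cast this.symm
    rw [hsum, Nat.cast_ne_zero]
    intro h0
    have := (Finset.sum_eq_zero_iff.mp h0) η (Finset.mem_univ η)
    rw [hcη, huη, mul_one] at this
    exact hχ (by rw [this, mul_zero]; exact dvd_zero p)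
  · exact absurd (dvd_zero p) hχ

/-- Let N be a normal subgroup of the finite group G, p a prime, M a maximal ideal of the algebraic integers containing p, and P a Sylow p-subgroup of G. Let θ be an irreducible character of N of degree prime to p lying in the principal p-block of N, and suppose θ extends to the subgroup NP (some irreducible character of NP restricts to θ). Then some irreducible character χ of G of degree prime to p in the principal p-block of G lies over θ (θ is a constituent of the restriction of χ to N). -/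
theorem result {G : Type*} [Group G] [Finite G] (N : Subgroup G) [N.Normal] (p : ℕ) [Fact p.Prime] (M : Ideal Cfsg.AlgInt) (hM : Cfsg.IsPModular p M) (P : Sylow p G)
    (θ : Cfsg.IrrCharacter N) (hθ : θ ∈ Cfsg.principalBlock M N) (hdeg : ¬ p ∣ Cfsg.charDegree (θ : N → ℂ))
    (hext : ∃ η : Cfsg.IrrCharacter ↥(N ⊔ (P : Subgroup G)), ∀ n : N, (η : ↥(N ⊔ (P : Subgroup G)) → ℂ) (Subgroup.inclusion le_sup_left n) = (θ : N → ℂ) n) :
    ∃ χ : Cfsg.IrrCharacter G, χ ∈ Cfsg.principalBlock M G ∧ ¬ p ∣ Cfsg.charDegree (χ : G → ℂ) ∧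
      haveI := Fintype.ofFinite N; Cfsg.classInner (fun n : N => (χ : G → ℂ) n) (θ : N → ℂ) ≠ 0 := by
  have := hM.2.1
  exact main N hM P θ hθ hdeg hext

end Cfsg.Agent.S4583
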