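import Cfsg.Statements.S4585
import Cfsg.Agent.Lib.PGroupExtra.OrderPFour


set_option autoImplicit false
open Cfsg

namespace Cfsg.Agent.S4585

/-- Let p be a prime and P a group of order p^4. Then P' has index p^2 in P if and only if P has maximal nilpotency class, that is, nilpotency class exactly 3. -/
theorem result {P : Type*} [Group P] [Finite P] (p : ℕ) [Fact p.Prime] (hP : Nat.card P = p ^ 4) :
    (commutator P).index = p ^ 2 ↔ Group.nilpotencyClass P = 3 := by
  classical
  have hprime : p.Prime := Fact.out
  have hPG : IsPGroup p P := IsPGroup.of_card hP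
  have hnil : Group.IsNilpotent P := hPG.isNilpotent
  have hnt : Nontrivial P :=
    Finite.one_lt_card_iff_nontrivial.mp (hP ▸ Nat.one_lt_pow (by norm_num) hprime.one_lt)
  obtain ⟨i, hi, hiK⟩ := (Nat.dvd_prime_pow hprime).mp (hP ▸ (commutator P).card_subgroup_dvd_card)
  have hidx := Subgroup.index_mul_card (commutator P)
  rw [hiK, hP] at hidx
  have hidx' : (commutator P).index = p ^ (4 - i) := by
    apply Nat.eq_of_mul_eq_mul_right (pow_pos hprime.pos i)
    rw [hidx, ← pow_add]; congr 1; omega
  -- lower central series steps
  have hstep : ∀ n, (⊤ : Subgroup P).lowerCentralSeries n ≠ ⊥ →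
      (⊤ : Subgroup P).lowerCentralSeries (n + 1) < (⊤ : Subgroup P).lowerCentralSeries n := by
    intro n hn
    refine lt_of_le_of_ne (Subgroup.lowerCentralSeries_antitone _ (Nat.le_succ n)) (fun he => hn ?_)
    have hall : ∀ m, n ≤ m → (⊤ : Subgroup P).lowerCentralSeries m =
        (⊤ : Subgroup P).lowerCentralSeries n := by
      intro m hm
      induction m, hm using Nat.le_induction with
      | base => rfl
      | succ m _ ih => rw [Subgroup.lowerCentralSeries_succ, ih, ← Subgroup.lowerCentralSeries_succ, he]
    obtain ⟨N, hN⟩ := Subgroup.nilpotent_iff_lowerCentralSeries.mp hnil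
    rw [← hall (max n N) (le_max_left _ _), ← le_bot_iff, ← hN]
    exact Subgroup.lowerCentralSeries_antitone _ (le_max_right _ _)
  have hcen : ∀ (N : Subgroup P) [N.Normal], N ≤ Subgroup.center P → ⁅N, (⊤ : Subgroup P)⁆ = ⊥ := by
    intro N _ hN
    rw [Subgroup.commutator_eq_bot_iff_le_centralizer]
    intro z hz
    rw [Subgroup.mem_centralizer_iff]
    intro g _
    exact Subgroup.mem_center_iff.mp (hN hz) g
  have hbot_of_le : commutator P ≤ Subgroup.center P → i ≠ 2 := by
    intro hle hi2
    subst hi2
    have hna : Subgroup.center P ≠ ⊤ := by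
      intro h
      rw [(commutator_eq_bot_iff_center_eq_top (G := P)).mpr h, Subgroup.card_bot] at hiK
      exact (Nat.one_lt_pow (by norm_num) hprime.one_lt).ne hiK
    have hz : Nat.card (Subgroup.center P) = p ^ 2 := by
      rcases CfsgLib.PGroupExtra.card_center_ne_cube hP with h | h | h
      · exact absurd h hna
      · exfalso
        have := Subgroup.card_le_of_le hle
        rw [hiK, h] at this
        have := Nat.pow_lt_pow_right hprime.one_lt (show 1 < 2 by norm_num)
        rw [pow_one] at this
        omega
      · exact h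
    have := CfsgLib.PGroupExtra.card_commutator_mul_card_center hP hna (Or.inl hz)
    rw [hiK, hz, ← pow_add] at this
    have := Nat.pow_right_injective hprime.two_le this
    omega
  constructor
  · intro h
    rw [hidx'] at h
    have h' := Nat.pow_right_injective hprime.two_le h
    have hi2 : i = 2 := by omega
    -- class at most 3
    apply le_antisymm
    · rw [← Subgroup.lowerCentralSeries_eq_bot_iff_nilpotencyClass_le]
      have h2 : Nat.card ((⊤ : Subgroup P).lowerCentralSeries 2) ∣ p := by
        have hne1 : (⊤ : Subgroup P).lowerCentralSeries 1 ≠ ⊥ := by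
          rw [Subgroup.top_lowerCentralSeries_one]
          intro hb
          rw [hb, Subgroup.card_bot] at hiK
          exact (Nat.one_lt_pow (by omega) hprime.one_lt).ne hiK
        have hlt := hstep 1 hne1
        obtain ⟨j, hj, hjK⟩ := (Nat.dvd_prime_pow hprime).mp
          (hP ▸ ((⊤ : Subgroup P).lowerCentralSeries 2).card_subgroup_dvd_card)
        rw [hjK]
        have hlt' : p ^ j < p ^ 2 := by
          rw [← hjK, show p ^ 2 = Nat.card ((⊤ : Subgroup P).lowerCentralSeries 1) by
            rw [Subgroup.top_lowerCentralSeries_one, hiK, hi2]]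
          refine lt_of_le_of_ne (Subgroup.card_le_of_le hlt.le) (fun he => hlt.ne ?_)
          exact Subgroup.eq_of_le_of_card_ge hlt.le he.ge
        have := (Nat.pow_lt_pow_iff_right hprime.one_lt).mp hlt'
        calc p ^ j ∣ p ^ 1 := pow_dvd_pow p (by omega)
          _ = p := pow_one p
      have hc : (⊤ : Subgroup P).lowerCentralSeries 2 ≤ Subgroup.center P := by
        rcases (Nat.dvd_prime hprime).mp h2 with h3 | h3
        · rw [Subgroup.eq_bot_of_card_eq _ h3]; exact bot_le
        · exact CfsgLib.PGroupExtra.le_center_of_card_prime hPG _ h3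
      exact hcen _ hc
    · by_contra hlt
      have h2 : (⊤ : Subgroup P).lowerCentralSeries 2 = ⊥ :=
        Subgroup.lowerCentralSeries_eq_bot_iff_nilpotencyClass_le.mpr (by omega)
      refine hbot_of_le ?_ hi2
      intro z hz
      rw [Subgroup.mem_center_iff]
      intro g
      have h3 : commutator P ≤ Subgroup.centralizer ((⊤ : Subgroup P) : Set P) :=
        Subgroup.commutator_eq_bot_iff_le_centralizer.mp h2
      exact Subgroup.mem_centralizer_iff.mp (h3 hz) g (Subgroup.mem_top g)
  · intro h
    have hne2 : ¬ commutator P ≤ Subgroup.center P := by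
      intro hle
      have h2 : (⊤ : Subgroup P).lowerCentralSeries 2 = ⊥ := by
        rw [Subgroup.lowerCentralSeries_succ, Subgroup.top_lowerCentralSeries_one]
        exact hcen _ hle
      have := Subgroup.lowerCentralSeries_eq_bot_iff_nilpotencyClass_le.mp h2
      omega
    have hi0 : i ≠ 0 := by
      rintro rfl
      apply hne2
      rw [Subgroup.eq_bot_of_card_eq (commutator P) (by simpa using hiK)]; exact bot_le
    have hi1 : i ≠ 1 := by
      rintro rfl
      exact hne2 (CfsgLib.PGroupExtra.le_center_of_card_prime hPG _ (by simpa using hiK))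
    have hi3 : i ≠ 3 := by
      rintro rfl
      have hc := CfsgLib.PGroupExtra.center_eq_top_of_index_commutator_prime hPG
        (by simpa using hidx')
      exact hne2 (hc ▸ le_top)
    have hi4 : i ≠ 4 := by
      rintro rfl
      have htop : commutator P = ⊤ := Subgroup.eq_top_of_card_eq _ (hiK.trans hP.symm)
      have h1 := hstep 0 (by rw [Subgroup.lowerCentralSeries_zero]; exact bot_ne_top.symm)
      rw [Subgroup.top_lowerCentralSeries_one, Subgroup.lowerCentralSeries_zero, htop] at h1
      exact lt_irrefl _ h1
    rw [hidx']
    congr 1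
    omega

end Cfsg.Agent.S4585
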