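import Cfsg.Statements.S4586
import Cfsg.Agent.Lib.PGroupExtra.AbelianPrimeIndex


set_option autoImplicit false
open Cfsg

namespace Cfsg.Agent.S4586

open scoped commutatorElement

/-- Let p be a prime, P a finite p-group and N a normal subgroup of P of index p. For x ∈ P write c(x) for the number of elements n of N whose commutator x n x⁻¹ n⁻¹ lies in the derived subgroup N' (so c(x)/#N' is the order of the centralizer of x acting on N/N'). Then [P : P'] = p² if and only if c(x) = p·#N' for every x ∈ P outside N, and also if and only if c(x) = p·#N' for some x ∈ P outside N. -/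
theorem result {P : Type*} [Group P] [Finite P] (p : ℕ) [Fact p.Prime] (hP : IsPGroup p P) (N : Subgroup P) [N.Normal] (hN : N.index = p) :
    ((commutator P).index = p ^ 2 ↔ ∀ x : P, x ∉ N →
        Nat.card {n : N // x * n * x⁻¹ * (n : P)⁻¹ ∈ (commutator N).map N.subtype} = p * Nat.card (commutator N)) ∧
    ((commutator P).index = p ^ 2 ↔ ∃ x : P, x ∉ N ∧
        Nat.card {n : N // x * n * x⁻¹ * (n : P)⁻¹ ∈ (commutator N).map N.subtype} = p * Nat.card (commutator N)) := by
  classical
  have hprime : p.Prime := Fact.out
  set K := (commutator N).map N.subtype with hK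
  have : K.Normal := by
    rw [hK]
    infer_instance
  have hKN : K ≤ N := Subgroup.map_subtype_le _
  let q := QuotientGroup.mk' K
  have hq : Function.Surjective q := QuotientGroup.mk'_surjective K
  have hker : q.ker = K := QuotientGroup.ker_mk' K
  set A := N.map q with hAdef
  have hAnorm : A.Normal := Subgroup.Normal.map inferInstance q hq
  have hAidx : A.index = p := by
    rw [hAdef, Subgroup.index_map_eq _ hq (by rw [hker]; exact hKN), hN]
  have hab : ∀ a ∈ A, ∀ b ∈ A, a * b = b * a := by
    rintro _ ⟨a, ha, rfl⟩ _ ⟨b, hb, rfl⟩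
    refine commutatorElement_eq_one_iff_commute.mp ?_
    rw [← map_commutatorElement]
    refine (QuotientGroup.eq_one_iff _).mpr ?_
    rw [hK]
    exact ⟨⁅(⟨a, ha⟩ : N), ⟨b, hb⟩⁆, Subgroup.commutator_mem_commutator (Subgroup.mem_top _)
      (Subgroup.mem_top _), rfl⟩
  have hKle : K ≤ commutator P := by
    rw [hK, commutator_def, Subgroup.map_commutator, commutator_def]
    exact Subgroup.commutator_mono le_top le_top
  have hKcard : Nat.card K = Nat.card (commutator N) :=
    Subgroup.card_map_of_injective N.subtype_injective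
  have hcidx : (commutator (P ⧸ K)).index = (commutator P).index := by
    have h1 : commutator (P ⧸ K) = (commutator P).map q := by
      rw [commutator_def, commutator_def, Subgroup.map_commutator,
        Subgroup.map_top_of_surjective q hq]
    rw [h1, Subgroup.index_map_eq _ hq (by rw [hker]; exact hKle)]
  have key : ∀ x : P, x ∉ N →
      (commutator P).index * Nat.card (commutator N) =
        p * Nat.card {n : N // x * n * x⁻¹ * (n : P)⁻¹ ∈ (commutator N).map N.subtype} := by
    intro x hx
    have hxA : q x ∉ A := by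
      rintro ⟨n, hn, he⟩
      apply hx
      have : n⁻¹ * x ∈ K := (QuotientGroup.eq_one_iff _).mp (show q (n⁻¹ * x) = 1 by
        rw [map_mul, map_inv, he]; simp)
      simpa using N.mul_mem hn (hKN this)
    have hL := CfsgLib.PGroupExtra.card_commutator_mul_card_centralizer A hab
      (hAidx ▸ hprime) (q x) hxA
    set C := A ⊓ Subgroup.centralizer ({q x} : Set (P ⧸ K)) with hC
    have hcnt : Nat.card {n : N // x * n * x⁻¹ * (n : P)⁻¹ ∈ K} = Nat.card (C.comap q) := by
      refine Nat.card_congr
        { toFun := fun n => ⟨(n.1 : P), ?_⟩, invFun := fun m => ⟨⟨(m : P), ?_⟩, ?_⟩,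
          left_inv := fun n => rfl, right_inv := fun m => rfl }
      · rw [Subgroup.mem_comap, hC, Subgroup.mem_inf]
        refine ⟨⟨_, n.1.2, rfl⟩, ?_⟩
        rw [Subgroup.mem_centralizer_singleton_iff]
        have h1 : q (x * n.1 * x⁻¹ * (n.1 : P)⁻¹) = 1 := (QuotientGroup.eq_one_iff _).mpr n.2
        rw [map_mul, map_mul, map_mul, map_inv, map_inv, mul_inv_eq_one,
          mul_inv_eq_iff_eq_mul] at h1
        exact h1.symm
      · obtain ⟨n, hn, he⟩ := (Subgroup.mem_inf.mp (Subgroup.mem_comap.mp m.2)).1
        have : n⁻¹ * (m : P) ∈ K := by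
          refine (QuotientGroup.eq_one_iff _).mp ?_
          change q _ = 1
          rw [map_mul, map_inv, he]; simp
        simpa using N.mul_mem hn (hKN this)
      · have h1 := (Subgroup.mem_inf.mp (Subgroup.mem_comap.mp m.2)).2
        rw [Subgroup.mem_centralizer_singleton_iff] at h1
        refine (QuotientGroup.eq_one_iff _).mp ?_
        change q (x * (m : P) * x⁻¹ * (m : P)⁻¹) = 1
        rw [map_mul, map_mul, map_mul, map_inv, map_inv, ← h1]
        group
    have hcomap : Nat.card (C.comap q) = Nat.card C * Nat.card K := by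
      have h1 := Subgroup.index_mul_card (C.comap q)
      rw [Subgroup.index_comap_of_surjective C hq] at h1
      have h2 := Subgroup.index_mul_card C
      have h3 := Subgroup.index_mul_card K
      rw [Subgroup.index_eq_card K] at h3
      rw [← h3, ← h2, mul_assoc] at h1
      exact Nat.eq_of_mul_eq_mul_left (Nat.pos_of_ne_zero Subgroup.index_ne_zero_of_finite) h1
    have h4 : (commutator (P ⧸ K)).index = p * Nat.card C := by
      have h1 := Subgroup.index_mul_card (commutator (P ⧸ K))
      have h2 := Subgroup.index_mul_card A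
      rw [hAidx, ← hL, ← h1] at h2
      have : 0 < Nat.card (commutator (P ⧸ K)) := Nat.card_pos
      nlinarith
    rw [← hcidx, h4, hcnt, hcomap, hKcard]
    ring
  have hpos : 0 < Nat.card (commutator N) := Nat.card_pos
  obtain ⟨x₀, hx₀⟩ : ∃ x : P, x ∉ N := by
    by_contra hh
    push Not at hh
    have : N = ⊤ := eq_top_iff.mpr fun x _ => hh x
    rw [this, Subgroup.index_top] at hN
    exact hprime.one_lt.ne hN
  have main : ∀ x : P, x ∉ N → ((commutator P).index = p ^ 2 ↔
      Nat.card {n : N // x * n * x⁻¹ * (n : P)⁻¹ ∈ (commutator N).map N.subtype} =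
        p * Nat.card (commutator N)) := by
    intro x hx
    have h := key x hx
    constructor
    · intro h2
      rw [h2, pow_two, mul_assoc] at h
      exact (Nat.eq_of_mul_eq_mul_left hprime.pos h).symm
    · intro h2
      rw [h2, ← mul_assoc] at h
      rw [pow_two]
      exact Nat.eq_of_mul_eq_mul_right hpos h
  exact ⟨⟨fun h x hx => (main x hx).mp h, fun h => (main x₀ hx₀).mpr (h x₀ hx₀)⟩,
    ⟨fun h => ⟨x₀, hx₀, (main x₀ hx₀).mp h⟩, fun ⟨x, hx, h⟩ => (main x hx).mpr h⟩⟩

end Cfsg.Agent.S4586
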