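import Cfsg.Statements.S4588
import Cfsg.Agent.Lib.Blocks.PrincipalSection
import Cfsg.Agent.Lib.BlockArith.KZeroBound
import Cfsg.Agent.Lib.BlockArith.BrauerFeit
import Cfsg.Agent.Lib.Blocks.ThirdMain
-- import your own Cfsg.Agent.* helpers here

set_option autoImplicit false
open Cfsg CfsgLib.Blocks

namespace Cfsg.Agent.S4588

/-- Let G be a finite group, p a prime and M a maximal ideal of the algebraic integers containing p. If some p-element x of G (possibly x = 1) has centralizer whose order has p-part at most p², then the principal p-block of G contains at most p² irreducible characters of degree prime to p. -/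
theorem result {G : Type*} [Group G] [Finite G] (p : ℕ) [Fact p.Prime] (M : Ideal Cfsg.AlgInt) (hM : Cfsg.IsPModular p M)
    (hx : ∃ x : G, (∃ k : ℕ, orderOf x = p ^ k) ∧ (Nat.card (Subgroup.centralizer ({x} : Set G))).factorization p ≤ 2) :
    Nat.card {χ : Cfsg.IrrCharacter G // χ ∈ Cfsg.principalBlock M G ∧ ¬ p ∣ Cfsg.charDegree (χ : G → ℂ)} ≤ p ^ 2 := by
  classical
  let _ := Fintype.ofFinite G
  have : M.IsMaximal := hM.2.1
  have hp := (Fact.out : p.Prime)
  have hB0 : IsPBlock M (principalBlock M G) := isPBlock_principalBlock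
  have hsInf : ∀ {H : Type _} [Group H] [Fintype H],
      sInf ((fun χ : IrrCharacter H => (charDegree (χ : H → ℂ)).factorization p) '' principalBlock M H) = 0 := by
    intro H _ _
    refine Nat.le_zero.mp ((Nat.sInf_le (Set.mem_image_of_mem _ irrOne_mem_principalBlock)).trans (le_of_eq ?_))
    show (charDegree (fun _ : H => (1 : ℂ))).factorization p = 0
    rw [charDegree_one, Nat.factorization_one, Finsupp.zero_apply]
  have hht : ∀ χ : IrrCharacter G, (χ ∈ principalBlock M G ∧ ¬ p ∣ charDegree (χ : G → ℂ)) ↔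
      (χ ∈ principalBlock M G ∧ blockHeight p (principalBlock M G) (χ : G → ℂ) = 0) := fun χ => by
    rw [blockHeight, hsInf, Nat.sub_zero, Nat.factorization_eq_zero_iff]
    have := charDegree_ne_zero χ
    simp [hp, this]
  rw [Nat.card_congr (Equiv.subtypeEquivRight hht)]
  obtain ⟨x, hxp, hc⟩ := hx
  set C := Subgroup.centralizer ({x} : Set G) with hC
  let _ := Fintype.ofFinite C
  obtain ⟨B', hB'⟩ := exists_inducedBlock_centralizer hM hxp (b := principalBlock M C) isPBlock_principalBlock
  have hind : IsInducedBlock M C (principalBlock M C) (principalBlock M G) := (third_main hM ⟨B', hB'⟩).mpr rfl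
  have hbd : blockDefect p (principalBlock M C) = (Nat.card C).factorization p := by
    rw [blockDefect, hsInf, Nat.sub_zero]
  obtain ⟨k, hk⟩ := hxp
  rcases Nat.eq_zero_or_pos k with rfl | hk0
  · rw [pow_zero, orderOf_eq_one_iff] at hk
    have hCtop : C = ⊤ := by
      rw [hC, hk, eq_top_iff]; exact fun g _ => Subgroup.mem_centralizer_singleton_iff.mpr (by simp)
    rw [hCtop, Subgroup.card_top] at hc
    have hd : blockDefect p (principalBlock M G) = (Nat.card G).factorization p := by
      rw [blockDefect, hsInf, Nat.sub_zero]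
    refine le_trans (Nat.card_le_card_of_injective (fun χ => (⟨χ.1, χ.2.1⟩ : principalBlock M G))
      fun a b h => Subtype.ext (by simpa using h)) ?_
    exact (((CfsgLib.BlockArith.brauer_feit hM _ G _ hB0 hd).1 hc)).trans (Nat.pow_le_pow_right hp.pos hc)
  -- the central subgroup of `C`
  have hxC : x ∈ C := Subgroup.mem_centralizer_singleton_iff.mpr rfl
  set Q := (Subgroup.zpowers x).subgroupOf C with hQdef
  have hQcard : Nat.card Q = p ^ k := by
    rw [Nat.card_congr (Subgroup.subgroupOfEquivOfLe (Subgroup.zpowers_le.mpr hxC)).toEquiv, Nat.card_zpowers, hk]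
  have hQZ : ∀ z ∈ Q, ∀ c : C, c * z = z * c := fun z hz c => by
    obtain ⟨i, hi⟩ := Subgroup.mem_zpowers_iff.mp (Subgroup.mem_subgroupOf.mp hz)
    refine Subtype.ext ?_
    simp only [Subgroup.coe_mul, ← hi]
    exact ((show Commute x (c : G) from (Subgroup.mem_centralizer_singleton_iff.mp c.2).symm).zpow_left i).eq.symm
  have : Q.Normal := ⟨fun z hz g => by rw [hQZ z hz g, mul_inv_cancel_right]; exact hz⟩
  let _ := Fintype.ofFinite (C ⧸ Q)
  have hQp : IsPGroup p Q := IsPGroup.of_card hQcard
  have hQC : ∃ j : ℕ, (Subgroup.centralizer (Q : Set C)).index = p ^ j :=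
    ⟨0, by rw [pow_zero, Subgroup.index_eq_one, eq_top_iff]; exact fun c _ =>
      Subgroup.mem_centralizer_iff.mpr fun z hz => (hQZ z hz c).symm⟩
  have hb : IsPBlock M (principalBlock M C) := isPBlock_principalBlock
  have hdd := CfsgLib.BlockArith.blockDefect_inflSet hM hQp hQC hb
  rw [hQcard, hp.factorization_pow, Finsupp.single_eq_same, hbd] at hdd
  rcases (show blockDefect p (CfsgLib.BlockArith.inflSet Q (principalBlock M C)) = 0 ∨
      blockDefect p (CfsgLib.BlockArith.inflSet Q (principalBlock M C)) = 1 by omega) with h0 | h1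
  · have h := CfsgLib.BlockArith.card_heightZero_sq_le hM ⟨k, hk⟩ hind
    rw [CfsgLib.BlockArith.blockRank_inflSet hM hQp hQC hb,
      CfsgLib.BlockArith.blockRank_eq_one_of_defect_zero hM (CfsgLib.BlockArith.isPBlock_inflSet hM hQp hQC hb) h0,
      mul_one, hbd] at h
    refine (Nat.pow_le_pow_iff_left two_ne_zero).mp (h.trans ?_)
    rw [← pow_mul]
    exact Nat.pow_le_pow_right hp.pos (by omega)
  · refine (CfsgLib.BlockArith.card_heightZero_le_of_defect_one_quotient hM ⟨k, hk⟩ hind Q hQp hQC h1).trans ?_
    exact Nat.pow_le_pow_right hp.pos (by omega)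

end Cfsg.Agent.S4588
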