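import Cfsg.Statements.S4591
import Cfsg.Agent.S0081
import Cfsg.Agent.S4444
import Cfsg.Agent.Lib.CharNormal.Kernel
import Cfsg.Agent.Lib.CharBlocks.Degree
import Cfsg.Agent.Lib.Char.Integral
import Cfsg.Agent.Lib.Char.Linear
import Cfsg.Agent.Lib.PGroup.Basic
import Cfsg.Agent.Lib.Cores.Basic

set_option autoImplicit false
open Cfsg

namespace Cfsg.Agent.S4591
open Subgroup CfsgLib.Char CfsgLib.CharNormal
open scoped commutatorElement ComplexConjugate

universe u

section

variable {G : Type u} [Group G] [Fintype G] {p : ℕ} [hp : Fact p.Prime]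

theorem linear_of_not_dvd (hG : IsPGroup p G) {ν : G → ℂ} (hν : Cfsg.IsIrrCharacter G ν)
    (hd : ¬ p ∣ Cfsg.charDegree ν) : ν 1 = 1 := by
  obtain ⟨a, ha⟩ := IsPGroup.iff_card.1 hG
  obtain ⟨d, hd1⟩ := exists_degree (isCharacter_of_isIrr hν)
  rw [CfsgLib.CharBlocks.charDegree_eq hd1] at hd
  obtain ⟨j, -, rfl⟩ := (Nat.dvd_prime_pow hp.out).1 (ha ▸ degree_dvd_card hν hd1)
  rcases j with _ | j
  · simpa using hd1
  · exact absurd (dvd_pow_self p j.succ_ne_zero) hd

theorem exists_constituent_not_dvd {f : G → ℂ} (hf : Cfsg.IsCharacter G f) {n : ℕ} (hn : f 1 = n)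
    (hp' : ¬ p ∣ n) :
    ∃ χ : Cfsg.IrrCharacter G, ¬ p ∣ Cfsg.charDegree (χ : G → ℂ) ∧ Cfsg.classInner f (χ : G → ℂ) ≠ 0 := by
  obtain ⟨m, hm, hmi⟩ := char_decomp hf
  by_contra! h
  refine hp' ?_
  have h1 : n = ∑ χ : Cfsg.IrrCharacter G, m χ * Cfsg.charDegree (χ : G → ℂ) := by
    have := congrFun hm 1
    simp only [Finset.sum_apply, Pi.smul_apply, smul_eq_mul, ← CfsgLib.CharBlocks.coe_charDegree_irr] at this
    rw [hn] at this
    exact_mod_cast this
  rw [h1]
  refine Finset.dvd_sum fun χ _ => ?_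
  by_cases hd : p ∣ Cfsg.charDegree (χ : G → ℂ)
  · exact hd.mul_left _
  · have := h χ hd
    rw [hmi χ, Nat.cast_eq_zero] at this
    simp [this]

theorem commutator_le_of_linear {ν : G → ℂ} (hν : Cfsg.IsCharacter G ν) (h1 : ν 1 = 1) {x : G}
    (hx : x ∈ _root_.commutator G) : ν x = 1 := by
  have h := Abelianization.commutator_subset_ker (linearHom hν h1) hx
  rw [← linearHom_apply hν h1, MonoidHom.mem_ker.1 h, Units.val_one]

theorem linear_constituent_apply {f ν : G → ℂ} (hf : Cfsg.IsCharacter G f) (hν : Cfsg.IsCharacter G ν)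
    (h1 : ν 1 = 1) {x : G} (hx : f x = f 1) (h0 : Cfsg.classInner f ν ≠ 0) : ν x = 1 := by
  have h : Cfsg.classInner f ν = conj (ν x) * Cfsg.classInner f ν := by
    conv_lhs => rw [classInner_def]
    rw [classInner_def, mul_left_comm, Finset.mul_sum Finset.univ _ (conj (ν x))]
    congr 1
    rw [← Equiv.sum_comp (Equiv.mulLeft x)]
    refine Finset.sum_congr rfl fun y _ => ?_
    rw [Equiv.coe_mulLeft, apply_eq_one_mul hf hx, linear_map_mul hν h1, map_mul]
    ring
  have h2 : conj (ν x) = 1 := by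
    refine mul_right_cancel₀ h0 ?_
    rw [one_mul]; exact h.symm
  have := congrArg conj h2
  simpa using this

theorem classInner_ne_zero_symm {f g : G → ℂ} (h : Cfsg.classInner f g ≠ 0) : Cfsg.classInner g f ≠ 0 :=
  fun h0 => h (by rw [← classInner_conj_symm, h0, map_zero])

/-- The constituents of `p'`-degree over a linear character of a Sylow subgroup. -/
theorem exists_over_linear (P : Sylow p G) [Fintype (P : Subgroup G)] {ν : ↥(P : Subgroup G) → ℂ}
    (hν : Cfsg.IsCharacter (P : Subgroup G) ν) (h1 : ν 1 = 1) :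
    ∃ χ : Cfsg.IrrCharacter G, ¬ p ∣ Cfsg.charDegree (χ : G → ℂ) ∧
      Cfsg.classInner (fun x : (P : Subgroup G) => (χ : G → ℂ) x) ν ≠ 0 := by
  obtain ⟨χ, hχ, h⟩ := exists_constituent_not_dvd (p := p) (isCharacter_indFun (P : Subgroup G) hν)
    (n := (P : Subgroup G).index) (by rw [indFun_one, h1, mul_one]) P.not_dvd_index
  rw [frobenius_reciprocity _ _ (isClassFunction_of_isIrr χ.2)] at h
  exact ⟨χ, hχ, classInner_ne_zero_symm h⟩

end

theorem eq_one_of_trivial_fix {G : Type u} [Group G] [Fintype G] {p : ℕ} [hp : Fact p.Prime] (P : Sylow p G)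
    (M : Subgroup G) [M.Normal] [Fintype M] (hM : ¬ p ∣ Nat.card M)
    (hC : M ⊓ Subgroup.centralizer ((P : Subgroup G) : Set G) = ⊥) (θ : Cfsg.IrrCharacter M)
    (hinv : ∀ x ∈ (P : Subgroup G), conjFun M x (θ : M → ℂ) = θ) : (θ : M → ℂ) = fun _ => 1 := by
  classical
  obtain ⟨a, ha⟩ := IsPGroup.iff_card.1 P.2
  have hcop : (Nat.card M).Coprime (Nat.card (P : Subgroup G)) := by
    rw [ha]; exact ((Nat.Prime.coprime_iff_not_dvd hp.out).2 hM).symm.pow_right a
  obtain ⟨h1, -, h3, -⟩ := Cfsg.Agent.S4444.result M (P : Subgroup G)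
    (fun s _ g hg => (inferInstance : M.Normal).conj_mem g hg s) hcop p hp.out P.2
    (M ⊓ Subgroup.centralizer ((P : Subgroup G) : Set G)) rfl inf_le_left
  have hθ : ∀ s ∈ (P : Subgroup G), ∀ g g' : M, (g' : G) = s * g * s⁻¹ → (θ : M → ℂ) g' = (θ : M → ℂ) g := by
    intro s hs g g' hg
    rw [← congrFun (hinv s hs) g, conjFun_apply]
    exact congrArg _ (Subtype.ext hg)
  have hone : ∀ s ∈ (P : Subgroup G), ∀ g g' : M, (g' : G) = s * g * s⁻¹ →
      ((irrOne : Cfsg.IrrCharacter M) : M → ℂ) g' = ((irrOne : Cfsg.IrrCharacter M) : M → ℂ) g :=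
    fun _ _ _ _ _ => rfl
  obtain ⟨β, ⟨m, hm, hmp⟩, -⟩ := h1 θ hθ
  obtain ⟨β', ⟨m', hm', hmp'⟩, -⟩ := h1 irrOne hone
  haveI : Subsingleton ↥(M ⊓ Subgroup.centralizer ((P : Subgroup G) : Set G)) :=
    ⟨fun x y => Subtype.ext ((Subgroup.mem_bot.1 (hC.le x.2)).trans (Subgroup.mem_bot.1 (hC.le y.2)).symm)⟩
  have hb : β = β' := by
    haveI : Subsingleton (ConjClasses ↥(M ⊓ Subgroup.centralizer ((P : Subgroup G) : Set G))) :=
      ConjClasses.mk_surjective.subsingleton
    haveI : Subsingleton (Cfsg.IrrCharacter ↥(M ⊓ Subgroup.centralizer ((P : Subgroup G) : Set G))) := by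
      rw [← Finite.card_le_one_iff_subsingleton, card_irr_eq_card_conjClasses]
      exact Finite.card_le_one_iff_subsingleton.2 inferInstance
    exact Subsingleton.elim _ _
  rw [h3 θ irrOne hθ hone β m m' hm hmp (hb ▸ hm') hmp']
  rfl

theorem le_ker {G : Type u} [Group G] [Fintype G] {p : ℕ} [hp : Fact p.Prime] (P : Sylow p G)
    (N : Subgroup G) [N.Normal] [Fintype N] (hN : ¬ p ∣ Nat.card N)
    (hC : N ⊓ Subgroup.centralizer ((P : Subgroup G) : Set G) = ⊥) (χ : Cfsg.IrrCharacter G)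
    (hχ : ¬ p ∣ Cfsg.charDegree (χ : G → ℂ)) : ∀ n ∈ N, (χ : G → ℂ) n = (χ : G → ℂ) 1 := by
  classical
  refine res_eq_degree_of_constituent_one N χ.2 fun h0 => hχ ?_
  let _ : MulAction (P : Subgroup G) (Cfsg.IrrCharacter N) :=
    { smul := fun x θ => conjIrr N (x : G)⁻¹ θ
      one_smul := fun θ => Subtype.ext (by
        show conjFun N ((1 : (P : Subgroup G)) : G)⁻¹ (θ : N → ℂ) = _
        rw [OneMemClass.coe_one, inv_one, conjFun_one])
      mul_smul := fun x y θ => Subtype.ext (by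
        show conjFun N ((x * y : (P : Subgroup G)) : G)⁻¹ (θ : N → ℂ) =
          conjFun N (x : G)⁻¹ (conjFun N (y : G)⁻¹ (θ : N → ℂ))
        rw [conjFun_conjFun, Subgroup.coe_mul, mul_inv_rev]) }
  have hres : Cfsg.IsCharacter N (fun n : N => (χ : G → ℂ) n) := isCharacter_res N (isCharacter_of_isIrr χ.2)
  obtain ⟨m, hm, hmi⟩ := char_decomp hres
  let f : Cfsg.IrrCharacter N → ℤ := fun θ => (m θ : ℤ) * Cfsg.charDegree (θ : N → ℂ)
  have hf : ∀ (x : (P : Subgroup G)) θ, f (x • θ) = f θ := fun x θ => by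
    have h1 : m (x • θ) = m θ := by
      have := classInner_res_conjFun N (isClassFunction_of_isIrr χ.2) (x : G)⁻¹ (θ : N → ℂ)
      rw [hmi θ] at this
      exact_mod_cast (hmi (x • θ)).symm.trans this
    have h2 : Cfsg.charDegree ((x • θ : Cfsg.IrrCharacter N) : N → ℂ) = Cfsg.charDegree (θ : N → ℂ) := by
      show Cfsg.charDegree (conjFun N (x : G)⁻¹ (θ : N → ℂ)) = _
      unfold Cfsg.charDegree
      rw [conjFun_apply_one]
    simp only [f, h1, h2]
  have h1 := dvd_sum_sub_fixed P.2 f hf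
  have h2 : ∑ θ with θ ∈ MulAction.fixedPoints (P : Subgroup G) (Cfsg.IrrCharacter N), f θ = 0 := by
    refine Finset.sum_eq_zero fun θ hθ => ?_
    have e := eq_one_of_trivial_fix P N hN hC θ fun x hx => by
      have := congrArg Subtype.val ((Finset.mem_filter.1 hθ).2 (⟨x, hx⟩⁻¹ : (P : Subgroup G)))
      have e' : conjFun N ((⟨x, hx⟩⁻¹ : (P : Subgroup G)) : G)⁻¹ (θ : N → ℂ) = θ := this
      rwa [Subgroup.coe_inv, inv_inv] at e'
    have hz : m θ = 0 := by
      have := hmi θ
      rw [e] at this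
      exact_mod_cast this.symm.trans h0
    simp [f, hz]
  rw [h2, sub_zero] at h1
  have h3 : (Cfsg.charDegree (χ : G → ℂ) : ℤ) = ∑ θ, f θ := by
    have h4 := congrFun hm 1
    simp only [Finset.sum_apply, Pi.smul_apply, smul_eq_mul, OneMemClass.coe_one,
      ← CfsgLib.CharBlocks.coe_charDegree_irr] at h4
    have h5 : Cfsg.charDegree (χ : G → ℂ) = ∑ θ, m θ * Cfsg.charDegree (θ : N → ℂ) := by exact_mod_cast h4
    simp only [f, h5]; push_cast; rfl
  rw [← h3] at h1
  exact_mod_cast h1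

theorem core_le_ker {G : Type u} [Group G] [Fintype G] {p : ℕ} [hp : Fact p.Prime] (P : Sylow p G)
    (N : Subgroup G) [N.Normal] (hN : ¬ p ∣ Nat.card N)
    (hC : N ⊓ Subgroup.centralizer ((P : Subgroup G) : Set G) = ⊥) (χ : Cfsg.IrrCharacter G)
    (hχ : ¬ p ∣ Cfsg.charDegree (χ : G → ℂ)) {g : G}
    (hg : g ∈ (N ⊔ ⁅(P : Subgroup G), (P : Subgroup G)⁆).normalCore) : (χ : G → ℂ) g = (χ : G → ℂ) 1 := by
  classical
  haveI := Fintype.ofFinite N
  haveI := Fintype.ofFinite (P : Subgroup G)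
  set L := (N ⊔ ⁅(P : Subgroup G), (P : Subgroup G)⁆).normalCore with hL
  haveI := Fintype.ofFinite L
  set T := L ⊓ ⁅(P : Subgroup G), (P : Subgroup G)⁆ with hT
  haveI := Fintype.ofFinite T
  have hker := le_ker P N hN hC χ hχ
  have hcomm : ⁅(P : Subgroup G), (P : Subgroup G)⁆ ≤ P := Subgroup.commutator_le_self _
  have hres : Cfsg.IsCharacter (P : Subgroup G) (fun x : (P : Subgroup G) => (χ : G → ℂ) x) :=
    isCharacter_res _ (isCharacter_of_isIrr χ.2)
  obtain ⟨d, hd⟩ := exists_degree (isCharacter_of_isIrr χ.2)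
  rw [CfsgLib.CharBlocks.charDegree_eq hd] at hχ
  obtain ⟨μ, hμd, hμ⟩ := exists_constituent_not_dvd hres (n := d) (by simpa using hd) hχ
  have hμ1 := linear_of_not_dvd P.2 μ.2 hμd
  refine res_eq_degree_of_constituent_one L χ.2 ?_ g hg
  -- elements of `L` factor as `n * t`
  have hNL : N ≤ L := (Subgroup.normal_le_normalCore).2 le_sup_left
  have hfac : ∀ z : L, ∃ (n : N) (t : T), (n : G) * t = z := fun z => by
    have hz : (z : G) ∈ ((N ⊔ ⁅(P : Subgroup G), (P : Subgroup G)⁆ : Subgroup G) : Set G) :=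
      Subgroup.normalCore_le _ z.2
    rw [Subgroup.normal_mul] at hz
    obtain ⟨n, hn, t, ht, e⟩ := hz
    refine ⟨⟨n, hn⟩, ⟨t, ?_, ht⟩, e⟩
    have : t = n⁻¹ * (z : G) := by rw [← e]; group
    rw [this]
    exact L.mul_mem (L.inv_mem (hNL hn)) z.2
  have hdisj : ∀ x : G, x ∈ N → x ∈ (P : Subgroup G) → x = 1 := fun x hx hxP => by
    obtain ⟨k, hk⟩ := P.2 ⟨x, hxP⟩
    have hk' : x ^ p ^ k = 1 := congrArg Subtype.val hk
    obtain ⟨j, -, hj⟩ := (Nat.dvd_prime_pow hp.out).1 (orderOf_dvd_of_pow_eq_one hk')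
    rcases j with _ | j
    · simpa using hj
    · exact absurd ((hj ▸ dvd_pow_self p j.succ_ne_zero).trans (Subgroup.orderOf_dvd_natCard N hx)) hN
  let Φ : N × T → L := fun x => ⟨(x.1 : G) * x.2, L.mul_mem (hNL x.1.2) x.2.2.1⟩
  have hΦ : Function.Bijective Φ := by
    refine ⟨fun x y h => ?_, fun z => ?_⟩
    · have h' : (x.1 : G) * x.2 = y.1 * y.2 := congrArg Subtype.val h
      have h1 : (y.1 : G)⁻¹ * x.1 = y.2 * (x.2 : G)⁻¹ := by
        rw [eq_mul_inv_iff_mul_eq, mul_assoc, h']; group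
      have h2 := hdisj _ (N.mul_mem (N.inv_mem y.1.2) x.1.2)
        (h1 ▸ (P : Subgroup G).mul_mem (hcomm y.2.2.2) ((P : Subgroup G).inv_mem (hcomm x.2.2.2)))
      have e1 : (x.1 : G) = y.1 := (inv_mul_eq_one.1 h2).symm
      exact Prod.ext (Subtype.ext e1) (Subtype.ext (mul_left_cancel (e1 ▸ h')))
    · obtain ⟨n, t, e⟩ := hfac z
      exact ⟨(n, t), Subtype.ext e⟩
  have hsum : ∑ z : L, (χ : G → ℂ) z = (Fintype.card N : ℂ) * ∑ t : T, (χ : G → ℂ) t := by
    have hv : ∀ (n : N) (t : T), (χ : G → ℂ) ((Φ (n, t) : L) : G) = (χ : G → ℂ) t := fun n t =>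
      apply_eq_one_mul (isCharacter_of_isIrr χ.2) (hker n n.2) (t : G)
    rw [← (Equiv.ofBijective Φ hΦ).sum_comp, Fintype.sum_prod_type]
    simp only [Equiv.ofBijective_apply, hv]
    rw [Finset.sum_const, Finset.card_univ, nsmul_eq_mul]
  have hTne : Cfsg.classInner (fun t : T => (χ : G → ℂ) t) (fun _ => 1) ≠ 0 := by
    obtain ⟨m, hm, hmi⟩ := char_decomp hres
    let j : T →* (P : Subgroup G) := Subgroup.inclusion (inf_le_right.trans hcomm)
    choose k hk using fun ν : Cfsg.IrrCharacter (P : Subgroup G) =>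
      classInner_char_nat (isCharacter_comp (isCharacter_of_isIrr ν.2) j) (isCharacter_one (G := T))
    have hμj : ((μ : ↥(P : Subgroup G) → ℂ) ∘ j) = fun _ => 1 := funext fun t => by
      refine commutator_le_of_linear (isCharacter_of_isIrr μ.2) hμ1 ?_
      have ht : ((j t : (P : Subgroup G)) : G) ∈ ⁅(P : Subgroup G), (P : Subgroup G)⁆ := t.2.2
      rw [← Subgroup.map_subtype_commutator] at ht
      obtain ⟨y, hy, e⟩ := ht
      exact Subtype.ext e ▸ hy
    have he : (fun t : T => (χ : G → ℂ) t) = ∑ ν, (m ν : ℂ) • ((ν : ↥(P : Subgroup G) → ℂ) ∘ j) :=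
      funext fun t => by simpa [Finset.sum_apply, j] using congrFun hm (j t)
    rw [he, classInner_sum_left]
    simp only [classInner_smul_left, hk]
    intro h0
    have h0' : ∑ ν, m ν * k ν = 0 := by exact_mod_cast h0
    rcases Nat.mul_eq_zero.1 (Finset.sum_eq_zero_iff.1 h0' μ (Finset.mem_univ _)) with h3 | h3
    · exact hμ (by rw [hmi μ, h3, Nat.cast_zero])
    · have := hk μ
      rw [hμj, classInner_irr_self isIrrCharacter_one, h3, Nat.cast_zero] at this
      exact one_ne_zero this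
  intro h0
  refine hTne ?_
  simp only [classInner_def, map_one, mul_one] at h0 ⊢
  rw [hsum] at h0
  simp only [mul_eq_zero, inv_eq_zero, Nat.cast_eq_zero, Nat.card_pos.ne', Fintype.card_ne_zero, false_or] at h0
  rw [h0, mul_zero]

theorem mem_commutator_of_forall {G : Type u} [Group G] [Fintype G] {p : ℕ} [hp : Fact p.Prime] (P : Sylow p G)
    {x : G} (hxP : x ∈ (P : Subgroup G))
    (hx : ∀ χ : Cfsg.IrrCharacter G, ¬ p ∣ Cfsg.charDegree (χ : G → ℂ) → (χ : G → ℂ) x = (χ : G → ℂ) 1) :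
    x ∈ ⁅(P : Subgroup G), (P : Subgroup G)⁆ := by
  classical
  haveI := Fintype.ofFinite (P : Subgroup G)
  rw [← Subgroup.map_subtype_commutator]
  refine ⟨⟨x, hxP⟩, ?_, rfl⟩
  by_contra hne
  have hne' : Abelianization.of (⟨x, hxP⟩ : (P : Subgroup G)) ≠ 1 := fun h =>
    hne (by rw [← Abelianization.ker_of]; exact h)
  obtain ⟨ψ, hψ⟩ := CommGroup.exists_apply_ne_one_of_hasEnoughRootsOfUnity _ ℂ hne'
  have hlin := isCharacter_linFun' (ψ.comp Abelianization.of)
  obtain ⟨χ, hχd, hχ⟩ := exists_over_linear P hlin (by simp)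
  refine hψ (Units.ext ?_)
  exact linear_constituent_apply (isCharacter_res _ (isCharacter_of_isIrr χ.2)) hlin (by simp)
    (x := (⟨x, hxP⟩ : (P : Subgroup G))) (hx χ hχd) hχ
where
  isCharacter_linFun' {H : Type u} [Group H] (f : H →* ℂˣ) : Cfsg.IsCharacter H fun a => (f a : ℂ) :=
    isCharacter_of_isIrr (isIrrCharacter_units_hom f)

theorem le_of_forall {G : Type u} [Group G] [Fintype G] {p : ℕ} [hp : Fact p.Prime] (P : Sylow p G)
    (M : Subgroup G) [M.Normal] (hM : ¬ p ∣ Nat.card M)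
    (hx : ∀ m ∈ M, ∀ χ : Cfsg.IrrCharacter G, ¬ p ∣ Cfsg.charDegree (χ : G → ℂ) → (χ : G → ℂ) m = (χ : G → ℂ) 1) :
    M ⊓ Subgroup.centralizer ((P : Subgroup G) : Set G) = ⊥ := by
  classical
  haveI := Fintype.ofFinite M
  haveI := Fintype.ofFinite (P : Subgroup G)
  obtain ⟨a, ha⟩ := IsPGroup.iff_card.1 P.2
  have hcop : (Nat.card M).Coprime (Nat.card (P : Subgroup G)) := by
    rw [ha]; exact ((Nat.Prime.coprime_iff_not_dvd hp.out).2 hM).symm.pow_right a
  -- every invariant character of `M` is trivial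
  have htriv : ∀ θ : Cfsg.IrrCharacter M, (∀ x ∈ (P : Subgroup G), conjFun M x (θ : M → ℂ) = θ) →
      θ = irrOne := by
    intro θ hinv
    by_contra hne
    set ψ := Cfsg.indFun (P : Subgroup G) (fun _ => (1 : ℂ)) with hψ
    have hψc : Cfsg.IsCharacter G ψ := isCharacter_indFun _ isCharacter_one
    obtain ⟨m, hm, -⟩ := char_decomp hψc
    choose e he using fun χ : Cfsg.IrrCharacter G =>
      classInner_char_nat (isCharacter_res M (isCharacter_of_isIrr χ.2)) (isCharacter_of_isIrr θ.2)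
    have hp1 : ∀ χ : Cfsg.IrrCharacter G, p ∣ e χ := by
      intro χ
      by_cases hd : p ∣ Cfsg.charDegree (χ : G → ℂ)
      · by_cases h0 : e χ = 0
        · simp [h0]
        have h1 := degree_eq_mul_card_orbit M χ.2 θ (by rw [he]; exact_mod_cast h0)
        rw [he, ← CfsgLib.CharBlocks.coe_charDegree_irr, ← CfsgLib.CharBlocks.coe_charDegree_irr] at h1
        have h2 : Cfsg.charDegree (χ : G → ℂ) = e χ * (orbit M θ).card * Cfsg.charDegree (θ : M → ℂ) := by
          exact_mod_cast h1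
        rw [h2] at hd
        rcases hp.out.dvd_mul.1 hd with hd | hd
        · rcases hp.out.dvd_mul.1 hd with hd | hd
          · exact hd
          · refine absurd ?_ P.not_dvd_index
            rw [card_orbit_eq_index] at hd
            exact hd.trans (Subgroup.index_dvd_of_le fun x hxP => (mem_inertia M).2 (hinv x hxP))
        · exact absurd (hd.trans (CfsgLib.CharBlocks.charDegree_dvd_card θ.2)) hM
      · have hres : (fun m : M => (χ : G → ℂ) m) = (χ : G → ℂ) 1 • fun _ => (1 : ℂ) :=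
          funext fun m => by simp [hx m m.2 χ hd]
        have h := he χ
        rw [hres, classInner_smul_left, classInner_irr_ne isIrrCharacter_one θ.2
          (fun h' => hne (Subtype.ext h'.symm)), mul_zero] at h
        simp [Nat.cast_eq_zero.1 h.symm]
    have hres : (fun n : M => ψ n) = ∑ χ, (m χ : ℂ) • fun n : M => (χ : G → ℂ) n :=
      funext fun n => by simpa [Finset.sum_apply] using congrFun hm (n : G)
    have hzero : ∀ n : M, n ≠ 1 → ψ n = 0 := fun n hn => by
      refine indFun_eq_zero_of_forall _ fun x hx' => absurd ?_ hn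
      obtain ⟨k, hk⟩ := P.2 ⟨_, hx'⟩
      have hk' : (x⁻¹ * (n : G) * x) ^ p ^ k = 1 := congrArg Subtype.val hk
      have hn' : (n : G) ^ p ^ k = 1 := by
        rw [show x⁻¹ * (n : G) * x = x⁻¹ * n * (x⁻¹)⁻¹ by group, conj_pow, conj_eq_one_iff] at hk'
        exact hk'
      refine orderOf_eq_one_iff.1 (Nat.eq_one_of_dvd_coprimes ?_ (orderOf_dvd_natCard n)
        (orderOf_dvd_of_pow_eq_one (Subtype.ext hn' : n ^ p ^ k = 1)))
      exact (((Nat.Prime.coprime_iff_not_dvd hp.out).2 hM).symm).pow_right k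
    have h1 : Cfsg.classInner (fun n : M => ψ n) (θ : M → ℂ) =
        (Nat.card M : ℂ)⁻¹ * ((P : Subgroup G).index * (θ : M → ℂ) 1) := by
      rw [classInner_def, Finset.sum_eq_single (1 : M) (fun n _ hn => by rw [hzero n hn, zero_mul]) (by simp)]
      rw [OneMemClass.coe_one, hψ, indFun_one, mul_one, char_conj_one (isCharacter_of_isIrr θ.2)]
    rw [hres, classInner_sum_left] at h1
    simp only [classInner_smul_left, he] at h1
    rw [← CfsgLib.CharBlocks.coe_charDegree_irr, eq_inv_mul_iff_mul_eq₀ card_ne_zero'] at h1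
    have h2 : Nat.card M * (∑ χ, m χ * e χ) = (P : Subgroup G).index * Cfsg.charDegree (θ : M → ℂ) := by
      exact_mod_cast h1
    have h3 : p ∣ (P : Subgroup G).index * Cfsg.charDegree (θ : M → ℂ) :=
      h2 ▸ (Finset.dvd_sum fun χ _ => (hp1 χ).mul_left _).mul_left _
    rcases hp.out.dvd_mul.1 h3 with h | h
    · exact P.not_dvd_index h
    · exact hM (h.trans (CfsgLib.CharBlocks.charDegree_dvd_card θ.2))
  -- hence the fixed points have one irreducible character
  obtain ⟨-, -, -, h4⟩ := Cfsg.Agent.S4444.result M (P : Subgroup G)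
    (fun s _ g hg => (inferInstance : M.Normal).conj_mem g hg s) hcop p hp.out P.2
    (M ⊓ Subgroup.centralizer ((P : Subgroup G) : Set G)) rfl inf_le_left
  set C := M ⊓ Subgroup.centralizer ((P : Subgroup G) : Set G)
  have hb : ∀ β : Cfsg.IrrCharacter C, β = irrOne := by
    intro β
    obtain ⟨θ, hθ, k, hk, hkp⟩ := h4 β
    have e := htriv θ fun x hxP => funext fun n => hθ x hxP n _ rfl
    subst e
    by_contra hne
    change Cfsg.classInner (fun _ : C => (1 : ℂ)) (β : C → ℂ) = (k : ℂ) at hk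
    rw [classInner_irr_ne isIrrCharacter_one β.2 (fun h => hne (Subtype.ext h.symm))] at hk
    exact hkp (by rw [Nat.cast_eq_zero.1 hk.symm]; exact dvd_zero p)
  haveI : Subsingleton (Cfsg.IrrCharacter C) := ⟨fun a b => (hb a).trans (hb b).symm⟩
  haveI : Subsingleton (ConjClasses C) := by
    rw [← Finite.card_le_one_iff_subsingleton, ← card_irr_eq_card_conjClasses]
    exact Finite.card_le_one_iff_subsingleton.2 inferInstance
  refine (Subgroup.eq_bot_iff_forall _).2 fun c hc => ?_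
  have := ConjClasses.mk_eq_mk_iff_isConj.1 (Subsingleton.elim (ConjClasses.mk (1 : C)) (ConjClasses.mk ⟨c, hc⟩))
  exact congrArg Subtype.val (isConj_one_right.1 this)

/-- Let G be a finite group, p a prime and P a Sylow p-subgroup, and let N be the largest normal subgroup of G in which P has trivial centralizer (N is normal with C_N(P) = 1 and contains every normal subgroup with that property). Then the intersection of the kernels of the irreducible characters of G of degree prime to p is the normal core in G of the subgroup N·P' (P' the derived subgroup of P). In particular, when G has no nontrivial normal subgroup of order prime to p, that intersection is the normal core of P'. -/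
theorem result {G : Type*} [Group G] [Finite G] (p : ℕ) [Fact p.Prime] (P : Sylow p G) (N : Subgroup G) [N.Normal]
    (hN : N ⊓ Subgroup.centralizer ((P : Subgroup G) : Set G) = ⊥)
    (hmax : ∀ L : Subgroup G, L.Normal → L ⊓ Subgroup.centralizer ((P : Subgroup G) : Set G) = ⊥ → L ≤ N) :
    {g : G | ∀ χ : Cfsg.IrrCharacter G, ¬ p ∣ Cfsg.charDegree (χ : G → ℂ) → (χ : G → ℂ) g = (χ : G → ℂ) 1} =
      ((N ⊔ ⁅(P : Subgroup G), (P : Subgroup G)⁆).normalCore : Set G) := by
  classical
  haveI := Fintype.ofFinite G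
  have hNp : ¬ p ∣ Nat.card N := by
    intro hd
    obtain ⟨x, hx⟩ := exists_prime_orderOf_dvd_card' p hd
    obtain ⟨S, hS⟩ := (IsPGroup.of_card (n := 1) (by
      rw [Nat.card_zpowers, Subgroup.orderOf_coe, hx, pow_one] : Nat.card (Subgroup.zpowers (x : G)) = p ^ 1)).exists_le_sylow
    obtain ⟨g, rfl⟩ := MulAction.exists_smul_eq G P S
    have hxg : g⁻¹ * (x : G) * g ∈ (P : Subgroup G) := by
      have := hS (Subgroup.mem_zpowers (x : G))
      rw [Sylow.coe_subgroup_smul, Subgroup.mem_pointwise_smul_iff_inv_smul_mem] at this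
      simpa [MulAut.smul_def, mul_assoc] using this
    have hne : N.subgroupOf (P : Subgroup G) ≠ ⊥ := fun h => by
      have h1 : (⟨_, hxg⟩ : (P : Subgroup G)) ∈ N.subgroupOf (P : Subgroup G) := by
        rw [Subgroup.mem_subgroupOf]
        simpa using (inferInstance : N.Normal).conj_mem (x : G) x.2 g⁻¹
      rw [h, Subgroup.mem_bot] at h1
      have h1' : g⁻¹ * (x : G) * g = 1 := congrArg Subtype.val h1
      have h2 : (x : G) = 1 := by
        rw [show (x : G) = g * (g⁻¹ * x * g) * g⁻¹ by group, h1']; simp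
      rw [Subtype.ext (show (x : G) = ((1 : N) : G) from h2), orderOf_one] at hx
      exact (Fact.out : p.Prime).one_lt.ne hx
    refine CfsgLib.PGroup.inf_center_ne_bot P.2 _ hne ((Subgroup.eq_bot_iff_forall _).2 fun y hy => ?_)
    have : (y : G) ∈ N ⊓ Subgroup.centralizer ((P : Subgroup G) : Set G) :=
      ⟨Subgroup.mem_subgroupOf.1 hy.1, Subgroup.mem_centralizer_iff.2 fun z hz =>
        congrArg Subtype.val (Subgroup.mem_center_iff.1 hy.2 ⟨z, hz⟩)⟩
    rw [hN, Subgroup.mem_bot] at this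
    exact Subtype.ext this
  ext g
  refine ⟨fun hg => ?_, fun hg χ hχ => core_le_ker P N hNp hN χ hχ hg⟩
  let K : Subgroup G := ⨅ χ : {χ : Cfsg.IrrCharacter G // ¬ p ∣ Cfsg.charDegree (χ : G → ℂ)},
    charKer (isCharacter_of_isIrr χ.1.2)
  have hK : ∀ y, y ∈ K ↔ ∀ χ : Cfsg.IrrCharacter G, ¬ p ∣ Cfsg.charDegree (χ : G → ℂ) → (χ : G → ℂ) y = (χ : G → ℂ) 1 :=
    fun y => by simp only [K, Subgroup.mem_iInf, mem_charKer, Subtype.forall]
  haveI hKn : K.Normal := ⟨fun y hy x => (hK _).2 fun χ hχ => by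
    rw [isClassFunction_of_isIrr χ.2]; exact (hK y).1 hy χ hχ⟩
  have hQ : K ⊓ (P : Subgroup G) ≤ ⁅(P : Subgroup G), (P : Subgroup G)⁆ :=
    fun y hy => mem_commutator_of_forall P hy.2 ((hK y).1 hy.1)
  have hΦ : K ⊓ (P : Subgroup G) ≤ (frattini (P : Subgroup G)).map (P : Subgroup G).subtype := by
    refine hQ.trans ?_
    rw [← Subgroup.map_subtype_commutator]
    exact Subgroup.map_mono (CfsgLib.PGroup.commutator_le_frattini P.2)
  obtain ⟨PK, NK, hNKn, hc⟩ := Cfsg.Agent.S0081.result P K hΦ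
  set M := (Cfsg.pPrimeCore p K).map K.subtype with hMdef
  haveI : M.Normal := CfsgLib.Cores.map_subtype_pPrimeCore_normal p K
  have hMcard : ¬ p ∣ Nat.card M := by
    rw [hMdef, Subgroup.card_map_of_injective K.subtype_injective]
    exact CfsgLib.Cores.not_dvd_card_pPrimeCore p
  have hMK : M ≤ K := Subgroup.map_subtype_le _
  have hMN : M ≤ N := hmax M inferInstance (le_of_forall P M hMcard fun m hm => (hK m).1 (hMK hm))
  refine (Subgroup.normal_le_normalCore (N := K)).2 ?_ ((hK g).2 hg)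
  set Q := (P : Subgroup G).subgroupOf K with hQdef
  have hKeq : Cfsg.pPrimeCore p K ⊔ Q = ⊤ := by
    rw [← Subgroup.index_eq_one]
    by_contra hne
    obtain ⟨q, hq, hqd⟩ := Nat.exists_prime_and_dvd hne
    have h1 : q = p := by
      obtain ⟨j, hj⟩ := IsPGroup.iff_card.1 PK.2
      have hle : NK ≤ Cfsg.pPrimeCore p K := by
        refine CfsgLib.Cores.le_pPrimeCore_of_not_dvd (hN := ?_)
        have := PK.not_dvd_index
        rwa [hc.index_eq_card] at this
      have h2 : q ∣ NK.index := hqd.trans (Subgroup.index_dvd_of_le (hle.trans le_sup_left))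
      rw [hc.symm.index_eq_card, hj] at h2
      exact (Nat.prime_dvd_prime_iff_eq hq Fact.out).1 (hq.dvd_of_dvd_pow h2)
    subst h1
    refine P.not_dvd_index ((hqd.trans (Subgroup.index_dvd_of_le le_sup_right)).trans ?_)
    show (P : Subgroup G).relIndex K ∣ (P : Subgroup G).index
    refine Nat.dvd_of_mul_dvd_mul_right (Nat.pos_of_ne_zero (Subgroup.index_ne_zero_of_finite (H := K))) ?_
    rw [← Subgroup.inf_relIndex_right, Subgroup.relIndex_mul_index inf_le_right,
      ← Subgroup.relIndex_mul_index (inf_le_left : (P : Subgroup G) ⊓ K ≤ P), Subgroup.inf_relIndex_left,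
      mul_comm (P : Subgroup G).index]
    exact Nat.mul_dvd_mul_right (Subgroup.relIndex_dvd_index_of_normal K (P : Subgroup G)) _
  calc K = (⊤ : Subgroup K).map K.subtype := by rw [← MonoidHom.range_eq_map, Subgroup.range_subtype]
    _ = M ⊔ Q.map K.subtype := by rw [← hKeq, Subgroup.map_sup]
    _ ≤ N ⊔ ⁅(P : Subgroup G), (P : Subgroup G)⁆ := by
      rw [hQdef, Subgroup.subgroupOf_map_subtype, inf_comm]
      exact sup_le_sup hMN hQ

end Cfsg.Agent.S4591
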