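import Cfsg.Statements.S4593
import Cfsg.Agent.Lib.Invol.ZStarFinal

set_option autoImplicit false
open Cfsg

namespace Cfsg.Agent.S4593
open Subgroup

universe u

section

variable {E : Type u} [Group E] [Finite E]

/-- An element of an abelian Sylow 2-subgroup fixed by its normalizer is weakly isolated. -/
theorem isolated {Q : Sylow 2 E} (hQ : IsMulCommutative (Q : Subgroup E)) {c : E} (hc : c ∈ (Q : Subgroup E))
    (hc2 : orderOf c = 2) (hfix : ∀ n ∈ Subgroup.normalizer ((Q : Subgroup E) : Set E), n * c * n⁻¹ = c) :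
    Cfsg.IsIsolatedInvolution c := by
  haveI := Fact.mk Nat.prime_two
  refine ⟨hc2, fun g hg => ?_⟩
  set d := g * c * g⁻¹
  set C := Subgroup.centralizer ({c} : Set E)
  have hQC : (Q : Subgroup E) ≤ C := fun x hx => Subgroup.mem_centralizer_singleton_iff.2
    (congrArg Subtype.val (hQ.is_comm.comm ⟨x, hx⟩ ⟨c, hc⟩))
  have hdC : d ∈ C := Subgroup.mem_centralizer_singleton_iff.2 hg.symm
  have hd2 : IsPGroup 2 (Subgroup.zpowers (⟨d, hdC⟩ : C)) := IsPGroup.of_card (n := 1) (by
    rw [Nat.card_zpowers, pow_one, Subgroup.orderOf_mk]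
    show orderOf (g * c * g⁻¹) = 2
    rw [show g * c * g⁻¹ = MulAut.conj g c from rfl, MulEquiv.orderOf_eq, hc2])
  obtain ⟨S, hS⟩ := hd2.exists_le_sylow
  obtain ⟨h, hh⟩ := MulAction.exists_smul_eq C S (Q.subtype hQC)
  have hmem : (h : E) * d * (h : E)⁻¹ ∈ (Q : Subgroup E) := by
    have h1 : h • (⟨d, hdC⟩ : C) = h • (⟨d, hdC⟩ : C) := rfl
    have h2 : (MulAut.conj h) ⟨d, hdC⟩ ∈ ((h • S : Sylow 2 C) : Subgroup C) :=
      Subgroup.smul_mem_pointwise_smul _ (MulAut.conj h) _ (hS (Subgroup.mem_zpowers _))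
    rw [hh] at h2
    exact h2
  obtain ⟨n, hn, e⟩ := Q.conj_eq_normalizer_conj_of_mem c (((h : E) * g)⁻¹) hc (by
    rw [show ((h : E) * g)⁻¹⁻¹ * c * ((h : E) * g)⁻¹ = (h : E) * d * (h : E)⁻¹ by simp only [d]; group]
    exact hmem)
  have hn' := hfix n⁻¹ (inv_mem hn)
  rw [inv_inv] at hn'
  have e2 : (h : E) * d * (h : E)⁻¹ = c := by
    rw [← hn', ← e]; simp only [d]; group
  have hhc : (h : E) * c = c * h := Subgroup.mem_centralizer_singleton_iff.1 h.2
  calc d = (h : E)⁻¹ * ((h : E) * d * (h : E)⁻¹) * h := by group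
    _ = (h : E)⁻¹ * c * h := by rw [e2]
    _ = c := by rw [mul_assoc, ← hhc, inv_mul_cancel_left]

/-- Averaging over the odd-order automizer of an abelian Sylow 2-subgroup. -/
theorem exists_fixed {A : Type*} [CommGroup A] (Q : Sylow 2 E) (hQ : IsMulCommutative (Q : Subgroup E))
    (f : E →* A) {a : E} (ha : a ∈ (Q : Subgroup E)) :
    ∃ b ∈ (Q : Subgroup E), (∀ n ∈ Subgroup.normalizer ((Q : Subgroup E) : Set E), n * b * n⁻¹ = b) ∧
      ∃ k : ℕ, Odd k ∧ f b = f a ^ k := by
  classical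
  haveI := Fact.mk Nat.prime_two
  open scoped IsMulCommutative in
  let φ := (Q : Subgroup E).normalizerMonoidHom
  haveI : Finite φ.range := Finite.of_surjective φ.rangeRestrict φ.rangeRestrict_surjective
  haveI := Fintype.ofFinite φ.range
  let b : (Q : Subgroup E) := ∏ h : φ.range, (h : MulAut (Q : Subgroup E)) ⟨a, ha⟩
  refine ⟨b, b.2, fun n hn => ?_, Nat.card φ.range, ?_, ?_⟩
  · have h1 : φ ⟨n, hn⟩ b = b := by
      simp only [b, map_prod]
      exact Fintype.prod_equiv (Equiv.mulLeft (φ.rangeRestrict ⟨n, hn⟩)) _ _ fun h => rfl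
    exact congrArg Subtype.val h1
  · rw [Nat.odd_iff, ← Nat.two_dvd_ne_zero]
    intro hd
    refine Q.not_dvd_index (hd.trans ?_)
    rw [← Subgroup.index_ker]
    refine (Subgroup.index_dvd_of_le (?_ : (Q : Subgroup E).subgroupOf (Subgroup.normalizer ((Q : Subgroup E) : Set E)) ≤ φ.ker)).trans ?_
    · rw [Subgroup.normalizerMonoidHom_ker]
      exact fun x hx => Q.le_centralizer hx
    · exact Subgroup.relIndex_dvd_index_of_le Subgroup.le_normalizer
  · have h1 : ∀ h : φ.range, f (((h : MulAut (Q : Subgroup E)) ⟨a, ha⟩ : (Q : Subgroup E)) : E) = f a := by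
      rintro ⟨_, ⟨n, rfl⟩⟩
      show f ((n : E) * a * (n : E)⁻¹) = f a
      rw [map_mul, map_mul, map_inv, mul_inv_cancel_comm]
    have h2 : f (b : E) = ∏ h : φ.range, f (((h : MulAut (Q : Subgroup E)) ⟨a, ha⟩ : (Q : Subgroup E)) : E) :=
      map_prod (f.comp (Q : Subgroup E).subtype) _ _
    rw [h2, Finset.prod_congr rfl fun h _ => h1 h, Finset.prod_const, Finset.card_univ, Nat.card_eq_fintype_card]

end

/-- Let G be a finite group with trivial centre and no nontrivial normal subgroup of odd order, whose Sylow 2-subgroups are abelian, and let P be a Sylow 2-subgroup. Every automorphism of G of 2-power order that fixes P elementwise is inner. -/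
theorem result {G : Type*} [Group G] [Finite G] (hZ : Subgroup.center G = ⊥) (hcore : Cfsg.pPrimeCore 2 G = ⊥) (P : Sylow 2 G) (hab : IsMulCommutative (P : Subgroup G))
    (α : MulAut G) (h2 : ∃ j : ℕ, orderOf α = 2 ^ j) (hfix : ∀ x ∈ (P : Subgroup G), α x = x) :
    ∃ g : G, ∀ x : G, α x = g * x * g⁻¹ := by
  classical
  haveI := Fact.mk Nat.prime_two
  haveI : Finite (MulAut G) := Finite.of_injective (fun e => (e : G → G)) DFunLike.coe_injective
  set c := (MulAut.conj : G →* MulAut G) with hcdef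
  set J := c.range with hJdef
  by_contra hout
  have hout' : α ∉ J := fun ⟨g, hg⟩ => hout ⟨g, fun x => by rw [← hg]; rfl⟩
  have hconj : ∀ g : G, α * c g * α⁻¹ = c (α g) := fun g => MulEquiv.ext fun x => by
    show α (g * α⁻¹ x * g⁻¹) = α g * x * (α g)⁻¹
    rw [map_mul, map_mul, map_inv, show α (α⁻¹ x) = x from α.apply_symm_apply x]
  have hinj : Function.Injective c := (MonoidHom.ker_eq_bot_iff c).1 (by
    refine (Subgroup.eq_bot_iff_forall _).2 fun g hg => ?_
    have : g ∈ Subgroup.center G := Subgroup.mem_center_iff.2 fun x => by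
      have := congrArg (fun e : MulAut G => e x) (MonoidHom.mem_ker.1 hg)
      simp only [c, MulAut.conj_apply, MulAut.one_apply] at this
      rw [mul_inv_eq_iff_eq_mul] at this
      exact this.symm
    rwa [hZ, Subgroup.mem_bot] at this)
  set E := J ⊔ Subgroup.zpowers α with hEdef
  have hJn : ∀ e : MulAut G, ∀ y ∈ J, e * y * e⁻¹ ∈ J := by
    rintro e _ ⟨g, rfl⟩
    exact ⟨e g, (MulEquiv.ext fun x => by
      show e (g * e⁻¹ x * g⁻¹) = e g * x * (e g)⁻¹
      rw [map_mul, map_mul, map_inv, show e (e⁻¹ x) = x from e.apply_symm_apply x]).symm⟩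
  set I := J.subgroupOf E with hIdef
  haveI hIn : I.Normal := ⟨fun y hy e => hJn (e : MulAut G) _ hy⟩
  have hαE : α ∈ E := Subgroup.mem_sup_right (Subgroup.mem_zpowers α)
  have hJE : J ≤ E := le_sup_left
  -- the Sylow subgroup
  set Q0 := (P : Subgroup G).map c ⊔ Subgroup.zpowers α with hQ0def
  have hcommα : ∀ y ∈ (P : Subgroup G).map c, Commute α y := by
    rintro _ ⟨x, hx, rfl⟩
    show α * c x = c x * α
    have := hconj x
    rw [hfix x hx, mul_inv_eq_iff_eq_mul] at this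
    exact this
  have hQ0ab : Q0 ≤ Subgroup.centralizer (Q0 : Set (MulAut G)) := by
    have h1 : ∀ y ∈ (P : Subgroup G).map c, ∀ z ∈ Q0, Commute y z := by
      intro y hy z hz
      have hle : Q0 ≤ Subgroup.centralizer ({y} : Set (MulAut G)) := by
        refine sup_le ?_ (Subgroup.zpowers_le.2 (Subgroup.mem_centralizer_singleton_iff.2 (hcommα y hy).eq))
        rintro _ ⟨w, hw, rfl⟩
        obtain ⟨v, hv, rfl⟩ := hy
        refine Subgroup.mem_centralizer_singleton_iff.2 ?_
        rw [← map_mul, ← map_mul]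
        exact congrArg c (congrArg Subtype.val (hab.is_comm.comm ⟨w, hw⟩ ⟨v, hv⟩))
      exact (Subgroup.mem_centralizer_singleton_iff.1 (hle hz)).symm
    refine sup_le (fun y hy => Subgroup.mem_centralizer_iff.2 fun z hz => (h1 y hy z hz).eq.symm)
      (Subgroup.zpowers_le.2 (Subgroup.mem_centralizer_iff.2 fun z hz => ?_))
    have hle : Q0 ≤ Subgroup.centralizer ({α} : Set (MulAut G)) :=
      sup_le (fun w hw => Subgroup.mem_centralizer_singleton_iff.2 (hcommα w hw).eq.symm)
        (Subgroup.zpowers_le.2 (Subgroup.mem_centralizer_singleton_iff.2 rfl))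
    exact Subgroup.mem_centralizer_singleton_iff.1 (hle hz)
  have hQ0p : IsPGroup 2 Q0 := by
    obtain ⟨j, hj⟩ := h2
    refine IsPGroup.to_sup_of_normal_left' (P.2.map c)
      (IsPGroup.of_card (n := j) (by rw [Nat.card_zpowers, hj])) ?_
    refine (le_trans (le_sup_right (a := (P : Subgroup G).map c)) (hQ0ab.trans ?_))
    refine le_trans (Subgroup.centralizer_le ?_) (Subgroup.centralizer_le_normalizer _)
    exact SetLike.coe_subset_coe.2 (le_sup_left (b := Subgroup.zpowers α))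
  have hQ0E : Q0 ≤ E := sup_le_sup_right (Subgroup.map_le_range _ _) _
  set Qs := Q0.subgroupOf E with hQsdef
  have hQsp : IsPGroup 2 Qs := hQ0p.of_equiv (Subgroup.subgroupOfEquivOfLe hQ0E).symm
  have hsup : I ⊔ Qs = ⊤ := by
    rw [hIdef, hQsdef, ← Subgroup.subgroupOf_sup hJE hQ0E, Subgroup.subgroupOf_eq_top]
    exact sup_le le_sup_left (le_sup_right.trans le_sup_right)
  have hQi : ¬ 2 ∣ Qs.index := by
    intro hd
    have h3 : Qs.index * (I ⊓ Qs).relIndex Qs = I.index * (I ⊓ Qs).relIndex I := by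
      rw [mul_comm, Subgroup.relIndex_mul_index inf_le_right, mul_comm,
        Subgroup.relIndex_mul_index inf_le_left]
    have h4 : (I ⊓ Qs).relIndex Qs = I.index := by
      rw [Subgroup.inf_relIndex_right, ← Subgroup.relIndex_sup_left, hsup, Subgroup.relIndex_top_right]
    rw [h4, mul_comm] at h3
    have h5 : Qs.index = (I ⊓ Qs).relIndex I :=
      Nat.eq_of_mul_eq_mul_left (Nat.pos_of_ne_zero Subgroup.index_ne_zero_of_finite) h3
    rw [h5, Subgroup.inf_relIndex_left, hQsdef, hIdef, Subgroup.relIndex_subgroupOf hJE] at hd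
    refine P.not_dvd_index (hd.trans ?_)
    have h6 : ((P : Subgroup G).map c).relIndex J = (P : Subgroup G).index := by
      rw [hJdef, MonoidHom.range_eq_map, Subgroup.relIndex_map_map_of_injective _ _ hinj, Subgroup.relIndex_top_right]
    exact h6 ▸ Subgroup.relIndex_dvd_of_le_left J le_sup_left
  set Q := hQsp.toSylow hQi with hQdef
  have hQab : IsMulCommutative (Q : Subgroup E) :=
    ⟨⟨fun x y => Subtype.ext (Subtype.ext ((Subgroup.mem_centralizer_iff.1 (hQ0ab y.2) _ x.2)))⟩⟩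
  -- the quotient by the inner automorphisms is abelian
  have hcen : ∀ x y : E ⧸ I, x * y = y * x := by
    have hgen : ∀ q : E ⧸ I, q ∈ Subgroup.zpowers ((⟨α, hαE⟩ : E) : E ⧸ I) := fun q => by
      obtain ⟨x, rfl⟩ := QuotientGroup.mk_surjective q
      have hle : (Subgroup.zpowers α).subgroupOf E ⊔ I = ⊤ := by
        rw [hIdef, ← Subgroup.subgroupOf_sup (le_sup_right) hJE, Subgroup.subgroupOf_eq_top, sup_comm]
      have hle' : (Subgroup.zpowers α).subgroupOf E ⊔ I ≤
          (Subgroup.zpowers ((⟨α, hαE⟩ : E) : E ⧸ I)).comap (QuotientGroup.mk' I) := by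
        refine sup_le (fun z hz => ?_) fun z hz => ?_
        · obtain ⟨i, hi⟩ := Subgroup.mem_subgroupOf.1 hz
          exact ⟨i, by rw [show z = (⟨α, hαE⟩ : E) ^ i from Subtype.ext (by rw [Subgroup.coe_zpow]; exact hi.symm)]; rfl⟩
        · rw [Subgroup.mem_comap, QuotientGroup.mk'_apply, (QuotientGroup.eq_one_iff z).2 hz]
          exact Subgroup.one_mem _
      exact hle' (hle ▸ Subgroup.mem_top x)
    intro x y
    obtain ⟨i, rfl⟩ := hgen x
    obtain ⟨j, rfl⟩ := hgen y
    exact (Commute.zpow_zpow_self _ i j).eq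
  let _ : CommGroup (E ⧸ I) := { (inferInstance : Group (E ⧸ I)) with mul_comm := hcen }
  obtain ⟨b, hbQ, hbfix, k, hk, hbk⟩ := exists_fixed (A := E ⧸ I) Q hQab (QuotientGroup.mk' I)
    (a := (⟨α, hαE⟩ : E)) (Subgroup.mem_subgroupOf.2 (Subgroup.mem_sup_right (Subgroup.mem_zpowers α)))
  obtain ⟨i, hi⟩ := Q.2 ⟨b, hbQ⟩
  have hb2 : b ^ 2 ^ i = 1 := congrArg Subtype.val hi
  obtain ⟨l, -, hl⟩ := (Nat.dvd_prime_pow Nat.prime_two).1 (orderOf_dvd_of_pow_eq_one hb2)
  have hl0 : l ≠ 0 := by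
    rintro rfl
    rw [pow_zero, orderOf_eq_one_iff] at hl
    rw [hl, map_one] at hbk
    obtain ⟨j, hj⟩ := h2
    have h1 : ((⟨α, hαE⟩ : E) : E ⧸ I) ^ 2 ^ j = 1 := by
      rw [← QuotientGroup.mk_pow, show (⟨α, hαE⟩ : E) ^ 2 ^ j = 1 from
        Subtype.ext (by rw [Subgroup.coe_pow]; exact hj ▸ pow_orderOf_eq_one α)]
      rfl
    have h3 : ((⟨α, hαE⟩ : E) : E ⧸ I) = 1 := by
      rw [← orderOf_eq_one_iff]
      exact Nat.eq_one_of_dvd_coprimes ((Nat.coprime_two_left.2 hk).pow_left j)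
        (orderOf_dvd_of_pow_eq_one h1) (orderOf_dvd_of_pow_eq_one hbk.symm)
    exact hout' (Subgroup.mem_subgroupOf.1 ((QuotientGroup.eq_one_iff (⟨α, hαE⟩ : E)).1 h3))
  obtain ⟨l, rfl⟩ := Nat.exists_eq_succ_of_ne_zero hl0
  set z := b ^ 2 ^ l
  have hz : orderOf z = 2 := by
    rw [orderOf_pow' b (pow_ne_zero _ two_ne_zero), hl, pow_succ, Nat.gcd_comm, Nat.gcd_mul_right_right,
      Nat.mul_div_cancel_left _ (Nat.two_pow_pos l)]
  have hzfix : ∀ n ∈ Subgroup.normalizer ((Q : Subgroup E) : Set E), n * z * n⁻¹ = z := fun n hn => by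
    rw [← conj_pow, hbfix n hn]
  -- the odd core is trivial
  have hcenI : ∀ y : E, (∀ x ∈ I, y * x = x * y) → y = 1 := fun y hy => by
    refine Subtype.ext (MulEquiv.ext fun x => ?_)
    refine hinj ?_
    have h := congrArg Subtype.val (hy ⟨c x, hJE ⟨x, rfl⟩⟩ ⟨x, rfl⟩)
    have e : (y : MulAut G) * c x * (y : MulAut G)⁻¹ = c ((y : MulAut G) x) := MulEquiv.ext fun w => by
      show (y : MulAut G) (x * (y : MulAut G)⁻¹ w * x⁻¹) = (y : MulAut G) x * w * ((y : MulAut G) x)⁻¹
      rw [map_mul, map_mul, map_inv, show (y : MulAut G) ((y : MulAut G)⁻¹ w) = w from (y : MulAut G).apply_symm_apply w]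
    rw [← e, show (y : MulAut G) * c x = c x * y from h, mul_inv_cancel_right]
    rfl
  have hodd : Cfsg.oddCore E = ⊥ := by
    haveI : (Cfsg.oddCore E).Normal := Subgroup.sSup_normal _ fun _ h => h.1
    have h1 : Cfsg.oddCore E ⊓ I = ⊥ := by
      let cE : G →* E := c.codRestrict E fun g => hJE ⟨g, rfl⟩
      have hcE : Function.Injective cE := fun x y h => hinj (congrArg Subtype.val h)
      set N := (Cfsg.oddCore E).comap cE with hNdef
      haveI : N.Normal := Subgroup.Normal.comap inferInstance cE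
      have hN : Odd (Nat.card N) := by
        rw [Nat.card_congr (N.equivMapOfInjective cE hcE).toEquiv]
        exact (CfsgLib.Cores.odd_card_oddCore (G := E)).of_dvd_nat
          (Subgroup.card_dvd_of_le (Subgroup.map_comap_le _ _))
      have hNbot : N = ⊥ :=
        le_bot_iff.1 (hcore ▸ CfsgLib.Cores.le_pPrimeCore (Nat.coprime_two_right.2 hN))
      refine (Subgroup.eq_bot_iff_forall _).2 fun y hy => ?_
      obtain ⟨g, hg⟩ := Subgroup.mem_subgroupOf.1 hy.2
      have e : cE g = y := Subtype.ext hg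
      have : g ∈ N := Subgroup.mem_comap.2 (e ▸ hy.1)
      rw [hNbot, Subgroup.mem_bot] at this
      rw [← e, this, map_one]
    refine (Subgroup.eq_bot_iff_forall _).2 fun y hy => hcenI y fun x hx => ?_
    have h2' : y * (x * y⁻¹ * x⁻¹) ∈ Cfsg.oddCore E := (Cfsg.oddCore E).mul_mem hy
      ((inferInstance : (Cfsg.oddCore E).Normal).conj_mem _ ((Cfsg.oddCore E).inv_mem hy) x)
    have h3 : y * x * y⁻¹ * x⁻¹ ∈ Cfsg.oddCore E ⊓ I :=
      ⟨(show y * x * y⁻¹ * x⁻¹ = y * (x * y⁻¹ * x⁻¹) by group) ▸ h2',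
        I.mul_mem (hIn.conj_mem x hx y) (I.inv_mem hx)⟩
    rw [h1, Subgroup.mem_bot, mul_inv_eq_one, mul_inv_eq_iff_eq_mul] at h3
    exact h3
  have hzc := CfsgLib.Invol.zstar_center (isolated hQab (pow_mem hbQ _) hz hzfix) hodd
  have := hcenI z fun x _ => (Subgroup.mem_center_iff.1 hzc x).symm
  rw [this, orderOf_one] at hz
  exact absurd hz (by norm_num)

end Cfsg.Agent.S4593
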