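import Cfsg.Statements.S4607
import Cfsg.Agent.Lib.Blocks.BlockDim
import Cfsg.Agent.Lib.BlockArith.BrauerFeit
import Cfsg.Agent.Lib.BlockArith.KleinDefect
import Cfsg.Agent.Lib.BlockArith.SmallRank
import Cfsg.Agent.Lib.Modular.PimDual
import Cfsg.Agent.Lib.Modular.Lifting
import Cfsg.Agent.Lib.Blocks.SmallBlock
-- import your own Cfsg.Agent.* helpers here

set_option autoImplicit false
open Cfsg CfsgLib.Blocks CfsgLib.Modular

namespace Cfsg.Agent.S4607

/-- Let G be a finite group, p a prime, M a maximal ideal of the algebraic integers containing p, and B a p-block of G with defect group D. Then B contains exactly two irreducible characters if and only if D has order 2. -/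
theorem result {G : Type*} [Group G] [Finite G] (p : ℕ) [Fact p.Prime] (M : Ideal Cfsg.AlgInt) (hM : Cfsg.IsPModular p M) (B : Set (Cfsg.IrrCharacter G)) (hB : Cfsg.IsPBlock M B) (D : Subgroup G) (hD : Cfsg.IsDefectGroup p M B D) : Nat.card B = 2 ↔ Nat.card D = 2 := by
  classical
  let _ := Fintype.ofFinite G
  have : M.IsMaximal := hM.2.1
  have hp := (Fact.out : p.Prime)
  have hcD := card_defectGroup hM hB hD
  have hda : blockDefect p B ≤ (Nat.card G).factorization p := Nat.sub_le _ _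
  constructor
  swap
  · intro h
    rw [hcD] at h
    have hd0 : blockDefect p B ≠ 0 := fun h0 => by rw [h0, pow_zero] at h; omega
    have hp2 : p = 2 := (Nat.prime_dvd_prime_iff_eq hp Nat.prime_two).mp (h ▸ dvd_pow_self p hd0)
    subst hp2
    have hd : blockDefect 2 B = 1 := Nat.pow_right_injective (le_refl 2) (h.trans (pow_one 2).symm)
    have h1 := (CfsgLib.BlockArith.brauer_feit hM 1 G B hB hd).1 (by norm_num)
    have h2 := CfsgLib.BlockArith.blockRank_lt_card hM hB (by omega)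
    have h3 := CfsgLib.BlockArith.blockRank_eq_one_defect_one hM hB hd
    omega
  intro h2
  have hd : 0 < blockDefect p B := Nat.pos_of_ne_zero fun h => by
    have := CfsgLib.BlockArith.card_eq_one_of_defect_zero hM hB h
    omega
  -- one Brauer character
  have hrank : blockRank p B = 1 := by
    have := CfsgLib.BlockArith.blockRank_pos (p := p) hB
    have := CfsgLib.BlockArith.blockRank_lt_card hM hB hd
    omega
  obtain ⟨φ, hφs⟩ := Finset.card_eq_one.mp ((blockRank_eq_card hM hB).symm.trans hrank)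
  have hφ : φ ∈ ibrOf hM B := by rw [hφs]; exact Finset.mem_singleton_self φ
  have hφF := ibrOf_subset hM B hφ
  obtain ⟨f, hf0, hf⟩ := ibr_one_pos hM hφF
  obtain ⟨χ₁, χ₂, h12, hB2⟩ := Set.ncard_eq_two.mp (by rw [← Nat.card_coe_set_eq]; exact h2)
  have hfilter : (Finset.univ.filter fun χ : IrrCharacter G => χ ∈ B) = {χ₁, χ₂} := by ext χ; simp [hB2]
  set d : IrrCharacter G → ℕ := fun χ => dnum hM χ φ with hddef
  have hreg : ∀ χ ∈ B, pRegularPart p (χ : G → ℂ) = (d χ : ℂ) • φ := fun χ hχ => by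
    rw [regPart_eq_block hM hχ, hφs, Finset.sum_singleton]
  have hone : ¬ p ∣ orderOf (1 : G) := by rw [orderOf_one]; exact hp.not_dvd_one
  have hdeg : ∀ χ ∈ B, charDegree (χ : G → ℂ) = d χ * f := fun χ hχ => by
    have h := congrFun (hreg χ hχ) 1
    rw [CfsgLib.BlockArith.pRegularPart_apply, if_neg hone, Pi.smul_apply, smul_eq_mul, hf,
      charDegree_eq (CfsgLib.Char.isCharacter_of_isIrr χ.2)] at h
    exact_mod_cast h
  have hχ₁ : χ₁ ∈ B := by rw [hB2]; exact Set.mem_insert _ _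
  have hχ₂ : χ₂ ∈ B := by rw [hB2]; exact Set.mem_insert_of_mem _ rfl
  -- duality
  have hinner : ∀ χ ∈ B, classInner φ (χ : G → ℂ) = (d χ : ℂ) * classInner φ φ := fun χ hχ => by
    rw [show classInner φ (χ : G → ℂ) = classInner φ (pRegularPart p (χ : G → ℂ)) from ?_, hreg χ hχ,
      CfsgLib.Char.classInner_smul_right, map_natCast]
    rw [CfsgLib.Char.classInner_def, CfsgLib.Char.classInner_def]
    congr 1
    refine Finset.sum_congr rfl fun g _ => ?_
    rw [CfsgLib.BlockArith.pRegularPart_apply]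
    split_ifs with hg
    · rw [(ibrF_regular hM hφF).1 g hg, zero_mul, zero_mul]
    · rfl
  set c := d χ₁ ^ 2 + d χ₂ ^ 2 with hc
  have hcφ : (c : ℂ) * classInner φ φ = 1 := by
    have h := classInner_pim hM hφF hφF
    rw [if_pos rfl, classInner_pim_eq, ← Finset.sum_subset (Finset.subset_univ ({χ₁, χ₂} : Finset (IrrCharacter G)))
      fun χ _ hχ => by
        rw [dnum_eq_zero_of_notMem hM hB hφ (by rw [hB2]; simpa using hχ), Nat.cast_zero, zero_mul],
      Finset.sum_pair h12, hinner χ₁ hχ₁, hinner χ₂ hχ₂] at h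
    rw [← h, hc]
    simp only [hddef]
    push_cast
    ring
  have hc0 : (c : ℂ) ≠ 0 := fun h => by rw [h, zero_mul] at hcφ; exact zero_ne_one hcφ
  set a := (Nat.card G).factorization p with ha
  have hdiv : ∀ χ ∈ B, (c : ℤ) ∣ (p : ℤ) ^ a * (d χ : ℤ) ^ 2 := fun χ hχ => by
    refine ⟨CfsgLib.BlockArith.regCoef p χ χ, ?_⟩
    have h := CfsgLib.BlockArith.regCoef_spec (p := p) χ χ
    rw [show CfsgLib.BlockArith.paReg p (χ : G → ℂ) = (((p ^ a : ℕ) : ℂ) * (d χ : ℂ)) • φ from ?_,
      CfsgLib.Char.classInner_smul_left, hinner χ hχ] at h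
    · have h' : ((p : ℂ) ^ a * (d χ : ℂ) ^ 2) = (c : ℂ) * (CfsgLib.BlockArith.regCoef p χ χ : ℂ) := by
        rw [← h, ← mul_one ((p : ℂ) ^ a * (d χ : ℂ) ^ 2), ← hcφ]
        push_cast
        ring
      exact_mod_cast h'
    · funext g
      have h1 := congrFun (hreg χ hχ) g
      rw [CfsgLib.BlockArith.pRegularPart_apply, Pi.smul_apply, smul_eq_mul] at h1
      simp only [CfsgLib.BlockArith.paReg, Pi.smul_apply, smul_eq_mul]
      split_ifs with hg
      · rw [(ibrF_regular hM hφF).1 g hg, mul_zero]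
      · rw [if_neg hg] at h1
        rw [h1, ← ha]
        ring
  obtain ⟨z, hz⟩ := exists_int_combination hM hB hφ
  have hbez : (z χ₁ * d χ₁ + z χ₂ * d χ₂ : ℤ) = 1 := by
    have h := congrFun hz 1
    rw [hfilter, Finset.sum_pair h12, hreg χ₁ hχ₁, hreg χ₂ hχ₂] at h
    simp only [Pi.add_apply, Pi.smul_apply, smul_eq_mul, hf] at h
    have h' : ((z χ₁ * d χ₁ + z χ₂ * d χ₂ : ℤ) : ℂ) * f = 1 * f := by
      rw [one_mul]; nth_rw 2 [h]; push_cast; ring
    exact_mod_cast mul_right_cancel₀ (Nat.cast_ne_zero.mpr hf0.ne') h'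
  have hco : IsCoprime ((d χ₁ : ℤ) ^ 2) ((d χ₂ : ℤ) ^ 2) :=
    IsCoprime.pow ⟨z χ₁, z χ₂, hbez⟩
  have hcp : c ∣ p ^ a := by
    obtain ⟨u, v, huv⟩ := hco
    have : (c : ℤ) ∣ (p : ℤ) ^ a := by
      rw [show (p : ℤ) ^ a = u * ((p : ℤ) ^ a * (d χ₁ : ℤ) ^ 2) + v * ((p : ℤ) ^ a * (d χ₂ : ℤ) ^ 2) by
        linear_combination -((p : ℤ) ^ a) * huv]
      exact dvd_add ((hdiv χ₁ hχ₁).mul_left u) ((hdiv χ₂ hχ₂).mul_left v)
    exact_mod_cast this
  obtain ⟨j, -, hj⟩ := (Nat.dvd_prime_pow hp).mp hcp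
  -- valuations
  have hsum : ∑ χ : IrrCharacter G, (if χ ∈ B then charDegree (χ : G → ℂ) ^ 2 else 0) = c * f ^ 2 := by
    rw [← Finset.sum_filter, hfilter, Finset.sum_pair h12, hdeg χ₁ hχ₁, hdeg χ₂ hχ₂, hc]
    ring
  obtain ⟨hv, -⟩ := exists_sum_sq hM hB
  rw [show (∑ᶠ χ ∈ B, charDegree (χ : G → ℂ) ^ 2) = c * f ^ 2 by
    rw [← hsum, finsum_mem_def, finsum_eq_sum_of_fintype]; simp only [Set.indicator_apply],
    Nat.factorization_mul (by rw [hj]; exact pow_ne_zero _ hp.ne_zero) (pow_ne_zero _ hf0.ne'),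
    Finsupp.add_apply, Nat.factorization_pow, Finsupp.smul_apply, hj, hp.factorization_pow,
    Finsupp.single_eq_same, smul_eq_mul] at hv
  have hlow : a ≤ j + f.factorization p := by
    obtain ⟨n, hn0, hdvd, hn⟩ := pim_one hM hφF
    have hn' : n = c * f := by
      rw [pim, Finset.sum_apply, ← Finset.sum_subset (Finset.subset_univ ({χ₁, χ₂} : Finset (IrrCharacter G)))
        fun χ _ hχ => by
          rw [dnum_eq_zero_of_notMem hM hB hφ (by rw [hB2]; simpa using hχ), Nat.cast_zero, zero_smul, Pi.zero_apply],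
        Finset.sum_pair h12] at hn
      simp only [Pi.smul_apply, smul_eq_mul, charDegree_eq (CfsgLib.Char.isCharacter_of_isIrr χ₁.2),
        charDegree_eq (CfsgLib.Char.isCharacter_of_isIrr χ₂.2), hdeg χ₁ hχ₁, hdeg χ₂ hχ₂] at hn
      have h : (n : ℂ) = ((c * f : ℕ) : ℂ) := by rw [← hn, hc]; simp only [hddef]; push_cast; ring
      exact_mod_cast h
    have h := (hp.pow_dvd_iff_le_factorization hn0.ne').mp hdvd
    rwa [hn', Nat.factorization_mul (by rw [hj]; exact pow_ne_zero _ hp.ne_zero) hf0.ne', Finsupp.add_apply, hj,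
      hp.factorization_pow, Finsupp.single_eq_same] at h
  have hfv : a - blockDefect p B ≤ f.factorization p := by
    have hnd : ¬ p ∣ d χ₁ ∨ ¬ p ∣ d χ₂ := by
      by_contra hcon
      push Not at hcon
      have : (p : ℤ) ∣ 1 := hbez ▸ dvd_add ((Int.natCast_dvd_natCast.mpr hcon.1).mul_left _)
        ((Int.natCast_dvd_natCast.mpr hcon.2).mul_left _)
      exact hp.not_dvd_one (by exact_mod_cast this)
    have key : ∀ χ ∈ B, ¬ p ∣ d χ → a - blockDefect p B ≤ f.factorization p := fun χ hχ hnd' => by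
      have h := CfsgLib.BlockArith.degree_factorization hM hB hχ
      rw [hdeg χ hχ, Nat.factorization_mul (fun h0 => hnd' (by rw [h0]; exact dvd_zero p)) hf0.ne', Finsupp.add_apply,
        Nat.factorization_eq_zero_of_not_dvd hnd', zero_add] at h
      omega
    exact hnd.elim (key χ₁ hχ₁) (key χ₂ hχ₂)
  have hjd : j = blockDefect p B := by omega
  rcases hp.eq_two_or_odd' with hp2 | hodd
  · subst hp2
    rw [hcD]
    by_contra hne
    have hd2 : 2 ≤ blockDefect 2 B := by
      rcases Nat.lt_or_ge (blockDefect 2 B) 2 with h | h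
      · exact absurd (by rw [show blockDefect 2 B = 1 by omega, pow_one]) hne
      · exact h
    have h4 : 4 ∣ c := by
      rw [hj, hjd]
      exact dvd_trans (by norm_num) (pow_dvd_pow 2 hd2)
    have hnot : ¬ (Even (d χ₁) ∧ Even (d χ₂)) := fun ⟨⟨u, hu⟩, ⟨v, hv'⟩⟩ => by
      rw [hu, hv'] at hbez
      have : (2 : ℤ) ∣ 1 := ⟨z χ₁ * u + z χ₂ * v, by rw [← hbez]; push_cast; ring⟩
      omega
    rcases Nat.even_or_odd (d χ₁) with ⟨u, hu⟩ | ⟨u, hu⟩ <;> rcases Nat.even_or_odd (d χ₂) with ⟨v, hv'⟩ | ⟨v, hv'⟩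
    · exact hnot ⟨⟨u, hu⟩, ⟨v, hv'⟩⟩
    all_goals (rw [hc, hu, hv'] at h4; ring_nf at h4; omega)
  · exfalso
    obtain ⟨n, hn⟩ := SmallBlock.exists_sum_sq_eq hM hB h2
    rw [hsum] at hn
    have hn0 : n ≠ 0 := by
      rintro rfl
      rw [hj] at hn
      simp at hn
      rcases hn with h | h
      · exact hp.ne_zero h.1
      · omega
    have h := congrArg (fun m : ℕ => m.factorization 2) hn
    rw [Nat.factorization_mul (by rw [hj]; exact pow_ne_zero _ hp.ne_zero) (pow_ne_zero _ hf0.ne'),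
      Nat.factorization_mul two_ne_zero (pow_ne_zero _ hn0)] at h
    simp only [Finsupp.add_apply, Nat.factorization_pow, Finsupp.smul_apply, smul_eq_mul,
      Nat.prime_two.factorization_self] at h
    rw [Nat.factorization_eq_zero_of_not_dvd (fun h2c => ?_)] at h
    · omega
    · rw [hj] at h2c
      exact (Nat.not_even_iff_odd.mpr hodd) (even_iff_two_dvd.mpr (Nat.prime_two.dvd_of_dvd_pow h2c))

end Cfsg.Agent.S4607
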