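import Cfsg.Statements.S4611
import Cfsg.Agent.Lib.Blocks.PSolvablePrincipal
import Cfsg.Agent.Lib.Transfer.SolvablePSolvable

set_option autoImplicit false
open Cfsg

namespace Cfsg.Agent.S4611

/-- Let G be a finite solvable group and π a nonempty set of primes, each dividing the order of G; fix for each p in π a maximal ideal M p of the algebraic integers containing p. Then the only irreducible character lying in the principal p-block for every p in π is the principal character if and only if G is generated by the subgroups O_{p'}(G), p in π (the largest normal subgroups of order prime to p). -/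
theorem result {G : Type*} [Group G] [Finite G] [Group.IsSolvable G] (π : Set ℕ) (hπ : ∀ p ∈ π, p.Prime ∧ p ∣ Nat.card G) (hne : π.Nonempty) (M : ℕ → Ideal Cfsg.AlgInt) (hM : ∀ p ∈ π, Cfsg.IsPModular p (M p)) :
    (∀ χ : Cfsg.IrrCharacter G, (∀ p ∈ π, χ ∈ Cfsg.principalBlock (M p) G) → (χ : G → ℂ) = fun _ => 1) ↔
      ⨆ p ∈ π, Cfsg.pPrimeCore p G = ⊤ := by
  classical
  have := Fintype.ofFinite G
  have key : ∀ p ∈ π, ∀ χ : Cfsg.IrrCharacter G, χ ∈ Cfsg.principalBlock (M p) G ↔
      ∀ n ∈ Cfsg.pPrimeCore p G, (χ : G → ℂ) n = (χ : G → ℂ) 1 := fun p hp χ => by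
    haveI : Fact p.Prime := ⟨(hπ p hp).1⟩
    have := (hM p hp).2.1
    exact CfsgLib.Blocks.mem_principalBlock_iff_of_pSolvable (hM p hp)
      (CfsgLib.Transfer.isPSolvable_of_isSolvable p inferInstance) χ
  set N := ⨆ p ∈ π, Cfsg.pPrimeCore p G with hNdef
  have hN : N.Normal := by
    have hs : ∀ p, (Cfsg.pPrimeCore p G).Normal := fun p => by
      have := CfsgLib.Cores.pPrimeCore_characteristic (G := G) p
      exact inferInstance
    refine ⟨fun n hn g => ?_⟩
    have hle : N ≤ N.comap (MulAut.conj g).toMonoidHom := iSup₂_le fun p hp m hm => by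
      show g * m * g⁻¹ ∈ N
      exact Subgroup.mem_iSup_of_mem p (Subgroup.mem_iSup_of_mem hp ((hs p).conj_mem m hm g))
    exact hle hn
  constructor
  · intro h
    by_contra hne
    have := Fintype.ofFinite (G ⧸ N)
    have hnt : Nontrivial (G ⧸ N) := QuotientGroup.nontrivial_iff.2 hne
    obtain ⟨q, hq⟩ := exists_ne (1 : G ⧸ N)
    have h2 : ∃ ψ : Cfsg.IrrCharacter (G ⧸ N), (ψ : G ⧸ N → ℂ) q ≠ (ψ : G ⧸ N → ℂ) 1 := by
      by_contra hcon
      simp only [not_exists, not_not] at hcon
      obtain ⟨w, hw⟩ := isConj_iff.1 ((CfsgLib.Char.isConj_iff_forall_irr q 1).2 hcon)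
      exact hq (conj_eq_one_iff.1 hw)
    obtain ⟨ψ, hψ⟩ := h2
    have h3 := h ⟨_, CfsgLib.CharNormal.isIrr_comp_mk' N ψ.2⟩ fun p hp => (key p hp _).2 fun n hn =>
      CfsgLib.CharNormal.comp_mk'_const N (show n ∈ N from
        Subgroup.mem_iSup_of_mem p (Subgroup.mem_iSup_of_mem hp hn))
    obtain ⟨g, rfl⟩ := QuotientGroup.mk_surjective q
    exact hψ (by
      have e1 := congrFun h3 g
      have e2 := congrFun h3 1
      simp only [Function.comp_apply, QuotientGroup.mk_one] at e1 e2
      rw [e1, e2])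
  · intro htop χ hχ
    have hc := CfsgLib.Char.isCharacter_of_isIrr χ.2
    have hle : N ≤ CfsgLib.CharNormal.charKer hc :=
      iSup₂_le fun p hp n hn => (key p hp χ).1 (hχ p hp) n hn
    rw [htop] at hle
    have hall : ∀ g : G, (χ : G → ℂ) g = (χ : G → ℂ) 1 := fun g => hle (Subgroup.mem_top g)
    have hn := CfsgLib.Char.classInner_irr_self χ.2
    have h1 : (χ : G → ℂ) 1 = 1 := by
      rw [CfsgLib.Char.classInner_def, Finset.sum_congr rfl fun g _ => by rw [hall g],
        Finset.sum_const, Finset.card_univ, ← Nat.card_eq_fintype_card, nsmul_eq_mul,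
        inv_mul_cancel_left₀ CfsgLib.Char.card_ne_zero', Complex.mul_conj'] at hn
      obtain ⟨d, hd, hd1⟩ := CfsgLib.Char.exists_degree_pos χ.2
      rw [hd1] at hn ⊢
      simp at hn
      rcases hn with hn | hn
      · exact_mod_cast hn
      · exfalso
        have h := congrArg Complex.re hn
        simp at h
        have : (0 : ℝ) < d := by exact_mod_cast hd
        linarith
    funext g
    rw [hall g, h1]


end Cfsg.Agent.S4611
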