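import Cfsg.Statements.S4620
import Cfsg.Agent.Lib.Cores.Coprime
import Cfsg.Agent.Lib.Solvable.MinimalNormal

set_option autoImplicit false
open scoped Pointwise
open Cfsg

namespace Cfsg.Agent.S4620


open Subgroup in
open scoped Pointwise in
theorem ti_conj {H : Type*} [Group H] [Finite H] {p : ℕ} [Fact p.Prime] (P : Sylow p H)
    (hTI : ∀ g : H, g ∉ normalizer ((P : Subgroup H) : Set H) → (P : Subgroup H) ⊓ (MulAut.conj g • (P : Subgroup H)) = ⊥)
    (R : Sylow p H) {y : H} (hy : y ≠ 1) (hyR : y ∈ (R : Subgroup H)) {a : H}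
    (hay : a * y * a⁻¹ ∈ (R : Subgroup H) ∨ a⁻¹ * y * a ∈ (R : Subgroup H)) :
    a ∈ normalizer ((R : Subgroup H) : Set H) := by
  wlog h : a * y * a⁻¹ ∈ (R : Subgroup H) generalizing a with hwlog
  · exact inv_inv a ▸ inv_mem (hwlog (a := a⁻¹) (Or.inl (by simpa using hay.resolve_left h))
      (by simpa using hay.resolve_left h))
  obtain ⟨g, hg⟩ := MulAction.exists_smul_eq H P R
  have hmem : ∀ z, z ∈ (R : Subgroup H) ↔ g⁻¹ * z * g ∈ (P : Subgroup H) := fun z => by
    rw [← hg, Sylow.coe_subgroup_smul, mem_pointwise_smul_iff_inv_smul_mem]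
    simp [MulAut.smul_def]
  set b := g⁻¹ * a * g
  have hb : b ∈ normalizer ((P : Subgroup H) : Set H) := by
    by_contra hb
    have h0 := (hTI b hb).le (show g⁻¹ * (a * y * a⁻¹) * g ∈ _ from mem_inf.mpr ⟨(hmem _).mp h, by
      rw [mem_pointwise_smul_iff_inv_smul_mem]
      have h1 := (hmem y).mp hyR
      simpa [MulAut.smul_def, b, mul_assoc] using h1⟩)
    rw [mem_bot] at h0
    refine hy ?_
    have h2 : a * y * a⁻¹ = 1 := by
      calc a * y * a⁻¹ = g * (g⁻¹ * (a * y * a⁻¹) * g) * g⁻¹ := by group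
        _ = 1 := by rw [h0, mul_one, mul_inv_cancel]
    exact conj_eq_one_iff.mp h2
  rw [mem_normalizer_iff]
  intro z
  rw [hmem, hmem, show g⁻¹ * (a * z * a⁻¹) * g = b * (g⁻¹ * z * g) * b⁻¹ by simp [b, mul_assoc]]
  exact mem_normalizer_iff.mp hb _

open Subgroup in
open scoped Pointwise in
theorem subnormal_centralizing_trivial {H : Type*} [Group H] [Finite H] {p : ℕ} [hp : Fact p.Prime]
    (hOp : Cfsg.pCore p H = ⊥) (hOp' : Cfsg.pPrimeCore p H = ⊥) (P : Sylow p H)
    (hTI : ∀ g : H, g ∉ normalizer ((P : Subgroup H) : Set H) → (P : Subgroup H) ⊓ (MulAut.conj g • (P : Subgroup H)) = ⊥)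
    {L : Subgroup H} (hL : L.IsSubnormal) {y : H} (hy : orderOf y = p) (hcomm : ∀ a ∈ L, a * y = y * a) :
    L = ⊥ := by
  have hy1 : y ≠ 1 := fun h => hp.out.ne_one (by rw [← hy, h, orderOf_one])
  obtain ⟨R, hR⟩ := (IsPGroup.of_card (n := 1) (by rw [Nat.card_zpowers, hy, pow_one]) :
    IsPGroup p (zpowers y)).exists_le_sylow
  have hLR : L ≤ normalizer ((R : Subgroup H) : Set H) := fun a ha =>
    ti_conj P hTI R hy1 (hR (mem_zpowers y)) (Or.inl (by
      rw [hcomm a ha, mul_inv_cancel_right]; exact hR (mem_zpowers y)))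
  have hsub : ((L ⊓ (R : Subgroup H))).IsSubnormal := by
    have hn : (((L ⊓ (R : Subgroup H))).subgroupOf L).Normal := by
      refine ⟨fun v hv a => ?_⟩
      rw [mem_subgroupOf] at hv ⊢
      exact ⟨(a * v * a⁻¹).2, (mem_normalizer_iff.mp (hLR a.2) _).mp hv.2⟩
    exact IsSubnormal.trans inf_le_left hn.isSubnormal hL
  have hbot : L ⊓ (R : Subgroup H) = ⊥ :=
    le_bot_iff.mp (hOp ▸ CfsgLib.Cores.le_pCore_of_isSubnormal hsub (R.2.to_le inf_le_right))
  by_contra hne
  have hpd : p ∣ Nat.card L := by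
    by_contra hd
    exact hne (le_bot_iff.mp (hOp' ▸ CfsgLib.Cores.le_pPrimeCore_of_isSubnormal hL
      ((hp.out.coprime_iff_not_dvd.mpr hd).symm)))
  obtain ⟨z, hz⟩ := exists_prime_orderOf_dvd_card' p hpd
  have hzp : IsPGroup p (zpowers (z : H)) := IsPGroup.of_card (n := 1) (by
    rw [Nat.card_zpowers, orderOf_coe, hz, pow_one])
  have hzR : (z : H) ∈ (R : Subgroup H) := by
    have hsup : IsPGroup p ↥(zpowers (z : H) ⊔ (R : Subgroup H)) :=
      hzp.to_sup_of_normal_right' R.2 (zpowers_le.mpr (hLR z.2))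
    exact (R.3 hsup le_sup_right).le (mem_sup_left (mem_zpowers _))
  have hz1 : (z : H) = 1 := mem_bot.mp (hbot ▸ ⟨z.2, hzR⟩ : (z : H) ∈ (⊥ : Subgroup H))
  exact hp.out.ne_one (by rw [← hz, ← orderOf_coe, hz1, orderOf_one])

/-- Let H be a finite group with no nontrivial normal p-subgroup and no nontrivial normal subgroup of order prime to p, whose Sylow p-subgroup P is nontrivial and a trivial-intersection set (P meets its conjugates by elements outside N_H(P) trivially). Then H has a unique minimal normal subgroup N; N is non-abelian simple with trivial centralizer in H (so H embeds in Aut(N)), and a Sylow p-subgroup of N is again a nontrivial trivial-intersection set in N. -/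
theorem result {H : Type*} [Group H] [Finite H] (p : ℕ) [Fact p.Prime] (hOp : Cfsg.pCore p H = ⊥) (hOp' : Cfsg.pPrimeCore p H = ⊥) (P : Sylow p H) (hP1 : (P : Subgroup H) ≠ ⊥)
    (hTI : ∀ g : H, g ∉ Subgroup.normalizer ((P : Subgroup H) : Set H) → (P : Subgroup H) ⊓ (MulAut.conj g • (P : Subgroup H)) = ⊥) :
    ∃ N : Subgroup H, N.Normal ∧ N ≠ ⊥ ∧ (∀ K : Subgroup H, K.Normal → K ≠ ⊥ → N ≤ K) ∧
      IsSimpleGroup N ∧ ¬ IsMulCommutative N ∧ Subgroup.centralizer (N : Set H) = ⊥ ∧
      ∀ Q : Sylow p N, (Q : Subgroup N) ≠ ⊥ ∧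
        ∀ n : N, n ∉ Subgroup.normalizer ((Q : Subgroup N) : Set N) → (Q : Subgroup N) ⊓ (MulAut.conj n • (Q : Subgroup N)) = ⊥ := by

  have hnt : Nontrivial H := by
    by_contra h
    rw [not_nontrivial_iff_subsingleton] at h
    exact hP1 (Subgroup.eq_bot_of_subsingleton _)
  have hpel : ∀ L : Subgroup H, L.IsSubnormal → L ≠ ⊥ → ∃ y ∈ L, orderOf y = p := by
    intro L hL hne
    have hpd : p ∣ Nat.card L := by
      by_contra hd
      exact hne (le_bot_iff.mp (hOp' ▸ CfsgLib.Cores.le_pPrimeCore_of_isSubnormal hL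
        (((Fact.out : p.Prime).coprime_iff_not_dvd.mpr hd).symm)))
    obtain ⟨z, hz⟩ := exists_prime_orderOf_dvd_card' p hpd
    exact ⟨z, z.2, by rw [Subgroup.orderOf_coe, hz]⟩
  have hcent : ∀ L M : Subgroup H, L.IsSubnormal → M.IsSubnormal → L ≠ ⊥ →
      (∀ a ∈ M, ∀ b ∈ L, a * b = b * a) → M = ⊥ := by
    intro L M hL hM hne hc
    obtain ⟨y, hy, hyo⟩ := hpel L hL hne
    exact subnormal_centralizing_trivial hOp hOp' P hTI hM hyo fun a ha => hc a ha y hy
  obtain ⟨N, hN, hne, hmin⟩ := CfsgLib.Solvable.exists_minimal_normal (G := H)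
  have hNs : N.IsSubnormal := hN.isSubnormal
  have hCb : Subgroup.centralizer (N : Set H) = ⊥ :=
    hcent N _ hNs (Subgroup.Normal.isSubnormal inferInstance) hne fun a ha b hb =>
      (Subgroup.mem_centralizer_iff.mp ha b hb).symm
  refine ⟨N, hN, hne, fun K hK hKne => ?_, ?_, ?_, hCb, ?_⟩
  · by_contra hle
    have hinf : N ⊓ K = ⊥ := by
      by_contra h
      exact hle (((hmin _ (Subgroup.normal_inf_normal N K) inf_le_left).resolve_left h).ge.trans inf_le_right)
    exact hKne (hcent N K hNs hK.isSubnormal hne fun a ha b hb =>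
      (Subgroup.commute_of_normal_of_disjoint N K hN hK (disjoint_iff.mpr hinf) b a hb ha).eq.symm)
  · -- simplicity
    have : Nontrivial N := (Subgroup.nontrivial_iff_ne_bot N).mpr hne
    obtain ⟨K₀, hK₀, hK₀ne, hK₀min⟩ := CfsgLib.Solvable.exists_minimal_normal (G := N)
    set K := K₀.map N.subtype with hK
    have hKN : K ≤ N := Subgroup.map_subtype_le _
    have hKne : K ≠ ⊥ := fun h => hK₀ne ((Subgroup.map_eq_bot_iff_of_injective _ N.subtype_injective).mp h)
    have hKs : K.IsSubnormal := Subgroup.IsSubnormal.trans hKN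
      (by rw [hK, Subgroup.subgroupOf, Subgroup.comap_map_eq_self_of_injective N.subtype_injective]
          exact hK₀.isSubnormal) hNs
    have hKn : K.Normal := by
      refine ⟨fun v hv g => ?_⟩
      let φ : N ≃* N := MulAut.conjNormal g
      set J₀ := K₀.map φ.toMonoidHom with hJ₀
      have hJ₀n : J₀.Normal := hK₀.map _ φ.surjective
      by_cases heq : J₀ = K₀
      · obtain ⟨w, hw, rfl⟩ := hv
        refine ⟨φ w, ?_, ?_⟩
        · have : φ w ∈ J₀ := ⟨w, hw, rfl⟩
          exact heq ▸ this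
        · exact MulAut.conjNormal_apply g w
      exfalso
      have hJne : J₀ ≠ ⊥ := fun h => hK₀ne
        ((Subgroup.map_eq_bot_iff_of_injective _ φ.injective).mp h)
      have hinf : K₀ ⊓ J₀ = ⊥ := by
        by_contra h
        have hle : K₀ ≤ J₀ := ((hK₀min _ (Subgroup.normal_inf_normal K₀ J₀) inf_le_left).resolve_left h).ge.trans inf_le_right
        refine heq (Subgroup.eq_of_le_of_card_ge hle ?_).symm
        rw [hJ₀, Subgroup.card_map_of_injective (f := φ.toMonoidHom) φ.injective]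
      have hJs : (J₀.map N.subtype).IsSubnormal := Subgroup.IsSubnormal.trans (Subgroup.map_subtype_le _)
        (by rw [Subgroup.subgroupOf, Subgroup.comap_map_eq_self_of_injective N.subtype_injective]
            exact hJ₀n.isSubnormal) hNs
      have h0 := hcent K _ hKs hJs hKne (by
        rintro _ ⟨a, ha, rfl⟩ _ ⟨b, hb, rfl⟩
        exact congrArg Subtype.val
          (Subgroup.commute_of_normal_of_disjoint K₀ J₀ hK₀ hJ₀n (disjoint_iff.mpr hinf) b a hb ha).eq.symm)
      exact hJne ((Subgroup.map_eq_bot_iff_of_injective _ N.subtype_injective).mp h0)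
    have htop : K₀ = ⊤ := by
      have := (hmin K hKn hKN).resolve_left hKne
      rw [eq_top_iff]
      intro w _
      obtain ⟨w', hw', hww⟩ := this.ge w.2
      exact (Subtype.ext hww : w' = w) ▸ hw'
    refine ⟨fun J hJ => ?_⟩
    by_cases hJb : J = ⊥
    · exact Or.inl hJb
    · right
      have h1 : J ⊓ K₀ = J := by rw [htop, inf_top_eq]
      exact ((hK₀min J hJ (htop ▸ le_top)).resolve_left hJb).trans htop
  · intro hab
    refine hne (le_bot_iff.mp ?_)
    rw [← hCb]
    intro a ha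
    rw [Subgroup.mem_centralizer_iff]
    intro b hb
    exact congrArg Subtype.val (hab.is_comm.comm (⟨b, hb⟩ : N) ⟨a, ha⟩)
  · intro Q
    have hQne : (Q : Subgroup N) ≠ ⊥ := by
      intro h
      obtain ⟨y, hy, hyo⟩ := hpel N hNs hne
      refine Q.not_dvd_index ?_
      rw [h, Subgroup.index_bot, ← hyo]
      exact Subgroup.orderOf_dvd_natCard N hy
    refine ⟨hQne, fun n hn => ?_⟩
    obtain ⟨R, hR⟩ := (Q.2.map N.subtype).exists_le_sylow
    have hQR : (R : Subgroup H).subgroupOf N = (Q : Subgroup N) :=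
      Q.3 (R.2.comap_of_injective _ N.subtype_injective) (Subgroup.map_le_iff_le_comap.mp hR)
    rw [eq_bot_iff]
    intro v hv
    obtain ⟨hv1, hv2⟩ := Subgroup.mem_inf.mp hv
    by_contra hv0
    rw [Subgroup.mem_bot] at hv0
    refine hn ?_
    rw [Subgroup.mem_pointwise_smul_iff_inv_smul_mem] at hv2
    have hmem : ∀ z : N, z ∈ (Q : Subgroup N) ↔ (z : H) ∈ (R : Subgroup H) := fun z => by
      rw [← hQR, Subgroup.mem_subgroupOf]
    rw [hmem] at hv1 hv2
    have hnR := ti_conj P hTI R (y := (v : H)) (fun h => hv0 (Subtype.ext h)) hv1 (a := (n : H))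
      (Or.inr (by simpa [MulAut.smul_def] using hv2))
    rw [Subgroup.mem_normalizer_iff] at hnR ⊢
    intro z
    rw [hmem, hmem]
    simpa using hnR (z : H)


end Cfsg.Agent.S4620
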