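import Cfsg.Statements.S4625
import Cfsg.Agent.Lib.Chev.SylTwo.Minus
import Cfsg.Agent.Lib.Chev.SylTwo.Suzuki
-- import your own Cfsg.Agent.* helpers here

set_option autoImplicit false
open Cfsg
open CfsgLib.Chev.SylTwo

namespace Cfsg.Agent.S4625

/-- Let G be a finite simple group of Lie type in characteristic 2, not counting the Tits group ²F₄(2)′. Then a Sylow 2-subgroup P of G has P/P' elementary abelian: the square of every element of P lies in the derived subgroup of P. -/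
theorem result {G : Type*} [Group G] [Finite G] [IsSimpleGroup G] (hG : Cfsg.IsLieTypeChar 2 G) (P : Sylow 2 G) :
    ∀ x : (P : Subgroup G), x ^ 2 ∈ commutator (P : Subgroup G) := by
  classical
  haveI : Fact (Nat.Prime 2) := ⟨Nat.prime_two⟩
  refine SylSq.statement ?_ P
  rcases hG with h | h | h | h | h | h | h | h | h | h | h
  · obtain ⟨F, _, _, _, n, hn, -, ⟨e⟩⟩ := h
    exact (sylSq_psl hn).congr e.symm
  · obtain ⟨F, _, _, _, m, -, -, ⟨e⟩⟩ := h
    exact (sylSq_psp m).congr e.symm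
  · obtain ⟨F, _, _, _, n, q, hF, -, -, ⟨e⟩⟩ := h
    exact (sylSq_psu hF).congr e.symm
  · obtain ⟨F, _, _, _, m, -, hodd, -⟩ := h
    exfalso
    obtain ⟨k, -, hk⟩ := FiniteField.card F 2
    rw [hk, Nat.odd_pow_iff k.pos.ne'] at hodd
    exact absurd hodd (by decide)
  · obtain ⟨F, _, _, _, m, hm, ⟨e⟩⟩ := h
    exact (Plus.sylSq_pomega_plus hm).congr e.symm
  · obtain ⟨F, _, _, _, m, a, b, hm, hab, ⟨e⟩⟩ := h
    exact (Minus.sylSq_pomega_minus (by omega) hab).congr e.symm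
  · obtain ⟨F, _, _, _, ⟨-, ⟨e⟩⟩ | ⟨⟨e⟩⟩ | ⟨⟨e⟩⟩ | ⟨⟨e⟩⟩ | ⟨⟨e⟩⟩⟩ := h
    · exact (sylSq_chev (by simp)).congr e.symm
    · exact (sylSq_chev (by simp)).congr e.symm
    · exact (sylSq_chev (by simp)).congr e.symm
    · exact (sylSq_chev (by simp)).congr e.symm
    · exact (sylSq_chev (by simp)).congr e.symm
  · obtain ⟨K, _, _, _, q, hq, ⟨hK, ⟨e⟩⟩ | ⟨hK, ⟨e⟩⟩⟩ := h
    · exact (sylSq_twE6 hq hK).congr e.symm
    · exact (sylSq_twD4 hq hK).congr e.symm
  · obtain ⟨-, F, _, _, m, hm, hF, ⟨e⟩⟩ := h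
    haveI : CharP F 2 := charP_of_card_eq_prime_pow hF
    exact (sylSq_suzuki hm hF).congr e.symm
  · obtain ⟨-, K, _, _, m, hm, hK, ⟨e⟩⟩ := h
    haveI : CharP K 2 := charP_of_card_eq_prime_pow hK
    exact (sylSq_twF4 hm hK).congr e.symm
  · obtain ⟨h2, -⟩ := h
    exact absurd h2 (by norm_num)

end Cfsg.Agent.S4625
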