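import Cfsg.Statements.S4626
import Cfsg.Agent.Lib.Blocks.Orth
import Cfsg.Agent.Lib.CharNormal.Kernel
import Cfsg.Agent.Lib.CharBlocks.Degree

set_option autoImplicit false
open Cfsg

namespace Cfsg.Agent.S4626

/-- Let G be a finite group, p a prime, M a maximal ideal of the algebraic integers containing p, P a Sylow p-subgroup of G and N a normal subgroup of index prime to p containing the centralizer C_G(P). Then every irreducible character of G whose kernel contains N lies in the principal p-block of G. -/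
theorem result {G : Type*} [Group G] [Finite G] (p : ℕ) [Fact p.Prime] (M : Ideal Cfsg.AlgInt) (hM : Cfsg.IsPModular p M) (P : Sylow p G) (N : Subgroup G) [N.Normal] (hidx : ¬ p ∣ N.index)
    (hC : Subgroup.centralizer ((P : Subgroup G) : Set G) ≤ N) (χ : Cfsg.IrrCharacter G) (hker : ∀ n ∈ N, (χ : G → ℂ) n = (χ : G → ℂ) 1) :
    χ ∈ Cfsg.principalBlock M G := by
  classical
  have := Fintype.ofFinite G
  have := Fintype.ofFinite (G ⧸ N)
  have := hM.2.1
  obtain ⟨ψ, hψ, hψe⟩ := CfsgLib.CharNormal.exists_irr_eq_comp_mk' N χ.2 hker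
  have hd : ¬ p ∣ Cfsg.charDegree (χ : G → ℂ) := by
    intro h
    apply hidx
    have h1 : (χ : G → ℂ) 1 = ψ 1 := (congrFun hψe 1).symm.trans (by simp)
    rw [show Cfsg.charDegree (χ : G → ℂ) = Cfsg.charDegree ψ by
      simp [Cfsg.charDegree, h1]] at h
    exact h.trans (CfsgLib.CharBlocks.charDegree_dvd_card hψ)
  rw [CfsgLib.Blocks.principalBlock_eq]
  intro g
  have h1 : Cfsg.centralChar ((CfsgLib.Char.irrOne : Cfsg.IrrCharacter G) : G → ℂ) g =
      ((Subgroup.centralizer ({g} : Set G)).index : ℂ) := by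
    simp [Cfsg.centralChar, CfsgLib.Char.irrOne_apply]
  rw [h1]
  set n := (Subgroup.centralizer ({g} : Set G)).index with hn
  by_cases hpn : p ∣ n
  · -- both vanish modulo `M`
    let z : Cfsg.AlgInt :=
      ⟨(χ : G → ℂ) g, CfsgLib.Char.char_isIntegral (CfsgLib.Char.isCharacter_of_isIrr χ.2) g⟩
    refine ⟨(n : Cfsg.AlgInt) * (Cfsg.charDegree (χ : G → ℂ) : Cfsg.AlgInt) -
      (n : Cfsg.AlgInt) * z, (Cfsg.charDegree (χ : G → ℂ) : Cfsg.AlgInt), ?_, ?_, ?_⟩
    · rw [← mul_sub]
      exact M.mul_mem_right _ ((CfsgLib.Blocks.natCast_mem_iff hM n).mpr hpn)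
    · exact fun h => hd ((CfsgLib.Blocks.natCast_mem_iff hM _).mp h)
    · push_cast
      rw [CfsgLib.CharBlocks.coe_charDegree_irr]
      have h0 := CfsgLib.Char.irr_one_ne_zero χ.2
      simp only [Cfsg.centralChar, z, ← hn]
      field_simp
  · -- `g` is conjugate into the centraliser of `P`
    let X := {x : G // IsConj g x}
    let act : MulAction P X :=
      { smul := fun u x => ⟨(u : G) * x.1 * (u : G)⁻¹, x.2.trans (isConj_iff.mpr ⟨u, rfl⟩)⟩
        one_smul := fun x => Subtype.ext (by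
          show ((1 : (P : Subgroup G)) : G) * x.1 * ((1 : (P : Subgroup G)) : G)⁻¹ = x.1
          simp)
        mul_smul := fun u v x => Subtype.ext (by
          show ((u * v : (P : Subgroup G)) : G) * x.1 * ((u * v : (P : Subgroup G)) : G)⁻¹ =
            (u : G) * ((v : G) * x.1 * (v : G)⁻¹) * (u : G)⁻¹
          simp [mul_assoc]) }
    obtain ⟨x, hx⟩ := P.2.nonempty_fixed_point_of_prime_not_dvd_card X (by
      rw [CfsgLib.Char.card_isConj_eq_index]; exact hpn)
    have hxN : x.1 ∈ N := hC (Subgroup.mem_centralizer_iff.mpr fun u hu =>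
      mul_inv_eq_iff_eq_mul.mp (congrArg Subtype.val (hx ⟨u, hu⟩)))
    have hg : (χ : G → ℂ) g = (χ : G → ℂ) 1 :=
      (CfsgLib.Char.isClassFunction_iff.mp (CfsgLib.Char.isClassFunction_of_isIrr χ.2) g x.1
        x.2).trans (hker x.1 hxN)
    rw [show Cfsg.centralChar (χ : G → ℂ) g = (n : ℂ) by
      rw [Cfsg.centralChar, hg, ← hn, mul_div_assoc,
        div_self (CfsgLib.Char.irr_one_ne_zero χ.2), mul_one], sub_self]
    exact (CfsgLib.Blocks.res_eq_zero_iff M 0).mp (map_zero _)

end Cfsg.Agent.S4626
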