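import Cfsg.Statements.S4633
import Cfsg.Agent.Lib.BrauerPairs.CyclicDefect

set_option autoImplicit false
open Cfsg

namespace Cfsg.Agent.S4633

/-- Let B be a block of the finite group G relative to a maximal ideal M of the algebraic integers containing the prime p, with a nontrivial cyclic defect group P. Let c be a block of C_G(P) inducing B and T the stabilizer of c in N_G(P) (the elements of N_G(P) conjugating c to itself); T contains C_G(P). Then T/C_G(P) is cyclic of order dividing p − 1, and it acts freely on the non-identity elements of P: an element of T fixing some non-identity element of P under conjugation lies in C_G(P). -/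
theorem result {G : Type*} [Group G] [Finite G] (p : ℕ) [Fact p.Prime] (M : Ideal Cfsg.AlgInt) (hM : Cfsg.IsPModular p M) (B : Set (Cfsg.IrrCharacter G)) (hB : Cfsg.IsPBlock M B) (P : Subgroup G) (hPD : Cfsg.IsDefectGroup p M B P) (hP1 : P ≠ ⊥) (hcyc : IsCyclic P) (c : Set (Cfsg.IrrCharacter (Subgroup.centralizer (P : Set G)))) (hc : Cfsg.IsInducedBlock M (Subgroup.centralizer (P : Set G)) c B) (T : Subgroup G) (hT : ∀ g : G, g ∈ T ↔ (g ∈ Subgroup.normalizer (P : Set G) ∧ Cfsg.StabilizesBlock (Subgroup.centralizer (P : Set G)) c g)) [hn : ((Subgroup.centralizer (P : Set G)).subgroupOf T).Normal] : IsCyclic (T ⧸ (Subgroup.centralizer (P : Set G)).subgroupOf T) ∧ (Subgroup.centralizer (P : Set G)).relIndex T ∣ p - 1 ∧ ∀ g ∈ T, ∀ x ∈ P, x ≠ 1 → g * x * g⁻¹ = x → g ∈ Subgroup.centralizer (P : Set G) := by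
  classical
  have : M.IsMaximal := hM.2.1
  have := Fintype.ofFinite G
  have := Fintype.ofFinite (CfsgLib.BrauerPairs.Cen P)
  have hPp := CfsgLib.Blocks.IsDefectGroup.isPGroup hPD
  have hpair := (CfsgLib.BrauerPairs.brauerPairOf_iff_induced hM hPp hc.1 hB).mpr hc
  have hmax : Cfsg.IsMaximalBrauerPair p M B P c :=
    CfsgLib.BrauerPairs.isMaximal_of_card hM hpair (CfsgLib.Blocks.card_defectGroup hM hB hPD).ge
  obtain rfl : T = CfsgLib.BrauerPairs.stab M P c :=
    Subgroup.ext fun g => (hT g).trans (CfsgLib.BrauerPairs.mem_stab_iff hc.1).symm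
  obtain ⟨h1, h2⟩ := CfsgLib.BrauerPairs.cyclic_quotient hM hmax hcyc hP1
  exact ⟨h1, h2, CfsgLib.BrauerPairs.cyclic_free hM hmax hcyc⟩


end Cfsg.Agent.S4633
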