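import Cfsg.Statements.S4634
import Cfsg.Agent.Lib.Blocks.QuotientBlocks
import Mathlib.RingTheory.ZMod.UnitsCyclic
import Cfsg.Agent.Lib.CharNormal.Kernel
import Cfsg.Agent.Lib.BrauerPairs.Stable
import Cfsg.Agent.Lib.Blocks.CyclicIsometry
-- import your own Cfsg.Agent.* helpers here

set_option autoImplicit false
open Cfsg

namespace Cfsg.Agent.S4634

open CfsgLib.Blocks CfsgLib.Blocks.Cyclic CfsgLib.BrauerPairs CfsgLib.BlockArith CfsgLib.Char CfsgLib.NilBlock
open scoped ComplexConjugate Classical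

universe uu

section aux

variable {G : Type uu} [Group G] [Fintype G] {p : ℕ} [hp : Fact p.Prime] {M : Ideal AlgInt} [M.IsMaximal]

/-- A `p`-group has a single block. -/
theorem eq_univ_of_pgroup (hM : IsPModular p M) (hG : IsPGroup p G) {b : Set (IrrCharacter G)}
    (hb : IsPBlock M b) : b = Set.univ := by
  obtain ⟨χ, hχ⟩ := IsPBlock.nonempty hb
  refine Set.eq_univ_of_forall fun ψ => ?_
  rw [isPBlock_eq_blockOf hb hχ]
  refine sameBlock_of_regular hM (χ := χ) (ψ := ψ) fun g hg => ?_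
  obtain ⟨k, hk⟩ := hG g
  obtain ⟨j, -, hj⟩ := (Nat.dvd_prime_pow hp.out).mp (orderOf_dvd_of_pow_eq_one hk)
  have hg1 : g = 1 := by
    rcases Nat.eq_zero_or_pos j with h0 | h0
    · exact orderOf_eq_one_iff.mp (by rw [hj, h0, pow_zero])
    · exact absurd (hj ▸ dvd_pow_self p h0.ne') hg
  subst hg1
  have h1 : ∀ φ : IrrCharacter G, ((zomega φ (zclass M 1) : locRing M) : ℂ) = 1 := fun φ => by
    rw [coe_zomega_zclass, centralChar, show Subgroup.centralizer ({1} : Set G) = ⊤ by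
      ext z; simp [Subgroup.mem_centralizer_iff]]
    simp [irr_one_ne_zero φ.2]
  rw [bomega_apply, bomega_apply, show zomega χ (zclass M (1 : G)) = zomega ψ (zclass M 1) from
    Subtype.ext (by rw [h1, h1])]

variable {B : Set (IrrCharacter G)} {P : Subgroup G} {c : Set (IrrCharacter (Cen P))}
  {β : (y : P) → Set (IrrCharacter (Cen (Subgroup.zpowers (y : G))))}

theorem delta_of_one (S : CycData p M B P c β) (hA : Nat.card S.A = 1) (hne : P ≠ ⊥) {χ : IrrCharacter G}
    (hχ : χ ∈ S.nonexc) : S.δ χ = -S.δ₀ := by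
  obtain ⟨θ, hθ⟩ : S.Θ.Nonempty := Finset.card_pos.mp (by
    have h := S.hΘcard
    rw [hA, mul_one] at h
    rw [h]
    exact Nat.sub_pos_of_lt (Subgroup.one_lt_card_iff_ne_bot P |>.mpr hne))
  obtain ⟨χ', hX⟩ := Finset.card_eq_one.mp (S.card_nonexc.trans hA)
  obtain rfl : χ = χ' := by rw [hX] at hχ; exact Finset.mem_singleton.mp hχ
  have h := S.hreg θ hθ 1 (by rw [orderOf_one]; exact hp.out.not_dvd_one)
  rw [show Finset.univ.filter (fun χ => χ ∈ B ∧ ∀ θ ∈ S.Θ, S.η θ ≠ χ) = S.nonexc from rfl, hX,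
    Finset.sum_singleton, ← CfsgLib.CharBlocks.coe_charDegree_irr, ← CfsgLib.CharBlocks.coe_charDegree_irr] at h
  have h3 : S.δ₀ * (charDegree (S.η θ : G → ℂ) : ℤ) + S.δ χ * (charDegree (χ : G → ℂ) : ℤ) = 0 := by
    exact_mod_cast h
  have d1 := CfsgLib.CharBlocks.charDegree_pos (S.η θ).2
  have d2 := CfsgLib.CharBlocks.charDegree_pos χ.2
  rcases S.hδ₀ with e1 | e1 <;> rcases S.hδ χ with e2 | e2 <;> rw [e1, e2] at h3 ⊢ <;> omega

/-- The square norm of an orbit sum. -/
theorem sum_orb_conj (S : CycData p M B P c β) (hab : ∀ x y : P, x * y = y * x) {θ : IrrCharacter P}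
    (hθ : θ ∈ S.Θ) : ∑ y : P, CyclicOrbits.orb S.A (θ : P → ℂ) y * conj (CyclicOrbits.orb S.A (θ : P → ℂ) y) =
      (Nat.card S.A : ℂ) * Nat.card P := by
  have h1 := CyclicOrbits.classInner_orb hab S.hAfree S.hΘnt S.hΘuniq hθ hθ
  rw [if_pos rfl, classInner_def, inv_mul_eq_one₀ (Nat.cast_ne_zero.mpr Nat.card_pos.ne')] at h1
  calc ∑ y : P, CyclicOrbits.orb S.A (θ : P → ℂ) y * conj (CyclicOrbits.orb S.A (θ : P → ℂ) y)
      = ∑ a : S.A, ∑ y : P, CyclicOrbits.orb S.A (θ : P → ℂ) y * conj ((θ : P → ℂ) ((a : MulAut P) y)) := by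
        rw [Finset.sum_comm]
        exact Finset.sum_congr rfl fun y _ => by rw [← Finset.mul_sum, ← map_sum]; rfl
    _ = ∑ _a : S.A, (Nat.card P : ℂ) := Finset.sum_congr rfl fun a _ => by
        rw [Fintype.sum_equiv (a : MulAut P).toEquiv
          (fun y => CyclicOrbits.orb S.A (θ : P → ℂ) y * conj ((θ : P → ℂ) ((a : MulAut P) y)))
          (fun z => CyclicOrbits.orb S.A (θ : P → ℂ) z * conj ((θ : P → ℂ) z)) fun y => by
            show _ = CyclicOrbits.orb S.A _ ((a : MulAut P) y) * _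
            rw [CyclicOrbits.orb_inv]
            rfl]
        exact h1.symm
    _ = _ := by rw [Finset.sum_const, Finset.card_univ, nsmul_eq_mul, Nat.card_eq_fintype_card (α := S.A)]

end aux


/-- Let B be a block of the finite group G relative to a maximal ideal M of the algebraic integers containing the prime p, with a nontrivial cyclic defect group P, let c be a block of C_G(P) inducing B, T the stabilizer of c in N_G(P) and e the index of C_G(P) in T. Let F be any finite group of order #P · e having a cyclic subgroup Q of order #P that is its own centralizer (F is then the semidirect product of Q by a cyclic group of order e acting faithfully). Then there is a perfect isometry from the set of all irreducible characters of F onto B whose signs agree on all the characters of F that do not contain Q in their kernel. -/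
theorem result {G : Type*} [Group G] [Finite G] (p : ℕ) [Fact p.Prime] (M : Ideal Cfsg.AlgInt) (hM : Cfsg.IsPModular p M) (B : Set (Cfsg.IrrCharacter G)) (hB : Cfsg.IsPBlock M B) (P : Subgroup G) (hPD : Cfsg.IsDefectGroup p M B P) (hP1 : P ≠ ⊥) (hcyc : IsCyclic P) (c : Set (Cfsg.IrrCharacter (Subgroup.centralizer (P : Set G)))) (hc : Cfsg.IsInducedBlock M (Subgroup.centralizer (P : Set G)) c B) (T : Subgroup G) (hT : ∀ g : G, g ∈ T ↔ (g ∈ Subgroup.normalizer (P : Set G) ∧ Cfsg.StabilizesBlock (Subgroup.centralizer (P : Set G)) c g)) (e : ℕ) (he : (Subgroup.centralizer (P : Set G)).relIndex T = e) (F : Type*) [Group F] [Finite F] (hF : Nat.card F = Nat.card P * e) (Q : Subgroup F) (hQ : IsCyclic Q) (hQcard : Nat.card Q = Nat.card P) (hQC : Subgroup.centralizer (Q : Set F) = Q) : ∃ (I : Cfsg.IrrCharacter F → Cfsg.IrrCharacter G) (ε : Cfsg.IrrCharacter F → ℤ), Cfsg.IsPerfectIsometry p M (Set.univ : Set (Cfsg.IrrCharacter F)) B I ε ∧ ∀ η η' : Cfsg.IrrCharacter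 F, (∃ x ∈ Q, (η : F → ℂ) x ≠ (η : F → ℂ) 1) → (∃ x ∈ Q, (η' : F → ℂ) x ≠ (η' : F → ℂ) 1) → ε η = ε η' := by
  classical
  haveI := hM.2.1
  let _ := Fintype.ofFinite G
  let _ := Fintype.ofFinite F
  let _ := Fintype.ofFinite (Cen P)
  have hp : p.Prime := Fact.out
  obtain ⟨hmax, hTeq, β, hβ, ⟨S⟩⟩ := exists_cyc_setup hM hB hPD hc hcyc hP1 hT
  have heA : Nat.card S.A = e := by rw [S.hA, ← hTeq]; exact he
  have hepos : 0 < e := heA ▸ Nat.card_pos
  have hn : ((Cen P).subgroupOf (stab M P c)).Normal :=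
    (Subgroup.normal_subgroupOf_iff_le_normalizer (cen_le_stab c)).mpr fun t ht =>
      mem_normalizer_centralizer ht.1
  have hedvd : e ∣ p - 1 := by
    rw [← heA, S.hA]; exact (cyclic_quotient hM hmax hcyc hP1 (hn := hn)).2
  have hele : e ≤ p - 1 := Nat.le_of_dvd (Nat.sub_pos_of_lt hp.one_lt) hedvd
  have hep : ¬ p ∣ e := fun h => by
    have := Nat.le_of_dvd hepos h
    have := hp.two_le
    omega
  -- the subgroup `Q`
  have hQp : IsPGroup p Q :=
    IsPGroup.of_card (n := blockDefect p B) (by rw [hQcard]; exact card_defectGroup hM hB hPD)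
  have hQidx : Q.index = e := by
    have h := Subgroup.card_mul_index Q
    rw [hF, hQcard] at h
    exact Nat.eq_of_mul_eq_mul_left Nat.card_pos h
  have hQsyl : ∃ T : Sylow p F, (T : Subgroup F) = Q :=
    ⟨hQp.toSylow (hQidx ▸ hep), rfl⟩
  obtain ⟨QS, hQS⟩ := hQsyl
  haveI hsub : Subsingleton (Sylow p F) := by
    have h1 := card_sylow_modEq_one p F
    have h2 : Nat.card (Sylow p F) ∣ e := hQidx ▸ hQS ▸ QS.card_dvd_index
    have h3 := Nat.le_of_dvd hepos h2
    have h4 : 1 % p = 1 := Nat.one_mod_eq_one.mpr hp.one_lt.ne'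
    have h5 : Nat.card (Sylow p F) < p := lt_of_le_of_lt (h3.trans hele) (Nat.sub_lt hp.pos one_pos)
    rw [Nat.ModEq, Nat.mod_eq_of_lt h5, h4] at h1
    exact (Nat.card_eq_one_iff_unique.mp h1).1
  haveI hQn : Q.Normal := hQS ▸ Sylow.normal_of_subsingleton QS
  have habQ : ∀ x ∈ Q, ∀ y ∈ Q, x * y = y * x := fun a ha b hb => by
    have := hQ.commutative
    exact congrArg Subtype.val (mul_comm' (⟨a, ha⟩ : Q) ⟨b, hb⟩)
  have hQne : Q ≠ ⊥ := fun h => hP1 (Subgroup.card_eq_one.mp (hQcard ▸ Subgroup.card_eq_one.mpr h))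
  let _ := Fintype.ofFinite (Cen Q)
  have hCp : IsPGroup p (Cen Q) := hQp.to_le hQC.le
  -- one block
  have hall : ∀ b : Set (IrrCharacter F), IsPBlock M b →
      IsDefectGroup p M b Q ∧ IsInducedBlock M (Cen Q) (Set.univ : Set (IrrCharacter (Cen Q))) b := by
    intro b hb
    obtain ⟨D, hD⟩ := exists_isDefectGroup (M := M) (p := p) hb
    have hle : Q ≤ D := normal_le_defect hM hb hD hQp
    have hDQ : D = Q := hQS ▸ QS.3 (IsDefectGroup.isPGroup hD) (hQS ▸ hle)
    subst hDQ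
    obtain ⟨e', hmax'⟩ := exists_maximal_at hM hb hD
    refine ⟨hD, ?_⟩
    rw [← eq_univ_of_pgroup hM hCp hmax'.1.1.2]
    exact (brauerPairOf_iff_induced hM hQp hmax'.1.1.2 hb).mp hmax'.1
  have hbU : IsPBlock M (Set.univ : Set (IrrCharacter F)) := by
    have h1 : blockOf M ((irrOne : IrrCharacter F) : F → ℂ) = Set.univ := Set.eq_univ_of_forall fun χ => by
      rw [inducedBlock_unique _ (hall _ (isPBlock_blockOf irrOne)).2 (hall _ (isPBlock_blockOf χ)).2]
      exact mem_blockOf_self χ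
    rw [← h1]; exact isPBlock_blockOf _
  have hUC : IsPBlock M (Set.univ : Set (IrrCharacter (Cen Q))) := (hall _ hbU).2.1
  have hstab : stab M Q (Set.univ : Set (IrrCharacter (Cen Q))) = ⊤ := eq_top_iff.mpr fun t _ => by
    have hN : t ∈ Subgroup.normalizer (Q : Set F) := (Subgroup.normalizer_eq_top (H := Q)).symm ▸ Subgroup.mem_top t
    exact (mem_stab_iff hUC).mpr ⟨hN, (stabilizes_iff_forall hN).mp fun θ _ θ' _ => Set.mem_univ θ'⟩
  obtain ⟨hmax', -, β', hβ', ⟨S'⟩⟩ := exists_cyc_setup hM hbU (hall _ hbU).1 (hall _ hbU).2 hQ hQne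
    (T := stab M Q (Set.univ : Set (IrrCharacter (Cen Q)))) fun t => mem_stab_iff hUC
  have heA' : Nat.card S'.A = e := by
    rw [S'.hA, hstab, Subgroup.relIndex_top_right, show Cen Q = Q from hQC, hQidx]
  have habQ' : ∀ x y : Q, x * y = y * x := fun x y => Subtype.ext (habQ _ x.2 _ y.2)
  -- the isomorphism
  have := hcyc
  have := hQ
  let ψ : Q ≃* P := mulEquivOfCyclicCardEq hQcard
  obtain ⟨C, hCd⟩ : ∃ C : MulAut Q →* MulAut P,
      C = ⟨⟨fun a => (ψ.symm.trans a).trans ψ, MulEquiv.ext fun y => by simp⟩,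
        fun a b => MulEquiv.ext fun y => by simp⟩ := ⟨_, rfl⟩
  have hCval : ∀ a y, C a y = ψ (a (ψ.symm y)) := fun a y => by rw [hCd]; rfl
  have hAeq : S'.A.map C = S.A := by
    have hKcard : Nat.card (S'.A.map C) = e := by
      rw [← heA']
      refine Subgroup.card_map_of_injective fun a b h => MulEquiv.ext fun y => ?_
      have h1 := DFunLike.congr_fun h (ψ y)
      rw [hCval, hCval, ψ.symm_apply_apply] at h1
      exact ψ.injective h1
    by_cases he1 : e = 1
    · rw [Subgroup.card_eq_one.mp (hKcard.trans he1), Subgroup.card_eq_one.mp (heA.trans he1)]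
    have hp2 : p ≠ 2 := fun h => he1 (Nat.le_antisymm (by omega) hepos)
    have hcycA : IsCyclic (MulAut P) := by
      refine (IsCyclic.mulAutMulEquiv (G := P)).isCyclic.mpr ?_
      rw [card_defectGroup hM hB hPD]
      exact ZMod.isCyclic_units_of_prime_pow p hp hp2 _
    let _ := Fintype.ofFinite (MulAut P)
    have key : ∀ K : Subgroup (MulAut P), Nat.card K = e → ∀ a, a ∈ K ↔ a ^ e = 1 := by
      intro K hK a
      have h1 : ∀ a ∈ K, a ^ e = 1 := fun a ha => by
        have h := pow_card_eq_one' (x := (⟨a, ha⟩ : K))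
        rw [hK] at h
        exact congrArg Subtype.val h
      refine ⟨h1 a, fun ha => ?_⟩
      have hsub : (Finset.univ.filter fun a : MulAut P => a ∈ K) ⊆ Finset.univ.filter fun a => a ^ e = 1 :=
        fun a ha => Finset.mem_filter.mpr ⟨Finset.mem_univ _, h1 a (Finset.mem_filter.mp ha).2⟩
      have hc : (Finset.univ.filter fun a : MulAut P => a ∈ K).card = e := by
        rw [← Fintype.card_subtype, ← Nat.card_eq_fintype_card, ← hK]
      have heq := Finset.eq_of_subset_of_card_le hsub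
        ((IsCyclic.card_pow_eq_one_le (α := MulAut P) hepos).trans hc.ge)
      exact (Finset.mem_filter.mp (heq.ge (Finset.mem_filter.mpr ⟨Finset.mem_univ _, ha⟩))).2
    ext a
    rw [key _ hKcard, key _ heA]
  have hA : ∀ a : S.A, ∃ a' : S'.A, ∀ y, ψ ((a' : MulAut Q) y) = (a : MulAut P) (ψ y) := fun a => by
    obtain ⟨a', ha', h⟩ := hAeq.ge a.2
    exact ⟨⟨a', ha'⟩, fun y => by rw [← h, hCval, ψ.symm_apply_apply]⟩
  obtain ⟨I, ε, hI, hε, hm, hεη, hεX⟩ := exists_match S S' ψ hA (heA'.trans heA.symm)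
  refine ⟨I, ε, isPerfect_of_match hM hmax hcyc hβ S hmax' hβ' S' ψ hI hε hm, fun η η' hη hη' => ?_⟩
  have hexc : ∀ η, η ∉ S'.nonexc → ε η = S.δ₀ * S'.δ₀ := fun η h => by
    obtain ⟨θ, hθ, rfl⟩ : ∃ θ ∈ S'.Θ, S'.η θ = η := by
      by_contra h'
      push Not at h'
      exact h (S'.mem_nonexc.mpr ⟨Set.mem_univ _, h'⟩)
    exact hεη θ hθ
  by_cases he1 : e = 1
  · have : ∀ η, ε η = S.δ₀ * S'.δ₀ := fun η => by
      by_cases h : η ∈ S'.nonexc
      · obtain ⟨h1, h2⟩ := hεX η h
        rw [h2, delta_of_one S (heA.trans he1) hP1 h1, delta_of_one S' (heA'.trans he1) hQne h, neg_mul_neg]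
      · exact hexc η h
    rw [this, this]
  -- `Q` is self-centralising at each nontrivial element
  have hCy : ∀ y : Q, y ≠ 1 → Cen (Subgroup.zpowers (y : F)) = Q := fun y hy => by
    refine le_antisymm (fun t ht => ?_) fun z hz => Subgroup.mem_centralizer_iff.mpr fun v hv =>
      habQ v (Subgroup.zpowers_le.mpr y.2 hv) z hz
    obtain ⟨a, ha, hat⟩ := S'.hTA t (hstab ▸ Subgroup.mem_top t)
    have h1 : a = 1 := S'.hAfree a ha y hy (Subtype.ext (by
      rw [hat, ← Subgroup.mem_centralizer_iff.mp ht (y : F) (Subgroup.mem_zpowers _), mul_inv_cancel_right]))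
    refine hQC.le (Subgroup.mem_centralizer_iff.mpr fun z hz => ?_)
    have h2 := hat ⟨z, hz⟩
    rw [h1] at h2
    exact (eq_mul_inv_iff_mul_eq.mp h2)
  -- the modulus of the values
  have hval : ∀ (χ : IrrCharacter F) (y : Q), y ≠ 1 →
      (χ : F → ℂ) y * conj ((χ : F → ℂ) y) = S'.f χ y * conj (S'.f χ y) := by
    intro χ y hy
    have hH := hCy y hy
    let _ := Fintype.ofFinite (Cen (Subgroup.zpowers (y : F)))
    have hHp : IsPGroup p (Cen (Subgroup.zpowers (y : F))) := hQp.to_le hH.le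
    have hblk : IsPBlock M (β' y) :=
      ((brauerPairOf_iff_of_subpair hM (a := ⟨_, β' y⟩) (b := ⟨Q, _⟩) (hβ' y)).mp hmax'.1).1.2
    have hone : ¬ p ∣ orderOf (1 : Cen (Subgroup.zpowers (y : F))) := by
      rw [orderOf_one]; exact hp.not_dvd_one
    have h1 := S'.hsec y hy χ 1 hone
    have hcl : IsClassFunction (Cen (Subgroup.zpowers (y : F)))
        (fun k : Cen (Subgroup.zpowers (y : F)) => (χ : F → ℂ) ((y : F) * (k : F))) := by
      intro a b
      simp only [Subgroup.coe_mul, Subgroup.coe_inv]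
      rw [habQ _ (hH.le b.2) _ (hH.le a.2), mul_inv_cancel_right]
    rw [secH, eq_univ_of_pgroup hM hHp hblk, blockPart_apply] at h1
    have h2 := congrFun (classFun_eq_sum hcl) 1
    simp only [Finset.sum_apply, Pi.smul_apply, smul_eq_mul] at h2
    simp only [Set.mem_univ, if_true] at h1
    rw [← h2, Subgroup.coe_one, mul_one] at h1
    have h3 := S'.hw y hy
    rw [regSum_eq, Finset.sum_eq_single (1 : Cen (Subgroup.zpowers (y : F))) (fun s _ hs => by
      rw [if_pos]
      obtain ⟨k, hk⟩ := hHp s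
      obtain ⟨j, -, hj⟩ := (Nat.dvd_prime_pow hp).mp (orderOf_dvd_of_pow_eq_one hk)
      rw [hj]
      exact dvd_pow_self p fun h0 => hs (orderOf_eq_one_iff.mp (by rw [hj, h0, pow_zero]))) (by simp),
      if_neg hone, ← card_defectGroup hM hbU (hall _ hbU).1,
      show Nat.card (Cen (Subgroup.zpowers (y : F))) = Nat.card Q by rw [hH],
      div_self (Nat.cast_ne_zero.mpr Nat.card_pos.ne'), one_mul] at h3
    rw [h1, map_mul]
    linear_combination S'.f χ y * conj (S'.f χ y) * h3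
  -- the characters trivial on `Q`
  have habFQ : ∀ u v : F ⧸ Q, u * v = v * u := by
    intro u v
    obtain ⟨a, rfl⟩ := QuotientGroup.mk_surjective u
    obtain ⟨b, rfl⟩ := QuotientGroup.mk_surjective v
    rw [← QuotientGroup.mk_mul, ← QuotientGroup.mk_mul, QuotientGroup.eq]
    refine hQC.le (Subgroup.mem_centralizer_iff.mpr fun z hz => ?_)
    obtain ⟨g, hg⟩ := hQ.exists_generator
    have hcj : ∀ w : F, ∃ i : ℤ, w * (g : F) * w⁻¹ = (g : F) ^ i := fun w => by
      obtain ⟨i, hi⟩ := Subgroup.mem_zpowers_iff.mp (hg ⟨w * (g : F) * w⁻¹, hQn.conj_mem _ g.2 w⟩)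
      exact ⟨i, (congrArg Subtype.val hi).symm.trans (Subgroup.coe_zpow Q g i)⟩
    obtain ⟨i, hi⟩ := hcj a
    obtain ⟨j, hj⟩ := hcj b
    have e1 : a * b * (g : F) * (a * b)⁻¹ = b * a * (g : F) * (b * a)⁻¹ := by
      rw [show a * b * (g : F) * (a * b)⁻¹ = a * (b * (g : F) * b⁻¹) * a⁻¹ by group, hj, ← conj_zpow, hi,
        show b * a * (g : F) * (b * a)⁻¹ = b * (a * (g : F) * a⁻¹) * b⁻¹ by group, hi, ← conj_zpow, hj,
        ← zpow_mul, ← zpow_mul, mul_comm]
    have e2 : Commute ((a * b)⁻¹ * (b * a)) (g : F) := by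
      show (a * b)⁻¹ * (b * a) * (g : F) = (g : F) * ((a * b)⁻¹ * (b * a))
      calc (a * b)⁻¹ * (b * a) * (g : F) = (a * b)⁻¹ * (b * a * (g : F) * (b * a)⁻¹) * (b * a) := by group
        _ = (a * b)⁻¹ * (a * b * (g : F) * (a * b)⁻¹) * (b * a) := by rw [e1]
        _ = _ := by group
    obtain ⟨i, hi⟩ := Subgroup.mem_zpowers_iff.mp (hg ⟨z, hz⟩)
    rw [show z = (g : F) ^ i from (congrArg Subtype.val hi).symm.trans (Subgroup.coe_zpow Q g i)]
    exact (e2.zpow_right i).eq.symm
  let _ := Fintype.ofFinite (F ⧸ Q)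
  obtain ⟨L, hLd⟩ : ∃ L : Finset (IrrCharacter F),
      L = Finset.univ.filter fun χ : IrrCharacter F => ∀ n ∈ Q, (χ : F → ℂ) n = (χ : F → ℂ) 1 := ⟨_, rfl⟩
  have hLcard : L.card = e := by
    rw [hLd, ← Fintype.card_subtype, ← Nat.card_eq_fintype_card, ← Nat.card_congr (CfsgLib.CharNormal.inflEquiv Q),
      CyclicOrbits.card_irr_of_comm habFQ]
    exact hQidx
  have hηL : ∀ η : IrrCharacter F, (∃ x ∈ Q, (η : F → ℂ) x ≠ (η : F → ℂ) 1) → η ∉ L := fun η hη h => by
    rw [hLd, Finset.mem_filter] at h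
    obtain ⟨x, hx, hne⟩ := hη
    exact hne (h.2 x hx)
  by_cases ht : S'.Θ.card = 1
  · have hk : Nat.card (IrrCharacter F) = e + 1 := by
      rw [← Nat.card_univ, S'.hk, ← S'.hA, heA', ht]
    have hc : (Finset.univ \ L).card ≤ 1 := by
      rw [Finset.card_sdiff_of_subset (Finset.subset_univ _), Finset.card_univ, ← Nat.card_eq_fintype_card, hk, hLcard]
      omega
    rw [Finset.card_le_one.mp hc η (Finset.mem_sdiff.mpr ⟨Finset.mem_univ _, hηL η hη⟩) η'
      (Finset.mem_sdiff.mpr ⟨Finset.mem_univ _, hηL η' hη'⟩)]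
  have hLX : L ⊆ S'.nonexc := by
    intro χ hχ
    refine S'.mem_nonexc.mpr ⟨Set.mem_univ _, fun θ hθ heq => ht ?_⟩
    rw [hLd, Finset.mem_filter] at hχ
    have hlin : (χ : F → ℂ) 1 = 1 := by
      obtain ⟨ψ', hψ'⟩ := (CfsgLib.CharNormal.inflEquiv Q).surjective ⟨χ, hχ.2⟩
      have h := CfsgLib.CharNormal.inflEquiv_apply Q ψ' 1
      rw [hψ'] at h
      rw [h]
      exact irr_one_eq_one_of_comm habFQ ψ'.2
    have h1 : ∀ y : Q, y ≠ 1 →
        CyclicOrbits.orb S'.A (θ : Q → ℂ) y * conj (CyclicOrbits.orb S'.A (θ : Q → ℂ) y) = 1 := by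
      intro y hy
      have h := hval χ y hy
      rw [hχ.2 y y.2, hlin, map_one, one_mul, ← heq, S'.fη_orb hθ hy, map_mul, map_intCast] at h
      rcases S'.hδ₀ with h0 | h0 <;> rw [h0] at h <;> simpa using h.symm
    have h2 := sum_orb_conj S' habQ' hθ
    rw [← Finset.add_sum_erase _ _ (Finset.mem_univ (1 : Q)), CyclicOrbits.orb_one habQ',
      Finset.sum_congr rfl fun y hy => h1 y (Finset.mem_erase.mp hy).1, Finset.sum_const,
      Finset.card_erase_of_mem (Finset.mem_univ _), Finset.card_univ, nsmul_eq_mul, mul_one,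
      ← Nat.card_eq_fintype_card (α := S'.A), ← Nat.card_eq_fintype_card (α := Q), heA', map_natCast,
      ← Nat.cast_mul, ← Nat.cast_add, ← Nat.cast_mul, Nat.cast_inj] at h2
    have h3 : S'.Θ.card * e = Nat.card Q - 1 := heA' ▸ S'.hΘcard
    have h4 : Nat.card Q = S'.Θ.card * e + 1 := by
      have : 0 < Nat.card Q := Nat.card_pos
      omega
    rw [h4, Nat.add_sub_cancel] at h2
    have h5 : ((S'.Θ.card : ℤ) - 1) * ((e : ℤ) * ((e : ℤ) - 1)) = 0 := by
      have : ((e : ℤ) * e + (S'.Θ.card : ℤ) * e) = e * ((S'.Θ.card : ℤ) * e + 1) := by exact_mod_cast h2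
      linear_combination -this
    rcases mul_eq_zero.mp h5 with h | h
    · omega
    rcases mul_eq_zero.mp h with h | h <;> omega
  have hLeq : L = S'.nonexc :=
    Finset.eq_of_subset_of_card_le hLX (by rw [S'.card_nonexc, heA', hLcard])
  rw [hexc η (hLeq ▸ hηL η hη), hexc η' (hLeq ▸ hηL η' hη')]

end Cfsg.Agent.S4634
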