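import Cfsg.Statements.S4635
import Cfsg.Agent.Lib.BrauerPairs.Stable
import Cfsg.Agent.Lib.BrauerPairs.HarrisKnorr
import Cfsg.Agent.Lib.Blocks.CyclicIsometry
-- import your own Cfsg.Agent.* helpers here

set_option autoImplicit false
open Cfsg CfsgLib.Blocks CfsgLib.Blocks.Cyclic CfsgLib.BrauerPairs CfsgLib.BlockArith

namespace Cfsg.Agent.S4635

/-- Let B be a block of the finite group G relative to a maximal ideal M of the algebraic integers containing the prime p, with a nontrivial cyclic defect group P; let Z be the subgroup of order p of P and H = N_G(Z), which contains N_G(P). Let c be the block of H with defect group P that induces B. Then B and c contain the same number of irreducible characters, have the same p-regular rank, and there is a perfect isometry from c onto B. -/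
theorem result {G : Type*} [Group G] [Finite G] (p : ℕ) [Fact p.Prime] (M : Ideal Cfsg.AlgInt) (hM : Cfsg.IsPModular p M) (B : Set (Cfsg.IrrCharacter G)) (hB : Cfsg.IsPBlock M B) (P : Subgroup G) (hPD : Cfsg.IsDefectGroup p M B P) (hP1 : P ≠ ⊥) (hcyc : IsCyclic P) (Z : Subgroup G) (hZ : Z ≤ P) (hZcard : Nat.card Z = p) (H : Subgroup G) (hH : H = Subgroup.normalizer (Z : Set G)) (c : Set (Cfsg.IrrCharacter H)) (hcD : Cfsg.IsDefectGroup p M c (P.subgroupOf H)) (hc : Cfsg.IsInducedBlock M H c B) : Nat.card c = Nat.card B ∧ Cfsg.blockRank p c = Cfsg.blockRank p B ∧ ∃ (I : Cfsg.IrrCharacter H → Cfsg.IrrCharacter G) (ε : Cfsg.IrrCharacter H → ℤ), Cfsg.IsPerfectIsometry p M c B I ε := by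
  classical
  haveI := hM.2.1
  let _ := Fintype.ofFinite G
  subst hH
  let _ := Fintype.ofFinite (Subgroup.normalizer (Z : Set G))
  have hB' := hB
  have hcb := hc.1
  have hPp : IsPGroup p P := IsDefectGroup.isPGroup hPD
  have hPH : P ≤ Subgroup.normalizer (Z : Set G) := fun x hx =>
    Subgroup.centralizer_le_normalizer _ (Subgroup.mem_centralizer_iff.mpr fun z hz => by
      have := hcyc.commutative
      exact congrArg Subtype.val (mul_comm' (⟨z, hZ hz⟩ : P) ⟨x, hx⟩))
  have hNH : Subgroup.normalizer (P : Set G) ≤ Subgroup.normalizer (Z : Set G) := by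
    intro g hg
    refine Subgroup.mem_normalizer_iff_map_conj_eq.mpr ?_
    have hle : Z.map (MulAut.conj g).toMonoidHom ≤ P :=
      (Subgroup.map_mono hZ).trans (Subgroup.mem_normalizer_iff_map_conj_eq.mp hg).le
    have hcard : Nat.card (Z.map (MulAut.conj g).toMonoidHom) = p :=
      (Subgroup.card_map_of_injective (MulEquiv.injective _)).trans hZcard
    let _ := Fintype.ofFinite P
    have key : ∀ K : Subgroup G, K ≤ P → Nat.card K = p →
        ∀ k : P, (k : G) ∈ K ↔ k ^ p = 1 := by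
      intro K hKP hK k
      have h1 : ∀ k : P, (k : G) ∈ K → k ^ p = 1 := fun k hk => Subtype.ext (by
        rw [Subgroup.coe_pow, Subgroup.coe_one]
        have h := pow_card_eq_one' (x := (⟨(k : G), hk⟩ : K))
        rw [hK] at h
        exact congrArg Subtype.val h)
      refine ⟨h1 k, fun hk => ?_⟩
      have hsub : (Finset.univ.filter fun k : P => (k : G) ∈ K) ⊆ Finset.univ.filter fun k : P => k ^ p = 1 :=
        fun k hk => Finset.mem_filter.mpr ⟨Finset.mem_univ _, h1 k (Finset.mem_filter.mp hk).2⟩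
      have hc : (Finset.univ.filter fun k : P => (k : G) ∈ K).card = p := by
        rw [← Fintype.card_subtype, ← Nat.card_eq_fintype_card, ← hK]
        exact Nat.card_congr
          { toFun := fun k => ⟨(k.1 : G), k.2⟩
            invFun := fun k => ⟨⟨k, hKP k.2⟩, k.2⟩
            left_inv := fun k => rfl
            right_inv := fun k => rfl }
      have heq := Finset.eq_of_subset_of_card_le hsub
        (((IsCyclic.card_pow_eq_one_le (α := P) (n := p) (Nat.Prime.pos Fact.out)).trans hc.ge))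
      exact (Finset.mem_filter.mp (heq.ge (Finset.mem_filter.mpr ⟨Finset.mem_univ _, hk⟩))).2
    ext x
    refine ⟨fun hx => ?_, fun hx => ?_⟩
    · exact (key Z hZ hZcard ⟨x, hle hx⟩).mpr ((key _ hle hcard ⟨x, hle hx⟩).mp hx)
    · exact (key _ hle hcard ⟨x, hZ hx⟩).mpr ((key Z hZ hZcard ⟨x, hZ hx⟩).mp hx)
  obtain ⟨e', hmax'⟩ := exists_maximal_at hM hcb hcD
  have hC := cen_map_subgroupOf (P := P) hNH
  obtain ⟨g, hg, hu⟩ := exists_up (M := M) (inferInstance : Fact p.Prime) (a := ⟨_, e'⟩) hC hmax'.1.1.2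
  have hocc : br P (gidem M (Subgroup.normalizer (Z : Set G)) c) * gidem M (Cen P) g = gidem M (Cen P) g := by
    rw [show gidem M (Cen P) g = emb (Subgroup.normalizer (Z : Set G))
        (gidem M (Cen (P.subgroupOf (Subgroup.normalizer (Z : Set G)))) e') from hu.pid_eq,
      gidem_eq_emb hcb, ← emb_br (fun z => cen_iff_map hC z), ← map_mul, ← gidemTop_eq hcb,
      ((brauerPairOf_iff hM).mp hmax'.1).2.2]
  have h2 : br P (gidemTop M B) * gidem M (Cen P) g = gidem M (Cen P) g := by
    have h1 := congrArg (br P) ((induced_iff_br_occurs hM (hPp.to_le hZ) Subgroup.le_normalizer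
      (Subgroup.centralizer_le_normalizer _) le_rfl hcb hB').mp hc)
    rw [br_mul hM hPp ((isFixed_gidemTop P B).br hPH) ((centralIn_gidem c).2.mono hPH), br_br hZ] at h1
    rw [← hocc, ← mul_assoc, h1]
  have hBg : IsBrauerPairOf p M B P g := (brauerPairOf_iff hM).mpr ⟨⟨hPp, hg⟩, hB', h2⟩
  let _ := Fintype.ofFinite (Cen P)
  let _ := Fintype.ofFinite (Cen (P.subgroupOf (Subgroup.normalizer (Z : Set G))))
  obtain ⟨hmax, -, β, hβ, ⟨S⟩⟩ := exists_cyc_setup hM hB' hPD
    ((brauerPairOf_iff_induced hM hPp hg hB').mp hBg) hcyc hP1 (T := stab M P g) fun t => mem_stab_iff hg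
  let ψ := Subgroup.subgroupOfEquivOfLe hPH
  have hψ : ∀ y : P.subgroupOf (Subgroup.normalizer (Z : Set G)),
      ((ψ y : P) : G) = ((y : Subgroup.normalizer (Z : Set G)) : G) := fun y => rfl
  have hcyc' : IsCyclic (P.subgroupOf (Subgroup.normalizer (Z : Set G))) := ψ.isCyclic.mpr hcyc
  have hne' : P.subgroupOf (Subgroup.normalizer (Z : Set G)) ≠ ⊥ := fun h =>
    hP1 (disjoint_self.mp ((Subgroup.subgroupOf_eq_bot.mp h).mono_right hPH))
  obtain ⟨-, -, β', hβ', ⟨S'⟩⟩ := exists_cyc_setup hM hcb hcD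
    ((brauerPairOf_iff_induced hM hmax'.1.1.1 hmax'.1.1.2 hcb).mp hmax'.1) hcyc' hne'
    (T := stab M _ e') fun t => mem_stab_iff hmax'.1.1.2
  have hstab : stab M (P.subgroupOf (Subgroup.normalizer (Z : Set G))) e' =
      (stab M P g).subgroupOf (Subgroup.normalizer (Z : Set G)) := by
    ext t
    have hmP : (P.subgroupOf (Subgroup.normalizer (Z : Set G))).map (Subgroup.normalizer (Z : Set G)).subtype = P :=
      Subgroup.map_subgroupOf_eq_of_le hPH
    rw [Subgroup.mem_subgroupOf]
    refine and_congr ⟨fun h => ?_, fun h => ?_⟩ ?_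
    · have := Subgroup.le_normalizer_map (Subgroup.normalizer (Z : Set G)).subtype ⟨t, h, rfl⟩
      rwa [hmP] at this
    · refine Subgroup.mem_set_normalizer_iff.mpr fun k => ?_
      simp only [SetLike.mem_coe, Subgroup.mem_subgroupOf, Subgroup.coe_mul, Subgroup.coe_inv]
      exact Subgroup.mem_set_normalizer_iff.mp h (k : G)
    · show cjA t _ = _ ↔ cjA (t : G) (gidem M (Cen P) g) = _
      rw [show gidem M (Cen P) g = emb (Subgroup.normalizer (Z : Set G))
        (gidem M (Cen (P.subgroupOf (Subgroup.normalizer (Z : Set G)))) e') from hu.pid_eq, ← emb_cjA,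
        (emb_injective _).eq_iff]
  have hcen : Cen (P.subgroupOf (Subgroup.normalizer (Z : Set G))) =
      (Cen P).subgroupOf (Subgroup.normalizer (Z : Set G)) := Subgroup.ext fun t => cen_iff_map hC t
  have hle : stab M P g ≤ Subgroup.normalizer (Z : Set G) := fun t ht => hNH ht.1
  have hcardA : Nat.card S'.A = Nat.card S.A := by
    rw [S.hA, S'.hA, hstab, hcen, Subgroup.relIndex_subgroupOf hle]
  have hA : ∀ a : S.A, ∃ a' : S'.A, ∀ y, ψ ((a' : MulAut _) y) = (a : MulAut P) (ψ y) := by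
    intro a
    obtain ⟨t, ht, hat⟩ := S.hAT a a.2
    obtain ⟨a', ha', hat'⟩ := S'.hTA ⟨t, hle ht⟩ (hstab.ge (Subgroup.mem_subgroupOf.mpr ht))
    exact ⟨⟨a', ha'⟩, fun y => Subtype.ext (by rw [hat, hψ, hψ, hat']; rfl)⟩
  obtain ⟨I, ε, hI, hε, hm, -, -⟩ := exists_match S S' ψ hA hcardA
  refine ⟨?_, ?_, I, ε, isPerfect_of_match hM hmax hcyc hβ S
    (isMaximal_of_card hM hmax'.1 (card_defectGroup hM hcb hcD).ge) hβ' S' ψ hI hε hm⟩
  · have hΘ : S'.Θ.card = S.Θ.card := Nat.eq_of_mul_eq_mul_right (Nat.card_pos (α := S.A)) (by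
      rw [S.hΘcard, ← Nat.card_congr ψ.toEquiv, ← S'.hΘcard, hcardA])
    rw [S.hk, S'.hk, ← S.hA, ← S'.hA, hcardA, hΘ]
  · rw [S.hl, S'.hl, ← S.hA, ← S'.hA, hcardA]

end Cfsg.Agent.S4635
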