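import Cfsg.Statements.S4636

set_option autoImplicit false
open scoped Pointwise
open Cfsg

namespace Cfsg.Agent.S4636

theorem eq_of_card_eq_of_cyclic {A : Type*} [Group A] [Finite A] [IsCyclic A] {Y Z : Subgroup A}
    (h : Nat.card Y = Nat.card Z) : Y = Z := by
  classical
  have := Fintype.ofFinite A
  have key : ∀ W : Subgroup A,
      Finset.univ.filter (· ∈ W) = Finset.univ.filter (fun a : A => a ^ Nat.card W = 1) := by
    intro W
    refine Finset.eq_of_subset_of_card_le ?_ ?_
    · intro a ha
      simp only [Finset.mem_filter, Finset.mem_univ, true_and] at ha ⊢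
      exact congrArg Subtype.val (pow_card_eq_one' (x := (⟨a, ha⟩ : W)))
    · refine (IsCyclic.card_pow_eq_one_le (Nat.card_pos)).trans (le_of_eq ?_)
      rw [Nat.card_eq_fintype_card, Fintype.card_subtype]
  have h1 := key Y
  rw [h, ← key Z] at h1
  ext a
  simpa using Finset.ext_iff.mp h1 a

/-- Let P be a nontrivial cyclic p-subgroup of the finite group G and Z its subgroup of order p. For every x outside N_G(Z), P meets its conjugate xPx⁻¹ trivially; consequently N_G(Q) ≤ N_G(Z) for every nontrivial subgroup Q of P. -/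
theorem result {G : Type*} [Group G] [Finite G] (p : ℕ) [Fact p.Prime] (P : Subgroup G) (hP : IsPGroup p P) (hP1 : P ≠ ⊥) (hcyc : IsCyclic P) (Z : Subgroup G) (hZ : Z ≤ P) (hZcard : Nat.card Z = p) : (∀ x : G, x ∉ Subgroup.normalizer (Z : Set G) → P ⊓ MulAut.conj x • P = ⊥) ∧ ∀ Q : Subgroup G, Q ≤ P → Q ≠ ⊥ → Subgroup.normalizer (Q : Set G) ≤ Subgroup.normalizer (Z : Set G) := by
  classical
  have hprime : p.Prime := Fact.out
  -- in the cyclic group P, Z is the only subgroup of order p
  have huniq : ∀ Y : Subgroup G, Y ≤ P → Nat.card Y = p → Y = Z := by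
    intro Y hY hYc
    have := hcyc
    have e1 : Nat.card (Y.subgroupOf P) = p := by
      rw [Nat.card_congr (Subgroup.subgroupOfEquivOfLe hY).toEquiv, hYc]
    have e2 : Nat.card (Z.subgroupOf P) = p := by
      rw [Nat.card_congr (Subgroup.subgroupOfEquivOfLe hZ).toEquiv, hZcard]
    have := eq_of_card_eq_of_cyclic (e1.trans e2.symm)
    have h3 := congrArg (fun K => Subgroup.map P.subtype K) this
    simpa [Subgroup.map_subgroupOf_eq_of_le hY, Subgroup.map_subgroupOf_eq_of_le hZ] using h3
  -- every nontrivial subgroup of P contains Z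
  have hmin : ∀ K : Subgroup G, K ≤ P → K ≠ ⊥ → Z ≤ K := by
    intro K hK hK1
    have hKp : IsPGroup p K := hP.to_le hK
    obtain ⟨k, hk⟩ := IsPGroup.iff_card.mp hKp
    have hk0 : k ≠ 0 := by
      rintro rfl
      exact hK1 (Subgroup.eq_bot_of_card_eq K (by simpa using hk))
    have hdvd : p ∣ Nat.card K := hk ▸ dvd_pow_self p hk0
    obtain ⟨x, hx⟩ := exists_prime_orderOf_dvd_card' p hdvd
    have hxc : Nat.card (Subgroup.zpowers (x : G)) = p := by
      rw [Nat.card_zpowers, Subgroup.orderOf_coe, hx]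
    have hle : Subgroup.zpowers (x : G) ≤ K := Subgroup.zpowers_le.mpr x.2
    exact (huniq _ (hle.trans hK) hxc) ▸ hle
  have hcard : ∀ x : G, Nat.card (MulAut.conj x • Z : Subgroup G) = p := by
    intro x
    rw [← hZcard]
    exact (Nat.card_congr (Subgroup.equivSMul (MulAut.conj x) Z).toEquiv).symm
  have hnorm : ∀ x : G, MulAut.conj x • Z = Z → x ∈ Subgroup.normalizer (Z : Set G) := by
    intro x hx
    rw [Subgroup.mem_normalizer_iff]
    intro h
    conv_rhs => rw [← hx, Subgroup.mem_pointwise_smul_iff_inv_smul_mem]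
    simp [MulAut.smul_def, mul_assoc]
  have main : ∀ x : G, P ⊓ MulAut.conj x • P ≠ ⊥ → x ∈ Subgroup.normalizer (Z : Set G) := by
    intro x hne
    apply hnorm
    refine huniq _ ?_ (hcard x)
    have h1 : Z ≤ P ⊓ MulAut.conj x • P := hmin _ inf_le_left hne
    set K := (MulAut.conj x)⁻¹ • (P ⊓ MulAut.conj x • P) with hKdef
    have hKle : K ≤ P := by
      rw [hKdef, ← Subgroup.subset_pointwise_smul_iff]
      exact inf_le_right
    have hKne : K ≠ ⊥ := by
      intro h0
      apply hne
      have := congrArg (fun K => MulAut.conj x • K) h0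
      simpa [hKdef] using this
    have h2 := hmin K hKle hKne
    rw [hKdef, Subgroup.subset_pointwise_smul_iff, inv_inv] at h2
    exact h2.trans inf_le_left
  refine ⟨fun x hx => by_contra fun hne => hx (main x hne), fun Q hQ hQ1 g hg => main g ?_⟩
  intro h0
  apply hQ1
  rw [← le_bot_iff, ← h0]
  refine le_inf hQ ?_
  intro q hq
  rw [Subgroup.mem_pointwise_smul_iff_inv_smul_mem]
  apply hQ
  rw [Subgroup.mem_normalizer_iff] at hg
  refine (hg _).mpr ?_
  simpa [MulAut.smul_def, mul_assoc] using hq

end Cfsg.Agent.S4636
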