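import Cfsg.Statements.S4638
import Cfsg.Agent.Lib.BrauerPairs.Stable
import Cfsg.Agent.Lib.BrauerPairs.HarrisKnorr
import Cfsg.Agent.Lib.Blocks.KleinSections
-- import your own Cfsg.Agent.* helpers here

set_option autoImplicit false
open Cfsg CfsgLib.Blocks CfsgLib.Blocks.Cyclic CfsgLib.Blocks.Sections CfsgLib.BrauerPairs CfsgLib.BlockArith

namespace Cfsg.Agent.S4638

/-- Let B be a block of the finite group G relative to a maximal ideal M of the algebraic integers containing 2, with a Klein four defect group P, and let c be its Brauer correspondent: the block of N_G(P) with defect group P that induces B. Then there is a perfect isometry from c onto B. -/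
theorem result {G : Type*} [Group G] [Finite G] (M : Ideal Cfsg.AlgInt) (hM : Cfsg.IsPModular 2 M) (B : Set (Cfsg.IrrCharacter G)) (hB : Cfsg.IsPBlock M B) (P : Subgroup G) (hPD : Cfsg.IsDefectGroup 2 M B P) (hV : IsKleinFour P) (c : Set (Cfsg.IrrCharacter (Subgroup.normalizer (P : Set G)))) (hcD : Cfsg.IsDefectGroup 2 M c (P.subgroupOf (Subgroup.normalizer (P : Set G)))) (hc : Cfsg.IsInducedBlock M (Subgroup.normalizer (P : Set G)) c B) : ∃ (I : Cfsg.IrrCharacter (Subgroup.normalizer (P : Set G)) → Cfsg.IrrCharacter G) (ε : Cfsg.IrrCharacter (Subgroup.normalizer (P : Set G)) → ℤ), Cfsg.IsPerfectIsometry 2 M c B I ε := by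
  classical
  haveI := hM.2.1
  haveI := Fact.mk Nat.prime_two
  let _ := Fintype.ofFinite G
  let _ := Fintype.ofFinite (Subgroup.normalizer (P : Set G))
  have := hV
  have hcb := hc.1
  have hPp : IsPGroup 2 P := IsDefectGroup.isPGroup hPD
  have hPH : P ≤ Subgroup.normalizer (P : Set G) := Subgroup.le_normalizer
  have hab : ∀ x ∈ P, ∀ y ∈ P, x * y = y * x := fun x hx y hy => by
    have := IsKleinFour.isMulCommutative (G := P)
    exact congrArg Subtype.val (mul_comm' (⟨x, hx⟩ : P) ⟨y, hy⟩)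
  obtain ⟨e', hmax'⟩ := exists_maximal_at hM hcb hcD
  have hC := cen_map_subgroupOf (P := P) (le_refl (Subgroup.normalizer (P : Set G)))
  obtain ⟨g, hg, hu⟩ := exists_up (M := M) (inferInstance : Fact (Nat.Prime 2)) (a := ⟨_, e'⟩) hC hmax'.1.1.2
  have hocc : br P (gidem M (Subgroup.normalizer (P : Set G)) c) * gidem M (Cen P) g = gidem M (Cen P) g := by
    rw [show gidem M (Cen P) g = emb (Subgroup.normalizer (P : Set G))
        (gidem M (Cen (P.subgroupOf (Subgroup.normalizer (P : Set G)))) e') from hu.pid_eq,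
      gidem_eq_emb hcb, ← emb_br (fun z => cen_iff_map hC z), ← map_mul, ← gidemTop_eq hcb,
      ((brauerPairOf_iff hM).mp hmax'.1).2.2]
  have h2 : br P (gidemTop M B) * gidem M (Cen P) g = gidem M (Cen P) g := by
    have h1 := congrArg (br P) ((induced_iff_br_occurs hM hPp Subgroup.le_normalizer
      (Subgroup.centralizer_le_normalizer _) le_rfl hcb hB).mp hc)
    rw [br_mul hM hPp ((isFixed_gidemTop P B).br hPH) ((centralIn_gidem c).2.mono hPH), br_br le_rfl] at h1
    rw [← hocc, ← mul_assoc, h1]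
  have hBg : IsBrauerPairOf 2 M B P g := (brauerPairOf_iff hM).mpr ⟨⟨hPp, hg⟩, hB, h2⟩
  have hmax : IsMaximalBrauerPair 2 M B P g := isMaximal_of_card hM hBg (card_defectGroup hM hB hPD).ge
  let ψ := Subgroup.subgroupOfEquivOfLe hPH
  have hψ : ∀ y : P.subgroupOf (Subgroup.normalizer (P : Set G)),
      ((ψ y : P) : G) = ((y : Subgroup.normalizer (P : Set G)) : G) := fun y => rfl
  have hcard4 : Nat.card (P.subgroupOf (Subgroup.normalizer (P : Set G))) = 4 := by
    rw [Nat.card_congr ψ.toEquiv]; exact hV.card_four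
  have hV' : IsKleinFour (P.subgroupOf (Subgroup.normalizer (P : Set G))) :=
    ⟨hcard4, by rw [Monoid.exponent_eq_of_mulEquiv ψ]; exact hV.exponent_two⟩
  choose β hβ using fun y : P => (existsUnique_subpair hM (Subgroup.zpowers_le.mpr y.2) hmax.1.1).exists
  choose β' hβ' using fun y : P.subgroupOf (Subgroup.normalizer (P : Set G)) =>
    (existsUnique_subpair hM (Subgroup.zpowers_le.mpr y.2) hmax'.1.1).exists
  obtain ⟨S, hS1, hSinv, hSorth⟩ := exists_klein_sec hM hmax hV hβ
  obtain ⟨S', hS1', hSinv', hSorth'⟩ := exists_klein_sec hM hmax' hV' hβ'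
  have hB4 : (Finset.univ.filter (· ∈ B)).card = 4 := by
    rw [← Fintype.card_subtype, ← Nat.card_eq_fintype_card]; exact (klein_counts hM hmax hV).2.1
  have hc4 : (Finset.univ.filter (· ∈ c)).card = 4 := by
    rw [← Fintype.card_subtype, ← Nat.card_eq_fintype_card]; exact (klein_counts hM hmax' hV').2.1
  have hcoeB : ((Finset.univ.filter (· ∈ B) : Finset (Cfsg.IrrCharacter G)) : Set _) = B := by ext; simp
  have hcoec : ((Finset.univ.filter (· ∈ c) : Finset (Cfsg.IrrCharacter _)) : Set _) = c := by ext; simp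
  have hstab : ∀ t : Subgroup.normalizer (P : Set G),
      t ∈ stab M (P.subgroupOf (Subgroup.normalizer (P : Set G))) e' ↔ (t : G) ∈ stab M P g := by
    intro t
    have hmP : (P.subgroupOf (Subgroup.normalizer (P : Set G))).map (Subgroup.normalizer (P : Set G)).subtype = P :=
      Subgroup.map_subgroupOf_eq_of_le hPH
    refine and_congr ⟨fun h => ?_, fun h => ?_⟩ ?_
    · have := Subgroup.le_normalizer_map (Subgroup.normalizer (P : Set G)).subtype ⟨t, h, rfl⟩
      rwa [hmP] at this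
    · refine Subgroup.mem_set_normalizer_iff.mpr fun k => ?_
      simp only [SetLike.mem_coe, Subgroup.mem_subgroupOf, Subgroup.coe_mul, Subgroup.coe_inv]
      exact Subgroup.mem_set_normalizer_iff.mp h (k : G)
    · show cjA t _ = _ ↔ cjA (t : G) (gidem M (Cen P) g) = _
      rw [show gidem M (Cen P) g = emb (Subgroup.normalizer (P : Set G))
        (gidem M (Cen (P.subgroupOf (Subgroup.normalizer (P : Set G)))) e') from hu.pid_eq, ← emb_cjA,
        (emb_injective _).eq_iff]
  have hψ1 : ∀ {y : P}, y ≠ 1 → ψ.symm y ≠ 1 := fun hy h => hy (ψ.symm.injective (by rw [h, map_one]))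
  have hpts : ∀ u v : P, u ≠ 1 → v ≠ 1 → u ≠ v → u * v ≠ 1 ∧ u ≠ u * v ∧ v ≠ u * v ∧
      ∀ y : P, y ≠ 1 → y = u ∨ y = v ∨ y = u * v := by
    intro u v hu1 hv1 huv
    have h1 : u * v ≠ 1 := fun h => huv (by rw [eq_inv_of_mul_eq_one_left h, IsKleinFour.inv_eq_self])
    have h2 : u ≠ u * v := fun h => hv1 (by simpa using h.symm)
    have h3 : v ≠ u * v := fun h => hu1 (by simpa using h.symm)
    refine ⟨h1, h2, h3, fun y hy => ?_⟩
    let _ := Fintype.ofFinite P
    have hall : ({1, u, v, u * v} : Finset P) = Finset.univ := Finset.eq_univ_of_card _ (by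
      rw [← Nat.card_eq_fintype_card, hV.card_four, Finset.card_insert_of_notMem (by simp [hu1.symm, hv1.symm, h1.symm]),
        Finset.card_insert_of_notMem (by simp [huv, h2]), Finset.card_insert_of_notMem (by simpa using h3),
        Finset.card_singleton])
    have hy' : y ∈ ({1, u, v, u * v} : Finset P) := hall ▸ Finset.mem_univ y
    simpa [hy] using hy'
  suffices h : ∃ (I : Cfsg.IrrCharacter (Subgroup.normalizer (P : Set G)) → Cfsg.IrrCharacter G)
      (ε : Cfsg.IrrCharacter (Subgroup.normalizer (P : Set G)) → ℤ), Set.BijOn I c B ∧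
        (∀ η ∈ c, ε η = 1 ∨ ε η = -1) ∧
        ∀ η ∈ c, ∀ y : P, y ≠ 1 → (ε η : ℂ) * S.f (I η) y = S'.f η (ψ.symm y) by
    obtain ⟨I, ε, hI, hε, hm⟩ := h
    have hab' : ∀ x ∈ P.subgroupOf (Subgroup.normalizer (P : Set G)),
        ∀ y ∈ P.subgroupOf (Subgroup.normalizer (P : Set G)), x * y = y * x := fun x hx y hy =>
      Subtype.ext (hab _ hx _ hy)
    refine ⟨I, ε, isPerfect_of_sections hM hmax hab hβ S hmax' hβ' S' ψ hI hε fun η hη y hy => ?_⟩
    rw [hm η hη (ψ y) (fun h => hy (ψ.injective (by rw [h, map_one]))), ψ.symm_apply_apply]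
  have hNe : Nonempty (Cfsg.IrrCharacter G) := ⟨CfsgLib.Char.irrOne⟩
  by_cases hfix : ∀ y : P, y ≠ 1 → ∀ t ∈ stab M P g, t * (y : G) * t⁻¹ = y
  · -- trivial action
    obtain ⟨u, hu1⟩ : ∃ u : P, u ≠ 1 := by
      have : Nontrivial P := Finite.one_lt_card_iff_nontrivial.mp (by rw [hV.card_four]; norm_num)
      exact exists_ne 1
    obtain ⟨v, hv⟩ : ∃ v : P, v ∉ ({1, u} : Finset P) := by
      by_contra! h
      let _ := Fintype.ofFinite P
      have h1 := Finset.card_le_card (show (Finset.univ : Finset P) ⊆ {1, u} from fun z _ => h z)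
      rw [Finset.card_univ, ← Nat.card_eq_fintype_card, hV.card_four] at h1
      have := (Finset.card_insert_le (1 : P) {u})
      rw [Finset.card_singleton] at this
      omega
    simp only [Finset.mem_insert, Finset.mem_singleton, not_or] at hv
    obtain ⟨hw1, huw, hvw, hcov⟩ := hpts u v hu1 hv.1 (Ne.symm hv.2)
    have ho : ∀ a b : P, a ≠ 1 → b ≠ 1 → a ≠ b →
        (∑ χ ∈ Finset.univ.filter (· ∈ B), S.f χ a * S.f χ b = 0) ∧
        ∑ η ∈ Finset.univ.filter (· ∈ c), S'.f η (ψ.symm a) * S'.f η (ψ.symm b) = 0 := by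
      intro a b ha hb hne
      refine ⟨hSorth a b ha hb fun t ht h => hne (Subtype.ext (by rw [h, hfix a ha t ht])),
        hSorth' _ _ (hψ1 ha) (hψ1 hb) fun t ht h => hne (Subtype.ext ?_)⟩
      have h' := congrArg Subtype.val h
      simp only [Subgroup.coe_mul, Subgroup.coe_inv, ← hψ, ψ.apply_symm_apply] at h'
      rw [h', hfix a ha _ ((hstab t).mp ht)]
    obtain ⟨I, ε, hI, hε, hm⟩ := exists_match_orth _ _ hB4 hc4 (fun χ => S.f χ u) (fun χ => S.f χ v)
      (fun χ => S.f χ (u * v)) (fun η => S'.f η (ψ.symm u)) (fun η => S'.f η (ψ.symm v))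
      (fun η => S'.f η (ψ.symm (u * v)))
      (fun χ hχ => have h := (Finset.mem_filter.mp hχ).2
        ⟨hS1 χ h u hu1, hS1 χ h v hv.1, hS1 χ h _ hw1⟩)
      (fun η hη => have h := (Finset.mem_filter.mp hη).2
        ⟨hS1' η h _ (hψ1 hu1), hS1' η h _ (hψ1 hv.1), hS1' η h _ (hψ1 hw1)⟩)
      (ho u v hu1 hv.1 (Ne.symm hv.2)).1 (ho u _ hu1 hw1 huw).1 (ho v _ hv.1 hw1 hvw).1
      (ho u v hu1 hv.1 (Ne.symm hv.2)).2 (ho u _ hu1 hw1 huw).2 (ho v _ hv.1 hw1 hvw).2
    rw [hcoec, hcoeB] at hI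
    refine ⟨I, ε, hI, fun η hη => hε η (Finset.mem_filter.mpr ⟨Finset.mem_univ _, hη⟩), fun η hη y hy => ?_⟩
    obtain ⟨m1, m2, m3⟩ := hm η (Finset.mem_filter.mpr ⟨Finset.mem_univ _, hη⟩)
    rcases hcov y hy with rfl | rfl | rfl <;> assumption
  · -- one orbit
    push Not at hfix
    obtain ⟨u, hu1, t, ht, hmove⟩ := hfix
    have htN := Subgroup.mem_set_normalizer_iff.mp ht.1
    obtain ⟨φ, hφ⟩ : ∃ φ : P → P, ∀ y : P, ((φ y : P) : G) = t * (y : G) * t⁻¹ :=
      ⟨fun y => ⟨_, (htN y).mp y.2⟩, fun y => rfl⟩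
    have hφinj : Function.Injective φ := fun a b h => by
      have := congrArg Subtype.val h
      rw [hφ, hφ] at this
      exact Subtype.ext (by simpa using this)
    have hφ1 : ∀ y : P, y ≠ 1 → φ y ≠ 1 := fun y hy h => hy (Subtype.ext (conj_eq_one_iff.mp
      ((hφ y).symm.trans (congrArg Subtype.val h))))
    have hne : u ≠ φ u := fun h => hmove (by rw [← hφ, ← h])
    obtain ⟨hw1, huw, hvw, hcov⟩ := hpts u (φ u) hu1 (hφ1 u hu1) hne
    -- the action has odd order
    have hnot : φ (φ u) ≠ u := by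
      intro h2'
      have hn : ((Cen P).subgroupOf (stab M P g)).Normal :=
        (Subgroup.normal_subgroupOf_iff_le_normalizer (cen_le_stab g)).mpr fun t ht =>
          mem_normalizer_centralizer ht.1
      have hsq : t ^ 2 ∈ Cen P := by
        refine Subgroup.mem_centralizer_iff.mpr fun z hz => ?_
        have hfix2 : ∀ y : P, φ (φ y) = y := by
          intro y
          have hm : ∀ a b : P, φ (a * b) = φ a * φ b := fun a b => Subtype.ext (by
            rw [hφ, Subgroup.coe_mul, Subgroup.coe_mul, hφ, hφ]; group)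
          have h0 : φ 1 = 1 := Subtype.ext (by rw [hφ]; simp)
          by_cases hy : y = 1
          · rw [hy, h0, h0]
          rcases hcov y hy with rfl | rfl | rfl
          · exact h2'
          · rw [h2']
          · rw [hm, hm, h2']
        have h3 := congrArg Subtype.val (hfix2 ⟨z, hz⟩)
        rw [hφ, hφ] at h3
        replace h3 : t * (t * z * t⁻¹) * t⁻¹ = z := h3
        have h4 : t ^ 2 * z * (t ^ 2)⁻¹ = z := by
          rw [show t ^ 2 * z * (t ^ 2)⁻¹ = t * (t * z * t⁻¹) * t⁻¹ by rw [pow_two]; group, h3]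
        exact (mul_inv_eq_iff_eq_mul.mp h4).symm
      have hodd := not_dvd_relIndex_stab hM hmax hab
      obtain ⟨i, hi⟩ : ∃ i, (Cen P).relIndex (stab M P g) = 2 * i + 1 :=
        ⟨(Cen P).relIndex (stab M P g) / 2, by omega⟩
      have hpow : t ^ (Cen P).relIndex (stab M P g) ∈ Cen P := by
        have h5 := Subgroup.pow_index_mem ((Cen P).subgroupOf (stab M P g)) (⟨t, ht⟩ : stab M P g)
        simpa [Subgroup.mem_subgroupOf, Subgroup.relIndex] using h5
      rw [hi, pow_succ, pow_mul] at hpow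
      have htC : t ∈ Cen P := (Subgroup.mul_mem_cancel_left _ (pow_mem hsq i)).mp hpow
      exact hmove (by rw [← Subgroup.mem_centralizer_iff.mp htC (u : G) u.2, mul_inv_cancel_right])
    have h3 : φ (φ u) = u * φ u := by
      rcases hcov _ (hφ1 _ (hφ1 u hu1)) with h | h | h
      · exact absurd h hnot
      · exact absurd (hφinj h).symm hne
      · exact h
    have hconst : ∀ χ, ∀ y : P, y ≠ 1 → S.f χ y = S.f χ u := fun χ y hy => by
      have e1 := hSinv u (φ u) hu1 t ht (hφ u) χ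
      rcases hcov y hy with rfl | rfl | rfl
      · rfl
      · exact e1
      · rw [← h3, hSinv (φ u) (φ (φ u)) (hφ1 u hu1) t ht (hφ _) χ, e1]
    have hconst' : ∀ η, ∀ y : P, y ≠ 1 → S'.f η (ψ.symm y) = S'.f η (ψ.symm u) := fun η y hy => by
      have step : ∀ a : P, a ≠ 1 → S'.f η (ψ.symm (φ a)) = S'.f η (ψ.symm a) := fun a ha =>
        hSinv' _ _ (hψ1 ha) ⟨t, ht.1⟩ ((hstab _).mpr ht) (Subtype.ext (by
          simp only [Subgroup.coe_mul, Subgroup.coe_inv, ← hψ, ψ.apply_symm_apply, hφ])) η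
      rcases hcov y hy with rfl | rfl | rfl
      · rfl
      · exact step u hu1
      · rw [← h3, step _ (hφ1 u hu1), step u hu1]
    obtain ⟨τ⟩ : Nonempty (c ≃ B) := ⟨(Fintype.equivOfCardEq (by
      rw [Fintype.card_subtype, Fintype.card_subtype, hc4, hB4]))⟩
    obtain ⟨I, hI⟩ : ∃ I : Cfsg.IrrCharacter (Subgroup.normalizer (P : Set G)) → Cfsg.IrrCharacter G,
        ∀ η (h : η ∈ c), I η = τ ⟨η, h⟩ :=
      ⟨fun η => if h : η ∈ c then τ ⟨η, h⟩ else CfsgLib.Char.irrOne, fun η h => dif_pos h⟩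
    refine ⟨I, fun η => if S.f (I η) u = S'.f η (ψ.symm u) then 1 else -1, ⟨fun η hη => ?_, ?_, ?_⟩,
      fun η _ => by beta_reduce; split_ifs <;> simp, fun η hη y hy => ?_⟩
    · rw [hI η hη]; exact (τ ⟨η, hη⟩).2
    · intro η₁ h₁ η₂ h₂ he
      rw [hI η₁ h₁, hI η₂ h₂] at he
      exact congrArg Subtype.val (τ.injective (Subtype.ext he))
    · intro χ hχ
      refine ⟨τ.symm ⟨χ, hχ⟩, (τ.symm ⟨χ, hχ⟩).2, ?_⟩
      rw [hI _ (τ.symm ⟨χ, hχ⟩).2, Subtype.coe_eta, τ.apply_symm_apply]
    · have hIB : I η ∈ B := by rw [hI η hη]; exact (τ ⟨η, hη⟩).2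
      rw [hconst _ y hy, hconst' η y hy]
      rcases hS1 _ hIB u hu1 with h | h <;> rcases hS1' η hη _ (hψ1 hu1) with h' | h' <;>
        simp [h, h'] <;> norm_num

end Cfsg.Agent.S4638
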