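import Cfsg.Statements.S4641
import Cfsg.Agent.Lib.Modular.Lifting
import Cfsg.Agent.Lib.Modular.Pim
import Cfsg.Agent.Lib.Blocks.BlockDim
import Cfsg.Agent.Lib.BlockArith.RegCoef

set_option autoImplicit false
open Cfsg

namespace Cfsg.Agent.S4641

open CfsgLib.Blocks CfsgLib.Modular CfsgLib.Char CfsgLib.BlockArith

theorem block_degree_gcd {G : Type*} [Group G] [Fintype G] {p : ℕ} [hp : Fact p.Prime] {M : Ideal AlgInt}
    [M.IsMaximal] (hM : IsPModular p M) {B : Set (IrrCharacter G)} (hB : IsPBlock M B) {D : Subgroup G}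
    (hD : IsDefectGroup p M B D) (a d : ℕ) (ha : (Nat.card G).factorization p = a) (hd : Nat.card D = p ^ d)
    (g : ℕ) (hg1 : ∀ χ ∈ B, g ∣ charDegree (χ : G → ℂ))
    (hg2 : ∀ g' : ℕ, (∀ χ ∈ B, g' ∣ charDegree (χ : G → ℂ)) → g' ∣ g) :
    g.factorization p = a - d ∧ ∃ v : ℕ, 0 < v ∧ ¬ p ∣ v ∧ blockRank p B ≤ v ∧
      ∑ᶠ χ ∈ B, charDegree (χ : G → ℂ) ^ 2 = p ^ (2 * a - d) * (g / p ^ (a - d)) ^ 2 * v := by
  classical
  have hdd : blockDefect p B = d := by
    have h := card_defectGroup hM hB hD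
    rw [hd] at h
    exact (Nat.pow_right_injective hp.out.two_le h).symm
  have hda : d ≤ a := by rw [← hdd, ← ha]; exact blockDefect_le
  obtain ⟨χ₀, h₀, hh₀⟩ := exists_height_zero hM hB
  have hfac : ∀ χ ∈ B, (charDegree (χ : G → ℂ)).factorization p = a - d + blockHeight p B (χ : G → ℂ) := by
    intro χ hχ
    have := degree_height hM hB hχ
    rw [hdd, ha] at this
    omega
  have hpd : p ^ (a - d) ∣ g := hg2 _ fun χ hχ =>
    (pow_dvd_pow p (by rw [hfac χ hχ]; exact Nat.le_add_right _ _)).trans (Nat.ordProj_dvd _ p)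
  have hg0 : g ≠ 0 := fun h => charDegree_ne_zero χ₀ (Nat.eq_zero_of_zero_dvd (h ▸ hg1 χ₀ h₀))
  have hgf : g.factorization p = a - d := by
    refine le_antisymm ?_ ((hp.out.pow_dvd_iff_le_factorization hg0).mp hpd)
    have h1 := (Nat.factorization_le_iff_dvd hg0 (charDegree_ne_zero χ₀)).mpr (hg1 χ₀ h₀) p
    rw [hfac χ₀ h₀, hh₀, add_zero] at h1
    exact h1
  refine ⟨hgf, ?_⟩
  set g' := g / p ^ (a - d) with hg'
  have hgg : g = p ^ (a - d) * g' := (Nat.mul_div_cancel' hpd).symm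
  have hg'p : ¬ p ∣ g' := by
    rw [hg', ← hgf]; exact Nat.not_dvd_ordCompl hp.out hg0
  have hphi : ∀ φ ∈ ibrOf hM B, ∃ m : ℕ, 0 < m ∧ g ∣ m ∧ φ 1 = (m : ℂ) := by
    intro φ hφ
    obtain ⟨m, hm, hm'⟩ := ibr_one_pos hM (ibrOf_subset hM B hφ)
    refine ⟨m, hm, ?_, hm'⟩
    obtain ⟨c, hc⟩ := exists_int_combination hM hB hφ
    have h1 := congrFun hc 1
    rw [hm', Finset.sum_apply] at h1
    have h2 : (m : ℤ) = ∑ χ ∈ Finset.univ.filter (· ∈ B), c χ * (charDegree (χ : G → ℂ) : ℤ) := by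
      have h3 : (m : ℂ) = ((∑ χ ∈ Finset.univ.filter (· ∈ B), c χ * (charDegree (χ : G → ℂ) : ℤ) : ℤ) : ℂ) := by
        rw [h1, Int.cast_sum]
        refine Finset.sum_congr rfl fun χ _ => ?_
        rw [Pi.smul_apply, smul_eq_mul, pRegularPart_apply, if_neg (by rw [orderOf_one]; exact hp.out.not_dvd_one),
          Int.cast_mul, Int.cast_natCast, CfsgLib.CharBlocks.coe_charDegree_irr]
      exact_mod_cast h3
    exact Int.natCast_dvd_natCast.mp (h2 ▸ Finset.dvd_sum fun χ hχ =>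
      Dvd.dvd.mul_left (Int.natCast_dvd_natCast.mpr (hg1 χ (Finset.mem_filter.mp hχ).2)) _)
  let Φn : (G → ℂ) → ℕ := fun φ => ∑ χ : IrrCharacter G, dnum hM χ φ * charDegree (χ : G → ℂ)
  have hPhi : ∀ φ ∈ ibrOf hM B, 0 < Φn φ ∧ p ^ a * g' ∣ Φn φ := by
    intro φ hφ
    obtain ⟨n, hn, hpn, hn'⟩ := pim_one hM (ibrOf_subset hM B hφ)
    have hΦ : Φn φ = n := by
      simp only [pim, Finset.sum_apply, Pi.smul_apply, smul_eq_mul, ← CfsgLib.CharBlocks.coe_charDegree_irr] at hn'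
      exact_mod_cast hn'
    rw [ha] at hpn
    refine ⟨hΦ ▸ hn, Nat.Coprime.mul_dvd_of_dvd_of_dvd
      ((hp.out.coprime_iff_not_dvd.mpr hg'p).pow_left a) (hΦ ▸ hpn) ?_⟩
    refine (Dvd.intro_left _ hgg.symm).trans (Finset.dvd_sum fun χ _ => ?_)
    by_cases hχ : χ ∈ B
    · exact Dvd.dvd.mul_left (hg1 χ hχ) _
    · rw [dnum_eq_zero_of_notMem hM hB hφ hχ, zero_mul]; exact dvd_zero _
  choose! m hm0 hmd hm using hphi
  let w : (G → ℂ) → ℕ := fun φ => (m φ / g) * (Φn φ / (p ^ a * g'))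
  have hterm : ∀ φ ∈ ibrOf hM B, m φ * Φn φ = p ^ (2 * a - d) * g' ^ 2 * w φ := by
    intro φ hφ
    have e1 : g * (m φ / g) = m φ := Nat.mul_div_cancel' (hmd φ hφ)
    have e2 : p ^ a * g' * (Φn φ / (p ^ a * g')) = Φn φ := Nat.mul_div_cancel' (hPhi φ hφ).2
    conv_lhs => rw [← e1, ← e2, hgg]
    rw [show 2 * a - d = (a - d) + a by omega, pow_add]
    simp only [w]
    rw [hgg]
    ring
  have hw : ∀ φ ∈ ibrOf hM B, 1 ≤ w φ := by
    intro φ hφ
    refine Nat.pos_of_ne_zero fun h0 => ?_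
    have := hterm φ hφ
    rw [h0, mul_zero] at this
    exact (Nat.mul_pos (hm0 φ hφ) (hPhi φ hφ).1).ne' this
  have hsum : ∑ᶠ χ ∈ B, charDegree (χ : G → ℂ) ^ 2 =
      p ^ (2 * a - d) * g' ^ 2 * ∑ φ ∈ ibrOf hM B, w φ := by
    rw [Finset.mul_sum, ← Finset.sum_congr rfl hterm, finsum_mem_eq_finite_toFinset_sum _ (Set.toFinite _)]
    simp only [Φn, Finset.mul_sum]
    rw [Finset.sum_comm, ← Finset.sum_subset (Finset.subset_univ (Set.toFinite B).toFinset)]
    · refine Finset.sum_congr rfl fun χ hχ => ?_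
      have hχB : χ ∈ B := (Set.Finite.mem_toFinset _).mp hχ
      have h1 := congrFun (regPart_eq_block hM hχB) 1
      rw [pRegularPart_apply, if_neg (by rw [orderOf_one]; exact hp.out.not_dvd_one)] at h1
      have h2 : charDegree (χ : G → ℂ) = ∑ φ ∈ ibrOf hM B, dnum hM χ φ * m φ := by
        have h3 : (charDegree (χ : G → ℂ) : ℂ) = ((∑ φ ∈ ibrOf hM B, dnum hM χ φ * m φ : ℕ) : ℂ) := by
          rw [CfsgLib.CharBlocks.coe_charDegree_irr, h1, Finset.sum_apply, Nat.cast_sum]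
          exact Finset.sum_congr rfl fun φ hφ => by
            rw [Pi.smul_apply, smul_eq_mul, Nat.cast_mul, hm φ hφ]
        exact_mod_cast h3
      rw [sq]
      conv_lhs => arg 1; rw [h2]
      rw [Finset.sum_mul]
      exact Finset.sum_congr rfl fun φ _ => by ring
    · intro χ _ hχ
      refine Finset.sum_eq_zero fun φ hφ => ?_
      rw [dnum_eq_zero_of_notMem hM hB hφ (fun h => hχ ((Set.Finite.mem_toFinset _).mpr h)), zero_mul, mul_zero]
  have hS := exists_sum_sq hM hB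
  rw [ha, hdd, hsum] at hS
  have hv0 : ∑ φ ∈ ibrOf hM B, w φ ≠ 0 := fun h => hS.2 (by rw [h, mul_zero])
  refine ⟨_, Nat.pos_of_ne_zero hv0, fun hdv => ?_, ?_, hsum⟩
  · have hg'0 : g' ≠ 0 := fun h => hg'p (h ▸ dvd_zero p)
    have h1 := hS.1
    rw [Nat.factorization_mul (mul_ne_zero (pow_ne_zero _ hp.out.ne_zero) (pow_ne_zero _ hg'0)) hv0,
      Nat.factorization_mul (pow_ne_zero _ hp.out.ne_zero) (pow_ne_zero _ hg'0), Finsupp.add_apply,
      Finsupp.add_apply, hp.out.factorization_pow, Finsupp.single_eq_same, Nat.factorization_pow,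
      Finsupp.smul_apply, Nat.factorization_eq_zero_of_not_dvd hg'p, smul_zero, add_zero] at h1
    have h2 := hp.out.factorization_pos_of_dvd hv0 hdv
    omega
  · rw [blockRank_eq_card hM hB, Finset.card_eq_sum_ones]
    exact Finset.sum_le_sum hw


/-- Let B be a block of the finite group G relative to a maximal ideal M of the algebraic integers containing the prime p, let p^a be the p-part of the order of G and p^d the order of a defect group D of B, and let g be the greatest common divisor of the degrees of the members of B. Then the p-part of g is exactly p^(a−d), and writing g = p^(a−d)·u there is a positive integer v, prime to p and at least the p-regular rank of B (its number of irreducible Brauer characters), with Σ_{χ ∈ B} χ(1)² = p^(2a−d)·u²·v. -/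
theorem result {G : Type*} [Group G] [Finite G] (p : ℕ) [Fact p.Prime] (M : Ideal Cfsg.AlgInt) (hM : Cfsg.IsPModular p M) (B : Set (Cfsg.IrrCharacter G)) (hB : Cfsg.IsPBlock M B) (D : Subgroup G) (hD : Cfsg.IsDefectGroup p M B D) (a d : ℕ) (ha : (Nat.card G).factorization p = a) (hd : Nat.card D = p ^ d) (g : ℕ) (hg1 : ∀ χ ∈ B, g ∣ Cfsg.charDegree (χ : G → ℂ)) (hg2 : ∀ g' : ℕ, (∀ χ ∈ B, g' ∣ Cfsg.charDegree (χ : G → ℂ)) → g' ∣ g) : g.factorization p = a - d ∧ ∃ v : ℕ, 0 < v ∧ ¬ p ∣ v ∧ Cfsg.blockRank p B ≤ v ∧ ∑ᶠ χ ∈ B, Cfsg.charDegree (χ : G → ℂ) ^ 2 = p ^ (2 * a - d) * (g / p ^ (a - d)) ^ 2 * v := by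
  have : M.IsMaximal := hM.2.1
  have := Fintype.ofFinite G
  exact block_degree_gcd hM hB hD a d ha hd g hg1 hg2


end Cfsg.Agent.S4641
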