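import Cfsg.Statements.S4642
import Cfsg.Agent.Lib.Modular.PrincipalType

set_option autoImplicit false
open Cfsg

namespace Cfsg.Agent.S4642

/-- Let G be a finite group, p a prime, M a maximal ideal of the algebraic integers containing p, K the largest normal subgroup of G of order prime to p, and L the preimage in G of the largest normal p-subgroup of G/K. Let Q be a Sylow p-subgroup of L and suppose C_G(Q) ≤ L. Let θ be an irreducible character of K invariant under conjugation by every element of G, and let B be the set of irreducible characters of G whose restriction to K contains θ. Then B is a block of G, every Sylow p-subgroup of G is a defect group of B, and B is of principal type: for every p-subgroup R of G exactly one block of C_G(R) induces B. -/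
theorem result {G : Type*} [Group G] [Fintype G] (p : ℕ) [Fact p.Prime] (M : Ideal Cfsg.AlgInt) (hM : Cfsg.IsPModular p M) (K : Subgroup G) (hK : K = Cfsg.pPrimeCore p G) [Fintype K] (L : Subgroup G) (hL : L = Cfsg.pPrimePCore p G) (Q : Subgroup G) (hQL : Q ≤ L) (hQp : IsPGroup p Q) (hQS : ¬ p ∣ Q.relIndex L) (hCQ : Subgroup.centralizer (Q : Set G) ≤ L) (θ : Cfsg.IrrCharacter K) (hθ : ∀ g : G, Cfsg.IsConjCharOf K g (θ : K → ℂ) (θ : K → ℂ)) (B : Set (Cfsg.IrrCharacter G)) (hBdef : ∀ χ : Cfsg.IrrCharacter G, χ ∈ B ↔ Cfsg.classInner (fun k : K => (χ : G → ℂ) k) (θ : K → ℂ) ≠ 0) : Cfsg.IsPBlock M B ∧ (∀ S : Sylow p G, Cfsg.IsDefectGroup p M B S) ∧ ∀ R : Subgroup G, IsPGroup p R → ∃! f : Set (Cfsg.IrrCharacter (Subgroup.centralizer (R : Set G))), Cfsg.IsInducedBlock M (Subgroup.centralizer (R : Set G)) f B := by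
  classical
  have : M.IsMaximal := hM.2.1
  subst hK hL
  have hinv : ∀ g : G, CfsgLib.CharNormal.conjFun (pPrimeCore p G) g (θ : pPrimeCore p G → ℂ) = θ :=
    fun g => funext fun n => hθ g n ⟨g * n * g⁻¹, (inferInstance : (pPrimeCore p G).Normal).conj_mem n n.2 g⟩ rfl
  have : (pPrimePCore p G).Normal := CfsgLib.Cores.pPrimePCore_normal
  let _ : Fintype (pPrimePCore p G) := Fintype.ofFinite _
  have h := CfsgLib.Modular.isOverSetup_core hinv hQL hQp hCQ
  obtain rfl : B = {χ : IrrCharacter G |
      classInner (fun k : pPrimeCore p G => (χ : G → ℂ) k) (θ : pPrimeCore p G → ℂ) ≠ 0} := Set.ext hBdef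
  refine ⟨h.isPBlock_over hM, (h.isDefectGroup_over hM).1, fun R hR => ?_⟩
  refine CfsgLib.Modular.existsUnique_pair_core hM hinv ?_ hR
  have hQ' : IsPGroup p (Q.subgroupOf (pPrimePCore p G)) := hQp.comap_subtype
  let S : Sylow p (pPrimePCore p G) := hQ'.toSylow hQS
  have hSQ : (S : Subgroup (pPrimePCore p G)) = Q.subgroupOf (pPrimePCore p G) := IsPGroup.toSylow_coe hQ' hQS
  rw [← CfsgLib.Cores.map_mk'_sylow_pPrimePCore S,
    ← CfsgLib.Cores.map_mk'_centralizer_of_coprime (S.2.map _) (CfsgLib.Cores.coprime_card_pPrimeCore p)]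
  rw [show (S : Subgroup (pPrimePCore p G)).map (pPrimePCore p G).subtype = Q by
    rw [hSQ, Subgroup.map_subgroupOf_eq_of_le hQL]]
  refine le_trans (Subgroup.map_mono hCQ) ?_
  rw [CfsgLib.Cores.map_mk'_pPrimePCore]
  rw [← CfsgLib.Cores.map_mk'_sylow_pPrimePCore S, hSQ, Subgroup.map_subgroupOf_eq_of_le hQL]


end Cfsg.Agent.S4642
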