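import Cfsg.Statements.S4644
import Cfsg.Agent.Lib.Star.Fixed
import Cfsg.Agent.Lib.BrauerPairs.InducedIn

set_option autoImplicit false
open Cfsg

namespace Cfsg.Agent.S4644

/-- Let B be a block of the finite group G relative to a maximal ideal M of the algebraic integers containing the prime p, with a commutative defect group P; let c be a block of C_G(P) inducing B and T the stabilizer of c in N_G(P). Let u be an element of P fixed under conjugation by every element of T, H = C_G(u) (so C_G(P) ≤ H), and f the block of H induced by c inside H. Then B and f have the same p-regular rank and the same number of irreducible characters. -/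
theorem result {G : Type*} [Group G] [Finite G] (p : ℕ) [Fact p.Prime] (M : Ideal Cfsg.AlgInt) (hM : Cfsg.IsPModular p M) (B : Set (Cfsg.IrrCharacter G)) (hB : Cfsg.IsPBlock M B) (P : Subgroup G) (hPD : Cfsg.IsDefectGroup p M B P) (hPab : ∀ x ∈ P, ∀ y ∈ P, x * y = y * x) (c : Set (Cfsg.IrrCharacter (Subgroup.centralizer (P : Set G)))) (hc : Cfsg.IsInducedBlock M (Subgroup.centralizer (P : Set G)) c B) (T : Subgroup G) (hT : ∀ g : G, g ∈ T ↔ (g ∈ Subgroup.normalizer (P : Set G) ∧ Cfsg.StabilizesBlock (Subgroup.centralizer (P : Set G)) c g)) (u : G) (hu : u ∈ P) (huT : ∀ g ∈ T, g * u * g⁻¹ = u) (H : Subgroup G) (hH : H = Subgroup.centralizer ({u} : Set G)) (f : Set (Cfsg.IrrCharacter H)) (hf : Cfsg.IsInducedBlockIn M H (Subgroup.centralizer (P : Set G)) c f) : Cfsg.blockRank p B = Cfsg.blockRank p f ∧ Nat.card B = Nat.card f := by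

  classical
  have : M.IsMaximal := hM.2.1
  have := Fintype.ofFinite G
  have := Fintype.ofFinite (Subgroup.centralizer (P : Set G))
  have hPp := CfsgLib.Blocks.IsDefectGroup.isPGroup hPD
  have hpair := (CfsgLib.BrauerPairs.brauerPairOf_iff_induced hM hPp hc.1 hB).mpr hc
  have hmax := CfsgLib.BrauerPairs.isMaximal_of_card hM hpair (CfsgLib.Blocks.card_defectGroup hM hB hPD).ge
  have hfix : ∀ t ∈ CfsgLib.BrauerPairs.stab M P c, t * u * t⁻¹ = u := fun t ht =>
    huT t ((hT t).mpr ((CfsgLib.BrauerPairs.mem_stab_iff hc.1).mp ht))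
  have hQP : Subgroup.zpowers u ≤ P := Subgroup.zpowers_le.mpr hu
  have key : ∀ (H' : Subgroup G) (f' : Set (IrrCharacter H')),
      H' = Subgroup.centralizer ((Subgroup.zpowers u : Subgroup G) : Set G) →
      IsInducedBlockIn M H' (Subgroup.centralizer (P : Set G)) c f' →
      blockRank p B = blockRank p f' ∧ Nat.card B = Nat.card f' := by
    rintro H' f' rfl hf'
    have := Fintype.ofFinite (Subgroup.centralizer ((Subgroup.zpowers u : Subgroup G) : Set G))
    have hle := CfsgLib.BrauerPairs.subpair_of_inducedIn hM hQP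
      (fun y hy => CfsgLib.NilBlock.mem_cen_zpowers.mpr (hPab y hy u hu)) hpair.1 hf'
    refine ⟨?_, CfsgLib.Star.card_fixed hM hmax hPab (u := ⟨u, hu⟩) hfix hle⟩
    rw [← CfsgLib.Star.rankBelow_fixed hM _ G B P c rfl hmax hPab ⟨u, hu⟩ hfix,
      CfsgLib.Star.rankBelow_eq hM hpair.1 hle]
  refine key H f ?_ hf
  rw [hH, Subgroup.zpowers_eq_closure, Subgroup.centralizer_closure]


end Cfsg.Agent.S4644
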