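import Cfsg.Statements.S4687
import Cfsg.Agent.Lib.BrauerPairs.Nilpotent

set_option autoImplicit false
open Cfsg

namespace Cfsg.Agent.S4687

/-- Fix a prime p and a maximal ideal M of the algebraic integers containing p, and a p-block B of the finite group G with maximal Brauer pair (P, e), P abelian. Then B is nilpotent if and only if its inertial quotient is trivial: every element of N_G(P) stabilizing e centralizes P. -/
theorem result {G : Type*} [Group G] [Fintype G] (p : ℕ) [Fact p.Prime] (M : Ideal Cfsg.AlgInt) (hM : Cfsg.IsPModular p M) (B : Set (Cfsg.IrrCharacter G)) (P : Subgroup G) (e : Set (Cfsg.IrrCharacter (Subgroup.centralizer (P : Set G)))) (hmax : Cfsg.IsMaximalBrauerPair p M B P e) (hab : ∀ x ∈ P, ∀ y ∈ P, x * y = y * x) : Cfsg.IsNilpotentBlock p M B ↔ ∀ x : G, x ∈ Subgroup.normalizer (P : Set G) → Cfsg.StabilizesBlock (Subgroup.centralizer (P : Set G)) e x → x ∈ Subgroup.centralizer (P : Set G) := by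
  have : M.IsMaximal := hM.2.1
  have hP := hmax.1.1
  have hst : ∀ y : G, y ∈ CfsgLib.BrauerPairs.stab M P e ↔ y ∈ Subgroup.normalizer (P : Set G) ∧
      StabilizesBlock (Subgroup.centralizer (P : Set G)) e y :=
    fun y => CfsgLib.BrauerPairs.mem_stab_iff hP.2
  constructor
  · intro hnil x hxn hxs
    obtain ⟨v, hv, hvq⟩ := CfsgLib.BrauerPairs.exists_inner_of_nilpotent hM hmax hnil P e
      Relation.ReflTransGen.refl x (by
        rw [CfsgLib.BrauerPairs.pair_ext (M := M) (a := CfsgLib.BrauerPairs.cjPair x ⟨P, e⟩)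
          (b := (⟨P, e⟩ : BrauerPairIdx G))
          (CfsgLib.BrauerPairs.isBrauerPair_cjPair x (a := ⟨P, e⟩) hP).2 hP.2
          (CfsgLib.BrauerPairs.map_conj_eq_self hxn)
          (by rw [CfsgLib.BrauerPairs.pid_cjPair]; exact ((hst x).mpr ⟨hxn, hxs⟩).2)])
    refine Subgroup.mem_centralizer_iff.mpr fun q hq => ?_
    have h1 := hvq q hq
    rw [hab v hv q hq, mul_inv_cancel_right] at h1
    conv_lhs => rw [← h1]
    simp
  · intro htriv
    refine ⟨hmax.1.2.1, fun Q' f' hQ' x hxn hxs hxr => ?_⟩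
    obtain ⟨g, hg⟩ := CfsgLib.BrauerPairs.exists_conj_le_maximal hM (a := ⟨Q', f'⟩) (b := ⟨P, e⟩)
      hmax hQ'
    set a : BrauerPairIdx G := CfsgLib.BrauerPairs.cjPair g ⟨Q', f'⟩ with ha
    have hx : CfsgLib.BrauerPairs.cjPair x (⟨Q', f'⟩ : BrauerPairIdx G) = ⟨Q', f'⟩ :=
      CfsgLib.BrauerPairs.pair_ext (M := M)
        (CfsgLib.BrauerPairs.isBrauerPair_cjPair x (a := ⟨Q', f'⟩) hQ'.1).2 hQ'.1.2
        (CfsgLib.BrauerPairs.map_conj_eq_self hxn)
        (by rw [CfsgLib.BrauerPairs.pid_cjPair]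
            exact ((CfsgLib.BrauerPairs.stabilizesBlock_iff hQ'.1.2).mp hxs).2)
    have hy := CfsgLib.BrauerPairs.cjPair_conj (g := g) hQ'.1 hx
    have hys : g * x * g⁻¹ ∈ CfsgLib.BrauerPairs.stab M a.1 a.2 := by
      refine ⟨Subgroup.mem_normalizer_iff_map_conj_eq.mpr (congrArg Sigma.fst hy), ?_⟩
      show CfsgLib.BrauerPairs.cjA (g * x * g⁻¹) (CfsgLib.BrauerPairs.pid M a) =
        CfsgLib.BrauerPairs.pid M a
      rw [← CfsgLib.BrauerPairs.pid_cjPair, ha, hy]
    obtain ⟨t, ht, htx⟩ := CfsgLib.BrauerPairs.exists_cen_mul_stab hM hmax hab (Q := a.1) (f := a.2)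
      hg hys
    obtain ⟨hn, hs⟩ := (hst _).mp htx
    have h1 := Subgroup.centralizer_le (SetLike.coe_subset_coe.mpr
      (CfsgLib.BrauerPairs.subgroup_le (a := a) (b := ⟨P, e⟩) hg)) (htriv _ hn hs)
    have h2 := (Subgroup.mul_mem_cancel_left _ ht).mp h1
    have h3 := CfsgLib.BrauerPairs.mem_centralizer_map_conj.mp h2
    simpa [mul_assoc] using h3


end Cfsg.Agent.S4687
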