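import Cfsg.Statements.S4645
import Cfsg.Agent.Lib.BrauerPairs.CyclicDefect
import Cfsg.Agent.S4687

set_option autoImplicit false
open Cfsg

namespace Cfsg.Agent.S4645

/-- Let B be a block of the finite group G relative to a maximal ideal M of the algebraic integers containing the prime p, with a nontrivial cyclic defect group P; let c be a block of C_G(P) inducing B and T the stabilizer of c in N_G(P). Let Q be a nontrivial subgroup of P (so C_G(P) ≤ C_G(Q)), f the block of C_G(Q) induced by c inside C_G(Q), and T' the stabilizer of f in N_G(Q). Then T' = T·C_G(Q), the index of C_G(Q) in T' equals the index of C_G(P) in T, f has p-regular rank 1, and f is a nilpotent block of C_G(Q). -/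
theorem result {G : Type*} [Group G] [Finite G] (p : ℕ) [Fact p.Prime] (M : Ideal Cfsg.AlgInt) (hM : Cfsg.IsPModular p M) (B : Set (Cfsg.IrrCharacter G)) (hB : Cfsg.IsPBlock M B) (P : Subgroup G) (hPD : Cfsg.IsDefectGroup p M B P) (hP1 : P ≠ ⊥) (hcyc : IsCyclic P) (c : Set (Cfsg.IrrCharacter (Subgroup.centralizer (P : Set G)))) (hc : Cfsg.IsInducedBlock M (Subgroup.centralizer (P : Set G)) c B) (T : Subgroup G) (hT : ∀ g : G, g ∈ T ↔ (g ∈ Subgroup.normalizer (P : Set G) ∧ Cfsg.StabilizesBlock (Subgroup.centralizer (P : Set G)) c g)) (Q : Subgroup G) (hQP : Q ≤ P) (hQ1 : Q ≠ ⊥) (f : Set (Cfsg.IrrCharacter (Subgroup.centralizer (Q : Set G)))) (hf : Cfsg.IsInducedBlockIn M (Subgroup.centralizer (Q : Set G)) (Subgroup.centralizer (P : Set G)) c f) (T' : Subgroup G) (hT' : ∀ g : G, g ∈ T' ↔ (g ∈ Subgroup.normalizer (Q : Set G) ∧ Cfsg.StabilizesBlock (Subgroup.centralizer (Q : Set G)) f g)) : T' = T ⊔ Subgroup.centralizer (Q : Set G)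 ∧ (Subgroup.centralizer (Q : Set G)).relIndex T' = (Subgroup.centralizer (P : Set G)).relIndex T ∧ Cfsg.blockRank p f = 1 ∧ Cfsg.IsNilpotentBlock p M f := by
  classical
  have : M.IsMaximal := hM.2.1
  have := Fintype.ofFinite G
  have := Fintype.ofFinite (CfsgLib.BrauerPairs.Cen P)
  have hPp := CfsgLib.Blocks.IsDefectGroup.isPGroup hPD
  have hpair := (CfsgLib.BrauerPairs.brauerPairOf_iff_induced hM hPp hc.1 hB).mpr hc
  have hmax : Cfsg.IsMaximalBrauerPair p M B P c :=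
    CfsgLib.BrauerPairs.isMaximal_of_card hM hpair (CfsgLib.Blocks.card_defectGroup hM hB hPD).ge
  obtain rfl : T = CfsgLib.BrauerPairs.stab M P c :=
    Subgroup.ext fun g => (hT g).trans (CfsgLib.BrauerPairs.mem_stab_iff hc.1).symm
  have hPab : ∀ x ∈ P, ∀ y ∈ P, x * y = y * x := fun a ha b hb => by
    have := hcyc.commutative
    exact congrArg Subtype.val (mul_comm' (⟨a, ha⟩ : P) ⟨b, hb⟩)
  have hfree := CfsgLib.BrauerPairs.cyclic_free hM hmax hcyc
  have hPC : P ≤ CfsgLib.BrauerPairs.Cen Q := fun y hy =>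
    Subgroup.mem_centralizer_iff.mpr fun q hq => hPab q (hQP hq) y hy
  have := Fintype.ofFinite (CfsgLib.BrauerPairs.Cen Q)
  have hle := CfsgLib.BrauerPairs.subpair_of_inducedIn hM hQP hPC hmax.1.1 hf
  have hfp := CfsgLib.BrauerPairs.isBrauerPair_left (a := ⟨Q, f⟩) hle hmax.1.1
  obtain rfl : T' = CfsgLib.BrauerPairs.stab M Q f :=
    Subgroup.ext fun g => (hT' g).trans (CfsgLib.BrauerPairs.mem_stab_iff hf.2.1).symm
  set T := CfsgLib.BrauerPairs.stab M P c with hTdef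
  have hnorm : ∀ g ∈ T, Q.map (MulAut.conj g).toMonoidHom = Q := fun g hg => by
    obtain ⟨⟨u, hu⟩, hgen⟩ := hcyc.exists_generator
    obtain ⟨k, hk⟩ := Subgroup.mem_zpowers_iff.mp
      (hgen ⟨g * u * g⁻¹, (Subgroup.mem_set_normalizer_iff.mp hg.1 u).mp hu⟩)
    have hk' : u ^ k = g * u * g⁻¹ := congrArg Subtype.val hk
    refine Subgroup.eq_of_le_of_card_ge ?_ (Subgroup.card_map_of_injective (MulEquiv.injective _)).ge
    rintro _ ⟨q, hq, rfl⟩
    obtain ⟨i, hi⟩ := Subgroup.mem_zpowers_iff.mp (hgen ⟨q, hQP hq⟩)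
    have hi' : u ^ i = q := congrArg Subtype.val hi
    show g * q * g⁻¹ ∈ Q
    rw [← hi', ← conj_zpow, ← hk', ← zpow_mul, mul_comm, zpow_mul, hi']
    exact zpow_mem hq k
  have hTle : T ≤ CfsgLib.BrauerPairs.stab M Q f := fun g hg => by
    have h1 := CfsgLib.BrauerPairs.subpair_cjPair hM g hle
    rw [CfsgLib.BrauerPairs.cjPair_eq_self_of_mem_stab hmax.1.1 hg] at h1
    have h2 := CfsgLib.BrauerPairs.pair_eq_of_le hM hmax.1.1 h1 hle (hnorm g hg)
    refine ⟨Subgroup.mem_normalizer_iff_map_conj_eq.mpr (hnorm g hg), ?_⟩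
    show CfsgLib.BrauerPairs.cjA g (CfsgLib.BrauerPairs.pid M (⟨Q, f⟩ : BrauerPairIdx G)) = _
    rw [← CfsgLib.BrauerPairs.pid_cjPair, h2]
  have hsup : CfsgLib.BrauerPairs.stab M Q f = T ⊔ CfsgLib.BrauerPairs.Cen Q := by
    refine le_antisymm (fun x hx => ?_) (sup_le hTle (CfsgLib.BrauerPairs.cen_le_stab f))
    obtain ⟨t, ht, htx⟩ := CfsgLib.BrauerPairs.exists_cen_mul_stab hM hmax hPab hle hx
    rw [show x = t⁻¹ * (t * x) by group]
    exact mul_mem (Subgroup.mem_sup_right (inv_mem ht)) (Subgroup.mem_sup_left htx)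
  obtain ⟨q, hq, hq1⟩ : ∃ q, q ∈ Q ∧ q ≠ 1 :=
    (Subgroup.ne_bot_iff_exists_ne_one.mp hQ1).elim fun q hq => ⟨q, q.2, fun h => hq (Subtype.ext h)⟩
  have hfix : ∀ y ∈ T, y ∈ CfsgLib.BrauerPairs.Cen Q → y ∈ CfsgLib.BrauerPairs.Cen P := fun y hy hyQ => by
    refine hfree y hy q (hQP hq) hq1 ?_
    rw [← Subgroup.mem_centralizer_iff.mp hyQ q hq, mul_inv_cancel_right]
  refine ⟨hsup, ?_, ?_, ?_⟩
  · have hn : ((CfsgLib.BrauerPairs.Cen Q).subgroupOf (CfsgLib.BrauerPairs.stab M Q f)).Normal :=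
      (Subgroup.normal_subgroupOf_iff_le_normalizer (CfsgLib.BrauerPairs.cen_le_stab f)).mpr fun t ht =>
        CfsgLib.BrauerPairs.mem_normalizer_centralizer ht.1
    have h1 := Subgroup.relIndex_sup_right (T.subgroupOf (CfsgLib.BrauerPairs.stab M Q f))
      ((CfsgLib.BrauerPairs.Cen Q).subgroupOf (CfsgLib.BrauerPairs.stab M Q f))
    rw [Subgroup.relIndex_subgroupOf hTle, ← Subgroup.subgroupOf_sup hTle
      (CfsgLib.BrauerPairs.cen_le_stab f), ← hsup, Subgroup.relIndex_subgroupOf le_rfl] at h1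
    rw [h1, ← Subgroup.inf_relIndex_right (CfsgLib.BrauerPairs.Cen Q) T,
      ← Subgroup.inf_relIndex_right (CfsgLib.BrauerPairs.Cen P) T]
    congr 1
    exact le_antisymm (fun y hy => ⟨hfix y hy.2 hy.1, hy.2⟩)
      (inf_le_inf_right _ (CfsgLib.BrauerPairs.centralizer_anti hQP))
  all_goals have hI := CfsgLib.BrauerPairs.stab_inertOne hM hmax hPab hle hfix
  · exact (CfsgLib.BrauerPairs.inertOne_counts hM _ _ f rfl hf.2.1 hI).1
  · obtain ⟨D, hD⟩ := CfsgLib.Blocks.exists_isDefectGroup (p := p) hf.2.1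
    obtain ⟨e, he⟩ := CfsgLib.BrauerPairs.exists_maximal_at hM hf.2.1 hD
    obtain ⟨hab', hst⟩ := hI D e he
    exact (Cfsg.Agent.S4687.result p M hM f D e he hab').mpr fun y hyn hys =>
      hst ((CfsgLib.BrauerPairs.mem_stab_iff he.1.1.2).mpr ⟨hyn, hys⟩)


end Cfsg.Agent.S4645
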