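import Cfsg.Statements.S4648
import Cfsg.Agent.Lib.Blocks.SmallLocal
import Cfsg.Agent.Lib.Blocks.CyclicMain
import Cfsg.Agent.Lib.Blocks.CyclicLocal

set_option autoImplicit false
open Cfsg

namespace Cfsg.Agent.S4648

/-- Let B be a block of the finite group G relative to a maximal ideal M of the algebraic integers containing the prime p, with a nontrivial defect group D. If B has p-regular rank 1 and at most four irreducible characters, then B is nilpotent, D has exactly as many elements as B has irreducible characters, and p is 2 or 3. -/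
theorem result {G : Type*} [Group G] [Finite G] (p : ℕ) [Fact p.Prime] (M : Ideal Cfsg.AlgInt) (hM : Cfsg.IsPModular p M) (B : Set (Cfsg.IrrCharacter G)) (hB : Cfsg.IsPBlock M B) (D : Subgroup G) (hD : Cfsg.IsDefectGroup p M B D) (hD1 : D ≠ ⊥) (hl : Cfsg.blockRank p B = 1) (hk : Nat.card B ≤ 4) : Cfsg.IsNilpotentBlock p M B ∧ Nat.card D = Nat.card B ∧ (p = 2 ∨ p = 3) := by
  classical
  have : M.IsMaximal := hM.2.1
  have := Fintype.ofFinite G
  have hcard := CfsgLib.Blocks.card_defectGroup hM hB hD
  have hp := (Fact.out : p.Prime)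
  have hd : 0 < Cfsg.blockDefect p B := Nat.pos_of_ne_zero fun h => by
    rw [h, pow_zero] at hcard
    exact hD1 (Subgroup.card_eq_one.mp hcard)
  have hkD : Nat.card B = p ^ Cfsg.blockDefect p B :=
    CfsgLib.Blocks.SmallLocal.card_eq_pow_of_rank_one hM hB hd hl hk
  have hp23 : p = 2 ∨ p = 3 := by
    have h1 : p ≤ p ^ Cfsg.blockDefect p B := Nat.le_self_pow hd.ne' p
    have h2 := hp.two_le
    have h4 : p ≠ 4 := fun h => by rw [h] at hp; norm_num at hp
    omega
  refine ⟨?_, by rw [hcard, hkD], hp23⟩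
  by_cases hcyc : ∃ (P : Subgroup G) (e : Set (Cfsg.IrrCharacter (CfsgLib.BrauerPairs.Cen P))),
      Cfsg.IsMaximalBrauerPair p M B P e ∧ IsCyclic P
  · obtain ⟨P, e, hmax, hc⟩ := hcyc
    exact (CfsgLib.Blocks.Cyclic.nilpotent_iff_rank_one hM hB
      (CfsgLib.BrauerPairs.isDefectGroup_of_maximal hM hmax) hc).mpr hl
  · push Not at hcyc
    refine CfsgLib.Blocks.Cyclic.isNilpotentBlock_of_inertOne hM hB fun P e hmax => ?_
    have hP := CfsgLib.BrauerPairs.isDefectGroup_of_maximal hM hmax
    have hcP := CfsgLib.Blocks.card_defectGroup hM hB hP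
    have hnc := hcyc P e hmax
    have hd2 : 2 ≤ Cfsg.blockDefect p B := by
      by_contra h
      rw [show Cfsg.blockDefect p B = 1 by omega, pow_one] at hcP
      exact hnc (isCyclic_of_prime_card (p := p) hcP)
    have h4 : p ^ 2 ≤ p ^ Cfsg.blockDefect p B := Nat.pow_le_pow_right hp.pos hd2
    have hp2 : p = 2 := by
      rcases hp23 with h | h
      · exact h
      · rw [h] at h4 hkD; omega
    subst hp2
    have hP4 : Nat.card P = 4 := by rw [hcP]; omega
    have hV : IsKleinFour P := by
      have hord : ∀ g : P, g ≠ 1 → orderOf g = 2 := fun g hg => by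
        have h2 : orderOf g ∣ 2 ^ 2 := by norm_num; exact hP4 ▸ orderOf_dvd_natCard g
        obtain ⟨i, hi, ho⟩ := (Nat.dvd_prime_pow Nat.prime_two).mp h2
        interval_cases i
        · exact absurd (orderOf_eq_one_iff.mp ho) hg
        · exact ho
        · exact absurd (isCyclic_of_orderOf_eq_card g (by rw [ho, hP4]; rfl)) hnc
      have : Nontrivial P := Finite.one_lt_card_iff_nontrivial.mp (by rw [hP4]; norm_num)
      exact ⟨hP4, (Monoid.exponent_eq_prime_iff Nat.prime_two).mpr hord⟩
    obtain ⟨-, -, he⟩ := CfsgLib.BrauerPairs.klein_counts hM hmax hV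
    rw [hl] at he
    have := IsKleinFour.isMulCommutative (G := P)
    refine ⟨fun x hx y hy => congrArg Subtype.val (mul_comm' (⟨x, hx⟩ : P) ⟨y, hy⟩), ?_⟩
    exact Subgroup.relIndex_eq_one.mp he.symm

end Cfsg.Agent.S4648
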