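import Cfsg.Statements.S4650
import Cfsg.Agent.Lib.BrauerPairs.InducedIn
import Cfsg.Agent.S4687

set_option autoImplicit false
open Cfsg

namespace Cfsg.Agent.S4650

/-- Let B be a block of the finite group G relative to a maximal ideal M of the algebraic integers containing the prime p, with a nontrivial commutative defect group P; let c be a block of C_G(P) inducing B and T the stabilizer of c in N_G(P). Then T/C_G(P) acts freely on the non-identity elements of P (an element of T fixing a non-identity element of P under conjugation lies in C_G(P)) if and only if, for every nontrivial subgroup Q of P, the block of C_G(Q) induced by c inside C_G(Q) is a nilpotent block of C_G(Q). -/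
theorem result {G : Type*} [Group G] [Finite G] (p : ℕ) [Fact p.Prime] (M : Ideal Cfsg.AlgInt) (hM : Cfsg.IsPModular p M) (B : Set (Cfsg.IrrCharacter G)) (hB : Cfsg.IsPBlock M B) (P : Subgroup G) (hPD : Cfsg.IsDefectGroup p M B P) (hPab : ∀ x ∈ P, ∀ y ∈ P, x * y = y * x) (hP1 : P ≠ ⊥) (c : Set (Cfsg.IrrCharacter (Subgroup.centralizer (P : Set G)))) (hc : Cfsg.IsInducedBlock M (Subgroup.centralizer (P : Set G)) c B) (T : Subgroup G) (hT : ∀ g : G, g ∈ T ↔ (g ∈ Subgroup.normalizer (P : Set G) ∧ Cfsg.StabilizesBlock (Subgroup.centralizer (P : Set G)) c g)) : (∀ g ∈ T, ∀ x ∈ P, x ≠ 1 → g * x * g⁻¹ = x → g ∈ Subgroup.centralizer (P : Set G)) ↔ ∀ Q : Subgroup G, Q ≤ P → Q ≠ ⊥ → ∀ f : Set (Cfsg.IrrCharacter (Subgroup.centralizer (Q : Set G))), Cfsg.IsInducedBlockIn M (Subgroup.centralizer (Q : Set G)) (Subgroup.centralizer (P : Set G)) c f → Cfsg.IsNilpotentBlock p M f := by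
  classical
  have : M.IsMaximal := hM.2.1
  have := Fintype.ofFinite G
  have := Fintype.ofFinite (CfsgLib.BrauerPairs.Cen P)
  have hPp := CfsgLib.Blocks.IsDefectGroup.isPGroup hPD
  have hpair := (CfsgLib.BrauerPairs.brauerPairOf_iff_induced hM hPp hc.1 hB).mpr hc
  have hmax : Cfsg.IsMaximalBrauerPair p M B P c :=
    CfsgLib.BrauerPairs.isMaximal_of_card hM hpair (CfsgLib.Blocks.card_defectGroup hM hB hPD).ge
  obtain rfl : T = CfsgLib.BrauerPairs.stab M P c :=
    Subgroup.ext fun g => (hT g).trans (CfsgLib.BrauerPairs.mem_stab_iff hc.1).symm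
  have hPC : ∀ Q : Subgroup G, Q ≤ P → P ≤ CfsgLib.BrauerPairs.Cen Q := fun Q hQ y hy =>
    Subgroup.mem_centralizer_iff.mpr fun q hq => hPab q (hQ hq) y hy
  constructor
  · intro hfree Q hQP hQ1 f hf
    have := Fintype.ofFinite (CfsgLib.BrauerPairs.Cen Q)
    have hle := CfsgLib.BrauerPairs.subpair_of_inducedIn hM hQP (hPC Q hQP) hmax.1.1 hf
    have hI := CfsgLib.BrauerPairs.stab_inertOne hM hmax hPab hle fun y hy hyQ => by
      obtain ⟨q, hq, hq1⟩ := (Subgroup.ne_bot_iff_exists_ne_one.mp hQ1).elim fun q hq =>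
        (⟨q, q.2, fun h => hq (Subtype.ext h)⟩ : ∃ q, q ∈ Q ∧ q ≠ 1)
      refine hfree y hy q (hQP hq) hq1 ?_
      rw [← Subgroup.mem_centralizer_iff.mp hyQ q hq, mul_inv_cancel_right]
    obtain ⟨D, hD⟩ := CfsgLib.Blocks.exists_isDefectGroup (p := p) hf.2.1
    obtain ⟨e, he⟩ := CfsgLib.BrauerPairs.exists_maximal_at hM hf.2.1 hD
    obtain ⟨hab', hst⟩ := hI D e he
    exact (Cfsg.Agent.S4687.result p M hM f D e he hab').mpr fun y hyn hys =>
      hst ((CfsgLib.BrauerPairs.mem_stab_iff he.1.1.2).mpr ⟨hyn, hys⟩)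
  · intro hloc g hg x hx hx1 hfix
    set Q := Subgroup.zpowers x with hQ
    have := Fintype.ofFinite (CfsgLib.BrauerPairs.Cen Q)
    have hQP : Q ≤ P := Subgroup.zpowers_le.mpr hx
    obtain ⟨f, hle, -⟩ := CfsgLib.BrauerPairs.existsUnique_subpair hM hQP hmax.1.1
    have hin := CfsgLib.BrauerPairs.inducedIn_of_subpair hM hQP (hPC Q hQP) hmax.1.1 hle
    have hnil := hloc Q hQP (fun h => hx1 (Subgroup.mem_bot.mp (h ▸ Subgroup.mem_zpowers x))) f hin
    have hgQ : g ∈ CfsgLib.BrauerPairs.Cen Q := by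
      show g ∈ Subgroup.centralizer _
      rw [hQ, Subgroup.zpowers_eq_closure, Subgroup.centralizer_closure,
        Subgroup.mem_centralizer_singleton_iff]
      exact mul_inv_eq_iff_eq_mul.mp hfix
    obtain ⟨g', hg'b, hu, hiff⟩ := CfsgLib.BrauerPairs.inducedIn_setup (M := M) hQP (hPC Q hQP) hc.1
    have := Fintype.ofFinite (CfsgLib.BrauerPairs.Cen (P.subgroupOf (CfsgLib.BrauerPairs.Cen Q)))
    have hpr := (CfsgLib.BrauerPairs.brauerPairOf_iff_induced hM
      (hPp.of_equiv (Subgroup.subgroupOfEquivOfLe (hPC Q hQP)).symm) hg'b hin.2.1).mpr ((hiff f).mp hin)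
    have hm' : Cfsg.IsMaximalBrauerPair p M f _ g' := CfsgLib.BrauerPairs.isMaximal_of_card hM hpr
      (CfsgLib.Blocks.card_defectGroup hM hin.2.1
        (CfsgLib.BrauerPairs.pairs_defect hM hmax hPab hle)).ge
    have hst : (⟨g, hgQ⟩ : CfsgLib.BrauerPairs.Cen Q) ∈ CfsgLib.BrauerPairs.stab M _ g' := by
      refine ⟨?_, CfsgLib.BrauerPairs.emb_injective (M := M) (CfsgLib.BrauerPairs.Cen Q) ?_⟩
      · exact Subgroup.mem_set_normalizer_iff.mpr fun z => Subgroup.mem_set_normalizer_iff.mp hg.1 (z : G)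
      · rw [CfsgLib.BrauerPairs.emb_cjA, ← show _ = CfsgLib.BrauerPairs.emb (CfsgLib.BrauerPairs.Cen Q) _ from hu.pid_eq]
        exact hg.2
    have h4 := (Cfsg.Agent.S4687.result p M hM f _ g' hm' (fun a ha b hb =>
      Subtype.ext (hPab a ha b hb))).mp hnil ⟨g, hgQ⟩ hst.1
      ((CfsgLib.BrauerPairs.mem_stab_iff hg'b).mp hst).2
    refine Subgroup.mem_centralizer_iff.mpr fun y hy => ?_
    exact congrArg Subtype.val (Subgroup.mem_centralizer_iff.mp h4 ⟨y, hPC Q hQP hy⟩ hy)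


end Cfsg.Agent.S4650
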