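import Cfsg.Statements.S4651
import Cfsg.Agent.Lib.Blocks.ChainSum.Count
import Cfsg.Agent.Lib.Blocks.ChainSum.Chains

set_option autoImplicit false
open Cfsg

namespace Cfsg.Agent.S4651

/-- An alternating-sum identity over chains of p-subgroups (the character-count form behind the chain reformulation of Alperin's weight conjecture, which holds unconditionally for the difference k − l). Let b be a block of the finite group G relative to a maximal ideal M of the algebraic integers containing the prime p. Consider the nonempty chains s = {Q_0 < Q_1 < ⋯ < Q_m} of nontrivial p-subgroups of G in which every member is normal in the largest member; let N_G(s) be the intersection of the normalizers of the members (the stabilizer of the chain), and let b_s be the set of irreducible characters of N_G(s) lying in blocks of N_G(s) that induce b. Then #G · (k(b) − l(b)) equals the sum over all such chains s of (−1)^m · #N_G(s) · (k(b_s) − l(b_s)), where k counts irreducible characters and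 l is the p-regular rank; equivalently, k(b) − l(b) is the alternating sum of k(b_s) − l(b_s) over representatives of the conjugacy classes of such chains. -/
theorem result {G : Type*} [Group G] [Finite G] (p : ℕ) [Fact p.Prime] (M : Ideal Cfsg.AlgInt) (hM : Cfsg.IsPModular p M) (b : Set (Cfsg.IrrCharacter G)) (hb : Cfsg.IsPBlock M b) : (Nat.card G : ℤ) * ((Nat.card b : ℤ) - (Cfsg.blockRank p b : ℤ)) = ∑ᶠ s ∈ {s : Finset (Subgroup G) | s.Nonempty ∧ (∀ Q ∈ s, ∀ R ∈ s, Q ≤ R ∨ R ≤ Q) ∧ (∀ Q ∈ s, Q ≠ ⊥ ∧ IsPGroup p Q) ∧ ∃ T ∈ s, ∀ Q ∈ s, Q ≤ T ∧ T ≤ Subgroup.normalizer ((Q : Subgroup G) : Set G)}, (-1 : ℤ) ^ (s.card - 1) * (Nat.card (((⨅ Q ∈ s, Subgroup.normalizer ((Q : Subgroup G) : Set G) : Subgroup G))) : ℤ) * ((Nat.card {ψ : Cfsg.IrrCharacter (((⨅ Q ∈ s, Subgroup.normalizer ((Q : Subgroup G) : Set G) : Subgroup G))) | ∃ β : Set (Cfsg.IrrCharacter (((⨅ Q ∈ s, Subgroup.normalizer ((Q : Subgroup G) : Set G) : Subgroup G)))), ψ ∈ β ∧ Cfsg.IsInducedBlock M (((⨅ Q ∈ s, Subgroup.normalizer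 ((Q : Subgroup G) : Set G) : Subgroup G))) β b} : ℤ) - (Cfsg.blockRank p {ψ : Cfsg.IrrCharacter (((⨅ Q ∈ s, Subgroup.normalizer ((Q : Subgroup G) : Set G) : Subgroup G))) | ∃ β : Set (Cfsg.IrrCharacter (((⨅ Q ∈ s, Subgroup.normalizer ((Q : Subgroup G) : Set G) : Subgroup G)))), ψ ∈ β ∧ Cfsg.IsInducedBlock M (((⨅ Q ∈ s, Subgroup.normalizer ((Q : Subgroup G) : Set G) : Subgroup G))) β b} : ℤ)) := by
  classical
  have : M.IsMaximal := hM.2.1
  have := Fintype.ofFinite G
  rw [CfsgLib.Blocks.ChainSum.block_count hM hb, finsum_mem_eq_finite_toFinset_sum _ (Set.toFinite _)]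
  show _ = ∑ s ∈ (Set.toFinite {s : Finset (Subgroup G) | CfsgLib.Blocks.ChainSum.IsNChain p s}).toFinset,
    (-1 : ℤ) ^ (s.card - 1) * (Nat.card (CfsgLib.Blocks.ChainSum.stabChain s) : ℤ) *
      ((Nat.card (CfsgLib.Blocks.ChainSum.pull M (CfsgLib.Blocks.ChainSum.stabChain s) b) : ℤ) -
        (Cfsg.blockRank p (CfsgLib.Blocks.ChainSum.pull M (CfsgLib.Blocks.ChainSum.stabChain s) b) : ℤ))
  symm
  rw [Finset.sum_congr rfl fun s _ => by
    rw [mul_assoc, CfsgLib.Blocks.ChainSum.pull_count hM hb, Finset.mul_sum]]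
  rw [Finset.sum_comm' (t' := Finset.univ.filter (fun x : G => x ≠ 1 ∧ ∃ k : ℕ, orderOf x = p ^ k))
    (s' := fun x => Finset.univ.filter (fun s : Finset (Subgroup G) =>
      CfsgLib.Blocks.ChainSum.IsNChain p s ∧ x ∈ CfsgLib.Blocks.ChainSum.stabChain s))]
  · refine Finset.sum_congr rfl fun x hx => ?_
    obtain ⟨-, hx0, hxp⟩ := Finset.mem_filter.mp hx
    exact CfsgLib.Blocks.ChainSum.sum_chains hx0 hxp fun H =>
      ((Nat.card H * CfsgLib.Blocks.ChainSum.rankSum p M H b : ℕ) : ℤ)
  · intro s x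
    simp only [Set.Finite.mem_toFinset, Set.mem_setOf_eq, Finset.mem_filter, Finset.mem_univ, true_and]
    tauto

end Cfsg.Agent.S4651
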