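import Cfsg.Statements.S4652
import Cfsg.Agent.Lib.BlockArith.FullDefect
import Cfsg.Agent.Lib.Blocks.Defect

set_option autoImplicit false
open Cfsg

namespace Cfsg.Agent.S4652

/-- Fix a prime p and a maximal ideal M of the algebraic integers containing p. The defect groups of the principal p-block of a finite group G are exactly the Sylow p-subgroups of G: a subgroup D is a defect group of the principal block if and only if D is a Sylow p-subgroup. -/
theorem result {G : Type*} [Group G] [Fintype G] (p : ℕ) [Fact p.Prime] (M : Ideal Cfsg.AlgInt) (hM : Cfsg.IsPModular p M) (D : Subgroup G) : Cfsg.IsDefectGroup p M (Cfsg.principalBlock M G) D ↔ ∃ S : Sylow p G, (S : Subgroup G) = D := by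
  classical
  have := hM.2.1
  have hB : Cfsg.IsPBlock M (Cfsg.principalBlock M G) := by
    rw [CfsgLib.Blocks.principalBlock_eq]
    exact CfsgLib.Blocks.isPBlock_blockOf _
  have hmem : (CfsgLib.Char.irrOne : Cfsg.IrrCharacter G) ∈ Cfsg.principalBlock M G := by
    rw [CfsgLib.Blocks.principalBlock_eq]
    exact CfsgLib.Blocks.mem_blockOf_self _
  have h1 : CfsgLib.Blocks.res M (CfsgLib.BlockArith.coeffL hB 1) ≠ 0 :=
    CfsgLib.BlockArith.res_blockCoeff_one_ne_zero hM hB hmem (by
      rw [show Cfsg.charDegree ((CfsgLib.Char.irrOne : Cfsg.IrrCharacter G) : G → ℂ) = 1 from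
        CfsgLib.CharBlocks.charDegree_one]
      exact hM.1.not_dvd_one)
  have hS : ∀ S : Sylow p G,
      Cfsg.IsDefectGroup p M (Cfsg.principalBlock M G) (S : Subgroup G) := by
    intro S
    refine ⟨1, ⟨(CfsgLib.BlockArith.coeffL hB 1).2,
      fun h => h1 ((CfsgLib.Blocks.res_eq_zero_iff M _).mpr h), fun χ _ h => ?_⟩, ?_⟩
    · refine CfsgLib.Blocks.locRing_not_ideal_one M ?_
      have hc : Cfsg.centralChar (χ : G → ℂ) 1 = 1 := by
        have ht : Subgroup.centralizer ({(1 : G)} : Set G) = ⊤ :=
          eq_top_iff.mpr fun x _ => Subgroup.mem_centralizer_singleton_iff.mpr (by simp)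
        rw [Cfsg.centralChar, ht, Subgroup.index_top, Nat.cast_one, one_mul,
          div_self (CfsgLib.Char.irr_one_ne_zero χ.2)]
      rwa [hc] at h
    · have hle : (S : Subgroup G) ≤ Subgroup.centralizer ({(1 : G)} : Set G) := fun x _ =>
        Subgroup.mem_centralizer_singleton_iff.mpr (by simp)
      exact ⟨S.subtype hle, by
        rw [Sylow.coe_subtype, Subgroup.map_subgroupOf_eq_of_le hle]⟩
  constructor
  · intro hD
    let S : Sylow p G := default
    obtain ⟨x, hx⟩ := CfsgLib.Blocks.defectGroups_conj hM hB (hS S) hD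
    refine ⟨x • S, ?_⟩
    rw [← hx]
    rfl
  · rintro ⟨S, rfl⟩
    exact hS S

end Cfsg.Agent.S4652
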