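import Cfsg.Statements.S4664
import Cfsg.Agent.Lib.Modular.GaloisFix

set_option autoImplicit false
open Cfsg

namespace Cfsg.Agent.S4664

/-- Fix a prime p and a maximal ideal M of the algebraic integers containing p, and let B be a p-block of the finite group G. Let m be the p'-part of the order of G and η = exp(2πi/m). Then every coefficient of the idempotent of B lies in the cyclotomic field ℚ(η). -/
theorem result {G : Type*} [Group G] [Fintype G] (p : ℕ) [Fact p.Prime] (M : Ideal Cfsg.AlgInt) (hM : Cfsg.IsPModular p M) (B : Set (Cfsg.IrrCharacter G)) (hB : Cfsg.IsPBlock M B) (g : G) : Cfsg.blockCoeff B g ∈ IntermediateField.adjoin ℚ ({Complex.exp (2 * Real.pi * Complex.I / ((Nat.card G / p ^ (Nat.card G).factorization p : ℕ) : ℂ))} : Set ℂ) := by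
  classical
  set n := Nat.card G with hn
  set a := n.factorization p with ha
  set m := n / p ^ a with hm
  have hn0 : n ≠ 0 := Nat.card_pos.ne'
  have hmn : p ^ a * m = n := Nat.ordProj_mul_ordCompl_eq_self n p
  set F := IntermediateField.adjoin ℚ ({Complex.exp (2 * Real.pi * Complex.I / (m : ℂ))} : Set ℂ)
  have hint : IsIntegral ℚ (Cfsg.blockCoeff B g) := by
    rw [Cfsg.blockCoeff, finsum_mem_eq_toFinset_sum]
    refine IsIntegral.mul ?_ (IsIntegral.sum _ fun χ _ => ?_)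
    · have : ((Nat.card G : ℂ))⁻¹ = algebraMap ℚ ℂ ((Nat.card G : ℚ)⁻¹) := by simp
      rw [this]; exact isIntegral_algebraMap
    · refine ((CfsgLib.Char.char_isIntegral (CfsgLib.Char.isCharacter_of_isIrr χ.2) 1).mul ?_).tower_top
      rw [← CfsgLib.Char.char_inv (CfsgLib.Char.isCharacter_of_isIrr χ.2)]
      exact CfsgLib.Char.char_isIntegral (CfsgLib.Char.isCharacter_of_isIrr χ.2) _
  by_contra hnot
  obtain ⟨σ, hfix, hne⟩ := CfsgLib.Modular.exists_ringEquiv_fix_ne F hint hnot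
  have hζ : IsPrimitiveRoot (Complex.exp (2 * Real.pi * Complex.I / n)) n :=
    Complex.isPrimitiveRoot_exp n hn0
  have : NeZero n := ⟨hn0⟩
  obtain ⟨k, -, hk, hkζ⟩ := hζ.isPrimitiveRoot_iff.mp (hζ.map_of_injective σ.injective)
  have hσ : ∀ z : ℂ, z ^ n = 1 → σ z = z ^ k := fun z hz => by
    obtain ⟨i, -, rfl⟩ := hζ.eq_pow_of_pow_eq_one hz
    rw [map_pow, ← hkζ, ← pow_mul, ← pow_mul, mul_comm k i]
  have hm0 : m ≠ 0 := fun h => hn0 (by rw [← hmn, h, mul_zero])
  have hkm : k ≡ 1 [MOD m] := by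
    have hζm : IsPrimitiveRoot (Complex.exp (2 * Real.pi * Complex.I / (m : ℂ))) m :=
      Complex.isPrimitiveRoot_exp m hm0
    have h2 : Complex.exp (2 * Real.pi * Complex.I / (m : ℂ)) ^ n = 1 := by
      exact (hζm.pow_eq_one_iff_dvd n).mpr ⟨p ^ a, by rw [mul_comm]; exact hmn.symm⟩
    have h1 := hfix _ (IntermediateField.subset_adjoin ℚ _ rfl)
    rw [hσ _ h2] at h1
    refine hζm.pow_inj (Nat.mod_lt _ (Nat.pos_of_ne_zero hm0)) (Nat.mod_lt _ (Nat.pos_of_ne_zero hm0)) ?_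
    rw [← pow_eq_pow_mod k hζm.pow_eq_one, ← pow_eq_pow_mod 1 hζm.pow_eq_one, pow_one]
    exact h1
  have hkreg : ∀ x : G, ¬ p ∣ orderOf x → x ^ k = x := fun x hx => by
    have hdvd : orderOf x ∣ m :=
      Nat.Coprime.dvd_of_dvd_mul_left (((Fact.out : p.Prime).coprime_iff_not_dvd.mpr hx).pow_left a).symm
        (hmn ▸ orderOf_dvd_natCard x)
    exact (pow_eq_pow_iff_modEq.mpr (hkm.of_dvd hdvd)).trans (pow_one x)
  have hmaps : Set.MapsTo (CfsgLib.CharNormal.galIrr σ) B B := fun χ hχ =>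
    CfsgLib.Modular.galIrr_mem_block hM hσ hkreg hB hχ
  refine hne ?_
  rw [Cfsg.blockCoeff, map_mul, map_inv₀, map_natCast, finsum_mem_eq_toFinset_sum, map_sum]
  refine congrArg _ ?_
  refine Finset.sum_bij (fun χ _ => CfsgLib.CharNormal.galIrr σ χ) ?_ ?_ ?_ ?_
  · intro χ hχ; exact Set.mem_toFinset.mpr (hmaps (Set.mem_toFinset.mp hχ))
  · intro _ _ _ _ h; exact (CfsgLib.CharNormal.galIrr σ).injective h
  · intro χ hχ
    obtain ⟨ψ, hψ, h⟩ := (B.toFinite.injOn_iff_bijOn_of_mapsTo hmaps).mp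
      (CfsgLib.CharNormal.galIrr σ).injective.injOn |>.surjOn (Set.mem_toFinset.mp hχ)
    exact ⟨ψ, Set.mem_toFinset.mpr hψ, h⟩
  · intro χ _
    have hc := CfsgLib.Char.isCharacter_of_isIrr χ.2
    have hc' := CfsgLib.Char.isCharacter_of_isIrr (CfsgLib.CharNormal.galIrr σ χ).2
    rw [← CfsgLib.Char.char_inv hc, ← CfsgLib.Char.char_inv hc', map_mul]
    rfl

end Cfsg.Agent.S4664
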