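import Cfsg.Statements.S4665
import Cfsg.Agent.Lib.Char.Ortho
import Mathlib.GroupTheory.Sylow

set_option autoImplicit false
open Cfsg

namespace Cfsg.Agent.S4665

/-- Fix a prime p, a maximal ideal M of the algebraic integers containing p, and a p-block B of the finite group G, and let p^a be the p-part of the order of G. Let χ be an integer combination of the irreducible characters in B. If the function that agrees with χ on p-regular elements and vanishes on p-singular elements is again an integer combination of the irreducible characters in B, then p^a divides χ(1). -/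
theorem result {G : Type*} [Group G] [Fintype G] (p : ℕ) [Fact p.Prime] (M : Ideal Cfsg.AlgInt) (hM : Cfsg.IsPModular p M) (B : Set (Cfsg.IrrCharacter G)) (hB : Cfsg.IsPBlock M B) (χ : G → ℂ) (hχ : (∃ n : Cfsg.IrrCharacter G → ℤ, ∀ g : G, χ g = ∑ᶠ ψ ∈ B, (n ψ : ℂ) * (ψ : G → ℂ) g)) (h0 : (∃ n : Cfsg.IrrCharacter G → ℤ, ∀ g : G, Cfsg.pRegularPart p χ g = ∑ᶠ ψ ∈ B, (n ψ : ℂ) * (ψ : G → ℂ) g)) : ∃ k : ℤ, χ 1 = (p ^ (Nat.card G).factorization p : ℂ) * k := by
  classical
  obtain ⟨n, hn⟩ := h0
  let P : Sylow p G := default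
  let S : Subgroup G := P
  choose m hm using fun ψ : Cfsg.IrrCharacter G => CfsgLib.Char.classInner_char_nat
    (CfsgLib.Char.isCharacter_res S (CfsgLib.Char.isCharacter_of_isIrr ψ.2))
    (CfsgLib.Char.isCharacter_one (G := S))
  refine ⟨∑ ψ : Cfsg.IrrCharacter G, if ψ ∈ B then n ψ * (m ψ : ℤ) else 0, ?_⟩
  have hcard : (p ^ (Nat.card G).factorization p : ℂ) = (Nat.card S : ℂ) := by
    rw [show Nat.card S = p ^ (Nat.card G).factorization p from P.card_eq_multiplicity]
    push_cast; rfl
  have hsum : ∀ g : G, Cfsg.pRegularPart p χ g =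
      ∑ ψ : Cfsg.IrrCharacter G, if ψ ∈ B then (n ψ : ℂ) * (ψ : G → ℂ) g else 0 := fun g => by
    rw [hn g, finsum_mem_eq_finite_toFinset_sum _ (Set.toFinite B), ← Finset.sum_filter]
    exact Finset.sum_congr (by ext; simp) fun _ _ => rfl
  have h1 : ∑ u : S, Cfsg.pRegularPart p χ u = χ 1 := by
    rw [Finset.sum_eq_single (1 : S) (fun u _ hu => ?_) (by simp)]
    · simp only [Cfsg.pRegularPart, OneMemClass.coe_one]
      exact if_pos (show ¬ p ∣ orderOf (1 : G) by rw [orderOf_one]; exact (Fact.out : p.Prime).not_dvd_one)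
    · simp only [Cfsg.pRegularPart]
      refine if_neg ?_
      rw [Cfsg.IsPRegular, not_not]
      obtain ⟨j, hj⟩ := P.2 u
      obtain ⟨i, -, hi⟩ := (Nat.dvd_prime_pow Fact.out).mp (orderOf_dvd_of_pow_eq_one hj)
      rw [← Subgroup.orderOf_coe] at hi
      rw [hi]
      refine dvd_pow_self p ?_
      rintro rfl
      exact hu (Subtype.ext (orderOf_eq_one_iff.mp (by simpa using hi)))
  rw [← h1, hcard]
  simp only [hsum]
  rw [Finset.sum_comm, Int.cast_sum, Finset.mul_sum]
  refine Finset.sum_congr rfl fun ψ _ => ?_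
  split_ifs
  · rw [← Finset.mul_sum, Int.cast_mul, Int.cast_natCast, ← hm ψ, mul_left_comm,
      CfsgLib.Char.card_mul_classInner]
    simp
  · simp

end Cfsg.Agent.S4665
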