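import Cfsg.Statements.S4666
import Cfsg.Agent.Lib.BlockArith.RegCoef

set_option autoImplicit false
open Cfsg

namespace Cfsg.Agent.S4666

/-- Fix a prime p and a maximal ideal M of the algebraic integers containing p, and a p-block B of the finite group G of defect d. For every integer combination χ of the irreducible characters in B, p^d times the function that agrees with χ on p-regular elements and vanishes elsewhere is again an integer combination of the irreducible characters in B. -/
theorem result {G : Type*} [Group G] [Fintype G] (p : ℕ) [Fact p.Prime] (M : Ideal Cfsg.AlgInt) (hM : Cfsg.IsPModular p M) (B : Set (Cfsg.IrrCharacter G)) (hB : Cfsg.IsPBlock M B) (χ : G → ℂ) (hχ : (∃ n : Cfsg.IrrCharacter G → ℤ, ∀ g : G, χ g = ∑ᶠ ψ ∈ B, (n ψ : ℂ) * (ψ : G → ℂ) g)) : (∃ n : Cfsg.IrrCharacter G → ℤ, ∀ g : G, (p ^ Cfsg.blockDefect p B : ℂ) * Cfsg.pRegularPart p χ g = ∑ᶠ ψ ∈ B, (n ψ : ℂ) * (ψ : G → ℂ) g) := by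
  classical
  have := hM.2.1
  have hp : p.Prime := Fact.out
  obtain ⟨n, hn⟩ := hχ
  refine ⟨fun ψ => ∑ φ : Cfsg.IrrCharacter G,
    if φ ∈ B then n φ * CfsgLib.BlockArith.blockMat p B φ ψ else 0, fun g => ?_⟩
  have key : ∀ φ ∈ B, (p ^ Cfsg.blockDefect p B : ℂ) * Cfsg.pRegularPart p (φ : G → ℂ) g =
      ∑ ψ : Cfsg.IrrCharacter G,
        (CfsgLib.BlockArith.blockMat p B φ ψ : ℂ) * (ψ : G → ℂ) g := by
    intro φ hφ
    have he : (p : ℂ) ^ ((Nat.card G).factorization p - Cfsg.blockDefect p B) ≠ 0 :=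
      pow_ne_zero _ (by exact_mod_cast hp.ne_zero)
    apply mul_left_cancel₀ he
    rw [Finset.mul_sum, ← mul_assoc, ← pow_add,
      Nat.sub_add_cancel CfsgLib.BlockArith.blockDefect_le]
    have h := congrFun (CfsgLib.BlockArith.paReg_eq_sum (p := p) φ) g
    rw [Finset.sum_apply] at h
    refine Eq.trans ?_ (h.trans (Finset.sum_congr rfl fun ψ _ => ?_))
    · simp only [CfsgLib.BlockArith.paReg, Cfsg.pRegularPart, Cfsg.IsPRegular]
      split_ifs with h1 <;> simp_all
    · rw [Pi.smul_apply, smul_eq_mul, ← mul_assoc]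
      congr 1
      exact_mod_cast (CfsgLib.BlockArith.blockMat_mul hM hB hφ ψ).symm
  have hconv : ∀ f : Cfsg.IrrCharacter G → ℂ,
      ∑ᶠ ψ ∈ B, f ψ = ∑ ψ : Cfsg.IrrCharacter G, if ψ ∈ B then f ψ else 0 := fun f => by
    rw [finsum_mem_eq_finite_toFinset_sum _ (Set.toFinite B), ← Finset.sum_filter]
    exact Finset.sum_congr (by ext; simp) fun _ _ => rfl
  calc (p ^ Cfsg.blockDefect p B : ℂ) * Cfsg.pRegularPart p χ g
      = ∑ φ : Cfsg.IrrCharacter G, if φ ∈ B then
          (n φ : ℂ) * ((p ^ Cfsg.blockDefect p B : ℂ) * Cfsg.pRegularPart p (φ : G → ℂ) g)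
          else 0 := by
        simp only [Cfsg.pRegularPart]
        split_ifs with h1
        · rw [hn, hconv, Finset.mul_sum]
          exact Finset.sum_congr rfl fun φ _ => by split_ifs <;> ring
        · simp
    _ = ∑ φ : Cfsg.IrrCharacter G, ∑ ψ : Cfsg.IrrCharacter G, if φ ∈ B then
          ((n φ * CfsgLib.BlockArith.blockMat p B φ ψ : ℤ) : ℂ) * (ψ : G → ℂ) g else 0 := by
        refine Finset.sum_congr rfl fun φ _ => ?_
        split_ifs with hφ
        · rw [key φ hφ, Finset.mul_sum]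
          exact Finset.sum_congr rfl fun ψ _ => by push_cast; ring
        · simp
    _ = _ := by
        rw [hconv, Finset.sum_comm]
        refine Finset.sum_congr rfl fun ψ _ => ?_
        split_ifs with hψ
        · rw [Int.cast_sum, Finset.sum_mul]
          exact Finset.sum_congr rfl fun φ _ => by split_ifs <;> simp
        · refine Finset.sum_eq_zero fun φ _ => ?_
          simp [CfsgLib.BlockArith.blockMat, hψ]

end Cfsg.Agent.S4666
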