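import Cfsg.Statements.S4667
import Cfsg.Agent.Lib.BlockArith.RegCoef
import Mathlib.LinearAlgebra.Trace
import Mathlib.LinearAlgebra.Matrix.ToLin

set_option autoImplicit false
open Cfsg

namespace Cfsg.Agent.S4667

/-- Fix a prime p and a maximal ideal M of the algebraic integers containing p, and a p-block B of the finite group G. The p-regular rank of B (the number of irreducible Brauer characters in B) times the order of G equals the sum over the p-regular elements x of G of Σ_{χ ∈ B} χ(x) χ(x⁻¹) (written with the restriction of χ to p-regular elements, which vanishes at p-singular x). -/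
theorem result {G : Type*} [Group G] [Fintype G] (p : ℕ) [Fact p.Prime] (M : Ideal Cfsg.AlgInt) (hM : Cfsg.IsPModular p M) (B : Set (Cfsg.IrrCharacter G)) (hB : Cfsg.IsPBlock M B) : (Nat.card G : ℂ) * (Cfsg.blockRank p B : ℂ) = ∑ x : G, ∑ᶠ χ ∈ B, Cfsg.pRegularPart p (χ : G → ℂ) x * (χ : G → ℂ) x⁻¹ := by
  classical
  have := hM.2.1
  have hp : p.Prime := Fact.out
  set a := (Nat.card G).factorization p with ha
  have hq : ((p ^ a : ℕ) : ℂ) ≠ 0 := by exact_mod_cast pow_ne_zero a hp.ne_zero
  let N := CfsgLib.BlockArith.regCoef (G := G) p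
  have hN0 : ∀ χ ∈ B, ∀ ψ, ψ ∉ B → N χ ψ = 0 := fun χ hχ ψ hψ =>
    CfsgLib.BlockArith.regCoef_eq_zero hM fun hs =>
      hψ (CfsgLib.Blocks.isPBlock_eq_blockOf hB hχ ▸ hs)
  let Q : Matrix (Cfsg.IrrCharacter G) (Cfsg.IrrCharacter G) ℂ :=
    Matrix.of fun ψ χ => if χ ∈ B then (N χ ψ : ℂ) / ((p ^ a : ℕ) : ℂ) else 0
  have hQQ : Q * Q = Q := by
    ext η χ
    simp only [Q, Matrix.mul_apply, Matrix.of_apply]
    by_cases hχ : χ ∈ B
    · simp only [if_pos hχ]
      rw [Finset.sum_congr rfl (g := fun ψ => (N χ ψ * N ψ η : ℤ) /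
        (((p ^ a : ℕ) : ℂ) * ((p ^ a : ℕ) : ℂ))) fun ψ _ => by
          by_cases hψ : ψ ∈ B
          · rw [if_pos hψ]; push_cast; ring
          · rw [if_neg hψ, hN0 χ hχ ψ hψ]; simp,
        ← Finset.sum_div, ← Int.cast_sum, CfsgLib.BlockArith.regCoef_sum_mul]
      push_cast at hq ⊢
      rw [← ha]
      field_simp
      rfl
    · simp [hχ]
  let P := Matrix.toLin' Q
  have hP : LinearMap.IsProj (LinearMap.range P) P :=
    ⟨fun x => LinearMap.mem_range_self P x, fun x hx => by
      obtain ⟨y, rfl⟩ := hx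
      rw [← LinearMap.comp_apply, ← Matrix.toLin'_mul, hQQ]⟩
  -- the evaluation map
  let E : (Cfsg.IrrCharacter G → ℂ) →ₗ[ℂ] (G → ℂ) :=
    Fintype.linearCombination ℂ fun χ : Cfsg.IrrCharacter G => (χ : G → ℂ)
  have hE : Function.Injective E := by
    rw [← LinearMap.ker_eq_bot, LinearMap.ker_eq_bot']
    intro v hv
    funext χ
    have h := congrArg (fun f => Cfsg.classInner f (χ : G → ℂ)) hv
    simp only [E, Fintype.linearCombination_apply, CfsgLib.Char.classInner_sum_left,
      CfsgLib.Char.classInner_smul_left] at h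
    rw [Finset.sum_eq_single χ (fun ψ _ hne => by
      rw [CfsgLib.Char.classInner_irr_ne ψ.2 χ.2 (fun e => hne (Subtype.ext e)), mul_zero])
      (by simp), CfsgLib.Char.classInner_irr_self χ.2, mul_one] at h
    simpa [CfsgLib.Char.classInner_def] using h
  have hEP : ∀ χ : Cfsg.IrrCharacter G, E (P (Pi.single χ 1)) =
      if χ ∈ B then Cfsg.pRegularPart p (χ : G → ℂ) else 0 := by
    intro χ
    funext g
    simp only [E, P, Matrix.toLin'_apply, Matrix.mulVec_single_one, Fintype.linearCombination_apply,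
      Finset.sum_apply, Pi.smul_apply, smul_eq_mul, Q, Matrix.col_apply, Matrix.of_apply]
    by_cases hχ : χ ∈ B
    · simp only [if_pos hχ]
      apply mul_left_cancel₀ hq
      rw [Finset.mul_sum]
      have h := congrFun (CfsgLib.BlockArith.paReg_eq_sum (p := p) χ) g
      simp only [Finset.sum_apply, Pi.smul_apply, smul_eq_mul] at h
      refine Eq.trans (Finset.sum_congr rfl fun ψ _ => by rw [← mul_assoc, mul_div_cancel₀ _ hq]) (h.symm.trans ?_)
      simp only [CfsgLib.BlockArith.paReg, Cfsg.pRegularPart, Cfsg.IsPRegular, ← ha]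
      split_ifs <;> simp_all
    · simp [hχ]
  have hrange : Submodule.span ℂ
      ((fun χ : Cfsg.IrrCharacter G => Cfsg.pRegularPart p (χ : G → ℂ)) '' B) =
      (LinearMap.range P).map E := by
    refine le_antisymm ?_ ?_
    · rw [Submodule.span_le]
      rintro _ ⟨χ, hχ, rfl⟩
      exact ⟨P (Pi.single χ 1), LinearMap.mem_range_self _ _, by rw [hEP, if_pos hχ]⟩
    · rintro _ ⟨_, ⟨v, rfl⟩, rfl⟩
      rw [pi_eq_sum_univ' v, map_sum, map_sum]
      refine Submodule.sum_mem _ fun χ _ => ?_
      rw [map_smul, map_smul]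
      refine Submodule.smul_mem _ _ ?_
      have := hEP χ
      split_ifs at this with hχ
      · exact Submodule.subset_span ⟨χ, hχ, this.symm⟩
      · rw [this]; exact Submodule.zero_mem _
  have hrank : (Cfsg.blockRank p B : ℂ) = Matrix.trace Q := by
    rw [Cfsg.blockRank, hrange, ← (Submodule.equivMapOfInjective E hE _).finrank_eq,
      ← hP.trace, Matrix.trace_toLin'_eq]
  have hconv : ∀ f : Cfsg.IrrCharacter G → ℂ,
      ∑ᶠ ψ ∈ B, f ψ = ∑ ψ : Cfsg.IrrCharacter G, if ψ ∈ B then f ψ else 0 := fun f => by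
    rw [finsum_mem_eq_finite_toFinset_sum _ (Set.toFinite B), ← Finset.sum_filter]
    exact Finset.sum_congr (by ext; simp) fun _ _ => rfl
  simp only [hconv]
  rw [hrank, Matrix.trace, Finset.mul_sum]
  conv_rhs => rw [Finset.sum_comm]
  refine Finset.sum_congr rfl fun χ _ => ?_
  simp only [Matrix.diag_apply, Q, Matrix.of_apply]
  by_cases hχ : χ ∈ B
  · simp only [if_pos hχ]
    rw [← mul_div_assoc, CfsgLib.BlockArith.card_mul_regCoef, ← ha, mul_div_cancel_left₀ _ hq]
    refine Finset.sum_congr rfl fun x _ => ?_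
    simp only [Cfsg.pRegularPart, Cfsg.IsPRegular,
      CfsgLib.Char.char_inv (CfsgLib.Char.isCharacter_of_isIrr χ.2)]
    split_ifs <;> simp_all
  · simp [hχ]

end Cfsg.Agent.S4667
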