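import Cfsg.Statements.S4668
import Cfsg.Agent.Lib.BrauerPairs.Maximal
import Cfsg.Agent.Lib.Blocks.Orth
import Cfsg.Agent.Lib.Cores.Coprime

set_option autoImplicit false
open Cfsg

namespace Cfsg.Agent.S4668

/-- Fix a prime p and a maximal ideal M of the algebraic integers containing p. Let Q₀ < Q₁ < ⋯ < Q_m be a strictly increasing chain of p-subgroups of the finite group G and N the intersection of their normalizers. Then every block idempotent of N is supported on C_G(Q_m): for every p-block E of N, the idempotent coefficient of E vanishes at every element of N outside C_G(Q_m). -/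
theorem result {G : Type*} [Group G] [Fintype G] (p : ℕ) [Fact p.Prime] (M : Ideal Cfsg.AlgInt) (hM : Cfsg.IsPModular p M) (m : ℕ) (Q : Fin (m + 1) → Subgroup G) (hQ : StrictMono Q) (hQp : ∀ i, IsPGroup p (Q i)) (N : Subgroup G) (hN : ∀ g : G, g ∈ N ↔ ∀ i, g ∈ Subgroup.normalizer (Q i : Set G)) (E : Set (Cfsg.IrrCharacter N)) (hE : Cfsg.IsPBlock M E) (n : N) (hn : (n : G) ∉ Subgroup.centralizer (Q (Fin.last m) : Set G)) : Cfsg.blockCoeff E n = 0 := by
  have : M.IsMaximal := hM.2.1
  by_contra h0
  have : Fintype N := Fintype.ofFinite N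
  have hreg : ¬ p ∣ orderOf n := fun h => h0 (CfsgLib.Blocks.blockCoeff_eq_zero hM hE h)
  have hco : (orderOf (n : G)).Coprime p := by
    rw [Subgroup.orderOf_coe]
    exact (hM.1.coprime_iff_not_dvd.mpr hreg).symm
  have hnQ : ∀ i, (n : G) ∈ Subgroup.normalizer (Q i : Set G) := (hN n).mp n.2
  have hfix : ∀ i, ∀ y ∈ Q i ⊓ N, Commute (n : G) y := by
    intro i y hy
    have hNQ : N ≤ Subgroup.normalizer (Q i : Set G) := fun g hg => (hN g).mp hg i
    have : (((Q i) ⊓ N).subgroupOf N).Normal := by
      refine ⟨fun z hz g => ⟨?_, (g * z * g⁻¹).2⟩⟩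
      exact (Subgroup.mem_set_normalizer_iff.mp (hNQ g.2) z).mp hz.1
    have hp' : IsPGroup p (((Q i) ⊓ N).subgroupOf N) :=
      ((hQp i).to_le inf_le_left).of_equiv
        (Subgroup.subgroupOfEquivOfLe (inf_le_right : Q i ⊓ N ≤ N)).symm
    by_contra hc
    refine h0 (CfsgLib.BrauerPairs.blockCoeff_eq_zero_normal hM hp' hE fun hmem => hc ?_)
    exact (congrArg Subtype.val (Subgroup.mem_centralizer_iff.mp hmem ⟨y, hy.2⟩ hy) :
      y * (n : G) = (n : G) * y).symm
  have hall : ∀ i, ∀ y ∈ Q i, Commute (n : G) y := by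
    intro i
    induction i using WellFoundedLT.induction with
    | _ i ih =>
      have hle : (⨆ (j : Fin (m + 1)) (_ : j < i), Q j) ⊔ (Q i ⊓ N) ≤ Q i :=
        sup_le (iSup₂_le fun j hj => (hQ hj).le) inf_le_left
      refine CfsgLib.Cores.axb ((hQp i).to_le hle) (hQp i) (hle.trans Subgroup.le_normalizer) (hnQ i)
        hco (fun y hy => ?_) (fun c hc hcP => ?_)
      · have h1 : (⨆ (j : Fin (m + 1)) (_ : j < i), Q j) ⊔ (Q i ⊓ N) ≤
            Subgroup.centralizer ({(n : G)} : Set G) :=
          sup_le (iSup₂_le fun j hj z hz => Subgroup.mem_centralizer_singleton_iff.mpr (ih j hj z hz).symm)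
            (fun z hz => Subgroup.mem_centralizer_singleton_iff.mpr (hfix i z hz).symm)
        exact (Subgroup.mem_centralizer_singleton_iff.mp (h1 hy) : y * (n : G) = (n : G) * y).symm
      · refine hfix i c ⟨hc, (hN c).mpr fun j => ?_⟩
        rcases lt_or_ge j i with hj | hj
        · refine Subgroup.centralizer_le_normalizer _ (Subgroup.mem_centralizer_iff.mpr fun z hz => ?_)
          exact ((hcP z (Subgroup.mem_sup_left (le_iSup₂ (f := fun j (_ : j < i) => Q j) j hj hz))).eq).symm
        · exact Subgroup.le_normalizer ((hQ.monotone hj) hc)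
  exact hn (Subgroup.mem_centralizer_iff.mpr fun y hy => ((hall (Fin.last m) y hy).eq).symm)


end Cfsg.Agent.S4668
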