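import Cfsg.Statements.S4670
import Cfsg.Agent.Lib.BrauerPairs.Correspondence
import Cfsg.Agent.Lib.BrauerPairs.Stable

set_option autoImplicit false
open Cfsg

namespace Cfsg.Agent.S4670

open CfsgLib.BrauerPairs CfsgLib.Blocks in
theorem exists_maximal_at {G : Type*} [Group G] [Fintype G] {p : ℕ} [Fact p.Prime]
    {M : Ideal Cfsg.AlgInt} [M.IsMaximal] (hM : Cfsg.IsPModular p M) {B : Set (Cfsg.IrrCharacter G)}
    (hB : Cfsg.IsPBlock M B) {P : Subgroup G} (hD : Cfsg.IsDefectGroup p M B P) :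
    ∃ e : Set (Cfsg.IrrCharacter (Subgroup.centralizer (P : Set G))),
      Cfsg.IsMaximalBrauerPair p M B P e := by
  have hP := IsDefectGroup.isPGroup hD
  obtain ⟨e, he, hocc⟩ := exists_occurs' (centralIn_br (isFixed_gidemTop _ B)) (br_top_idem hM hB hP)
    (br_gidemTop_ne_zero hB hD)
  exact ⟨e, isMaximal_of_card hM ((brauerPairOf_iff hM).mpr ⟨⟨hP, he⟩, hB, hocc⟩)
    (card_defectGroup hM hB hD).ge⟩

open CfsgLib.BrauerPairs CfsgLib.Blocks in
theorem congr_iff {G : Type*} [Group G] [Fintype G]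
    {M : Ideal Cfsg.AlgInt} [M.IsMaximal] {B : Set (Cfsg.IrrCharacter G)} (hB : Cfsg.IsPBlock M B)
    {P H : Subgroup G} [Fintype H] {c : Set (Cfsg.IrrCharacter H)} (hc : Cfsg.IsPBlock M c) :
    (∀ x : G, x ∈ Subgroup.centralizer (P : Set G) →
      Cfsg.MemLocalIdeal M (Cfsg.blockCoeff B x - Cfsg.subgroupBlockCoeff H c x)) ↔
      br P (gidemTop M B) = br P (gidem M H c) := by
  have hl : ∀ x, Cfsg.subgroupBlockCoeff H c x ∈ locRing M := subgroupBlockCoeff_mem hc
  have hl' := blockCoeff_mem_locRing hB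
  have key : ∀ x, Cfsg.MemLocalIdeal M (Cfsg.blockCoeff B x - Cfsg.subgroupBlockCoeff H c x) ↔
      (gidemTop M B).coeff x = (gidem M H c).coeff x := fun x => by
    rw [gidemTop, gidem, coeff_ofFun, coeff_ofFun, resD_eq (hl' x), resD_eq (hl x)]
    exact memLocalIdeal_sub_iff (x := ⟨_, hl' x⟩) (y := ⟨_, hl x⟩)
  constructor
  · intro h
    refine ext_coeff fun x => ?_
    rw [coeff_br, coeff_br]
    split_ifs with hx
    · exact (key x).mp (h x hx)
    · rfl
  · intro h x hx
    have h1 := congrArg (fun z => z.coeff x) h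
    simp only [coeff_br, if_pos hx] at h1
    exact (key x).mpr h1

/-- Fix a prime p and a maximal ideal M of the algebraic integers containing p. Let P be a p-subgroup of the finite group G and H a subgroup containing N_G(P). For every p-block B of G with defect group P there is exactly one p-block c of H with defect group P whose idempotent agrees with that of B, modulo the local ideal at M, at every element of C_G(P) (their Brauer-map images at P coincide); and every p-block c of H with defect group P arises in this way from exactly one such B. This is the Brauer correspondence over H. -/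
theorem result {G : Type*} [Group G] [Fintype G] (p : ℕ) [Fact p.Prime] (M : Ideal Cfsg.AlgInt) (hM : Cfsg.IsPModular p M) (P H : Subgroup G) (hP : IsPGroup p P) (hH : Subgroup.normalizer (P : Set G) ≤ H) : (∀ B : Set (Cfsg.IrrCharacter G), Cfsg.IsPBlock M B → Cfsg.IsDefectGroup p M B P → ∃! c : Set (Cfsg.IrrCharacter H), Cfsg.IsPBlock M c ∧ Cfsg.IsDefectGroup p M c (P.subgroupOf H) ∧ ∀ x : G, x ∈ Subgroup.centralizer (P : Set G) → Cfsg.MemLocalIdeal M (Cfsg.blockCoeff B x - Cfsg.subgroupBlockCoeff H c x)) ∧ (∀ c : Set (Cfsg.IrrCharacter H), Cfsg.IsPBlock M c → Cfsg.IsDefectGroup p M c (P.subgroupOf H) → ∃! B : Set (Cfsg.IrrCharacter G), Cfsg.IsPBlock M B ∧ Cfsg.IsDefectGroup p M B P ∧ ∀ x : G, x ∈ Subgroup.centralizer (P : Set G) → Cfsg.MemLocalIdeal M (Cfsg.blockCoeff B x - Cfsg.subgroupBlockCoeff H c x)) := by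
  have : M.IsMaximal := hM.2.1
  classical
  have := Fintype.ofFinite H
  have hPH : P ≤ H := Subgroup.le_normalizer.trans hH
  have hmP : (P.subgroupOf H).map H.subtype = P := Subgroup.map_subgroupOf_eq_of_le hPH
  have hC := CfsgLib.BrauerPairs.cen_map_subgroupOf (P := P) hH
  have hP' : IsPGroup p (P.subgroupOf H) := hP.of_equiv (Subgroup.subgroupOfEquivOfLe hPH).symm
  have hemb : ∀ c : Set (Cfsg.IrrCharacter H), Cfsg.IsPBlock M c →
      CfsgLib.BrauerPairs.br P (CfsgLib.BrauerPairs.gidem M H c) = CfsgLib.BrauerPairs.emb H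
        (CfsgLib.BrauerPairs.br (P.subgroupOf H) (CfsgLib.BrauerPairs.gidemTop M c)) := fun c hc => by
    rw [CfsgLib.BrauerPairs.gidem_eq_emb hc, CfsgLib.BrauerPairs.gidemTop_eq hc,
      CfsgLib.BrauerPairs.emb_br (fun z => CfsgLib.BrauerPairs.cen_iff_map hC z)]
  refine ⟨fun B hB hBD => ?_, fun c hc hcD => ?_⟩
  · obtain ⟨e, hmax⟩ := exists_maximal_at hM hB hBD
    obtain ⟨e', he', hu⟩ := CfsgLib.BrauerPairs.exists_down (M := M) ‹Fact p.Prime›
      (A := P.subgroupOf H) (b := ⟨P, e⟩) hC hmax.1.1.2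
    obtain ⟨c, hc, -⟩ := CfsgLib.BrauerPairs.existsUnique_block hM (P := P.subgroupOf H) (e := e')
      ⟨hP', he'⟩
    have hcmax := (CfsgLib.BrauerPairs.maximal_iff_over hH hM hu hmax.1 hc).mp hmax
    refine ⟨c, ⟨hc.2.1, CfsgLib.BrauerPairs.isDefectGroup_of_maximal hM hcmax,
      (congr_iff (P := P) hB hc.2.1).mpr (CfsgLib.BrauerPairs.br_eq_of_up hH hM hu hmax hcmax)⟩, ?_⟩
    rintro c' ⟨hc', -, hcoe⟩
    have h1 := (congr_iff (P := P) hB hc').mp hcoe
    have h2 := ((CfsgLib.BrauerPairs.brauerPairOf_iff hM).mp hmax.1).2.2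
    have h3 : Cfsg.IsBrauerPairOf p M c' (P.subgroupOf H) e' :=
      (CfsgLib.BrauerPairs.brauerPairOf_iff hM).mpr ⟨⟨hP', he'⟩, hc',
        CfsgLib.BrauerPairs.emb_injective H (by
          rw [map_mul, ← hemb c' hc', ← h1,
            show CfsgLib.BrauerPairs.emb H (CfsgLib.BrauerPairs.gidem M
              (Subgroup.centralizer ((P.subgroupOf H : Subgroup H) : Set H)) e') =
              CfsgLib.BrauerPairs.gidem M (Subgroup.centralizer (P : Set G)) e from hu.pid_eq.symm]
          exact h2)⟩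
    exact (CfsgLib.BrauerPairs.existsUnique_block hM hc.1).unique h3 hc
  · obtain ⟨e', hmax⟩ := exists_maximal_at hM hc hcD
    obtain ⟨e, he, hu⟩ := CfsgLib.BrauerPairs.exists_up (M := M) ‹Fact p.Prime›
      (a := ⟨P.subgroupOf H, e'⟩) (A' := P) hC hmax.1.1.2
    obtain ⟨B, hB, -⟩ := CfsgLib.BrauerPairs.existsUnique_block hM (P := P) (e := e) ⟨hP, he⟩
    have hBmax := (CfsgLib.BrauerPairs.maximal_iff_over hH hM hu hB hmax.1).mpr hmax
    refine ⟨B, ⟨hB.2.1, CfsgLib.BrauerPairs.isDefectGroup_of_maximal hM hBmax,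
      (congr_iff (P := P) hB.2.1 hc).mpr (CfsgLib.BrauerPairs.br_eq_of_up hH hM hu hBmax hmax)⟩, ?_⟩
    rintro B' ⟨hB', -, hcoe⟩
    have h1 := (congr_iff (P := P) hB' hc).mp hcoe
    have h2 := ((CfsgLib.BrauerPairs.brauerPairOf_iff hM).mp hmax.1).2.2
    have h3 : Cfsg.IsBrauerPairOf p M B' P e :=
      (CfsgLib.BrauerPairs.brauerPairOf_iff hM).mpr ⟨⟨hP, he⟩, hB', by
        rw [h1, hemb c hc,
          show CfsgLib.BrauerPairs.gidem M (Subgroup.centralizer (P : Set G)) e =
            CfsgLib.BrauerPairs.emb H (CfsgLib.BrauerPairs.gidem M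
              (Subgroup.centralizer ((P.subgroupOf H : Subgroup H) : Set H)) e') from hu.pid_eq,
          ← map_mul, h2]⟩
    exact (CfsgLib.BrauerPairs.existsUnique_block hM hB.1).unique h3 hB


end Cfsg.Agent.S4670
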