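import Cfsg.Statements.S4672
import Cfsg.Agent.Lib.BrauerPairs.Stable

set_option autoImplicit false
open Cfsg

namespace Cfsg.Agent.S4672

/-- Fix a prime p and a maximal ideal M of the algebraic integers containing p. Let N be a normal subgroup of the finite group G of p-power index and c a p-block of N stable under conjugation by G. Then the idempotent of c is a block idempotent of G: there is a p-block B of G whose idempotent coefficients agree with those of c on N and vanish off N; and for every defect group P of such a block B, G = NP and P ∩ N is a defect group of c. -/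
theorem result {G : Type*} [Group G] [Fintype G] (p : ℕ) [Fact p.Prime] (M : Ideal Cfsg.AlgInt) (hM : Cfsg.IsPModular p M) (N : Subgroup G) [N.Normal] (hN : ∃ k : ℕ, N.index = p ^ k) (c : Set (Cfsg.IrrCharacter N)) (hc : Cfsg.IsPBlock M c) (hst : ∀ x : G, Cfsg.StabilizesBlock N c x) : (∃ B : Set (Cfsg.IrrCharacter G), Cfsg.IsPBlock M B ∧ ∀ g : G, Cfsg.blockCoeff B g = Cfsg.subgroupBlockCoeff N c g) ∧ ∀ B : Set (Cfsg.IrrCharacter G), Cfsg.IsPBlock M B → (∀ g : G, Cfsg.blockCoeff B g = Cfsg.subgroupBlockCoeff N c g) → ∀ P : Subgroup G, Cfsg.IsDefectGroup p M B P → N ⊔ P = ⊤ ∧ Cfsg.IsDefectGroup p M c ((P ⊓ N).subgroupOf N) := by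
  have : M.IsMaximal := hM.2.1
  have : Fintype N := Fintype.ofFinite N
  have hst' : ∀ x : G, CfsgLib.BrauerPairs.cjA x (CfsgLib.BrauerPairs.gidem M N c) =
      CfsgLib.BrauerPairs.gidem M N c :=
    fun x => ((CfsgLib.BrauerPairs.stabilizesBlock_iff hc).mp (hst x)).2
  obtain ⟨B, hB, heq, hcoe⟩ := CfsgLib.BrauerPairs.exists_block_of_stable hM hN hc hst'
  refine ⟨⟨B, hB, hcoe⟩, fun B' hB' hcoe' P hP => ?_⟩
  have heq' : CfsgLib.BrauerPairs.gidemTop M B' = CfsgLib.BrauerPairs.gidem M N c :=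
    CfsgLib.BrauerPairs.ext_coeff fun g => by
      simp only [CfsgLib.BrauerPairs.gidemTop, CfsgLib.BrauerPairs.gidem, CfsgLib.Blocks.coeff_ofFun,
        hcoe' g]
  refine ⟨?_, CfsgLib.BrauerPairs.isDefectGroup_inf hM hc hB' heq' hP⟩
  obtain ⟨k, hk⟩ := hN
  have h1 := CfsgLib.BrauerPairs.not_dvd_index_sup hM hc hst' hB' heq' hP
  have h2 : (N ⊔ P).index ∣ p ^ k := hk ▸ Subgroup.index_dvd_of_le le_sup_left
  rw [← Subgroup.index_eq_one]
  exact Nat.Coprime.eq_one_of_dvd (Nat.Coprime.pow_right k (hM.1.coprime_iff_not_dvd.mpr h1).symm) h2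


end Cfsg.Agent.S4672
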