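import Cfsg.Statements.S4673
import Cfsg.Agent.Lib.BrauerPairs.Cover

set_option autoImplicit false
open Cfsg

namespace Cfsg.Agent.S4673

/-- Fix a prime p and a maximal ideal M of the algebraic integers containing p. Let N ≤ L be normal subgroups of the finite group G with L/N a p-group, let B be a p-block of G covering the p-block c of N (some member of B has a constituent in c on restriction to N), and suppose that N contains a defect group of B. Then the stabilizer T of c in G satisfies T ∩ L = N. -/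
theorem result {G : Type*} [Group G] [Fintype G] (p : ℕ) [Fact p.Prime] (M : Ideal Cfsg.AlgInt) (hM : Cfsg.IsPModular p M) (N L : Subgroup G) [N.Normal] [L.Normal] [Fintype N] (hNL : N ≤ L) (hLN : ∃ k : ℕ, (N.subgroupOf L).index = p ^ k) (B : Set (Cfsg.IrrCharacter G)) (hB : Cfsg.IsPBlock M B) (c : Set (Cfsg.IrrCharacter N)) (hc : Cfsg.IsPBlock M c) (hcov : (∃ χ ∈ B, ∃ θ ∈ c, Cfsg.classInner (fun n : N => (χ : G → ℂ) n) (θ : N → ℂ) ≠ 0)) (hD : ∃ D : Subgroup G, Cfsg.IsDefectGroup p M B D ∧ D ≤ N) (T : Subgroup G) (hT : ∀ x : G, x ∈ T ↔ Cfsg.StabilizesBlock N c x) : T ⊓ L = N := by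
  have : M.IsMaximal := hM.2.1
  obtain ⟨D, hD, hDN⟩ := hD
  have hne := (CfsgLib.BrauerPairs.covers_iff hB hc).mp hcov
  refine le_antisymm ?_ (le_inf (fun x hx => (hT x).mpr
    ((CfsgLib.BrauerPairs.stabilizesBlock_iff hc).mpr ⟨Subgroup.le_normalizer hx,
      (CfsgLib.BrauerPairs.centralIn_gidem c).2 x hx⟩)) hNL)
  set T' := T ⊓ L with hT'
  have hfix : ∀ x ∈ T', CfsgLib.BrauerPairs.cjA x (CfsgLib.BrauerPairs.gidem M N c) =
      CfsgLib.BrauerPairs.gidem M N c := fun x hx =>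
    ((CfsgLib.BrauerPairs.stabilizesBlock_iff hc).mp ((hT x).mp hx.1)).2
  have hNT' : N ≤ T' := le_inf (fun x hx => (hT x).mpr
    ((CfsgLib.BrauerPairs.stabilizesBlock_iff hc).mpr ⟨Subgroup.le_normalizer hx,
      (CfsgLib.BrauerPairs.centralIn_gidem c).2 x hx⟩)) hNL
  have := Fintype.ofFinite T'
  have := Fintype.ofFinite L
  -- a block of `L` between `B` and `c`
  have hfixL : CfsgLib.BrauerPairs.IsFixed N (CfsgLib.BrauerPairs.gidem M N c) :=
    (CfsgLib.BrauerPairs.centralIn_gidem c).2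
  have := Fintype.ofFinite (CfsgLib.BrauerPairs.Blk M L)
  have hsupp : ∀ b : CfsgLib.BrauerPairs.Blk M L,
      CfsgLib.BrauerPairs.CentralIn N (CfsgLib.BrauerPairs.gidem M L b.1) := fun b =>
    CfsgLib.BrauerPairs.centralIn_of_mono (CfsgLib.BrauerPairs.centralIn_gidem b.1) hNL fun g hg => by
      by_cases hgL : g ∈ L
      · rw [CfsgLib.BrauerPairs.gidem_eq_emb b.2,
          show (CfsgLib.BrauerPairs.emb L (CfsgLib.BrauerPairs.ridem b.2)).coeff g = _ from
            CfsgLib.BrauerPairs.coeff_emb L _ ⟨g, hgL⟩,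
          ← CfsgLib.BrauerPairs.gidemTop_eq b.2, CfsgLib.BrauerPairs.gidemTop,
          CfsgLib.Blocks.coeff_ofFun, CfsgLib.Blocks.blockCoeff_eq_zero hM b.2 (by
            by_contra h
            exact hg (CfsgLib.Blocks.mem_of_index_pow (N := N.subgroupOf L) hM.1 hLN h)),
          CfsgLib.BrauerPairs.resD_zero]
      · exact (CfsgLib.BrauerPairs.centralIn_gidem b.1).1 g hgL
  obtain ⟨b, hb⟩ : ∃ b : CfsgLib.BrauerPairs.Blk M L, CfsgLib.BrauerPairs.gidemTop M B *
      CfsgLib.BrauerPairs.gidem M N c * CfsgLib.BrauerPairs.gidem M L b.1 ≠ 0 := by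
    by_contra hcon
    push Not at hcon
    apply hne
    rw [← mul_one (CfsgLib.BrauerPairs.gidemTop M B * CfsgLib.BrauerPairs.gidem M N c),
      ← CfsgLib.BrauerPairs.sum_gidem (M := M) L, Finset.mul_sum]
    exact Finset.sum_eq_zero fun b _ => hcon b
  have hbc : CfsgLib.BrauerPairs.gidem M L b.1 * CfsgLib.BrauerPairs.gidem M N c =
      CfsgLib.BrauerPairs.gidem M N c := by
    refine (CfsgLib.BrauerPairs.occurs_cases (hsupp b) (CfsgLib.BrauerPairs.gidem_mul_self b.2)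
      hc).resolve_right fun h => hb ?_
    rw [mul_assoc, ← CfsgLib.BrauerPairs.commute_of_fixed (hsupp b).2
      (CfsgLib.BrauerPairs.centralIn_gidem c).1, h, mul_zero]
  have hbB : CfsgLib.BrauerPairs.gidemTop M B * CfsgLib.BrauerPairs.gidem M L b.1 ≠ 0 := fun h => hb (by
    rw [mul_assoc, ← CfsgLib.BrauerPairs.commute_of_fixed (hsupp b).2
      (CfsgLib.BrauerPairs.centralIn_gidem c).1, ← mul_assoc, h, zero_mul])
  -- the block of `T'` over `c`
  have hN' : (N.subgroupOf T').Normal := Subgroup.Normal.subgroupOf ‹N.Normal› T'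
  have := Fintype.ofFinite (N.subgroupOf T')
  set e := Subgroup.subgroupOfEquivOfLe hNT' with he
  set c' := CfsgLib.BrauerPairs.tblock e.symm c with hc'def
  have hc' : Cfsg.IsPBlock M c' := CfsgLib.BrauerPairs.isPBlock_tblock _ hc
  have hcoe : CfsgLib.BrauerPairs.gidem M N c =
      CfsgLib.BrauerPairs.emb T' (CfsgLib.BrauerPairs.gidem M (N.subgroupOf T') c') :=
    CfsgLib.BrauerPairs.gidem_of_coeff _ _ (Subgroup.map_subgroupOf_eq_of_le hNT') c' c
      fun k hk => (CfsgLib.BrauerPairs.blockCoeff_tblock e.symm c ⟨_, hk⟩).symm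
  obtain ⟨F, hF, hFc, -⟩ := CfsgLib.BrauerPairs.exists_block_of_stable hM
    (N := N.subgroupOf T') (by
      obtain ⟨k, hk⟩ := hLN
      obtain ⟨i, -, hi⟩ := (Nat.dvd_prime_pow hM.1).mp ((show N.relIndex T' ∣ N.relIndex L from
        Dvd.intro _ (Subgroup.relIndex_mul_relIndex N T' L hNT' inf_le_right)).trans (dvd_of_eq hk))
      exact ⟨i, hi⟩) hc'
    (fun x => CfsgLib.BrauerPairs.emb_injective T' (by
      rw [CfsgLib.BrauerPairs.emb_cjA, ← hcoe, hfix x x.2]))
  have hgF : CfsgLib.BrauerPairs.gidem M T' F = CfsgLib.BrauerPairs.gidem M N c := by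
    rw [hcoe, ← hFc, CfsgLib.BrauerPairs.gidemTop_eq hF, CfsgLib.BrauerPairs.gidem_eq_emb hF]
  obtain ⟨P', hP'⟩ := CfsgLib.Blocks.exists_isDefectGroup (p := p) hF
  have hidx := CfsgLib.BrauerPairs.not_dvd_index_sup hM hc'
    (fun x => CfsgLib.BrauerPairs.emb_injective T' (by
      rw [CfsgLib.BrauerPairs.emb_cjA, ← hcoe, hfix x x.2])) hF hFc hP'
  set R := P'.map T'.subtype with hR
  have hRL : R ≤ L := (Subgroup.map_subtype_le P').trans inf_le_right
  have hRp : IsPGroup p R := (CfsgLib.Blocks.IsDefectGroup.isPGroup hP').map _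
  have hbr : CfsgLib.BrauerPairs.br R (CfsgLib.BrauerPairs.gidem M L b.1) ≠ 0 := by
    intro h0
    apply CfsgLib.BrauerPairs.br_ne_zero_of_defect hF hP'
    rw [hgF, ← hbc, CfsgLib.BrauerPairs.br_mul hM hRp
      ((CfsgLib.BrauerPairs.centralIn_gidem b.1).2.mono hRL)
      (fun x hx => hfix x (Subgroup.map_subtype_le P' hx)), h0, zero_mul]
  obtain ⟨R', hR', hRR'⟩ := CfsgLib.BrauerPairs.exists_defect_ge hM b.2 hRp hRL hbr
  obtain ⟨x, hx⟩ := CfsgLib.BrauerPairs.exists_conj_le_defect hM hB hD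
    ((CfsgLib.Blocks.IsDefectGroup.isPGroup hR').map L.subtype)
    (CfsgLib.BrauerPairs.br_ne_zero_of_cover hM hB b.2 hbB hR')
  have hRN : R ≤ N := by
    intro r hr
    have h1 : x * r * x⁻¹ ∈ N := hDN (hx ⟨r, ⟨⟨r, hRL hr⟩, hRR' hr, rfl⟩, rfl⟩)
    simpa [mul_assoc] using ‹N.Normal›.conj_mem _ h1 x⁻¹
  -- conclude
  have hsup : N.subgroupOf T' ⊔ P' = N.subgroupOf T' :=
    sup_eq_left.mpr fun y hy => hRN ⟨y, hy, rfl⟩
  rw [hsup] at hidx
  obtain ⟨k, hk⟩ := hLN
  have hdvd : (N.subgroupOf T').index ∣ p ^ k := (show N.relIndex T' ∣ N.relIndex L from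
    Dvd.intro _ (Subgroup.relIndex_mul_relIndex N T' L hNT' inf_le_right)).trans (dvd_of_eq hk)
  have h1 : (N.subgroupOf T').index = 1 :=
    Nat.Coprime.eq_one_of_dvd (Nat.Coprime.pow_right k (hM.1.coprime_iff_not_dvd.mpr hidx).symm) hdvd
  exact fun y hy => Subgroup.subgroupOf_eq_top.mp (Subgroup.index_eq_one.mp h1) hy


end Cfsg.Agent.S4673
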