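import Cfsg.Statements.S4675
import Cfsg.Agent.Lib.BlockArith.RegCoef
import Cfsg.Agent.Lib.BlockArith.SmallRank
import Cfsg.Agent.Lib.CharBlocks.Degree

set_option autoImplicit false
open Cfsg

namespace Cfsg.Agent.S4675

open CfsgLib.Blocks CfsgLib.BlockArith CfsgLib.Char
open scoped ComplexConjugate

theorem bezout {ι : Type*} [DecidableEq ι] (s : Finset ι) (a : ι → ℕ) :
    ∃ n : ι → ℤ, ∑ i ∈ s, n i * (a i : ℤ) = (s.gcd a : ℕ) := by
  induction s using Finset.induction with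
  | empty => exact ⟨0, by simp⟩
  | insert i s hi ih =>
    obtain ⟨n, hn⟩ := ih
    refine ⟨fun j => if j = i then Nat.gcdA (a i) (s.gcd a) else Nat.gcdB (a i) (s.gcd a) * n j, ?_⟩
    rw [Finset.sum_insert hi, Finset.gcd_insert]
    beta_reduce
    rw [if_pos rfl,
      Finset.sum_congr rfl (g := fun j => Nat.gcdB (a i) (s.gcd a) * (n j * (a j : ℤ)))
        (fun j hj => by rw [if_neg (fun h : j = i => hi (h ▸ hj))]; ring),
      ← Finset.mul_sum, hn]
    show _ = ((Nat.gcd (a i) (s.gcd a) : ℕ) : ℤ)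
    rw [Nat.gcd_eq_gcd_ab]
    ring

theorem rank_one_block {G : Type*} [Group G] [Fintype G] {p : ℕ} [hp : Fact p.Prime]
    {M : Ideal AlgInt} (hM : IsPModular p M) {B : Set (IrrCharacter G)} (hB : IsPBlock M B)
    {P : Subgroup G} (hP : IsDefectGroup p M B P) (hl : blockRank p B = 1) :
    ∃ φ : G → ℂ, ∃ d : IrrCharacter G → ℕ, (∃ n : IrrCharacter G → ℤ, ∀ x : G, IsPRegular p x →
      φ x = ∑ᶠ ψ ∈ B, (n ψ : ℂ) * (ψ : G → ℂ) x) ∧
      (∀ χ ∈ B, ∀ x : G, IsPRegular p x → (χ : G → ℂ) x = (d χ : ℂ) * φ x) ∧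
      ∑ᶠ χ ∈ B, d χ ^ 2 = Nat.card P := by
  classical
  have : M.IsMaximal := hM.2.1
  obtain ⟨χ₀, h₀, hh₀⟩ := exists_height_zero hM hB
  have h1reg : ¬ p ∣ orderOf (1 : G) := by rw [orderOf_one]; exact hp.out.not_dvd_one
  let S := Submodule.span ℂ ((fun χ : IrrCharacter G => pRegularPart p (χ : G → ℂ)) '' B)
  have hprop : ∀ χ ∈ B, ∀ x : G, ¬ p ∣ orderOf x →
      (χ₀ : G → ℂ) 1 * (χ : G → ℂ) x = (χ : G → ℂ) 1 * (χ₀ : G → ℂ) x := by
    intro χ hχ x hx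
    have hmem : ∀ η ∈ B, pRegularPart p (η : G → ℂ) ∈ S := fun η hη => Submodule.subset_span ⟨η, hη, rfl⟩
    have hne : (⟨_, hmem χ₀ h₀⟩ : S) ≠ 0 := fun h => by
      have h2 := congrFun (congrArg Subtype.val h) (1 : G)
      simp only [pRegularPart_apply, if_neg h1reg] at h2
      exact irr_one_ne_zero χ₀.2 h2
    obtain ⟨c, hc⟩ := exists_smul_eq_of_finrank_eq_one (K := ℂ) (V := S) hl hne ⟨_, hmem χ hχ⟩
    have hc' : ∀ y : G, ¬ p ∣ orderOf y → c * (χ₀ : G → ℂ) y = (χ : G → ℂ) y := by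
      intro y hy
      have h2 := congrFun (congrArg Subtype.val hc) y
      simp only [SetLike.val_smul, Pi.smul_apply, smul_eq_mul, pRegularPart_apply, if_neg hy] at h2
      exact h2
    rw [← hc' x hx, ← hc' 1 h1reg]
    ring
  set s := Finset.univ.filter (· ∈ B)
  set g := s.gcd fun χ : IrrCharacter G => charDegree (χ : G → ℂ)
  have hdvd : ∀ χ ∈ B, g ∣ charDegree (χ : G → ℂ) := fun χ hχ =>
    Finset.gcd_dvd (by simp [s, hχ])
  have hg0 : g ≠ 0 := fun h => charDegree_ne_zero χ₀ (Nat.eq_zero_of_zero_dvd (h ▸ hdvd χ₀ h₀))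
  have hgC : (g : ℂ) ≠ 0 := Nat.cast_ne_zero.mpr hg0
  let d : IrrCharacter G → ℕ := fun χ => charDegree (χ : G → ℂ) / g
  have hd : ∀ χ ∈ B, (χ : G → ℂ) 1 = (d χ : ℂ) * g := fun χ hχ => by
    rw [← CfsgLib.CharBlocks.coe_charDegree_irr, ← Nat.cast_mul, Nat.div_mul_cancel (hdvd χ hχ)]
  obtain ⟨n, hn⟩ := bezout s fun χ : IrrCharacter G => charDegree (χ : G → ℂ)
  let φ : G → ℂ := fun x => (g : ℂ) / (χ₀ : G → ℂ) 1 * (χ₀ : G → ℂ) x
  have h01 := irr_one_ne_zero χ₀.2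
  have hφ : ∀ χ ∈ B, ∀ x : G, ¬ p ∣ orderOf x → (χ : G → ℂ) x = (d χ : ℂ) * φ x := by
    intro χ hχ x hx
    apply mul_left_cancel₀ h01
    rw [hprop χ hχ x hx, hd χ hχ]
    simp only [φ]
    field_simp
  have hnd : ∑ χ ∈ s, n χ * (d χ : ℤ) = 1 := by
    apply mul_right_cancel₀ (Nat.cast_ne_zero.mpr hg0 : (g : ℤ) ≠ 0)
    rw [one_mul, Finset.sum_mul]
    refine Eq.trans (Finset.sum_congr rfl fun χ hχ => ?_) hn
    rw [mul_assoc, ← Nat.cast_mul, Nat.div_mul_cancel (hdvd χ (Finset.mem_filter.mp hχ).2)]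
  refine ⟨φ, d, ⟨n, fun x hx => ?_⟩, hφ, ?_⟩
  · rw [finsum_mem_eq_finite_toFinset_sum _ (Set.toFinite _),
      Finset.sum_congr (s₂ := s) (by ext; simp [s]) (fun χ _ => rfl),
      Finset.sum_congr rfl (g := fun χ : IrrCharacter G => ((n χ * (d χ : ℤ) : ℤ) : ℂ) * φ x) (fun χ hχ => by
        rw [hφ χ (Finset.mem_filter.mp hχ).2 x hx]; push_cast; ring),
      ← Finset.sum_mul, ← Int.cast_sum, hnd, Int.cast_one, one_mul]
  -- the integer pairing
  have hpp : (p : ℤ) ≠ 0 := by exact_mod_cast hp.out.ne_zero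
  let u : ℂ := ((p ^ (Nat.card G).factorization p : ℕ) : ℂ) *
    (∑ x : G, if p ∣ orderOf x then 0 else φ x * conj (φ x)) /
    ((Nat.card G : ℂ) * (p : ℂ) ^ ((Nat.card G).factorization p - blockDefect p B))
  have hB' : ∀ χ ∈ B, ∀ ψ ∈ B, (blockMat p B χ ψ : ℂ) = (d χ : ℂ) * (d ψ : ℂ) * u := by
    intro χ hχ ψ hψ
    have h := blockMat_mul hM hB hχ ψ
    have h' : (p : ℂ) ^ ((Nat.card G).factorization p - blockDefect p B) * (blockMat p B χ ψ : ℂ) =
        (regCoef p χ ψ : ℂ) := by exact_mod_cast h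
    have hden : (Nat.card G : ℂ) * (p : ℂ) ^ ((Nat.card G).factorization p - blockDefect p B) ≠ 0 :=
      mul_ne_zero card_ne_zero' (pow_ne_zero _ (Nat.cast_ne_zero.mpr hp.out.ne_zero))
    simp only [u]
    rw [← mul_div_assoc, eq_div_iff hden, mul_comm, mul_assoc, h', card_mul_regCoef,
      Finset.mul_sum, Finset.mul_sum, Finset.mul_sum]
    refine Finset.sum_congr rfl fun x _ => ?_
    split_ifs with hx
    · simp
    · rw [hφ χ hχ x hx, hφ ψ hψ x hx, map_mul, map_natCast]; ring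
  let t : ℤ := ∑ χ ∈ s, ∑ ψ ∈ s, n χ * n ψ * blockMat p B χ ψ
  have hu : u = (t : ℂ) := by
    simp only [t, Int.cast_sum, Int.cast_mul]
    rw [Finset.sum_congr rfl (g := fun χ => ∑ ψ ∈ s, ((n χ * (d χ : ℤ) : ℤ) : ℂ) * (((n ψ * (d ψ : ℤ) : ℤ) : ℂ) * u))
      (fun χ hχ => Finset.sum_congr rfl fun ψ hψ => by
        rw [hB' χ (Finset.mem_filter.mp hχ).2 ψ (Finset.mem_filter.mp hψ).2]; push_cast; ring)]
    rw [← Finset.sum_mul_sum, ← Finset.sum_mul, ← Int.cast_sum, hnd, Int.cast_one, one_mul, one_mul]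
  have hBt : ∀ χ ∈ B, ∀ ψ ∈ B, blockMat p B χ ψ = (d χ : ℤ) * (d ψ : ℤ) * t := by
    intro χ hχ ψ hψ
    have h := hB' χ hχ ψ hψ
    rw [hu] at h
    exact_mod_cast h
  have hnd0 := (not_dvd_blockMat_iff hM hB h₀ h₀).mpr hh₀
  rw [hh₀, zero_add, pow_one, hBt χ₀ h₀ χ₀ h₀] at hnd0
  have ht0 : ¬ (p : ℤ) ∣ t := fun h => hnd0 (h.mul_left _)
  have ht : t ≠ 0 := fun h => ht0 (h ▸ dvd_zero _)
  have hD : (∑ χ ∈ s, (d χ : ℤ) ^ 2) * t = (p : ℤ) ^ blockDefect p B := by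
    have h := blockMat_sum_mul hM hB h₀ h₀
    rw [hBt χ₀ h₀ χ₀ h₀, ← Finset.sum_subset (Finset.subset_univ s) (fun ψ _ hψ => by
      rw [blockMat, if_neg (fun h => hψ (by simp [s, h.2])), zero_mul]),
      Finset.sum_congr rfl (g := fun ψ : IrrCharacter G => (d χ₀ : ℤ) * d χ₀ * t * ((d ψ : ℤ) ^ 2 * t)) (fun ψ hψ => by
        rw [hBt χ₀ h₀ ψ (Finset.mem_filter.mp hψ).2, hBt ψ (Finset.mem_filter.mp hψ).2 χ₀ h₀]; ring),
      ← Finset.mul_sum, ← Finset.sum_mul, mul_comm ((p : ℤ) ^ _)] at h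
    refine mul_left_cancel₀ (fun h' => hnd0 ?_) h
    rw [h']; exact dvd_zero _
  have ht1 : t = 1 := by
    have hpos : 0 < (p : ℤ) ^ blockDefect p B := pow_pos (by exact_mod_cast hp.out.pos) _
    have hdv : t.natAbs ∣ p ^ blockDefect p B := by
      have := Int.natAbs_dvd_natAbs.mpr (Dvd.intro_left _ hD : t ∣ (p : ℤ) ^ blockDefect p B)
      simpa [Int.natAbs_pow] using this
    obtain ⟨k, -, hk⟩ := (Nat.dvd_prime_pow hp.out).mp hdv
    have hk0 : k = 0 := by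
      by_contra hk0
      apply ht0
      rw [← Int.natAbs_dvd_natAbs, hk, Int.natAbs_natCast]
      exact dvd_pow_self _ hk0
    rw [hk0, pow_zero] at hk
    rcases Int.natAbs_eq t with h' | h'
    · rw [h', hk, Nat.cast_one]
    · exfalso
      rw [h', hk] at hD
      have hs0 : 0 ≤ ∑ χ ∈ s, (d χ : ℤ) ^ 2 := Finset.sum_nonneg fun χ _ => sq_nonneg _
      push_cast at hD
      linarith
  rw [ht1, mul_one] at hD
  rw [card_defectGroup hM hB hP, finsum_mem_eq_finite_toFinset_sum _ (Set.toFinite _),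
    Finset.sum_congr (s₂ := s) (by ext; simp [s]) (fun χ _ => rfl)]
  exact_mod_cast hD


/-- Fix a prime p and a maximal ideal M of the algebraic integers containing p. Let B be a p-block of the finite group G with defect group P and p-regular rank one (a single irreducible Brauer character). Then there are a function φ on G that is, on the p-regular elements, an integer combination of the members of B, and natural numbers d_χ (χ ∈ B), such that every χ ∈ B agrees with d_χ·φ on the p-regular elements and Σ_{χ ∈ B} d_χ² equals the order of P (the single Cartan invariant of B is the order of P). -/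
theorem result {G : Type*} [Group G] [Fintype G] (p : ℕ) [Fact p.Prime] (M : Ideal Cfsg.AlgInt) (hM : Cfsg.IsPModular p M) (B : Set (Cfsg.IrrCharacter G)) (hB : Cfsg.IsPBlock M B) (P : Subgroup G) (hP : Cfsg.IsDefectGroup p M B P) (hl : Cfsg.blockRank p B = 1) : ∃ φ : G → ℂ, ∃ d : Cfsg.IrrCharacter G → ℕ, (∃ n : Cfsg.IrrCharacter G → ℤ, ∀ x : G, Cfsg.IsPRegular p x → φ x = ∑ᶠ ψ ∈ B, (n ψ : ℂ) * (ψ : G → ℂ) x) ∧ (∀ χ ∈ B, ∀ x : G, Cfsg.IsPRegular p x → (χ : G → ℂ) x = (d χ : ℂ) * φ x) ∧ ∑ᶠ χ ∈ B, d χ ^ 2 = Nat.card P := by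
  exact rank_one_block hM hB hP hl


end Cfsg.Agent.S4675
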