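import Cfsg.Statements.S4679
import Cfsg.Agent.Lib.BrauerPairs.Fusion

set_option autoImplicit false
open Cfsg

namespace Cfsg.Agent.S4679

/-- Fix a prime p and a maximal ideal M of the algebraic integers containing p, a p-block B of the finite group G with maximal Brauer pair (P, e), its fusion system F on P, a Brauer pair (Q, f) ≤ (P, e), and let T be the stabilizer of f in N_G(Q). Then Q is fully normalized in F if and only if N_P(Q) is a defect group of the block of T whose idempotent is that of f. -/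
theorem result {G : Type*} [Group G] [Fintype G] (p : ℕ) [Fact p.Prime] (M : Ideal Cfsg.AlgInt) (hM : Cfsg.IsPModular p M) (B : Set (Cfsg.IrrCharacter G)) (P : Subgroup G) (e : Set (Cfsg.IrrCharacter (Subgroup.centralizer (P : Set G)))) (hmax : Cfsg.IsMaximalBrauerPair p M B P e) (F : Cfsg.FusionSystem P) (hF : Cfsg.IsBlockFusionSystemOn p M B P e F) (Q : Subgroup G) (f : Set (Cfsg.IrrCharacter (Subgroup.centralizer (Q : Set G)))) (hQP : Q ≤ P) (hf : Cfsg.IsPBlock M f) (hle : Cfsg.SubpairLE p M Q f P e) (T : Subgroup G) (hT : ∀ y : G, y ∈ T ↔ y ∈ Subgroup.normalizer (Q : Set G) ∧ Cfsg.StabilizesBlock (Subgroup.centralizer (Q : Set G)) f y) : F.IsFullyNormalized Q ↔ ∃ F' : Set (Cfsg.IrrCharacter T), Cfsg.IsPBlock M F' ∧ (∀ t : T, Cfsg.blockCoeff F' t = Cfsg.subgroupBlockCoeff (Subgroup.centralizer (Q : Set G)) f (t : G)) ∧ Cfsg.IsDefectGroup p M F' ((P ⊓ Subgroup.normalizer (Q : Set G)).subgroupOf T) := by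
  have : M.IsMaximal := hM.2.1
  obtain ⟨F', hF', hgF, hcoe, -⟩ := CfsgLib.BrauerPairs.exists_stab_defect_ge hM hmax.1.1 hle hT
  rw [CfsgLib.BrauerPairs.fullyNormalized_iff hM hF hle hT hF' hgF]
  refine ⟨fun h => ⟨F', hF', hcoe, h⟩, ?_⟩
  rintro ⟨F'', hF'', hcoe', h⟩
  obtain rfl : F'' = F' := CfsgLib.BrauerPairs.gidem_inj hF'' hF'
    (CfsgLib.BrauerPairs.ext_coeff fun g => by
      simp only [CfsgLib.BrauerPairs.gidem, CfsgLib.Blocks.coeff_ofFun]
      congr 1
      by_cases hg : g ∈ T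
      · rw [subgroupBlockCoeff, subgroupBlockCoeff, dif_pos hg, dif_pos hg, hcoe ⟨g, hg⟩, hcoe' ⟨g, hg⟩]
      · rw [subgroupBlockCoeff, subgroupBlockCoeff, dif_neg hg, dif_neg hg])
  exact h


end Cfsg.Agent.S4679
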