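import Cfsg.Statements.S4680
import Cfsg.Agent.Lib.BrauerPairs.Fusion

set_option autoImplicit false
open Cfsg

namespace Cfsg.Agent.S4680

/-- Fix a prime p and a maximal ideal M of the algebraic integers containing p, a p-block B of the finite group G with maximal Brauer pair (P, e), its fusion system F on P, and a Brauer pair (Q, f) ≤ (P, e). Then Q is centric in F if and only if Z(Q) is a defect group of f as a block of C_G(Q). -/
theorem result {G : Type*} [Group G] [Fintype G] (p : ℕ) [Fact p.Prime] (M : Ideal Cfsg.AlgInt) (hM : Cfsg.IsPModular p M) (B : Set (Cfsg.IrrCharacter G)) (P : Subgroup G) (e : Set (Cfsg.IrrCharacter (Subgroup.centralizer (P : Set G)))) (hmax : Cfsg.IsMaximalBrauerPair p M B P e) (F : Cfsg.FusionSystem P) (hF : Cfsg.IsBlockFusionSystemOn p M B P e F) (Q : Subgroup G) (f : Set (Cfsg.IrrCharacter (Subgroup.centralizer (Q : Set G)))) (hQP : Q ≤ P) (hf : Cfsg.IsPBlock M f) (hle : Cfsg.SubpairLE p M Q f P e) : F.IsCentric Q ↔ Cfsg.IsDefectGroup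 p M f ((Q ⊓ Subgroup.centralizer (Q : Set G)).subgroupOf (Subgroup.centralizer (Q : Set G))) := by
  have : M.IsMaximal := hM.2.1
  have hf' := CfsgLib.BrauerPairs.isBrauerPair_left (a := ⟨Q, f⟩) hle hmax.1.1
  have := Fintype.ofFinite (Subgroup.centralizer (Q : Set G))
  have hZC : Q ⊓ Subgroup.centralizer (Q : Set G) ≤ Subgroup.centralizer (Q : Set G) := inf_le_right
  have hZn : ((Q ⊓ Subgroup.centralizer (Q : Set G)).subgroupOf
      (Subgroup.centralizer (Q : Set G))).Normal := by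
    refine ⟨fun z hz c => ?_⟩
    rw [Subgroup.mem_subgroupOf] at hz ⊢
    have h1 : (c : G) * (z : G) = (z : G) * (c : G) :=
      (Subgroup.mem_centralizer_iff.mp c.2 (z : G) hz.1).symm
    simpa [h1] using hz
  have hZp : IsPGroup p ((Q ⊓ Subgroup.centralizer (Q : Set G)).subgroupOf
      (Subgroup.centralizer (Q : Set G))) :=
    (hf'.1.to_le inf_le_left).of_equiv (Subgroup.subgroupOfEquivOfLe hZC).symm
  constructor
  · intro hc
    obtain ⟨D, hD⟩ := CfsgLib.Blocks.exists_isDefectGroup (p := p) hf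
    have hle1 := CfsgLib.Blocks.normal_le_defect hM hf hD hZp
    obtain ⟨x, hx, hxD⟩ := CfsgLib.BrauerPairs.exists_conj_local_defect (Q := Q) (f := f) hM hmax
      ((CfsgLib.BrauerPairs.brauerPairOf_iff_of_subpair hM (a := ⟨Q, f⟩) (b := ⟨P, e⟩) hle).mp hmax.1)
    have h1 := hc.2 _ ((CfsgLib.BrauerPairs.isConj_iff_pair hM hF hle).mpr ⟨x, rfl, hx⟩)
    have h2 := CfsgLib.BrauerPairs.card_defect_conj_le hM x hf
      (CfsgLib.BrauerPairs.isBrauerPair_left
        (a := CfsgLib.BrauerPairs.cjPair x ⟨Q, f⟩) hx hmax.1.1).2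
      (CfsgLib.BrauerPairs.pid_cjPair x ⟨Q, f⟩)
      (fun y hy => CfsgLib.BrauerPairs.mem_centralizer_map_conj.mpr
        (by simpa [mul_assoc] using hy)) hD hxD
    replace h2 := h2.trans_eq (CfsgLib.BrauerPairs.card_subgroupOf' inf_le_right)
    have h3 : (P ⊓ Subgroup.centralizer ((Q.map (MulAut.conj x).toMonoidHom : Subgroup G) : Set G) :
        Subgroup G) ≤ (Q ⊓ Subgroup.centralizer (Q : Set G)).map (MulAut.conj x).toMonoidHom := by
      intro y hy
      obtain ⟨z, hz, rfl⟩ := h1 hy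
      refine ⟨z, ⟨hz, ?_⟩, rfl⟩
      have := CfsgLib.BrauerPairs.mem_centralizer_map_conj.mp hy.2
      simpa [mul_assoc] using this
    have h4 := h2.trans (Subgroup.card_le_of_le h3)
    rw [Subgroup.card_map_of_injective (MulEquiv.injective _),
      ← CfsgLib.BrauerPairs.card_subgroupOf' hZC] at h4
    rwa [Subgroup.eq_of_le_of_card_ge hle1 h4]
  · intro hD
    refine ⟨hQP, fun Q' hQ' => ?_⟩
    obtain ⟨g, rfl, hgf⟩ := (CfsgLib.BrauerPairs.isConj_iff_pair hM hF hle).mp hQ'
    have h1 := CfsgLib.BrauerPairs.card_cen_le hM hmax.1.1 hf g hgf hD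
    replace h1 := h1.trans_eq (CfsgLib.BrauerPairs.card_subgroupOf' hZC)
    have h2 : (Q ⊓ Subgroup.centralizer (Q : Set G)).map (MulAut.conj g).toMonoidHom ≤
        P ⊓ Subgroup.centralizer ((Q.map (MulAut.conj g).toMonoidHom : Subgroup G) : Set G) := by
      rintro _ ⟨z, hz, rfl⟩
      exact ⟨CfsgLib.BrauerPairs.subgroup_le
        (a := CfsgLib.BrauerPairs.cjPair g ⟨Q, f⟩) (b := ⟨P, e⟩) hgf ⟨z, hz.1, rfl⟩,
        CfsgLib.BrauerPairs.mem_centralizer_map_conj.mpr (by simpa [mul_assoc] using hz.2)⟩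
    have h3 := Subgroup.eq_of_le_of_card_ge h2
      (by rw [Subgroup.card_map_of_injective (MulEquiv.injective _)]; exact h1)
    intro y hy
    obtain ⟨z, hz, rfl⟩ := (h3.symm ▸ hy :
      y ∈ (Q ⊓ Subgroup.centralizer (Q : Set G)).map (MulAut.conj g).toMonoidHom)
    exact ⟨z, hz.1, rfl⟩


end Cfsg.Agent.S4680
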