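import Cfsg.Statements.S4682
import Cfsg.Agent.Lib.BrauerPairs.Nilpotent

set_option autoImplicit false
open Cfsg

namespace Cfsg.Agent.S4682

/-- Fix a prime p and a maximal ideal M of the algebraic integers containing p, a p-block B of the finite group G with maximal Brauer pair (P, e), P abelian, and a Brauer pair (Q, f) ≤ (P, e). Let T_Q be the stabilizer of f in N_G(Q) and T_P the stabilizer of e in N_G(P). Then every element of T_Q is a product of an element of T_P and an element of C_G(Q); and the index of C_G(Q) in T_Q equals the index of T_P ∩ C_G(Q) in T_P ∩ N_G(Q). -/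
theorem result {G : Type*} [Group G] [Fintype G] (p : ℕ) [Fact p.Prime] (M : Ideal Cfsg.AlgInt) (hM : Cfsg.IsPModular p M) (B : Set (Cfsg.IrrCharacter G)) (P : Subgroup G) (e : Set (Cfsg.IrrCharacter (Subgroup.centralizer (P : Set G)))) (hmax : Cfsg.IsMaximalBrauerPair p M B P e) (hab : ∀ x ∈ P, ∀ y ∈ P, x * y = y * x) (Q : Subgroup G) (f : Set (Cfsg.IrrCharacter (Subgroup.centralizer (Q : Set G)))) (hQP : Q ≤ P) (hf : Cfsg.IsPBlock M f) (hle : Cfsg.SubpairLE p M Q f P e) (TQ : Subgroup G) (hTQ : ∀ y : G, y ∈ TQ ↔ y ∈ Subgroup.normalizer (Q : Set G) ∧ Cfsg.StabilizesBlock (Subgroup.centralizer (Q : Set G)) f y) (TP : Subgroup G) (hTP : ∀ y : G, y ∈ TP ↔ y ∈ Subgroup.normalizer (P : Set G) ∧ Cfsg.StabilizesBlock (Subgroup.centralizer (P : Set G)) e y) : (∀ x ∈ TQ, ∃ y ∈ TP, ∃ c ∈ Subgroup.centralizer (Q : Set G), x = y * c) ∧ ((Subgroup.centralizer (Q : Set G)).subgroupOf TQ).index = ((TP ⊓ Subgroup.centralizer (Q : Set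 G)).subgroupOf (TP ⊓ Subgroup.normalizer (Q : Set G))).index := by
  have : M.IsMaximal := hM.2.1
  have hP := hmax.1.1
  have hb := CfsgLib.BrauerPairs.isBrauerPair_left (a := ⟨Q, f⟩) hle hP
  have hTP' : TP = CfsgLib.BrauerPairs.stab M P e :=
    Subgroup.ext fun y => (hTP y).trans (CfsgLib.BrauerPairs.mem_stab_iff hP.2).symm
  have hTQ' : TQ = CfsgLib.BrauerPairs.stab M Q f :=
    Subgroup.ext fun y => (hTQ y).trans (CfsgLib.BrauerPairs.mem_stab_iff hb.2).symm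
  subst hTP' hTQ'
  -- the factorisation
  have hfac : ∀ x ∈ CfsgLib.BrauerPairs.stab M Q f, ∃ y ∈ CfsgLib.BrauerPairs.stab M P e,
      ∃ c ∈ Subgroup.centralizer (Q : Set G), x = y * c := by
    intro x hx
    obtain ⟨t, ht, htx⟩ := CfsgLib.BrauerPairs.exists_cen_mul_stab hM hmax hab hle hx
    refine ⟨t * x, htx, (x⁻¹ * t * x)⁻¹, inv_mem ?_, by group⟩
    have := CfsgLib.Blocks.conj_mem_centralizer (inv_mem hx.1) ht
    simpa [mul_assoc] using this
  refine ⟨hfac, ?_⟩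
  set T₀ := CfsgLib.BrauerPairs.stab M P e ⊓ Subgroup.normalizer (Q : Set G) with hT₀
  have hle₀ : T₀ ≤ CfsgLib.BrauerPairs.stab M Q f := by
    intro y hy
    refine ⟨hy.2, ?_⟩
    have h1 : CfsgLib.BrauerPairs.cjPair y (⟨P, e⟩ : BrauerPairIdx G) = ⟨P, e⟩ :=
      CfsgLib.BrauerPairs.pair_ext (M := M)
        (CfsgLib.BrauerPairs.isBrauerPair_cjPair y (a := ⟨P, e⟩) hP).2 hP.2
        (CfsgLib.BrauerPairs.map_conj_eq_self hy.1.1)
        (by rw [CfsgLib.BrauerPairs.pid_cjPair]; exact hy.1.2)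
    have h2 := CfsgLib.BrauerPairs.subpair_cjPair hM y (a := ⟨Q, f⟩) (b := ⟨P, e⟩) hle
    rw [h1] at h2
    have h3 := CfsgLib.BrauerPairs.pair_eq_of_le hM hP h2 hle
      (CfsgLib.BrauerPairs.map_conj_eq_self hy.2)
    show CfsgLib.BrauerPairs.cjA y (CfsgLib.BrauerPairs.pid M (⟨Q, f⟩ : BrauerPairIdx G)) =
      CfsgLib.BrauerPairs.pid M (⟨Q, f⟩ : BrauerPairIdx G)
    rw [← CfsgLib.BrauerPairs.pid_cjPair, h3]
  have hTN : CfsgLib.BrauerPairs.stab M Q f ≤ Subgroup.normalizer (Q : Set G) := fun y hy => hy.1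
  have hT₀N : T₀ ≤ Subgroup.normalizer (Q : Set G) := fun y hy => hy.2
  have hCn : (Subgroup.centralizer (Q : Set G)).subgroupOf (CfsgLib.BrauerPairs.stab M Q f) =
      (Q.normalizerMonoidHom.comp (Subgroup.inclusion hTN)).ker := by
    ext x
    rw [MonoidHom.mem_ker, MonoidHom.comp_apply, ← MonoidHom.mem_ker,
      Subgroup.normalizerMonoidHom_ker]
    rfl
  have hC₀ : (CfsgLib.BrauerPairs.stab M P e ⊓ (Subgroup.centralizer (Q : Set G))).subgroupOf T₀ =
      (Q.normalizerMonoidHom.comp (Subgroup.inclusion hT₀N)).ker := by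
    ext x
    rw [MonoidHom.mem_ker, MonoidHom.comp_apply, ← MonoidHom.mem_ker,
      Subgroup.normalizerMonoidHom_ker]
    exact ⟨fun h => h.2, fun h => ⟨x.2.1, h⟩⟩
  rw [hCn, hC₀, Subgroup.index_ker, Subgroup.index_ker]
  refine congrArg (fun K : Subgroup (MulAut Q) => Nat.card K) (le_antisymm ?_ ?_)
  · rintro _ ⟨x, rfl⟩
    obtain ⟨y, hy, c, hc, he⟩ := hfac x x.2
    have hcn : c ∈ Subgroup.normalizer (Q : Set G) := Subgroup.centralizer_le_normalizer _ hc
    have hyn : y ∈ Subgroup.normalizer (Q : Set G) := by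
      rw [show y = (x : G) * c⁻¹ by rw [he, mul_inv_cancel_right]]
      exact mul_mem x.2.1 (inv_mem hcn)
    refine ⟨⟨y, hy, hyn⟩, MulEquiv.ext fun q => Subtype.ext ?_⟩
    show y * (q : G) * y⁻¹ = (x : G) * q * (x : G)⁻¹
    rw [he]
    calc y * (q : G) * y⁻¹ = y * ((q : G) * c) * c⁻¹ * y⁻¹ := by group
      _ = y * (c * q) * c⁻¹ * y⁻¹ := by rw [Subgroup.mem_centralizer_iff.mp hc q q.2]
      _ = y * c * q * (y * c)⁻¹ := by group
  · rintro _ ⟨x, rfl⟩
    exact ⟨⟨x, hle₀ x.2⟩, rfl⟩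


end Cfsg.Agent.S4682
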