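import Cfsg.Statements.S4685
import Cfsg.Agent.Lib.Star.Action

set_option autoImplicit false
open Cfsg

namespace Cfsg.Agent.S4685

/-- Fix a prime p and a maximal ideal M of the algebraic integers containing p, a p-block B of the finite group G with maximal Brauer pair (P, e) and fusion system F on P. Then for every h the number of irreducible characters of height h in B is divisible by the index of Z(P) ∩ foc(F) in Z(P), where foc(F) is the focal subgroup of F. -/
theorem result {G : Type*} [Group G] [Fintype G] (p : ℕ) [Fact p.Prime] (M : Ideal Cfsg.AlgInt) (hM : Cfsg.IsPModular p M) (B : Set (Cfsg.IrrCharacter G)) (P : Subgroup G) (e : Set (Cfsg.IrrCharacter (Subgroup.centralizer (P : Set G)))) (hmax : Cfsg.IsMaximalBrauerPair p M B P e) (F : Cfsg.FusionSystem P) (hF : Cfsg.IsBlockFusionSystemOn p M B P e F) (h : ℕ) : ((P ⊓ Subgroup.centralizer (P : Set G) ⊓ F.focalSubgroup).subgroupOf (P ⊓ Subgroup.centralizer (P : Set G))).index ∣ Nat.card {χ : Cfsg.IrrCharacter G // χ ∈ B ∧ Cfsg.blockHeight p B (χ : G → ℂ) = h}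 := by

  have : M.IsMaximal := hM.2.1
  set N := F.focalSubgroup.subgroupOf P with hN
  set Z := (P ⊓ Subgroup.centralizer (P : Set G)).subgroupOf P with hZ
  have hdN := CfsgLib.Star.commutator_le_focal F
  have : N.Normal := ⟨fun x hx g => by
    rw [show g * x * g⁻¹ = (g * x * g⁻¹ * x⁻¹) * x by group]
    exact N.mul_mem (hdN (Subgroup.commutator_mem_commutator (Subgroup.mem_top g) (Subgroup.mem_top x))) hx⟩
  set L := CfsgLib.Star.killing N with hL
  set K := (CfsgLib.Star.killing (Z ⊔ N)).subgroupOf L with hK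
  have hd := CfsgLib.Star.index_dvd_card_height (M := M) (p := p) (B := B) (e := e) (L := L)
    (fun l hl => CfsgLib.Star.twist_of_killing hM hF hl) K h fun l χ hχ _ hfix => by
      show (l : P →* ℂˣ) ∈ CfsgLib.Star.killing (Z ⊔ N)
      intro x hx
      exact (sup_le (c := MonoidHom.ker (l : P →* ℂˣ))
        (fun v hv => (CfsgLib.Star.twist_of_killing hM hF l.2).eq_one_of_fixed_central hχ hfix v hv.2)
        (fun v hv => l.2 v hv)) hx
  refine dvd_trans (dvd_of_eq ?_) hd
  have hle : CfsgLib.Star.killing (Z ⊔ N) ≤ L := fun l hl x hx => hl x (Subgroup.mem_sup_right hx)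
  have h1 : Nat.card K = (Z ⊔ N).index := by
    rw [Nat.card_congr (Subgroup.subgroupOfEquivOfLe hle).toEquiv]
    exact CfsgLib.Star.card_killing _ (hdN.trans le_sup_right)
  have h2 : Nat.card K * K.index = N.index := by
    rw [Subgroup.card_mul_index]; exact CfsgLib.Star.card_killing _ hdN
  have h3 : N.relIndex Z * (Z ⊔ N).index = N.index := by
    rw [← Subgroup.relIndex_mul_index (le_sup_right : N ≤ Z ⊔ N), Subgroup.relIndex_sup_right]
  have h4 : K.index = N.relIndex Z := by
    refine Nat.eq_of_mul_eq_mul_left (show 0 < (Z ⊔ N).index from Nat.pos_of_ne_zero Subgroup.index_ne_zero_of_finite) ?_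
    rw [← h1, h2, ← h3, h1, mul_comm]
  rw [h4, hN, hZ, Subgroup.relIndex_subgroupOf inf_le_left, ← Subgroup.relIndex,
    Subgroup.inf_relIndex_left]


end Cfsg.Agent.S4685
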