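import Cfsg.Statements.S4690
import Cfsg.Agent.Lib.NilBlock.Main

set_option autoImplicit false
open Cfsg

namespace Cfsg.Agent.S4690

/-- Fix a prime p and a maximal ideal M of the algebraic integers containing p, and a nilpotent p-block B of the finite group G with defect group P. Then there is a bijection from B onto the irreducible characters of P carrying the height of each χ ∈ B to the exponent of p in the degree of its image. -/
theorem result {G : Type*} [Group G] [Fintype G] (p : ℕ) [Fact p.Prime] (M : Ideal Cfsg.AlgInt) (hM : Cfsg.IsPModular p M) (B : Set (Cfsg.IrrCharacter G)) (hnil : Cfsg.IsNilpotentBlock p M B) (P : Subgroup G) (hP : Cfsg.IsDefectGroup p M B P) : ∃ Φ : B ≃ Cfsg.IrrCharacter P, ∀ χ : B, Cfsg.blockHeight p B ((χ : Cfsg.IrrCharacter G) : G → ℂ) = (Cfsg.charDegree ((Φ χ : Cfsg.IrrCharacter P) : P → ℂ)).factorization p := by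

  have : M.IsMaximal := hM.2.1
  obtain ⟨χ₀, h₀, hh₀, f, hf⟩ := CfsgLib.NilBlock.exists_equiv_of_nilpotent hM hnil hP
  refine ⟨f.symm, fun χ => ?_⟩
  obtain ⟨μ, rfl⟩ := f.surjective χ
  rw [Equiv.symm_apply_apply]
  have hp : p.Prime := Fact.out
  have h1 := hf μ 1 (by simpa using hp.one_lt.ne')
  rw [CfsgLib.Blocks.charDegree_eq (CfsgLib.Char.isCharacter_of_isIrr (f μ).1.2),
    CfsgLib.Blocks.charDegree_eq (CfsgLib.Char.isCharacter_of_isIrr χ₀.2), ← Nat.cast_mul, Nat.cast_inj] at h1
  have h2 : sInf ((fun ψ : IrrCharacter G => (charDegree (ψ : G → ℂ)).factorization p) '' B) ≤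
      (charDegree (χ₀ : G → ℂ)).factorization p := Nat.sInf_le ⟨χ₀, h₀, rfl⟩
  rw [blockHeight] at hh₀ ⊢
  rw [h1, Nat.factorization_mul (CfsgLib.Blocks.charDegree_ne_zero μ) (CfsgLib.Blocks.charDegree_ne_zero χ₀),
    Finsupp.add_apply]
  omega

end Cfsg.Agent.S4690
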