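import Cfsg.Statements.S4692
import Cfsg.Agent.Lib.BrauerPairs.IndexP
import Cfsg.Agent.Lib.BrauerPairs.Stable
import Cfsg.Agent.Lib.BrauerPairs.Fusion

set_option autoImplicit false
open Cfsg

namespace Cfsg.Agent.S4692

/-- Fix a prime p and a maximal ideal M of the algebraic integers containing p. Let N be a normal subgroup of p-power index in the finite group G and c a p-block of N stable under conjugation by G, and let B be the p-block of G whose idempotent is that of c (it exists and is unique). Then c is nilpotent as a block of N if and only if B is nilpotent as a block of G. -/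
theorem result {G : Type*} [Group G] [Fintype G] (p : ℕ) [Fact p.Prime] (M : Ideal Cfsg.AlgInt) (hM : Cfsg.IsPModular p M) (N : Subgroup G) [N.Normal] (hN : ∃ k : ℕ, N.index = p ^ k) (c : Set (Cfsg.IrrCharacter N)) (hc : Cfsg.IsPBlock M c) (hst : ∀ x : G, Cfsg.StabilizesBlock N c x) (B : Set (Cfsg.IrrCharacter G)) (hB : Cfsg.IsPBlock M B) (hBc : ∀ g : G, Cfsg.blockCoeff B g = Cfsg.subgroupBlockCoeff N c g) : Cfsg.IsNilpotentBlock p M c ↔ Cfsg.IsNilpotentBlock p M B := by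
  have : M.IsMaximal := hM.2.1
  classical
  have := Fintype.ofFinite N
  -- the idempotents of `B` and of `c`
  have hBN : CfsgLib.BrauerPairs.gidemTop M B =
      CfsgLib.BrauerPairs.emb N (CfsgLib.BrauerPairs.gidemTop M c) := by
    rw [CfsgLib.BrauerPairs.gidemTop_eq hc, ← CfsgLib.BrauerPairs.gidem_eq_emb (H := N) hc]
    refine CfsgLib.BrauerPairs.ext_coeff fun g => ?_
    simp only [CfsgLib.BrauerPairs.gidemTop, CfsgLib.BrauerPairs.gidem,
      CfsgLib.Blocks.coeff_ofFun, hBc g]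
  have hreg : ∀ v : G, IsPRegular p v → v ∈ N := fun v hv =>
    CfsgLib.Blocks.mem_of_index_pow Fact.out hN hv
  -- the Brauer images
  have hmap : ∀ R : Subgroup N, (CfsgLib.BrauerPairs.Cen R).map N.subtype =
      N ⊓ CfsgLib.BrauerPairs.Cen (R.map N.subtype) := by
    intro R
    ext g
    constructor
    · rintro ⟨z, hz, rfl⟩
      refine ⟨z.2, Subgroup.mem_centralizer_iff.mpr ?_⟩
      rintro _ ⟨r, hr, rfl⟩
      exact congrArg Subtype.val (Subgroup.mem_centralizer_iff.mp hz r hr)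
    · rintro ⟨hgN, hg⟩
      exact ⟨⟨g, hgN⟩, Subgroup.mem_centralizer_iff.mpr fun r hr =>
        Subtype.ext (Subgroup.mem_centralizer_iff.mp hg (r : G) ⟨r, hr, rfl⟩), rfl⟩
  have hcen : ∀ (R : Subgroup N) (z : N), z ∈ CfsgLib.BrauerPairs.Cen R ↔
      (z : G) ∈ CfsgLib.BrauerPairs.Cen (R.map N.subtype) := fun R z => by
    rw [← Subgroup.mem_map_iff_mem (K := CfsgLib.BrauerPairs.Cen R) N.subtype_injective, hmap R]
    exact ⟨fun h => h.2, fun h => ⟨z.2, h⟩⟩
  have hbr : ∀ R : Subgroup N, CfsgLib.BrauerPairs.br (R.map N.subtype) (CfsgLib.BrauerPairs.gidemTop M B) =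
      CfsgLib.BrauerPairs.emb N (CfsgLib.BrauerPairs.br R (CfsgLib.BrauerPairs.gidemTop M c)) := fun R => by
    rw [hBN, ← CfsgLib.BrauerPairs.emb_br (hcen R)]
  constructor
  · intro hnil
    refine ⟨hB, fun Q h hQh x hxn hxs hxr => ?_⟩
    obtain ⟨⟨hQp, hh⟩, -, hocc⟩ := (CfsgLib.BrauerPairs.brauerPairOf_iff hM).mp hQh
    have hxN : x ∈ N := hreg x hxr
    -- the pair below at `Q ⊓ N`
    obtain ⟨h₀, hle, huniq⟩ := CfsgLib.BrauerPairs.existsUnique_subpair hM
      (inf_le_left : Q ⊓ N ≤ Q) (show IsBrauerPair p M Q h from ⟨hQp, hh⟩)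
    have hB₀ : IsBrauerPairOf p M B (Q ⊓ N) h₀ :=
      (CfsgLib.BrauerPairs.brauerPairOf_iff_of_subpair hM (a := ⟨Q ⊓ N, h₀⟩) (b := ⟨Q, h⟩) hle).mp hQh
    obtain ⟨⟨hRp, hh₀⟩, -, hocc₀⟩ := (CfsgLib.BrauerPairs.brauerPairOf_iff hM).mp hB₀
    have hxn₀ : x ∈ Subgroup.normalizer ((Q ⊓ N : Subgroup G) : Set G) := by
      rw [Subgroup.mem_normalizer_iff_map_conj_eq, Subgroup.map_inf _ _ _ (MulEquiv.injective _)]
      congr 1
      · exact Subgroup.mem_normalizer_iff_map_conj_eq.mp hxn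
      · exact Subgroup.mem_normalizer_iff_map_conj_eq.mp
          (by rw [Subgroup.normalizer_eq_top]; trivial)
    -- `x` fixes the pair below
    have hxh : CfsgLib.BrauerPairs.cjPair x ⟨Q, h⟩ = ⟨Q, h⟩ :=
      CfsgLib.BrauerPairs.pair_ext (M := M) (CfsgLib.BrauerPairs.isBrauerPair_cjPair x
        (show IsBrauerPair p M Q h from ⟨hQp, hh⟩)).2 hh
        (CfsgLib.BrauerPairs.map_conj_eq_self hxn) (by
          rw [CfsgLib.BrauerPairs.pid_cjPair]
          exact ((CfsgLib.BrauerPairs.stabilizesBlock_iff hh).mp hxs).2)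
    have hxh₀ : CfsgLib.BrauerPairs.cjA x (CfsgLib.BrauerPairs.gidem M _ h₀) =
        CfsgLib.BrauerPairs.gidem M _ h₀ := by
      have h1 := CfsgLib.BrauerPairs.subpair_cjPair hM x (a := ⟨Q ⊓ N, h₀⟩) (b := ⟨Q, h⟩) hle
      rw [hxh] at h1
      obtain ⟨h', hh', hid⟩ : ∃ h' : Set (IrrCharacter (CfsgLib.BrauerPairs.Cen (Q ⊓ N))),
          IsPBlock M h' ∧ CfsgLib.BrauerPairs.gidem M _ h' =
            CfsgLib.BrauerPairs.cjA x (CfsgLib.BrauerPairs.gidem M _ h₀) :=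
        ⟨_, CfsgLib.BrauerPairs.isPBlock_tblock _ hh₀,
          CfsgLib.BrauerPairs.gidem_tblock x (CfsgLib.BrauerPairs.cen_iff hxn₀) h₀⟩
      rw [← CfsgLib.BrauerPairs.cjPair_normalizer hxn₀ ⟨hRp, hh₀⟩ hh' hid] at h1
      rw [← hid, huniq h' h1]
    -- a block of `c` at `Q ⊓ N`
    have hreg₀ : ∀ v ∈ CfsgLib.BrauerPairs.Cen (Q ⊓ N), IsPRegular p v →
        v ∈ N ⊓ CfsgLib.BrauerPairs.Cen (Q ⊓ N) := fun v hv hvr => ⟨hreg v hvr, hv⟩
    have := Fintype.ofFinite (CfsgLib.BrauerPairs.Blk M (N ⊓ CfsgLib.BrauerPairs.Cen (Q ⊓ N)))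
    obtain ⟨g, hg⟩ : ∃ g : CfsgLib.BrauerPairs.Blk M (N ⊓ CfsgLib.BrauerPairs.Cen (Q ⊓ N)),
        CfsgLib.BrauerPairs.gidem M _ h₀ * CfsgLib.BrauerPairs.gidem M _ g.1 ≠ 0 := by
      by_contra hne
      apply CfsgLib.BrauerPairs.gidem_ne_zero hh₀
      rw [← mul_one (CfsgLib.BrauerPairs.gidem M _ h₀),
        ← CfsgLib.BrauerPairs.sum_gidem (M := M) (N ⊓ CfsgLib.BrauerPairs.Cen (Q ⊓ N)), Finset.mul_sum]
      exact Finset.sum_eq_zero fun i _ => not_not.mp fun h' => hne ⟨i, h'⟩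
    obtain ⟨k, hk, hkg, hkuniq⟩ := CfsgLib.BrauerPairs.exists_unique_over hM
      (inf_le_right : N ⊓ CfsgLib.BrauerPairs.Cen (Q ⊓ N) ≤ _) hreg₀ g.2
    have hkh : h₀ = k := hkuniq h₀ hh₀ hg
    subst hkh
    -- the blocks over `k` form an orbit of the centraliser
    let O := Finset.univ.filter fun i : CfsgLib.BrauerPairs.Blk M (N ⊓ CfsgLib.BrauerPairs.Cen (Q ⊓ N)) =>
      ∃ v ∈ CfsgLib.BrauerPairs.Cen (Q ⊓ N), CfsgLib.BrauerPairs.gidem M _ i.1 =
        CfsgLib.BrauerPairs.cjA v (CfsgLib.BrauerPairs.gidem M _ g.1)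
    have hnK : ∀ v ∈ Subgroup.normalizer ((Q ⊓ N : Subgroup G) : Set G),
        ∀ y, y ∈ N ⊓ CfsgLib.BrauerPairs.Cen (Q ⊓ N) ↔
          v⁻¹ * y * v ∈ N ⊓ CfsgLib.BrauerPairs.Cen (Q ⊓ N) := fun v hv y => by
      have h1 : y ∈ N ↔ v⁻¹ * y * v ∈ N := by
        refine ⟨fun hy => by simpa using Subgroup.Normal.conj_mem' ‹N.Normal› y hy v, fun hy => ?_⟩
        simpa [mul_assoc] using Subgroup.Normal.conj_mem ‹N.Normal› _ hy v
      rw [Subgroup.mem_inf, Subgroup.mem_inf, h1, CfsgLib.BrauerPairs.cen_iff hv y]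
    have himg : ∀ v ∈ Subgroup.normalizer ((Q ⊓ N : Subgroup G) : Set G),
        ∀ i : CfsgLib.BrauerPairs.Blk M (N ⊓ CfsgLib.BrauerPairs.Cen (Q ⊓ N)),
        ∃ j : CfsgLib.BrauerPairs.Blk M (N ⊓ CfsgLib.BrauerPairs.Cen (Q ⊓ N)),
          CfsgLib.BrauerPairs.gidem M _ j.1 = CfsgLib.BrauerPairs.cjA v (CfsgLib.BrauerPairs.gidem M _ i.1) :=
      fun v hv i => ⟨⟨_, CfsgLib.BrauerPairs.isPBlock_tblock _ i.2⟩,
        CfsgLib.BrauerPairs.gidem_tblock v (hnK v hv) i.1⟩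
    -- `x` moves `g` as an element of the centraliser does
    obtain ⟨y, hy, hxy⟩ : ∃ y ∈ CfsgLib.BrauerPairs.Cen (Q ⊓ N),
        CfsgLib.BrauerPairs.cjA x (CfsgLib.BrauerPairs.gidem M _ g.1) =
          CfsgLib.BrauerPairs.cjA y (CfsgLib.BrauerPairs.gidem M _ g.1) := by
      obtain ⟨j, hj⟩ := himg x hxn₀ g
      by_contra hno
      push Not at hno
      -- the sum over the orbit is killed by `j`, and fixed by `k`
      have hO : CfsgLib.BrauerPairs.CentralIn (CfsgLib.BrauerPairs.Cen (Q ⊓ N))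
          (∑ i ∈ O, CfsgLib.BrauerPairs.gidem M _ i.1) := by
        refine ⟨fun v hv => (CfsgLib.BrauerPairs.centralIn_sum O
          fun i _ => CfsgLib.BrauerPairs.centralIn_gidem i.1).1 v fun hv' => hv hv'.2, fun v hv => ?_⟩
        choose σ hσ using himg v (Subgroup.centralizer_le_normalizer _ hv)
        choose τ hτ using himg v⁻¹ (inv_mem (Subgroup.centralizer_le_normalizer _ hv))
        rw [map_sum]
        refine Finset.sum_bij' (fun i _ => σ i) (fun i _ => τ i) ?_ ?_ ?_ ?_ fun i _ => (hσ i).symm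
        · intro i hi
          obtain ⟨w, hw, hiw⟩ := (Finset.mem_filter.mp hi).2
          exact Finset.mem_filter.mpr ⟨Finset.mem_univ _, v * w, mul_mem hv hw, by
            rw [hσ, hiw, CfsgLib.BrauerPairs.cjA_cjA]⟩
        · intro i hi
          obtain ⟨w, hw, hiw⟩ := (Finset.mem_filter.mp hi).2
          exact Finset.mem_filter.mpr ⟨Finset.mem_univ _, v⁻¹ * w, mul_mem (inv_mem hv) hw, by
            rw [hτ, hiw, CfsgLib.BrauerPairs.cjA_cjA]⟩
        · intro i _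
          refine Subtype.ext (CfsgLib.BrauerPairs.gidem_inj (τ _).2 i.2 ?_)
          rw [hτ, hσ, CfsgLib.BrauerPairs.cjA_inv_cjA]
        · intro i _
          refine Subtype.ext (CfsgLib.BrauerPairs.gidem_inj (σ _).2 i.2 ?_)
          rw [hσ, hτ, CfsgLib.BrauerPairs.cjA_cjA_inv]
      have hid : (∑ i ∈ O, CfsgLib.BrauerPairs.gidem M _ i.1) *
          (∑ i ∈ O, CfsgLib.BrauerPairs.gidem M _ i.1) = ∑ i ∈ O, CfsgLib.BrauerPairs.gidem M _ i.1 := by
        rw [Finset.sum_mul]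
        refine Finset.sum_congr rfl fun i hi => ?_
        rw [Finset.mul_sum, Finset.sum_eq_single i (fun b _ hb =>
          CfsgLib.BrauerPairs.gidem_mul_of_ne i.2 b.2 fun h' => hb (Subtype.ext h').symm)
          (fun h' => absurd hi h'), CfsgLib.BrauerPairs.gidem_mul_self i.2]
      have hgO : g ∈ O := Finset.mem_filter.mpr ⟨Finset.mem_univ _, 1, Subgroup.one_mem _, by
        rw [CfsgLib.BrauerPairs.cjA_one]⟩
      have hgO' : (∑ i ∈ O, CfsgLib.BrauerPairs.gidem M _ i.1) * CfsgLib.BrauerPairs.gidem M _ g.1 =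
          CfsgLib.BrauerPairs.gidem M _ g.1 := by
        rw [Finset.sum_mul, Finset.sum_eq_single g (fun b _ hb =>
          CfsgLib.BrauerPairs.gidem_mul_of_ne b.2 g.2 fun h' => hb (Subtype.ext h'))
          (fun h' => absurd hgO h'), CfsgLib.BrauerPairs.gidem_mul_self g.2]
      have hjk : CfsgLib.BrauerPairs.gidem M _ h₀ * CfsgLib.BrauerPairs.gidem M _ j.1 =
          CfsgLib.BrauerPairs.gidem M _ j.1 := by
        rw [hj, ← hxh₀, ← map_mul, hkg]
      rcases CfsgLib.BrauerPairs.occurs_cases hO hid hh₀ with h' | h'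
      · have hjO : (∑ i ∈ O, CfsgLib.BrauerPairs.gidem M _ i.1) * CfsgLib.BrauerPairs.gidem M _ j.1 = 0 := by
          rw [Finset.sum_mul]
          refine Finset.sum_eq_zero fun i hi => CfsgLib.BrauerPairs.gidem_mul_of_ne i.2 j.2 fun hij => ?_
          obtain ⟨w, hw, hiw⟩ := (Finset.mem_filter.mp hi).2
          exact hno w hw (by rw [← hj, ← hij, hiw])
        apply CfsgLib.BrauerPairs.gidem_ne_zero j.2
        rw [← hjk, ← h', mul_assoc, hjk, hjO]
      · apply CfsgLib.BrauerPairs.gidem_ne_zero g.2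
        rw [← hgO', ← hkg, ← mul_assoc, h', zero_mul]
    -- hence fixes it
    have hxg : CfsgLib.BrauerPairs.cjA x (CfsgLib.BrauerPairs.gidem M _ g.1) =
        CfsgLib.BrauerPairs.gidem M _ g.1 := by
      refine CfsgLib.BrauerPairs.cjA_eq_of_coprime (CfsgLib.BrauerPairs.centralIn_gidem g.1).2
        (C := CfsgLib.BrauerPairs.Cen (Q ⊓ N)) (fun v hv => ?_) hxr hy ?_ hxy
      · refine Subgroup.mem_inf.mpr ⟨?_, mul_mem ?_ hv⟩
        · rw [show x⁻¹ * v⁻¹ * x * v = x⁻¹ * (v⁻¹ * x * v⁻¹⁻¹) by group]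
          exact mul_mem (inv_mem hxN) (Subgroup.Normal.conj_mem ‹N.Normal› x hxN v⁻¹)
        · exact (CfsgLib.BrauerPairs.cen_iff hxn₀ v⁻¹).mp (inv_mem hv)
      · obtain ⟨k, hk⟩ := hN
        refine ⟨k, ?_, pow_mem hy _⟩
        rw [← hk]
        exact N.pow_index_mem y
    -- so it centralises `Q ⊓ N`
    have hR : (Subgroup.subgroupOf (Q ⊓ N) N).map N.subtype = Q ⊓ N :=
      Subgroup.map_subgroupOf_eq_of_le inf_le_right
    obtain ⟨gN, hgN, hgNid⟩ := CfsgLib.BrauerPairs.exists_pull (p := p) (H := N)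
      (K := CfsgLib.BrauerPairs.Cen ((Q ⊓ N).subgroupOf N))
      (K' := N ⊓ CfsgLib.BrauerPairs.Cen (Q ⊓ N)) (by rw [hmap, hR]) g.2
    have hxC : x ∈ CfsgLib.BrauerPairs.Cen (Q ⊓ N) := by
      have hpair : IsBrauerPairOf p M c ((Q ⊓ N).subgroupOf N) gN := by
        refine (CfsgLib.BrauerPairs.brauerPairOf_iff hM).mpr ⟨⟨hRp.of_equiv
          (Subgroup.subgroupOfEquivOfLe inf_le_right).symm, hgN⟩, hc, ?_⟩
        apply CfsgLib.BrauerPairs.emb_injective N
        show CfsgLib.BrauerPairs.emb N (CfsgLib.BrauerPairs.br _ (CfsgLib.BrauerPairs.gidemTop M c) *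
          CfsgLib.BrauerPairs.gidem M (CfsgLib.BrauerPairs.Cen ((Q ⊓ N).subgroupOf N)) gN) =
            CfsgLib.BrauerPairs.emb N (CfsgLib.BrauerPairs.gidem M (CfsgLib.BrauerPairs.Cen ((Q ⊓ N).subgroupOf N)) gN)
        rw [map_mul, ← hbr, hR, ← hgNid, ← hkg, ← mul_assoc, hocc₀]
      have h1 := hnil.2 _ gN hpair ⟨x, hxN⟩ (by
          rw [Subgroup.mem_normalizer_iff_map_conj_eq]
          apply Subgroup.map_injective N.subtype_injective
          rw [hR]
          conv_rhs => rw [← Subgroup.mem_normalizer_iff_map_conj_eq.mp hxn₀, ← hR, Subgroup.map_map]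
          rw [Subgroup.map_map]
          congr 1)
        ((CfsgLib.BrauerPairs.stabilizesBlock_iff hgN).mpr ⟨?_, ?_⟩) (by
          rw [IsPRegular, ← Subgroup.orderOf_coe]; exact hxr)
      · rw [← hR]; exact (hcen _ ⟨x, hxN⟩).mp h1
      · apply CfsgLib.BrauerPairs.mem_normalizer_centralizer
        rw [Subgroup.mem_normalizer_iff_map_conj_eq]
        apply Subgroup.map_injective N.subtype_injective
        rw [hR]
        conv_rhs => rw [← Subgroup.mem_normalizer_iff_map_conj_eq.mp hxn₀, ← hR, Subgroup.map_map]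
        rw [Subgroup.map_map]
        congr 1
      · apply CfsgLib.BrauerPairs.emb_injective N
        rw [CfsgLib.BrauerPairs.emb_cjA, ← hgNid]
        exact hxg
    -- and `Q`
    refine Subgroup.mem_centralizer_iff.mpr fun u hu => ?_
    have hr : u⁻¹ * (x * u * x⁻¹) ∈ Q ⊓ N := by
      refine Subgroup.mem_inf.mpr ⟨mul_mem (inv_mem (show u ∈ Q from hu)) ((Subgroup.mem_set_normalizer_iff.mp hxn u).mp hu), ?_⟩
      rw [show u⁻¹ * (x * u * x⁻¹) = u⁻¹ * x * u⁻¹⁻¹ * x⁻¹ by group]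
      exact mul_mem (Subgroup.Normal.conj_mem ‹N.Normal› x hxN u⁻¹) (inv_mem hxN)
    have hxr' : Commute x (u⁻¹ * (x * u * x⁻¹)) := (Subgroup.mem_centralizer_iff.mp hxC _ hr).symm
    have hk : ∀ k : ℕ, x ^ k * u * (x ^ k)⁻¹ = u * (u⁻¹ * (x * u * x⁻¹)) ^ k := by
      intro k
      induction k with
      | zero => simp
      | succ k ih =>
        rw [pow_succ' x k, show x * x ^ k * u * (x * x ^ k)⁻¹ = x * (x ^ k * u * (x ^ k)⁻¹) * x⁻¹ by group,
          ih, pow_succ' (u⁻¹ * (x * u * x⁻¹)) k]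
        calc x * (u * (u⁻¹ * (x * u * x⁻¹)) ^ k) * x⁻¹
            = x * u * ((u⁻¹ * (x * u * x⁻¹)) ^ k * x⁻¹) := by group
          _ = x * u * (x⁻¹ * (u⁻¹ * (x * u * x⁻¹)) ^ k) := by rw [(hxr'.inv_left.pow_right k).eq]
          _ = _ := by simp only [mul_assoc, mul_inv_cancel_left]
    have h0 := hk (orderOf x)
    rw [pow_orderOf_eq_one] at h0
    have h1 : (u⁻¹ * (x * u * x⁻¹)) ^ orderOf x = 1 := by simpa using h0.symm
    obtain ⟨j, hj⟩ := hQp ⟨_, hr.1⟩
    have h2 : (u⁻¹ * (x * u * x⁻¹)) ^ p ^ j = 1 := congrArg Subtype.val hj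
    have h3 : u⁻¹ * (x * u * x⁻¹) = 1 := by
      rw [← orderOf_eq_one_iff]
      exact Nat.eq_one_of_dvd_coprimes
        ((((Fact.out : p.Prime).coprime_iff_not_dvd.mpr hxr).symm).pow_right j)
        (orderOf_dvd_of_pow_eq_one h1) (orderOf_dvd_of_pow_eq_one h2)
    have h4 : x * u * x⁻¹ = u := (inv_mul_eq_one.mp h3).symm
    exact (mul_inv_eq_iff_eq_mul.mp h4).symm
  · intro hnil
    refine ⟨hc, fun R g hRg x hxn hxs hxr => ?_⟩
    obtain ⟨⟨hRp, hg⟩, -, hocc⟩ := (CfsgLib.BrauerPairs.brauerPairOf_iff hM).mp hRg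
    obtain ⟨g', hg', hgid⟩ := CfsgLib.BrauerPairs.exists_push (p := p) (hmap R) hg
    obtain ⟨h, hh, hhg, huniq⟩ := CfsgLib.BrauerPairs.exists_unique_over hM
      (inf_le_right : N ⊓ CfsgLib.BrauerPairs.Cen (R.map N.subtype) ≤ _)
      (fun v hv hvr => ⟨hreg v hvr, hv⟩) hg'
    have hxn' : (x : G) ∈ Subgroup.normalizer ((R.map N.subtype : Subgroup G) : Set G) := by
      rw [Subgroup.mem_normalizer_iff_map_conj_eq]
      conv_rhs => rw [← Subgroup.mem_normalizer_iff_map_conj_eq.mp hxn]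
      rw [Subgroup.map_map, Subgroup.map_map]
      congr 1
    have hbrg : CfsgLib.BrauerPairs.br (R.map N.subtype) (CfsgLib.BrauerPairs.gidemTop M B) *
        CfsgLib.BrauerPairs.gidem M _ g' = CfsgLib.BrauerPairs.gidem M _ g' := by
      rw [hbr, hgid, ← map_mul]
      exact congrArg (CfsgLib.BrauerPairs.emb N) hocc
    have hpair : IsBrauerPairOf p M B (R.map N.subtype) h := by
      refine (CfsgLib.BrauerPairs.brauerPairOf_iff hM).mpr ⟨⟨hRp.map _, hh⟩, hB, ?_⟩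
      rcases CfsgLib.BrauerPairs.occurs_cases
        (CfsgLib.BrauerPairs.centralIn_br (P := R.map N.subtype) (CfsgLib.BrauerPairs.isFixed_gidemTop _ B))
        (CfsgLib.BrauerPairs.br_top_idem hM hB (hRp.map _)) hh with h' | h'
      · exact h'
      · exfalso
        apply CfsgLib.BrauerPairs.gidem_ne_zero hg'
        rw [← hbrg, ← hhg, ← mul_assoc, h', zero_mul]
    have hxg : CfsgLib.BrauerPairs.cjA (x : G) (CfsgLib.BrauerPairs.gidem M _ g') =
        CfsgLib.BrauerPairs.gidem M _ g' := by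
      rw [hgid, ← CfsgLib.BrauerPairs.emb_cjA]
      exact congrArg (CfsgLib.BrauerPairs.emb N) ((CfsgLib.BrauerPairs.stabilizesBlock_iff hg).mp hxs).2
    have hxs' : StabilizesBlock (CfsgLib.BrauerPairs.Cen (R.map N.subtype)) h (x : G) := by
      refine (CfsgLib.BrauerPairs.stabilizesBlock_iff hh).mpr
        ⟨CfsgLib.BrauerPairs.mem_normalizer_centralizer hxn', ?_⟩
      have hid := CfsgLib.BrauerPairs.gidem_tblock (M := M) (x : G) (CfsgLib.BrauerPairs.cen_iff hxn') h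
      rw [← hid]
      congr 1
      refine huniq _ (CfsgLib.BrauerPairs.isPBlock_tblock _ hh) ?_
      rw [hid, ← hxg, ← map_mul, hhg, hxg]
      exact CfsgLib.BrauerPairs.gidem_ne_zero hg'
    exact (hcen R x).mpr (hnil.2 _ h hpair _ hxn' hxs' (by
      rw [IsPRegular, Subgroup.orderOf_coe]; exact hxr))


end Cfsg.Agent.S4692
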