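import Cfsg.Statements.S4693
import Cfsg.Agent.Lib.BrauerPairs.Nilpotent
import Cfsg.Agent.Lib.BrauerPairs.Stable
import Cfsg.Agent.Lib.BrauerPairs.Word

set_option autoImplicit false
open Cfsg

namespace Cfsg.Agent.S4693

/-- Fix a prime p and a maximal ideal M of the algebraic integers containing p, a p-block B of the finite group G with maximal Brauer pair (P, e) and fusion system F on P, and a Brauer pair (Q, f) ≤ (P, e) with Q centric in F. Suppose every element of G normalizes Q and stabilizes f. Then the idempotent of B agrees with that of f modulo M at every element of G, and f is the idempotent of a nilpotent block of Q·C_G(Q): some p-block of Q·C_G(Q) has the idempotent coefficients of f and is nilpotent. -/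
theorem result {G : Type*} [Group G] [Fintype G] (p : ℕ) [Fact p.Prime] (M : Ideal Cfsg.AlgInt) (hM : Cfsg.IsPModular p M) (B : Set (Cfsg.IrrCharacter G)) (P : Subgroup G) (e : Set (Cfsg.IrrCharacter (Subgroup.centralizer (P : Set G)))) (hmax : Cfsg.IsMaximalBrauerPair p M B P e) (F : Cfsg.FusionSystem P) (hF : Cfsg.IsBlockFusionSystemOn p M B P e F) (Q : Subgroup G) (f : Set (Cfsg.IrrCharacter (Subgroup.centralizer (Q : Set G)))) (hQP : Q ≤ P) (hf : Cfsg.IsPBlock M f) (hle : Cfsg.SubpairLE p M Q f P e) (hcen : F.IsCentric Q) (hG : ∀ x : G, x ∈ Subgroup.normalizer (Q : Set G) ∧ Cfsg.StabilizesBlock (Subgroup.centralizer (Q : Set G)) f x) : (∀ g : G, Cfsg.MemLocalIdeal M (Cfsg.blockCoeff B g - Cfsg.subgroupBlockCoeff (Subgroup.centralizer (Q : Set G)) f g)) ∧ ∃ F' : Set (Cfsg.IrrCharacter ↥(Q ⊔ Subgroup.centralizer (Q : Set G))), Cfsg.IsPBlock M F' ∧ (∀ t : ↥(Q ⊔ Subgroup.centralizer (Q : Set G)), Cfsg.blockCoeff F' t = Cfsg.subgroupBlockCoeff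 (Subgroup.centralizer (Q : Set G)) f (t : G)) ∧ Cfsg.IsNilpotentBlock p M F' := by
  have : M.IsMaximal := hM.2.1
  classical
  have hfp := CfsgLib.BrauerPairs.isBrauerPair_left (a := ⟨Q, f⟩) hle hmax.1.1
  have hfix : ∀ x : G, CfsgLib.BrauerPairs.cjA x (CfsgLib.BrauerPairs.gidem M (Subgroup.centralizer (Q : Set G)) f) =
      CfsgLib.BrauerPairs.gidem M (Subgroup.centralizer (Q : Set G)) f :=
    fun x => ((CfsgLib.BrauerPairs.stabilizesBlock_iff hf).mp (hG x).2).2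
  have hQn : Q.Normal := ⟨fun q hq x => (Subgroup.mem_set_normalizer_iff.mp (hG x).1 q).mp hq⟩
  have hQB : Cfsg.IsBrauerPairOf p M B Q f :=
    (CfsgLib.BrauerPairs.brauerPairOf_iff_of_subpair hM (a := ⟨Q, f⟩) (b := ⟨P, e⟩) hle).mp hmax.1
  obtain ⟨-, hB, hocc⟩ := (CfsgLib.BrauerPairs.brauerPairOf_iff hM).mp hQB
  rw [CfsgLib.BrauerPairs.br_eq_self_normal hM hfp.1 hB] at hocc
  -- the idempotent of `B`
  have hconj : ∀ g h : G, (CfsgLib.BrauerPairs.gidem M (Subgroup.centralizer (Q : Set G)) f).coeff (h * g * h⁻¹) =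
      (CfsgLib.BrauerPairs.gidem M (Subgroup.centralizer (Q : Set G)) f).coeff g := fun g h => by
    conv_lhs => rw [← hfix h, CfsgLib.BrauerPairs.coeff_cjA]
    group
  have hcomm : CfsgLib.BrauerPairs.gidem M (Subgroup.centralizer (Q : Set G)) f * CfsgLib.BrauerPairs.gidemTop M B =
      CfsgLib.BrauerPairs.gidemTop M B * CfsgLib.BrauerPairs.gidem M (Subgroup.centralizer (Q : Set G)) f :=
    (CfsgLib.BrauerPairs.commute_of_fixed (CfsgLib.BrauerPairs.isFixed_gidemTop (Subgroup.centralizer (Q : Set G)) B)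
      (CfsgLib.BrauerPairs.centralIn_gidem f).1).symm
  have hBf : CfsgLib.BrauerPairs.gidemTop M B = CfsgLib.BrauerPairs.gidem M (Subgroup.centralizer (Q : Set G)) f := by
    rcases CfsgLib.BrauerPairs.idem_mul_eq_or_eq_zero hconj
      (CfsgLib.BrauerPairs.gidem_mul_self hf) hB with h | h <;>
      rw [← CfsgLib.BrauerPairs.gidemTop_eq hB, hcomm, hocc] at h
    · exact h.symm
    · exact absurd h (CfsgLib.BrauerPairs.gidem_ne_zero hf)
  refine ⟨fun g => ?_, ?_⟩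
  · have hl := CfsgLib.BrauerPairs.subgroupBlockCoeff_mem hf g
    have hl' := CfsgLib.Blocks.blockCoeff_mem_locRing hB g
    refine (CfsgLib.Blocks.memLocalIdeal_sub_iff (x := ⟨_, hl'⟩) (y := ⟨_, hl⟩)).mpr ?_
    have h1 := congrArg (fun z => z.coeff g) hBf
    simp only [CfsgLib.BrauerPairs.gidemTop, CfsgLib.BrauerPairs.gidem, CfsgLib.Blocks.coeff_ofFun,
      CfsgLib.BrauerPairs.resD_eq hl, CfsgLib.BrauerPairs.resD_eq hl'] at h1
    exact h1
  have hCH : (Subgroup.centralizer (Q : Set G)) ≤ Q ⊔ (Subgroup.centralizer (Q : Set G)) := le_sup_right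
  have hQH : Q ≤ Q ⊔ (Subgroup.centralizer (Q : Set G)) := le_sup_left
  have := Fintype.ofFinite ↥(Q ⊔ (Subgroup.centralizer (Q : Set G)))
  obtain ⟨F', hF', hgF', hcoe⟩ := CfsgLib.BrauerPairs.exists_stable_block hM hfp.1 hf hQH hCH
    (fun x _ => (hG x).1) (fun x _ => hfix x)
  refine ⟨F', hF', hcoe, ?_⟩
  -- `Q` is a defect group of `F'`
  have hfc : F.IsFullyCentralized Q := by
    refine ⟨hQP, fun Q' hQ' => ?_⟩
    obtain ⟨φ, hφ, rfl⟩ := hQ'
    obtain ⟨-, g, hg, -⟩ := (hF.2 Q φ).mp hφ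
    rw [CfsgLib.BrauerPairs.eq_conjHom hg, CfsgLib.BrauerPairs.conjHom_range,
      CfsgLib.BrauerPairs.map_conj_eq_self (hG g).1]
  have hDC := (CfsgLib.BrauerPairs.fullyCentralized_iff hM hF hle).mp hfc
  have hPC : P ⊓ (Subgroup.centralizer (Q : Set G)) ≤ Q := hcen.2 Q ⟨_, F.conj_mem hQP P.one_mem, by
    rw [CfsgLib.BrauerPairs.conjHom_range,
      CfsgLib.BrauerPairs.map_conj_eq_self (Subgroup.one_mem _)]⟩
  obtain ⟨D, hD⟩ := CfsgLib.Blocks.exists_isDefectGroup (p := p) hF'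
  have hQn' : (Q.subgroupOf (Q ⊔ (Subgroup.centralizer (Q : Set G)))).Normal := hQn.subgroupOf _
  have hQD : Q.subgroupOf (Q ⊔ (Subgroup.centralizer (Q : Set G))) ≤ D := CfsgLib.Blocks.normal_le_defect hM hF' hD
    (hfp.1.of_equiv (Subgroup.subgroupOfEquivOfLe hQH).symm)
  have hDQ : D ≤ Q.subgroupOf (Q ⊔ (Subgroup.centralizer (Q : Set G))) := by
    intro d hd
    set R := D.map (Q ⊔ (Subgroup.centralizer (Q : Set G))).subtype ⊓ (Subgroup.centralizer (Q : Set G)) with hR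
    have hne : CfsgLib.BrauerPairs.br R (CfsgLib.BrauerPairs.gidem M (Subgroup.centralizer (Q : Set G)) f) ≠ 0 :=
      CfsgLib.BrauerPairs.br_ne_zero_mono inf_le_left
        (hgF' ▸ CfsgLib.BrauerPairs.br_ne_zero_of_defect hF' hD)
    have h1 := CfsgLib.BrauerPairs.card_le_defect hM hf
      (((CfsgLib.Blocks.IsDefectGroup.isPGroup hD).map _).to_le inf_le_left) inf_le_right hne hDC
    rw [CfsgLib.BrauerPairs.card_subgroupOf' (inf_le_right : P ⊓ (Subgroup.centralizer (Q : Set G)) ≤ (Subgroup.centralizer (Q : Set G)))] at h1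
    have h2 : P ⊓ (Subgroup.centralizer (Q : Set G)) ≤ R := le_inf (hPC.trans fun q hq => ⟨⟨q, hQH hq⟩, hQD hq, rfl⟩) inf_le_right
    have h3 : P ⊓ (Subgroup.centralizer (Q : Set G)) = R := Subgroup.eq_of_le_of_card_ge h2 h1
    obtain ⟨q, hq, c, hc, hdq⟩ := CfsgLib.BrauerPairs.exists_mul_of_mem_sup (H := Q) (K := (Subgroup.centralizer (Q : Set G)))
      (fun x _ => CfsgLib.BrauerPairs.mem_normalizer_centralizer (hG x).1) d.2
    have h4 : c ∈ R := by
      refine ⟨?_, hc⟩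
      show c ∈ D.map (Q ⊔ Subgroup.centralizer (Q : Set G)).subtype
      have h5 : c = q⁻¹ * (d : G) := by rw [hdq]; group
      rw [h5]
      exact mul_mem (inv_mem (show q ∈ D.map (Q ⊔ Subgroup.centralizer (Q : Set G)).subtype from ⟨⟨q, hQH hq⟩, hQD hq, rfl⟩)) ⟨d, hd, rfl⟩
    show (d : G) ∈ Q
    rw [hdq]
    exact mul_mem hq (hPC (h3.symm ▸ h4))
  have hDeq : D = Q.subgroupOf (Q ⊔ (Subgroup.centralizer (Q : Set G))) := le_antisymm hDQ hQD
  subst hDeq
  obtain ⟨e', hmax'⟩ := CfsgLib.BrauerPairs.exists_maximal_at hM hF' hD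
  refine (CfsgLib.BrauerPairs.nilpotent_iff_inner hM
    (CfsgLib.BrauerPairs.blockFusion_spec hM hmax')).mpr fun R => ?_
  ext φ
  constructor
  · intro hφ
    have hR := ((CfsgLib.BrauerPairs.blockFusion hM hmax').le_of_mem hφ).1
    obtain ⟨-, g, hg, -⟩ := hφ
    obtain ⟨q, hq, c, hc, hgq⟩ := CfsgLib.BrauerPairs.exists_mul_of_mem_sup (H := Q) (K := (Subgroup.centralizer (Q : Set G)))
      (fun x _ => CfsgLib.BrauerPairs.mem_normalizer_centralizer (hG x).1) g.2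
    refine ⟨hR, ⟨q, hQH hq⟩, hq, fun u => ?_⟩
    rw [hg u]
    refine Subtype.ext ?_
    show (g : G) * ((u : ↥(Q ⊔ (Subgroup.centralizer (Q : Set G)))) : G) * (g : G)⁻¹ = q * ((u : ↥(Q ⊔ (Subgroup.centralizer (Q : Set G)))) : G) * q⁻¹
    have h6 : ((u : ↥(Q ⊔ (Subgroup.centralizer (Q : Set G)))) : G) * c = c * ((u : ↥(Q ⊔ (Subgroup.centralizer (Q : Set G)))) : G) :=
      Subgroup.mem_centralizer_iff.mp hc _ (hR u.2)
    rw [hgq]
    calc q * c * ((u : ↥(Q ⊔ (Subgroup.centralizer (Q : Set G)))) : G) * (q * c)⁻¹ = q * (c * ((u : ↥(Q ⊔ (Subgroup.centralizer (Q : Set G)))) : G)) * c⁻¹ * q⁻¹ := by group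
      _ = q * (((u : ↥(Q ⊔ (Subgroup.centralizer (Q : Set G)))) : G) * c) * c⁻¹ * q⁻¹ := by rw [h6]
      _ = q * ((u : ↥(Q ⊔ (Subgroup.centralizer (Q : Set G)))) : G) * q⁻¹ := by group
  · rintro ⟨hR, v, hv, hφ⟩
    rw [CfsgLib.BrauerPairs.eq_conjHom hφ]
    exact (CfsgLib.BrauerPairs.blockFusion hM hmax').conj_mem hR hv


end Cfsg.Agent.S4693
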