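import Cfsg.Statements.S4694
import Cfsg.Agent.Lib.BrauerPairs.Weight
import Cfsg.Agent.Lib.BrauerPairs.Cover
import Cfsg.Agent.Lib.BrauerPairs.Fusion

set_option autoImplicit false
open Cfsg

namespace Cfsg.Agent.S4694

/-- Fix a prime p and a maximal ideal M of the algebraic integers containing p, a p-block B of the finite group G and a Brauer pair (Q, e) of B. Let T be the stabilizer of e in N_G(Q) and suppose that (Q, e) carries a weight: the block of T whose idempotent is that of e contains an irreducible character χ that is constant on the cosets of Q and whose degree has p-part equal to the p-part of the index of Q in T. Then Z(Q) is a defect group of e as a block of C_G(Q), and Q is the largest normal p-subgroup of T: every p-subgroup of T normalized by T lies in Q. -/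
theorem result {G : Type*} [Group G] [Fintype G] (p : ℕ) [Fact p.Prime] (M : Ideal Cfsg.AlgInt) (hM : Cfsg.IsPModular p M) (B : Set (Cfsg.IrrCharacter G)) (Q : Subgroup G) (e : Set (Cfsg.IrrCharacter (Subgroup.centralizer (Q : Set G)))) (hQe : Cfsg.IsBrauerPairOf p M B Q e) (T : Subgroup G) (hT : ∀ y : G, y ∈ T ↔ y ∈ Subgroup.normalizer (Q : Set G) ∧ Cfsg.StabilizesBlock (Subgroup.centralizer (Q : Set G)) e y) (F' : Set (Cfsg.IrrCharacter T)) (hF' : Cfsg.IsPBlock M F') (hF'e : ∀ t : T, Cfsg.blockCoeff F' t = Cfsg.subgroupBlockCoeff (Subgroup.centralizer (Q : Set G)) e (t : G)) (χ : Cfsg.IrrCharacter T) (hχ : χ ∈ F') (hχQ : ∀ q : G, q ∈ Q → ∀ t : T, ∀ t' : T, (t' : G) = q * (t : G) → (χ : T → ℂ) t' = (χ : T → ℂ) t) (hdeg : (Cfsg.charDegree (χ : T → ℂ)).factorization p + (Nat.card Q).factorization p = (Nat.card T).factorization p) : Cfsg.IsDefectGroup p M e ((Q ⊓ Subgroup.centralizer (Q : Set G)).subgroupOf (Subgroup.centralizer (Q : Set G)))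 ∧ ∀ R : Subgroup G, R ≤ T → IsPGroup p R → (∀ t ∈ T, t ∈ Subgroup.normalizer (R : Set G)) → R ≤ Q := by
  have : M.IsMaximal := hM.2.1
  classical
  obtain ⟨hQp, he⟩ := hQe.1
  have hT' : ∀ y, y ∈ T ↔ y ∈ CfsgLib.BrauerPairs.stab M Q e := fun y =>
    (hT y).trans (CfsgLib.BrauerPairs.mem_stab_iff he).symm
  have hCT : CfsgLib.BrauerPairs.Cen Q ≤ T := fun y hy =>
    (hT' y).mpr (CfsgLib.BrauerPairs.cen_le_stab e hy)
  have hQT : Q ≤ T := fun y hy => (hT' y).mpr
    ⟨Subgroup.le_normalizer hy, CfsgLib.BrauerPairs.isFixed_self e y hy⟩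
  have hTN : T ≤ Subgroup.normalizer (Q : Set G) := fun y hy => ((hT y).mp hy).1
  have := Fintype.ofFinite T
  have hQn : (Q.subgroupOf T).Normal := ⟨fun q hq t => (Subgroup.mem_set_normalizer_iff.mp
    (hTN t.2) (q : G)).mp hq⟩
  have hKn : ((CfsgLib.BrauerPairs.Cen Q).subgroupOf T).Normal := ⟨fun q hq t =>
    (Subgroup.mem_set_normalizer_iff.mp
      (CfsgLib.BrauerPairs.mem_normalizer_centralizer (hTN t.2)) (q : G)).mp hq⟩
  have hker : ∀ q ∈ Q.subgroupOf T, (χ : T → ℂ) q = (χ : T → ℂ) 1 := fun q hq =>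
    hχQ (q : G) hq 1 q (by simp)
  have hcardQ : Nat.card (Q.subgroupOf T) = Nat.card Q :=
    Nat.card_congr (Subgroup.subgroupOfEquivOfLe hQT).toEquiv
  refine ⟨?_, fun R hRT hRp hRn => ?_⟩
  swap
  · -- no bigger normal p-subgroup
    have hRn' : (R.subgroupOf T).Normal := ⟨fun r hr t =>
      (Subgroup.mem_set_normalizer_iff.mp (hRn t t.2) (r : G)).mp hr⟩
    have hp1 : IsPGroup p ↥(Q.subgroupOf T ⊔ R.subgroupOf T) :=
      IsPGroup.to_sup_of_normal_right (hQp.of_equiv (Subgroup.subgroupOfEquivOfLe hQT).symm)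
        (hRp.of_equiv (Subgroup.subgroupOfEquivOfLe hRT).symm)
    have h1 := CfsgLib.Weight.eq_of_normal_pGroup (p := p) (χ := χ) (Q.subgroupOf T)
      (Q.subgroupOf T ⊔ R.subgroupOf T) hp1 le_sup_left hker (by rw [hcardQ]; exact hdeg.ge)
    intro r hr
    have h2 : (⟨r, hRT hr⟩ : T) ∈ Q.subgroupOf T := h1 ▸ (le_sup_right : R.subgroupOf T ≤ _) hr
    exact h2
  -- the constituent on the centraliser
  let φ : ↥((CfsgLib.BrauerPairs.Cen Q).subgroupOf T) ≃* ↥(CfsgLib.BrauerPairs.Cen Q) :=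
    Subgroup.subgroupOfEquivOfLe hCT
  have := Fintype.ofFinite ↥((CfsgLib.BrauerPairs.Cen Q).subgroupOf T)
  have := Fintype.ofFinite ↥(CfsgLib.BrauerPairs.Cen Q)
  obtain ⟨θ, hθ0, hθker, hθdeg⟩ := CfsgLib.Weight.exists_constituent_inf (p := p) (χ := χ)
    (Q.subgroupOf T) ((CfsgLib.BrauerPairs.Cen Q).subgroupOf T) hker
  -- it lies in `e`
  have heK : IsPBlock M (CfsgLib.BrauerPairs.tblock φ.symm e) :=
    CfsgLib.BrauerPairs.isPBlock_tblock φ.symm he
  have hFe : CfsgLib.BrauerPairs.gidemTop M F' =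
      CfsgLib.BrauerPairs.gidem M ((CfsgLib.BrauerPairs.Cen Q).subgroupOf T)
        (CfsgLib.BrauerPairs.tblock φ.symm e) := by
    refine CfsgLib.BrauerPairs.ext_coeff fun t => ?_
    simp only [CfsgLib.BrauerPairs.gidemTop, CfsgLib.BrauerPairs.gidem, CfsgLib.Blocks.coeff_ofFun]
    congr 1
    rw [hF'e t]
    by_cases ht : (t : G) ∈ CfsgLib.BrauerPairs.Cen Q
    · rw [subgroupBlockCoeff, dif_pos ht, subgroupBlockCoeff,
        dif_pos (show t ∈ (CfsgLib.BrauerPairs.Cen Q).subgroupOf T from ht),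
        show (⟨t, ht⟩ : ↥((CfsgLib.BrauerPairs.Cen Q).subgroupOf T)) =
          φ.symm ⟨(t : G), ht⟩ from rfl, CfsgLib.BrauerPairs.blockCoeff_tblock]
    · rw [subgroupBlockCoeff, dif_neg ht, subgroupBlockCoeff,
        dif_neg (show t ∉ (CfsgLib.BrauerPairs.Cen Q).subgroupOf T from ht)]
  have hθblk := (CfsgLib.BrauerPairs.covers_iff hF' (CfsgLib.Blocks.isPBlock_blockOf θ)).mp
    ⟨χ, hχ, θ, CfsgLib.Blocks.mem_blockOf_self θ, hθ0⟩
  have hθe : θ ∈ CfsgLib.BrauerPairs.tblock φ.symm e := by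
    by_contra hcon
    apply hθblk
    rw [hFe]
    refine CfsgLib.BrauerPairs.gidem_mul_of_ne heK (CfsgLib.Blocks.isPBlock_blockOf θ) fun h => hcon ?_
    rw [h]
    exact CfsgLib.Blocks.mem_blockOf_self θ
  rw [CfsgLib.BrauerPairs.mem_tblock] at hθe
  -- conclude in the centraliser
  refine CfsgLib.Weight.isDefectGroup_of_central hM
    ((hQp.to_le inf_le_left).of_equiv (Subgroup.subgroupOfEquivOfLe inf_le_right).symm) ?_ he hθe ?_ ?_
  · intro z hz
    exact Subgroup.mem_center_iff.mpr fun c =>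
      Subtype.ext (Subgroup.mem_centralizer_iff.mp c.2 (z : G) hz.1).symm
  · intro z hz
    show (θ : _ → ℂ) (φ.symm z) = (θ : _ → ℂ) (φ.symm 1)
    rw [map_one]
    exact hθker _ (show ((φ.symm z : ↥((CfsgLib.BrauerPairs.Cen Q).subgroupOf T)) : T).1 ∈ Q from hz.1)
  · -- degrees
    have hd : charDegree ((CfsgLib.BrauerPairs.tirr φ.symm.symm θ : IrrCharacter _) :
        ↥(CfsgLib.BrauerPairs.Cen Q) → ℂ) = charDegree (θ : ↥((CfsgLib.BrauerPairs.Cen Q).subgroupOf T) → ℂ) := by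
      have h := CfsgLib.Blocks.charDegree_eq (CfsgLib.Char.isCharacter_of_isIrr
        (CfsgLib.BrauerPairs.tirr φ.symm.symm θ).2)
      rw [show ((CfsgLib.BrauerPairs.tirr φ.symm.symm θ : IrrCharacter _) : ↥(CfsgLib.BrauerPairs.Cen Q) → ℂ) 1 =
          (θ : ↥((CfsgLib.BrauerPairs.Cen Q).subgroupOf T) → ℂ) (φ.symm.symm.symm 1) from rfl,
        map_one, CfsgLib.Blocks.charDegree_eq (CfsgLib.Char.isCharacter_of_isIrr θ.2)] at h
      exact_mod_cast h.symm
    rw [hd]
    -- orders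
    have hK : Nat.card ((CfsgLib.BrauerPairs.Cen Q).subgroupOf T) = Nat.card (CfsgLib.BrauerPairs.Cen Q) :=
      Nat.card_congr φ.toEquiv
    have hZ : Nat.card ((Q ⊓ CfsgLib.BrauerPairs.Cen Q).subgroupOf (CfsgLib.BrauerPairs.Cen Q)) =
        Nat.card (Q ⊓ CfsgLib.BrauerPairs.Cen Q : Subgroup G) :=
      Nat.card_congr (Subgroup.subgroupOfEquivOfLe inf_le_right).toEquiv
    have h1 := (((CfsgLib.BrauerPairs.Cen Q).subgroupOf T).subgroupOf
      (Q.subgroupOf T ⊔ (CfsgLib.BrauerPairs.Cen Q).subgroupOf T)).card_mul_index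
    rw [Nat.card_congr (Subgroup.subgroupOfEquivOfLe le_sup_right).toEquiv, hK] at h1
    change _ * ((CfsgLib.BrauerPairs.Cen Q).subgroupOf T).relIndex _ = _ at h1
    rw [Subgroup.relIndex_sup_right, Subgroup.relIndex_subgroupOf hQT] at h1
    have h2 := ((CfsgLib.BrauerPairs.Cen Q).subgroupOf Q).card_mul_index
    rw [show Nat.card ((CfsgLib.BrauerPairs.Cen Q).subgroupOf Q) =
        Nat.card (Q ⊓ CfsgLib.BrauerPairs.Cen Q : Subgroup G) by
      rw [← Subgroup.inf_subgroupOf_right, inf_comm]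
      exact Nat.card_congr (Subgroup.subgroupOfEquivOfLe inf_le_left).toEquiv] at h2
    have h3 := ((Q ⊓ CfsgLib.BrauerPairs.Cen Q).subgroupOf (CfsgLib.BrauerPairs.Cen Q)).card_mul_index
    rw [hZ] at h3
    have h4 := (Q.subgroupOf T ⊔ (CfsgLib.BrauerPairs.Cen Q).subgroupOf T).card_mul_index
    have hz0 : Nat.card (Q ⊓ CfsgLib.BrauerPairs.Cen Q : Subgroup G) ≠ 0 := Nat.card_pos.ne'
    have hr0 : (CfsgLib.BrauerPairs.Cen Q).relIndex Q ≠ 0 := Subgroup.index_ne_zero_of_finite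
    have hi0 : ((Q ⊓ CfsgLib.BrauerPairs.Cen Q).subgroupOf (CfsgLib.BrauerPairs.Cen Q)).index ≠ 0 :=
      Subgroup.index_ne_zero_of_finite
    have f1 := congrArg (fun n : ℕ => n.factorization p) h1
    have f2 := congrArg (fun n : ℕ => n.factorization p) h2
    have f3 := congrArg (fun n : ℕ => n.factorization p) h3
    have f4 := congrArg (fun n : ℕ => n.factorization p) h4
    simp only [Nat.factorization_mul Nat.card_pos.ne' hr0, Finsupp.add_apply] at f1
    simp only [Nat.factorization_mul hz0 (Subgroup.index_ne_zero_of_finite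
      (H := (CfsgLib.BrauerPairs.Cen Q).subgroupOf Q)), Finsupp.add_apply] at f2
    simp only [Nat.factorization_mul hz0 hi0, Finsupp.add_apply] at f3
    simp only [Nat.factorization_mul Nat.card_pos.ne' (Subgroup.index_ne_zero_of_finite
      (H := Q.subgroupOf T ⊔ (CfsgLib.BrauerPairs.Cen Q).subgroupOf T)), Finsupp.add_apply] at f4
    rw [Subgroup.relIndex] at f1
    change ((Q ⊓ CfsgLib.BrauerPairs.Cen Q).subgroupOf (CfsgLib.BrauerPairs.Cen Q)).index.factorization p ≤ _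
    omega


end Cfsg.Agent.S4694
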