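import Cfsg.Statements.S4696
import Cfsg.Agent.Lib.Blocks.CyclicMain
-- import your own Cfsg.Agent.* helpers here

set_option autoImplicit false
open Cfsg CfsgLib.Blocks CfsgLib.Blocks.Cyclic

namespace Cfsg.Agent.S4696

/-- Let p be a prime, M a maximal ideal of the algebraic integers containing p, and B a p-block of the finite group G whose defect group D is cyclic of order p^a with a ≥ 1. Let C = C_G(D), let b be a block of C inducing B, let T be the stabilizer of b in N_G(D) (the elements g of N_G(D) such that the g-conjugate of every member of b is again in b), and let e be the index of C in T (the inertial index of B). Then e divides p − 1, every irreducible character in B has height zero, and B is the disjoint union of a set X of e characters and a set Y of (p^a − 1)/e characters, the members of Y agreeing on p-regular elements, for which there are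 signs δ_χ = ±1 (χ ∈ X) and δ₀ = ±1 such that: for every ψ ∈ Y and every p-regular g, δ₀ ψ(g) + Σ_{χ ∈ X} δ_χ χ(g) = 0; for all χ, χ' ∈ X the integers δ_χ χ(1) and δ_χ' χ'(1) are congruent modulo p^a; and for ψ ∈ Y and χ ∈ X, ψ(1) ≡ −e δ₀ δ_χ χ(1) modulo p^a. -/
theorem result {G : Type*} [Group G] [Finite G] (p : ℕ) [Fact p.Prime] (M : Ideal Cfsg.AlgInt) (hM : Cfsg.IsPModular p M) (D : Subgroup G) (hD : IsCyclic D) (a : ℕ) (ha : 1 ≤ a) (hDa : Nat.card D = p ^ a) (B : Set (Cfsg.IrrCharacter G)) (hB : Cfsg.IsPBlock M B) (hBD : Cfsg.IsDefectGroup p M B D) (b : Set (Cfsg.IrrCharacter (Subgroup.centralizer (D : Set G)))) (hind : Cfsg.IsInducedBlock M (Subgroup.centralizer (D : Set G)) b B) (T : Subgroup G) (hT : ∀ g : G, g ∈ T ↔ (g ∈ Subgroup.normalizer (D : Set G) ∧ ∀ θ ∈ b, ∀ θ' : Cfsg.IrrCharacter (Subgroup.centralizer (D : Set G)), (∀ h h' : Subgroup.centralizer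 (D : Set G), (h' : G) = g * h * g⁻¹ → (θ' : Subgroup.centralizer (D : Set G) → ℂ) h' = (θ : Subgroup.centralizer (D : Set G) → ℂ) h) → θ' ∈ b)) (e : ℕ) (he : (Subgroup.centralizer (D : Set G)).relIndex T = e) : e ∣ p - 1 ∧ (∀ χ ∈ B, Cfsg.blockHeight p B (χ : G → ℂ) = 0) ∧ ∃ X Y : Set (Cfsg.IrrCharacter G), B = X ∪ Y ∧ Disjoint X Y ∧ Nat.card X = e ∧ Nat.card Y = (p ^ a - 1) / e ∧ (∀ ψ ∈ Y, ∀ ψ' ∈ Y, ∀ g : G, ¬ p ∣ orderOf g → (ψ : G → ℂ) g = (ψ' : G → ℂ) g) ∧ ∃ (δ : Cfsg.IrrCharacter G → ℤ) (δ₀ : ℤ), (∀ χ ∈ X, δ χ = 1 ∨ δ χ = -1) ∧ (δ₀ = 1 ∨ δ₀ = -1) ∧ (∀ ψ ∈ Y, ∀ g : G, ¬ p ∣ orderOf g → (δ₀ : ℂ) * (ψ : G → ℂ) g + ∑ᶠ χ ∈ X, (δ χ : ℂ) * (χ : G → ℂ) g = 0) ∧ (∀ χ ∈ X, ∀ χ' ∈ X, δ χ * (Cfsg.charDegree (χ : G → ℂ) : ℤ) ≡ δ χ' * (Cfsg.charDegree (χ' : G → ℂ) : ℤ) [ZMOD (p : ℤ) ^ a]) ∧ (∀ ψ ∈ Y, ∀ χ ∈ X, (Cfsg.charDegree (ψ : G → ℂ) : ℤ) ≡ -((e : ℤ) * δ₀ * δ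 χ * (Cfsg.charDegree (χ : G → ℂ) : ℤ)) [ZMOD (p : ℤ) ^ a]) := by
  classical
  haveI := hM.2.1
  let _ := Fintype.ofFinite G
  have hne : D ≠ ⊥ := fun h => by
    rw [h, Subgroup.card_bot] at hDa
    exact (Nat.one_lt_pow (by omega) (Fact.out : p.Prime).one_lt).ne hDa
  obtain ⟨hmax, hTs, β, -, ⟨S⟩⟩ := exists_cyc_setup hM hB hBD hind hD hne (fun g => (hT g).trans
    (and_congr_right fun hg => stabilizes_iff_forall hg))
  have he' : (CfsgLib.BrauerPairs.Cen D).relIndex (CfsgLib.BrauerPairs.stab M D b) = e := by rw [← hTs]; exact he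
  have hn : ((CfsgLib.BrauerPairs.Cen D).subgroupOf (CfsgLib.BrauerPairs.stab M D b)).Normal :=
    (Subgroup.normal_subgroupOf_iff_le_normalizer (CfsgLib.BrauerPairs.cen_le_stab b)).mpr fun t ht =>
      CfsgLib.BrauerPairs.mem_normalizer_centralizer ht.1
  have hdvd := (CfsgLib.BrauerPairs.cyclic_quotient hM hmax hD hne (hn := hn)).2
  rw [he'] at hdvd
  have hepos : 0 < e := Nat.pos_of_ne_zero fun h => by
    rw [h, zero_dvd_iff] at hdvd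
    have := (Fact.out : p.Prime).two_le
    omega
  have hq : S.Θ.card * e = p ^ a - 1 := by
    rw [← he', ← S.hA, ← hDa]; exact S.hΘcard
  have hYcard : Nat.card (S.η '' (S.Θ : Set (IrrCharacter D))) = S.Θ.card := by
    rw [Nat.card_coe_set_eq, Set.InjOn.ncard_image S.hηinj, Set.ncard_coe_finset]
  have hdec : B = {χ | χ ∈ B ∧ ∀ θ ∈ S.Θ, S.η θ ≠ χ} ∪ S.η '' (S.Θ : Set (IrrCharacter D)) := by
    ext χ
    constructor
    · intro h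
      by_cases hex : ∃ θ ∈ S.Θ, S.η θ = χ
      · obtain ⟨θ, hθ, rfl⟩ := hex; exact Or.inr ⟨θ, hθ, rfl⟩
      · push Not at hex; exact Or.inl ⟨h, hex⟩
    · rintro (h | ⟨θ, hθ, rfl⟩)
      · exact h.1
      · exact S.hηB θ hθ
  have hdisj : Disjoint {χ | χ ∈ B ∧ ∀ θ ∈ S.Θ, S.η θ ≠ χ} (S.η '' (S.Θ : Set (IrrCharacter D))) :=
    Set.disjoint_left.mpr fun χ h ⟨θ, hθ, he⟩ => h.2 θ hθ he
  have hXcard : Nat.card {χ | χ ∈ B ∧ ∀ θ ∈ S.Θ, S.η θ ≠ χ} = e := by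
    have h1 := S.hk
    rw [he'] at h1
    rw [Nat.card_coe_set_eq] at hYcard h1 ⊢
    have h2 := Set.ncard_union_eq hdisj (Set.toFinite _) (Set.toFinite _)
    rw [← hdec] at h2
    omega
  have hpow : ((p : ℤ) ^ a) = ((Nat.card D : ℕ) : ℤ) := by rw [hDa]; push_cast; ring
  have hDp := CfsgLib.Blocks.IsDefectGroup.isPGroup hBD
  have hfin : ∀ g : G, ∑ χ ∈ Finset.univ.filter (fun χ => χ ∈ B ∧ ∀ θ ∈ S.Θ, S.η θ ≠ χ),
      (S.δ χ : ℂ) * (χ : G → ℂ) g = ∑ᶠ χ ∈ {χ | χ ∈ B ∧ ∀ θ ∈ S.Θ, S.η θ ≠ χ}, (S.δ χ : ℂ) * (χ : G → ℂ) g := by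
    intro g
    rw [finsum_mem_eq_finite_toFinset_sum _ (Set.toFinite _)]
    exact Finset.sum_congr (by ext χ; simp) fun _ _ => rfl
  have hδ0 : (S.δ₀ : ℂ) ≠ 0 := by rcases S.hδ₀ with h | h <;> simp [h]
  refine ⟨hdvd, S.hh, _, _, hdec, hdisj, hXcard, by rw [hYcard, ← hq, Nat.mul_div_cancel _ hepos], ?_,
    S.δ, S.δ₀, fun χ _ => S.hδ χ, S.hδ₀, ?_, ?_, ?_⟩
  · rintro _ ⟨θ, hθ, rfl⟩ _ ⟨θ', hθ', rfl⟩ g hg
    exact mul_left_cancel₀ hδ0 (add_right_cancel ((S.hreg θ hθ g hg).trans (S.hreg θ' hθ' g hg).symm))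
  · rintro _ ⟨θ, hθ, rfl⟩ g hg
    rw [← hfin]
    exact S.hreg θ hθ g hg
  · intro χ hχ χ' hχ'
    rw [hpow]
    exact degree_congr S hDp hχ.1 hχ.2 hχ'.1 hχ'.2
  · rintro _ ⟨θ, hθ, rfl⟩ χ hχ
    rw [hpow]
    have hrel := S.hreg θ hθ 1 (by rw [orderOf_one]; exact (Fact.out : p.Prime).not_dvd_one)
    simp only [← CfsgLib.CharBlocks.coe_charDegree_irr] at hrel
    have hz : S.δ₀ * (charDegree (S.η θ : G → ℂ) : ℤ) + ∑ χ ∈ Finset.univ.filter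
        (fun χ => χ ∈ B ∧ ∀ θ ∈ S.Θ, S.η θ ≠ χ), S.δ χ * (charDegree (χ : G → ℂ) : ℤ) = 0 := by exact_mod_cast hrel
    have hs : (∑ χ' ∈ Finset.univ.filter (fun χ => χ ∈ B ∧ ∀ θ ∈ S.Θ, S.η θ ≠ χ),
        S.δ χ' * (charDegree (χ' : G → ℂ) : ℤ)) ≡ ∑ χ' ∈ Finset.univ.filter
          (fun χ => χ ∈ B ∧ ∀ θ ∈ S.Θ, S.η θ ≠ χ), S.δ χ * (charDegree (χ : G → ℂ) : ℤ) [ZMOD Nat.card D] := by
      rw [Int.modEq_iff_dvd, ← Finset.sum_sub_distrib]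
      exact Finset.dvd_sum fun χ' hχ' => Int.modEq_iff_dvd.mp
        (degree_congr S hDp (Finset.mem_filter.mp hχ').2.1 (Finset.mem_filter.mp hχ').2.2 hχ.1 hχ.2)
    have hc : (Finset.univ.filter (fun χ => χ ∈ B ∧ ∀ θ ∈ S.Θ, S.η θ ≠ χ)).card = e := by
      rw [← hXcard, Nat.card_coe_set_eq, Set.ncard_eq_toFinset_card']
      congr 1; ext χ; simp
    rw [Finset.sum_const, hc, nsmul_eq_mul] at hs
    rw [Int.modEq_iff_dvd] at hs ⊢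
    rcases S.hδ₀ with h | h <;> rw [h] at hz ⊢
    · rw [show -((e : ℤ) * 1 * S.δ χ * (charDegree (χ : G → ℂ) : ℤ)) - (charDegree (S.η θ : G → ℂ) : ℤ) =
        -((e : ℤ) * (S.δ χ * (charDegree (χ : G → ℂ) : ℤ)) - ∑ χ' ∈ Finset.univ.filter
          (fun χ => χ ∈ B ∧ ∀ θ ∈ S.Θ, S.η θ ≠ χ), S.δ χ' * (charDegree (χ' : G → ℂ) : ℤ)) by linarith]
      exact dvd_neg.mpr hs
    · rw [show -((e : ℤ) * (-1) * S.δ χ * (charDegree (χ : G → ℂ) : ℤ)) - (charDegree (S.η θ : G → ℂ) : ℤ) =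
        ((e : ℤ) * (S.δ χ * (charDegree (χ : G → ℂ) : ℤ)) - ∑ χ' ∈ Finset.univ.filter
          (fun χ => χ ∈ B ∧ ∀ θ ∈ S.Θ, S.η θ ≠ χ), S.δ χ' * (charDegree (χ' : G → ℂ) : ℤ)) by linarith]
      exact hs

end Cfsg.Agent.S4696
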