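import Cfsg.Statements.S4699
import Mathlib

set_option autoImplicit false
open Cfsg
open scoped Pointwise

namespace Cfsg.Agent.S4699

open Polynomial in
/-- In characteristic `p`, `1 + X + ⋯ + X^(q-1) = (X - 1)^(q-1)` for `q = p^n`. -/
theorem geom_sum_eq_sub_one_pow {F : Type*} [Field F] (p : ℕ) [Fact p.Prime] [CharP F p] (n : ℕ) :
    (∑ i ∈ Finset.range (p ^ n), (X : F[X]) ^ i) = (X - 1) ^ (p ^ n - 1) := by
  have hX : (X - 1 : F[X]) ≠ 0 := by simpa using X_sub_C_ne_zero (1 : F)
  have hq : p ^ n - 1 + 1 = p ^ n := Nat.sub_add_cancel (Nat.one_le_pow _ _ (Fact.out : p.Prime).pos)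
  apply mul_right_cancel₀ hX
  rw [geom_sum_mul, ← pow_succ, hq, sub_pow_char_pow, one_pow]

open Polynomial in
theorem geom_sum_eq_sub_one_pow' {F R : Type*} [Field F] [Ring R] [Algebra F R] (p : ℕ)
    [Fact p.Prime] [CharP F p] (n : ℕ) (x : R) :
    (∑ i ∈ Finset.range (p ^ n), x ^ i) = (x - 1) ^ (p ^ n - 1) := by
  have h := congr_arg (aeval x) (geom_sum_eq_sub_one_pow (F := F) p n)
  simpa using h

/-- The trace over a cyclic `p`-group of order `q` of any element lies in `T^(q-s) R` when
`T = u - 1` satisfies `T^s = 0`. -/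
theorem trace_mem {F R : Type*} [Field F] [Ring R] [Algebra F R] (p : ℕ) [Fact p.Prime]
    [CharP F p] (n : ℕ) (U U' : R) (h1 : U * U' = 1) (h2 : U' * U = 1) (s : ℕ)
    (hs : (U - 1) ^ s = 0) (m : R) :
    ∃ Y, ∑ i ∈ Finset.range (p ^ n), U ^ i * m * U' ^ i = (U - 1) ^ (p ^ n - s) * Y := by
  set q := p ^ n with hq
  let L : R →ₗ[F] R := LinearMap.mulLeft F U
  let R' : R →ₗ[F] R := LinearMap.mulRight F U'
  let LT : R →ₗ[F] R := LinearMap.mulLeft F (U - 1)
  let RT : R →ₗ[F] R := LinearMap.mulRight F (U - 1)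
  let A : Module.End F R := L * R'
  have hA : ∀ i x, (A ^ i) x = U ^ i * x * U' ^ i := by
    intro i
    induction i with
    | zero => simp
    | succ i ih =>
      intro x
      have hc1 : U * U ^ i = U ^ (i + 1) := (pow_succ' U i).symm
      rw [pow_succ', Module.End.mul_apply, ih]
      simp only [A, Module.End.mul_apply, L, R', LinearMap.mulLeft_apply, LinearMap.mulRight_apply]
      rw [← hc1, pow_succ U' i]
      noncomm_ring
  have hsum : ∑ i ∈ Finset.range q, U ^ i * m * U' ^ i = ((A - 1) ^ (q - 1)) m := by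
    rw [hq, ← geom_sum_eq_sub_one_pow' (F := F) p n A, LinearMap.sum_apply]
    simp only [hA]
  have hfac : A - 1 = (LT - RT) * R' := by
    refine LinearMap.ext fun x => ?_
    simp only [A, LT, RT, L, R', Module.End.mul_apply, LinearMap.sub_apply, Module.End.one_apply,
      LinearMap.mulLeft_apply, LinearMap.mulRight_apply, mul_sub, sub_mul, one_mul, mul_one,
      mul_assoc, h2]
    noncomm_ring
  have hU' : Commute U' (U - 1) := by
    refine Commute.sub_right ?_ (Commute.one_right _)
    exact h2.trans h1.symm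
  have hcomm : Commute (LT - RT) R' := by
    refine LinearMap.ext fun x => ?_
    simp only [LT, RT, R', Module.End.mul_apply, LinearMap.sub_apply,
      LinearMap.mulLeft_apply, LinearMap.mulRight_apply]
    rw [sub_mul ((U - 1) * x), mul_assoc x (U - 1) U', ← hU'.eq, ← mul_assoc x U' (U - 1),
      mul_assoc (U - 1) x U']
  have hLR : Commute LT (-RT) := by
    refine Commute.neg_right (?_ : Commute LT RT)
    refine LinearMap.ext fun x => ?_
    simp only [LT, RT, Module.End.mul_apply, LinearMap.mulLeft_apply, LinearMap.mulRight_apply,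
      mul_assoc]
  rw [hsum, hfac, hcomm.mul_pow, Module.End.mul_apply]
  generalize (R' ^ (q - 1)) m = m'
  rw [sub_eq_add_neg, hLR.add_pow, LinearMap.sum_apply]
  have key : ∀ a, a < q - 1 + 1 → ∃ Y, (LT ^ a * (-RT) ^ (q - 1 - a) *
      ((q - 1).choose a : Module.End F R)) m' = (U - 1) ^ (q - s) * Y := by
    intro a ha
    rw [Module.End.mul_apply, Module.End.mul_apply]
    generalize ((q - 1).choose a : Module.End F R) m' = x
    simp only [LT, RT, LinearMap.pow_mulLeft, LinearMap.mulLeft_apply]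
    have hn : ∀ b, ((-LinearMap.mulRight F (U - 1)) ^ b) x =
        (-1 : F) ^ b • (x * (U - 1) ^ b) := by
      intro b
      rw [show -LinearMap.mulRight F (U - 1) = (-1 : F) • LinearMap.mulRight F (U - 1) from
          (neg_one_smul F _).symm,
        smul_pow, LinearMap.pow_mulRight]
      rfl
    rw [hn, mul_smul_comm]
    by_cases hb : s ≤ q - 1 - a
    · refine ⟨0, ?_⟩
      rw [← Nat.sub_add_cancel hb, pow_add (U - 1), hs]
      simp
    · refine ⟨(-1 : F) ^ (q - 1 - a) • ((U - 1) ^ (a - (q - s)) * (x * (U - 1) ^ (q - 1 - a))), ?_⟩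
      rw [mul_smul_comm, ← mul_assoc ((U - 1) ^ (q - s)), ← pow_add,
        show q - s + (a - (q - s)) = a by omega]
  choose! Y hY using key
  exact ⟨∑ a ∈ Finset.range (q - 1 + 1), Y a, by
    rw [Finset.mul_sum]; exact Finset.sum_congr rfl fun a ha => hY a (Finset.mem_range.1 ha)⟩

/-- An exponent coprime to `p` killing a unit of `ZMod (p^n)` forces order dividing `p - 1`. -/
theorem unit_pow_sub_one {p n m : ℕ} [Fact p.Prime] (hn : 0 < n) (r : (ZMod (p ^ n))ˣ)
    (hm : ¬ p ∣ m) (hr : r ^ m = 1) : r ^ (p - 1) = 1 := by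
  have hp : p.Prime := Fact.out
  have h1 : r ^ ((p ^ n).totient) = 1 := ZMod.pow_totient r
  rw [Nat.totient_prime_pow hp hn] at h1
  have h2 : r ^ (m.gcd (p ^ (n - 1) * (p - 1))) = 1 := pow_gcd_eq_one.2 ⟨hr, h1⟩
  have hco : Nat.Coprime (m.gcd (p ^ (n - 1) * (p - 1))) (p ^ (n - 1)) :=
    Nat.Coprime.pow_right _
      (((hp.coprime_iff_not_dvd).2 hm).symm.coprime_dvd_left (Nat.gcd_dvd_left _ _))
  obtain ⟨k, hk⟩ := hco.dvd_of_dvd_mul_left (Nat.gcd_dvd_right m _)
  rw [hk, pow_mul, h2, one_pow]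

/-- Conjugation invariant element `T^(p-1)·W` (`T = U - 1`, `W` a unit commuting with `T`):
it commutes with every element inducing an automorphism of order prime to `p` on `⟨U⟩`. -/
theorem exists_invariant {F R : Type*} [Field F] [Ring R] [Nontrivial R] [Algebra F R] (p : ℕ)
    [Fact p.Prime] [CharP F p] (n : ℕ) (hn : 0 < n) (U : R) (hU : U ^ (p ^ n) = 1)
    (hnil : IsNilpotent (U - 1)) :
    ∃ W : R, IsUnit W ∧ Commute (U - 1) W ∧
      ∀ (g g' : R) (k : ℕ), g * g' = 1 → g' * g = 1 → g * U * g' = U ^ k →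
        (k : ZMod (p ^ n)) ^ (p - 1) = 1 →
        g * ((U - 1) * W) ^ (p - 1) * g' = ((U - 1) * W) ^ (p - 1) := by
  classical
  have hp : p.Prime := Fact.out
  haveI : NeZero (p ^ n) := ⟨pow_ne_zero _ hp.ne_zero⟩
  set q := p ^ n with hq
  let S : Subgroup (ZMod q)ˣ := (powMonoidHom (p - 1) : (ZMod q)ˣ →* (ZMod q)ˣ).ker
  let ψ : (ZMod q)ˣ →* F :=
    (((ZMod.castHom (dvd_refl p) F).comp
      (ZMod.castHom (dvd_pow_self p hn.ne') (ZMod p))).toMonoidHom).comp (Units.coeHom _)
  have hψ : ∀ r : (ZMod q)ˣ, ψ r = (((r : ZMod q).val : ℕ) : F) := by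
    intro r
    conv_lhs => simp only [ψ, MonoidHom.coe_comp, RingHom.toMonoidHom_eq_coe, RingHom.coe_comp,
      Function.comp_apply, MonoidHom.coe_coe, Units.coeHom_apply]
    conv_lhs => rw [← ZMod.natCast_zmod_val (r : ZMod q)]
    rw [map_natCast, map_natCast]
  have hUmod : ∀ a b : ℕ, (a : ZMod q) = b → U ^ a = U ^ b := by
    intro a b hab
    have h := (ZMod.natCast_eq_natCast_iff' a b q).1 hab
    rw [← Nat.mod_add_div a q, pow_add, pow_mul, hU, one_pow, mul_one,
      ← Nat.mod_add_div b q, pow_add, pow_mul, hU, one_pow, mul_one, h]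
  let D : R := ∑ r : S, ψ (r : (ZMod q)ˣ)⁻¹ • (U ^ ((r : (ZMod q)ˣ) : ZMod q).val - 1)
  have hgeo : ∀ i : ℕ, U ^ i - 1 = (U - 1) * ∑ j ∈ Finset.range i, U ^ j := fun i =>
    (mul_geom_sum U i).symm
  let W : R := ∑ r : S, ψ (r : (ZMod q)ˣ)⁻¹ •
    ∑ j ∈ Finset.range ((r : (ZMod q)ˣ) : ZMod q).val, U ^ j
  have hD : D = (U - 1) * W := by
    simp only [D, W, Finset.mul_sum, mul_smul_comm]
    refine Finset.sum_congr rfl fun r _ => ?_
    rw [hgeo, Finset.mul_sum]
  refine ⟨W, ?_, ?_, ?_⟩
  · open Polynomial in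
    let P : F[X] := ∑ r : S, ψ (r : (ZMod q)ˣ)⁻¹ •
      ∑ j ∈ Finset.range ((r : (ZMod q)ˣ) : ZMod q).val, X ^ j
    have hPW : Polynomial.aeval U P = W := by
      simp [P, W, map_sum, map_smul]
    have hev : P.eval 1 = (Fintype.card S : F) := by
      simp only [P, Polynomial.eval_finset_sum, Polynomial.eval_smul, Polynomial.eval_pow,
        Polynomial.eval_X, one_pow, Finset.sum_const, Finset.card_range, nsmul_eq_mul, mul_one,
        smul_eq_mul]
      rw [Fintype.card, Finset.card_eq_sum_ones, Nat.cast_sum, Nat.cast_one]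
      refine Finset.sum_congr rfl fun r _ => ?_
      rw [← hψ, ← map_mul, inv_mul_cancel, map_one]
    have hcard : (Fintype.card S : F) ≠ 0 := by
      rw [Ne, CharP.cast_eq_zero_iff F p, ← Nat.card_eq_fintype_card]
      intro hd
      obtain ⟨x, hx⟩ := exists_prime_orderOf_dvd_card' p hd
      have h1 : x ^ (p - 1) = 1 := Subtype.ext (by rw [SubmonoidClass.coe_pow]; exact x.2)
      have h2 := orderOf_dvd_of_pow_eq_one h1
      rw [hx] at h2
      have h3 := Nat.le_of_dvd (by have := hp.two_le; omega) h2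
      have := hp.two_le
      omega
    obtain ⟨Q, hQ⟩ : (Polynomial.X - Polynomial.C (1 : F)) ∣ P - Polynomial.C (P.eval 1) :=
      Polynomial.dvd_iff_isRoot.2 (by simp)
    have hW : W = algebraMap F R (Fintype.card S : F) + (U - 1) * Polynomial.aeval U Q := by
      rw [← hev, ← hPW, sub_eq_iff_eq_add.1 hQ]
      simp [map_add, map_mul, add_comm]
    have hcQ : Commute (U - 1) (Polynomial.aeval U Q) := by
      have h : Commute (Polynomial.aeval U (Polynomial.X - 1 : Polynomial F))
          (Polynomial.aeval U Q) := (Commute.all _ _).map (Polynomial.aeval U)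
      simpa using h
    rw [hW]
    exact IsNilpotent.isUnit_add_left_of_commute (hcQ.isNilpotent_mul_right hnil)
      ((isUnit_iff_ne_zero.2 hcard).map _) (Algebra.commute_algebraMap_right _ _)
  · simp only [W]
    exact Commute.sum_right _ _ _ fun r _ => Commute.smul_right
      (Commute.sum_right _ _ _ fun j _ =>
        (Commute.pow_right ((Commute.refl U).sub_left (Commute.one_left U)) j)) _
  · intro g g' k hgg hg'g hgU hk
    have hmul : ∀ x y : R, (g * x * g') * (g * y * g') = g * (x * y) * g' := fun x y => by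
      calc (g * x * g') * (g * y * g') = g * x * (g' * g) * y * g' := by noncomm_ring
        _ = g * (x * y) * g' := by rw [hg'g]; noncomm_ring
    have hpow : ∀ (x : R) (i : ℕ), g * x ^ i * g' = (g * x * g') ^ i := by
      intro x i
      induction i with
      | zero => simp [hgg]
      | succ i ih => rw [pow_succ, pow_succ, ← ih, hmul]
    have hk0 : IsUnit (k : ZMod q) := IsUnit.of_pow_eq_one hk (by have := hp.two_le; omega)
    have hkS : hk0.unit ∈ S := by
      ext
      simp [hk]
    have hgD : g * D * g' = ψ hk0.unit • D := by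
      simp only [D, Finset.mul_sum, Finset.sum_mul, Finset.smul_sum]
      refine Fintype.sum_equiv (Equiv.mulLeft (⟨hk0.unit, hkS⟩ : S)) _ _ fun r => ?_
      simp only [Equiv.coe_mulLeft, Subgroup.coe_mul, smul_smul, mul_smul_comm, smul_mul_assoc,
        mul_inv_rev]
      congr 1
      · rw [map_mul, ← mul_assoc, mul_comm (ψ hk0.unit), mul_assoc, ← map_mul, mul_inv_cancel,
          map_one, mul_one]
      · rw [mul_sub, sub_mul, mul_one, hgg, hpow, hgU, ← pow_mul]
        congr 1
        apply hUmod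
        rw [Nat.cast_mul, ZMod.natCast_zmod_val, ZMod.natCast_zmod_val, Units.val_mul,
          IsUnit.unit_spec]
    rw [← hD, hpow, hgD, smul_pow, ← map_pow,
      show hk0.unit ^ (p - 1) = 1 by simpa [S] using hkS, map_one, one_smul]

/-- Schur: a nonzero endomorphism commuting with an irreducible representation is surjective. -/
theorem range_eq_top_of_commute {G F V : Type*} [Group G] [Field F] [AddCommGroup V] [Module F V]
    (ρ : Representation F G V) (hirr : ρ.IsIrreducible) (c : Module.End F V)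
    (hc : ∀ g, Commute (ρ g) c) (hne : c ≠ 0) : LinearMap.range c = ⊤ := by
  haveI : IsSimpleOrder (Subrepresentation ρ) := hirr
  let S : Subrepresentation ρ :=
    { toSubmodule := LinearMap.range c
      apply_mem_toSubmodule := by
        rintro g _ ⟨x, rfl⟩
        exact ⟨ρ g x, (LinearMap.congr_fun (hc g).eq x).symm⟩ }
  rcases eq_bot_or_eq_top S with h | h
  · exact absurd (LinearMap.range_eq_bot.1 (congr_arg Subrepresentation.toSubmodule h)) hne
  · exact congr_arg Subrepresentation.toSubmodule h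

/-- Let p be a prime and G a finite group whose Sylow p-subgroup P is cyclic of order p^n with n ≥ 2 and meets every other Sylow p-subgroup trivially. Then every faithful irreducible representation of G on a finite-dimensional space over a finite field of characteristic p has dimension at least p^n − (p − 1). -/
theorem result {G : Type*} [Group G] [Finite G] (p : ℕ) [Fact p.Prime] (P : Sylow p G) (hcyc : IsCyclic P) (n : ℕ) (hn : 2 ≤ n) (hPn : Nat.card P = p ^ n) (hTI : ∀ Q : Sylow p G, Q ≠ P → (P : Subgroup G) ⊓ (Q : Subgroup G) = ⊥) (F : Type*) [Field F] [Finite F] [CharP F p] (V : Type*) [AddCommGroup V] [Module F V] [FiniteDimensional F V] (ρ : Representation F G V) (hfaith : Function.Injective ρ) (hirr : ρ.IsIrreducible) : p ^ n - (p - 1) ≤ Module.finrank F V := by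
  classical
  have hp : p.Prime := Fact.out
  have h2le := hp.two_le
  haveI : NeZero (p ^ n) := ⟨pow_ne_zero _ hp.ne_zero⟩
  obtain ⟨u0, hu0⟩ := hcyc.exists_generator
  set u : G := (u0 : G) with hudef
  have huP : u ∈ (P : Subgroup G) := u0.2
  have hgen : ∀ h ∈ (P : Subgroup G), ∃ i < p ^ n, u ^ i = h := by
    intro h hh
    obtain ⟨i, hi, hi'⟩ := (mem_zpowers_iff_mem_range_orderOf.1 (hu0 ⟨h, hh⟩)) |>
      Finset.mem_image.1
    refine ⟨i, ?_, ?_⟩
    · rw [← hPn, ← orderOf_eq_card_of_forall_mem_zpowers hu0]; exact Finset.mem_range.1 hi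
    · exact congr_arg Subtype.val hi'
  have huord : orderOf u = p ^ n := by
    rw [hudef, Subgroup.orderOf_coe, orderOf_eq_card_of_forall_mem_zpowers hu0, hPn]
  haveI : Nontrivial V := by
    by_contra hV
    rw [not_nontrivial_iff_subsingleton] at hV
    have : ρ u = ρ 1 := LinearMap.ext fun x => Subsingleton.elim _ _
    have := hfaith this
    rw [this, orderOf_one] at huord
    exact absurd huord (ne_of_lt (Nat.one_lt_pow (by omega) (by omega)))
  haveI : CharP (Module.End F V) p :=
    charP_of_injective_algebraMap (algebraMap F (Module.End F V)).injective p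
  set U : Module.End F V := ρ u with hUdef
  have hUq : U ^ (p ^ n) = 1 := by
    rw [hUdef, ← map_pow, ← huord, pow_orderOf_eq_one, map_one]
  have hTq : (U - 1) ^ (p ^ n) = 0 := by
    rw [sub_pow_char_pow_of_commute (p := p) (h := Commute.one_right U), hUq, one_pow, sub_self]
  have hnil : IsNilpotent (U - 1) := ⟨_, hTq⟩
  obtain ⟨W, hW, hWc, hWinv⟩ := exists_invariant (F := F) p n (by omega) U hUq hnil
  set T := U - 1 with hT
  let s := Nat.find (⟨_, hTq⟩ : ∃ i, T ^ i = 0)
  have hs : T ^ s = 0 := Nat.find_spec (⟨_, hTq⟩ : ∃ i, T ^ i = 0)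
  have hsmin : ∀ i < s, T ^ i ≠ 0 := fun i hi => Nat.find_min _ hi
  have hsp : p ^ (n - 1) < s := by
    by_contra hle
    have h0 : T ^ (p ^ (n - 1)) = 0 := pow_eq_zero_of_le (not_lt.1 hle) hs
    rw [hT, sub_pow_char_pow_of_commute (p := p) (h := Commute.one_right U), one_pow, sub_eq_zero, hUdef,
      ← map_pow, ← map_one ρ] at h0
    have h1 := Nat.le_of_dvd (pow_pos hp.pos _)
      (huord ▸ orderOf_dvd_of_pow_eq_one (hfaith h0))
    exact absurd h1 (not_le.2 (Nat.pow_lt_pow_right hp.one_lt (by omega)))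
  have hps : p < s := lt_of_le_of_lt (Nat.le_self_pow (by omega) p) hsp
  have hsd : s ≤ Module.finrank F V := by
    refine Nat.find_le ?_
    have h1 := (LinearMap.isNilpotent_iff_charpoly T).1 hnil
    have h2 := LinearMap.aeval_self_charpoly T
    rw [h1] at h2
    simpa using h2
  suffices p ^ n - (p - 1) ≤ s by omega
  by_contra hlt
  -- the invariant element and its trace to `G`
  set N : Subgroup G := Subgroup.normalizer ((P : Subgroup G) : Set G) with hN
  set f : Module.End F V := (T * W) ^ (p - 1) with hf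
  have hPN : (P : Subgroup G) ≤ N := Subgroup.le_normalizer
  have hNf : ∀ g ∈ N, ρ g * f * ρ g⁻¹ = f := by
    intro g hg
    obtain ⟨k, -, hk⟩ := hgen _ ((Subgroup.mem_normalizer_iff.1 hg u).1 huP)
    refine hWinv _ _ k ?_ ?_ ?_ ?_
    · rw [← map_mul, mul_inv_cancel, map_one]
    · rw [← map_mul, inv_mul_cancel, map_one]
    · rw [hUdef, ← map_pow, hk, map_mul, map_mul]
    · have hconj : ∀ i : ℕ, g ^ i * u * (g ^ i)⁻¹ = u ^ (k ^ i) := by
        intro i
        induction i with
        | zero => simp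
        | succ i ih =>
          rw [pow_succ' g, show g * g ^ i * u * (g * g ^ i)⁻¹ =
            g * (g ^ i * u * (g ^ i)⁻¹) * g⁻¹ by group, ih, ← conj_pow, ← hk, ← pow_mul,
            ← pow_succ']
      have hg0 : orderOf g ≠ 0 := (orderOf_pos g).ne'
      set m := ordCompl[p] (orderOf g) with hm
      have hgm : g ^ m ∈ (P : Subgroup G) := by
        have hP' : IsPGroup p (Subgroup.zpowers (g ^ m)) := by
          refine IsPGroup.of_card (n := (orderOf g).factorization p) ?_
          rw [Nat.card_zpowers, orderOf_pow_of_dvd (Nat.ordCompl_pos p hg0).ne'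
            (Nat.ordCompl_dvd _ _), Nat.div_div_self (Nat.ordProj_dvd _ _) hg0]
        have h1 : g ^ m ∈ Subgroup.zpowers (g ^ m) ⊓ N :=
          ⟨Subgroup.mem_zpowers _, Subgroup.pow_mem _ hg _⟩
        exact ((hP'.inf_normalizer_sylow P).le h1).2
      have hkm : ((k : ZMod (p ^ n))) ^ m = 1 := by
        have h1 := hconj m
        obtain ⟨i, -, hi⟩ := hgen _ hgm
        rw [← hi, show u ^ i * u * (u ^ i)⁻¹ = u by group] at h1
        have h2 : u ^ (k ^ m) = u ^ 1 := by rw [pow_one]; exact h1.symm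
        rw [pow_eq_pow_iff_modEq, huord, ← ZMod.natCast_eq_natCast_iff] at h2
        simpa using h2
      have hmp : ¬ p ∣ m := Nat.not_dvd_ordCompl hp hg0
      have hku : IsUnit (k : ZMod (p ^ n)) :=
        IsUnit.of_pow_eq_one hkm (Nat.ordCompl_pos p hg0).ne'
      have h3 := unit_pow_sub_one (n := n) (by omega) hku.unit hmp (Units.ext (by simpa using hkm))
      simpa using congr_arg Units.val h3
  let Φ : G ⧸ N → Module.End F V := Quotient.lift (fun g => ρ g * f * ρ g⁻¹) (by
    intro a b hab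
    have hab' : a⁻¹ * b ∈ N := QuotientGroup.leftRel_apply.1 hab
    have h := hNf _ hab'
    calc ρ a * f * ρ a⁻¹ = ρ a * (ρ (a⁻¹ * b) * f * ρ (a⁻¹ * b)⁻¹) * ρ a⁻¹ := by rw [h]
      _ = ρ b * f * ρ b⁻¹ := by
        simp only [← mul_assoc, ← map_mul, mul_inv_rev, inv_inv, mul_inv_cancel, one_mul]
        simp only [mul_assoc, ← map_mul, mul_inv_cancel, mul_one])
  have hΦ : ∀ (h : G) (x : G ⧸ N), Φ (h • x) = ρ h * Φ x * ρ h⁻¹ := by
    intro h x
    induction x using QuotientGroup.induction_on with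
    | H g =>
      show ρ (h * g) * f * ρ (h * g)⁻¹ = ρ h * (ρ g * f * ρ g⁻¹) * ρ h⁻¹
      rw [mul_inv_rev, map_mul, map_mul]
      simp only [mul_assoc]
  letI : Fintype (G ⧸ N) := Fintype.ofFinite _
  set c : Module.End F V := ∑ x : G ⧸ N, Φ x with hc
  have hcc : ∀ g, Commute (ρ g) c := by
    intro g
    have h : ρ g * c * ρ g⁻¹ = c := by
      rw [hc, Finset.mul_sum, Finset.sum_mul]
      exact Fintype.sum_equiv (MulAction.toPerm g) _ _ fun x => (hΦ g x).symm
    calc ρ g * c = ρ g * c * (ρ g⁻¹ * ρ g) := by rw [← map_mul, inv_mul_cancel, map_one, mul_one]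
      _ = c * ρ g := by rw [← mul_assoc, h]
  -- the cosets other than `N` fall into regular `P`-orbits
  let x0 : G ⧸ N := ((1 : G) : G ⧸ N)
  have hx0 : ∀ h ∈ (P : Subgroup G), h • x0 = x0 := by
    intro h hh
    show ((h * 1 : G) : G ⧸ N) = ((1 : G) : G ⧸ N)
    rw [QuotientGroup.eq, mul_one, mul_one]
    exact inv_mem (hPN hh)
  let X : SubMulAction (P : Subgroup G) (G ⧸ N) :=
    { carrier := {x | x ≠ x0}
      smul_mem' := fun h x hx hhx => hx (by
        have h1 : (h : G) • x = x0 := hhx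
        calc x = (h : G)⁻¹ • ((h : G) • x) := (inv_smul_smul _ _).symm
          _ = x0 := by rw [h1]; exact hx0 _ (inv_mem h.2)) }
  have hfree : ∀ b : X, MulAction.stabilizer (P : Subgroup G) b = ⊥ := by
    rintro ⟨b, hb⟩
    rw [Subgroup.eq_bot_iff_forall]
    intro h hh
    obtain ⟨g, rfl⟩ := QuotientGroup.mk_surjective b
    have h1 : ((((h : G) * g : G)) : G ⧸ N) = ((g : G) : G ⧸ N) := congr_arg Subtype.val hh
    rw [eq_comm, QuotientGroup.eq] at h1
    have hgN : g ∉ N := fun hg => hb ((QuotientGroup.eq).2 (by simpa using inv_mem hg))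
    have hP' : IsPGroup p (Subgroup.zpowers (g⁻¹ * ((h : G) * g))) := by
      obtain ⟨a, ha⟩ := P.isPGroup' h
      have ha' : (h : G) ^ (p ^ a) = 1 := by rw [← Subgroup.coe_pow, ha, Subgroup.coe_one]
      have : (g⁻¹ * ((h : G) * g)) ^ (p ^ a) = 1 := by
        have := conj_pow (i := p ^ a) (a := g⁻¹) (b := (h : G))
        rw [inv_inv, mul_assoc] at this
        rw [this, ha', mul_one, inv_mul_cancel]
      obtain ⟨b, -, hb'⟩ := (Nat.dvd_prime_pow hp).1 (orderOf_dvd_of_pow_eq_one this)
      exact IsPGroup.of_card (n := b) (by rw [Nat.card_zpowers, hb'])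
    have h2 : g⁻¹ * ((h : G) * g) ∈ (P : Subgroup G) := by
      have h3 : g⁻¹ * ((h : G) * g) ∈ Subgroup.zpowers (g⁻¹ * ((h : G) * g)) ⊓ N :=
        ⟨Subgroup.mem_zpowers _, h1⟩
      exact ((hP'.inf_normalizer_sylow P).le h3).2
    have hne : g • P ≠ P := fun he => hgN (Sylow.smul_eq_iff_mem_normalizer.1 he)
    have h4 : (h : G) ∈ (P : Subgroup G) ⊓ ((g • P : Sylow p G) : Subgroup G) :=
      ⟨h.2, by
        show (h : G) ∈ MulAut.conj g • (P : Subgroup G)
        rw [Subgroup.mem_pointwise_smul_iff_inv_smul_mem]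
        simpa [MulAut.smul_def, MulAut.inv_def, MulAut.conj_symm_apply, mul_assoc] using h2⟩
    rw [hTI _ hne] at h4
    exact Subtype.ext h4
  letI : Fintype X := Fintype.ofFinite _
  letI : Fintype (P : Subgroup G) := Fintype.ofFinite _
  letI : Fintype (Quotient (MulAction.orbitRel (P : Subgroup G) X)) := Fintype.ofFinite _
  have hsplit : c = f + ∑ x : X, Φ (x : G ⧸ N) := by
    rw [hc, ← Finset.add_sum_erase _ _ (Finset.mem_univ x0)]
    congr 1
    · show ρ 1 * f * ρ 1⁻¹ = f
      rw [inv_one, map_one, one_mul, mul_one]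
    · exact Finset.sum_subtype (Finset.univ.erase x0) (p := fun x => x ∈ X)
        (fun x => by simp [X]; rfl) Φ
  let e := MulAction.selfEquivOrbitsQuotientProd (G := (P : Subgroup G)) (X := X) hfree
  have he : ∀ ω h, ((e.symm (ω, h) : X) : G ⧸ N) = (h : G) • ((ω.out : X) : G ⧸ N) := by
    intro ω h
    rfl
  set m : Module.End F V := ∑ ω : Quotient (MulAction.orbitRel (P : Subgroup G) X),
    Φ ((ω.out : X) : G ⧸ N) with hm
  have hrest : ∑ x : X, Φ (x : G ⧸ N) =
      ∑ i ∈ Finset.range (p ^ n), U ^ i * m * ρ u⁻¹ ^ i := by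
    rw [← e.symm.sum_comp, Fintype.sum_prod_type, Finset.sum_comm]
    simp only [he, hΦ]
    symm
    refine Finset.sum_bij (fun i _ => (⟨u ^ i, Subgroup.pow_mem _ huP i⟩ : (P : Subgroup G)))
      (fun _ _ => Finset.mem_univ _) ?_ ?_ ?_
    · intro a ha b hb hab
      exact pow_injOn_Iio_orderOf (by simpa [huord] using Finset.mem_range.1 ha)
        (by simpa [huord] using Finset.mem_range.1 hb) (congr_arg Subtype.val hab)
    · intro h _
      obtain ⟨i, hi, hi'⟩ := hgen _ h.2
      exact ⟨i, Finset.mem_range.2 hi, Subtype.ext hi'⟩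
    · intro i _
      simp only [hm, Finset.mul_sum, Finset.sum_mul, hUdef, ← map_pow, inv_pow]
  obtain ⟨Y, hY⟩ := trace_mem (F := F) p n U (ρ u⁻¹)
    (by rw [hUdef, ← map_mul, mul_inv_cancel, map_one])
    (by rw [hUdef, ← map_mul, inv_mul_cancel, map_one]) s hs m
  rw [hrest, hY, ← hT, hf, hWc.mul_pow] at hsplit
  have hc0 : c = 0 := by
    by_contra hne
    have h := range_eq_top_of_commute ρ hirr c hcc hne
    have h1 : c = T * (T ^ (p - 2) * W ^ (p - 1) + T ^ (p ^ n - s - 1) * Y) := by
      rw [hsplit, mul_add, ← mul_assoc, ← mul_assoc, ← pow_succ', ← pow_succ',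
        show p - 2 + 1 = p - 1 by omega, show p ^ n - s - 1 + 1 = p ^ n - s by omega]
    have hTtop : Function.Surjective T := by
      rw [← LinearMap.range_eq_top, eq_top_iff, ← h, h1]
      exact LinearMap.range_comp_le_range _ _
    have hTs : Function.Surjective (T ^ s) := by
      rw [Module.End.coe_pow]
      exact hTtop.iterate s
    obtain ⟨v, hv⟩ := exists_ne (0 : V)
    obtain ⟨w, hw⟩ := hTs v
    rw [hs] at hw
    exact hv hw.symm
  rw [hc0] at hsplit
  have h5 : T ^ (s - 1) * W ^ (p - 1) = 0 := by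
    have h6 := congr_arg (fun x => T ^ (s - p) * x) hsplit.symm
    simp only [mul_zero, mul_add, ← mul_assoc, ← pow_add] at h6
    rw [show s - p + (p - 1) = s - 1 by omega,
      pow_eq_zero_of_le (show s ≤ s - p + (p ^ n - s) by omega) hs, zero_mul, add_zero] at h6
    exact h6
  exact hsmin (s - 1) (by omega) ((hW.pow _).mul_left_eq_zero.1 h5)

end Cfsg.Agent.S4699
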