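import Cfsg.Statements.S4700
import Cfsg.Agent.Lib.SmallGroups.Basic
import Cfsg.Agent.Lib.Cores.Basic
import Cfsg.Agent.Lib.PrimeDegreeTwo.Dichotomy
-- import your own Cfsg.Agent.* helpers here

set_option autoImplicit false
set_option maxHeartbeats 1000000
open Cfsg

namespace Cfsg.Agent.S4700

/-- Let G be a finite perfect group and p a prime such that a Sylow p-subgroup of G has order p, and write the number of Sylow p-subgroups as 1 + np. Let H = O_p'(G). Then either p > 3 and G/H is isomorphic to PSL(2, p); or p = 2^m + 1 > 3 and G/H is isomorphic to SL(2, 2^m); or n = (hup + u^2 + u + h)/(u + 1) for some positive integers h and u. -/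
theorem result {G : Type*} [Group G] [Finite G] (hperf : commutator G = ⊤) (p : ℕ) [Fact p.Prime] (P : Sylow p G) (hP : Nat.card P = p) (n : ℕ) (hn : Nat.card (Sylow p G) = 1 + n * p) : (∃ (F : Type) (_ : Field F) (_ : Fintype F), Fintype.card F = p ∧ 3 < p ∧ Nonempty (G ⧸ Cfsg.pPrimeCore p G ≃* Matrix.ProjectiveSpecialLinearGroup (Fin 2) F)) ∨ (∃ (m : ℕ) (F : Type) (_ : Field F) (_ : Fintype F), Fintype.card F = 2 ^ m ∧ p = 2 ^ m + 1 ∧ 3 < p ∧ Nonempty (G ⧸ Cfsg.pPrimeCore p G ≃* Matrix.SpecialLinearGroup (Fin 2) F)) ∨ (∃ h u : ℕ, 0 < h ∧ 0 < u ∧ n * (u + 1) = h * u * p + u ^ 2 + u + h) := by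
  classical
  have hpp : p.Prime := Fact.out
  have hPc : Nat.card (P : Subgroup G) = p := hP
  by_cases hu : ∃ u, 0 < u ∧ u < n ∧ (u * p + 1) ∣ (p - 1) * (n * p + 1)
  · -- the third alternative
    refine Or.inr (Or.inr ?_)
    obtain ⟨u, hu0, hun, w, hw⟩ := hu
    have hco : (u * p + 1).Coprime p := Nat.coprime_mul_right_add_left 1 p u |>.mpr (Nat.coprime_one_left p)
    obtain ⟨r, hr⟩ : ∃ r, n = u + r := ⟨n - u, by omega⟩
    obtain ⟨s, hs⟩ : ∃ s, p = s + 1 := ⟨p - 1, by have := hpp.two_le; omega⟩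
    have h1 : (u * p + 1 : ℕ) ∣ (u + 1) * r * p := by
      rw [← Int.natCast_dvd_natCast]
      refine ⟨(n : ℤ) * p + 1 - (u + 1) - (u : ℤ) * w, ?_⟩
      have hw' : (s : ℤ) * ((n : ℤ) * p + 1) = ((u : ℤ) * p + 1) * w := by
        have : s * (n * p + 1) = (u * p + 1) * w := by rw [← hw, hs, Nat.add_sub_cancel]
        exact_mod_cast this
      have hr' : (n : ℤ) = u + r := by exact_mod_cast hr
      have hs' : (p : ℤ) = s + 1 := by exact_mod_cast hs
      push_cast
      rw [hs', hr'] at hw' ⊢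
      linear_combination -(u : ℤ) * hw'
    obtain ⟨h, hh⟩ := hco.dvd_of_dvd_mul_right h1
    have hh0 : 0 < h := Nat.pos_of_ne_zero fun e => by
      rw [e, mul_zero] at hh
      rcases Nat.mul_eq_zero.mp hh with e' | e' <;> omega
    refine ⟨h, u, hh0, hu0, ?_⟩
    rw [hr]
    calc (u + r) * (u + 1) = u * (u + 1) + (u + 1) * r := by ring
      _ = u * (u + 1) + (u * p + 1) * h := by rw [hh]
      _ = _ := by ring
  push Not at hu
  set K := Cfsg.pPrimeCore p G with hK
  have hcop : (Nat.card K).Coprime p := CfsgLib.Cores.coprime_card_pPrimeCore p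
  have hperfB : commutator (G ⧸ K) = ⊤ := by
    have h := congrArg (Subgroup.map (QuotientGroup.mk' K)) hperf
    rwa [map_commutator_eq, MonoidHom.range_eq_top.mpr (QuotientGroup.mk'_surjective K),
      Subgroup.map_top_of_surjective _ (QuotientGroup.mk'_surjective K)] at h
  have hOB : Cfsg.pPrimeCore p (G ⧸ K) = ⊥ := CfsgLib.Cores.pPrimeCore_quotient_self p
  set R : Sylow p (G ⧸ K) := P.mapSurjective (QuotientGroup.mk'_surjective K) with hR
  have hRc : Nat.card (R : Subgroup (G ⧸ K)) = p := by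
    rw [hR, Sylow.coe_mapSurjective]
    refine ((Nat.dvd_prime hpp).mp ((Subgroup.card_map_dvd (P : Subgroup G) (QuotientGroup.mk' K)).trans (dvd_of_eq hPc))).resolve_left
      fun h => ?_
    rw [Subgroup.card_eq_one, Subgroup.map_eq_bot_iff, QuotientGroup.ker_mk'] at h
    have h' := Subgroup.card_dvd_of_le h
    rw [hPc] at h'
    exact (hpp.coprime_iff_not_dvd.mp hcop.symm) h'
  have hn0 : 0 < n := Nat.pos_of_ne_zero fun h => by
    refine CfsgLib.PrimeDegreeTwo.Dichotomy.not_normal hperf P hPc ?_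
    have := CfsgLib.SmallGroups.card_sylow_eq_index P
    rw [hn, h, zero_mul, add_zero] at this
    exact Subgroup.normalizer_eq_top_iff.mp (Subgroup.index_eq_one.mp this.symm)
  have hnB : Nat.card (Sylow p (G ⧸ K)) = n * p + 1 := by
    have hd := CfsgLib.PrimeDegreeTwo.Dichotomy.card_sylow_quotient_dvd K P
    have hmod : Nat.card (Sylow p (G ⧸ K)) % p = 1 := CfsgLib.SmallGroups.mod_eq_one_card_sylow
    have hdiv := Nat.div_add_mod (Nat.card (Sylow p (G ⧸ K))) p
    rw [hmod, mul_comm] at hdiv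
    obtain ⟨w, hw⟩ : ∃ w, Nat.card (Sylow p (G ⧸ K)) / p = w := ⟨_, rfl⟩
    rw [hw] at hdiv
    rw [← hdiv, hn, add_comm 1] at hd
    have hwn : w ≤ n := Nat.le_of_mul_le_mul_right (Nat.succ_le_succ_iff.mp (Nat.le_of_dvd (Nat.succ_pos _) hd)) hpp.pos
    rcases (show w = 0 ∨ w = n ∨ (0 < w ∧ w < n) by omega) with h | h | ⟨h1, h2⟩
    · exfalso
      refine CfsgLib.PrimeDegreeTwo.Dichotomy.not_normal hperfB R hRc ?_
      have := CfsgLib.SmallGroups.card_sylow_eq_index R
      rw [← hdiv, h, zero_mul, zero_add] at this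
      exact Subgroup.normalizer_eq_top_iff.mp (Subgroup.index_eq_one.mp this.symm)
    · rw [← hdiv, h]
    · exact absurd (hd.trans (dvd_mul_left _ _)) (hu w h1 h2)
  let _ := Fintype.ofFinite (G ⧸ K)
  obtain ⟨hp3, hrec⟩ := CfsgLib.PrimeDegreeTwo.Dichotomy.main hperfB hOB R hRc hn0 hnB hu
  rcases hrec with ⟨F, hFi, hFf, hF, ⟨e⟩⟩ | ⟨m, F, hFi, hFf, hF, hpm, ⟨e⟩⟩
  · exact Or.inl ⟨F, hFi, hFf, hF, hp3, ⟨e⟩⟩
  · refine Or.inr (Or.inl ⟨m, F, hFi, hFf, hF, hpm, hp3, ⟨e.trans ?_⟩⟩)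
    have hchar : CharP F 2 := by
      obtain ⟨q, hq⟩ := CharP.exists F
      obtain ⟨k, hqp, hqn⟩ := FiniteField.card F q
      rw [hF] at hqn
      have hd : q ∣ 2 ^ m := hqn ▸ dvd_pow_self _ k.pos.ne'
      rwa [← (Nat.prime_dvd_prime_iff_eq hqp Nat.prime_two).mp (hqp.dvd_of_dvd_pow hd)]
    have hz : Subgroup.center (Matrix.SpecialLinearGroup (Fin 2) F) = ⊥ := by
      refine (Subgroup.eq_bot_iff_forall _).mpr fun A hA => ?_
      obtain ⟨r, hr, hrA⟩ := Matrix.SpecialLinearGroup.mem_center_iff.mp hA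
      rw [Fintype.card_fin] at hr
      have hr1 : r = 1 := (CharTwo.sq_inj (x := r) (y := 1)).mp (by rw [hr, one_pow])
      refine Subtype.ext ?_
      rw [← hrA, hr1, map_one]
      rfl
    exact (QuotientGroup.quotientMulEquivOfEq hz).trans QuotientGroup.quotientBot

end Cfsg.Agent.S4700
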