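import Cfsg.Statements.S4701
import Cfsg.Agent.Lib.SmallGroups.Basic
import Cfsg.Agent.Lib.Classical.Dickson.MinIndex
import Cfsg.Agent.Lib.Cores.BalanceComp
import Cfsg.Agent.Lib.Cores.Basic
import Cfsg.Agent.Lib.SmallGroups.BrauerFew.Large
-- import your own Cfsg.Agent.* helpers here

set_option autoImplicit false
set_option maxHeartbeats 1000000
open Cfsg
open scoped Pointwise commutatorElement

namespace Cfsg.Agent.S4701

/-- Let G be a finite perfect group and p a prime dividing the order of G with p^3 larger than the order of G. Suppose a Sylow p-subgroup of G is not normal and G has no normal subgroup of order 2. Then p > 3 and G is isomorphic to PSL(2, p), or to SL(2, 2^m) with p = 2^m + 1. -/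
theorem result {G : Type*} [Group G] [Finite G] (hperf : commutator G = ⊤) (p : ℕ) [Fact p.Prime] (hdvd : p ∣ Nat.card G) (hbig : Nat.card G < p ^ 3) (P : Sylow p G) (hP : ¬ (P : Subgroup G).Normal) (h2 : ∀ N : Subgroup G, N.Normal → Nat.card N ≠ 2) : (∃ (F : Type) (_ : Field F) (_ : Fintype F), Fintype.card F = p ∧ 3 < p ∧ Nonempty (G ≃* Matrix.ProjectiveSpecialLinearGroup (Fin 2) F)) ∨ (∃ (m : ℕ) (F : Type) (_ : Field F) (_ : Fintype F), Fintype.card F = 2 ^ m ∧ p = 2 ^ m + 1 ∧ 3 < p ∧ Nonempty (G ≃* Matrix.SpecialLinearGroup (Fin 2) F)) := by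
  classical
  have hpp : p.Prime := Fact.out
  -- the Sylow subgroup has order `p`
  have hne : Nat.card (Sylow p G) ≠ 1 := fun h => hP (by
    have hidx := P.card_eq_index_normalizer
    rw [h] at hidx
    exact Subgroup.normalizer_eq_top_iff.mp (Subgroup.index_eq_one.mp hidx.symm))
  have hPc : Nat.card (P : Subgroup G) = p := by
    obtain ⟨i, hi⟩ := P.2.exists_card_eq
    have h1 := P.dvd_card_of_dvd_card hdvd
    rcases (show i = 0 ∨ i = 1 ∨ 2 ≤ i by omega) with rfl | rfl | h
    · rw [hi, pow_zero] at h1; exact absurd h1 hpp.not_dvd_one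
    · rw [hi, pow_one]
    · exfalso
      have hmod : Nat.card (Sylow p G) ≡ 1 [MOD p] := card_sylow_modEq_one p G
      have hpos : 0 < Nat.card (Sylow p G) := Nat.card_pos
      have hlt : p + 1 ≤ Nat.card (Sylow p G) := by
        by_contra hlt
        rcases (show Nat.card (Sylow p G) < p ∨ Nat.card (Sylow p G) = p by omega) with h' | h'
        · exact hne (by rwa [Nat.ModEq, Nat.mod_eq_of_lt h', Nat.mod_eq_of_lt hpp.one_lt] at hmod)
        · rw [Nat.ModEq, h', Nat.mod_self, Nat.mod_eq_of_lt hpp.one_lt] at hmod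
          omega
      have h2 : p ^ 2 ≤ Nat.card (Subgroup.normalizer ((P : Subgroup G) : Set G)) :=
        le_trans (hi ▸ Nat.pow_le_pow_right hpp.pos h) (Subgroup.card_le_of_le Subgroup.le_normalizer)
      have h3 := Nat.mul_le_mul hlt h2
      rw [CfsgLib.SmallGroups.card_sylow_mul_card_normalizer P] at h3
      have : (p + 1) * p ^ 2 = p ^ 3 + p ^ 2 := by ring
      omega
  -- pass to `G ⧸ O_p'(G)`
  set K := Cfsg.pPrimeCore p G with hK
  have hcop : (Nat.card K).Coprime p := CfsgLib.Cores.coprime_card_pPrimeCore p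
  have hGK : Nat.card G = Nat.card (G ⧸ K) * Nat.card K := Subgroup.card_eq_card_quotient_mul_card_subgroup K
  have hpB : p ∣ Nat.card (G ⧸ K) := hcop.symm.dvd_of_dvd_mul_right (hGK ▸ hdvd)
  have hppB : ¬ p * p ∣ Nat.card (G ⧸ K) := fun h => by
    have h1 : p * p ∣ Nat.card G := h.trans ⟨_, hGK⟩
    have h2 : p ^ 2 ∣ Nat.card (P : Subgroup G) := by
      rw [P.card_eq_multiplicity]
      exact pow_dvd_pow p ((hpp.pow_dvd_iff_le_factorization Nat.card_pos.ne').mp (by rwa [pow_two]))
    rw [hPc] at h2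
    have := Nat.le_of_dvd hpp.pos h2
    have : p * 2 ≤ p * p := Nat.mul_le_mul_left p hpp.two_le
    have := hpp.pos
    rw [pow_two] at *
    omega
  have hperfB : commutator (G ⧸ K) = ⊤ := by
    have h := congrArg (Subgroup.map (QuotientGroup.mk' K)) hperf
    rwa [map_commutator_eq, MonoidHom.range_eq_top.mpr (QuotientGroup.mk'_surjective K),
      Subgroup.map_top_of_surjective _ (QuotientGroup.mk'_surjective K)] at h
  have hOB : Cfsg.pPrimeCore p (G ⧸ K) = ⊥ := CfsgLib.Cores.pPrimeCore_quotient_self p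
  have hsyl : ∀ R : Sylow p (G ⧸ K), Nat.card (R : Subgroup (G ⧸ K)) = p := fun R => by
    rw [R.card_eq_multiplicity]
    have h1 : 1 ≤ (Nat.card (G ⧸ K)).factorization p :=
      (hpp.pow_dvd_iff_le_factorization Nat.card_pos.ne').mp (by rwa [pow_one])
    have h2 : ¬ 2 ≤ (Nat.card (G ⧸ K)).factorization p := fun h => hppB (by
      rw [← pow_two]; exact (hpp.pow_dvd_iff_le_factorization Nat.card_pos.ne').mpr h)
    rw [show (Nat.card (G ⧸ K)).factorization p = 1 by omega, pow_one]
  obtain ⟨R⟩ : Nonempty (Sylow p (G ⧸ K)) := inferInstance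
  have hRn : ¬ (R : Subgroup (G ⧸ K)).Normal := fun hn => by
    have : IsCyclic (R : Subgroup (G ⧸ K)) := isCyclic_of_prime_card (hsyl R)
    have : IsMulCommutative (R : Subgroup (G ⧸ K)) := inferInstance
    have hC : Subgroup.centralizer ((R : Subgroup (G ⧸ K)) : Set (G ⧸ K)) = ⊤ := by
      refine top_le_iff.mp (hperfB ▸ ?_)
      rw [commutator_def, Subgroup.commutator_le]
      intro u _ v _
      refine Subgroup.mem_centralizer_iff.mpr fun z hz => ?_
      let φ : G ⧸ K →* MulAut (R : Subgroup (G ⧸ K)) := MulAut.conjNormal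
      obtain ⟨w, hw⟩ := (inferInstance : IsCyclic (R : Subgroup (G ⧸ K))).exists_generator
      have hcomm : ∀ a b : MulAut (R : Subgroup (G ⧸ K)), a * b = b * a := fun a b => by
        ext c
        obtain ⟨k, rfl⟩ := Subgroup.mem_zpowers_iff.mp (hw c)
        obtain ⟨i, hi⟩ := Subgroup.mem_zpowers_iff.mp (hw (a w))
        obtain ⟨j, hj⟩ := Subgroup.mem_zpowers_iff.mp (hw (b w))
        show ((a (b (w ^ k)) : (R : Subgroup (G ⧸ K))) : G ⧸ K) = (b (a (w ^ k)) : (R : Subgroup (G ⧸ K)))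
        simp only [map_zpow, ← hi, ← hj, ← zpow_mul]
        congr 2
        ring
      have h1 : φ ⁅u, v⁆ = 1 := by
        rw [map_commutatorElement, commutatorElement_eq_one_iff_mul_comm]
        exact hcomm _ _
      have h2 : ⁅u, v⁆ * z * ⁅u, v⁆⁻¹ = z :=
        congrArg Subtype.val (DFunLike.congr_fun h1 (⟨z, hz⟩ : (R : Subgroup (G ⧸ K))))
      exact (mul_inv_eq_iff_eq_mul.mp h2).symm
    obtain ⟨z, hz, hz1⟩ := (Subgroup.ne_bot_iff_exists_ne_one.mp fun h => by
      have h' := hsyl R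
      rw [h, Subgroup.card_bot] at h'
      exact hpp.ne_one h'.symm : ∃ a : (R : Subgroup (G ⧸ K)), a ≠ 1) |> fun ⟨a, ha⟩ =>
        (⟨a.1, a.2, fun e => ha (Subtype.ext e)⟩ : ∃ z, z ∈ (R : Subgroup (G ⧸ K)) ∧ z ≠ 1)
    exact hz1 (CfsgLib.SmallGroups.eq_one_of_central_in_normalizer_of_abelian_sylow hperfB R hz fun n _ => by
      have hn : n ∈ Subgroup.centralizer ((R : Subgroup (G ⧸ K)) : Set (G ⧸ K)) := hC ▸ Subgroup.mem_top n
      exact (Subgroup.mem_centralizer_iff.mp hn z hz).symm)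
  -- the subgroup generated by the elements of order `p`
  set M : Subgroup (G ⧸ K) := Subgroup.normalClosure ((R : Subgroup (G ⧸ K)) : Set (G ⧸ K)) with hM
  have hMn : M.Normal := Subgroup.normalClosure_normal
  have hRM : (R : Subgroup (G ⧸ K)) ≤ M := Subgroup.subset_normalClosure
  have hpM : p ∣ Nat.card M := (dvd_of_eq (hsyl R).symm).trans (Subgroup.card_dvd_of_le hRM)
  have hsimple : IsSimpleGroup M := by
    have : Nontrivial M := Finite.one_lt_card_iff_nontrivial.mp
      (lt_of_lt_of_le hpp.one_lt (Nat.le_of_dvd Nat.card_pos hpM))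
    refine ⟨fun N hN => ?_⟩
    by_cases hpN : p ∣ Nat.card N
    · right
      obtain ⟨y, hy⟩ := exists_prime_orderOf_dvd_card' p hpN
      set y' : G ⧸ K := ((y : M) : G ⧸ K) with hy'
      obtain ⟨S, hS⟩ := (IsPGroup.of_card (n := 1) (by
        rw [Nat.card_zpowers, hy', Subgroup.orderOf_coe, Subgroup.orderOf_coe, hy, pow_one]) :
        IsPGroup p (Subgroup.zpowers y')).exists_le_sylow
      have hSe : (S : Subgroup (G ⧸ K)) = Subgroup.zpowers y' := (Subgroup.eq_of_le_of_card_ge hS (by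
        rw [hsyl S, Nat.card_zpowers, hy', Subgroup.orderOf_coe, Subgroup.orderOf_coe, hy])).symm
      have hSN : (S : Subgroup (G ⧸ K)) ≤ N.map M.subtype := by
        rw [hSe, Subgroup.zpowers_le]
        exact ⟨(y : M), y.2, rfl⟩
      have hSM : (S : Subgroup (G ⧸ K)) ≤ M := hSN.trans (Subgroup.map_subtype_le N)
      have hall : ∀ T : Sylow p (G ⧸ K), (T : Subgroup (G ⧸ K)) ≤ N.map M.subtype := by
        intro T
        have hTM : (T : Subgroup (G ⧸ K)) ≤ M := by
          obtain ⟨g, hg⟩ := MulAction.exists_smul_eq (G ⧸ K) R T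
          rw [← hg, Sylow.coe_subgroup_smul]
          intro u hu
          rw [Subgroup.mem_pointwise_smul_iff_inv_smul_mem] at hu
          have h := hMn.conj_mem _ (hRM hu) g
          simpa [MulAut.smul_def, mul_assoc] using h
        obtain ⟨m, hm⟩ := MulAction.exists_smul_eq M (S.subtype hSM) (T.subtype hTM)
        intro u hu
        have h1 : (⟨u, hTM hu⟩ : M) ∈ ((T.subtype hTM : Sylow p M) : Subgroup M) := hu
        rw [← hm, Sylow.coe_subgroup_smul, Subgroup.mem_pointwise_smul_iff_inv_smul_mem] at h1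
        have h2 : m⁻¹ * ⟨u, hTM hu⟩ * m⁻¹⁻¹ ∈ N := by
          obtain ⟨w, hw, hwe⟩ := hSN (h1 :)
          rw [show m⁻¹ * (⟨u, hTM hu⟩ : M) * m⁻¹⁻¹ = w from Subtype.ext (by
            simpa [MulAut.smul_def, mul_assoc] using hwe.symm)]
          exact hw
        have h3 := hN.conj_mem _ h2 m
        exact ⟨⟨u, hTM hu⟩, by simpa [mul_assoc] using h3, rfl⟩
      refine top_le_iff.mp fun m _ => ?_
      have hle : M ≤ N.map M.subtype := by
        refine (Subgroup.closure_le _).mpr fun u hu => ?_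
        obtain ⟨s, hs, hcs⟩ := Group.mem_conjugatesOfSet_iff.mp hu
        obtain ⟨g, hg⟩ := isConj_iff.mp hcs
        refine hall (g • R) ?_
        rw [Sylow.coe_subgroup_smul, Subgroup.mem_pointwise_smul_iff_inv_smul_mem, ← hg]
        show (MulAut.conj g)⁻¹ • (g * s * g⁻¹) ∈ (R : Subgroup (G ⧸ K))
        rw [MulAut.smul_def, MulAut.inv_apply, ← MulAut.conj_apply g s, MulEquiv.symm_apply_apply]
        exact hs
      obtain ⟨w, hw, hwe⟩ := hle m.2
      rwa [show m = w from Subtype.ext hwe.symm]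
    · left
      have h1 : N ≤ Cfsg.pPrimeCore p M := @CfsgLib.Cores.le_pPrimeCore M _ p N hN
        ((hpp.coprime_iff_not_dvd.mpr hpN).symm)
      have h2 : ((Cfsg.pPrimeCore p M).map M.subtype).Normal := Subgroup.normalizer_eq_top_iff.mp
        ((Subgroup.eq_top_iff' _).mpr fun y => CfsgLib.Cores.mem_normalizer_pPrimeCore_map
          (by rw [Subgroup.normalizer_eq_top_iff.mpr hMn]; trivial))
      have h3 := @CfsgLib.Cores.le_pPrimeCore (G ⧸ K) _ p ((Cfsg.pPrimeCore p M).map M.subtype) h2 (by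
        rw [Subgroup.card_map_of_injective (Subgroup.subtype_injective M)]
        exact CfsgLib.Cores.coprime_card_pPrimeCore p)
      rw [hOB, le_bot_iff, Subgroup.map_eq_bot_iff_of_injective _ (Subgroup.subtype_injective M)] at h3
      exact le_bot_iff.mp (h3 ▸ h1)
  have hna : ¬ IsMulCommutative M := fun h => hRn (by
    have hMp : Nat.card M = p := by
      obtain ⟨g, hg⟩ := exists_prime_orderOf_dvd_card' p hpM
      have hn : (Subgroup.zpowers g).Normal := ⟨fun u hu w => by
        rw [h.1.1 w u, mul_inv_cancel_right]; exact hu⟩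
      rcases hsimple.eq_bot_or_eq_top_of_normal _ hn with e | e
      · exact absurd (Subgroup.zpowers_eq_bot.mp e) fun e1 => hpp.ne_one (by rw [← hg, e1, orderOf_one])
      · rw [← Subgroup.card_top (G := M), ← e, Nat.card_zpowers, hg]
    rwa [Subgroup.eq_of_le_of_card_ge hRM (by rw [hMp, hsyl R])])
  -- the order of `M`
  have hMB : Nat.card M * M.index = Nat.card (G ⧸ K) := Subgroup.card_mul_index M
  have htot : Nat.card M * (M.index * Nat.card K) < p ^ 3 := by rw [← mul_assoc, hMB, ← hGK]; exact hbig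
  have hMbig : Nat.card M < p ^ 3 := lt_of_le_of_lt (Nat.le_mul_of_pos_right _
    (Nat.mul_pos (Nat.pos_of_ne_zero Subgroup.index_ne_zero_of_finite) Nat.card_pos)) htot
  let _ := Fintype.ofFinite M
  obtain ⟨hp3, hrec⟩ := CfsgLib.SmallGroups.BrauerFew.main_large (p := p) hna hpM hMbig
  have hlow : p ^ 3 ≤ 3 * Nat.card M := by
    have hp5 : 5 ≤ p := by
      by_contra hlt
      obtain rfl : p = 4 := by omega
      norm_num at hpp
    rcases hrec with ⟨F, _, _, hF, ⟨e⟩⟩ | ⟨m, F, _, _, hF, hpm, ⟨e⟩⟩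
    · have h := CfsgLib.Classical.Dickson.gcd_mul_card_PSL hF
      rw [← Nat.card_congr e.toEquiv] at h
      have hg : Nat.gcd 2 (p - 1) ≤ 2 := Nat.le_of_dvd two_pos (Nat.gcd_dvd_left _ _)
      have h1 := Nat.mul_le_mul_right (Nat.card M) hg
      rw [h] at h1
      obtain ⟨r, rfl⟩ : ∃ r, p = r + 2 := ⟨p - 2, by omega⟩
      simp only [show r + 2 - 1 = r + 1 by omega] at h1
      nlinarith [Nat.mul_le_mul (Nat.mul_le_mul (show 3 ≤ r by omega) (show 3 ≤ r by omega)) (show 1 ≤ r by omega)]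
    · have h := CfsgLib.Classical.Dickson.gcd_mul_card_PSL hF
      rw [← Nat.card_congr e.toEquiv] at h
      have hm : 1 ≤ m := by
        rcases m with _ | m
        · rw [pow_zero] at hpm; omega
        · omega
      have hg : Nat.gcd 2 (2 ^ m - 1) = 1 := Nat.prime_two.coprime_iff_not_dvd.mpr (by
        obtain ⟨j, rfl⟩ : ∃ j, m = j + 1 := ⟨m - 1, by omega⟩
        have := Nat.two_pow_pos j
        rw [pow_succ]; omega)
      rw [hg, one_mul] at h
      have hpm' : 2 ^ m = p - 1 := by omega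
      rw [hpm'] at h
      obtain ⟨r, rfl⟩ : ∃ r, p = r + 2 := ⟨p - 2, by omega⟩
      simp only [show r + 2 - 1 = r + 1 by omega, show r + 1 - 1 = r by omega] at h
      nlinarith
  have hsmall : M.index * Nat.card K ≤ 2 := by
    by_contra hlt
    have := Nat.mul_le_mul_left (Nat.card M) (show 3 ≤ M.index * Nat.card K by omega)
    omega
  have hi0 : 0 < M.index := Nat.pos_of_ne_zero Subgroup.index_ne_zero_of_finite
  have hK0 : 0 < Nat.card K := Nat.card_pos
  have hKle : Nat.card K ≤ 2 := le_trans (Nat.le_mul_of_pos_left _ hi0) hsmall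
  have hile : M.index ≤ 2 := le_trans (Nat.le_mul_of_pos_right _ hK0) hsmall
  have hKbot : K = ⊥ := Subgroup.card_eq_one.mp (by
    have := h2 K inferInstance
    omega)
  have hMtop : M = ⊤ := by
    refine top_le_iff.mp (hperfB ▸ ?_)
    have : IsMulCommutative ((G ⧸ K) ⧸ M) := by
      rcases (show M.index = 1 ∨ M.index = 2 by omega) with h | h
      · have : Subsingleton ((G ⧸ K) ⧸ M) := (Nat.card_eq_one_iff_unique.mp (Subgroup.index_eq_card M ▸ h)).1
        exact ⟨⟨fun a b => Subsingleton.elim _ _⟩⟩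
      · have : IsCyclic ((G ⧸ K) ⧸ M) := isCyclic_of_prime_card (p := 2) (Subgroup.index_eq_card M ▸ h)
        infer_instance
    exact Subgroup.Normal.quotient_commutative_iff_commutator_le.mp this
  let e₀ : G ≃* M := ((QuotientGroup.quotientBot (G := G)).symm.trans
    (QuotientGroup.quotientMulEquivOfEq hKbot.symm)).trans
      (Subgroup.topEquiv.symm.trans (MulEquiv.subgroupCongr hMtop.symm))
  rcases hrec with ⟨F, hFi, hFf, hF, ⟨e⟩⟩ | ⟨m, F, hFi, hFf, hF, hpm, ⟨e⟩⟩
  · exact Or.inl ⟨F, hFi, hFf, hF, hp3, ⟨e₀.trans e⟩⟩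
  · refine Or.inr ⟨m, F, hFi, hFf, hF, hpm, hp3, ⟨(e₀.trans e).trans ?_⟩⟩
    have hchar : CharP F 2 := by
      obtain ⟨q, hq⟩ := CharP.exists F
      obtain ⟨n, hqp, hqn⟩ := FiniteField.card F q
      rw [hF] at hqn
      have hd : q ∣ 2 ^ m := hqn ▸ dvd_pow_self _ n.pos.ne'
      rwa [← (Nat.prime_dvd_prime_iff_eq hqp Nat.prime_two).mp (hqp.dvd_of_dvd_pow hd)]
    have hz : Subgroup.center (Matrix.SpecialLinearGroup (Fin 2) F) = ⊥ := by
      refine (Subgroup.eq_bot_iff_forall _).mpr fun A hA => ?_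
      obtain ⟨r, hr, hrA⟩ := Matrix.SpecialLinearGroup.mem_center_iff.mp hA
      rw [Fintype.card_fin] at hr
      have hr1 : r = 1 := (CharTwo.sq_inj (x := r) (y := 1)).mp (by rw [hr, one_pow])
      refine Subtype.ext ?_
      rw [← hrA, hr1, map_one]
      rfl
    exact (QuotientGroup.quotientMulEquivOfEq hz).trans QuotientGroup.quotientBot

end Cfsg.Agent.S4701
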