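import Cfsg.Statements.S4702
import Cfsg.Agent.S0727
import Mathlib.FieldTheory.Finite.Basic

set_option autoImplicit false
open Cfsg

namespace Cfsg.Agent.S4702

open Matrix in
/-- In characteristic two `SL₂ → PGL₂` is bijective over a finite field. -/
theorem sl_to_pgl_bijective {F : Type} [Field F] [Fintype F] {a : ℕ} (ha : 1 ≤ a)
    (hF : Fintype.card F = 2 ^ a) :
    Function.Bijective ((QuotientGroup.mk' (Subgroup.center (GL (Fin 2) F))).comp
      (Matrix.SpecialLinearGroup.toGL (n := Fin 2) (R := F)) :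
        Matrix.SpecialLinearGroup (Fin 2) F →* Matrix.ProjGenLinGroup (Fin 2) F) := by
  have h2 : ringChar F = 2 := by
    obtain ⟨n, hp, hc⟩ := FiniteField.card F (ringChar F)
    rw [hF] at hc
    have hd : (ringChar F) ∣ 2 ^ a := hc ▸ dvd_pow_self _ n.pos.ne'
    exact (Nat.prime_dvd_prime_iff_eq hp Nat.prime_two).mp (hp.dvd_of_dvd_pow hd)
  refine ⟨(injective_iff_map_eq_one _).mpr fun A hA => ?_, fun q => ?_⟩
  · rw [MonoidHom.comp_apply, QuotientGroup.mk'_apply, QuotientGroup.eq_one_iff] at hA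
    have hc : A ∈ Subgroup.center (Matrix.SpecialLinearGroup (Fin 2) F) :=
      Subgroup.mem_center_iff.mpr fun B => Matrix.SpecialLinearGroup.toGL_injective (by
        rw [map_mul, map_mul]
        exact Subgroup.mem_center_iff.mp hA _)
    obtain ⟨r, hr, hrA⟩ := Matrix.SpecialLinearGroup.mem_center_iff.mp hc
    rw [Fintype.card_fin] at hr
    have hr1 : r = 1 := by
      have : CharP F 2 := h2 ▸ ringChar.charP F
      exact (CharTwo.sq_inj (x := r) (y := 1)).mp (by rw [hr, one_pow])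
    refine Subtype.ext ?_
    rw [← hrA, hr1, map_one]
    rfl
  · obtain ⟨A, rfl⟩ := QuotientGroup.mk'_surjective _ q
    obtain ⟨c, hc⟩ := FiniteField.isSquare_of_char_two h2 (A : Matrix (Fin 2) (Fin 2) F).det
    have hdet : (A : Matrix (Fin 2) (Fin 2) F).det ≠ 0 := A.det_ne_zero
    have hc0 : c ≠ 0 := fun h => hdet (by rw [hc, h, mul_zero])
    let A' : Matrix.SpecialLinearGroup (Fin 2) F := ⟨c⁻¹ • (A : Matrix (Fin 2) (Fin 2) F), by
      rw [Matrix.det_smul, Fintype.card_fin, hc]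
      field_simp⟩
    refine ⟨A', ?_⟩
    rw [MonoidHom.comp_apply]
    refine (QuotientGroup.eq.mpr (Subgroup.mem_center_iff.mpr fun B => Units.ext ?_))
    have key : ((A'.toGL⁻¹ * A : GL (Fin 2) F) : Matrix (Fin 2) (Fin 2) F) = c • 1 := by
      have h1 : (A : Matrix (Fin 2) (Fin 2) F) = c • ((A'.toGL : GL (Fin 2) F) : Matrix (Fin 2) (Fin 2) F) := by
        show _ = c • (c⁻¹ • (A : Matrix (Fin 2) (Fin 2) F))
        rw [smul_smul, mul_inv_cancel₀ hc0, one_smul]
      rw [Units.val_mul, h1, Matrix.mul_smul, ← Units.val_mul, inv_mul_cancel, Units.val_one]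
    rw [Units.val_mul B, Units.val_mul _ B, key, Matrix.smul_mul, Matrix.mul_smul, Matrix.one_mul, Matrix.mul_one]

/-- Let G be a triply transitive permutation group on a finite set of odd size m ≥ 3 in which only the identity fixes three or more points. Then m = 2^a + 1 for some a ≥ 1 and G is isomorphic to SL(2, 2^a). -/
theorem result {α : Type*} [Fintype α] [DecidableEq α] (hm : 3 ≤ Fintype.card α) (hodd : Odd (Fintype.card α)) (G : Subgroup (Equiv.Perm α)) (h3 : MulAction.IsMultiplyPretransitive G α 3) (hfix : ∀ g : G, 3 ≤ Nat.card (MulAction.fixedBy α g) → g = 1) : ∃ a : ℕ, 1 ≤ a ∧ Fintype.card α = 2 ^ a + 1 ∧ ∃ (F : Type) (_ : Field F) (_ : Fintype F), Fintype.card F = 2 ^ a ∧ Nonempty (G ≃* Matrix.SpecialLinearGroup (Fin 2) F) := by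
  classical
  have hsharp : ∀ x : Fin 3 ↪ α, MulAction.stabilizer G x = ⊥ := fun x => by
    refine (Subgroup.eq_bot_iff_forall _).mpr fun g hg => hfix g ?_
    have hgi : ∀ i, g • x i = x i := fun i => DFunLike.congr_fun (MulAction.mem_stabilizer_iff.mp hg) i
    calc 3 = Nat.card (Fin 3) := (Nat.card_fin 3).symm
      _ ≤ Nat.card (MulAction.fixedBy α g) :=
        Nat.card_le_card_of_injective (fun i => (⟨x i, hgi i⟩ : MulAction.fixedBy α g))
          fun i j h => x.injective (congrArg Subtype.val h)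
  obtain ⟨a, ha, hcard⟩ : ∃ a : ℕ, 1 ≤ a ∧ Fintype.card α = 2 ^ a + 1 := by
    by_cases h4 : 4 ≤ Fintype.card α
    · have := h3
      have hS := CfsgLib.SmallGroups.SharplyThreeTransitive.isSharpThree_of_stabilizer hsharp
      obtain ⟨x⟩ : Nonempty α := Fintype.card_pos_iff.mp (by omega)
      obtain ⟨p, j, -, hp, hj, hc, -⟩ := CfsgLib.SmallGroups.SharplyThreeTransitive.exists_additive hS
        (by rw [Nat.card_eq_fintype_card]; exact h4) x
      rw [Nat.card_eq_fintype_card] at hc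
      refine ⟨j, hj, ?_⟩
      rcases hp.eq_two_or_odd' with rfl | hpo
      · exact hc
      · obtain ⟨k, hk⟩ := hodd
        obtain ⟨l, hl⟩ := hpo.pow (n := j)
        omega
    · exact ⟨1, le_rfl, by omega⟩
  obtain ⟨F, hF, hFf, hFc, ⟨e⟩⟩ := Cfsg.Agent.S0727.result ha hcard G h3 hsharp
  exact ⟨a, ha, hcard, F, hF, hFf, hFc, ⟨e.trans (MulEquiv.ofBijective _ (sl_to_pgl_bijective ha hFc)).symm⟩⟩

end Cfsg.Agent.S4702
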