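import Cfsg.Statements.S4705
import Cfsg.Agent.Lib.CharNormal.Kernel
import Cfsg.Agent.Lib.Classical.SmallIso.PSL2
import Cfsg.Agent.Lib.PrimeDegreeTwo.Faithful.Main
import Cfsg.Agent.Lib.PrimeDegreeTwo.Recognition
-- import your own Cfsg.Agent.* helpers here

set_option autoImplicit false
set_option maxHeartbeats 1600000
open Cfsg CfsgLib.Blocks.PrimeSylow CfsgLib.Blocks.PrimeLocal

namespace Cfsg.Agent.S4705

/-- Let G be a finite group with centre Z and p > 5 a prime such that a Sylow p-subgroup of G has order p and is not normal. If G has a faithful irreducible character of degree p − 2, then p = 2^a + 1 for some a and G is isomorphic to the direct product of SL(2, 2^a) with Z. -/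
theorem result {G : Type*} [Group G] [Finite G] (p : ℕ) [Fact p.Prime] (hp : 5 < p) (P : Sylow p G) (hP : Nat.card P = p) (hnn : ¬ (P : Subgroup G).Normal) (ζ : G → ℂ) (hζ : Cfsg.IsIrrCharacter G ζ) (hfaith : ∀ g : G, ζ g = ζ 1 → g = 1) (hdeg : Cfsg.charDegree ζ = p - 2) : ∃ (a : ℕ) (F : Type) (_ : Field F) (_ : Fintype F), p = 2 ^ a + 1 ∧ Fintype.card F = 2 ^ a ∧ Nonempty (G ≃* Matrix.SpecialLinearGroup (Fin 2) F × Subgroup.center G) := by
  classical
  let _ := Fintype.ofFinite G
  let _ := Fintype.ofFinite (Subgroup.normalizer ((P : Subgroup G) : Set G))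
  let _ := Fintype.ofFinite (Subgroup.centralizer ((P : Subgroup G) : Set G))
  have hpp : p.Prime := Fact.out
  have : NeZero p := ⟨hpp.ne_zero⟩
  have hdeg' : ζ 1 = ((p - 2 : ℕ) : ℂ) := by
    rw [← hdeg]; exact (CfsgLib.CharBlocks.coe_charDegree (CfsgLib.Char.isCharacter_of_isIrr hζ)).symm
  obtain ⟨hZ, hrel, hzreg, lam, φ, hlam1, hlamker, hφ1, hφZ, hφker, hφval⟩ :=
    CfsgLib.PrimeDegreeTwo.Faithful.faithful_structure P hP hp hnn ⟨ζ, hζ⟩ hfaith hdeg'
  set x : G := pw P hP 1 with hxd
  have hxo : orderOf x = p := by rw [hxd, pw_one, orderOf_gen]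
  set π := QuotientGroup.mk' (Subgroup.center G) with hπd
  have hπker : ∀ g : G, π g = 1 ↔ g ∈ Subgroup.center G := fun g => QuotientGroup.eq_one_iff g
  have hz1 : ∀ z ∈ Subgroup.center G, z ^ p = 1 → z = 1 := fun z hz h => by
    rcases (Nat.dvd_prime hpp).mp (orderOf_dvd_of_pow_eq_one h) with h' | h'
    · exact orderOf_eq_one_iff.mp h'
    · exact absurd (h' ▸ dvd_rfl) (hzreg z hz)
  -- exact lifting of congruences at `x`
  have hlift : ∀ (g : G) (k : ℕ), π (g * x * g⁻¹) = π (x ^ k) → g * x * g⁻¹ = x ^ k := by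
    intro g k h
    have hz : (x ^ k)⁻¹ * (g * x * g⁻¹) ∈ Subgroup.center G := by
      rw [← hπker, map_mul, map_inv, h, inv_mul_cancel]
    set z := (x ^ k)⁻¹ * (g * x * g⁻¹) with hzd
    have heq : g * x * g⁻¹ = x ^ k * z := by rw [hzd, mul_inv_cancel_left]
    have hzp : z ^ p = 1 := by
      have h1 : (g * x * g⁻¹) ^ p = 1 := by
        rw [conj_pow, ← hxo, pow_orderOf_eq_one, mul_one, mul_inv_cancel]
      rw [heq, (show Commute (x ^ k) z from Subgroup.mem_center_iff.mp hz _).mul_pow, ← pow_mul, mul_comm k p,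
        pow_mul, ← hxo, pow_orderOf_eq_one, one_pow, one_mul] at h1
      rw [hxo] at h1
      exact h1
    rw [heq, hz1 z hz hzp, mul_one]
  have hxnZ : x ∉ Subgroup.center G := fun h => hzreg x h (hxo ▸ dvd_rfl)
  have hxb : orderOf (π x) = p := by
    refine orderOf_eq_prime ?_ fun h => hxnZ ((hπker x).mp h)
    rw [← map_pow, ← hxo, pow_orderOf_eq_one, map_one]
  have hCb : Subgroup.centralizer ({π x} : Set (G ⧸ Subgroup.center G)) = Subgroup.zpowers (π x) := by
    refine le_antisymm (fun w hw => ?_) (Subgroup.zpowers_le.mpr (Subgroup.mem_centralizer_singleton_iff.mpr rfl))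
    obtain ⟨g, rfl⟩ := QuotientGroup.mk'_surjective _ w
    have h := hlift g 1 (by
      rw [pow_one, map_mul, map_mul, map_inv, Subgroup.mem_centralizer_singleton_iff.mp hw, mul_inv_cancel_right])
    have hgC : g ∈ Subgroup.centralizer ((P : Subgroup G) : Set G) := by
      rw [← centralizer_pw P hP (one_ne_zero (α := ZMod p)), Subgroup.mem_centralizer_singleton_iff]
      rw [pow_one, mul_inv_eq_iff_eq_mul] at h
      exact h
    obtain ⟨i, y, hy, hc⟩ := exists_split P hP ⟨g, hgC⟩
    have hg : g = pw P hP i * (y : G) := congrArg Subtype.val hc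
    refine Subgroup.mem_zpowers_iff.mpr ⟨(i.val : ℤ), ?_⟩
    rw [zpow_natCast, hg, map_mul, (hπker _).mpr (hZ y hy), mul_one, ← map_pow, hxd, pw_pow, mul_one,
      ZMod.natCast_zmod_val]
  have hcardC : Nat.card (Subgroup.centralizer ((P : Subgroup G) : Set G)) = p * Nat.card (Subgroup.center G) := by
    let e : ZMod p × Subgroup.center G → Subgroup.centralizer ((P : Subgroup G) : Set G) := fun iz =>
      pwC P hP iz.1 * ⟨(iz.2 : G), Subgroup.center_le_centralizer _ iz.2.2⟩
    have he : Function.Bijective e := by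
      refine ⟨fun a b h => ?_, fun c => ?_⟩
      · have hr : ∀ z : Subgroup.center G,
            ¬ p ∣ orderOf (⟨(z : G), Subgroup.center_le_centralizer _ z.2⟩ :
              Subgroup.centralizer ((P : Subgroup G) : Set G)) := fun z => by
          rw [Subgroup.orderOf_mk]; exact hzreg _ z.2
        obtain ⟨h1, h2⟩ := split_inj P hP (hr a.2) (hr b.2) h
        exact Prod.ext h1 (Subtype.ext (congrArg (fun c : Subgroup.centralizer ((P : Subgroup G) : Set G) => (c : G)) h2))
      · obtain ⟨i, y, hy, hc⟩ := exists_split P hP c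
        exact ⟨(i, ⟨y, hZ y hy⟩), hc.symm⟩
    rw [← Nat.card_congr (Equiv.ofBijective e he), Nat.card_prod, Nat.card_zmod]
  have hcomap : (Subgroup.normalizer ((Subgroup.zpowers (π x) : Subgroup (G ⧸ Subgroup.center G)) : Set (G ⧸ Subgroup.center G))).comap π =
      Subgroup.normalizer ((P : Subgroup G) : Set G) := by
    ext g
    rw [Subgroup.mem_comap]
    constructor
    · intro h
      have h1 := (Subgroup.mem_normalizer_iff.mp h (π x)).mp (Subgroup.mem_zpowers _)
      obtain ⟨k, hk⟩ := (isOfFinOrder_of_finite (π x)).mem_powers_iff_mem_zpowers.mpr h1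
      have h2 := hlift g k (by rw [map_pow, map_mul, map_mul, map_inv]; exact hk.symm)
      rw [hxd, pw_pow, mul_one] at h2
      exact mem_normalizer_of_conj_pw P hP (one_ne_zero (α := ZMod p)) h2
    · intro h
      rw [Subgroup.mem_normalizer_iff_map_conj_eq, MonoidHom.map_zpowers]
      refine Subgroup.eq_of_le_of_card_ge (Subgroup.zpowers_le.mpr ?_) (by
        rw [Nat.card_zpowers, Nat.card_zpowers]; exact le_of_eq ((MulAut.conj (π g)).orderOf_eq (π x)).symm)
      refine Subgroup.mem_zpowers_iff.mpr ⟨((rho P hP ⟨g, h⟩).val : ℤ), ?_⟩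
      show (π x) ^ (((rho P hP ⟨g, h⟩).val : ℕ) : ℤ) = π g * π x * (π g)⁻¹
      rw [zpow_natCast, ← map_inv, ← map_mul, ← map_mul, ← map_pow,
        hxd, pw_pow, mul_one, ZMod.natCast_zmod_val, conj_pw' P hP ⟨g, h⟩ 1, mul_one]
  have hNb : Nat.card (Subgroup.normalizer
      ((Subgroup.zpowers (π x) : Subgroup (G ⧸ Subgroup.center G)) : Set (G ⧸ Subgroup.center G))) = 2 * p := by
    set K := Subgroup.normalizer ((Subgroup.zpowers (π x) : Subgroup (G ⧸ Subgroup.center G)) : Set (G ⧸ Subgroup.center G))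
    have h1 := Subgroup.card_mul_index (Subgroup.normalizer ((P : Subgroup G) : Set G))
    rw [← hcomap, Subgroup.index_comap_of_surjective _ (QuotientGroup.mk'_surjective _), hcomap,
      Subgroup.card_eq_card_quotient_mul_card_subgroup (Subgroup.center G), ← Subgroup.card_mul_index K] at h1
    have h2 : Nat.card (Subgroup.normalizer ((P : Subgroup G) : Set G)) = 2 * (p * Nat.card (Subgroup.center G)) := by
      rw [← hcardC, ← hrel, Subgroup.relIndex, ← Nat.card_congr
        (Subgroup.subgroupOfEquivOfLe (Subgroup.centralizer_le_normalizer ((P : Subgroup G) : Set G))).toEquiv,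
        mul_comm, Subgroup.card_mul_index]
    rw [h2] at h1
    have hi : 0 < K.index := Nat.pos_of_ne_zero Subgroup.index_ne_zero_of_finite
    have hc0 : 0 < Nat.card (Subgroup.center G) := Nat.card_pos
    refine Nat.eq_of_mul_eq_mul_right (Nat.mul_pos hi hc0) ?_
    linear_combination (norm := ring) -h1
  -- the character of degree `p - 1` of the quotient
  obtain ⟨φ', hφ'irr, hφ'⟩ := CfsgLib.CharNormal.exists_irr_eq_comp_mk' (Subgroup.center G) φ.2 hφZ
  have hφ'app : ∀ g : G, φ' (π g) = (φ : G → ℂ) g := fun g => congrFun hφ' g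
  obtain ⟨-, a, F, hF, hFf, hpa, hFc, ⟨e⟩⟩ := CfsgLib.PrimeDegreeTwo.recognition hxb hCb hNb ⟨φ', hφ'irr⟩
    (by show φ' 1 = _; rw [← map_one π, hφ'app, hφ1])
    (fun u hu h1 => by
      obtain ⟨k, rfl⟩ := (isOfFinOrder_of_finite (π x)).mem_powers_iff_mem_zpowers.mpr hu
      show φ' (π x ^ k) = -1
      rw [← map_pow, hφ'app, hxd, pw_pow, mul_one]
      refine hφval _ fun h0 => h1 ?_
      show π x ^ k = 1
      rw [← map_pow, hxd, pw_pow, mul_one, h0, pw_zero, map_one])
    (fun w hw => by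
      obtain ⟨g, rfl⟩ := QuotientGroup.mk'_surjective _ w
      rw [hπker]
      refine hφker g ?_
      change φ' (π g) = φ' 1 at hw
      rwa [← map_one π, hφ'app, hφ'app] at hw)
    (by omega)
  refine ⟨a, F, hF, hFf, hpa, hFc, ?_⟩
  have hperf : commutator (Matrix.SpecialLinearGroup (Fin 2) F) = ⊤ :=
    CfsgLib.Classical.SmallIso.commutator_sl_two (by rw [hFc]; omega)
  let L : G →* ℂˣ := CfsgLib.Char.linearHom (CfsgLib.Char.isCharacter_of_isIrr lam.2) hlam1
  have hL : ∀ g, ((L g : ℂˣ) : ℂ) = (lam : G → ℂ) g := fun g =>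
    CfsgLib.Char.linearHom_apply (CfsgLib.Char.isCharacter_of_isIrr lam.2) hlam1 g
  set Zi := (Subgroup.center G).map L with hZi
  have hcover : ∀ g, L g ∈ Zi := by
    intro g
    let μ : G ⧸ Subgroup.center G →* ℂˣ ⧸ Zi := QuotientGroup.lift _ ((QuotientGroup.mk' Zi).comp L) fun z hz => by
      rw [MonoidHom.mem_ker, MonoidHom.comp_apply]
      exact (QuotientGroup.eq_one_iff _).mpr (Subgroup.mem_map_of_mem L hz)
    have hker : (μ.comp e.symm.toMonoidHom).ker = ⊤ := by
      refine top_le_iff.mp (hperf ▸ ?_)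
      rw [commutator_def, Subgroup.commutator_le]
      intro u _ v _
      rw [MonoidHom.mem_ker, map_commutatorElement, commutatorElement_eq_one_iff_commute]
      generalize (μ.comp e.symm.toMonoidHom) u = a
      generalize (μ.comp e.symm.toMonoidHom) v = b
      obtain ⟨a, rfl⟩ := QuotientGroup.mk'_surjective Zi a
      obtain ⟨b, rfl⟩ := QuotientGroup.mk'_surjective Zi b
      exact (Commute.all a b).map (QuotientGroup.mk' Zi)
    have h : (μ.comp e.symm.toMonoidHom) (e (π g)) = 1 := MonoidHom.mem_ker.mp (hker ▸ Subgroup.mem_top _)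
    rw [MonoidHom.comp_apply, MulEquiv.coe_toMonoidHom, MulEquiv.symm_apply_apply] at h
    exact (QuotientGroup.eq_one_iff _).mp h
  let Ψ : L.ker × Subgroup.center G →* G :=
    { toFun := fun kz => (kz.1 : G) * (kz.2 : G)
      map_one' := by simp
      map_mul' := fun u v => by
        show (u.1 : G) * (v.1 : G) * ((u.2 : G) * (v.2 : G)) = (u.1 : G) * (u.2 : G) * ((v.1 : G) * (v.2 : G))
        rw [mul_assoc, mul_assoc, ← mul_assoc (v.1 : G), Subgroup.mem_center_iff.mp u.2.2 (v.1 : G), mul_assoc] }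
  have hkz : ∀ z ∈ Subgroup.center G, L z = 1 → z = 1 := fun z hz h =>
    hlamker z hz (by rw [← hL, h, Units.val_one])
  have hΨ : Function.Bijective Ψ := by
    refine ⟨(injective_iff_map_eq_one Ψ).mpr fun kz h => ?_, fun g => ?_⟩
    · have h' : (kz.1 : G) * (kz.2 : G) = 1 := h
      have hk : (kz.1 : G) = (kz.2 : G)⁻¹ := eq_inv_of_mul_eq_one_left h'
      have hz : (kz.2 : G) = 1 := hkz _ kz.2.2 (by
        have := MonoidHom.mem_ker.mp kz.1.2
        rwa [hk, map_inv, inv_eq_one] at this)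
      exact Prod.ext (Subtype.ext (by rw [hk, hz, inv_one]; rfl)) (Subtype.ext hz)
    · obtain ⟨z, hz, hzg⟩ := hcover g
      refine ⟨(⟨g * z⁻¹, ?_⟩, ⟨z, hz⟩), ?_⟩
      · rw [MonoidHom.mem_ker, map_mul, map_inv, hzg, mul_inv_cancel]
      · show g * z⁻¹ * z = g
        rw [inv_mul_cancel_right]
  have hj : Function.Bijective (π.comp L.ker.subtype) := by
    refine ⟨(injective_iff_map_eq_one _).mpr fun k h => ?_, fun w => ?_⟩
    · exact Subtype.ext (hkz _ ((hπker _).mp h) (MonoidHom.mem_ker.mp k.2))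
    · obtain ⟨g, rfl⟩ := QuotientGroup.mk'_surjective _ w
      obtain ⟨⟨k, z⟩, hkz'⟩ := hΨ.2 g
      refine ⟨k, ?_⟩
      rw [← hkz']
      show π (k : G) = π ((k : G) * (z : G))
      rw [map_mul, (hπker _).mpr z.2, mul_one]
  exact ⟨(MulEquiv.ofBijective Ψ hΨ).symm.trans
    (((MulEquiv.ofBijective _ hj).trans e).prodCongr (MulEquiv.refl _))⟩

end Cfsg.Agent.S4705
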