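import Cfsg.Statements.S4706
import Cfsg.Agent.S4702
import Cfsg.Agent.S0676
import Cfsg.Agent.Lib.SmallGroups.PrimeTransitiveSylow
import Cfsg.Agent.Lib.PrimeDegreeTwo.Sharp
-- import your own Cfsg.Agent.* helpers here

set_option autoImplicit false
open Cfsg
open scoped Pointwise

namespace Cfsg.Agent.S4706

/-- Let p > 2 be a prime and G a permutation group on p letters whose Sylow p-subgroup P has normalizer of order 2p. Then either P is normal in G, or p − 1 = 2^a for some a and G is isomorphic to SL(2, 2^a). -/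
theorem result {α : Type*} [Fintype α] [DecidableEq α] {p : ℕ} [Fact p.Prime] (hp : 2 < p) (hα : Fintype.card α = p) (G : Subgroup (Equiv.Perm α)) (P : Sylow p G) (hN : Nat.card (Subgroup.normalizer ((P : Subgroup G) : Set G)) = 2 * p) : (P : Subgroup G).Normal ∨ ∃ (a : ℕ) (F : Type) (_ : Field F) (_ : Fintype F), p = 2 ^ a + 1 ∧ Fintype.card F = 2 ^ a ∧ Nonempty (G ≃* Matrix.SpecialLinearGroup (Fin 2) F) := by
  classical
  have hpP : p.Prime := Fact.out
  -- `p` divides the order of `G`
  set N := Subgroup.normalizer ((P : Subgroup G) : Set G) with hNdef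
  have hpG : p ∣ Nat.card G :=
    dvd_trans ⟨2, by rw [hN, mul_comm]⟩ (Subgroup.card_subgroup_dvd_card N)
  have hPc : Nat.card (P : Subgroup G) = p := by
    obtain ⟨m, hm⟩ := IsPGroup.iff_card.mp P.isPGroup'
    have hdvd : Nat.card (P : Subgroup G) ∣ p.factorial := by
      refine (Subgroup.card_subgroup_dvd_card (P : Subgroup G)).trans ?_
      rw [← hα, ← Fintype.card_perm, ← Nat.card_eq_fintype_card]
      exact Subgroup.card_subgroup_dvd_card G
    have hm1 : m < 2 := by
      by_contra hlt
      refine CfsgLib.SmallGroups.not_sq_dvd_factorial (p := p) ?_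
      exact dvd_trans (by rw [← pow_two]; exact pow_dvd_pow p (by omega)) (hm ▸ hdvd)
    have hm0 : m ≠ 0 := by
      intro h
      have hd := P.dvd_card_of_dvd_card hpG
      rw [hm, h, pow_zero] at hd
      exact hpP.not_dvd_one hd
    rw [hm, show m = 1 by omega, pow_one]
  obtain ⟨x, hxo, hPx⟩ : ∃ x : G, orderOf x = p ∧ (P : Subgroup G) = Subgroup.zpowers x := by
    obtain ⟨g, hg⟩ := exists_prime_orderOf_dvd_card' p (G := (P : Subgroup G)) (dvd_of_eq hPc.symm)
    refine ⟨g, by rw [Subgroup.orderOf_coe, hg], (Subgroup.eq_of_le_of_card_ge (Subgroup.zpowers_le.mpr g.2) ?_).symm⟩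
    rw [hPc, Nat.card_zpowers, Subgroup.orderOf_coe, hg]
  have hxo' : orderOf (x : Equiv.Perm α) = p := by rw [Subgroup.orderOf_coe, hxo]
  obtain ⟨a₀⟩ : Nonempty α := Fintype.card_pos_iff.mp (hα ▸ hpP.pos)
  obtain ⟨e, -, he⟩ := CfsgLib.SmallGroups.exists_coord hα hxo' a₀
  have hxpow : ∀ (n : ℕ) (j : ZMod p), ((x ^ n : G) : Equiv.Perm α) (e j) = e (j + n) := fun n j => by
    rw [SubgroupClass.coe_pow]; exact CfsgLib.SmallGroups.coord_zpow he n j
  haveI : MulAction.IsPretransitive G α := ⟨fun u v => by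
    obtain ⟨i, rfl⟩ := e.surjective u
    obtain ⟨j, rfl⟩ := e.surjective v
    refine ⟨x ^ (j - i).val, ?_⟩
    show ((x ^ (j - i).val : G) : Equiv.Perm α) (e i) = e j
    rw [hxpow, ZMod.natCast_zmod_val, add_sub_cancel]⟩
  by_cases hsol : Group.IsSolvable G
  · left
    obtain ⟨σ, hσG, hσ, hle⟩ := CfsgLib.SmallGroups.le_normalizer_of_isSolvable hα G hsol
    have hnorm : (Subgroup.zpowers (⟨σ, hσG⟩ : G)).Normal := by
      refine ⟨fun n hn g => ?_⟩
      obtain ⟨k, hk⟩ := Subgroup.mem_zpowers_iff.mp hn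
      have h1 : (n : Equiv.Perm α) ∈ Subgroup.zpowers σ := Subgroup.mem_zpowers_iff.mpr ⟨k, by
        rw [← hk]; simp⟩
      have h2 := ((Subgroup.mem_normalizer_iff.mp (hle g.2)) _).mp h1
      obtain ⟨l, hl⟩ := Subgroup.mem_zpowers_iff.mp h2
      exact Subgroup.mem_zpowers_iff.mpr ⟨l, Subtype.ext (by simpa using hl)⟩
    have hcard : Nat.card (Subgroup.zpowers (⟨σ, hσG⟩ : G)) = p := by
      rw [Nat.card_zpowers, ← Subgroup.orderOf_coe, hσ]
    have hleP : Subgroup.zpowers (⟨σ, hσG⟩ : G) ≤ (P : Subgroup G) := by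
      obtain ⟨Q, hQ⟩ := (IsPGroup.of_card (n := 1) (by rw [hcard, pow_one]) :
        IsPGroup p (Subgroup.zpowers (⟨σ, hσG⟩ : G))).exists_le_sylow
      obtain ⟨g, hg⟩ := MulAction.exists_smul_eq G Q P
      rw [← hg, Sylow.coe_subgroup_smul]
      intro y hy
      rw [Subgroup.mem_pointwise_smul_iff_inv_smul_mem]
      refine hQ ?_
      have := hnorm.conj_mem y hy g⁻¹
      simpa [MulAut.smul_def] using this
    rwa [← Subgroup.eq_of_le_of_card_ge hleP (by rw [hPc, hcard])]
  right
  have h3 := Cfsg.Agent.S0676.result hα G hsol P (by rw [hN]; exact ⟨p, two_mul p⟩)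
  haveI := h3
  haveI : MulAction.IsMultiplyPretransitive G α 1 :=
    MulAction.isMultiplyPretransitive_of_le (m := 1) (n := 3) (by omega) (by
      rw [Nat.card_eq_fintype_card, hα]; omega)
  haveI : MulAction.IsMultiplyPretransitive G α 2 :=
    MulAction.isMultiplyPretransitive_of_le (m := 2) (n := 3) (by omega) (by
      rw [Nat.card_eq_fintype_card, hα]; omega)
  have hp5 : 5 ≤ p := by
    rcases Nat.lt_or_ge p 5 with h | h
    · exfalso
      have hp3 : p = 3 := by
        rcases (show p = 3 ∨ p = 4 by omega) with h4 | h4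
        · exact h4
        · exact absurd (h4 ▸ hpP) (by norm_num)
      apply hsol
      refine CfsgLib.SmallGroups.isSolvable_normalizer hα hxo' ?_
      have hA : Subgroup.zpowers (x : Equiv.Perm α) = alternatingGroup α := by
        haveI : Nontrivial α := Fintype.one_lt_card_iff_nontrivial.mp (by omega)
        refine Subgroup.eq_of_le_of_card_ge (Subgroup.zpowers_le.mpr ?_) ?_
        · rw [Equiv.Perm.mem_alternatingGroup]
          have h := congrArg Equiv.Perm.sign (pow_orderOf_eq_one (x : Equiv.Perm α))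
          rw [hxo', hp3, map_pow, map_one] at h
          rcases Int.units_eq_one_or (Equiv.Perm.sign (x : Equiv.Perm α)) with h' | h'
          · exact h'
          · rw [h'] at h
            exact absurd h (by decide)
        · have h2 := two_mul_card_alternatingGroup (α := α)
          rw [Fintype.card_perm, hα, hp3, show (3 : ℕ).factorial = 6 from rfl] at h2
          rw [Nat.card_zpowers, hxo', hp3, Nat.card_eq_fintype_card]
          omega
      rw [hA, Subgroup.normalizer_eq_top_iff.mpr (alternatingGroup.normal)]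
      exact le_top
    · exact h
  -- the setup
  have hz : ∀ u ∈ Subgroup.zpowers x, ∃ c : ℕ, u = x ^ c := fun u hu => by
    obtain ⟨c, hc⟩ := (isOfFinOrder_of_finite x).mem_powers_iff_mem_zpowers.mpr hu
    exact ⟨c, hc.symm⟩
  have hfreeP : ∀ u ∈ Subgroup.zpowers x, u ≠ 1 → Nat.card (MulAction.fixedBy α u) = 0 := by
    intro u hu h1
    obtain ⟨c, rfl⟩ := hz u hu
    haveI : IsEmpty (MulAction.fixedBy α (x ^ c : G)) := ⟨fun y => by
      obtain ⟨j, hj⟩ := e.surjective (y : α)
      have h : ((x ^ c : G) : Equiv.Perm α) (y : α) = y := y.2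
      rw [← hj, hxpow, e.apply_eq_iff_eq, add_eq_left] at h
      apply h1
      rw [← orderOf_dvd_iff_pow_eq_one, hxo]
      exact (ZMod.natCast_eq_zero_iff c p).mp h⟩
    exact Nat.card_of_isEmpty
  let S : CfsgLib.PrimeDegreeTwo.Setup G α p :=
    { x := x
      hx := hxo
      hC := by
        refine le_antisymm (fun g hg => ?_) (Subgroup.zpowers_le.mpr
          (Subgroup.mem_centralizer_singleton_iff.mpr rfl))
        have hc : (g : Equiv.Perm α) * x = x * g :=
          congrArg Subtype.val (Subgroup.mem_centralizer_singleton_iff.mp hg)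
        have hpow : ∀ n : ℕ, (g : Equiv.Perm α) * (x : Equiv.Perm α) ^ n = (x : Equiv.Perm α) ^ n * g :=
          fun n => ((show Commute (g : Equiv.Perm α) x from hc).pow_right n).eq
        obtain ⟨c, hc0⟩ := e.surjective ((g : Equiv.Perm α) (e 0))
        have hcoord : ∀ j, (g : Equiv.Perm α) (e j) = e (j + c) := fun j => by
          have h1 := DFunLike.congr_fun (hpow j.val) (e 0)
          simp only [Equiv.Perm.mul_apply, CfsgLib.SmallGroups.coord_zpow he, zero_add,
            ZMod.natCast_zmod_val, ← hc0] at h1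
          rw [h1, add_comm]
        obtain ⟨k, hk⟩ := Subgroup.mem_zpowers_iff.mp
          (CfsgLib.SmallGroups.mem_zpowers_of_coord he hcoord)
        exact Subgroup.mem_zpowers_iff.mpr ⟨k, Subtype.ext (by simpa using hk)⟩
      hN := by rw [← hPx]; exact hN
      hfree := hfreeP
      hinv := by
        intro a ha
        rw [Finite.card_le_one_iff_subsingleton]
        refine ⟨fun u v => Subtype.ext ?_⟩
        obtain ⟨i, hi⟩ := e.surjective (u : α)
        obtain ⟨j, hj⟩ := e.surjective (v : α)
        have hau : (a : Equiv.Perm α) (e i) = e i := by rw [hi]; exact u.2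
        have hav : (a : Equiv.Perm α) (e j) = e j := by rw [hj]; exact v.2
        have hpow : a * x ^ (j - i).val = (x ^ (j - i).val)⁻¹ * a := by
          have h := congrArg (fun t => t ^ (j - i).val) ha
          simp only [conj_pow, inv_pow] at h
          rw [← h, inv_mul_cancel_right]
        have h1 : ((x ^ (j - i).val : G) : Equiv.Perm α) (e j) = e i := by
          have h2 := congrArg (fun t : G => (t : Equiv.Perm α) (e i)) hpow
          simp only [Subgroup.coe_mul, Equiv.Perm.mul_apply, hxpow, ZMod.natCast_zmod_val,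
            add_sub_cancel, hau, hav, Subgroup.coe_inv] at h2
          exact (Equiv.Perm.eq_inv_iff_eq).mp h2
        rw [hxpow, ZMod.natCast_zmod_val, e.apply_eq_iff_eq] at h1
        have h2 : (2 : ZMod p) * (j - i) = 0 := by linear_combination h1
        have h2ne : (2 : ZMod p) ≠ 0 := fun h => by
          have h' := (ZMod.natCast_eq_zero_iff 2 p).mp (by exact_mod_cast h)
          exact absurd (Nat.le_of_dvd two_pos h') (by omega)
        rw [← hi, ← hj, sub_eq_zero.mp ((mul_eq_zero.mp h2).resolve_left h2ne)] }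
  have hsylc : ∀ Q : Sylow p G, Nat.card (Q : Subgroup G) = p := fun Q => by
    rw [Sylow.card_eq_multiplicity] at hPc ⊢
    exact hPc
  have hcount : 2 * p * Nat.card {g : G // orderOf g = p} = (p - 1) * Nat.card G := by
    have hmem : ∀ g : G, orderOf g = p → ∃ Q : Sylow p G, Subgroup.zpowers g = Q := by
      intro g hg
      obtain ⟨Q, hQ⟩ := (IsPGroup.of_card (n := 1) (by rw [Nat.card_zpowers, hg, pow_one]) :
        IsPGroup p (Subgroup.zpowers g)).exists_le_sylow
      exact ⟨Q, Subgroup.eq_of_le_of_card_ge hQ (by rw [hsylc, Nat.card_zpowers, hg])⟩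
    have hne : ∀ (Q : Sylow p G) (u : (Q : Subgroup G)), u ≠ 1 → orderOf (u : G) = p := fun Q u hu => by
      rw [Subgroup.orderOf_coe]
      exact ((hpP.eq_one_or_self_of_dvd _ ((orderOf_dvd_natCard u).trans (dvd_of_eq (hsylc Q)))).resolve_left
        fun h => hu (orderOf_eq_one_iff.mp h))
    let f : (Σ Q : Sylow p G, {u : (Q : Subgroup G) // u ≠ 1}) → {g : G // orderOf g = p} :=
      fun w => ⟨(w.2.1 : G), hne w.1 w.2.1 w.2.2⟩
    have hf : Function.Bijective f := by
      constructor
      · rintro ⟨Q, u, hu⟩ ⟨Q', u', hu'⟩ h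
        have huu : (u : G) = (u' : G) := congrArg Subtype.val h
        have hQQ : Q = Q' := by
          apply Sylow.ext
          have h1 : Subgroup.zpowers (u : G) = Q := Subgroup.eq_of_le_of_card_ge
            (Subgroup.zpowers_le.mpr u.2) (by rw [hsylc, Nat.card_zpowers, hne Q u hu])
          have h2 : Subgroup.zpowers (u' : G) = Q' := Subgroup.eq_of_le_of_card_ge
            (Subgroup.zpowers_le.mpr u'.2) (by rw [hsylc, Nat.card_zpowers, hne Q' u' hu'])
          rw [← h1, ← h2, huu]
        subst hQQ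
        exact congrArg (Sigma.mk Q) (Subtype.ext (Subtype.ext huu))
      · rintro ⟨g, hg⟩
        obtain ⟨Q, hQ⟩ := hmem g hg
        refine ⟨⟨Q, ⟨g, hQ ▸ Subgroup.mem_zpowers g⟩, fun h => ?_⟩, rfl⟩
        have h1 : g = 1 := congrArg Subtype.val h
        rw [h1, orderOf_one] at hg
        omega
    have hcardQ : ∀ Q : Sylow p G, Nat.card {u : (Q : Subgroup G) // u ≠ 1} = p - 1 := fun Q => by
      rw [Nat.card_eq_fintype_card, Fintype.card_subtype_compl, Fintype.card_subtype_eq,
        ← Nat.card_eq_fintype_card, hsylc Q]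
    haveI := Fintype.ofFinite (Sylow p G)
    rw [← Nat.card_congr (Equiv.ofBijective f hf), Nat.card_sigma, Finset.sum_congr rfl fun Q _ => hcardQ Q,
      Finset.sum_const, Finset.card_univ, ← Nat.card_eq_fintype_card, Sylow.card_eq_index_normalizer P,
      smul_eq_mul, ← Subgroup.card_mul_index (Subgroup.normalizer ((P : Subgroup G) : Set G)),
      show Nat.card (Subgroup.normalizer ((P : Subgroup G) : Set G)) = 2 * p from hN]
    rw [show ((P : Set G)) = ((P : Subgroup G) : Set G) from rfl]
    ring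
  have hfreeG : ∀ g : G, orderOf g = p → Nat.card (MulAction.fixedBy α g) = 0 := by
    intro g hg
    have hgo : orderOf (g : Equiv.Perm α) = p := by rw [Subgroup.orderOf_coe, hg]
    obtain ⟨e', -, he'⟩ := CfsgLib.SmallGroups.exists_coord hα hgo a₀
    haveI : IsEmpty (MulAction.fixedBy α g) := ⟨fun y => by
      obtain ⟨j, hj⟩ := e'.surjective (y : α)
      have h : (g : Equiv.Perm α) (y : α) = y := y.2
      rw [← hj, he', e'.apply_eq_iff_eq, add_eq_left] at h
      exact one_ne_zero h⟩
    exact Nat.card_of_isEmpty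
  have hsharp := fun T => CfsgLib.PrimeDegreeTwo.sharp S hp5 hα hfreeG hcount T
  have hfix : ∀ g : G, 3 ≤ Nat.card (MulAction.fixedBy α g) → g = 1 := by
    intro g hg
    obtain ⟨T⟩ : Nonempty (Fin 3 ↪ MulAction.fixedBy α g) :=
      Function.Embedding.nonempty_of_card_le (by rwa [Fintype.card_fin, ← Nat.card_eq_fintype_card])
    have hmem : g ∈ MulAction.stabilizer G (T.trans (Function.Embedding.subtype _)) :=
      MulAction.mem_stabilizer_iff.mpr (Function.Embedding.ext fun i => (T i).2)
    exact Subgroup.mem_bot.mp ((hsharp _).le hmem)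
  obtain ⟨a, -, hca, F, hF, hFf, hFc, he'⟩ := Cfsg.Agent.S4702.result (by omega)
    (hα ▸ hpP.odd_of_ne_two (by omega)) G h3 hfix
  exact ⟨a, F, hF, hFf, by omega, hFc, he'⟩

end Cfsg.Agent.S4706
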