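import Cfsg.Statements.S4707
import Cfsg.Agent.Lib.PrimeDegreeTwo.AltFive
import Cfsg.Agent.Lib.PrimeDegreeTwo.Recognition
import Cfsg.Agent.Lib.SmallGroups.DegreeTwoP.Main
-- import your own Cfsg.Agent.* helpers here

set_option autoImplicit false
set_option maxHeartbeats 2000000
open Cfsg
open scoped Pointwise

namespace Cfsg.Agent.S4707

/-- Let p > 3 be a prime and G a primitive permutation group of degree 2p that is not doubly transitive. If a Sylow p-subgroup of G has normalizer of order 2p, then p = 5 and G is isomorphic to the alternating group of degree 5. -/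
theorem result {α : Type*} [Fintype α] [DecidableEq α] {p : ℕ} [Fact p.Prime] (hp : 3 < p) (hα : Fintype.card α = 2 * p) (G : Subgroup (Equiv.Perm α)) (hprim : MulAction.IsPreprimitive G α) (hnot2 : ¬ MulAction.IsMultiplyPretransitive G α 2) (P : Sylow p G) (hN : Nat.card (Subgroup.normalizer ((P : Subgroup G) : Set G)) = 2 * p) : p = 5 ∧ Nonempty (G ≃* alternatingGroup (Fin 5)) := by
  classical
  open CfsgLib.SmallGroups.DegreeTwoP in
  have hp' : p.Prime := Fact.out
  have hp3 : 3 ≤ p := by omega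
  haveI := hprim
  haveI : MulAction.IsPretransitive G α := hprim.toIsPretransitive
  obtain ⟨a₀⟩ : Nonempty α := Fintype.card_pos_iff.mp (by omega)
  haveI : Nonempty α := ⟨a₀⟩
  obtain ⟨hG3, a, ha0, hpa, -⟩ := (wielandt hp' hα G hprim a₀).resolve_left hnot2
  have hA : ¬ alternatingGroup α ≤ G := fun h => hnot2 (two_transitive_of_alternating_le (by omega) h)
  obtain ⟨H, x, hHG, hnorm, htr, L⟩ := exists_core hp' hp3 hα hprim hA
  haveI := htr
  obtain ⟨hfixG, hp2G⟩ := local_at_p hp' hp3 hα hprim hA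
  have hfpf : ∀ h : H, orderOf h = p → ∀ z : α, h • z ≠ z := fun h ho z =>
    (hfixG h (hHG h.2) (by rw [Subgroup.orderOf_coe, ho])).2 z
  obtain ⟨hle, -⟩ := rank_le hHG a₀
  rcases char_cases hp3 hα L hfpf a₀ with
    h2 | ⟨c, S, hc1, hS1, hcS, hmc, hmS, hzero, hdc, hdS, -, -, hcase⟩
  · exact absurd (two_transitive_of_rank_le_two a₀ (hle.trans h2)) hnot2
  have hS : S.card = 1 := by
    rcases hcase with h | ⟨-, e, he, hodd⟩
    · exact h
    · exfalso
      obtain ⟨w, hw⟩ := hodd
      obtain ⟨v, hv⟩ := Nat.even_mul_succ_self a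
      have : p = 2 * (a * (a + 1)) + 1 := by rw [hpa]; ring
      omega
  obtain ⟨φ, hφS⟩ := Finset.card_eq_one.mp hS
  -- degree and values
  rw [hφS, Finset.sum_singleton] at hdS
  have hφdeg : (φ : H → ℂ) 1 = (p : ℂ) - 1 := by
    rw [CfsgLib.InvolChar.deg_spec]
    have : ((CfsgLib.InvolChar.deg φ : ℕ) : ℂ) + 1 = (p : ℂ) := by exact_mod_cast hdS
    linear_combination this
  obtain ⟨PH, e, t, ε, hPx, he2, ht0, hpe, hrel, ⟨D⟩⟩ := exists_pdata L
  obtain ⟨e', t', n', he', -, -, -, -, hNH, -, hrel', -⟩ := L.exists_numbers PH hPx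
  have hxoG : orderOf (⟨(x : Equiv.Perm α), hHG x.2⟩ : G) = p := by
    rw [← Subgroup.orderOf_coe]
    show orderOf (x : Equiv.Perm α) = p
    rw [Subgroup.orderOf_coe]; exact L.order
  have hpG : p ∣ Nat.card G := hxoG ▸ orderOf_dvd_natCard _
  have hPc : Nat.card (P : Subgroup G) = p := by
    obtain ⟨m, hm⟩ := IsPGroup.iff_card.mp P.isPGroup'
    have hd := P.dvd_card_of_dvd_card hpG
    have hm1 : m < 2 := by
      by_contra hlt
      exact hp2G ((pow_dvd_pow p (by omega : 2 ≤ m)).trans (hm ▸ Subgroup.card_subgroup_dvd_card _))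
    have hm0 : m ≠ 0 := fun h => by
      rw [hm, h, pow_zero] at hd
      exact hp'.not_dvd_one hd
    rw [hm, show m = 1 by omega, pow_one]
  set xG : G := ⟨(x : Equiv.Perm α), hHG x.2⟩ with hxG
  -- the normaliser in `G`
  have hNG : Nat.card (Subgroup.normalizer ((Subgroup.zpowers xG : Subgroup G) : Set G)) = 2 * p := by
    obtain ⟨Q, hQ⟩ := (IsPGroup.of_card (n := 1) (by rw [Nat.card_zpowers, hxoG, pow_one]) :
      IsPGroup p (Subgroup.zpowers xG)).exists_le_sylow
    have hQc : Nat.card (Q : Subgroup G) = p := by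
      rw [Sylow.card_eq_multiplicity] at hPc ⊢
      exact hPc
    have hQe : (Q : Subgroup G) = Subgroup.zpowers xG :=
      (Subgroup.eq_of_le_of_card_ge hQ (by rw [hQc, Nat.card_zpowers, hxoG])).symm
    rw [← hQe]
    have h1 := Subgroup.card_mul_index (Subgroup.normalizer ((Q : Subgroup G) : Set G))
    have h2 := Subgroup.card_mul_index (Subgroup.normalizer ((P : Subgroup G) : Set G))
    rw [hN] at h2
    rw [show (Subgroup.normalizer ((Q : Subgroup G) : Set G)).index =
      (Subgroup.normalizer ((P : Subgroup G) : Set G)).index from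
        (Sylow.card_eq_index_normalizer Q).symm.trans (Sylow.card_eq_index_normalizer P), ← h2] at h1
    exact Nat.eq_of_mul_eq_mul_right (Nat.pos_of_ne_zero Subgroup.index_ne_zero_of_finite) h1
  have hgen : ∀ u ∈ Subgroup.zpowers x, (u : Equiv.Perm α) ∈ Subgroup.zpowers (x : Equiv.Perm α) := by
    intro u hu
    obtain ⟨k, rfl⟩ := Subgroup.mem_zpowers_iff.mp hu
    exact Subgroup.mem_zpowers_iff.mpr ⟨k, by simp⟩
  have hback : ∀ u : H, (u : Equiv.Perm α) ∈ Subgroup.zpowers (x : Equiv.Perm α) → u ∈ Subgroup.zpowers x := by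
    intro u hu
    obtain ⟨k, hk⟩ := Subgroup.mem_zpowers_iff.mp hu
    exact Subgroup.mem_zpowers_iff.mpr ⟨k, Subtype.ext (by simpa using hk)⟩
  have hmemN : ∀ (u : G) (hu : (u : Equiv.Perm α) ∈ H),
      (⟨(u : Equiv.Perm α), hu⟩ : H) ∈ Subgroup.normalizer ((Subgroup.zpowers x : Subgroup H) : Set H) ↔
      u ∈ Subgroup.normalizer ((Subgroup.zpowers xG : Subgroup G) : Set G) := by
    intro u hu
    have hzG : ∀ z : G, z ∈ Subgroup.zpowers xG ↔ (z : Equiv.Perm α) ∈ Subgroup.zpowers (x : Equiv.Perm α) :=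
      fun z => ⟨fun h => by
        obtain ⟨k, rfl⟩ := Subgroup.mem_zpowers_iff.mp h
        exact Subgroup.mem_zpowers_iff.mpr ⟨k, by simp [hxG]⟩, fun h => by
        obtain ⟨k, hk⟩ := Subgroup.mem_zpowers_iff.mp h
        exact Subgroup.mem_zpowers_iff.mpr ⟨k, Subtype.ext (by simpa [hxG] using hk)⟩⟩
    constructor
    · intro h
      rw [Subgroup.mem_normalizer_iff]
      intro z
      rw [hzG, hzG]
      constructor
      · intro hz
        obtain ⟨k, hk⟩ := Subgroup.mem_zpowers_iff.mp hz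
        have hzH : (z : Equiv.Perm α) ∈ H := hk ▸ H.zpow_mem x.2 k
        exact hgen _ ((Subgroup.mem_normalizer_iff.mp h ⟨_, hzH⟩).mp (hback ⟨_, hzH⟩ hz))
      · intro hz
        obtain ⟨k, hk⟩ := Subgroup.mem_zpowers_iff.mp hz
        have hzH' : ((u * z * u⁻¹ : G) : Equiv.Perm α) ∈ H := hk ▸ H.zpow_mem x.2 k
        have hzH : (z : Equiv.Perm α) ∈ H := by
          have := H.mul_mem (H.mul_mem (H.inv_mem hu) hzH') hu
          simpa [mul_assoc] using this
        exact hgen _ ((Subgroup.mem_normalizer_iff.mp h ⟨_, hzH⟩).mpr (hback _ hz))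
    · intro h
      rw [Subgroup.mem_normalizer_iff]
      intro z
      have hh := Subgroup.mem_normalizer_iff.mp h ⟨(z : Equiv.Perm α), hHG z.2⟩
      rw [hzG, hzG] at hh
      exact ⟨fun hz => hback _ (hh.mp (hgen _ hz)), fun hz => hback _ (hh.mpr (hgen _ hz))⟩
  let j : Subgroup.normalizer ((Subgroup.zpowers x : Subgroup H) : Set H) →
      Subgroup.normalizer ((Subgroup.zpowers xG : Subgroup G) : Set G) := fun n =>
    ⟨⟨((n : H) : Equiv.Perm α), hHG (n : H).2⟩, (hmemN ⟨_, hHG (n : H).2⟩ (n : H).2).mp n.2⟩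
  have hjinj : Function.Injective j := fun u v h => Subtype.ext (Subtype.ext
    (congrArg (fun w : Subgroup.normalizer ((Subgroup.zpowers xG : Subgroup G) : Set G) =>
      ((w : G) : Equiv.Perm α)) h))
  rw [hPx] at hNH
  have he'2 : e' = 2 := by
    have h := Nat.card_le_card_of_injective j hjinj
    rw [hNG, hNH, mul_comm p] at h
    have := Nat.le_of_mul_le_mul_right h hp'.pos
    omega
  have he : e = 2 := hrel.symm.trans (hrel'.trans he'2)
  have hjsurj : Function.Surjective j :=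
    ((Nat.bijective_iff_injective_and_card j).mpr ⟨hjinj, by rw [hNG, hNH, he'2, mul_comm]⟩).2
  -- the values of `φ`
  set π : H → ℂ := fun g => (Nat.card (MulAction.fixedBy α g) : ℂ) with hπ
  have hcl := CfsgLib.Char.isClassFunction_of_isCharacter
    (CfsgLib.Char.isCharacter_permChar (G := H) (X := α))
  have hφ1 : φ ≠ CfsgLib.Char.irrOne := fun h => hS1 (by simp [hφS, h])
  have hφc : φ ≠ c := fun h => hcS (by simp [hφS, h])
  have h1m : Cfsg.classInner π (CfsgLib.Char.irrOne : Cfsg.IrrCharacter H) = 1 := by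
    show Cfsg.classInner π (fun _ => 1) = 1
    rw [hπ, CfsgLib.Char.permChar_eq_indFun a₀]
    exact CfsgLib.Char.classInner_indFun_one_one _
  have hdec : ∀ g, π g = 1 + (c : H → ℂ) g + (φ : H → ℂ) g := by
    intro g
    have h := congrFun (CfsgLib.Char.classFun_eq_sum hcl) g
    simp only [Finset.sum_apply, Pi.smul_apply, smul_eq_mul] at h
    rw [hπ]
    beta_reduce
    rw [h, ← Finset.sum_subset (Finset.subset_univ
      ({CfsgLib.Char.irrOne, c, φ} : Finset (Cfsg.IrrCharacter H))) fun χ _ hχ => by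
        simp only [Finset.mem_insert, Finset.mem_singleton, not_or] at hχ
        rw [hzero χ hχ.1 hχ.2.1 (by simp [hφS, hχ.2.2]), zero_mul],
      Finset.sum_insert (by simp [Ne.symm hc1, Ne.symm hφ1]), Finset.sum_insert (by simp [Ne.symm hφc]),
      Finset.sum_singleton, hmc, hmS φ (by simp [hφS]),
      h1m, CfsgLib.Char.irrOne_apply]
    ring
  have hcY : c ∉ D.Y := by
    intro hc
    have h := D.mod_Y
    rw [← D.deg_Y c hc, hdc, he] at h
    rcases D.eps with hε | hε <;> rw [hε] at h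
    · have := Int.le_of_dvd (by norm_num : (0:ℤ) < 2) (by
        have h' := dvd_sub (dvd_refl (p : ℤ)) h; simpa using h')
      omega
    · have := Int.le_of_dvd (by norm_num : (0:ℤ) < 2) (by
        have h' := dvd_sub h (dvd_refl (p : ℤ)); simpa using h')
      omega
  have hxzc : Nat.card (Subgroup.zpowers x) = p := by rw [Nat.card_zpowers, L.order]
  have hsc : D.sign c = 0 := by
    obtain ⟨k, hk⟩ := CfsgLib.Char.classInner_char_nat
      (CfsgLib.Char.isCharacter_res (Subgroup.zpowers x) (CfsgLib.Char.isCharacter_of_isIrr c.2))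
      (CfsgLib.Char.isCharacter_one : Cfsg.IsCharacter (Subgroup.zpowers x) (fun _ => 1))
    rw [CfsgLib.Char.classInner_def] at hk
    simp only [map_one, mul_one] at hk
    rw [← Finset.add_sum_erase _ _ (Finset.mem_univ (1 : Subgroup.zpowers x)),
      Finset.sum_congr rfl fun (u : Subgroup.zpowers x) hu => D.val c hcY (u : H) u.2 fun h =>
        (Finset.mem_erase.mp hu).1 (Subtype.ext h),
      Subgroup.coe_one, CfsgLib.InvolChar.deg_spec, hdc, Finset.sum_const,
      Finset.card_erase_of_mem (Finset.mem_univ _), Finset.card_univ, ← Nat.card_eq_fintype_card, hxzc,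
      nsmul_eq_mul, inv_mul_eq_iff_eq_mul₀ (Nat.cast_ne_zero.mpr hp'.ne_zero),
      Nat.cast_sub hp'.one_le] at hk
    have hz : (p : ℤ) + ((p : ℤ) - 1) * D.sign c = p * k :=
      Int.cast_injective (α := ℂ) (by push_cast; exact_mod_cast hk)
    rcases D.sign_cases c with h | h | h
    · exact h
    all_goals (rw [h] at hz; exfalso)
    · have hd : (p : ℤ) ∣ 1 := ⟨2 - k, by linear_combination -hz⟩
      have := Int.le_of_dvd one_pos hd
      omega
    · have hd : (p : ℤ) ∣ 1 := ⟨k, by linear_combination hz⟩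
      have := Int.le_of_dvd one_pos hd
      omega
  have hval : ∀ u ∈ Subgroup.zpowers x, u ≠ 1 → (φ : H → ℂ) u = -1 := by
    intro u hu h1
    have hπu : π u = 0 := by
      haveI : IsEmpty (MulAction.fixedBy α u) := ⟨fun z => hfpf u (L.orderOf_of_mem hu h1) z.1 z.2⟩
      simp only [hπ]
      rw [Nat.card_of_isEmpty, Nat.cast_zero]
    have h := hdec u
    rw [hπu, D.val c hcY u hu h1, hsc, Int.cast_zero] at h
    linear_combination -h
  -- faithfulness
  have hmπ : ∀ (g : G) (h : H), π ⟨(g : Equiv.Perm α) * h * (g : Equiv.Perm α)⁻¹, hnorm g g.2 h h.2⟩ = π h := by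
    intro g h
    simp only [hπ]
    congr 1
    refine Nat.card_congr
      { toFun := fun z => ⟨(g : Equiv.Perm α)⁻¹ (z : α), ?_⟩
        invFun := fun z => ⟨(g : Equiv.Perm α) (z : α), ?_⟩
        left_inv := fun z => Subtype.ext (by simp)
        right_inv := fun z => Subtype.ext (by simp) }
    · have hz : (g : Equiv.Perm α) ((h : Equiv.Perm α) ((g : Equiv.Perm α)⁻¹ (z : α))) = z := z.2
      show (h : Equiv.Perm α) ((g : Equiv.Perm α)⁻¹ (z : α)) = (g : Equiv.Perm α)⁻¹ (z : α)
      conv_rhs => rw [← hz]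
      simp
    · have hz : (h : Equiv.Perm α) (z : α) = z := z.2
      show ((g : Equiv.Perm α) * h * (g : Equiv.Perm α)⁻¹) ((g : Equiv.Perm α) (z : α)) = _
      simp [hz]
  have hφconj : ∀ (g : G) (h : H),
      (φ : H → ℂ) ⟨(g : Equiv.Perm α) * h * (g : Equiv.Perm α)⁻¹, hnorm g g.2 h h.2⟩ = (φ : H → ℂ) h := by
    intro g
    let θ : H ≃* H :=
      { toFun := fun h => ⟨(g : Equiv.Perm α) * h * (g : Equiv.Perm α)⁻¹, hnorm g g.2 h h.2⟩
        invFun := fun h => ⟨(g : Equiv.Perm α)⁻¹ * h * (g : Equiv.Perm α), by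
          simpa using hnorm _ (g⁻¹ : G).2 h h.2⟩
        left_inv := fun h => Subtype.ext (by simp [mul_assoc])
        right_inv := fun h => Subtype.ext (by simp [mul_assoc])
        map_mul' := fun h h' => Subtype.ext (by simp [mul_assoc]) }
    have hirr : Cfsg.IsIrrCharacter H (fun h => (φ : H → ℂ) (θ h)) := by
      refine CfsgLib.Char.irr_of_norm_one
        (CfsgLib.Char.isCharacter_comp (CfsgLib.Char.isCharacter_of_isIrr φ.2) θ.toMonoidHom) ?_
      rw [show (fun h => (φ : H → ℂ) (θ h)) = fun h => (φ : H → ℂ) (θ h) from rfl]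
      exact (CfsgLib.Char.classInner_comp_mulEquiv θ (φ : H → ℂ) (φ : H → ℂ)).trans (CfsgLib.Char.classInner_irr_self φ.2)
    obtain ⟨χ, hχ⟩ : ∃ χ : Cfsg.IrrCharacter H, (χ : H → ℂ) = fun h => (φ : H → ℂ) (θ h) := ⟨⟨_, hirr⟩, rfl⟩
    have hm : Cfsg.classInner π χ = 1 := by
      rw [hχ]
      have hπθ : π ∘ ⇑θ = π := funext fun h => hmπ g h
      have e1 := CfsgLib.Char.classInner_comp_mulEquiv θ π (φ : H → ℂ)
      rw [hπθ] at e1
      exact e1.trans (hmS φ (by simp [hφS]))
    have hdeg : (χ : H → ℂ) 1 = (p : ℂ) - 1 := by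
      rw [hχ]
      show (φ : H → ℂ) (θ 1) = _
      rw [map_one, hφdeg]
    have hχφ : χ = φ := by
      by_contra hne
      rcases eq_or_ne χ CfsgLib.Char.irrOne with h | h
      · rw [h, CfsgLib.Char.irrOne_apply] at hdeg
        have : (p : ℂ) = (2 : ℕ) := by push_cast; linear_combination -hdeg
        have : p = 2 := by exact_mod_cast this
        omega
      rcases eq_or_ne χ c with h' | h'
      · rw [h', CfsgLib.InvolChar.deg_spec, hdc] at hdeg
        exact one_ne_zero (show (1 : ℂ) = 0 by linear_combination hdeg)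
      · rw [hzero χ h h' (by simp [hφS, hne])] at hm
        exact one_ne_zero hm.symm
    intro h
    have h' := congrFun hχ h
    rw [hχφ] at h'
    exact h'.symm
  obtain ⟨d, ρ, hρirr, hρ⟩ := φ.2
  have hker : ∀ h : H, (φ : H → ℂ) h = (φ : H → ℂ) 1 ↔ ρ h = 1 := fun h => by
    rw [← hρ, Representation.char_one, CfsgLib.Char.character_eq_degree_iff]
    rfl
  let K : Subgroup G :=
    { carrier := {g | ∃ hg : (g : Equiv.Perm α) ∈ H, ρ ⟨_, hg⟩ = 1}
      mul_mem' := by
        rintro u v ⟨hu, hu1⟩ ⟨hv, hv1⟩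
        refine ⟨H.mul_mem hu hv, ?_⟩
        show ρ (⟨_, hu⟩ * ⟨_, hv⟩ : H) = 1
        rw [map_mul, hu1, hv1, mul_one]
      one_mem' := ⟨H.one_mem, map_one ρ⟩
      inv_mem' := by
        rintro u ⟨hu, hu1⟩
        refine ⟨H.inv_mem hu, ?_⟩
        have h := map_mul ρ (⟨_, hu⟩ : H) ⟨_, H.inv_mem hu⟩
        rw [show (⟨_, hu⟩ : H) * ⟨_, H.inv_mem hu⟩ = 1 from Subtype.ext (mul_inv_cancel _), map_one, hu1,
          one_mul] at h
        exact h.symm }
  have hKn : K.Normal := ⟨by
    rintro u ⟨hu, hu1⟩ g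
    refine ⟨hnorm g g.2 _ hu, ?_⟩
    rw [← hker] at hu1 ⊢
    rw [← hu1]
    exact hφconj g ⟨_, hu⟩⟩
  have hfaith : ∀ h : H, (φ : H → ℂ) h = (φ : H → ℂ) 1 → h = 1 := by
    intro h hh
    by_contra hne
    have hmem : (⟨(h : Equiv.Perm α), hHG h.2⟩ : G) ∈ K := ⟨h.2, (hker h).mp hh⟩
    have hKtr : MulAction.IsPretransitive K α := by
      haveI := hKn
      refine MulAction.IsQuasiPreprimitive.isPretransitive_of_normal fun hfp => hne ?_
      refine Subtype.ext (Equiv.ext fun z => ?_)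
      have hz : z ∈ MulAction.fixedPoints K α := hfp ▸ Set.mem_univ z
      exact hz ⟨_, hmem⟩
    have hpK : p ∣ Nat.card K := by
      refine (dvd_mul_left p 2).trans ?_
      rw [← hα, ← Nat.card_eq_fintype_card (α := α), ← MulAction.index_stabilizer_of_transitive (G := K) a₀]
      exact Subgroup.index_dvd_card _
    obtain ⟨k, hk⟩ := exists_prime_orderOf_dvd_card' p hpK
    obtain ⟨hkH, hk1⟩ := k.2
    rw [← hker] at hk1
    have hko : orderOf (⟨((k : G) : Equiv.Perm α), hkH⟩ : H) = p := by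
      rw [← Subgroup.orderOf_coe]
      show orderOf ((k : G) : Equiv.Perm α) = p
      rw [Subgroup.orderOf_coe, Subgroup.orderOf_coe, hk]
    obtain ⟨Q, hQ⟩ := (IsPGroup.of_card (n := 1) (by rw [Nat.card_zpowers, hko, pow_one]) :
      IsPGroup p (Subgroup.zpowers (⟨((k : G) : Equiv.Perm α), hkH⟩ : H))).exists_le_sylow
    obtain ⟨w, hw⟩ := MulAction.exists_smul_eq H Q PH
    set kH : H := ⟨((k : G) : Equiv.Perm α), hkH⟩ with hkHd
    have hwk : w * kH * w⁻¹ ∈ Subgroup.zpowers x := by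
      rw [← hPx, ← hw, Sylow.coe_subgroup_smul, Subgroup.mem_pointwise_smul_iff_inv_smul_mem]
      simpa [MulAut.smul_def, mul_assoc] using hQ (Subgroup.mem_zpowers _)
    have hwk1 : w * kH * w⁻¹ ≠ 1 := fun hh' => by
      rw [conj_eq_one_iff.mp hh', orderOf_one] at hko
      exact hp'.ne_one hko.symm
    have h2 := hval _ hwk hwk1
    rw [CfsgLib.Char.isClassFunction_of_isIrr φ.2 kH w, hk1, hφdeg] at h2
    have hp0 : (p : ℂ) = 0 := by linear_combination h2
    exact hp'.ne_zero (by exact_mod_cast hp0)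
  -- recognition
  have hC : Subgroup.centralizer ({x} : Set H) = Subgroup.zpowers x := L.cent
  have hNH2 : Nat.card (Subgroup.normalizer ((Subgroup.zpowers x : Subgroup H) : Set H)) = 2 * p := by
    rw [hNH, he'2, mul_comm]
  obtain ⟨hHcard, k, F, hF, hFf, hpk, hFc, ⟨eH⟩⟩ :=
    CfsgLib.PrimeDegreeTwo.recognition L.order hC hNH2 φ hφdeg hval hfaith (by
      have hne4 : p ≠ 4 := fun h => by rw [h] at hp'; norm_num at hp'
      omega)
  have ha1 : a = 1 := by
    have h2k : a * (a + 1) * 2 = 2 ^ k := by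
      have : p = 2 * (a * (a + 1)) + 1 := by rw [hpa]; ring
      omega
    by_contra hne
    have h2' : 2 ≤ a := by omega
    obtain ⟨i, -, hi⟩ := (Nat.dvd_prime_pow Nat.prime_two).mp (h2k ▸ (dvd_mul_right a (a + 1)).mul_right 2)
    obtain ⟨l, -, hl⟩ := (Nat.dvd_prime_pow Nat.prime_two).mp (h2k ▸ (dvd_mul_left (a + 1) a).mul_right 2)
    rcases i with _ | i
    · rw [pow_zero] at hi; omega
    rcases l with _ | l
    · rw [pow_zero] at hl; omega
    rw [pow_succ] at hi hl
    omega
  subst ha1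
  obtain rfl : p = 5 := by omega
  refine ⟨rfl, ?_⟩
  -- `G = H`
  have hGH : G = H := by
    refine le_antisymm (fun g hg => ?_) hHG
    set gx : H := ⟨g * (x : Equiv.Perm α) * g⁻¹, hnorm g hg x x.2⟩ with hgxd
    have hgxo : orderOf gx = 5 := by
      rw [← Subgroup.orderOf_coe]
      show orderOf (g * (x : Equiv.Perm α) * g⁻¹) = 5
      rw [(show SemiconjBy g (x : Equiv.Perm α) (g * (x : Equiv.Perm α) * g⁻¹) by
        show g * (x : Equiv.Perm α) = g * x * g⁻¹ * g
        rw [inv_mul_cancel_right]).orderOf_eq.symm, Subgroup.orderOf_coe]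
      exact L.order
    obtain ⟨Q, hQ⟩ := (IsPGroup.of_card (n := 1) (by rw [Nat.card_zpowers, hgxo, pow_one]) :
      IsPGroup 5 (Subgroup.zpowers gx)).exists_le_sylow
    obtain ⟨w, hw⟩ := MulAction.exists_smul_eq H Q PH
    have hwk : w * gx * w⁻¹ ∈ Subgroup.zpowers x := by
      rw [← hPx, ← hw, Sylow.coe_subgroup_smul, Subgroup.mem_pointwise_smul_iff_inv_smul_mem]
      simpa [MulAut.smul_def, mul_assoc] using hQ (Subgroup.mem_zpowers _)
    let n : G := ⟨(w : Equiv.Perm α) * g, G.mul_mem (hHG w.2) hg⟩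
    have hnN : n ∈ Subgroup.normalizer ((Subgroup.zpowers xG : Subgroup G) : Set G) := by
      have hmap : (Subgroup.zpowers xG).map (MulAut.conj n).toMonoidHom = Subgroup.zpowers xG := by
        rw [MonoidHom.map_zpowers]
        refine Subgroup.eq_of_le_of_card_ge (Subgroup.zpowers_le.mpr ?_) ?_
        · obtain ⟨i, hi⟩ := Subgroup.mem_zpowers_iff.mp (hgen _ hwk)
          refine Subgroup.mem_zpowers_iff.mpr ⟨i, Subtype.ext ?_⟩
          simp [hxG, n, hi, hgxd, mul_assoc]
        · rw [Nat.card_zpowers, Nat.card_zpowers, MulEquiv.coe_toMonoidHom, MulEquiv.orderOf_eq]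
      rw [Subgroup.mem_normalizer_iff]
      intro z
      constructor
      · intro hz; rw [← hmap]; exact ⟨z, hz, rfl⟩
      · intro hz
        rw [← hmap] at hz
        obtain ⟨z', hz', hzz⟩ := hz
        rwa [(MulAut.conj n).injective hzz] at hz'
    obtain ⟨m, hm⟩ := hjsurj ⟨n, hnN⟩
    have hwg : (w : Equiv.Perm α) * g ∈ H := by
      have h := congrArg (fun v : Subgroup.normalizer ((Subgroup.zpowers xG : Subgroup G) : Set G) =>
        ((v : G) : Equiv.Perm α)) hm
      have hm' : ((m : H) : Equiv.Perm α) = (w : Equiv.Perm α) * g := h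
      exact hm' ▸ (m : H).2
    have := H.mul_mem (H.inv_mem w.2) hwg
    simpa using this
  obtain ⟨eA⟩ := CfsgLib.PrimeDegreeTwo.nonempty_sl_four (F := F) (by rw [hFc]; omega)
  exact ⟨((MulEquiv.subgroupCongr hGH).trans eH).trans eA⟩

end Cfsg.Agent.S4707
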