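import Cfsg.Statements.S4708
import Cfsg.Agent.Lib.Modular.NormalBlocks
import Cfsg.Agent.Lib.Blocks.Covering
import Cfsg.Agent.Lib.Blocks.PrincipalSection

set_option autoImplicit false
open Cfsg

namespace Cfsg.Agent.S4708

/-- Let p be a prime, M a maximal ideal of the algebraic integers containing p, G a finite group and H a normal subgroup. Write λ(X) for the sum of the squares of the degrees of the irreducible characters in the principal p-block of a group X. Then λ(H) ≤ λ(G) ≤ [G : H]·λ(H). -/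
theorem result {G : Type*} [Group G] [Finite G] (p : ℕ) [Fact p.Prime] (M : Ideal Cfsg.AlgInt) (hM : Cfsg.IsPModular p M) (H : Subgroup G) [H.Normal] : (∑ᶠ θ ∈ Cfsg.principalBlock M H, Cfsg.charDegree (θ : H → ℂ) ^ 2) ≤ (∑ᶠ χ ∈ Cfsg.principalBlock M G, Cfsg.charDegree (χ : G → ℂ) ^ 2) ∧ (∑ᶠ χ ∈ Cfsg.principalBlock M G, Cfsg.charDegree (χ : G → ℂ) ^ 2) ≤ H.index * ∑ᶠ θ ∈ Cfsg.principalBlock M H, Cfsg.charDegree (θ : H → ℂ) ^ 2 := by
  classical
  have := hM.2.1
  have := Fintype.ofFinite G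
  have := Fintype.ofFinite H
  rw [finsum_mem_eq_toFinset_sum, finsum_mem_eq_toFinset_sum]
  have hone : ∀ θ : Cfsg.IrrCharacter H, θ ∈ Cfsg.principalBlock M H ↔
      CfsgLib.Blocks.bomega (M := M) (CfsgLib.Char.irrOne : Cfsg.IrrCharacter H) = CfsgLib.Blocks.bomega θ := by
    intro θ
    rw [CfsgLib.Blocks.principalBlock_eq]
    exact CfsgLib.Blocks.mem_blockOf_iff _ _
  have h1 : Cfsg.classInner (fun n : H => ((CfsgLib.Char.irrOne : Cfsg.IrrCharacter G) : G → ℂ) n)
      ((CfsgLib.Char.irrOne : Cfsg.IrrCharacter H) : H → ℂ) ≠ 0 := by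
    rw [show (fun n : H => ((CfsgLib.Char.irrOne : Cfsg.IrrCharacter G) : G → ℂ) n) =
      ((CfsgLib.Char.irrOne : Cfsg.IrrCharacter H) : H → ℂ) from rfl,
      CfsgLib.Char.classInner_irr_self (CfsgLib.Char.irrOne : Cfsg.IrrCharacter H).2]
    exact one_ne_zero
  have hup : ∀ θ ∈ Cfsg.principalBlock M H, ∃ χ ∈ Cfsg.principalBlock M G,
      Cfsg.classInner (fun n : H => (χ : G → ℂ) n) (θ : H → ℂ) ≠ 0 := fun θ hθ =>
    CfsgLib.Modular.exists_over_of_covered H hM CfsgLib.Blocks.isPBlock_principalBlock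
      ((CfsgLib.Blocks.principalBlock_eq (M := M) (G := H)) ▸ hθ) CfsgLib.Blocks.irrOne_mem_principalBlock h1
  have hdown : ∀ χ ∈ Cfsg.principalBlock M G, ∀ θ : Cfsg.IrrCharacter H,
      Cfsg.classInner (fun n : H => (χ : G → ℂ) n) (θ : H → ℂ) ≠ 0 → θ ∈ Cfsg.principalBlock M H := by
    intro χ hχ θ hθ
    have hχ' : Cfsg.SameBlock M (χ : G → ℂ) ((CfsgLib.Char.irrOne : Cfsg.IrrCharacter G) : G → ℂ) :=
      (CfsgLib.Blocks.sameBlock_iff _ _).mpr (CfsgLib.Blocks.bomega_eq_of_mem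
        CfsgLib.Blocks.isPBlock_principalBlock hχ CfsgLib.Blocks.irrOne_mem_principalBlock)
    obtain ⟨g, hg⟩ := CfsgLib.Blocks.exists_conj_sameBlock_of_congr (M := M) χ.2
      (θ' := (CfsgLib.Char.irrOne : Cfsg.IrrCharacter H)) hθ (fun n => by
        rw [← CfsgLib.Blocks.centralChar_eq_icc_of_over (CfsgLib.Char.irrOne : Cfsg.IrrCharacter G).2 h1 n.2]
        exact hχ' (n : G))
    have hg' := CfsgLib.Blocks.sameBlock_conjFun hg g⁻¹
    rw [CfsgLib.CharNormal.conjFun_inv_conjFun,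
      show CfsgLib.CharNormal.conjFun H g⁻¹ ((CfsgLib.Char.irrOne : Cfsg.IrrCharacter H) : H → ℂ) =
        ((CfsgLib.Char.irrOne : Cfsg.IrrCharacter H) : H → ℂ) from rfl] at hg'
    exact (hone θ).mpr ((CfsgLib.Blocks.sameBlock_iff _ _).mp hg').symm
  constructor
  · have : Nonempty (Cfsg.IrrCharacter G) := ⟨CfsgLib.Char.irrOne⟩
    choose! f hf using hup
    rw [← Finset.sum_fiberwise_of_maps_to (t := (Cfsg.principalBlock M G).toFinset) (g := f)
      (fun θ hθ => Set.mem_toFinset.mpr (hf θ (Set.mem_toFinset.mp hθ)).1)]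
    refine Finset.sum_le_sum fun χ hχ => ?_
    set F := (Cfsg.principalBlock M H).toFinset.filter (fun θ => f θ = χ) with hF
    rcases F.eq_empty_or_nonempty with he | ⟨θ₀, hθ₀⟩
    · rw [he]; simp
    have hov : ∀ θ ∈ F, Cfsg.classInner (fun n : H => (χ : G → ℂ) n) (θ : H → ℂ) ≠ 0 := fun θ hθ => by
      obtain ⟨h, h'⟩ := Finset.mem_filter.mp hθ
      have := (hf θ (Set.mem_toFinset.mp h)).2
      rwa [h'] at this
    have hsub : F ⊆ CfsgLib.CharNormal.orbit H θ₀ := fun θ hθ => by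
      obtain ⟨g, hg⟩ := CfsgLib.CharNormal.exists_conj_of_constituents H χ.2 θ₀.2 θ.2 (hov θ₀ hθ₀) (hov θ hθ)
      exact (CfsgLib.CharNormal.mem_orbit H).mpr ⟨g, hg⟩
    obtain ⟨c, hc⟩ := CfsgLib.Char.classInner_char_nat
      (CfsgLib.Char.isCharacter_res H (CfsgLib.Char.isCharacter_of_isIrr χ.2))
      (CfsgLib.Char.isCharacter_of_isIrr θ₀.2)
    have hc1 : 1 ≤ c := Nat.pos_of_ne_zero fun h => hov θ₀ hθ₀ (by rw [hc, h, Nat.cast_zero])
    have hdeg : Cfsg.charDegree (χ : G → ℂ) =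
        c * (CfsgLib.CharNormal.orbit H θ₀).card * Cfsg.charDegree (θ₀ : H → ℂ) := by
      refine Nat.cast_injective (R := ℂ) ?_
      push_cast
      rw [CfsgLib.CharBlocks.coe_charDegree_irr, CfsgLib.CharBlocks.coe_charDegree_irr,
        CfsgLib.CharNormal.degree_eq_mul_card_orbit H χ.2 θ₀ (hov θ₀ hθ₀), hc]
    have hall : ∀ θ ∈ F, Cfsg.charDegree (θ : H → ℂ) = Cfsg.charDegree (θ₀ : H → ℂ) := fun θ hθ => by
      obtain ⟨g, hg⟩ := (CfsgLib.CharNormal.mem_orbit H).mp (hsub hθ)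
      rw [Cfsg.charDegree, Cfsg.charDegree, ← hg, CfsgLib.CharNormal.conjFun_apply_one]
    rw [Finset.sum_congr rfl fun θ hθ => by rw [hall θ hθ], Finset.sum_const, smul_eq_mul, hdeg, mul_pow]
    refine Nat.mul_le_mul ((Finset.card_le_card hsub).trans ?_) le_rfl
    calc (CfsgLib.CharNormal.orbit H θ₀).card ≤ (CfsgLib.CharNormal.orbit H θ₀).card ^ 2 :=
          Nat.le_self_pow two_ne_zero _
      _ ≤ (c * (CfsgLib.CharNormal.orbit H θ₀).card) ^ 2 :=
          Nat.pow_le_pow_left (Nat.le_mul_of_pos_left _ hc1) 2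
  · choose c hc using fun (χ : Cfsg.IrrCharacter G) (θ : Cfsg.IrrCharacter H) => CfsgLib.Char.classInner_char_nat
      (CfsgLib.Char.isCharacter_res H (CfsgLib.Char.isCharacter_of_isIrr χ.2))
      (CfsgLib.Char.isCharacter_of_isIrr θ.2)
    have hdeg : ∀ χ ∈ Cfsg.principalBlock M G, Cfsg.charDegree (χ : G → ℂ) =
        ∑ θ ∈ (Cfsg.principalBlock M H).toFinset, c χ θ * Cfsg.charDegree (θ : H → ℂ) := by
      intro χ hχ
      refine Nat.cast_injective (R := ℂ) ?_
      have h := congrFun (CfsgLib.Char.classFun_eq_sum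
        (CfsgLib.Char.isClassFunction_of_isCharacter
          (CfsgLib.Char.isCharacter_res H (CfsgLib.Char.isCharacter_of_isIrr χ.2)))) 1
      simp only [Finset.sum_apply, Pi.smul_apply, smul_eq_mul, OneMemClass.coe_one, hc] at h
      push_cast
      simp only [CfsgLib.CharBlocks.coe_charDegree_irr]
      rw [h]
      refine (Finset.sum_subset (Finset.subset_univ _) fun θ _ hθ => ?_).symm
      have : c χ θ = 0 := by
        by_contra hne
        exact hθ (Set.mem_toFinset.mpr (hdown χ hχ θ (by rw [hc]; exact_mod_cast hne)))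
      rw [this, Nat.cast_zero, zero_mul]
    have hidx : ∀ θ : Cfsg.IrrCharacter H,
        ∑ χ : Cfsg.IrrCharacter G, Cfsg.charDegree (χ : G → ℂ) * c χ θ = H.index * Cfsg.charDegree (θ : H → ℂ) := by
      intro θ
      refine Nat.cast_injective (R := ℂ) ?_
      push_cast
      simp only [CfsgLib.CharBlocks.coe_charDegree_irr, ← hc]
      exact CfsgLib.CharNormal.sum_degree_mul_classInner_res H θ.2
    calc ∑ χ ∈ (Cfsg.principalBlock M G).toFinset, Cfsg.charDegree (χ : G → ℂ) ^ 2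
        = ∑ χ ∈ (Cfsg.principalBlock M G).toFinset, ∑ θ ∈ (Cfsg.principalBlock M H).toFinset,
            Cfsg.charDegree (χ : G → ℂ) * c χ θ * Cfsg.charDegree (θ : H → ℂ) :=
          Finset.sum_congr rfl fun χ hχ => by
            rw [pow_two]
            conv_lhs => arg 2; rw [hdeg χ (Set.mem_toFinset.mp hχ)]
            rw [Finset.mul_sum]
            exact Finset.sum_congr rfl fun θ _ => (mul_assoc _ _ _).symm
      _ = ∑ θ ∈ (Cfsg.principalBlock M H).toFinset, (∑ χ ∈ (Cfsg.principalBlock M G).toFinset,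
            Cfsg.charDegree (χ : G → ℂ) * c χ θ) * Cfsg.charDegree (θ : H → ℂ) := by
          rw [Finset.sum_comm]
          exact Finset.sum_congr rfl fun θ _ => (Finset.sum_mul _ _ _).symm
      _ ≤ ∑ θ ∈ (Cfsg.principalBlock M H).toFinset, (H.index * Cfsg.charDegree (θ : H → ℂ)) * Cfsg.charDegree (θ : H → ℂ) :=
          Finset.sum_le_sum fun θ _ => Nat.mul_le_mul
            ((Finset.sum_le_sum_of_subset (Finset.subset_univ _)).trans (hidx θ).le) le_rfl
      _ = _ := by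
          rw [Finset.mul_sum]
          exact Finset.sum_congr rfl fun θ _ => by ring

end Cfsg.Agent.S4708
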