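import Cfsg.Statements.S4711
import Cfsg.Agent.Lib.Blocks.Covering
import Cfsg.Agent.Lib.Blocks.Orth
import Cfsg.Agent.Lib.Blocks.SimpleTrace
import Cfsg.Agent.Lib.BrauerPairs.Idem
import Cfsg.Agent.Lib.Cores.PConstrained
import Cfsg.Agent.Lib.OddLocal.Ten.PLengthTools
import Cfsg.Agent.Lib.OddChar.Coset
import Cfsg.Agent.Lib.Char.Restrict
import Cfsg.Agent.Lib.BlockArith.AugmentationNilpotent

set_option autoImplicit false
open Cfsg

namespace Cfsg.Agent.S4711

open CfsgLib.Char CfsgLib.CharNormal CfsgLib.Blocks CfsgLib.BrauerPairs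
open scoped ComplexConjugate

variable {G : Type*} [Group G] {p : ℕ} [hp : Fact p.Prime] {M : Ideal AlgInt}

/-- `p`-length one makes restriction to the Sylow normalizer surject modulo `O_{p'}`. -/
theorem normalizer_sup_pPrimeCore_eq_top [Finite G] (P : Sylow p G) (h : PLengthLE p 1 G) :
    Subgroup.normalizer ((P : Subgroup G) : Set G) ⊔ pPrimeCore p G = ⊤ := by
  have := CfsgLib.Cores.pPrimePCore_normal (p := p) (G := G)
  set L := pPrimePCore p G with hL
  set K := pPrimeCore p G with hK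
  have hPL : (P : Subgroup G) ≤ L := by
    rw [← Subgroup.relIndex_eq_one]
    refine Nat.eq_one_of_dvd_coprimes ?_ (Subgroup.relIndex_dvd_index_of_normal L _)
      (Subgroup.relIndex_dvd_card L _)
    obtain ⟨a, ha⟩ := IsPGroup.iff_card.mp P.isPGroup'
    rw [ha]
    exact (CfsgLib.OddLocal.Ten.index_pPrimePCore h).pow_right a
  have hLK : L ≤ (P : Subgroup G) ⊔ K := fun x hx => by
    have h1 : QuotientGroup.mk' K x ∈
        ((P.mapSurjective (QuotientGroup.mk'_surjective K) : Sylow p (G ⧸ K)) :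
          Subgroup (G ⧸ K)) := CfsgLib.Cores.pCore_le_sylow _ hx
    rw [Sylow.coe_mapSurjective] at h1
    obtain ⟨y, hy, hyx⟩ := h1
    have : y⁻¹ * x ∈ K := QuotientGroup.eq.mp hyx
    rw [← mul_inv_cancel_left y x]
    exact Subgroup.mul_mem_sup hy this
  refine top_le_iff.mp ((Sylow.normalizer_sup_eq_top' P hPL).ge.trans ?_)
  exact sup_le le_sup_left
    (hLK.trans (sup_le (Subgroup.le_normalizer.trans le_sup_left) le_sup_right))

theorem forward [Finite G] (hM : IsPModular p M) (P : Sylow p G) (h : PLengthLE p 1 G) :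
    ∀ χ ∈ principalBlock M G, IsIrrCharacter ↥(Subgroup.normalizer ((P : Subgroup G) : Set G))
      (fun n : ↥(Subgroup.normalizer ((P : Subgroup G) : Set G)) => (χ : G → ℂ) n) := by
  intro χ hχ
  have : M.IsMaximal := hM.2.1
  let _ := Fintype.ofFinite G
  set N := Subgroup.normalizer ((P : Subgroup G) : Set G)
  let K := pPrimeCore p G
  let _ := Fintype.ofFinite ↥K
  let _ := Fintype.ofFinite ↥N
  have hker := trivialOn_of_sameBlock (N := K) hM (CfsgLib.Cores.not_dvd_card_pPrimeCore p)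
    (χ := irrOne) (ψ := χ) (by rw [principalBlock_eq] at hχ; exact hχ)
    (fun n _ => by simp [irrOne_apply])
  obtain ⟨ψ, hψ, he⟩ := exists_irr_eq_comp_mk' K χ.2 hker
  let f : N →* G ⧸ K := (QuotientGroup.mk' K).comp N.subtype
  have hf : Function.Surjective f := fun q => by
    obtain ⟨g, rfl⟩ := QuotientGroup.mk_surjective q
    obtain ⟨n, hn, k, hk, rfl⟩ := Subgroup.mem_sup_of_normal_right.mp
      (show g ∈ N ⊔ K by rw [normalizer_sup_pPrimeCore_eq_top P h]; exact Subgroup.mem_top g)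
    exact ⟨⟨n, hn⟩, (QuotientGroup.mk_mul_of_mem n hk).symm⟩
  let _ := Fintype.ofFinite (↥N ⧸ f.ker)
  let _ := Fintype.ofFinite (G ⧸ K)
  have h1 := isIrr_comp_mk' f.ker
    (isIrr_comp_mulEquiv hψ (QuotientGroup.quotientKerEquivOfSurjective f hf))
  convert h1 using 1
  funext n
  exact (congrFun he (n : G)).symm

/-- An irreducible character of `G` that is trivial on `P` is determined on `N_G(P)`. -/
theorem eq_of_res_eq [Finite G] (P : Sylow p G) {χ η : IrrCharacter G}
    (hres : ∀ n ∈ Subgroup.normalizer ((P : Subgroup G) : Set G),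
      (χ : G → ℂ) n = (η : G → ℂ) n)
    (hker : ∀ u ∈ (P : Subgroup G), (χ : G → ℂ) u = (χ : G → ℂ) 1) : χ = η := by
  let _ := Fintype.ofFinite G
  have hc := isCharacter_of_isIrr χ.2
  have hd := isCharacter_of_isIrr η.2
  have h1 := charKer_normal hc
  have h2 := charKer_normal hd
  have hPL : (P : Subgroup G) ≤ charKer hc ⊓ charKer hd := fun u hu => by
    refine ⟨mem_charKer.mpr (hker u hu), mem_charKer.mpr ?_⟩
    rw [← hres u (Subgroup.le_normalizer hu), ← hres 1 (one_mem _), hker u hu]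
  set L := charKer hc ⊓ charKer hd
  have htop := Sylow.normalizer_sup_eq_top' P hPL
  obtain ⟨a, -, ha⟩ := exists_eq_comp_mk' L hc fun n hn => mem_charKer.mp hn.1
  obtain ⟨b, -, hb⟩ := exists_eq_comp_mk' L hd fun n hn => mem_charKer.mp hn.2
  refine Subtype.ext (funext fun g => ?_)
  obtain ⟨n, hn, l, hl, rfl⟩ := Subgroup.mem_sup_of_normal_right.mp
    (show g ∈ _ ⊔ L by rw [htop]; exact Subgroup.mem_top g)
  rw [← ha, ← hb, Function.comp_apply, Function.comp_apply, QuotientGroup.mk_mul_of_mem n hl]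
  have hn' := hres n hn
  rwa [← ha, ← hb] at hn'

/-- Characters of the principal block with irreducible restrictions restrict differently. -/
theorem res_injective [Fintype G] [M.IsMaximal] (hM : IsPModular p M) (P : Sylow p G)
    {B : Set (IrrCharacter G)} (hB : IsPBlock M B) {χ η : IrrCharacter G} (hχ : χ ∈ B)
    (hη : η ∈ B)
    (hirr : ∀ χ ∈ B, IsIrrCharacter ↥(Subgroup.normalizer ((P : Subgroup G) : Set G))
      (fun n : ↥(Subgroup.normalizer ((P : Subgroup G) : Set G)) => (χ : G → ℂ) n))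
    (heq : ∀ n ∈ Subgroup.normalizer ((P : Subgroup G) : Set G),
      (χ : G → ℂ) n = (η : G → ℂ) n) : χ = η := by
  classical
  by_contra hne
  set N := Subgroup.normalizer ((P : Subgroup G) : Set G) with hNdef
  have hPN : (P : Subgroup G) ≤ N := Subgroup.le_normalizer
  let Q : Subgroup ↥N := (P : Subgroup G).subgroupOf N
  have hQn : Q.Normal := Subgroup.normal_subgroupOf_of_le_normalizer le_rfl
  have hQp : IsPGroup p Q := P.isPGroup'.of_equiv (Subgroup.subgroupOfEquivOfLe hPN).symm
  obtain ⟨a, ha⟩ := IsPGroup.iff_card.mp hQp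
  have hidx : ¬ p ∣ Q.index := fun hd => P.not_dvd_index (by
    have : Q.index = (P : Subgroup G).relIndex N := rfl
    exact hd.trans (this ▸ Subgroup.relIndex_dvd_index_of_le hPN))
  have hcop : (Nat.card Q).Coprime Q.index := by
    rw [ha]; exact (hp.out.coprime_iff_not_dvd.mpr hidx).pow_left a
  obtain ⟨H, hH⟩ := Subgroup.exists_left_complement'_of_coprime hcop
  have hHp : (Nat.card H).Coprime p := by
    rw [← hH.index_eq_card]; exact (hp.out.coprime_iff_not_dvd.mpr hidx).symm
  let e : ↥N ⧸ Q ≃* H := hH.QuotientMulEquiv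
  have he : ∀ t : H, e (QuotientGroup.mk (t : ↥N)) = t := fun t => by
    rw [← MulEquiv.eq_symm_apply]; rfl
  set θ : ↥N → ℂ := fun n => (χ : G → ℂ) n
  have hθ : IsIrrCharacter ↥N θ := hirr χ hχ
  obtain ⟨m, hm, -⟩ := char_decomp (isCharacter_comp (isCharacter_of_isIrr hθ) H.subtype)
  let hf : IrrCharacter H → ↥N → ℂ := fun φ x => (φ : H → ℂ) (e (QuotientGroup.mk x))
  have hfirr : ∀ φ, IsIrrCharacter ↥N (hf φ) := fun φ =>
    isIrr_comp_mk' Q (isIrr_comp_mulEquiv φ.2 e)
  have hfH : ∀ φ (t : H), hf φ t = (φ : H → ℂ) t := fun φ t => by simp only [hf, he]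
  have hreg : ∀ s : ↥N, ¬ p ∣ orderOf s → θ s = ∑ φ, (m φ : ℂ) * hf φ s := by
    intro s hs
    obtain ⟨⟨t, u⟩, rfl⟩ := hH.2 s
    dsimp only at hs ⊢
    obtain ⟨x, hx, c, hc, hct, hxc⟩ := CfsgLib.OddChar.exists_conj_coset Q (t : ↥N)
      (by rw [Subgroup.normalizer_eq_top]; exact Subgroup.mem_top _)
      (by rw [ha, Subgroup.orderOf_coe]
          exact (Nat.Coprime.coprime_dvd_left (orderOf_dvd_natCard t) hHp).pow_right a)
      (hQn.conj_mem _ u.2 (t : ↥N))
    rw [inv_mul_cancel_right] at hxc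
    have hord : orderOf (x * ((t : ↥N) * u) * x⁻¹) = orderOf ((t : ↥N) * u) :=
      MulEquiv.orderOf_eq (MulAut.conj x) _
    have hcc : orderOf c = 1 := by
      obtain ⟨i, hi⟩ := hQp.exists_orderOf_eq_pow ⟨c, hc⟩ 
      have hi' : orderOf c = p ^ i := (Subgroup.orderOf_coe ⟨c, hc⟩).trans hi
      by_contra hne1
      have hcop2 : (orderOf c).Coprime (orderOf (t : ↥N)) := by
        rw [hi', Subgroup.orderOf_coe]
        exact ((Nat.Coprime.coprime_dvd_left (orderOf_dvd_natCard t) hHp).pow_right i).symm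
      refine hs ?_
      rw [← hord, hxc, (show Commute c (t : ↥N) from hct).orderOf_mul_eq_mul_orderOf_of_coprime hcop2]
      refine dvd_mul_of_dvd_left (?_ : p ∣ orderOf c) _
      rw [hi'] at hne1 ⊢
      exact dvd_pow_self p fun h0 => hne1 (by rw [h0, pow_zero])
    rw [orderOf_eq_one_iff.mp hcc, one_mul] at hxc
    have hθc := isClassFunction_of_isIrr hθ ((t : ↥N) * u) x
    rw [hxc] at hθc
    rw [← hθc]
    have h1 := congrFun hm t
    simp only [Function.comp_apply, Finset.sum_apply, Pi.smul_apply, smul_eq_mul] at h1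
    rw [show θ (t : ↥N) = _ from h1]
    refine Finset.sum_congr rfl fun φ _ => ?_
    have hfc := isClassFunction_of_isIrr (hfirr φ) ((t : ↥N) * u) x
    rw [hxc, hfH] at hfc
    rw [hfc]
  -- pairing with the projective character of the block
  let r : IrrCharacter G → ↥N → ℂ := fun ν n => (ν : G → ℂ) n
  have hdeg : ∀ ν : IrrCharacter G, ∃ d : ℕ, (ν : G → ℂ) 1 = d := fun ν => by
    obtain ⟨d, -, hd⟩ := exists_degree_pos ν.2; exact ⟨d, hd⟩
  choose d hd using hdeg
  have hpair : ∀ f : ↥N → ℂ, ∑ ν : IrrCharacter G,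
      (if ν ∈ B then (d ν : ℂ) * ∑ s : ↥N, r ν s * conj (f s) else 0) =
      ∑ s : ↥N, conj (f s) * ∑ ν : IrrCharacter G,
        (if ν ∈ B then (ν : G → ℂ) s * conj ((ν : G → ℂ) 1) else 0) := fun f => by
    simp only [Finset.mul_sum]
    rw [Finset.sum_comm]
    refine Finset.sum_congr rfl fun ν _ => ?_
    split_ifs
    · refine Finset.sum_congr rfl fun s _ => ?_
      rw [hd, map_natCast]; ring
    · simp
  have hzero : ∀ s : ↥N, p ∣ orderOf s → ∑ ν : IrrCharacter G,
      (if ν ∈ B then (ν : G → ℂ) s * conj ((ν : G → ℂ) 1) else 0) = 0 := fun s hs => by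
    have h := congrArg conj (weak_orthogonality hM hB (x := 1) (y := (s : G))
      (by rw [orderOf_one]; exact hp.out.not_dvd_one) (by rwa [Subgroup.orderOf_coe]))
    rw [map_sum, map_zero] at h
    refine (Finset.sum_congr rfl fun ν _ => ?_).trans h
    rw [apply_ite conj, map_zero, map_mul, Complex.conj_conj, mul_comm]
  have hkey : ∑ ν : IrrCharacter G, (if ν ∈ B then (d ν : ℂ) * ∑ s : ↥N, r ν s * conj (θ s) else 0) =
      ∑ φ, (m φ : ℂ) * ∑ ν : IrrCharacter G,
        (if ν ∈ B then (d ν : ℂ) * ∑ s : ↥N, r ν s * conj (hf φ s) else 0) := by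
    simp only [hpair]
    conv_rhs => enter [2, φ]; rw [Finset.mul_sum]
    rw [Finset.sum_comm]
    refine Finset.sum_congr rfl fun s _ => ?_
    by_cases hs : p ∣ orderOf s
    · simp [hzero s hs]
    · rw [hreg s hs, map_sum, Finset.sum_mul]
      exact Finset.sum_congr rfl fun φ _ => by rw [map_mul, map_natCast, mul_assoc]
  have hinner : ∀ ν ∈ B, ∀ f : ↥N → ℂ, IsIrrCharacter ↥N f →
      ∑ s : ↥N, r ν s * conj (f s) = if r ν = f then (Nat.card ↥N : ℂ) else 0 := fun ν hν f hf' => by
    rw [← card_mul_classInner]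
    have h := classInner_irrCharacter (G := ↥N) ⟨r ν, hirr ν hν⟩ ⟨f, hf'⟩
    rw [show Cfsg.classInner (r ν) f = _ from h]
    by_cases he' : r ν = f
    · rw [if_pos he', if_pos (Subtype.ext he'), mul_one]
    · rw [if_neg he', if_neg fun h' => he' (congrArg Subtype.val h'), mul_zero]
  let F : (↥N → ℂ) → ℕ := fun f => ∑ ν : IrrCharacter G, if ν ∈ B ∧ r ν = f then d ν else 0
  have hF : ∀ f : ↥N → ℂ, IsIrrCharacter ↥N f → ∑ ν : IrrCharacter G,
      (if ν ∈ B then (d ν : ℂ) * ∑ s : ↥N, r ν s * conj (f s) else 0) =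
        (Nat.card ↥N : ℂ) * (F f : ℂ) := fun f hf' => by
    simp only [F, Nat.cast_sum, Finset.mul_sum (a := (Nat.card ↥N : ℂ))]
    refine Finset.sum_congr rfl fun ν _ => ?_
    by_cases hν : ν ∈ B
    · rw [if_pos hν, hinner ν hν f hf']
      by_cases he' : r ν = f <;> simp [hν, he', mul_comm]
    · simp [hν]
  rw [hF θ hθ, Finset.sum_congr rfl fun φ _ => by rw [hF _ (hfirr φ), mul_left_comm],
    ← Finset.mul_sum] at hkey
  have hkey' : F θ = ∑ φ, m φ * F (hf φ) := by
    have := mul_left_cancel₀ (Nat.cast_ne_zero.mpr Nat.card_pos.ne') hkey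
    exact_mod_cast this
  -- the two bounds
  choose b hb using fun φ : IrrCharacter H => exists_degree_pos φ.2
  have hbF : ∀ φ, F (hf φ) ≤ b φ := fun φ => by
    by_cases hex : ∃ ν, ν ∈ B ∧ r ν = hf φ
    · obtain ⟨ν, hν, hrν⟩ := hex
      have huniq : ∀ ν', ν' ∈ B ∧ r ν' = hf φ → ν' = ν := fun ν' h' => by
        refine (eq_of_res_eq P (fun n hn => ?_) (fun u hu => ?_)).symm
        · exact congrFun (hrν.trans h'.2.symm) ⟨n, hn⟩
        · have h1 := congrFun hrν ⟨u, hPN hu⟩
          have h2 := congrFun hrν 1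
          simp only [r, hf, OneMemClass.coe_one] at h1 h2
          rw [h1, h2]
          refine congrArg (fun q : ↥N ⧸ Q => (φ : H → ℂ) (e q)) ?_
          exact ((QuotientGroup.eq_one_iff _).mpr (Subgroup.mem_subgroupOf.mpr
            (show ((⟨u, hPN hu⟩ : ↥N) : G) ∈ (P : Subgroup G) from hu))).trans
              (QuotientGroup.mk_one _).symm
      simp only [F]
      rw [Finset.sum_eq_single ν (fun ν' _ hν' => if_neg fun h' => hν' (huniq ν' h'))
        (by simp), if_pos ⟨hν, hrν⟩]
      have h2 := congrFun hrν 1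
      simp only [r, OneMemClass.coe_one, hd] at h2
      rw [show hf φ 1 = (φ : H → ℂ) 1 from hfH φ 1, (hb φ).2] at h2
      have : d ν = b φ := by exact_mod_cast h2
      exact this.le
    · simp only [F]
      refine le_of_eq_of_le (Finset.sum_eq_zero fun ν _ => if_neg fun h' => hex ⟨ν, h'⟩) (Nat.zero_le _)
  have hdθ : d χ = ∑ φ, m φ * b φ := by
    have h1 := congrFun hm 1
    simp only [Function.comp_apply, map_one, Finset.sum_apply, Pi.smul_apply, smul_eq_mul,
      fun φ => (hb φ).2] at h1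
    simp only [θ, OneMemClass.coe_one, hd] at h1
    exact_mod_cast h1
  have hle : F θ ≤ d χ := hkey' ▸ hdθ ▸ Finset.sum_le_sum fun φ _ => Nat.mul_le_mul_left _ (hbF φ)
  have hdη : d η = d χ := by
    have := heq 1 (one_mem _)
    rw [hd, hd] at this
    exact_mod_cast this.symm
  have hge : d χ + d η ≤ F θ := by
    rw [← Finset.sum_pair hne]
    refine le_trans (le_of_eq ?_) (Finset.sum_le_sum_of_subset (Finset.subset_univ {χ, η}))
    refine Finset.sum_congr rfl fun ν hν => (if_pos ?_).symm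
    rcases Finset.mem_insert.mp hν with h' | h'
    · subst h'; exact ⟨hχ, rfl⟩
    · rw [Finset.mem_singleton] at h'; subst h'
      exact ⟨hη, funext fun n => (heq n n.2).symm⟩
  obtain ⟨dd, hdd, hdd'⟩ := exists_degree_pos χ.2
  have : dd = d χ := by exact_mod_cast hdd'.symm.trans (hd χ)
  omega

/-- The block idempotent is reproduced through a subgroup on which the block restricts faithfully. -/
theorem blockCoeff_reproduce [Fintype G] (B : Set (IrrCharacter G)) (N : Subgroup G) [Fintype N]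
    [DecidablePred (· ∈ B)]
    (hidem : ∀ g : G, ∑ h : G, blockCoeff B h * blockCoeff B (h⁻¹ * g) = blockCoeff B g)
    (horth : ∀ χ ∈ B, ∀ η ∈ B, ∑ n : N, (χ : G → ℂ) n * conj ((η : G → ℂ) n) =
      if χ = η then (Nat.card N : ℂ) else 0) (g x : G) :
    blockCoeff B (g * x⁻¹) =
      (N.index : ℂ) * ∑ n : N, blockCoeff B (g * (n : G)⁻¹) * blockCoeff B ((n : G) * x⁻¹) := by
  classical
  have hconj : ∀ g, conj (blockCoeff B g) = blockCoeff B g⁻¹ := fun g => by
    rw [blockCoeff_eq, blockCoeff_eq, map_mul, map_inv₀, map_natCast, map_sum]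
    congr 1
    refine Finset.sum_congr rfl fun χ _ => ?_
    rw [apply_ite conj, map_zero, map_mul, char_conj_one (isCharacter_of_isIrr χ.2),
      char_inv (isCharacter_of_isIrr χ.2)]
  set e := blockCoeff B with he
  have star' : ∀ a b : G, ∑ x : G, e (a * x⁻¹) * e (x * b⁻¹) = e (a * b⁻¹) := fun a b => by
    refine (Fintype.sum_equiv ((Equiv.inv G).trans (Equiv.mulLeft a)) _ _ fun x => ?_).trans
      (hidem (a * b⁻¹))
    simp only [Equiv.trans_apply, Equiv.inv_apply, Equiv.coe_mulLeft]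
    congr 2
    group
  have hcN : (N.index : ℂ) * (Nat.card N : ℂ) = (Nat.card G : ℂ) := by
    rw [← Nat.cast_mul, N.index_mul_card]
  have hne : (Nat.card G : ℂ) ≠ 0 := Nat.cast_ne_zero.mpr Nat.card_pos.ne'
  have hNsum : (N.index : ℂ) * ∑ n : N, e (n : G) * e (n : G)⁻¹ = e 1 := by
    simp only [he, blockCoeff_eq, Finset.mul_sum, Finset.sum_mul]
    rw [Finset.sum_comm]
    refine Finset.sum_congr rfl fun χ _ => ?_
    rw [Finset.sum_comm]
    by_cases hχ : χ ∈ B
    · rw [Finset.sum_eq_single χ]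
      · simp only [if_pos hχ, map_one, char_inv (isCharacter_of_isIrr χ.2), Complex.conj_conj,
          char_conj_one (isCharacter_of_isIrr χ.2)]
        have h1 := horth χ hχ χ hχ
        rw [if_pos rfl] at h1
        calc _ = (N.index : ℂ) * ((Nat.card G : ℂ)⁻¹ * (Nat.card G : ℂ)⁻¹ *
              ((χ : G → ℂ) 1 * (χ : G → ℂ) 1)) *
              ∑ n : N, (χ : G → ℂ) n * conj ((χ : G → ℂ) n) := by
                rw [Finset.mul_sum]; exact Finset.sum_congr rfl fun n _ => by ring
          _ = (Nat.card G : ℂ)⁻¹ * ((N.index : ℂ) * (Nat.card N : ℂ) * (Nat.card G : ℂ)⁻¹) *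
              ((χ : G → ℂ) 1 * (χ : G → ℂ) 1) := by rw [h1]; ring
          _ = _ := by rw [hcN, mul_inv_cancel₀ hne, mul_one]
      · intro η _ hη
        by_cases hηB : η ∈ B
        · simp only [if_pos hχ, if_pos hηB, char_inv (isCharacter_of_isIrr χ.2),
            char_inv (isCharacter_of_isIrr η.2), Complex.conj_conj]
          have h1 := horth χ hχ η hηB
          rw [if_neg (Ne.symm hη)] at h1
          calc _ = (N.index : ℂ) * ((Nat.card G : ℂ)⁻¹ * (Nat.card G : ℂ)⁻¹ *
                ((χ : G → ℂ) 1 * (η : G → ℂ) 1)) *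
                ∑ n : N, (χ : G → ℂ) n * conj ((η : G → ℂ) n) := by
                  rw [Finset.mul_sum]; exact Finset.sum_congr rfl fun n _ => by ring
            _ = 0 := by rw [h1, mul_zero]
        · simp [hηB]
      · simp
    · simp [hχ]
  set c := (N.index : ℂ) with hc
  let D : G → G → ℂ := fun g x => e (g * x⁻¹) - c * ∑ n : N, e (g * (n : G)⁻¹) * e ((n : G) * x⁻¹)
  have hcc : conj c = c := by rw [hc, map_natCast]
  have hT1 : ∑ g : G, ∑ x : G, e (g * x⁻¹) * conj (e (g * x⁻¹)) = (Nat.card G : ℂ) * e 1 := by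
    rw [Nat.card_eq_fintype_card, ← nsmul_eq_mul, ← Finset.card_univ, ← Finset.sum_const]
    refine Finset.sum_congr rfl fun g _ => ?_
    rw [show e 1 = e (g * g⁻¹) by rw [mul_inv_cancel], ← star' g g]
    refine Finset.sum_congr rfl fun x _ => ?_
    rw [hconj, mul_inv_rev, inv_inv]
  have hN1 : ∑ n : N, e ((n : G) * (n : G)⁻¹) = (Nat.card N : ℂ) * e 1 := by
    simp [Nat.card_eq_fintype_card, Finset.card_univ]
  have hT2 : ∑ g : G, ∑ x : G, e (g * x⁻¹) *
      conj (∑ n : N, e (g * (n : G)⁻¹) * e ((n : G) * x⁻¹)) = (Nat.card N : ℂ) * e 1 := by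
    simp only [map_sum, map_mul, hconj, mul_inv_rev, inv_inv, Finset.mul_sum]
    rw [Finset.sum_congr rfl fun g _ => Finset.sum_comm, Finset.sum_comm, ← hN1]
    refine Finset.sum_congr rfl fun n _ => ?_
    rw [← star' (n : G) (n : G)]
    refine Finset.sum_congr rfl fun g _ => ?_
    rw [← star' g (n : G), Finset.mul_sum]
    exact Finset.sum_congr rfl fun x _ => by ring
  have hT3 : ∑ g : G, ∑ x : G, (∑ n : N, e (g * (n : G)⁻¹) * e ((n : G) * x⁻¹)) *
      conj (∑ n : N, e (g * (n : G)⁻¹) * e ((n : G) * x⁻¹)) =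
      (Nat.card N : ℂ) * ∑ n : N, e (n : G) * e (n : G)⁻¹ := by
    simp only [map_sum, map_mul, hconj, mul_inv_rev, inv_inv, Finset.mul_sum, Finset.sum_mul]
    rw [Finset.sum_congr rfl fun g _ => Finset.sum_comm, Finset.sum_comm,
      Finset.sum_congr rfl fun m _ => Finset.sum_congr rfl fun g _ => Finset.sum_comm,
      Finset.sum_congr rfl fun m _ => Finset.sum_comm]
    calc _ = ∑ m : N, ∑ n : N, e ((m : G) * (n : G)⁻¹) * e ((n : G) * (m : G)⁻¹) := by
          refine Finset.sum_congr rfl fun m _ => Finset.sum_congr rfl fun n _ => ?_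
          rw [← star' (m : G) (n : G), ← star' (n : G) (m : G), Finset.sum_mul]
          refine Finset.sum_congr rfl fun g _ => ?_
          rw [Finset.mul_sum]
          exact Finset.sum_congr rfl fun x _ => by ring
      _ = ∑ m : N, ∑ n : N, e (n : G) * e (n : G)⁻¹ := by
          refine Finset.sum_congr rfl fun m _ => ?_
          refine Fintype.sum_equiv ((Equiv.inv N).trans (Equiv.mulLeft m)) _ _ fun n => ?_
          simp
      _ = _ := by
          rw [Finset.sum_const, Finset.card_univ, nsmul_eq_mul, Nat.card_eq_fintype_card,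
            Finset.mul_sum]
  have hS : ∑ g : G, ∑ x : G, D g x * conj (D g x) = 0 := by
    have hT2' := congrArg conj hT2
    simp only [map_sum, map_mul, map_natCast, Complex.conj_conj] at hT2'
    have hexp : ∀ g x, D g x * conj (D g x) = e (g * x⁻¹) * conj (e (g * x⁻¹))
        - c * (e (g * x⁻¹) * conj (∑ n : N, e (g * (n : G)⁻¹) * e ((n : G) * x⁻¹)))
        - c * (conj (e (g * x⁻¹)) * ∑ n : N, e (g * (n : G)⁻¹) * e ((n : G) * x⁻¹))
        + c * c * ((∑ n : N, e (g * (n : G)⁻¹) * e ((n : G) * x⁻¹)) *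
            conj (∑ n : N, e (g * (n : G)⁻¹) * e ((n : G) * x⁻¹))) := fun g x => by
      simp only [D, map_sub, map_mul, hcc]; ring
    simp only [hexp, Finset.sum_add_distrib, Finset.sum_sub_distrib, ← Finset.mul_sum]
    rw [hT1, hT2, hT2', hT3, hconj 1, inv_one,
      show c * c * ((Nat.card N : ℂ) * ∑ n : N, e (n : G) * e (n : G)⁻¹) =
        c * (Nat.card N : ℂ) * (c * ∑ n : N, e (n : G) * e (n : G)⁻¹) by ring,
      hNsum, ← mul_assoc, hcN]
    ring
  have hS' : ∑ g : G, ∑ x : G, Complex.normSq (D g x) = 0 := by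
    have : ((∑ g : G, ∑ x : G, Complex.normSq (D g x) : ℝ) : ℂ) = 0 := by
      rw [← hS]; push_cast; simp [Complex.mul_conj]
    exact_mod_cast this
  have h1 := (Finset.sum_eq_zero_iff_of_nonneg fun g _ =>
    Finset.sum_nonneg fun x _ => Complex.normSq_nonneg _).mp hS' g (Finset.mem_univ g)
  have h2 := (Finset.sum_eq_zero_iff_of_nonneg fun x _ => Complex.normSq_nonneg _).mp h1 x
    (Finset.mem_univ x)
  exact sub_eq_zero.mp (Complex.normSq_eq_zero.mp h2)

attribute [local instance] resField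

theorem backward [Finite G] (hM : IsPModular p M) (P : Sylow p G)
    (hirr : ∀ χ ∈ principalBlock M G,
      IsIrrCharacter ↥(Subgroup.normalizer ((P : Subgroup G) : Set G))
      (fun n : ↥(Subgroup.normalizer ((P : Subgroup G) : Set G)) => (χ : G → ℂ) n)) :
    PLengthLE p 1 G := by
  classical
  have : M.IsMaximal := hM.2.1
  have : CharP (Res M) p := res_charP M hM
  let _ := Fintype.ofFinite G
  let N := Subgroup.normalizer ((P : Subgroup G) : Set G)
  rw [principalBlock_eq] at hirr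
  have hB : IsPBlock M (blockOf M ((irrOne : IrrCharacter G) : G → ℂ)) := isPBlock_blockOf _
  generalize blockOf M ((irrOne : IrrCharacter G) : G → ℂ) = B at hirr hB
  have horth : ∀ χ ∈ B, ∀ η ∈ B, ∑ n : N, (χ : G → ℂ) n * conj ((η : G → ℂ) n) =
      if χ = η then (Nat.card N : ℂ) else 0 := fun χ hχ η hη => by
    have h := classInner_irrCharacter (G := ↥N) ⟨_, hirr χ hχ⟩ ⟨_, hirr η hη⟩
    rw [← card_mul_classInner (G := ↥N)]
    rw [show Cfsg.classInner (fun n : N => (χ : G → ℂ) n) (fun n : N => (η : G → ℂ) n) = _ from h]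
    by_cases he : χ = η
    · subst he; simp
    · rw [if_neg he, if_neg, mul_zero]
      exact fun h' => he (res_injective hM P hB hχ hη hirr
        fun n hn => congrFun (congrArg Subtype.val h') ⟨n, hn⟩)
  have hidem : ∀ g : G, ∑ h : G, blockCoeff B h * blockCoeff B (h⁻¹ * g) = blockCoeff B g :=
    fun g => by
      have h := congrArg (fun a : Zint M G => (a : CA G).coeff g) (idem_mul_self hB)
      simpa [idem, blockElt, coeff_mul_eq_sum, coeff_ofFun] using h
  set E := ridem hB with hE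
  have hEc : ∀ g, E.coeff g = res M ⟨blockCoeff B g, blockCoeff_mem_locRing hB g⟩ := fun g => by
    rw [hE, ridem, coeff_red, rcoeff]
    exact congrArg (res M) (Subtype.ext (coeff_ofFun _ g))
  have hEconj : ∀ g h : G, E.coeff (h * g * h⁻¹) = E.coeff g := fun g h => by
    rw [hEc, hEc]; exact congrArg (res M) (Subtype.ext (blockCoeff_conj B g h))
  have hEcen : ∀ z : MonoidAlgebra (Res M) G, z * E = E * z := fun z =>
    Subsemiring.mem_center_iff.mp ((mem_center_iff E).mpr hEconj) z
  let ι : MonoidAlgebra (Res M) ↥N →+* MonoidAlgebra (Res M) G :=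
    MonoidAlgebra.mapDomainRingHom _ N.subtype
  let Q : Subgroup ↥N := (P : Subgroup G).subgroupOf N
  have : Q.Normal := Subgroup.normal_subgroupOf_of_le_normalizer le_rfl
  have hQp : IsPGroup p Q :=
    P.isPGroup'.of_equiv (Subgroup.subgroupOfEquivOfLe Subgroup.le_normalizer).symm
  let π := MonoidAlgebra.mapDomainRingHom (Res M) (QuotientGroup.mk' Q)
  let δ : G → MonoidAlgebra (Res M) G := fun g => MonoidAlgebra.single g 1
  have hδ : ∀ a b, δ (a * b) = δ a * δ b := fun a b => by
    simp only [δ, MonoidAlgebra.single_mul_single, one_mul]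
  have hδ1 : δ 1 = 1 := MonoidAlgebra.one_def.symm
  -- every group element acts on the block as an element of the normalizer's algebra
  have hspan : ∀ g : G, ∃ a, δ g * E = ι a * E := by
    intro g
    have hmem : ∀ n : N, (N.index : ℂ) * blockCoeff B (g⁻¹ * (n : G)) ∈ locRing M := fun n =>
      mul_mem (natCast_mem _ _) (blockCoeff_mem_locRing hB _)
    refine ⟨∑ n : N, MonoidAlgebra.single n (res M ⟨_, hmem n⟩), ?_⟩
    refine MonoidAlgebra.coeff_injective (Finsupp.ext fun y => ?_)
    rw [map_sum]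
    simp only [ι, δ, MonoidAlgebra.mapDomainRingHom_apply, MonoidAlgebra.mapDomain_single,
      Finset.sum_mul, MonoidAlgebra.coeff_sum, Finsupp.coe_finsetSum, Finset.sum_apply,
      MonoidAlgebra.single_mul_apply, hEc, one_mul, ← map_mul, ← map_sum]
    refine congrArg (res M) (Subtype.ext ?_)
    have h := blockCoeff_reproduce B N hidem horth g⁻¹ y⁻¹
    rw [inv_inv] at h
    refine h.trans ?_
    rw [AddSubmonoidClass.coe_finsetSum, Finset.mul_sum]
    refine Fintype.sum_equiv (Equiv.inv N) _ _ fun n => ?_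
    simp [mul_assoc]
  -- elements acting as unipotent elements of the normalizer's algebra
  let C : G → Prop := fun g => ∃ x, π x = 0 ∧ δ g * E = E + ι x * E
  have hCmul : ∀ a b, C a → C b → C (a * b) := by
    rintro a b ⟨x, hx, ha⟩ ⟨y, hy, hb⟩
    obtain ⟨t, ht⟩ := hspan a
    refine ⟨x + t * y, by rw [map_add, map_mul, hx, hy, mul_zero, add_zero], ?_⟩
    rw [hδ, mul_assoc, hb, mul_add, ha, hEcen (ι y), ← mul_assoc (δ a), ht, mul_assoc (ι t),
      ← hEcen (ι y), ← mul_assoc, ← map_mul, map_add, add_mul, add_assoc]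
  have hC1 : C 1 := ⟨0, map_zero _, by rw [hδ1, one_mul, map_zero, zero_mul, add_zero]⟩
  have hCpow : ∀ a, C a → ∀ i : ℕ, C (a ^ i) := fun a ha i => by
    induction i with
    | zero => rwa [pow_zero]
    | succ i ih => rw [pow_succ]; exact hCmul _ _ ih ha
  let W : Subgroup G :=
    { carrier := {g | C g}
      mul_mem' := fun ha hb => hCmul _ _ ha hb
      one_mem' := hC1
      inv_mem' := fun {a} ha => by
        show C a⁻¹
        rw [show a⁻¹ = a ^ (orderOf a - 1) from inv_eq_of_mul_eq_one_right (by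
          rw [← pow_succ', Nat.sub_add_cancel (orderOf_pos a), pow_orderOf_eq_one])]
        exact hCpow a ha _ }
  have hWn : W.Normal := ⟨fun a ha t => by
    obtain ⟨x, hx, ha⟩ := ha
    obtain ⟨u, hu⟩ := hspan t
    obtain ⟨v, hv⟩ := hspan t⁻¹
    refine ⟨u * x * v, by rw [map_mul, map_mul, hx, mul_zero, zero_mul], ?_⟩
    rw [hδ, hδ, mul_assoc, hEcen, ← mul_assoc, mul_assoc (δ t), ha, mul_add, add_mul]
    congr 1
    · rw [mul_assoc, ← hEcen, ← mul_assoc, ← hδ, mul_inv_cancel, hδ1, one_mul]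
    · rw [hEcen (ι x), ← mul_assoc (δ t), hu, mul_assoc (ι u), ← hEcen (ι x), ← mul_assoc,
        mul_assoc _ E, ← hEcen (δ t⁻¹), hv, ← mul_assoc, ← map_mul, ← map_mul]⟩
  let S : Subgroup G :=
    { carrier := {g | δ g * E = E}
      mul_mem' := fun {a b} ha hb => by
        show δ (a * b) * E = E
        rw [hδ, mul_assoc, show δ b * E = E from hb]; exact ha
      one_mem' := by show δ 1 * E = E; rw [hδ1, one_mul]
      inv_mem' := fun {a} ha => by
        show δ a⁻¹ * E = E
        conv_lhs => rw [← show δ a * E = E from ha, ← mul_assoc, ← hδ, inv_mul_cancel, hδ1, one_mul] }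
  have hSn : S.Normal := ⟨fun a ha t => by
    show δ (t * a * t⁻¹) * E = E
    rw [hδ, hδ, mul_assoc, hEcen, ← mul_assoc, mul_assoc (δ t), show δ a * E = E from ha, hEcen,
      mul_assoc, ← hδ, mul_inv_cancel, hδ1, mul_one]⟩
  have hSp : ¬ p ∣ Nat.card S := fun hdvd => by
    obtain ⟨⟨y, hyS⟩, hy⟩ := exists_prime_orderOf_dvd_card' p hdvd
    rw [← Subgroup.orderOf_coe] at hy
    let Y : Subgroup G := Subgroup.zpowers y
    have hYS : Y ≤ S := Subgroup.zpowers_le.mpr hyS
    have hYp : IsPGroup p Y := IsPGroup.of_card (n := 1) (by rw [Nat.card_zpowers, hy, pow_one])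
    have hshift : ∀ s ∈ S, ∀ z, E.coeff (s * z) = E.coeff z := fun s hs z => by
      conv_lhs => rw [← show δ s * E = E from hs]
      simp [δ, MonoidAlgebra.single_mul_apply]
    apply ridem_ne_zero hB
    rw [← hE, ← show E * E = E from ridem_mul_self hB]
    refine MonoidAlgebra.coeff_injective (Finsupp.ext fun g => ?_)
    rw [coeff_mul_eq_sum, sum_eq_sum_fixedPoints (P := Y) (p := p) hYp _ (fun s h => ?_)]
    · rw [Finset.sum_eq_zero]
      · rfl
      intro h hh
      rw [Finset.mem_filter] at hh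
      have h1 : y * h = h := hh.2 ⟨y, Subgroup.mem_zpowers y⟩
      exact absurd (hy.symm.trans (orderOf_eq_one_iff.mpr (mul_eq_right.mp h1))) hp.out.ne_one
    · show E.coeff ((s : G) * h) * E.coeff (((s : G) * h)⁻¹ * g) = _
      rw [hshift s (hYS s.2)]
      congr 1
      rw [← hEconj (((s : G) * h)⁻¹ * g) h, ← hEconj (h⁻¹ * g) h]
      rw [show h * (((s : G) * h)⁻¹ * g) * h⁻¹ = (s : G)⁻¹ * (g * h⁻¹) by group,
        show h * (h⁻¹ * g) * h⁻¹ = g * h⁻¹ by group, hshift _ (inv_mem (hYS s.2))]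
  have hSK : S ≤ pPrimeCore p G := CfsgLib.Cores.le_pPrimeCore_of_not_dvd hSp
  have hWS : ∀ u ∈ W, ∃ i : ℕ, u ^ p ^ i ∈ S := by
    rintro u ⟨x, hx, hu⟩
    obtain ⟨n, hn⟩ := CfsgLib.BlockArith.aug_isNilpotent_of_normal_pGroup hQp hx
    refine ⟨n, ?_⟩
    show δ (u ^ p ^ n) * E = E
    have : CharP (MonoidAlgebra (Res M) G) p :=
      charP_of_injective_algebraMap (algebraMap (Res M) (MonoidAlgebra (Res M) G)).injective p
    have hEE : E * E = E := ridem_mul_self hB
    have hpn : p ^ n ≠ 0 := pow_ne_zero _ hp.out.ne_zero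
    have hEpow : E ^ p ^ n = E := IsIdempotentElem.pow_eq hEE hpn
    have hz : x ^ p ^ n = 0 := pow_eq_zero_of_le (Nat.lt_pow_self hp.out.one_lt).le hn
    have hpow : δ (u ^ p ^ n) = δ u ^ p ^ n := by simp [δ, MonoidAlgebra.single_pow]
    have hcomm : Commute (δ u) E := hEcen _
    have hcomm' : Commute E (ι x * E) :=
      Commute.mul_right (hEcen _).symm (Commute.refl E)
    rw [hpow, ← hEpow, ← hcomm.mul_pow, hu, add_pow_char_pow_of_commute _ _ hcomm',
      (show Commute (ι x) E from hEcen _).mul_pow, ← map_pow ι, hz, map_zero, zero_mul, add_zero]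
  have hWL : W ≤ pPrimePCore p G := by
    show W ≤ (pCore p _).comap _
    rw [← Subgroup.map_le_iff_le_comap]
    have := hWn.map (QuotientGroup.mk' (pPrimeCore p G)) (QuotientGroup.mk'_surjective _)
    refine CfsgLib.Cores.le_pCore ?_
    rintro ⟨q, w, hw, rfl⟩
    obtain ⟨i, hi⟩ := hWS w hw
    refine ⟨i, Subtype.ext ?_⟩
    rw [SubgroupClass.coe_pow, OneMemClass.coe_one, ← map_pow]
    exact (QuotientGroup.eq_one_iff _).mpr (hSK hi)
  have hPW : (P : Subgroup G) ≤ W := fun u hu => by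
    refine ⟨MonoidAlgebra.single ⟨u, Subgroup.le_normalizer hu⟩ 1 - 1, ?_, ?_⟩
    · rw [map_sub, map_one, sub_eq_zero]
      simp only [π, MonoidAlgebra.mapDomainRingHom_apply, MonoidAlgebra.mapDomain_single]
      rw [MonoidAlgebra.one_def]
      congr 1
      exact (QuotientGroup.eq_one_iff _).mpr (Subgroup.mem_subgroupOf.mpr hu)
    · simp only [ι, δ, map_sub, map_one, sub_mul, one_mul, MonoidAlgebra.mapDomainRingHom_apply,
        MonoidAlgebra.mapDomain_single, Subgroup.coe_subtype, add_sub_cancel]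
  refine CfsgLib.OddLocal.Ten.pLengthLE_one_of_pPrimePCore ?_
  exact Nat.Coprime.coprime_dvd_left (Subgroup.index_dvd_of_le (hPW.trans hWL))
    ((hp.out.coprime_iff_not_dvd.mpr P.not_dvd_index).symm)

/-- Let p be a prime, M a maximal ideal of the algebraic integers containing p, G a finite group, P a Sylow p-subgroup and N = N_G(P). Then G has p-length 1 (G = O_{p',p,p'}(G)) if and only if every irreducible character in the principal p-block of G restricts to an irreducible character of N. -/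
theorem result {G : Type*} [Group G] [Finite G] (p : ℕ) [Fact p.Prime] (M : Ideal Cfsg.AlgInt) (hM : Cfsg.IsPModular p M) (P : Sylow p G) : Cfsg.PLengthLE p 1 G ↔ ∀ χ ∈ Cfsg.principalBlock M G, Cfsg.IsIrrCharacter ↥(Subgroup.normalizer ((P : Subgroup G) : Set G)) (fun n : ↥(Subgroup.normalizer ((P : Subgroup G) : Set G)) => (χ : G → ℂ) n) := by
  exact ⟨forward hM P, backward hM P⟩

end Cfsg.Agent.S4711
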