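import Cfsg.Statements.S4712
import Cfsg.Agent.Lib.Modular.SectionTrace
import Mathlib.RingTheory.ZMod.UnitsCyclic

set_option autoImplicit false
open Cfsg

namespace Cfsg.Agent.S4712

/-- Let p be an odd prime, M a maximal ideal of the algebraic integers containing p, G a finite group of order n with p-part p^a, and B a p-block of G. Call an irreducible character χ p-rational when χ(g^k) = χ(g) for every g and every k coprime to n with k ≡ 1 modulo n/p^a (χ is fixed by the Galois automorphisms fixing the roots of unity of order prime to p). Then the number of p-rational irreducible characters in B is at least the p-regular rank of B (the number of irreducible Brauer characters in B). -/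
theorem result {G : Type*} [Group G] [Finite G] (p : ℕ) [Fact p.Prime] (hodd : p ≠ 2) (M : Ideal Cfsg.AlgInt) (hM : Cfsg.IsPModular p M) (B : Set (Cfsg.IrrCharacter G)) (hB : Cfsg.IsPBlock M B) : Cfsg.blockRank p B ≤ Nat.card {χ : Cfsg.IrrCharacter G // χ ∈ B ∧ ∀ k : ℕ, Nat.Coprime k (Nat.card G) → k ≡ 1 [MOD Nat.card G / p ^ (Nat.card G).factorization p] → ∀ g : G, (χ : G → ℂ) (g ^ k) = (χ : G → ℂ) g} := by
  classical
  have := Fintype.ofFinite G
  have := hM.2.1
  have hp : p.Prime := Fact.out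
  set a := (Nat.card G).factorization p with ha
  set m := Nat.card G / p ^ a with hm
  have hcard : p ^ a * m = Nat.card G := Nat.ordProj_mul_ordCompl_eq_self _ p
  have hcop : Nat.Coprime (p ^ a) m :=
    (hp.coprime_iff_not_dvd.mpr (Nat.not_dvd_ordCompl hp Nat.card_pos.ne')).pow_left _
  have : NeZero (p ^ a) := ⟨pow_ne_zero _ hp.ne_zero⟩
  have := ZMod.isCyclic_units_of_prime_pow p hp hodd a
  obtain ⟨g, hg⟩ := IsCyclic.exists_monoid_generator (α := (ZMod (p ^ a))ˣ)
  obtain ⟨k₀, hk₁, hk₂⟩ := Nat.chineseRemainder hcop (g : ZMod (p ^ a)).val 1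
  have hk₀ : k₀.Coprime (Nat.card G) := by
    rw [← hcard, Nat.coprime_mul_iff_right]
    refine ⟨?_, ?_⟩
    · rw [Nat.Coprime, hk₁.gcd_eq]
      exact ZMod.val_coe_unit_coprime g
    · rw [Nat.Coprime, hk₂.gcd_eq, Nat.gcd_one_left]
  have hreg : ∀ x : G, ¬ p ∣ orderOf x → x ^ k₀ = x := fun x hx => by
    have hdvd : orderOf x ∣ m :=
      Nat.Coprime.dvd_of_dvd_mul_left ((hp.coprime_iff_not_dvd.mpr hx).pow_left a).symm
        (hcard.symm ▸ orderOf_dvd_natCard x)
    exact (pow_eq_pow_iff_modEq.mpr (hk₂.of_dvd hdvd)).trans (pow_one x)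
  obtain ⟨σ, hσ⟩ := CfsgLib.CharNormal.exists_ringEquiv_root_pow (n := Nat.card G) Nat.card_pos.ne' hk₀
  refine (CfsgLib.Modular.galois_trace_ge hM hσ hk₀ hreg hB).trans
    (Nat.card_le_card_of_injective (fun χ => ⟨χ.1, χ.2.1, ?_⟩)
      fun a b h => Subtype.ext (congrArg (fun t => t.1) h))
  intro k hk hkm x
  have hstep : ∀ y : G, (χ.1 : G → ℂ) (y ^ k₀) = (χ.1 : G → ℂ) y := fun y => by
    rw [← CfsgLib.CharNormal.ringEquiv_char_apply hσ (CfsgLib.Char.isCharacter_of_isIrr χ.1.2)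
      (orderOf_dvd_natCard y), ← CfsgLib.CharNormal.galIrr_apply, χ.2.2]
  have hiter : ∀ (j : ℕ) (y : G), (χ.1 : G → ℂ) (y ^ k₀ ^ j) = (χ.1 : G → ℂ) y := by
    intro j
    induction j with
    | zero => intro y; simp
    | succ j ih => intro y; rw [pow_succ, pow_mul, hstep, ih]
  have hku : Nat.Coprime k (p ^ a) := Nat.Coprime.coprime_dvd_right (Dvd.intro m hcard) hk
  obtain ⟨j, hj⟩ := Submonoid.mem_powers_iff _ _ |>.mp (hg (ZMod.unitOfCoprime k hku))
  have hmod : k ≡ k₀ ^ j [MOD Nat.card G] := by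
    rw [← hcard]
    refine (Nat.modEq_and_modEq_iff_modEq_mul hcop).mp ⟨?_, hkm.trans ?_⟩
    · rw [← ZMod.natCast_eq_natCast_iff]
      push_cast
      rw [(ZMod.natCast_eq_natCast_iff _ _ _).mpr hk₁, ZMod.natCast_zmod_val, ← Units.val_pow_eq_pow_val, hj,
        ZMod.coe_unitOfCoprime]
    · exact (by simpa using hk₂.pow j : k₀ ^ j ≡ 1 [MOD m]).symm
  rw [pow_eq_pow_iff_modEq.mpr (hmod.of_dvd (orderOf_dvd_natCard x)), hiter]

end Cfsg.Agent.S4712
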