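import Cfsg.Statements.S4717
import Cfsg.Agent.Lib.BrauerPairs.MajorSubsection
import Cfsg.Agent.Lib.Blocks.ThirdMain
import Cfsg.Agent.Lib.Blocks.Consequences
import Cfsg.Agent.Lib.Blocks.PrincipalSection

set_option autoImplicit false
open Cfsg

namespace Cfsg.Agent.S4717

/-- Let p be a prime, M a maximal ideal of the algebraic integers containing p, and r a natural number; say that a finite group X has deficiency class r when X has no non-principal p-block of defect ≥ r. If G has deficiency class r then so does the centralizer of every p-element of G; conversely, if r > 0 and the centralizer of every element of order p has deficiency class r, then G has deficiency class r. -/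
theorem result {G : Type*} [Group G] [Finite G] (p : ℕ) [Fact p.Prime] (M : Ideal Cfsg.AlgInt) (hM : Cfsg.IsPModular p M) (r : ℕ) : ((∀ B' : Set (Cfsg.IrrCharacter G), Cfsg.IsPBlock M B' → B' ≠ Cfsg.principalBlock M G → Cfsg.blockDefect p B' < r) → ∀ y : G, (∃ k : ℕ, orderOf y = p ^ k) → (∀ B' : Set (Cfsg.IrrCharacter ↥(Subgroup.centralizer ({y} : Set G))), Cfsg.IsPBlock M B' → B' ≠ Cfsg.principalBlock M ↥(Subgroup.centralizer ({y} : Set G)) → Cfsg.blockDefect p B' < r)) ∧ (0 < r → (∀ y : G, orderOf y = p → (∀ B' : Set (Cfsg.IrrCharacter ↥(Subgroup.centralizer ({y} : Set G))), Cfsg.IsPBlock M B' → B' ≠ Cfsg.principalBlock M ↥(Subgroup.centralizer ({y} : Set G)) → Cfsg.blockDefect p B' < r)) → (∀ B' : Set (Cfsg.IrrCharacter G), Cfsg.IsPBlock M B' → B' ≠ Cfsg.principalBlock M G → Cfsg.blockDefect p B' < r)) := by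
  classical
  have : Fintype G := Fintype.ofFinite G
  have : M.IsMaximal := hM.2.1
  have hp : p.Prime := Fact.out
  constructor
  · intro hG y hy b hb hne
    have : Fintype (Subgroup.centralizer ({y} : Set G)) := Fintype.ofFinite _
    obtain ⟨B', hind⟩ := CfsgLib.Blocks.exists_inducedBlock_centralizer hM hy hb
    have hB' : IsPBlock M B' := ((CfsgLib.Blocks.isInducedBlock_iff _).mp hind).2.1
    have hB'ne : B' ≠ principalBlock M G := by
      rintro rfl
      exact hne ((CfsgLib.Blocks.third_main hM ⟨_, hind⟩).mp hind)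
    obtain ⟨D, hD⟩ := CfsgLib.Blocks.exists_isDefectGroup (p := p) hb
    obtain ⟨E, hE⟩ := CfsgLib.Blocks.exists_isDefectGroup (p := p) hB'
    obtain ⟨x, hx⟩ := CfsgLib.Blocks.defect_le_of_induced hM hind hD hE
    have h := CfsgLib.Blocks.card_le_of_cj_le hx
    rw [Subgroup.card_map_of_injective (Subgroup.subtype_injective _),
      CfsgLib.Blocks.card_defectGroup hM hb hD, CfsgLib.Blocks.card_defectGroup hM hB' hE] at h
    exact lt_of_le_of_lt ((Nat.pow_le_pow_iff_right hp.one_lt).mp h) (hG B' hB' hB'ne)
  · intro hr hC B hB hne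
    by_contra hlt
    obtain ⟨D, hD⟩ := CfsgLib.Blocks.exists_isDefectGroup (p := p) hB
    have hDp : IsPGroup p D := CfsgLib.Blocks.IsDefectGroup.isPGroup hD
    have hcard := CfsgLib.Blocks.card_defectGroup hM hB hD
    have h1 : 1 < Nat.card D := by
      rw [hcard]; exact Nat.one_lt_pow (by omega) hp.one_lt
    have : Nontrivial D := Finite.one_lt_card_iff_nontrivial.mp h1
    have := hDp.center_nontrivial
    obtain ⟨z, hz⟩ := exists_prime_orderOf_dvd_card' (G := Subgroup.center D) p (by
      obtain ⟨n, hn⟩ := (hDp.to_subgroup (Subgroup.center D)).exists_card_eq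
      rcases n.eq_zero_or_pos with h0 | h0
      · have := (Finite.one_lt_card (α := Subgroup.center D)); rw [h0, pow_zero] at hn; omega
      · rw [hn]; exact dvd_pow_self _ h0.ne')
    have hzo : orderOf ((z : D) : G) = p := by
      rw [Subgroup.orderOf_coe, Subgroup.orderOf_coe, hz]
    have hzc : ∀ d ∈ D, d * ((z : D) : G) = ((z : D) : G) * d := fun d hd =>
      congrArg Subtype.val (Subgroup.mem_center_iff.mp z.2 ⟨d, hd⟩)
    obtain ⟨b, hind, hd, -⟩ := CfsgLib.BrauerPairs.exists_major_subsection hM hB hD (z : D).2 hzc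
    have : Fintype (Subgroup.centralizer ({((z : D) : G)} : Set G)) := Fintype.ofFinite _
    have hb : IsPBlock M b := ((CfsgLib.Blocks.isInducedBlock_iff _).mp hind).1
    by_cases hbp : b = principalBlock M _
    · subst hbp
      exact hne (CfsgLib.Blocks.inducedBlock_unique _ hind
        ((CfsgLib.Blocks.third_main hM ⟨_, hind⟩).mpr rfl))
    · have := hC _ hzo b hb hbp
      omega


end Cfsg.Agent.S4717
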