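import Cfsg.Statements.S4718
import Cfsg.Agent.Lib.BlockArith.RegCoef

set_option autoImplicit false
universe u
open Cfsg

namespace Cfsg.Agent.S4718

/-- Egyptian fractions: with boundedly many terms and a prescribed sum, the terms are bounded. -/
theorem exists_term_bound : ∀ (k : ℕ) (q : ℚ), ∃ N : ℕ, ∀ f : Fin k → ℕ,
    (∀ i, 0 < f i) → ∑ i, (1 : ℚ) / (f i) = q → ∀ i, f i ≤ N := by
  intro k
  induction k with
  | zero => exact fun q => ⟨0, fun f _ _ i => i.elim0⟩
  | succ k ih =>
    intro q
    choose N hN using fun n : ℕ => ih (q - 1 / n)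
    set b := ⌈((k + 1 : ℕ) : ℚ) / q⌉₊
    refine ⟨max b ((Finset.range (b + 1)).sup N), fun f hf hs j => ?_⟩
    obtain ⟨i, -, hi⟩ := Finset.exists_min_image Finset.univ f Finset.univ_nonempty
    have hle : f i ≤ b := by
      have hfi : (0 : ℚ) < f i := by exact_mod_cast hf i
      have h1 : q ≤ (k + 1 : ℕ) * (1 / (f i : ℚ)) := by
        rw [← hs]
        refine (Finset.sum_le_card_nsmul _ _ _ fun j hj => ?_).trans_eq (by
          rw [Finset.card_univ, Fintype.card_fin, nsmul_eq_mul])
        exact one_div_le_one_div_of_le hfi (by exact_mod_cast hi j (Finset.mem_univ j))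
      have hq : 0 < q := hs ▸ Finset.sum_pos
        (fun j _ => div_pos one_pos (by exact_mod_cast hf j)) Finset.univ_nonempty
      have h2 : (f i : ℚ) ≤ (k + 1 : ℕ) / q := by
        rw [le_div_iff₀ hq]
        rw [mul_one_div, le_div_iff₀ hfi] at h1
        linarith
      exact_mod_cast h2.trans (Nat.le_ceil _)
    rw [Fin.sum_univ_succAbove _ i] at hs
    rcases Fin.eq_self_or_eq_succAbove i j with rfl | ⟨j', rfl⟩
    · exact hle.trans (le_max_left _ _)
    · refine le_trans ?_ (le_max_right _ _)
      exact (hN (f i) (fun l => f (i.succAbove l)) (fun l => hf _) (by rw [← hs]; ring) j').trans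
        (Finset.le_sup (Finset.mem_range.mpr (Nat.lt_succ_of_le hle)))

/-- Landau: a bound on the order from the number of classes. -/
theorem exists_bound (K : ℕ) : ∃ N : ℕ, ∀ (G : Type*) [Group G] [Finite G],
    Nat.card (ConjClasses G) ≤ K → Nat.card G ≤ N := by
  choose N hN using fun k => exists_term_bound k 1
  refine ⟨(Finset.range (K + 1)).sup N, fun G _ _ hk => ?_⟩
  classical
  have := Fintype.ofFinite G
  have : Finite (ConjClasses G) := Finite.of_surjective _ ConjClasses.mk_surjective
  have := Fintype.ofFinite (ConjClasses G)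
  let e := (Finite.equivFin (ConjClasses G)).symm
  let f : Fin (Nat.card (ConjClasses G)) → ℕ := fun i =>
    Nat.card (Subgroup.centralizer ({(e i).out} : Set G))
  have hsum : ∑ i, (1 : ℚ) / (f i) = 1 := by
    rw [Equiv.sum_comp e fun C : ConjClasses G =>
      (1 : ℚ) / (Nat.card (Subgroup.centralizer ({C.out} : Set G)))]
    have hG : (Nat.card G : ℚ) ≠ 0 := by exact_mod_cast Nat.card_pos.ne'
    apply mul_left_cancel₀ hG
    rw [Finset.mul_sum, mul_one]
    calc ∑ C : ConjClasses G, (Nat.card G : ℚ) *
          (1 / (Nat.card (Subgroup.centralizer ({C.out} : Set G))))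
        = ∑ C : ConjClasses G, ((C.carrier.toFinset.card : ℕ) : ℚ) := by
          refine Finset.sum_congr rfl fun C _ => ?_
          rw [mul_one_div, div_eq_iff (by exact_mod_cast Nat.card_pos.ne'),
            ← CfsgLib.Char.card_isConj_mul_card_centralizer C.out, Nat.cast_mul]
          congr 2
          rw [Set.toFinset_card, ← Nat.card_eq_fintype_card]
          refine Nat.card_congr (Equiv.subtypeEquivRight fun x => ?_)
          rw [ConjClasses.mem_carrier_iff_mk_eq, ← ConjClasses.mk_eq_mk_iff_isConj, eq_comm]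
          exact Iff.of_eq (congrArg (fun z => ConjClasses.mk x = z) (Quotient.out_eq C))
      _ = (Nat.card G : ℚ) := by
          rw [← Nat.cast_sum, sum_conjClasses_card_eq_card, Nat.card_eq_fintype_card]
  have h := hN _ f (fun i => Nat.card_pos) hsum (e.symm (ConjClasses.mk 1))
  have h1 : f (e.symm (ConjClasses.mk 1)) = Nat.card G := by
    have hc : (ConjClasses.mk (1 : G)).out = 1 := isConj_one_right.mp
      (ConjClasses.mk_eq_mk_iff_isConj.mp (Quotient.out_eq (ConjClasses.mk (1 : G))).symm)
    simp only [f, Equiv.apply_symm_apply, hc]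
    rw [show Subgroup.centralizer ({1} : Set G) = ⊤ by ext x; simp [Subgroup.mem_centralizer_iff]]
    exact Nat.card_congr Subgroup.topEquiv.toEquiv
  rw [h1] at h
  exact h.trans (Finset.le_sup (Finset.mem_range.mpr (Nat.lt_succ_of_le hk)))

/-- Let p be a prime and a a natural number. There is a bound N such that every finite group whose Sylow p-subgroups have order p^a and whose only p-block (relative to a maximal ideal of the algebraic integers containing p) is the principal block has order at most N. -/
theorem result (p : ℕ) [Fact p.Prime] (a : ℕ) : ∃ N : ℕ, ∀ (G : Type u) [Group G] [Finite G] (M : Ideal Cfsg.AlgInt), Cfsg.IsPModular p M → (Nat.card G).factorization p = a → (∀ B : Set (Cfsg.IrrCharacter G), Cfsg.IsPBlock M B → B = Cfsg.principalBlock M G) → Nat.card G ≤ N := by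
  obtain ⟨N, hN⟩ := exists_bound (p ^ (2 * a) + 1)
  refine ⟨N, fun G _ _ M hM ha hall => hN G ?_⟩
  have := hM.2.1
  have := Fintype.ofFinite G
  have huniv : (Cfsg.principalBlock M G) = Set.univ := by
    refine Set.eq_univ_of_forall fun χ => ?_
    rw [← hall _ (CfsgLib.Blocks.isPBlock_blockOf χ)]
    exact CfsgLib.Blocks.mem_blockOf_self χ
  have hB : Cfsg.IsPBlock M (Cfsg.principalBlock M G) := by
    rw [CfsgLib.Blocks.principalBlock_eq]
    exact CfsgLib.Blocks.isPBlock_blockOf _
  have h := CfsgLib.BlockArith.four_mul_card_le (p := p) hM hB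
  rw [huniv, Nat.card_univ, CfsgLib.Char.card_irr_eq_card_conjClasses] at h
  have h2 : p ^ (2 * Cfsg.blockDefect p (Set.univ : Set (Cfsg.IrrCharacter G))) ≤ p ^ (2 * a) :=
    Nat.pow_le_pow_right (Fact.out : p.Prime).pos
      (Nat.mul_le_mul_left 2 (ha ▸ CfsgLib.BlockArith.blockDefect_le))
  omega

end Cfsg.Agent.S4718
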