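import Cfsg.Statements.S4719
import Cfsg.Agent.Lib.BrauerPairs.Principal
import Cfsg.Agent.Lib.Blocks.ThirdMain
import Cfsg.Agent.Lib.Blocks.ElementaryBound
import Cfsg.Agent.S4718
-- import your own Cfsg.Agent.* helpers here

set_option autoImplicit false
universe u
open Cfsg CfsgLib.Blocks CfsgLib.BrauerPairs

namespace Cfsg.Agent.S4719

/-- For every natural number a there is a bound N with the following property. Let G be a finite group with Sylow 2-subgroups of order 2^a and r ≥ 0 such that G has no non-principal 2-block (relative to a maximal ideal of the algebraic integers containing 2) of defect ≥ r, and suppose a Sylow 2-subgroup of G contains an elementary abelian subgroup of order 2^(r+1). Then the order of G is at most N. -/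
theorem result (a : ℕ) : ∃ N : ℕ, ∀ (G : Type u) [Group G] [Finite G] (M : Ideal Cfsg.AlgInt) (r : ℕ) (P : Sylow 2 G), Cfsg.IsPModular 2 M → Nat.card P = 2 ^ a → (∀ B : Set (Cfsg.IrrCharacter G), Cfsg.IsPBlock M B → B ≠ Cfsg.principalBlock M G → Cfsg.blockDefect 2 B < r) → (∃ E : Subgroup G, E ≤ (P : Subgroup G) ∧ IsMulCommutative E ∧ (∀ x ∈ E, x * x = 1) ∧ Nat.card E = 2 ^ (r + 1)) → Nat.card G ≤ N := by
  classical
  haveI := Fact.mk Nat.prime_two
  choose f hf using fun j : ℕ => Cfsg.Agent.S4718.result.{u} 2 j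
  obtain ⟨bC, hbC⟩ : ∃ bC : ℕ, bC = (Finset.range (a + 1)).sup f := ⟨_, rfl⟩
  choose g hg using fun r : ℕ => CfsgLib.Blocks.FourGroupBound.elem_bound.{u} (r + 1) (Nat.le_add_left 1 r) a bC
  refine ⟨max bC ((Finset.range (a + 1)).sup g), fun G _ _ M r P hM hP hblk hE => ?_⟩
  haveI := hM.2.1
  let _ := Fintype.ofFinite G
  have ha : (Nat.card G).factorization 2 = a := by
    rw [P.card_eq_multiplicity] at hP
    exact Nat.pow_right_injective le_rfl hP
  obtain ⟨E, hEP, hab, hsq, hEc⟩ := hE
  have hab' : ∀ x ∈ E, ∀ y ∈ E, x * y = y * x := fun x hx y hy =>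
    congrArg Subtype.val (mul_comm' (⟨x, hx⟩ : E) ⟨y, hy⟩)
  have hra : r + 1 ≤ a := by
    have h1 := Subgroup.card_le_of_le hEP
    rw [hEc, hP] at h1
    exact (Nat.pow_le_pow_iff_right one_lt_two).mp h1
  have hbound : ∀ j ≤ a, f j ≤ bC := fun j hj => hbC ▸ Finset.le_sup (Finset.mem_range.mpr (Nat.lt_succ_of_le hj))
  rcases Nat.eq_zero_or_pos r with hr | hr
  · refine le_trans ?_ ((hbound a le_rfl).trans (le_max_left _ _))
    refine hf a G M hM ha fun B hB => ?_
    by_contra hne
    have := hblk B hB hne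
    omega
  obtain ⟨k, rfl⟩ : ∃ k, r = k + 1 := ⟨r - 1, by omega⟩
  refine le_trans (hg k G E hab' hsq hEc ha.le fun E' hE' hc' => ?_)
    (le_trans (Finset.le_sup (Finset.mem_range.mpr (by omega))) (le_max_right _ _))
  let C := Cen E'
  let _ := Fintype.ofFinite (Cen E')
  have hfac : (Nat.card (Cen E')).factorization 2 ≤ a :=
    ha ▸ (Nat.factorization_le_iff_dvd Nat.card_pos.ne' Nat.card_pos.ne').mpr (Subgroup.card_subgroup_dvd_card _) 2
  have hE'p : IsPGroup 2 E' := IsPGroup.of_card (n := k + 1) hc'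
  refine (hf _ (Cen E') M hM rfl fun c hc => ?_).trans (hbound _ hfac)
  obtain ⟨B, hB⟩ := exists_induced_cen hM hE'p hc
  obtain ⟨D, hD⟩ := exists_isDefectGroup (M := M) (p := 2) hc
  obtain ⟨D', hD'⟩ := exists_isDefectGroup (M := M) (p := 2) hB.2.1
  have hle : E' ≤ Cen E' := fun x hx => Subgroup.mem_centralizer_iff.mpr fun y hy =>
    hab' y (hE' hy) x (hE' hx)
  haveI hn : (E'.subgroupOf (Cen E')).Normal :=
    (Subgroup.normal_subgroupOf_iff_le_normalizer hle).mpr (Subgroup.centralizer_le_normalizer _)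
  have h1 : E'.subgroupOf (Cen E') ≤ D :=
    normal_le_defect hM hc hD (hE'p.of_equiv (Subgroup.subgroupOfEquivOfLe hle).symm)
  have h2 : 2 ^ (k + 1) ≤ Nat.card D := by
    have := Subgroup.card_le_of_le h1
    rwa [Nat.card_congr (Subgroup.subgroupOfEquivOfLe hle).toEquiv, hc'] at this
  obtain ⟨x, hx⟩ := defect_le_of_induced hM hB hD hD'
  have h3 : Nat.card D ≤ Nat.card D' := by
    refine le_trans (le_of_eq ?_) (Subgroup.card_le_of_le hx)
    rw [card_cj, Subgroup.card_map_of_injective (Cen E').subtype_injective]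
  rw [card_defectGroup hM hB.2.1 hD'] at h3
  have h4 : k + 1 ≤ Cfsg.blockDefect 2 B := (Nat.pow_le_pow_iff_right one_lt_two).mp (h2.trans h3)
  obtain rfl : B = Cfsg.principalBlock M G := by
    by_contra hne
    have := hblk B hB.2.1 hne
    omega
  exact (third_main hM ⟨_, hB⟩).mp hB

end Cfsg.Agent.S4719
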