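import Cfsg.Statements.S4720
import Cfsg.Agent.Lib.CharBlocks.PrincipalColumn

set_option autoImplicit false
open Cfsg

namespace Cfsg.Agent.S4720

open scoped ComplexConjugate

theorem finsum_mem_ite {α : Type*} [Fintype α] (s : Set α) [DecidablePred (· ∈ s)] (f : α → ℂ) :
    ∑ᶠ a ∈ s, f a = ∑ a : α, if a ∈ s then f a else 0 := by
  classical
  rw [finsum_eq_sum_of_fintype]
  refine Finset.sum_congr rfl fun a _ => ?_
  rw [finsum_eq_if]

theorem sum_orbit {G : Type*} [Group G] [Fintype G] {P N : Subgroup G} [Fintype P] [Fintype N]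
    (hNN : N ≤ Subgroup.normalizer (P : Set G)) (η : P → ℂ) (y : P)
    [DecidablePred fun z : P => ∃ n ∈ N, n * (y : G) * n⁻¹ = (z : G)] :
    ∑ x : N, extendByZero P η ((x : G) * (y : G) * (x : G)⁻¹) =
      ∑ z : P, if ∃ n ∈ N, n * (y : G) * n⁻¹ = (z : G) then
        (Nat.card ↥(N ⊓ Subgroup.centralizer ({(y : G)} : Set G)) : ℂ) * η z else 0 := by
  classical
  let g : N → P := fun x => ⟨(x : G) * (y : G) * (x : G)⁻¹,
    (Subgroup.mem_set_normalizer_iff.mp (hNN x.2) (y : G)).mp y.2⟩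
  have hg : ∀ x : N, extendByZero P η ((x : G) * (y : G) * (x : G)⁻¹) = η (g x) := fun x => by
    show Function.extend (Subtype.val : P → G) η 0 ((g x : G)) = η (g x)
    exact Subtype.val_injective.extend_apply η 0 (g x)
  rw [Finset.sum_congr rfl (fun x _ => hg x), ← Finset.sum_fiberwise Finset.univ g (fun x => η (g x))]
  refine Finset.sum_congr rfl fun z _ => ?_
  rw [Finset.sum_congr rfl (fun x hx => by rw [(Finset.mem_filter.mp hx).2]), Finset.sum_const,
    nsmul_eq_mul]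
  split_ifs with hz
  · obtain ⟨n, hn, hnz⟩ := hz
    congr 2
    rw [Nat.card_eq_fintype_card, ← Fintype.card_subtype]
    refine Fintype.card_congr
      { toFun := fun x => ⟨n⁻¹ * (x.1 : G), N.mul_mem (N.inv_mem hn) x.1.2, ?_⟩
        invFun := fun c => ⟨⟨n * (c : G), N.mul_mem hn c.2.1⟩, ?_⟩
        left_inv := fun x => by ext; simp
        right_inv := fun c => by ext; simp }
    · have hx : (x.1 : G) * (y : G) * (x.1 : G)⁻¹ = (z : G) := congrArg Subtype.val x.2
      show n⁻¹ * (x.1 : G) ∈ Subgroup.centralizer ({(y : G)} : Set G)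
      rw [Subgroup.mem_centralizer_singleton_iff]
      rw [← hnz] at hx
      calc n⁻¹ * (x.1 : G) * (y : G) = n⁻¹ * ((x.1 : G) * (y : G) * (x.1 : G)⁻¹) * (x.1 : G) := by group
        _ = (y : G) * (n⁻¹ * (x.1 : G)) := by rw [hx]; group
    · refine Subtype.ext ?_
      have hc := Subgroup.mem_centralizer_singleton_iff.mp c.2.2
      show n * (c : G) * (y : G) * (n * (c : G))⁻¹ = (z : G)
      rw [mul_assoc n (c : G) (y : G), hc, ← hnz]
      group
  · rw [Finset.filter_false_of_mem (fun x _ hx => hz ⟨((x : N) : G), SetLike.coe_mem (x : N), congrArg Subtype.val hx⟩)]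
    simp

/-- Let p be a prime, M a maximal ideal of the algebraic integers containing p, P a p-subgroup of the finite group G, N a subgroup with P ≤ N ≤ N_G(P), and U a nonempty subset of P normalized by N such that an element of U and an element of P that are conjugate in G are already conjugate in N, and such that λ(C_G(y)) = w·#C_N(y) for every y ∈ U with one rational number w, where λ(X) denotes the sum of the squares of the degrees of the irreducible characters in the principal p-block of X. For a complex function θ on P and χ in the principal block of G put a_χ(θ) = #P⁻¹ Σ_{y ∈ P} χ(y) θ(y⁻¹). Then for generalized characters θ, η of P with θ vanishing outside U, Σ_χ a_χ(θ)·conj(a_χ(η)) = (w/#P²)·Σ_{y ∈ P} θ(y)·conj(Σ_{x ∈ N} η(x y x⁻¹)) (η extended by zero off P; the conjugates lie in P), the first sum over the principal p-block of G. -/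
theorem result {G : Type*} [Group G] [Finite G] (p : ℕ) [Fact p.Prime] (M : Ideal Cfsg.AlgInt) (hM : Cfsg.IsPModular p M) (P : Subgroup G) (hP : IsPGroup p P) (N : Subgroup G) (hPN : P ≤ N) (hNN : N ≤ Subgroup.normalizer (P : Set G)) (U : Set G) (hUne : U.Nonempty) (hUP : U ⊆ (P : Set G)) (hUN : ∀ n ∈ N, ∀ u ∈ U, n * u * n⁻¹ ∈ U) (hfus : ∀ u ∈ U, ∀ g : G, g * u * g⁻¹ ∈ (P : Set G) → ∃ n ∈ N, n * u * n⁻¹ = g * u * g⁻¹) (w : ℚ) (hw : ∀ y ∈ U, ((∑ᶠ ψ ∈ Cfsg.principalBlock M ↥(Subgroup.centralizer ({y} : Set G)), Cfsg.charDegree (ψ : ↥(Subgroup.centralizer ({y} : Set G)) → ℂ) ^ 2) : ℚ) = w * Nat.card ↥(N ⊓ Subgroup.centralizer ({y} : Set G))) (θ η : ↥P → ℂ) (hθ : Cfsg.IsGeneralizedCharacter ↥P θ) (hη : Cfsg.IsGeneralizedCharacter ↥P η) (hθU : ∀ y : ↥P, (y : G) ∉ U → θ y = 0) : ∑ᶠ χ ∈ Cfsg.principalBlock M G, ((Nat.card ↥P : ℂ)⁻¹ * ∑ᶠ y : ↥P, (χ : G → ℂ) (y : G) * θ y⁻¹) * (starRingEnd ℂ) ((Nat.card ↥P : ℂ)⁻¹ * ∑ᶠ y : ↥P, (χ : G → ℂ) (y : G) * η y⁻¹) =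 ((w : ℂ) / ((Nat.card ↥P : ℂ) ^ 2)) * ∑ᶠ y : ↥P, θ y * (starRingEnd ℂ) (∑ᶠ x : ↥N, Cfsg.extendByZero P η ((x : G) * (y : G) * (x : G)⁻¹)) := by
  classical
  have := Fintype.ofFinite G
  have := hM.2.1
  let _ := Fintype.ofFinite P
  let _ := Fintype.ofFinite N
  have hyp : ∀ y : P, ∃ k : ℕ, orderOf ((y : G)) = p ^ k := fun y => by
    obtain ⟨k, hk⟩ := IsPGroup.iff_orderOf.mp hP y
    exact ⟨k, by rw [Subgroup.orderOf_coe, hk]⟩
  let K : P → P → ℂ := fun y z => ∑ χ : IrrCharacter G,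
    if χ ∈ principalBlock M G then (χ : G → ℂ) (y : G) * conj ((χ : G → ℂ) (z : G)) else 0
  rw [finsum_mem_ite]
  simp only [finsum_eq_sum_of_fintype]
  have hLHS : (∑ χ : IrrCharacter G, if χ ∈ principalBlock M G then
      ((Nat.card P : ℂ)⁻¹ * ∑ y : P, (χ : G → ℂ) (y : G) * θ y⁻¹) *
        conj ((Nat.card P : ℂ)⁻¹ * ∑ y : P, (χ : G → ℂ) (y : G) * η y⁻¹) else 0) =
      ((Nat.card P : ℂ) ^ 2)⁻¹ * ∑ y : P, θ y * ∑ z : P, conj (η z) * K z y := by
    have e : ∀ χ : IrrCharacter G, ∀ φ : P → ℂ, ∑ y : P, (χ : G → ℂ) (y : G) * φ y⁻¹ =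
        ∑ y : P, conj ((χ : G → ℂ) (y : G)) * φ y := by
      intro χ φ
      refine Fintype.sum_equiv (Equiv.inv P) _ _ fun y => ?_
      simp [CfsgLib.Char.char_inv (CfsgLib.Char.isCharacter_of_isIrr χ.2)]
    simp only [K, Finset.mul_sum]
    conv_rhs => rw [Finset.sum_congr rfl (fun y _ => Finset.sum_comm), Finset.sum_comm]
    refine Finset.sum_congr rfl fun χ _ => ?_
    split_ifs with hχ
    · rw [← Finset.mul_sum, ← Finset.mul_sum, e χ θ, e χ η, map_mul, map_inv₀, map_natCast, map_sum]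
      simp only [map_mul, Complex.conj_conj, Finset.mul_sum, Finset.sum_mul]
      rw [Finset.sum_comm]
      refine Finset.sum_congr rfl fun y _ => Finset.sum_congr rfl fun z _ => ?_
      ring
    · simp
  rw [hLHS, div_eq_inv_mul, mul_assoc]
  congr 1
  simp only [Finset.mul_sum]
  refine Finset.sum_congr rfl fun y _ => ?_
  by_cases hθy : θ y = 0
  · simp [hθy]
  have hyU : (y : G) ∈ U := by
    by_contra h
    exact hθy (hθU y h)
  let _ := Fintype.ofFinite ↥(Subgroup.centralizer ({(y : G)} : Set G))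
  have hS : K y y = (w : ℂ) * (Nat.card ↥(N ⊓ Subgroup.centralizer ({(y : G)} : Set G)) : ℂ) := by
    show (∑ χ : IrrCharacter G, if χ ∈ principalBlock M G then
      (χ : G → ℂ) (y : G) * conj ((χ : G → ℂ) (y : G)) else 0) = _
    rw [CfsgLib.CharBlocks.principal_column_self hM (hyp y)]
    have h := congrArg (fun q : ℚ => (q : ℂ)) (hw (y : G) hyU)
    push_cast at h
    rw [← h, finsum_eq_sum_of_fintype, Rat.cast_sum]
    refine Finset.sum_congr rfl fun ψ _ => ?_
    rw [finsum_eq_if]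
    split_ifs <;> simp
  rw [← Finset.mul_sum, sum_orbit hNN η y, map_sum]
  simp only [apply_ite conj, map_zero, map_mul, map_natCast, Finset.mul_sum]
  refine Finset.sum_congr rfl fun z _ => ?_
  split_ifs with hz
  · obtain ⟨n, hn, hnz⟩ := hz
    have hKz : K z y = K y y := by
      refine Finset.sum_congr rfl fun χ _ => ?_
      have : (χ : G → ℂ) (z : G) = (χ : G → ℂ) (y : G) := by
        rw [← hnz]; exact CfsgLib.Char.isClassFunction_of_isIrr χ.2 (y : G) n
      rw [this]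
    rw [hKz, hS]
    ring
  · rw [show K z y = 0 from CfsgLib.CharBlocks.principal_column_ne hM (hyp z) (hyp y) ?_]
    · simp
    · intro hc
      obtain ⟨g, hg⟩ := isConj_iff.mp hc.symm
      obtain ⟨n, hn, hnz⟩ := hfus (y : G) hyU g (by rw [hg]; exact z.2)
      exact hz ⟨n, hn, hnz.trans hg⟩

end Cfsg.Agent.S4720
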