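import Cfsg.Statements.S4721
import Cfsg.Agent.Lib.CharBlocks.InertialThreeInvol

set_option autoImplicit false
open Cfsg

namespace Cfsg.Agent.S4721

open CfsgLib.Blocks CfsgLib.CharBlocks.InertialThree
open scoped ComplexConjugate

theorem sum_block_split {A α : Type*} [AddCommMonoid A] [Fintype α] [DecidableEq α] (B : Set α)
    [DecidablePred (· ∈ B)] {o : α} (ho : o ∈ B) [Fintype {χ : α // χ ∈ B ∧ χ ≠ o}] (f : α → A) :
    ∑ χ : α, (if χ ∈ B then f χ else 0) = f o + ∑ i : {χ : α // χ ∈ B ∧ χ ≠ o}, f i.1 := by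
  rw [← Finset.add_sum_erase _ _ (Finset.mem_univ o), if_pos ho]
  congr 1
  rw [← Finset.sum_filter]
  exact Finset.sum_subtype _ (fun χ => by simp [and_comm]) f
/-- Let p be a prime, M a maximal ideal of the algebraic integers containing p, and G a finite group with a nontrivial abelian Sylow p-subgroup P, N = N_G(P), C = C_G(P), such that N/C is cyclic of order 3, #P > 4, and C_G(y) ∩ N = C for every non-identity y ∈ P. Then the principal p-block is the disjoint union of a set X of exactly 3 characters containing the principal character and a set Y of (#P − 1)/3 characters, with signs a_χ = ±1 (χ ∈ X, a = 1 at the principal character) and δ = ±1 such that every χ ∈ X takes the value a_χ at every element whose p-part is a non-identity element of P, and there is a map ζ from the non-principal linear characters of P onto Y, constant on N-conjugacy classes, with ζ_ψ(z) = δ·Σ ψ'(y) over the N-orbit of ψ, for z with p-part y ≠ 1 in P. If moreover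 G has an involution lying in no proper normal subgroup of G, then exactly two of the three numbers −δ and a_χ (χ ∈ X non-principal) equal −1, and the product of the degrees of the two non-principal members of X and of any member of Y is a perfect square. -/
theorem result {G : Type*} [Group G] [Finite G] (p : ℕ) [Fact p.Prime] (M : Ideal Cfsg.AlgInt) (hM : Cfsg.IsPModular p M) (P : Sylow p G) (hab : IsMulCommutative P) (hP1 : Nat.card P ≠ 1) (hCN : (Subgroup.centralizer ((P : Subgroup G) : Set G)).relIndex (Subgroup.normalizer ((P : Subgroup G) : Set G)) = 3) (hcyc : ∃ g : G, g ∈ Subgroup.normalizer ((P : Subgroup G) : Set G) ∧ Subgroup.centralizer ((P : Subgroup G) : Set G) ⊔ Subgroup.zpowers g = Subgroup.normalizer ((P : Subgroup G) : Set G)) (hm2 : 3 + 1 < Nat.card P) (hfrob : ∀ y : G, y ∈ (P : Subgroup G) → y ≠ 1 → Subgroup.centralizer ({y} : Set G) ⊓ Subgroup.normalizer ((P : Subgroup G) : Set G) = Subgroup.centralizer ((P : Subgroup G)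 : Set G)) : ∃ (X Y : Set (Cfsg.IrrCharacter G)), Cfsg.principalBlock M G = X ∪ Y ∧ Disjoint X Y ∧ Nat.card X = 3 ∧ Nat.card Y = (Nat.card P - 1) / 3 ∧ (∃ χ₁ ∈ X, (χ₁ : G → ℂ) = fun _ => 1) ∧ ∃ (a : Cfsg.IrrCharacter G → ℤ) (δ : ℤ) (ζ : (↥(P : Subgroup G) →* ℂˣ) → Cfsg.IrrCharacter G), (δ = 1 ∨ δ = -1) ∧ (∀ χ ∈ X, (a χ = 1 ∨ a χ = -1) ∧ ∀ z y : G, Cfsg.IsPPart p z y → y ∈ (P : Subgroup G) → y ≠ 1 → (χ : G → ℂ) z = (a χ : ℂ)) ∧ (∀ ψ : ↥(P : Subgroup G) →* ℂˣ, ψ ≠ 1 → ζ ψ ∈ Y) ∧ (∀ η ∈ Y, ∃ ψ : ↥(P : Subgroup G) →* ℂˣ, ψ ≠ 1 ∧ ζ ψ = η) ∧ (∀ ψ ψ' : ↥(P : Subgroup G) →* ℂˣ, ψ ≠ 1 → (∃ n : G, n ∈ Subgroup.normalizer ((P : Subgroup G) : Set G) ∧ ∀ w w' : ↥(P : Subgroup G), (w' : G) = n * w * n⁻¹ → ψ' w' = ψ w) → ζ ψ' = ζ ψ) ∧ (∀ ψ : ↥(P : Subgroup G) →* ℂˣ, ψ ≠ 1 → ∀ (z : G) (y : ↥(P : Subgroup G)), Cfsg.IsPPart p z (y : G) → (y : G) ≠ 1 → (ζ ψ : G → ℂ) z = (δ : ℂ) * ∑ᶠ ψ' ∈ {ψ' : ↥(P : Subgroup G) →* ℂˣ | ∃ n : G, n ∈ Subgroup.normalizer ((P : Subgroup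 G) : Set G) ∧ ∀ w w' : ↥(P : Subgroup G), (w' : G) = n * w * n⁻¹ → ψ' w' = ψ w}, ((ψ' y : ℂˣ) : ℂ)) ∧ ((∃ t : G, orderOf t = 2 ∧ ∀ K : Subgroup G, K.Normal → t ∈ K → K = ⊤) → Nat.card {χ : Cfsg.IrrCharacter G // χ ∈ X ∧ (χ : G → ℂ) ≠ (fun _ => 1) ∧ a χ = -1} + (if δ = 1 then 1 else 0) = 2 ∧ ∀ η ∈ Y, IsSquare (Cfsg.charDegree (η : G → ℂ) * ∏ᶠ χ ∈ {χ : Cfsg.IrrCharacter G | χ ∈ X ∧ (χ : G → ℂ) ≠ fun _ => 1}, Cfsg.charDegree (χ : G → ℂ))) := by
  classical
  have := Fintype.ofFinite G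
  have := hM.2.1
  let _ := Fintype.ofFinite ↥(P : Subgroup G)
  obtain ⟨σ, h⟩ := exists_inertiaThree P hab hCN hcyc hfrob
  have := finite_dual h.comm
  let _ := Fintype.ofFinite (↥(P : Subgroup G) →* ℂˣ)
  have hn4 : 4 < Nat.card (P : Subgroup G) := hm2
  let one : IrrCharacter G := CfsgLib.Char.irrOne
  have hone : one ∈ principalBlock M G := by
    rw [principalBlock_eq]; exact mem_blockOf_self _
  have hone1 : ∀ g : G, (one : G → ℂ) g = 1 := fun g => CfsgLib.Char.irrOne_apply g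
  have hpp : ∀ u : (P : Subgroup G), ∃ k : ℕ, orderOf (u : G) = p ^ k := fun u => by
    obtain ⟨k, hk⟩ := IsPGroup.iff_orderOf.mp P.isPGroup' u
    exact ⟨k, by rw [Subgroup.orderOf_coe, hk]⟩
  have hcP : (Nat.card (P : Subgroup G) : ℂ) ≠ 0 := CfsgLib.Char.card_ne_zero'
  have hTone : ∀ ψ : (P : Subgroup G) →* ℂˣ, ψ ≠ 1 → T one ψ = 1 := fun ψ hψ => by
    apply Int.cast_injective (α := ℂ)
    rw [T_eq, Int.cast_one]
    simp only [hone1, one_mul, Finset.sum_sub_distrib, Finset.sum_const, Finset.card_univ, nsmul_eq_mul,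
      mul_one, ← map_sum, dual_sum_eq_zero hψ, map_zero, sub_zero, ← Nat.card_eq_fintype_card]
    exact inv_mul_cancel₀ hcP
  have hTtw : ∀ (χ : IrrCharacter G) (ψ : (P : Subgroup G) →* ℂˣ), T χ (tw σ ψ) = T χ ψ := fun χ ψ => by
    apply Int.cast_injective (α := ℂ)
    rw [T_eq, T_eq]
    refine congrArg _ (Fintype.sum_equiv σ.toEquiv _ _ fun z => ?_)
    obtain ⟨g, hg⟩ := isConj_iff.mp (h.isConj_sigma z)
    show (χ : G → ℂ) z * (1 - conj (dualVal (tw σ ψ) z)) =
      (χ : G → ℂ) (σ z : (P : Subgroup G)) * (1 - conj (dualVal ψ (σ z)))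
    rw [← hg, CfsgLib.Char.isClassFunction_of_isIrr χ.2 (z : G) g]
    rfl
  let L := {ψ : (P : Subgroup G) →* ℂˣ // ψ ≠ 1}
  let ι := {χ : IrrCharacter G // χ ∈ principalBlock M G ∧ χ ≠ one}
  let _ : Fintype ι := Fintype.ofFinite _
  let v : L → ι → ℤ := fun s i => T i.1 s.1
  let R : L → L → Prop := fun s t => SameOrbit σ s.1 t.1
  have hinner' : ∀ s t : L, ∑ i, v s i * v t i =
      2 + (if t.1 = s.1 then 1 else 0) + (if tw σ t.1 = s.1 then 1 else 0) +
        (if tw σ (tw σ t.1) = s.1 then 1 else 0) := fun s t => by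
    have e := h.sum_T_mul hM s.2 t.2
    rw [sum_block_split (principalBlock M G) hone (fun χ => T χ s.1 * T χ t.1), hTone _ s.2, hTone _ t.2] at e
    linarith
  have hnorm : ∀ s : L, ∑ i, v s i * v s i = 3 := fun s => by
    obtain ⟨-, n2, -⟩ := h.tw_distinct s.2
    rw [hinner', if_pos rfl, if_neg (h.tw_ne s.2), if_neg n2.symm]
    norm_num
  have hR : ∀ s t : L, R s t → v s = v t := fun s t hst => funext fun i => by
    show T i.1 s.1 = T i.1 t.1
    rcases hst with e | e | e <;> simp only [e, hTtw]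
  have hinner : ∀ s t : L, ¬ R s t → ∑ i, v s i * v t i = 2 := fun s t hst => by
    rw [hinner', if_neg fun e => hst (Or.inl e), if_neg fun e => hst (h.sameOrbit_symm (Or.inr (Or.inl e.symm))),
      if_neg fun e => hst (h.sameOrbit_symm (Or.inr (Or.inr e.symm)))]
    norm_num
  have hdeg : ∀ s : L, ∑ i, v s i * (charDegree (i.1 : G → ℂ) : ℤ) = -1 := fun s => by
    have e := sum_T_moment (M := M) s.1 (fun χ : IrrCharacter G => (χ : G → ℂ) 1) fun u hu =>
      CfsgLib.CharBlocks.principal_column_ne hM ⟨0, by rw [orderOf_one, pow_zero]⟩ (hpp u) fun hc => hu (by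
        rw [show u = 1 from Subtype.ext (isConj_one_right.mp hc), map_one])
    rw [sum_block_split (principalBlock M G) hone (fun χ : IrrCharacter G => (T χ s.1 : ℂ) * (χ : G → ℂ) 1),
      hTone _ s.2, hone1] at e
    apply Int.cast_injective (α := ℂ)
    push_cast
    simp only [← CfsgLib.Blocks.charDegree_eq (CfsgLib.Char.isCharacter_of_isIrr (Subtype.prop (Subtype.val (_ : ι))))]
    push_cast at e
    linear_combination e
  have hcardL : Fintype.card L + 1 = Nat.card (P : Subgroup G) := by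
    rw [← card_dual h.comm, Nat.card_eq_fintype_card]
    have h1 := Fintype.card_subtype_compl (fun ψ : (P : Subgroup G) →* ℂˣ => ψ = 1)
    rw [Fintype.card_subtype_eq] at h1
    have h2 : 0 < Fintype.card ((P : Subgroup G) →* ℂˣ) := Fintype.card_pos
    have h3 : Fintype.card L = Fintype.card {ψ : (P : Subgroup G) →* ℂˣ // ¬ ψ = 1} :=
      Fintype.card_congr (Equiv.refl _)
    omega
  let orb : L → Finset L := fun s =>
    {s, ⟨tw σ s.1, h.tw_ne_one s.2⟩, ⟨tw σ (tw σ s.1), h.tw_ne_one (h.tw_ne_one s.2)⟩}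
  have horbmem : ∀ s t, t ∈ orb s ↔ R s t := fun s t => by
    simp only [orb, R, SameOrbit, Finset.mem_insert, Finset.mem_singleton]
    exact or_congr Subtype.ext_iff (or_congr Subtype.ext_iff Subtype.ext_iff)
  have horbcard : ∀ s, (orb s).card = 3 := fun s => by
    obtain ⟨n1, n2, n3⟩ := h.tw_distinct s.2
    refine Finset.card_eq_three.mpr ⟨_, _, _, ?_, ?_, ?_, rfl⟩ <;> exact fun e => by
      first
        | exact n1 (congrArg Subtype.val e)
        | exact n2 (congrArg Subtype.val e)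
        | exact n3 (congrArg Subtype.val e)
  obtain ⟨s₀⟩ : Nonempty L := Fintype.card_pos_iff.mp (by omega)
  have hex : ∃ s t, ¬ R s t := by
    by_contra hcon
    push Not at hcon
    have := Finset.card_le_card (show (Finset.univ : Finset L) ⊆ orb s₀ from fun t _ => (horbmem _ _).mpr (hcon s₀ t))
    rw [Finset.card_univ, horbcard] at this
    omega
  have hthree : ∀ s t u, ¬ R s t → ¬ R s u → ¬ R t u → ∃ w, ¬ R s w ∧ ¬ R t w ∧ ¬ R u w := by
    intro s t u hst hsu htu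
    by_contra hcon
    push Not at hcon
    have hdis : ∀ {a b}, ¬ R a b → Disjoint (orb a) (orb b) := fun {a b} hab' =>
      Finset.disjoint_left.mpr fun c hca hcb =>
        hab' (h.sameOrbit_trans ((horbmem _ _).mp hca) (h.sameOrbit_symm ((horbmem _ _).mp hcb)))
    have huniv : (Finset.univ : Finset L) = orb s ∪ orb t ∪ orb u := by
      ext w
      simp only [Finset.mem_univ, Finset.mem_union, horbmem, true_iff]
      by_cases h1 : R s w
      · exact .inl (.inl h1)
      by_cases h2 : R t w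
      · exact .inl (.inr h2)
      exact .inr (hcon w h1 h2)
    have h9 : Fintype.card L = 9 := by
      rw [← Finset.card_univ, huniv, Finset.card_union_of_disjoint
        (Finset.disjoint_union_left.mpr ⟨hdis hsu, hdis htu⟩), Finset.card_union_of_disjoint (hdis hst),
        horbcard, horbcard, horbcard]
    obtain ⟨k, hk⟩ := P.isPGroup'.exists_card_eq
    have h10 : p ^ k = 10 := by omega
    have h2 : 2 ∣ p ^ k := ⟨5, by omega⟩
    have h5 : 5 ∣ p ^ k := ⟨2, by omega⟩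
    have := (Nat.prime_dvd_prime_iff_eq Nat.prime_two Fact.out).mp (Nat.prime_two.dvd_of_dvd_pow h2)
    have := (Nat.prime_dvd_prime_iff_eq (by norm_num : Nat.Prime 5) Fact.out).mp
      ((by norm_num : Nat.Prime 5).dvd_of_dvd_pow h5)
    omega
  obtain ⟨x, y, a, b, hxy, ua, ub, hpet⟩ := sunflower R v hnorm hR hinner
    (fun i : ι => charDegree (i.1 : G → ℂ)) hdeg hex hthree
  choose ζ₀ hζ using hpet
  have hsupp : ∀ s i, v s i ≠ 0 → i = x ∨ i = y ∨ i = ζ₀ s := fun s i hi => by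
    by_contra hcon
    push Not at hcon
    exact hi ((hζ s).2.2.2.2.2 i hcon.1 hcon.2.1 hcon.2.2)
  have hzR : ∀ s t, R s t → ζ₀ t = ζ₀ s := fun s t hst => by
    have h0 : v s (ζ₀ t) ≠ 0 := by
      rw [hR s t hst]; rcases (hζ t).2.2.2.2.1 with e | e <;> omega
    rcases hsupp s _ h0 with e | e | e
    · exact absurd e (hζ t).1
    · exact absurd e (hζ t).2.1
    · exact e
  have hzinj : ∀ s t, ζ₀ t = ζ₀ s → R s t := fun s t e => by
    by_contra hst
    have h2 := hinner s t hst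
    obtain ⟨z1, z2, e1, e2, ez, es⟩ := hζ s
    obtain ⟨-, -, f1, f2, fz, -⟩ := hζ t
    rw [sum_eq_of_support hxy (Ne.symm z1) (Ne.symm z2) es, e1, e2, f1, f2] at h2
    rw [e] at fz
    rcases ua with rfl | rfl <;> rcases ub with rfl | rfl <;> rcases ez with ez | ez <;>
      rcases fz with fz | fz <;> rw [ez, fz] at h2 <;> omega
  have hd : ∀ s, a * (charDegree (x.1 : G → ℂ) : ℤ) + b * (charDegree (y.1 : G → ℂ) : ℤ) +
      v s (ζ₀ s) * (charDegree ((ζ₀ s).1 : G → ℂ) : ℤ) = -1 := fun s => by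
    obtain ⟨z1, z2, e1, e2, -, es⟩ := hζ s
    have := hdeg s
    rwa [sum_eq_of_support hxy (Ne.symm z1) (Ne.symm z2) es, e1, e2] at this
  have hpos : ∀ i : ι, 0 < charDegree (i.1 : G → ℂ) := fun i => Nat.pos_of_ne_zero (charDegree_ne_zero _)
  set e₀ := v s₀ (ζ₀ s₀) with he₀
  have hconst : ∀ s, v s (ζ₀ s) = e₀ ∧
      charDegree ((ζ₀ s).1 : G → ℂ) = charDegree ((ζ₀ s₀).1 : G → ℂ) := fun s => by
    have h1 := hd s
    have h2 := hd s₀
    have p1 := hpos (ζ₀ s)
    have p2 := hpos (ζ₀ s₀)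
    rw [he₀]
    rcases (hζ s).2.2.2.2.1 with f | f <;> rcases (hζ s₀).2.2.2.2.1 with f' | f' <;>
      rw [f] at h1 ⊢ <;> rw [f'] at h2 ⊢ <;> refine ⟨?_, ?_⟩ <;> omega
  have ue : e₀ = 1 ∨ e₀ = -1 := (hζ s₀).2.2.2.2.1
  have hTz : ∀ s t, T (ζ₀ s).1 t.1 = if R s t then e₀ else 0 := fun s t => by
    show v t (ζ₀ s) = _
    split_ifs with hst
    · rw [← hzR s t hst, (hconst t).1]
    · exact (hζ t).2.2.2.2.2 _ (hζ s).1 (hζ s).2.1 fun e => hst (hzinj s t e.symm)
  let ζ : ((P : Subgroup G) →* ℂˣ) → IrrCharacter G := fun ψ =>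
    if hψ : ψ ≠ 1 then (ζ₀ ⟨ψ, hψ⟩).1 else one
  have hζval : ∀ s : L, ζ s.1 = (ζ₀ s).1 := fun s => dif_pos s.2
  let X : Set (IrrCharacter G) := {one, x.1, y.1}
  let Y : Set (IrrCharacter G) := Subtype.val '' Set.range ζ₀
  have hnx : x.1 ≠ one := x.2.2
  have hny : y.1 ≠ one := y.2.2
  have hxy' : x.1 ≠ y.1 := fun e => hxy (Subtype.ext e)
  have honefun : ∀ χ : IrrCharacter G, ((χ : G → ℂ) ≠ fun _ => 1) ↔ χ ≠ one := fun χ =>
    not_congr ⟨fun e => Subtype.ext (e.trans (funext fun g => (hone1 g).symm)),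
      fun e => e ▸ funext hone1⟩
  let af : IrrCharacter G → ℤ := fun χ => if χ = x.1 then a else if χ = y.1 then b else 1
  have afx : af x.1 = a := if_pos rfl
  have afy : af y.1 = b := by simp [af, hxy'.symm]
  have afo : af one = 1 := by simp [af, hnx.symm, hny.symm]
  have hvalX : ∀ (i : ι) (c : ℤ), (∀ s : L, v s i = c) → ∀ u : (P : Subgroup G), u ≠ 1 →
      (i.1 : G → ℂ) u = c := fun i c hc u hu => by
    rw [value_eq_neg_sum h.comm i.1 hu, ← Finset.add_sum_erase _ _ (Finset.mem_univ (1 : (P : Subgroup G) →* ℂˣ)),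
      T_one, Int.cast_zero, zero_mul, zero_add]
    have hc' : ∀ ψ ∈ (Finset.univ : Finset ((P : Subgroup G) →* ℂˣ)).erase 1,
        (T i.1 ψ : ℂ) * dualVal ψ u = (c : ℂ) * dualVal ψ u := fun ψ hψ => by
      rw [show T i.1 ψ = c from hc ⟨ψ, (Finset.mem_erase.mp hψ).1⟩]
    rw [Finset.sum_congr rfl hc', ← Finset.mul_sum, Finset.sum_erase_eq_sub (Finset.mem_univ _),
      dual_column h.comm hu]
    simp [dualVal]
  refine ⟨X, Y, ?_, ?_, ?_, ?_, ⟨one, Set.mem_insert _ _, funext hone1⟩, af, -e₀, ζ, ?_, ?_, ?_, ?_, ?_, ?_, ?_⟩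
  · -- the block is `X ∪ Y`
    refine Set.Subset.antisymm (fun χ hχ => ?_) ?_
    · by_contra hcon
      have hne : χ ≠ one := fun e => hcon (Or.inl (e ▸ Set.mem_insert _ _))
      let i : ι := ⟨χ, hχ, hne⟩
      have hz : ∀ ψ : (P : Subgroup G) →* ℂˣ, T χ ψ = 0 := fun ψ => by
        by_cases hψ : ψ = 1
        · rw [hψ, T_one]
        by_contra h0
        rcases hsupp ⟨ψ, hψ⟩ i h0 with e | e | e
        · exact hcon (Or.inl (Or.inr (Or.inl (congrArg Subtype.val e))))
        · exact hcon (Or.inl (Or.inr (Or.inr (congrArg Subtype.val e))))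
        · exact hcon (Or.inr ⟨i, ⟨_, e.symm⟩, rfl⟩)
      have hvan : ∀ u : (P : Subgroup G), u ≠ 1 → (χ : G → ℂ) u = 0 := fun u hu => by
        rw [value_eq_neg_sum h.comm χ hu]; simp [hz]
      obtain ⟨m, hm⟩ := exists_mult χ (1 : (P : Subgroup G) →* ℂˣ)
      rw [Finset.sum_eq_single (1 : (P : Subgroup G)) (fun u _ hu => by rw [hvan u hu, zero_mul]) (by simp)] at hm
      simp only [Subgroup.coe_one, dualVal, MonoidHom.one_apply, Units.val_one, map_one, mul_one] at hm
      rw [CfsgLib.Blocks.charDegree_eq (CfsgLib.Char.isCharacter_of_isIrr χ.2), inv_mul_eq_iff_eq_mul₀ hcP] at hm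
      have hm' : charDegree (χ : G → ℂ) = Nat.card (P : Subgroup G) * m := by exact_mod_cast hm
      have hdvd := CfsgLib.CharBlocks.charDegree_dvd_card χ.2
      have hb := blockOf_eq_singleton hM χ fun hp' => P.not_dvd_index <| hp'.trans <| by
        rw [← Nat.div_eq_of_eq_mul_left (Nat.card_pos (α := (P : Subgroup G)))
          ((P : Subgroup G).index_mul_card).symm]
        exact Nat.div_dvd_div_left hdvd ⟨m, hm'⟩
      have hmem : χ ∈ blockOf M ((one : IrrCharacter G) : G → ℂ) := by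
        have := hχ; rwa [principalBlock_eq] at this
      have hmem' : one ∈ blockOf M (χ : G → ℂ) := by
        rw [blockOf_eq_of_mem hmem]; exact mem_blockOf_self _
      rw [hb] at hmem'
      exact hne (Set.mem_singleton_iff.mp hmem').symm
    · rintro χ ((rfl | rfl | rfl) | ⟨i, -, rfl⟩)
      · exact hone
      · exact x.2.1
      · exact y.2.1
      · exact i.2.1
  · refine Set.disjoint_left.mpr ?_
    rintro χ (rfl | rfl | rfl) ⟨_, ⟨s, rfl⟩, hi⟩
    · exact (ζ₀ s).2.2 hi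
    · exact (hζ s).1 (Subtype.ext hi)
    · exact (hζ s).2.1 (Subtype.ext hi)
  · rw [Nat.card_coe_set_eq, Set.ncard_eq_three]
    exact ⟨one, x.1, y.1, hnx.symm, hny.symm, hxy', rfl⟩
  · have hYeq : Nat.card Y = (Finset.univ.image ζ₀).card := by
      rw [Nat.card_image_of_injective Subtype.val_injective, Nat.card_coe_set_eq, ← Set.image_univ,
        ← Finset.coe_univ, ← Finset.coe_image, Set.ncard_coe_finset]
    have hcount : Fintype.card L = (Finset.univ.image ζ₀).card * 3 := by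
      rw [← Finset.card_univ, Finset.card_eq_sum_card_image ζ₀, ← smul_eq_mul]
      refine Finset.sum_const_nat fun i hi => ?_
      obtain ⟨s, -, rfl⟩ := Finset.mem_image.mp hi
      rw [← horbcard s]
      congr 1
      ext t
      simp only [Finset.mem_filter, Finset.mem_univ, true_and, horbmem]
      exact ⟨hzinj s t, hzR s t⟩
    omega
  · rcases ue with e | e <;> simp [e]
  · intro χ hχ
    have hχu : χ ∈ principalBlock M G := by
      rcases hχ with rfl | rfl | rfl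
      exacts [hone, x.2.1, y.2.1]
    refine ⟨?_, fun z u hz hu hu1 => ?_⟩
    · rcases hχ with rfl | rfl | rfl
      · exact Or.inl afo
      · rw [afx]; exact ua
      · rw [afy]; exact ub
    have hu' : (⟨u, hu⟩ : (P : Subgroup G)) ≠ 1 := fun e => hu1 (congrArg Subtype.val e)
    rw [h.value_pPart hM hχu hu' (z := z) hz]
    rcases hχ with rfl | rfl | rfl
    · rw [afo, hone1, Int.cast_one]
    · rw [afx, hvalX x a (fun s => (hζ s).2.2.1) _ hu']
    · rw [afy, hvalX y b (fun s => (hζ s).2.2.2.1) _ hu']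
  · intro ψ hψ
    exact ⟨ζ₀ ⟨ψ, hψ⟩, ⟨_, rfl⟩, (hζval ⟨ψ, hψ⟩).symm⟩
  · rintro η ⟨_, ⟨s, rfl⟩, rfl⟩
    exact ⟨s.1, s.2, hζval s⟩
  · intro ψ ψ' hψ hn
    have ho : SameOrbit σ ψ ψ' := (Set.ext_iff.mp (h.orbit_set ψ) ψ').mp hn
    have hψ' : ψ' ≠ 1 := by
      rcases ho with rfl | rfl | rfl
      exacts [hψ, h.tw_ne_one hψ, h.tw_ne_one (h.tw_ne_one hψ)]
    rw [hζval ⟨ψ, hψ⟩, hζval ⟨ψ', hψ'⟩, hzR ⟨ψ, hψ⟩ ⟨ψ', hψ'⟩ ho]
  · intro ψ hψ z u hz hu
    have hu' : u ≠ 1 := fun e => hu (by rw [e, Subgroup.coe_one])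
    rw [h.orbit_set ψ, Cfsg.Agent.S4722.finsum_mem_ite, hζval ⟨ψ, hψ⟩,
      h.value_pPart hM (ζ₀ ⟨ψ, hψ⟩).2.1 hu' hz, value_eq_neg_sum h.comm _ hu', Finset.mul_sum,
      ← Finset.sum_neg_distrib]
    refine Finset.sum_congr rfl fun φ _ => ?_
    by_cases hφ : φ = 1
    · subst hφ
      rw [T_one, Int.cast_zero, zero_mul, neg_zero, if_neg]
      · simp
      · rintro (e | e | e)
        exacts [hψ e.symm, h.tw_ne_one hψ e.symm, h.tw_ne_one (h.tw_ne_one hψ) e.symm]
    · rw [hTz ⟨ψ, hψ⟩ ⟨φ, hφ⟩]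
      by_cases ho : SameOrbit σ ψ φ
      · rw [if_pos ho, if_pos (show φ ∈ {φ | SameOrbit σ ψ φ} from ho)]
        simp [dualVal]
      · rw [if_neg ho, if_neg (show φ ∉ {φ | SameOrbit σ ψ φ} from ho)]
        simp
  · rintro ⟨t, ht, hK⟩
    obtain ⟨ψ, hψ, hgood⟩ := h.exists_good_character hn4 ht
    let s : L := ⟨ψ, hψ⟩
    have hB : IsPBlock M (principalBlock M G) := by
      rw [principalBlock_eq]; exact isPBlock_blockOf _
    have horth : ∀ u : (P : Subgroup G), ψ u ≠ 1 → ∀ w : G,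
        (w = 1 ∨ w = t ∨ ∃ g : G, w = t * (g * t * g⁻¹)) →
        ∑ χ : IrrCharacter G, (if χ ∈ principalBlock M G then
          (χ : G → ℂ) w * conj ((χ : G → ℂ) (u : G)) else 0) = 0 := fun u hu w hw => by
      obtain ⟨z, hz⟩ := CfsgLib.Blocks.exists_isPPart (p := p) w
      exact block_orthogonality hM hz (isPPart_self Fact.out (hpp u)) (hgood u hu w z hw hz) hB
    have hmom : ∀ F : IrrCharacter G → ℂ, (∀ u : (P : Subgroup G), ψ u ≠ 1 → ∑ χ : IrrCharacter G,
        (if χ ∈ principalBlock M G then F χ * conj ((χ : G → ℂ) u) else 0) = 0) →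
        F one + (a : ℂ) * F x.1 + (b : ℂ) * F y.1 + (e₀ : ℂ) * F (ζ₀ s).1 = 0 := fun F hF => by
      obtain ⟨z1, z2, e1, e2, -, es⟩ := hζ s
      have e := sum_T_moment (M := M) ψ F hF
      rw [sum_block_split (principalBlock M G) hone (fun χ => (T χ ψ : ℂ) * F χ), hTone _ hψ,
        ← Finset.sum_subset (Finset.subset_univ ({x, y, ζ₀ s} : Finset ι)) (fun i _ hi => by
          simp only [Finset.mem_insert, Finset.mem_singleton, not_or] at hi
          rw [show T i.1 ψ = 0 from es i hi.1 hi.2.1 hi.2.2, Int.cast_zero, zero_mul]),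
        Finset.sum_insert (by simp [hxy, Ne.symm z1]), Finset.sum_insert (by simp [Ne.symm z2]),
        Finset.sum_singleton, show T x.1 ψ = a from e1, show T y.1 ψ = b from e2,
        show T (ζ₀ s).1 ψ = e₀ from (hconst s).1] at e
      push_cast at e
      linear_combination e
    have m0 := hmom (fun χ => (χ : G → ℂ) 1) fun u hu => horth u hu 1 (Or.inl rfl)
    have m1 := hmom (fun χ => (χ : G → ℂ) t) fun u hu => horth u hu t (Or.inr (Or.inl rfl))
    have m2 := hmom (fun χ => (χ : G → ℂ) t ^ 2 / (χ : G → ℂ) 1) fun u hu => by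
      have e : ∀ χ : IrrCharacter G, (if χ ∈ principalBlock M G then
          (χ : G → ℂ) t ^ 2 / (χ : G → ℂ) 1 * conj ((χ : G → ℂ) (u : G)) else 0) =
          ∑ g : G, (Nat.card G : ℂ)⁻¹ * (if χ ∈ principalBlock M G then
            (χ : G → ℂ) (t * (g * t * g⁻¹)) * conj ((χ : G → ℂ) (u : G)) else 0) := fun χ => by
        split_ifs
        · rw [← Finset.mul_sum, ← Finset.sum_mul, CfsgLib.Blocks.sum_char_mul_conj χ.2]
          have := CfsgLib.Char.card_ne_zero' (G := G)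
          field_simp
        · simp
      rw [Finset.sum_congr rfl (fun χ _ => e χ), Finset.sum_comm]
      refine Finset.sum_eq_zero fun g _ => ?_
      rw [← Finset.mul_sum, horth u hu _ (Or.inr (Or.inr ⟨g, rfl⟩)), mul_zero]
    choose c hc using fun i : ι => exists_int_value i.1 ht
    have hne : ∀ i : ι, c i ≠ (charDegree (i.1 : G → ℂ) : ℤ) := fun i e => by
      have hch := CfsgLib.Char.isCharacter_of_isIrr i.1.2
      have htop := hK (CfsgLib.CharNormal.charKer hch) (CfsgLib.CharNormal.charKer_normal hch)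
        (CfsgLib.CharNormal.mem_charKer.mpr (by
          rw [hc, e, CfsgLib.Blocks.charDegree_eq hch, Int.cast_natCast]))
      refine i.2.2 ?_
      by_contra hne1
      have h0 := CfsgLib.Char.classInner_irrCharacter i.1 one
      rw [if_neg hne1, CfsgLib.Char.classInner_def] at h0
      have hall : ∀ g : G, (i.1 : G → ℂ) g = (i.1 : G → ℂ) 1 := fun g =>
        CfsgLib.CharNormal.mem_charKer.mp (htop ▸ Subgroup.mem_top g)
      simp only [hone1, hall, map_one, mul_one, Finset.sum_const,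
        Finset.card_univ, nsmul_eq_mul, ← Nat.card_eq_fintype_card] at h0
      rw [inv_mul_cancel_left₀ (CfsgLib.Char.card_ne_zero' (G := G))] at h0
      exact CfsgLib.Char.irr_one_ne_zero i.1.2 h0
    simp only [hone1, hc, fun i : ι => CfsgLib.Blocks.charDegree_eq (CfsgLib.Char.isCharacter_of_isIrr i.1.2)]
      at m0 m1 m2
    have r0 : (1 : ℝ) + a * (charDegree (x.1 : G → ℂ) : ℕ) + b * (charDegree (y.1 : G → ℂ) : ℕ) +
        e₀ * (charDegree ((ζ₀ s).1 : G → ℂ) : ℕ) = 0 := by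
      apply Complex.ofReal_injective; push_cast; exact m0
    have r1 : (1 : ℝ) + a * (c x : ℝ) + b * (c y : ℝ) + e₀ * (c (ζ₀ s) : ℝ) = 0 := by
      apply Complex.ofReal_injective; push_cast; exact m1
    have r2 : (1 : ℝ) + a * ((c x : ℝ) ^ 2 / (charDegree (x.1 : G → ℂ) : ℕ)) +
        b * ((c y : ℝ) ^ 2 / (charDegree (y.1 : G → ℂ) : ℕ)) +
        e₀ * ((c (ζ₀ s) : ℝ) ^ 2 / (charDegree ((ζ₀ s).1 : G → ℂ) : ℕ)) = 0 := by
      apply Complex.ofReal_injective; push_cast
      rw [one_pow, div_one] at m2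
      exact m2
    obtain ⟨hsign, hsq⟩ := four_signs ua ub ue (hpos x) (hpos y) (hpos (ζ₀ s)) (hne x) (hne y) (hne _) r0 r1 r2
    refine ⟨?_, ?_⟩
    · rw [← hsign, Nat.card_eq_fintype_card, Fintype.card_subtype,
        show (Finset.univ.filter fun χ : IrrCharacter G =>
            χ ∈ X ∧ (χ : G → ℂ) ≠ (fun _ => 1) ∧ af χ = -1) =
          ({x.1, y.1} : Finset (IrrCharacter G)).filter (fun χ => af χ = -1) from ?_]
      · rw [Finset.filter_insert, Finset.filter_singleton, afx, afy]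
        rcases ua with e | e <;> rcases ub with e' | e' <;> rcases ue with e'' | e'' <;>
          simp [e, e', e'', hxy']
      · ext χ
        simp only [X, Finset.mem_filter, Finset.mem_univ, true_and, Finset.mem_insert, Finset.mem_singleton,
          Set.mem_insert_iff, Set.mem_singleton_iff, honefun]
        constructor
        · rintro ⟨e | e | e, hne1, he⟩
          exacts [absurd e hne1, ⟨Or.inl e, he⟩, ⟨Or.inr e, he⟩]
        · rintro ⟨e | e, he⟩
          exacts [⟨Or.inr (Or.inl e), e ▸ hnx, he⟩, ⟨Or.inr (Or.inr e), e ▸ hny, he⟩]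
    · rintro η ⟨_, ⟨s', rfl⟩, rfl⟩
      rw [show {χ : IrrCharacter G | χ ∈ X ∧ (χ : G → ℂ) ≠ fun _ => 1} = {x.1, y.1} from ?_,
        finprod_mem_pair hxy', (hconst s').2, ← (hconst s).2, mul_comm]
      · exact hsq
      · ext χ
        simp only [X, Set.mem_ofPred_eq, Set.mem_insert_iff, Set.mem_singleton_iff, honefun]
        constructor
        · rintro ⟨e | e | e, hne1⟩
          exacts [absurd e hne1, Or.inl e, Or.inr e]
        · rintro (e | e)
          exacts [⟨Or.inr (Or.inl e), e ▸ hnx⟩, ⟨Or.inr (Or.inr e), e ▸ hny⟩]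
end Cfsg.Agent.S4721
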