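import Cfsg.Statements.S4723
import Cfsg.Agent.Lib.Blocks.BlockDim
import Cfsg.Agent.Lib.Blocks.Nilpotent
import Cfsg.Agent.Lib.Blocks.Orth
import Cfsg.Agent.Lib.CharNormal.Clifford
import Cfsg.Agent.Lib.CharBlocks.Degree
import Mathlib

set_option autoImplicit false
open Cfsg

namespace Cfsg.Agent.S4723

open CfsgLib.Char CfsgLib.CharNormal CfsgLib.Blocks
open scoped ComplexConjugate

variable {G : Type*} [Group G] [Fintype G] {p : ℕ} [hp : Fact p.Prime] {M : Ideal AlgInt}
  [M.IsMaximal]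

theorem relIndex_dvd_relIndex (N A T : Subgroup G) [N.Normal] (hA : A ≤ T) (hN : N ≤ T) :
    A.relIndex N ∣ A.relIndex T := by
  have e0 : A.relIndex N = A.relIndex (A ⊔ N) := by
    have e1 := Subgroup.relIndex_mul_relIndex (A ⊓ N) N (A ⊔ N) inf_le_right le_sup_right
    have e2 := Subgroup.relIndex_mul_relIndex (A ⊓ N) A (A ⊔ N) inf_le_left le_sup_left
    rw [Subgroup.inf_relIndex_right, Subgroup.relIndex_sup_right] at e1
    rw [Subgroup.inf_relIndex_left, ← e1, mul_comm (A.relIndex N)] at e2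
    exact (Nat.eq_of_mul_eq_mul_left (Nat.pos_of_ne_zero
      (Subgroup.index_ne_zero_of_finite : (N.subgroupOf A).index ≠ 0)) e2).symm
  rw [e0]
  exact Dvd.intro _ (Subgroup.relIndex_mul_relIndex _ _ _ le_sup_left (sup_le hA hN))

theorem main (hM : IsPModular p M) (H : Subgroup G) [H.Normal] [Fintype H]
    (b : Set (IrrCharacter H)) (hb : IsPBlock M b) (T : Subgroup G)
    (hT : ∀ g : G, g ∈ T ↔ ∀ θ ∈ b, conjIrr H g⁻¹ θ ∈ b) :
    ∃ θ ∈ b, blockHeight p b (θ : H → ℂ) = 0 ∧ ∃ S : Subgroup G, S ≤ T ∧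
      (∀ g : G, g ∈ S ↔ g ∈ T ∧ conjFun H g (θ : H → ℂ) = θ) ∧ ¬ p ∣ S.relIndex T := by
  classical
  have hHT : H ≤ T := fun g hg => (hT g).mpr fun θ hθ => by
    have e : conjIrr H g⁻¹ θ = θ :=
      Subtype.ext (conjFun_of_mem H (isClassFunction_of_isIrr θ.2) (inv_mem hg))
    rwa [e]
  obtain ⟨P⟩ : Nonempty (Sylow p T) := inferInstance
  obtain ⟨A, hA⟩ : ∃ A : Subgroup G, A = (P : Subgroup T).map T.subtype := ⟨_, rfl⟩
  have hAT : A ≤ T := hA ▸ Subgroup.map_subtype_le _
  have hAp : IsPGroup p A := hA ▸ P.2.map _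
  have hAidx : ¬ p ∣ A.relIndex T := by
    rw [hA, Subgroup.relIndex, Subgroup.subgroupOf,
      Subgroup.comap_map_eq_self_of_injective T.subtype_injective]
    exact P.not_dvd_index
  let R : Subgroup H := A.subgroupOf H
  have := Fintype.ofFinite R
  have hRidx : ¬ p ∣ R.index := fun h => hAidx (h.trans (relIndex_dvd_relIndex H A T hAT hHT))
  have hRp : IsPGroup p R :=
    hAp.of_injective ((H.subtype.comp R.subtype).codRestrict A fun x => x.2)
      fun x y e => Subtype.ext (Subtype.ext (congrArg (Subtype.val : ↥A → G) e :))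
  have hRcard : (Nat.card R).factorization p = (Nat.card H).factorization p := by
    rw [← Subgroup.card_mul_index R, Nat.factorization_mul Nat.card_pos.ne'
      Subgroup.index_ne_zero_of_finite, Finsupp.add_apply,
      Nat.factorization_eq_zero_of_not_dvd hRidx, add_zero]
  have hm : ∀ η : IrrCharacter H, ∃ m : ℕ,
      Cfsg.classInner (fun u : R => (η : H → ℂ) u) (fun _ => (1 : ℂ)) = m :=
    fun η => classInner_char_nat (isCharacter_res _ (isCharacter_of_isIrr η.2)) isCharacter_one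
  choose m hm using hm
  have hq : ∀ η : b, ∃ q : ℕ, charDegree (η.1 : H → ℂ) =
      p ^ ((Nat.card H).factorization p - blockDefect p b) * q := fun η => by
    refine (hp.out.pow_dvd_iff_le_factorization (charDegree_ne_zero η.1)).mpr ?_
    have := degree_height hM hb η.2
    omega
  choose q hq using hq
  -- the sum is prime to `p`
  have hsum : ¬ p ∣ ∑ η : b, q η * m η.1 := by
    intro hdvd
    obtain ⟨hval, hne⟩ := exists_sum_sq hM hb
    have e0 : ∑ᶠ χ ∈ b, charDegree (χ : H → ℂ) ^ 2 = ∑ η : b, charDegree (η.1 : H → ℂ) ^ 2 := by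
      rw [finsum_mem_eq_finite_toFinset_sum _ (Set.toFinite _)]
      exact Finset.sum_subtype _ (fun _ => Set.Finite.mem_toFinset _) _
    have h1 : ∀ η : b, (Nat.card R : ℂ) * ((charDegree (η.1 : H → ℂ) : ℂ) * m η.1) =
        ∑ u : R, (η.1 : H → ℂ) 1 * (η.1 : H → ℂ) u := by
      intro η
      rw [← hm, mul_left_comm, card_mul_classInner, Finset.mul_sum,
        CfsgLib.CharBlocks.coe_charDegree_irr]
      simp
    have h2 : ((∑ η : b, charDegree (η.1 : H → ℂ) ^ 2 : ℕ) : ℂ) =
        ((Nat.card R * ∑ η : b, charDegree (η.1 : H → ℂ) * m η.1 : ℕ) : ℂ) := by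
      have hz : ∀ u : R, u ≠ 1 → ∑ η : b, (η.1 : H → ℂ) 1 * (η.1 : H → ℂ) u = 0 := by
        intro u hu
        have hord : p ∣ orderOf ((u : H)⁻¹) := by
          obtain ⟨j, hj⟩ := IsPGroup.iff_orderOf.1 hRp u
          rw [orderOf_inv, Subgroup.orderOf_coe, hj]
          refine dvd_pow_self p fun e => hu ?_
          rw [e, pow_zero, orderOf_eq_one_iff] at hj
          exact hj
        have hw := weak_orthogonality hM hb (x := (1 : H))
          (by rw [orderOf_one]; exact hp.out.not_dvd_one) hord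
        rw [← Finset.sum_filter] at hw
        rw [← Finset.sum_subtype (Finset.univ.filter fun η => η ∈ b) (fun η => by simp)
          (fun η : IrrCharacter H => (η : H → ℂ) 1 * (η : H → ℂ) u), ← hw]
        refine Finset.sum_congr rfl fun η _ => ?_
        rw [char_inv (isCharacter_of_isIrr η.2), Complex.conj_conj]
      push_cast
      rw [Finset.mul_sum, Finset.sum_congr rfl fun η _ => h1 η, Finset.sum_comm,
        Fintype.sum_eq_single (1 : R) hz]
      refine Finset.sum_congr rfl fun η _ => ?_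
      rw [CfsgLib.CharBlocks.coe_charDegree_irr, OneMemClass.coe_one, sq]
    have h3 : ∑ η : b, charDegree (η.1 : H → ℂ) ^ 2 =
        Nat.card R * (p ^ ((Nat.card H).factorization p - blockDefect p b) * ∑ η : b, q η * m η.1) := by
      rw [Nat.cast_injective h2, Finset.mul_sum Finset.univ (fun η : b => q η * m η.1)]
      congr 1
      exact Finset.sum_congr rfl fun η _ => by rw [hq, mul_assoc]
    rw [e0, h3] at hne
    rw [e0, h3] at hval
    have hne1 : ∑ η : b, q η * m η.1 ≠ 0 := fun e => hne (by rw [e, mul_zero, mul_zero])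
    rw [Nat.factorization_mul Nat.card_pos.ne' (mul_ne_zero (pow_ne_zero _ hp.out.ne_zero) hne1),
      Nat.factorization_mul (pow_ne_zero _ hp.out.ne_zero) hne1, Finsupp.add_apply, Finsupp.add_apply,
      hRcard, hp.out.factorization_pow, Finsupp.single_eq_same] at hval
    have := hp.out.factorization_pos_of_dvd hne1 hdvd
    have : blockDefect p b ≤ (Nat.card H).factorization p := Nat.sub_le _ _
    omega
  letI : MulAction A b :=
    { smul := fun x η => ⟨conjIrr H (x : G)⁻¹ η.1, (hT x).mp (hAT x.2) η.1 η.2⟩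
      one_smul := fun η => Subtype.ext (Subtype.ext (by
        show conjFun H ((1 : A) : G)⁻¹ (η.1 : H → ℂ) = _
        rw [OneMemClass.coe_one, inv_one, conjFun_one]))
      mul_smul := fun x y η => Subtype.ext (Subtype.ext (by
        show conjFun H ((x * y : A) : G)⁻¹ (η.1 : H → ℂ) =
          conjFun H (x : G)⁻¹ (conjFun H (y : G)⁻¹ (η.1 : H → ℂ))
        rw [conjFun_conjFun, Subgroup.coe_mul, mul_inv_rev])) }
  have hcoe : ∀ (x : A) (η : b),
      ((x • η : b).1 : H → ℂ) = conjFun H (x : G)⁻¹ (η.1 : H → ℂ) := fun _ _ => rfl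
  let f : b → ZMod p := fun η => ((q η * m η.1 : ℕ) : ZMod p)
  have hf : ∀ (x : A) (η : b), f (x • η) = f η := by
    intro x η
    have hmm : m (x • η).1 = m η.1 := by
      have h := hm (x • η).1
      have hcong : Cfsg.classInner (fun u : R => ((x • η).1 : H → ℂ) u) (fun _ => (1 : ℂ)) =
          Cfsg.classInner (fun u : R => (η.1 : H → ℂ) u) (fun _ => (1 : ℂ)) := by
        rw [classInner_def, classInner_def]
        congr 1
        let e : R ≃ R :=
          { toFun := fun u => ⟨⟨(x : G)⁻¹ * ((u : H) : G) * (x : G)⁻¹⁻¹,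
              Subgroup.Normal.conj_mem ‹_› _ (u : H).2 _⟩,
              mul_mem (mul_mem (inv_mem x.2) u.2) (inv_mem (inv_mem x.2))⟩
            invFun := fun u => ⟨⟨(x : G) * ((u : H) : G) * (x : G)⁻¹,
              Subgroup.Normal.conj_mem ‹_› _ (u : H).2 _⟩, mul_mem (mul_mem x.2 u.2) (inv_mem x.2)⟩
            left_inv := fun u => Subtype.ext (Subtype.ext (by simp [mul_assoc]))
            right_inv := fun u => Subtype.ext (Subtype.ext (by simp [mul_assoc])) }
        exact Fintype.sum_equiv e _ _ fun u => rfl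
      rw [hcong, hm] at h
      exact_mod_cast h.symm
    have hqq : q (x • η) = q η := by
      have h := hq (x • η)
      rw [charDegree, hcoe, conjFun_apply_one, ← charDegree, hq η] at h
      exact (Nat.eq_of_mul_eq_mul_left (pow_pos hp.out.pos _) h).symm
    simp only [f, hmm, hqq]
  have hfix := sum_eq_sum_fixedPoints hAp f hf
  obtain ⟨θ, hθfix, hθ⟩ : ∃ η : b, η ∈ MulAction.fixedPoints A b ∧ ¬ p ∣ q η := by
    by_contra hc
    push Not at hc
    apply hsum
    rw [← ZMod.natCast_eq_zero_iff, Nat.cast_sum]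
    refine hfix.trans (Finset.sum_eq_zero fun η hη => ?_)
    exact (ZMod.natCast_eq_zero_iff _ _).mpr
      (dvd_mul_of_dvd_left (hc η (Finset.mem_filter.mp hη).2) _)
  refine ⟨θ.1, θ.2, ?_, T ⊓ inertia H (θ.1 : H → ℂ), inf_le_left, fun g => Iff.rfl, ?_⟩
  · have h := degree_height hM hb θ.2
    have hq0 : q θ ≠ 0 := fun e => hθ (e ▸ dvd_zero p)
    rw [hq θ, Nat.factorization_mul (pow_ne_zero _ hp.out.ne_zero) hq0, Finsupp.add_apply,
      hp.out.factorization_pow, Finsupp.single_eq_same, Nat.factorization_eq_zero_of_not_dvd hθ] at h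
    have : blockDefect p b ≤ (Nat.card H).factorization p := Nat.sub_le _ _
    omega
  · refine fun h => hAidx (h.trans (Subgroup.relIndex_dvd_of_le_left T (le_inf hAT fun g hg => ?_)))
    have e := congrArg (fun η : b => (η.1 : H → ℂ)) (hθfix ((⟨g, hg⟩ : A)⁻¹))
    simp only [hcoe, Subgroup.coe_inv, inv_inv] at e
    exact e

/-- Let p be a prime, M a maximal ideal of the algebraic integers containing p, H a normal subgroup of the finite group G and b a p-block of H. Let T be the stabilizer of b in G. Then b contains a character θ of height zero whose own stabilizer in G (the elements g with θ(g h g⁻¹) = θ(h) for all h ∈ H) has index prime to p in T, i.e. contains a Sylow p-subgroup of T. -/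
theorem result {G : Type*} [Group G] [Finite G] (p : ℕ) [Fact p.Prime] (M : Ideal Cfsg.AlgInt) (hM : Cfsg.IsPModular p M) (H : Subgroup G) [H.Normal] (b : Set (Cfsg.IrrCharacter ↥H)) (hb : Cfsg.IsPBlock M b) (T : Subgroup G) (hT : (∀ g : G, g ∈ T ↔ ∀ θ ∈ b, ∀ θ' : Cfsg.IrrCharacter ↥H, (∀ h h' : ↥H, (h' : G) = g * h * g⁻¹ → (θ' : ↥H → ℂ) h' = (θ : ↥H → ℂ) h) → θ' ∈ b)) : ∃ θ ∈ b, Cfsg.blockHeight p b (θ : ↥H → ℂ) = 0 ∧ ∃ S : Subgroup G, S ≤ T ∧ (∀ g : G, g ∈ S ↔ (g ∈ T ∧ ∀ h h' : ↥H, (h' : G) = g * h * g⁻¹ → (θ : ↥H → ℂ) h' = (θ : ↥H → ℂ) h)) ∧ ¬ p ∣ S.relIndex T := by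
  classical
  have := Fintype.ofFinite G
  have := Fintype.ofFinite H
  have := hM.2.1
  have key : ∀ (g : G) (θ θ' : Cfsg.IrrCharacter ↥H),
      (∀ h h' : ↥H, (h' : G) = g * h * g⁻¹ → (θ' : ↥H → ℂ) h' = (θ : ↥H → ℂ) h) ↔
        θ' = CfsgLib.CharNormal.conjIrr H g⁻¹ θ := by
    intro g θ θ'
    constructor
    · intro e
      refine Subtype.ext (funext fun n => ?_)
      refine e ⟨g⁻¹ * n * g⁻¹⁻¹, Subgroup.Normal.conj_mem ‹_› _ n.2 _⟩ n ?_
      simp [mul_assoc]
    · rintro rfl h h' e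
      show (θ : ↥H → ℂ) _ = _
      refine congrArg _ (Subtype.ext ?_)
      show g⁻¹ * (h' : G) * g⁻¹⁻¹ = h
      rw [e]; group
  obtain ⟨θ, hθ, h0, S, hST, hS, hidx⟩ := main hM H b hb T fun g => by
    rw [hT g]
    exact ⟨fun e η hη => e η hη _ ((key g η _).mpr rfl), fun e η hη η' he => (key g η η').mp he ▸ e η hη⟩
  refine ⟨θ, hθ, h0, S, hST, fun g => (hS g).trans (and_congr_right fun _ => ?_), hidx⟩
  constructor
  · intro e h h' he
    conv_rhs => rw [← e]
    exact congrArg (θ : ↥H → ℂ) (Subtype.ext he)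
  · intro e
    exact funext fun n => e n ⟨g * n * g⁻¹, Subgroup.Normal.conj_mem ‹_› _ n.2 _⟩ rfl

end Cfsg.Agent.S4723
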