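import Cfsg.Statements.S4725
import Cfsg.Agent.Lib.Blocks.SecondMain
import Cfsg.Agent.Lib.Blocks.Heights

set_option autoImplicit false
open Cfsg

namespace Cfsg.Agent.S4725

/-- Let p be a prime, M a maximal ideal of the algebraic integers containing p, H a subgroup of the finite group G, and b a p-block of H inducing the p-block B of G, with b and B of the same defect. Then for every height-zero ζ ∈ b there is a height-zero χ ∈ B whose multiplicity in the character induced from ζ is not divisible by p. -/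
theorem result {G : Type*} [Group G] [Fintype G] (p : ℕ) [Fact p.Prime] (M : Ideal Cfsg.AlgInt) (hM : Cfsg.IsPModular p M) (H : Subgroup G) (b : Set (Cfsg.IrrCharacter ↥H)) (B : Set (Cfsg.IrrCharacter G)) (hind : Cfsg.IsInducedBlock M H b B) (hdef : Cfsg.blockDefect p b = Cfsg.blockDefect p B) (ζ : Cfsg.IrrCharacter ↥H) (hζ : ζ ∈ b) (hζ0 : Cfsg.blockHeight p b (ζ : ↥H → ℂ) = 0) : ∃ χ ∈ B, Cfsg.blockHeight p B (χ : G → ℂ) = 0 ∧ ∃ a : ℕ, Cfsg.classInner (Cfsg.indFun H (ζ : ↥H → ℂ)) (χ : G → ℂ) = (a : ℂ) ∧ ¬ p ∣ a := by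
  classical
  have := hM.2.1
  let _ := Fintype.ofFinite H
  obtain ⟨hb, hB, hindB⟩ := (CfsgLib.Blocks.isInducedBlock_iff H).mp hind
  obtain ⟨χ₀, hχ₀⟩ := CfsgLib.Blocks.IsPBlock.nonempty hB
  have hζc : IsCharacter H (ζ : H → ℂ) := CfsgLib.Char.isCharacter_of_isIrr ζ.2
  have hindc : IsCharacter G (indFun H (ζ : H → ℂ)) := CfsgLib.Char.isCharacter_indFun H hζc
  have hn : ∀ χ : IrrCharacter G, ∃ n : ℕ, classInner (indFun H (ζ : H → ℂ)) (χ : G → ℂ) = n :=
    fun χ => CfsgLib.Char.classInner_char_nat hindc (CfsgLib.Char.isCharacter_of_isIrr χ.2)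
  choose n hn using hn
  set u := CfsgLib.Blocks.zomega ζ
    (CfsgLib.Blocks.resIn (M := M) H (CfsgLib.Blocks.idem hB)) with hu
  have hres : CfsgLib.Blocks.res M u = 1 := by
    rw [hu, ← CfsgLib.Blocks.bomega_apply, ← CfsgLib.Blocks.indBomega_apply, hindB ζ hζ χ₀ hχ₀,
      CfsgLib.Blocks.bomega_idem, if_pos hχ₀]
  set N : ℕ := ∑ χ : IrrCharacter G, if χ ∈ B then n χ * charDegree (χ : G → ℂ) else 0 with hNdef
  set D : ℕ := H.index * charDegree (ζ : H → ℂ) with hDdef
  have hN : (N : ℂ) = (D : ℂ) * (u : ℂ) := by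
    have h1 : (N : ℂ) = blockPart B (indFun H (ζ : H → ℂ)) 1 := by
      rw [CfsgLib.Blocks.blockPart_apply, hNdef, Nat.cast_sum]
      refine Finset.sum_congr rfl fun χ _ => ?_
      split_ifs
      · rw [Nat.cast_mul, hn, CfsgLib.Blocks.charDegree_eq (CfsgLib.Char.isCharacter_of_isIrr χ.2)]
      · simp
    rw [h1, ← CfsgLib.Blocks.sum_blockCoeff_mul hB (CfsgLib.Char.isClassFunction_indFun H _), hu,
      CfsgLib.Blocks.coe_zomega, CfsgLib.Blocks.omega, CfsgLib.Blocks.charLin_apply, hDdef]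
    have hswap : ∑ k : G, blockCoeff B k * indFun H (ζ : H → ℂ) (k * 1) =
        (Nat.card H : ℂ)⁻¹ * ((Nat.card G : ℂ) * ∑ k : G, blockCoeff B k * extendByZero H (ζ : H → ℂ) k) := by
      simp only [mul_one, indFun, Finset.mul_sum]
      rw [Finset.sum_comm, Nat.card_eq_fintype_card (α := G), ← Finset.card_univ]
      have hx : ∀ x : G, ∑ k : G, blockCoeff B k * ((Nat.card H : ℂ)⁻¹ *
          extendByZero H (ζ : H → ℂ) (x⁻¹ * k * x)) = (Nat.card H : ℂ)⁻¹ *
            ∑ k : G, blockCoeff B k * extendByZero H (ζ : H → ℂ) k := by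
        intro x
        rw [Finset.mul_sum]
        refine Fintype.sum_equiv ((Equiv.mulLeft x⁻¹).trans (Equiv.mulRight x)) _ _ fun k => ?_
        simp only [Equiv.trans_apply, Equiv.coe_mulLeft, Equiv.coe_mulRight]
        conv_rhs => rw [← CfsgLib.Blocks.blockCoeff_conj B (x⁻¹ * k * x) x]
        rw [show x * (x⁻¹ * k * x) * x⁻¹ = k by group]
        ring
      simp only [hx, Finset.sum_const, nsmul_eq_mul]
      simp only [Finset.mul_sum]
      exact Finset.sum_congr rfl fun k _ => by ring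
    have hsub : ∑ k : G, blockCoeff B k * extendByZero H (ζ : H → ℂ) k =
        ∑ h : H, blockCoeff B (h : G) * (ζ : H → ℂ) h := by
      rw [← Fintype.sum_subtype_add_sum_subtype (· ∈ H)
          (fun k => blockCoeff B k * extendByZero H (ζ : H → ℂ) k),
        Finset.sum_eq_zero (fun k _ => ?_) (s := (Finset.univ : Finset {k // ¬ k ∈ H})), add_zero]
      · refine Finset.sum_congr (by ext; simp) fun h _ => ?_
        rw [extendByZero, Subtype.val_injective.extend_apply]
      · rw [extendByZero, Function.extend_apply', Pi.zero_apply, mul_zero]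
        rintro ⟨h, hh⟩
        exact k.2 (hh ▸ h.2)
    rw [hswap, hsub, Nat.cast_mul, ← CfsgLib.Blocks.charDegree_eq hζc, ← Subgroup.card_mul_index H]
    have := CfsgLib.Char.card_ne_zero' (G := H)
    have := CfsgLib.Char.irr_one_ne_zero ζ.2
    simp only [CfsgLib.Blocks.resIn, AddMonoidHom.coe_mk, ZeroHom.coe_mk, CfsgLib.Blocks.coeff_ofFun,
      CfsgLib.Blocks.idem, CfsgLib.Blocks.blockElt]
    push_cast
    field_simp
  have hD0 : D ≠ 0 := Nat.mul_ne_zero Subgroup.index_ne_zero_of_finite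
    (CfsgLib.Blocks.charDegree_ne_zero ζ)
  obtain ⟨v, hv⟩ : ∃ v, u * v = 1 :=
    ((CfsgLib.Blocks.isUnit_iff_res_ne_zero M u).mpr (by rw [hres]; exact one_ne_zero)).exists_right_inv
  have hu0 : (u : ℂ) ≠ 0 := by
    intro h
    have := congrArg Subtype.val hv
    simp [h] at this
  have hN0 : N ≠ 0 := by
    intro h
    rw [h, Nat.cast_zero] at hN
    exact mul_ne_zero (Nat.cast_ne_zero.mpr hD0) hu0 hN.symm
  have hle : N.factorization p ≤ D.factorization p := by
    refine CfsgLib.Blocks.factorization_le_of_frac_mem hM hD0 hN0 ?_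
    have : (D : ℂ) / (N : ℂ) = (v : ℂ) := by
      have hv' : (u : ℂ) * (v : ℂ) = 1 := congrArg Subtype.val hv
      rw [hN, div_eq_iff (mul_ne_zero (Nat.cast_ne_zero.mpr hD0) hu0)]
      linear_combination (-(D : ℂ)) * hv'
    rw [this]
    exact v.2
  obtain ⟨χ, hχ, hpos, hval⟩ : ∃ χ ∈ B, n χ ≠ 0 ∧
      (n χ * charDegree (χ : G → ℂ)).factorization p ≤ D.factorization p := by
    by_contra hall
    push Not at hall
    have hdvd : p ^ (D.factorization p + 1) ∣ N := by
      refine Finset.dvd_sum fun χ _ => ?_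
      split_ifs with hχ
      · by_cases h0 : n χ = 0
        · simp [h0]
        · refine ((Fact.out : p.Prime).pow_dvd_iff_le_factorization ?_).mpr (hall χ hχ h0)
          exact Nat.mul_ne_zero h0 (CfsgLib.Blocks.charDegree_ne_zero χ)
      · exact dvd_zero _
    have := ((Fact.out : p.Prime).pow_dvd_iff_le_factorization hN0).mp hdvd
    omega
  have h1 := CfsgLib.Blocks.degree_height (p := p) hM hB hχ
  have h2 := CfsgLib.Blocks.degree_height (p := p) hM hb hζ
  have h3 : (Nat.card G).factorization p = (Nat.card H).factorization p + H.index.factorization p := by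
    rw [← Subgroup.card_mul_index H, Nat.factorization_mul Nat.card_pos.ne'
      Subgroup.index_ne_zero_of_finite, Finsupp.add_apply]
  rw [Nat.factorization_mul hpos (CfsgLib.Blocks.charDegree_ne_zero χ), Finsupp.add_apply, hDdef,
    Nat.factorization_mul Subgroup.index_ne_zero_of_finite (CfsgLib.Blocks.charDegree_ne_zero ζ),
    Finsupp.add_apply] at hval
  refine ⟨χ, hχ, by omega, n χ, hn χ, fun hd => ?_⟩
  have := (Fact.out : p.Prime).factorization_pos_of_dvd hpos hd
  omega

end Cfsg.Agent.S4725
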