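import Cfsg.Statements.S4726
import Cfsg.Agent.Lib.BrauerPairs.LocalDefect
import Mathlib

set_option autoImplicit false
open Cfsg

namespace Cfsg.Agent.S4726

open CfsgLib.Blocks CfsgLib.BrauerPairs

variable {G : Type*} [Group G] [Fintype G] {p : ℕ} [hp : Fact p.Prime] {M : Ideal AlgInt}
  [M.IsMaximal]

/-- An element of the integral centre killed on `C(D)` is killed by the block with defect group `D`. -/
theorem bomega_eq_zero_of_centralizer {H : Type*} [Group H] [Fintype H] (hM : IsPModular p M)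
    {b : Set (IrrCharacter H)} (hb : IsPBlock M b) {D : Subgroup H} (hD : IsDefectGroup p M b D)
    {η : IrrCharacter H} (hη : η ∈ b) {z : Zint M H}
    (hz : ∀ c ∈ Subgroup.centralizer (D : Set H), rcoeff z c = 0) : bomega η z = 0 := by
  classical
  have : Finite (ConjClasses H) := Finite.of_surjective _ ConjClasses.mk_surjective
  have := Fintype.ofFinite (ConjClasses H)
  rw [bomega_eq_sum]
  refine Finset.sum_eq_zero fun C _ => ?_
  by_cases h0 : bomega η (zclass M C.out) = 0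
  · rw [h0, mul_zero]
  obtain ⟨E, hE⟩ := exists_isClassDefect (p := p) C.out
  obtain ⟨x, hx⟩ := defect_le_of_bomega_ne_zero hM hb hD hη h0 hE
  have hc : x⁻¹ * C.out * x ∈ Subgroup.centralizer (D : Set H) := by
    refine Subgroup.mem_centralizer_iff.mpr fun d hd => ?_
    have h1 := Subgroup.mem_centralizer_iff.mp hE.mem_centralizer (x * d * x⁻¹)
      (hx (mem_cj.mpr (by simpa [mul_assoc] using hd)))
    calc d * (x⁻¹ * C.out * x) = x⁻¹ * (x * d * x⁻¹ * C.out) * x := by group
      _ = x⁻¹ * (C.out * (x * d * x⁻¹)) * x := by rw [h1]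
      _ = _ := by group
  rw [rcoeff_eq_of_isConj z (g := C.out) (h := x⁻¹ * C.out * x)
    (isConj_iff.mpr ⟨x⁻¹, by rw [inv_inv]⟩), hz _ hc, zero_mul]

variable (H : Subgroup G) [Fintype H] {b : Set (IrrCharacter H)} {D₀ : Subgroup H}

theorem mem_cen_map_iff {h : H} :
    (h : G) ∈ Subgroup.centralizer ((D₀.map H.subtype : Subgroup G) : Set G) ↔
      h ∈ Subgroup.centralizer (D₀ : Set H) := by
  rw [Subgroup.mem_centralizer_iff, Subgroup.mem_centralizer_iff]
  refine ⟨fun h1 d hd => Subtype.ext (h1 d ⟨d, hd, rfl⟩), ?_⟩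
  rintro h1 _ ⟨d, hd, rfl⟩
  exact congrArg Subtype.val (h1 d hd)

/-- The induced central character is multiplicative. -/
theorem bomega_resIn_mul (hM : IsPModular p M) (hb : IsPBlock M b) (hD₀ : IsDefectGroup p M b D₀)
    (hC : Subgroup.centralizer ((D₀.map H.subtype : Subgroup G) : Set G) ≤ H)
    {η : IrrCharacter H} (hη : η ∈ b) (a c : Zint M G) :
    bomega η (resIn H (a * c)) = bomega η (resIn H a) * bomega η (resIn H c) := by
  classical
  rw [← map_mul, ← sub_eq_zero, ← map_sub]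
  refine bomega_eq_zero_of_centralizer hM hb hD₀ hη fun h hh => ?_
  have hhG := (mem_cen_map_iff H).mpr hh
  rw [rcoeff_sub, rcoeff_resIn,
    rcoeff_mul_centralizer hM ((IsDefectGroup.isPGroup hD₀).map H.subtype) a c hhG,
    rcoeff_mul_centralizer hM (IsDefectGroup.isPGroup hD₀) _ _ hh, sub_eq_zero]
  rw [← Finset.sum_filter, ← Finset.sum_filter]
  refine (Finset.sum_bij (fun (x : H) _ => (x : G)) (fun x hx => ?_) (fun x _ y _ e => Subtype.ext e)
    (fun y hy => ?_) (fun x hx => ?_)).symm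
  · exact Finset.mem_filter.mpr ⟨Finset.mem_univ _, (mem_cen_map_iff H).mpr (Finset.mem_filter.mp hx).2⟩
  · exact ⟨⟨y, hC (Finset.mem_filter.mp hy).2⟩, Finset.mem_filter.mpr ⟨Finset.mem_univ _,
      (mem_cen_map_iff H).mp (Finset.mem_filter.mp hy).2⟩, rfl⟩
  · simp only [rcoeff_resIn, Subgroup.coe_mul, Subgroup.coe_inv]

theorem exists_induced (hM : IsPModular p M) (hb : IsPBlock M b) (hD₀ : IsDefectGroup p M b D₀)
    (hC : Subgroup.centralizer ((D₀.map H.subtype : Subgroup G) : Set G) ≤ H) :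
    ∃ B, IsInducedBlock M H b B := by
  obtain ⟨η, hη⟩ := IsPBlock.nonempty hb
  let φ : Zint M G →+* Res M :=
    { indBomega H η with
      map_one' := by
        show bomega η (resIn H 1) = 1
        rw [resIn_one, map_one]
      map_mul' := fun a c => bomega_resIn_mul H hM hb hD₀ hC hη a c }
  obtain ⟨χ, hχ⟩ := exists_bomega_eq φ (fun c => by
    show indBomega H η (scal M c) = res M c
    rw [← mul_one (scal M c : Zint M G), indBomega_scal_mul, indBomega_apply, resIn_one, map_one,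
      mul_one])
  exact ⟨blockOf M (χ : G → ℂ), isPBlock_eq_blockOf hb hη ▸
    isInducedBlock_of_mem H (fun a => RingHom.congr_fun hχ a)⟩

/-- The product of the Brauer images of the two idempotents does not vanish. -/
theorem br_mul_ne_zero (hM : IsPModular p M) (hb : IsPBlock M b) (hD₀ : IsDefectGroup p M b D₀)
    {B : Set (IrrCharacter G)} (hind : IsInducedBlock M H b B) {D : Subgroup G}
    (hDdef : D = D₀.map H.subtype) :
    br D (gidemTop M B) * br D (gidem M H b) ≠ 0 := by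
  classical
  subst hDdef
  obtain ⟨-, hB, hlink⟩ := (isInducedBlock_iff H).mp hind
  obtain ⟨η, hη⟩ := IsPBlock.nonempty hb
  obtain ⟨χ, hχ⟩ := IsPBlock.nonempty hB
  have hDH : D₀.map H.subtype ≤ H := Subgroup.map_subtype_le D₀
  intro h0
  have h1 : bomega η (resIn H (idem hB) * idem hb) = 1 := by
    rw [map_mul, bomega_idem, if_pos hη, mul_one, ← indBomega_apply, hlink η hη χ hχ, bomega_idem,
      if_pos hχ]
  refine one_ne_zero (h1.symm.trans (bomega_eq_zero_of_centralizer hM hb hD₀ hη fun c hc => ?_))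
  have hcG := (mem_cen_map_iff H).mpr hc
  rw [← br_mul hM ((IsDefectGroup.isPGroup hD₀).map H.subtype) (isFixed_gidemTop _ B)
    ((centralIn_gidem b).2.mono hDH)] at h0
  have h2 := congrArg (fun z : KG M G => z.coeff (c : G)) h0
  simp only [coeff_br, if_pos hcG, MonoidAlgebra.coeff_zero, Finsupp.coe_zero, Pi.zero_apply] at h2
  refine Eq.trans ?_ h2
  rw [coeff_mul_eq_sum, rcoeff_mul, gidem_eq_emb hb, gidemTop_eq hB,
    ← Finset.sum_subset (Finset.subset_univ ((Finset.univ : Finset H).map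
      (Function.Embedding.subtype (· ∈ H)))) (fun x _ hx => ?_), Finset.sum_map]
  · refine Finset.sum_congr rfl fun x _ => ?_
    show _ = (ridem hB).coeff (x : G) * (emb H (ridem hb)).coeff ((x : G)⁻¹ * (c : G))
    rw [← Subgroup.coe_inv, ← Subgroup.coe_mul, coeff_emb]
    rfl
  · rw [coeff_emb_of_notMem, mul_zero]
    intro hmem
    refine hx (Finset.mem_map.mpr ⟨⟨x, ?_⟩, Finset.mem_univ _, rfl⟩)
    simpa using H.mul_mem c.2 (H.inv_mem hmem)

theorem main (hM : IsPModular p M) (hb : IsPBlock M b) (hD₀ : IsDefectGroup p M b D₀)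
    (hC : Subgroup.centralizer ((D₀.map H.subtype : Subgroup G) : Set G) ≤ H)
    {B : Set (IrrCharacter G)} (hind : IsInducedBlock M H b B) :
    ∃ D : Subgroup G, IsDefectGroup p M B D ∧
      (Subgroup.center ↥D).map D.subtype ≤ ((Subgroup.center ↥D₀).map D₀.subtype).map H.subtype ∧
      D₀.map H.subtype ≤ D := by
  classical
  obtain ⟨A, hA⟩ : ∃ A : Subgroup G, A = D₀.map H.subtype := ⟨_, rfl⟩
  have hAp : IsPGroup p A := hA ▸ (IsDefectGroup.isPGroup hD₀).map H.subtype
  have hAH : A ≤ H := hA ▸ Subgroup.map_subtype_le D₀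
  have hCA : Cen A ≤ H := hA ▸ hC
  have hB : IsPBlock M B := hind.2.1
  have hne := br_mul_ne_zero H hM hb hD₀ hind hA
  have hx1 : CentralIn (Cen A) (br A (gidemTop M B)) := centralIn_br (isFixed_gidemTop _ B)
  have hx2 : CentralIn (Cen A) (br A (gidem M H b)) := centralIn_br ((centralIn_gidem b).2.mono hCA)
  have hfixb : IsFixed A (gidem M H b) := (centralIn_gidem b).2.mono hAH
  have hid : (br A (gidemTop M B) * br A (gidem M H b)) * (br A (gidemTop M B) * br A (gidem M H b)) =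
      br A (gidemTop M B) * br A (gidem M H b) := by
    rw [← br_mul hM hAp (isFixed_gidemTop A B) hfixb,
      ← br_mul hM hAp ((isFixed_gidemTop A B).mul hfixb) ((isFixed_gidemTop A B).mul hfixb)]
    congr 1
    rw [mul_assoc, ← mul_assoc (gidem M H b),
      ← (CentralIn.commute_of_supp (H := (⊤ : Subgroup G))
        ⟨fun g hg => absurd (Subgroup.mem_top g) hg, isFixed_gidemTop ⊤ B⟩
        (y := gidem M H b) (fun g hg => absurd (Subgroup.mem_top g) hg)),
      mul_assoc (gidemTop M B) (gidem M H b), gidem_mul_self hb, ← mul_assoc, gidemTop_mul_self hB]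
  obtain ⟨f, hf, hocc⟩ := exists_occurs' (hx1.mul hx2) hid hne
  have hbf : br A (gidem M H b) * gidem M (Cen A) f = gidem M (Cen A) f := by
    rcases occurs_cases hx2 (by rw [← br_mul hM hAp hfixb hfixb, gidem_mul_self hb]) hf with h | h
    · exact h
    · exfalso
      rw [mul_assoc, h, mul_zero] at hocc
      exact gidem_ne_zero hf hocc.symm
  have hBf : br A (gidemTop M B) * gidem M (Cen A) f = gidem M (Cen A) f := by
    rwa [mul_assoc, hbf] at hocc
  have hpair : IsBrauerPairOf p M B A f := (brauerPairOf_iff hM).mpr ⟨⟨hAp, hf⟩, hB, hBf⟩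
  obtain ⟨m, hm, hle⟩ := exists_maximal hM (a := ⟨A, f⟩) hpair
  have hD := isDefectGroup_of_maximal hM hm
  have hAD : A ≤ m.1 := subgroup_le hle
  refine ⟨m.1, hD, ?_, hA ▸ hAD⟩
  obtain ⟨Z, hZ⟩ : ∃ Z : Subgroup G, Z = (Subgroup.center ↥m.1).map m.1.subtype := ⟨_, rfl⟩
  have hZD : Z ≤ m.1 := hZ ▸ Subgroup.map_subtype_le _
  have hZC : Z ≤ Cen A := by
    rw [hZ]
    rintro _ ⟨z, hz, rfl⟩
    refine Subgroup.mem_centralizer_iff.mpr fun a ha => ?_
    exact congrArg Subtype.val (Subgroup.mem_center_iff.mp hz ⟨a, hAD ha⟩)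
  have hSN : A ⊔ Z ≤ Subgroup.normalizer (A : Set G) :=
    sup_le Subgroup.le_normalizer (hZC.trans (Subgroup.centralizer_le_normalizer _))
  obtain ⟨hfix, hbr⟩ := normal_between hM hm.1.1 hle le_sup_left (sup_le hAD hZD) hSN
  have hSH : A ⊔ Z ≤ H := sup_le hAH (hZC.trans hCA)
  have hSp : IsPGroup p ↥(A ⊔ Z) := hm.1.1.1.to_le (sup_le hAD hZD)
  have hbS : br (A ⊔ Z) (gidem M H b) ≠ 0 := by
    intro h0
    apply hbr
    rw [← hbf, br_mul hM hSp (((centralIn_gidem b).2.mono hSH).br hSN) hfix, br_br le_sup_left, h0,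
      zero_mul]
  obtain ⟨E, hE, hSE⟩ := exists_defect_ge hM hb hSp hSH hbS
  have hEcard : Nat.card E = Nat.card D₀ := by
    rw [card_defectGroup hM hb hE, card_defectGroup hM hb hD₀]
  have hScard : Nat.card ↥(A ⊔ Z) ≤ Nat.card A := by
    rw [← Nat.card_congr (Subgroup.subgroupOfEquivOfLe hSH).toEquiv]
    refine (Subgroup.card_le_of_le hSE).trans ?_
    rw [hEcard, hA, Subgroup.card_map_of_injective H.subtype_injective]
  have hS : A = A ⊔ Z := Subgroup.eq_of_le_of_card_ge le_sup_left hScard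
  intro z hz
  have hzA : z ∈ A := hS ▸ Subgroup.mem_sup_right (hZ ▸ hz)
  have hzC := Subgroup.mem_centralizer_iff.mp (hZC (hZ ▸ hz))
  rw [hA] at hzA hzC
  obtain ⟨d, hd, rfl⟩ := hzA
  exact ⟨d, ⟨⟨d, hd⟩, Subgroup.mem_center_iff.mpr fun e =>
    Subtype.ext (Subtype.ext (hzC (e : ↥H) ⟨e, e.2, rfl⟩)), rfl⟩, rfl⟩

/-- Let p be a prime, M a maximal ideal of the algebraic integers containing p, H a subgroup of the finite group G and b a p-block of H with defect group D₀ such that C_G(D₀) ≤ H. Then b induces a block of G, and for every block B of G induced by b there is a defect group D of B with Z(D) ≤ Z(D₀) ≤ D₀ ≤ D (as subgroups of G). In particular, if the defect groups of B are abelian then D₀ is a defect group of B. -/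
theorem result {G : Type*} [Group G] [Finite G] (p : ℕ) [Fact p.Prime] (M : Ideal Cfsg.AlgInt) (hM : Cfsg.IsPModular p M) (H : Subgroup G) (b : Set (Cfsg.IrrCharacter ↥H)) (hb : Cfsg.IsPBlock M b) (D₀ : Subgroup ↥H) (hD₀ : Cfsg.IsDefectGroup p M b D₀) (hC : Subgroup.centralizer ((D₀.map H.subtype : Subgroup G) : Set G) ≤ H) : Cfsg.InducedBlockDefined M H b ∧ ∀ B : Set (Cfsg.IrrCharacter G), Cfsg.IsInducedBlock M H b B → (∃ D : Subgroup G, Cfsg.IsDefectGroup p M B D ∧ (Subgroup.center ↥D).map D.subtype ≤ ((Subgroup.center ↥D₀).map D₀.subtype).map H.subtype ∧ ((Subgroup.center ↥D₀).map D₀.subtype).map H.subtype ≤ D₀.map H.subtype ∧ D₀.map H.subtype ≤ D) ∧ (∀ D : Subgroup G, Cfsg.IsDefectGroup p M B D → IsMulCommutative ↥D → Cfsg.IsDefectGroup p M B (D₀.map H.subtype)) := by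
  classical
  have := Fintype.ofFinite G
  have := Fintype.ofFinite H
  have := hM.2.1
  obtain ⟨B₁, hB₁⟩ := exists_induced H hM hb hD₀ hC
  refine ⟨⟨B₁, hB₁⟩, fun B hB => ?_⟩
  obtain ⟨D, hD, hZ, hle⟩ := main H hM hb hD₀ hC hB
  refine ⟨⟨D, hD, hZ, Subgroup.map_mono (Subgroup.map_subtype_le _), hle⟩, fun E hE hEab => ?_⟩
  obtain ⟨x, hx⟩ := CfsgLib.Blocks.defectGroups_conj hM hB.2.1 hE hD
  suffices h : D = D₀.map H.subtype from h ▸ hD
  refine le_antisymm (fun z hz => ?_) hle
  have hzc : (⟨z, hz⟩ : ↥D) ∈ Subgroup.center ↥D := by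
    refine Subgroup.mem_center_iff.mpr fun y => Subtype.ext ?_
    have hy : (y : G) ∈ cj x E := hx.symm ▸ y.2
    have hz' : z ∈ cj x E := hx.symm ▸ hz
    obtain ⟨a, ha, hae⟩ := hy
    obtain ⟨c, hc, hce⟩ := hz'
    show (y : G) * z = z * (y : G)
    rw [← hae, ← hce, ← map_mul, ← map_mul]
    exact congrArg _ (congrArg Subtype.val (hEab.is_comm.comm (⟨a, ha⟩ : ↥E) ⟨c, hc⟩))
  exact Subgroup.map_mono (Subgroup.map_subtype_le _) (hZ ⟨⟨z, hz⟩, hzc, rfl⟩)

end Cfsg.Agent.S4726
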