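import Cfsg.Statements.S4727
import Cfsg.Agent.Lib.CharBlocks.KernelLocal
import Cfsg.Agent.Lib.Blocks.SecondMain

set_option autoImplicit false
open Cfsg

namespace Cfsg.Agent.S4727


open CfsgLib.BrauerPairs CfsgLib.Blocks CfsgLib.CharBlocks

variable {M : Ideal AlgInt} [M.IsMaximal] {G : Type*} [Group G] [Fintype G] {p : ℕ} [Fact p.Prime]

theorem kills_of_induced (hM : IsPModular p M) {π : Set ℕ} (hpπ : p ∈ π) {B : Set (IrrCharacter G)}
    (hall : ∀ a : BrauerPairIdx G, IsBrauerPairOf p M B a.1 a.2 → KillsPi (M := M) π a)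
    {Q : Subgroup G} (hQ : IsPGroup p Q) {H : Subgroup G} [Fintype H] (hH : H = Cen Q)
    {b : Set (IrrCharacter H)} (hind : IsInducedBlock M H b B) : TrivOn (piOf π H) b := by
  subst hH
  obtain ⟨hb, hB, -⟩ := (isInducedBlock_iff _).mp hind
  exact (killsPi_iff hM hpπ (a := ⟨Q, b⟩) hb).mp
    (hall ⟨Q, b⟩ ((brauerPairOf_iff_induced hM hQ hb hB).mpr hind))
/-- Let p be a prime, π a set of primes containing p, M a maximal ideal of the algebraic integers containing p, and B a p-block of the finite group G with defect group D; let B₁ be the block of N_G(D) with defect group D that induces B (the Brauer correspondent of B). Suppose every element of O_π'(N_G(D)), the largest normal subgroup of N_G(D) whose order has no prime divisor in π, lies in the kernel of every member of B₁. If y is a p-element whose centralizer C has a normal Hall π'-subgroup (every element of C whose order has no prime divisor in π lies in O_π'(C)), then χ(y x) = χ(y) for every χ ∈ B and every x ∈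 C whose order has no prime divisor in π. -/
theorem result {G : Type*} [Group G] [Finite G] (p : ℕ) [Fact p.Prime] (M : Ideal Cfsg.AlgInt) (hM : Cfsg.IsPModular p M) (π : Set ℕ) (hpπ : p ∈ π) (B : Set (Cfsg.IrrCharacter G)) (hB : Cfsg.IsPBlock M B) (D : Subgroup G) (hBD : Cfsg.IsDefectGroup p M B D) (B₁ : Set (Cfsg.IrrCharacter ↥(Subgroup.normalizer (D : Set G)))) (hB₁ : Cfsg.IsInducedBlock M (Subgroup.normalizer (D : Set G)) B₁ B) (hB₁D : Cfsg.IsDefectGroup p M B₁ (D.subgroupOf (Subgroup.normalizer (D : Set G)))) (hker : ∀ n : ↥(Subgroup.normalizer (D : Set G)), n ∈ Cfsg.piCore {q | q ∉ π} ↥(Subgroup.normalizer (D : Set G)) → n ∈ Cfsg.blockKer B₁) (y : G) (hy : ∃ k : ℕ, orderOf y = p ^ k) (hC : ∀ x : ↥(Subgroup.centralizer ({y} : Set G)), (∀ q : ℕ, q.Prime → q ∣ orderOf x → q ∉ π) → x ∈ Cfsg.piCore {q | q ∉ π} ↥(Subgroup.centralizer ({y} : Set G))) : ∀ χ ∈ B, ∀ x : G, x ∈ Subgroup.centralizer ({y} : Set G) → (∀ q : ℕ, q.Prime → q ∣ orderOf x → q ∉ π) → (χ : G → ℂ) (y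 * x) = (χ : G → ℂ) y := by

  classical
  have : M.IsMaximal := hM.2.1
  intro χ hχ x hx hxπ
  have := Fintype.ofFinite G
  have := Fintype.ofFinite ↥(Subgroup.normalizer (D : Set G))
  have := Fintype.ofFinite (Subgroup.centralizer ({y} : Set G))
  have := Fintype.ofFinite
    {b : Set (IrrCharacter (Subgroup.centralizer ({y} : Set G))) // IsPBlock M b}
  obtain ⟨k, hk⟩ := hy
  have hQ : IsPGroup p (Subgroup.zpowers y) :=
    IsPGroup.of_card (n := k) (by rw [Nat.card_zpowers, hk])
  have hH : Subgroup.centralizer ({y} : Set G) = CfsgLib.BrauerPairs.Cen (Subgroup.zpowers y) := by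
    show _ = Subgroup.centralizer ((Subgroup.zpowers y : Subgroup G) : Set G)
    rw [Subgroup.zpowers_eq_closure, Subgroup.centralizer_closure]
  have hxr : ¬ p ∣ orderOf (⟨x, hx⟩ : Subgroup.centralizer ({y} : Set G)) := fun hd =>
    hxπ p (Fact.out : p.Prime) (by rwa [Subgroup.orderOf_mk] at hd) hpπ
  have hxK : x ∈ CfsgLib.CharBlocks.piOf π (Subgroup.centralizer ({y} : Set G)) :=
    ⟨⟨x, hx⟩, hC ⟨x, hx⟩ (fun q hq hd => hxπ q hq (by rwa [Subgroup.orderOf_mk] at hd)), rfl⟩
  have h1 := CfsgLib.Blocks.sum_inducing hM ⟨k, hk⟩ hB χ (y := (⟨x, hx⟩ : Subgroup.centralizer ({y} : Set G))) hxr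
  have h2 := CfsgLib.Blocks.sum_inducing hM ⟨k, hk⟩ hB χ (y := (1 : Subgroup.centralizer ({y} : Set G)))
    (by simpa using (Fact.out : p.Prime).not_dvd_one)
  rw [if_pos hχ] at h1 h2
  rw [OneMemClass.coe_one, mul_one] at h2
  rw [← h1, ← h2]
  refine Finset.sum_congr rfl fun b _ => ?_
  split_ifs with hb
  · have htr := kills_of_induced hM hpπ (fun a ha =>
      CfsgLib.CharBlocks.killsPi_of_correspondent hM hpπ hB hBD hB₁ hB₁D hker ha) hQ hH hb
    rw [CfsgLib.Blocks.blockPart_apply, CfsgLib.Blocks.blockPart_apply]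
    refine Finset.sum_congr rfl fun θ _ => ?_
    by_cases hθ : θ ∈ b.1
    · simp only [htr θ hθ ⟨x, hx⟩ hxK]
    · simp [hθ]
  · rfl

end Cfsg.Agent.S4727
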