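import Cfsg.Statements.S4728
import Cfsg.Agent.Lib.CharBlocks.KernelLocal

set_option autoImplicit false
open Cfsg

namespace Cfsg.Agent.S4728


open CfsgLib.BrauerPairs CfsgLib.Blocks CfsgLib.CharBlocks

variable {M : Ideal AlgInt} [M.IsMaximal] {G : Type*} [Group G] [Fintype G] {p : ℕ} [hp : Fact p.Prime]

/-- A block of `H ≤ N(Q)`, `Q C(Q) ≤ H`, inducing `B` lies under a pair of `B` at `Q`. -/
theorem exists_pair_under (hM : IsPModular p M) {B : Set (IrrCharacter G)} {Q H : Subgroup G}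
    [Fintype H] (hQ : IsPGroup p Q) (hQH : Q ≤ H) (hCH : Cen Q ≤ H)
    (hHN : H ≤ Subgroup.normalizer (Q : Set G)) {b : Set (IrrCharacter H)}
    (hind : IsInducedBlock M H b B) :
    ∃ e : Set (IrrCharacter (Cen Q)), IsBrauerPairOf p M B Q e ∧
      gidem M H b * gidem M (Cen Q) e = gidem M (Cen Q) e := by
  obtain ⟨hb, -, -⟩ := (isInducedBlock_iff _).mp hind
  have hbC : CentralIn (Cen Q) (gidem M H b) :=
    centralIn_of_mono (centralIn_gidem b) hCH fun g hg => by
      rw [← br_eq_self_normalizer hM hQ hQH hHN hb, coeff_br, if_neg hg]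
  obtain ⟨e, he, hbe⟩ := exists_occurs' hbC (gidem_mul_self hb) (gidem_ne_zero hb)
  refine ⟨e, ?_, hbe⟩
  suffices key : ∀ A' : Subgroup G, (Q.subgroupOf H).map H.subtype = A' →
      ∀ e : Set (IrrCharacter (Cen A')), IsPBlock M e →
      gidem M H b * gidem M (Cen A') e = gidem M (Cen A') e → IsBrauerPairOf p M B A' e from
    key Q (Subgroup.map_subgroupOf_eq_of_le hQH) e he hbe
  intro A' hA
  subst hA
  intro e he hbe
  have hA := Subgroup.map_subgroupOf_eq_of_le hQH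
  have hC : (Cen (Q.subgroupOf H)).map H.subtype = Cen ((Q.subgroupOf H).map H.subtype) :=
    map_cen_subtype _ (by rw [hA]; exact hCH)
  obtain ⟨e', he', hu⟩ := exists_down (M := M) hp (A := Q.subgroupOf H)
    (b := ⟨(Q.subgroupOf H).map H.subtype, e⟩) hC he
  have hu2 : gidem M (Cen ((Q.subgroupOf H).map H.subtype)) e =
      emb H (gidem M (Cen (Q.subgroupOf H)) e') := hu.pid_eq
  have hQ' : IsPGroup p (Q.subgroupOf H) := hQ.comap_subtype
  have hbp : IsBrauerPair p M (Q.subgroupOf H) e' := ⟨hQ', he'⟩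
  refine pairOf_trans hM hind ((brauerPairOf_iff hM).mpr ⟨hbp, hb, emb_injective H ?_⟩) he hu
  rw [map_mul, emb_br (fun z => cen_iff_map hC z), gidemTop_eq hb, ← gidem_eq_emb hb, hA,
    br_eq_self_normalizer hM hQ hQH hHN hb, ← hu2, hbe]
/-- Let p be a prime, π a set of primes containing p, M a maximal ideal of the algebraic integers containing p, B a p-block of the finite group G with defect group D, and B₁ the block of N_G(D) with defect group D inducing B. Let D₀ be a p-subgroup, H₀ = D₀·C_G(D₀), and b a block of H₀ inducing B. Write O_π'(X) for the largest normal subgroup of X whose order has no prime divisor in π. Suppose that O_π'(C_G(D₀)) is a normal Hall π'-subgroup of C_G(D₀) (it contains every element of C_G(D₀) whose order has no prime divisor in π) and that every element of it lies in the kernel of every member of b. Then every element of O_π'(N_G(D)) lies in the kernel of every member of B₁. -/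
theorem result {G : Type*} [Group G] [Finite G] (p : ℕ) [Fact p.Prime] (M : Ideal Cfsg.AlgInt) (hM : Cfsg.IsPModular p M) (π : Set ℕ) (hpπ : p ∈ π) (B : Set (Cfsg.IrrCharacter G)) (hB : Cfsg.IsPBlock M B) (D : Subgroup G) (hBD : Cfsg.IsDefectGroup p M B D) (B₁ : Set (Cfsg.IrrCharacter ↥(Subgroup.normalizer (D : Set G)))) (hB₁ : Cfsg.IsInducedBlock M (Subgroup.normalizer (D : Set G)) B₁ B) (hB₁D : Cfsg.IsDefectGroup p M B₁ (D.subgroupOf (Subgroup.normalizer (D : Set G)))) (D₀ : Subgroup G) (hD₀ : IsPGroup p D₀) (H₀ : Subgroup G) (hH₀ : H₀ = D₀ ⊔ Subgroup.centralizer (D₀ : Set G)) (b : Set (Cfsg.IrrCharacter ↥H₀)) (hb : Cfsg.IsInducedBlock M H₀ b B) (hcompl : ∀ x : ↥(Subgroup.centralizer (D₀ : Set G)), (∀ q : ℕ, q.Prime → q ∣ orderOf x → q ∉ π) → x ∈ Cfsg.piCore {q | q ∉ π} ↥(Subgroup.centralizer (D₀ : Set G))) (hkerb : ∀ x : ↥(Subgroup.centralizer (D₀ : Set G)), x ∈ Cfsg.piCore {q | q ∉ π} ↥(Subgroup.centralizer (D₀ : Set G)) → ∀ θ ∈ b,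 ∀ h : ↥H₀, (h : G) = (x : G) → (θ : ↥H₀ → ℂ) h = (θ : ↥H₀ → ℂ) 1) : ∀ n : ↥(Subgroup.normalizer (D : Set G)), n ∈ Cfsg.piCore {q | q ∉ π} ↥(Subgroup.normalizer (D : Set G)) → n ∈ Cfsg.blockKer B₁ := by

  classical
  have : M.IsMaximal := hM.2.1
  have hp : Fact p.Prime := inferInstance
  have := Fintype.ofFinite G
  have := Fintype.ofFinite ↥(Subgroup.normalizer (D : Set G))
  have := Fintype.ofFinite H₀
  have hQH : D₀ ≤ H₀ := hH₀ ▸ le_sup_left
  have hCH : Cen D₀ ≤ H₀ := hH₀ ▸ le_sup_right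
  have hHN : H₀ ≤ Subgroup.normalizer (D₀ : Set G) :=
    hH₀ ▸ sup_le Subgroup.le_normalizer (Subgroup.centralizer_le_normalizer _)
  obtain ⟨hbb, -, -⟩ := (isInducedBlock_iff _).mp hb
  obtain ⟨e₀, hpair, hbe⟩ := exists_pair_under hM hD₀ hQH hCH hHN hb
  have hHC : H₀ ≤ Subgroup.normalizer (Cen D₀ : Set G) := fun v hv =>
    mem_normalizer_centralizer (hHN hv)
  have hkill : KillsPi (M := M) π (⟨D₀, e₀⟩ : BrauerPairIdx G) := by
    have htr : TrivOn (piOf π (Cen D₀)) b := by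
      intro θ hθ h hh
      obtain ⟨m, hm, hmh⟩ := hh
      exact hkerb m hm θ hθ h hmh.symm
    have h1 := mul_avgOn_of_trivOn hM ((piOf_le π _).trans hCH)
      (hHC.trans (normalizer_le_piOf π _)) (not_dvd_piOf hM hpπ _) hbb htr
    have hc : CentralIn H₀ (avgOn M (piOf π (Cen D₀))) :=
      centralIn_avgOn ((piOf_le π _).trans hCH) (hHC.trans (normalizer_le_piOf π _))
    show gidem M (Cen D₀) e₀ * avgOn M (piOf π (Cen D₀)) = gidem M (Cen D₀) e₀
    rw [(centralIn_gidem e₀).commute_of_supp fun g hg => by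
      rw [coeff_avgOn, if_neg fun h5 => hg (piOf_le π _ h5)]]
    conv_lhs => rw [← hbe, ← mul_assoc, hc.commute_of_supp (centralIn_gidem b).1, h1, hbe]
  obtain ⟨e, hmax⟩ := exists_maximal_at hM hB hBD
  obtain ⟨x, hx⟩ := exists_conj_le_maximal hM (a := ⟨D₀, e₀⟩) (b := ⟨D, e⟩) hmax hpair
  refine (killsPi_iff_correspondent hM hpπ hmax hB₁ hB₁D).mp
    (killsPi_up hM hpπ hx (killsPi_cjPair x hkill) fun z hz hzπ => ?_)
  have hz2 : z ∈ Cen (D₀.map (MulAut.conj x).toMonoidHom) := hz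
  rw [← cen_map_conj] at hz2
  obtain ⟨c, hc, rfl⟩ := hz2
  show _ ∈ piOf π (Cen (D₀.map (MulAut.conj x).toMonoidHom))
  rw [← cen_map_conj, ← map_piOf_eq]
  refine ⟨c, ⟨⟨c, hc⟩, hcompl ⟨c, hc⟩ (fun q hq hd => hzπ q hq ?_), rfl⟩, rfl⟩
  rw [Subgroup.orderOf_mk] at hd
  exact (MulEquiv.orderOf_eq (MulAut.conj x) c).symm ▸ hd

end Cfsg.Agent.S4728
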