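import Cfsg.Statements.S4729
import Cfsg.Agent.Lib.CharBlocks.Degree
import Cfsg.Agent.Lib.Blocks.AlgInt
import Mathlib

set_option autoImplicit false
open Cfsg

namespace Cfsg.Agent.S4729

open CfsgLib.Char CfsgLib.Blocks CfsgLib.CharBlocks

theorem degree_congr {G : Type*} [Group G] [Finite G] {p : ℕ} {M : Ideal Cfsg.AlgInt}
    (hM : Cfsg.IsPModular p M) [M.IsMaximal] (P : Sylow p G) [Fact p.Prime] {χ : Cfsg.IrrCharacter G}
    (hχ : χ ∈ Cfsg.principalBlock M G) {z : G}
    (hz : z ∈ Subgroup.centralizer ((P : Subgroup G) : Set G)) :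
    Cfsg.MemLocalIdeal M ((χ : G → ℂ) z / (χ : G → ℂ) 1 - 1) := by
  set K := (Subgroup.centralizer ({z} : Set G)).index with hK
  have hKp : ¬ p ∣ K := by
    have hle : (P : Subgroup G) ≤ Subgroup.centralizer ({z} : Set G) := fun x hx =>
      Subgroup.mem_centralizer_singleton_iff.mpr (Subgroup.mem_centralizer_iff.mp hz x hx)
    exact fun h => P.not_dvd_index (h.trans (Subgroup.index_dvd_of_le hle))
  have h := hχ z
  simp only [Cfsg.centralChar] at h
  rw [div_one, mul_one] at h
  have hu : IsUnit (K : locRing M) := by
    rw [isUnit_iff_res_ne_zero]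
    exact fun h0 => hKp ((res_natCast_eq_zero_iff M hM K).mp h0)
  obtain ⟨w, hw⟩ := hu.exists_right_inv
  let d : locRing M := ⟨_, memLocalRing_of_memLocalIdeal M h⟩
  have hd : res M d = 0 := (res_eq_zero_iff M d).mpr h
  have := (res_eq_zero_iff M (-(w * d))).mp (by rw [map_neg, map_mul, hd, mul_zero, neg_zero])
  convert this using 1
  have hw' : (K : ℂ) * (w : ℂ) = 1 := by simpa using congrArg Subtype.val hw
  show _ = -((w : ℂ) * ((K : ℂ) - (K : ℂ) * (χ : G → ℂ) z / (χ : G → ℂ) 1))
  linear_combination ((χ : G → ℂ) z / (χ : G → ℂ) 1 - 1) * (-hw')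

/-- Let p be a prime, M a maximal ideal of the algebraic integers containing p, G a finite perfect group and P a Sylow p-subgroup. If the principal p-block of G contains a faithful irreducible character of degree less than 2p, then the centralizer of P is a p-group. -/
theorem result {G : Type*} [Group G] [Finite G] (p : ℕ) [Fact p.Prime] (M : Ideal Cfsg.AlgInt) (hM : Cfsg.IsPModular p M) (hperf : commutator G = ⊤) (P : Sylow p G) (χ : Cfsg.IrrCharacter G) (hχ : χ ∈ Cfsg.principalBlock M G) (hfaith : ∀ g : G, (χ : G → ℂ) g = (χ : G → ℂ) 1 → g = 1) (hdeg : Cfsg.charDegree (χ : G → ℂ) < 2 * p) : IsPGroup p ↥(Subgroup.centralizer ((P : Subgroup G) : Set G)) := by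
  classical
  have := Fintype.ofFinite G
  have := hM.2.1
  have hp : p.Prime := Fact.out
  obtain ⟨n, ρ, hirr, hρ⟩ := χ.2
  have hn1 : (χ : G → ℂ) 1 = n := by rw [← hρ]; simp
  have hn : Cfsg.charDegree (χ : G → ℂ) = n := charDegree_eq hn1
  rw [hn] at hdeg
  have hn0 : 0 < n := hn ▸ charDegree_pos χ.2
  -- the elements of order prime to `p` in the centralizer act trivially
  have key : ∀ z ∈ Subgroup.centralizer ((P : Subgroup G) : Set G), ¬ p ∣ orderOf z → z = 1 := by
    intro z hz hzp
    obtain ⟨b, ε, hb⟩ := exists_eigenbasis ρ z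
    set m := orderOf z with hm
    have hm0 : 0 < m := orderOf_pos z
    have hpow : ∀ j : ℕ, (χ : G → ℂ) (z ^ j) = ∑ i, ε i ^ j := fun j => by
      rw [← hρ]
      exact trace_eq_sum_eigen b _ _ (fun i => apply_pow_eigen ρ b z ε (fun i => (hb i).2) j i)
    -- multiplicity of an eigenvalue different from one
    have hmult : ∀ e : ℂ, e ^ m = 1 → e ≠ 1 →
        Cfsg.MemLocalIdeal M (((Finset.univ.filter fun i => ε i = e).card : ℂ) / (n : ℂ)) := by
      intro e he he1
      have he0 : e ≠ 0 := fun h0 => by simp [h0, hm0.ne'] at he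
      have geom : ∀ x : ℂ, x ^ m = 1 →
          ∑ j ∈ Finset.range m, x ^ j = if x = 1 then (m : ℂ) else 0 := by
        intro x hx
        split_ifs with h1
        · subst h1; simp
        · rw [geom_sum_eq h1, hx, sub_self, zero_div]
      have hsum : ∑ j ∈ Finset.range m, e⁻¹ ^ j * ((χ : G → ℂ) (z ^ j) / (χ : G → ℂ) 1 - 1) =
          (m : ℂ) * (((Finset.univ.filter fun i => ε i = e).card : ℂ) / (n : ℂ)) := by
        have e1 : ∑ j ∈ Finset.range m, e⁻¹ ^ j = 0 := by
          rw [geom e⁻¹ (by rw [inv_pow, he, inv_one]), if_neg (by simpa using he1)]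
        simp only [mul_sub, mul_one, Finset.sum_sub_distrib, e1, sub_zero, hn1, ← mul_div_assoc,
          ← Finset.sum_div]
        congr 1
        simp only [hpow, Finset.mul_sum]
        rw [Finset.sum_comm]
        have : ∀ i, ∑ j ∈ Finset.range m, e⁻¹ ^ j * ε i ^ j = if ε i = e then (m : ℂ) else 0 := by
          intro i
          simp only [← mul_pow]
          rw [geom _ (by rw [mul_pow, inv_pow, he, (hb i).1, inv_one, one_mul])]
          refine if_congr ⟨fun h => ?_, fun h => by rw [h, inv_mul_cancel₀ he0]⟩ rfl rfl
          calc ε i = e * (e⁻¹ * ε i) := by rw [← mul_assoc, mul_inv_cancel₀ he0, one_mul]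
            _ = e := by rw [h, mul_one]
        rw [Finset.sum_congr rfl (fun i _ => this i), ← Finset.sum_filter, Finset.sum_const,
          nsmul_eq_mul, mul_comm]
      have hcong : ∀ j, Cfsg.MemLocalIdeal M ((χ : G → ℂ) (z ^ j) / (χ : G → ℂ) 1 - 1) :=
        fun j => degree_congr hM P hχ (pow_mem hz j)
      have hint : IsIntegral ℤ e⁻¹ :=
        IsIntegral.of_pow hm0 (by rw [inv_pow, he, inv_one]; exact isIntegral_one)
      let E : locRing M := ⟨e⁻¹, algInt_le_locRing M hint⟩
      let D : ℕ → locRing M := fun j => ⟨_, memLocalRing_of_memLocalIdeal M (hcong j)⟩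
      have hu : IsUnit (m : locRing M) := by
        rw [isUnit_iff_res_ne_zero]
        exact fun h0 => hzp ((res_natCast_eq_zero_iff M hM m).mp h0)
      obtain ⟨w, hw⟩ := hu.exists_right_inv
      have h0 : res M (w * ∑ j ∈ Finset.range m, E ^ j * D j) = 0 := by
        rw [map_mul, map_sum, Finset.sum_eq_zero, mul_zero]
        intro j _
        rw [map_mul, show res M (D j) = 0 from (res_eq_zero_iff M _).mpr (hcong j), mul_zero]
      have := (res_eq_zero_iff M _).mp h0
      have hw' : (m : ℂ) * (w : ℂ) = 1 := by simpa using congrArg Subtype.val hw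
      convert this using 1
      push_cast
      show _ = (w : ℂ) * ∑ j ∈ Finset.range m,
        e⁻¹ ^ j * ((χ : G → ℂ) (z ^ j) / (χ : G → ℂ) 1 - 1)
      rw [hsum, ← mul_assoc, mul_comm (w : ℂ), hw', one_mul]
    have hdvd : ∀ e : ℂ, e ^ m = 1 → e ≠ 1 →
        p * Nat.gcd n p ∣ (Finset.univ.filter fun i => ε i = e).card := by
      intro e he he1
      set c := (Finset.univ.filter fun i => ε i = e).card with hc
      let d : locRing M := ⟨_, memLocalRing_of_memLocalIdeal M (hmult e he he1)⟩
      have hd : res M d = 0 := (res_eq_zero_iff M d).mpr (hmult e he he1)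
      have hn' : (n : ℂ) ≠ 0 := by exact_mod_cast hn0.ne'
      have hdc : d * (n : locRing M) = (c : locRing M) := by
        apply Subtype.ext; push_cast; exact div_mul_cancel₀ _ hn'
      have hpc : p ∣ c := by
        rw [← res_natCast_eq_zero_iff M hM, ← hdc, map_mul, hd, zero_mul]
      rcases Nat.coprime_or_dvd_of_prime hp n with hco | hpn
      · rw [show Nat.gcd n p = 1 from Nat.coprime_comm.mp hco, mul_one]; exact hpc
      · rw [Nat.gcd_eq_right hpn]
        obtain ⟨k, hk⟩ := hpn
        obtain ⟨c', hc'⟩ := hpc
        have hdc' : d * (k : locRing M) = (c' : locRing M) := by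
          apply Subtype.ext
          have hp0 : (p : ℂ) ≠ 0 := by exact_mod_cast hp.ne_zero
          have hk0 : (k : ℂ) ≠ 0 := by
            have : k ≠ 0 := fun h0 => by rw [h0, mul_zero] at hk; omega
            exact_mod_cast this
          have hval : (d : ℂ) = (c : ℂ) / (n : ℂ) := rfl
          push_cast
          rw [hval, hc', hk]
          push_cast
          field_simp
        have : p ∣ c' := by
          rw [← res_natCast_eq_zero_iff M hM, ← hdc', map_mul, hd, zero_mul]
        rw [hc']; exact Nat.mul_dvd_mul_left p this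
    have hall : ∀ i, ε i = 1 := by
      by_contra hcon
      push Not at hcon
      obtain ⟨i₀, hi₀⟩ := hcon
      set e := ε i₀
      have hle : ∀ s : Finset (Fin (Module.finrank ℂ (Fin n → ℂ))), s.card ≤ n := fun s => by
        have := Finset.card_le_univ s
        rw [Fintype.card_fin] at this; exact this.trans (Module.finrank_fin_fun ℂ).le
      have hpos : 0 < (Finset.univ.filter fun i => ε i = e).card :=
        Finset.card_pos.mpr ⟨i₀, by simp [e]⟩
      have hd0 := hdvd e (hb i₀).1 hi₀
      have hg : Nat.gcd n p = 1 := by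
        rcases Nat.coprime_or_dvd_of_prime hp n with hco | hpn
        · exact Nat.coprime_comm.mp hco
        · exfalso
          rw [Nat.gcd_eq_right hpn] at hd0
          have h1 := Nat.le_of_dvd hpos hd0
          have := hle (Finset.univ.filter fun i => ε i = e)
          have := Nat.mul_le_mul_right p hp.two_le
          omega
      rw [hg, mul_one] at hd0
      -- every other eigenvalue is one
      have hother : ∀ i, ε i ≠ e → ε i = 1 := by
        intro i hie
        by_contra hi1
        have h2 := hdvd (ε i) (hb i).1 hi1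
        rw [hg, mul_one] at h2
        have h3 : 0 < (Finset.univ.filter fun j => ε j = ε i).card :=
          Finset.card_pos.mpr ⟨i, by simp⟩
        have hdisj : Disjoint (Finset.univ.filter fun j => ε j = e)
            (Finset.univ.filter fun j => ε j = ε i) :=
          Finset.disjoint_filter.mpr fun j _ hj hj' => hie (hj'.symm.trans hj)
        have h4 := hle ((Finset.univ.filter fun j => ε j = e) ∪ (Finset.univ.filter fun j => ε j = ε i))
        rw [Finset.card_union_of_disjoint hdisj] at h4
        have := Nat.le_of_dvd hpos hd0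
        have := Nat.le_of_dvd h3 h2
        omega
      have hcard : (Finset.univ.filter fun i => ε i = e).card = p := by
        obtain ⟨k, hk⟩ := hd0
        have := hle (Finset.univ.filter fun i => ε i = e)
        have hk1 : 0 < k := by
          rcases Nat.eq_zero_or_pos k with rfl | h
          · rw [mul_zero] at hk; omega
          · exact h
        have hk2 : k < 2 := by
          by_contra h
          push Not at h
          have := Nat.mul_le_mul_left p h
          rw [← hk] at this
          omega
        obtain rfl : k = 1 := by omega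
        simpa using hk
      -- the determinant is trivial
      let δ : G →* ℂ := LinearMap.det.comp (ρ : G →* Module.End ℂ (Fin n → ℂ))
      have hδ : δ z = 1 := by
        have hker : commutator G ≤ δ.toHomUnits.ker := Abelianization.commutator_subset_ker _
        rw [hperf] at hker
        have := hker (Subgroup.mem_top z)
        rw [MonoidHom.mem_ker] at this
        exact congrArg Units.val this
      have hdet : δ z = ∏ i, ε i := by
        show LinearMap.det (ρ z) = _
        rw [← LinearMap.det_toMatrix b]
        have : LinearMap.toMatrix b b (ρ z) = Matrix.diagonal ε := by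
          ext i j
          rw [LinearMap.toMatrix_apply, (hb j).2, map_smul, Finsupp.smul_apply, b.repr_self,
            Matrix.diagonal_apply, Finsupp.single_apply]
          by_cases hij : i = j
          · subst hij; simp
          · simp [hij, Ne.symm hij]
        rw [this, Matrix.det_diagonal]
      rw [hdet, ← Finset.prod_filter_mul_prod_filter_not Finset.univ (fun i => ε i = e),
        Finset.prod_congr rfl (fun i hi => (Finset.mem_filter.mp hi).2), Finset.prod_const, hcard,
        Finset.prod_eq_one (fun i hi => hother i (Finset.mem_filter.mp hi).2), mul_one] at hδ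
      have h1 : orderOf e ∣ 1 := by
        rw [← Nat.Coprime.gcd_eq_one ((Nat.Prime.coprime_iff_not_dvd hp).mpr hzp)]
        exact Nat.dvd_gcd (orderOf_dvd_of_pow_eq_one hδ) (orderOf_dvd_of_pow_eq_one (hb i₀).1)
      exact hi₀ (orderOf_eq_one_iff.mp (Nat.dvd_one.mp h1))
    refine hfaith z ?_
    have := hpow 1
    simp only [pow_one, hall, Finset.sum_const, Finset.card_univ, Fintype.card_fin,
      nsmul_eq_mul, mul_one, Module.finrank_fin_fun] at this
    rw [this, hn1]
  intro x
  set a := (orderOf (x : G)).factorization p with ha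
  have h1 : (x : G) ^ p ^ a = 1 := by
    refine key _ (pow_mem x.2 _) ?_
    have hdvd := Nat.ordProj_dvd (orderOf (x : G)) p
    rw [orderOf_pow_of_dvd (pow_ne_zero _ hp.ne_zero) hdvd]
    exact Nat.not_dvd_ordCompl hp (orderOf_pos (x : G)).ne'
  exact ⟨a, Subtype.ext (by simpa using h1)⟩

end Cfsg.Agent.S4729
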