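import Cfsg.Statements.S4730
import Cfsg.Agent.Lib.CharBlocks.Degree
import Cfsg.Agent.Lib.Blocks.AlgInt
import Cfsg.Agent.Lib.Char.Burnside
import Mathlib

set_option autoImplicit false
open Cfsg

namespace Cfsg.Agent.S4730

open CfsgLib.Char CfsgLib.Blocks CfsgLib.CharBlocks

theorem index_not_dvd {G : Type*} [Group G] [Finite G] {p : ℕ} [Fact p.Prime] (P : Sylow p G)
    {z : G} (hz : z ∈ (P : Subgroup G)) (hzc : ∀ x ∈ (P : Subgroup G), x * z = z * x) :
    ¬ p ∣ (Subgroup.centralizer ({z} : Set G)).index := by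
  have hle : (P : Subgroup G) ≤ Subgroup.centralizer ({z} : Set G) := fun x hx =>
    Subgroup.mem_centralizer_singleton_iff.mpr (hzc x hx)
  exact fun h => P.not_dvd_index (h.trans (Subgroup.index_dvd_of_le hle))

/-- Let p be a prime, M a maximal ideal of the algebraic integers containing p, and G a finite group with trivial centre, Sylow p-subgroup P of order p^a and centre Z(P) of order p^b. If χ is a faithful irreducible character of G whose degree is a power of p, then the p-block of χ has defect at most a − b; in particular, if P is abelian then χ lies in a block of defect zero. -/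
theorem result {G : Type*} [Group G] [Finite G] (p : ℕ) [Fact p.Prime] (M : Ideal Cfsg.AlgInt) (hM : Cfsg.IsPModular p M) (hZ : Subgroup.center G = ⊥) (P : Sylow p G) (a b : ℕ) (ha : Nat.card P = p ^ a) (hb : Nat.card (Subgroup.center ↥(P : Subgroup G)) = p ^ b) (χ : Cfsg.IrrCharacter G) (hfaith : ∀ g : G, (χ : G → ℂ) g = (χ : G → ℂ) 1 → g = 1) (n : ℕ) (hdeg : Cfsg.charDegree (χ : G → ℂ) = p ^ n) : Cfsg.blockDefect p (Cfsg.blockOf M (χ : G → ℂ)) ≤ a - b ∧ (IsMulCommutative ↥(P : Subgroup G) → Cfsg.blockDefect p (Cfsg.blockOf M (χ : G → ℂ)) = 0) := by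
  classical
  have := Fintype.ofFinite G
  have := hM.2.1
  have hp : p.Prime := Fact.out
  obtain ⟨m, ρ, hirr, hρ⟩ := χ.2
  have hn1 : (χ : G → ℂ) 1 = m := by rw [← hρ]; simp
  rw [charDegree_eq hn1] at hdeg
  let Z : Subgroup G := (Subgroup.center ↥(P : Subgroup G)).map (P : Subgroup G).subtype
  have hZcard : Nat.card Z = p ^ b := by
    rw [← hb]; exact Subgroup.card_map_of_injective (P : Subgroup G).subtype_injective
  have hmemZ : ∀ z ∈ Z, z ∈ (P : Subgroup G) ∧ ∀ x ∈ (P : Subgroup G), x * z = z * x := by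
    rintro _ ⟨z, hz, rfl⟩
    exact ⟨z.2, fun x hx => congrArg Subtype.val (Subgroup.mem_center_iff.mp hz ⟨x, hx⟩)⟩
  have hvan : ∀ z ∈ Z, z ≠ 1 → (χ : G → ℂ) z = 0 := by
    intro z hz hz1
    have hcop : Nat.Coprime (Module.finrank ℂ (Fin m → ℂ))
        (Subgroup.centralizer ({z} : Set G)).index := by
      rw [Module.finrank_fin_fun, hdeg]
      exact ((Nat.Prime.coprime_iff_not_dvd hp).mpr
        (index_not_dvd P (hmemZ z hz).1 (hmemZ z hz).2)).pow_left n
    rw [← hρ]
    rcases zero_or_norm_eq ρ z hcop with h | h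
    · exact h
    · exfalso
      obtain ⟨ω, hω⟩ := (norm_character_eq_iff ρ z).mp h
      have hc : z ∈ Subgroup.center G := by
        rw [Subgroup.mem_center_iff]
        intro x
        have he : ρ ((x * z) * (z * x)⁻¹) = LinearMap.id := by
          have e : ρ (x * z) = ρ (z * x) := by
            rw [map_mul, map_mul, hω, mul_smul_comm, smul_mul_assoc]; rfl
          rw [map_mul, e, ← map_mul, mul_inv_cancel, map_one]; rfl
        have := hfaith _ (by
          rw [← hρ, (character_eq_degree_iff ρ _).mpr he, ρ.char_one])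
        rwa [mul_inv_eq_one] at this
      rw [hZ, Subgroup.mem_bot] at hc
      exact hz1 hc
  have key : ∀ ψ ∈ Cfsg.blockOf M (χ : G → ℂ),
      b ≤ (Cfsg.charDegree (ψ : G → ℂ)).factorization p := by
    intro ψ hψ
    obtain ⟨k, hk⟩ := classInner_char_nat (φ := fun z : Z => (ψ : G → ℂ) z)
      (ψ := fun _ : Z => (1 : ℂ)) (isCharacter_res Z (isCharacter_of_isIrr ψ.2)) isCharacter_one
    have hsum : ∑ z : Z, (ψ : G → ℂ) z = ((p ^ b : ℕ) : ℂ) * (k : ℂ) := by
      have e := card_mul_classInner (fun z : Z => (ψ : G → ℂ) z) (fun _ : Z => (1 : ℂ))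
      rw [hk, hZcard] at e
      rw [e]; simp
    set d := Cfsg.charDegree (ψ : G → ℂ) with hd
    have hd1 : (d : ℂ) = (ψ : G → ℂ) 1 := coe_charDegree_irr ψ
    have hd0 : d ≠ 0 := (charDegree_pos ψ.2).ne'
    -- the values on the non-identity elements of `Z` are divisible by the degree
    have hloc : ∀ z : Z, z ≠ 1 → Cfsg.MemLocalIdeal M ((ψ : G → ℂ) z / (d : ℂ)) := by
      intro z hz1
      set K := (Subgroup.centralizer ({(z : G)} : Set G)).index with hK
      have hu : IsUnit (K : locRing M) := by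
        rw [isUnit_iff_res_ne_zero]
        exact fun h0 => index_not_dvd P (hmemZ z z.2).1 (hmemZ z z.2).2
          ((res_natCast_eq_zero_iff M hM K).mp h0)
      obtain ⟨w, hw⟩ := hu.exists_right_inv
      have h := hψ (z : G)
      simp only [Cfsg.centralChar] at h
      rw [hvan z z.2 (fun e => hz1 (Subtype.ext e)), mul_zero, zero_div, zero_sub] at h
      let D : locRing M := ⟨_, memLocalRing_of_memLocalIdeal M h⟩
      have hD : res M D = 0 := (res_eq_zero_iff M D).mpr h
      have := (res_eq_zero_iff M (-(w * D))).mp (by rw [map_neg, map_mul, hD, mul_zero, neg_zero])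
      convert this using 1
      have hw' : (K : ℂ) * (w : ℂ) = 1 := by simpa using congrArg Subtype.val hw
      show _ = -((w : ℂ) * -((K : ℂ) * (ψ : G → ℂ) z / (ψ : G → ℂ) 1))
      rw [← hd1, mul_neg, neg_neg]
      calc (ψ : G → ℂ) z / (d : ℂ) = ((K : ℂ) * (w : ℂ)) * ((ψ : G → ℂ) z / (d : ℂ)) := by
            rw [hw', one_mul]
        _ = _ := by ring
    by_contra hlt
    push Not at hlt
    -- then `p ^ b * k / d` would lie in the local ideal, but it is congruent to one
    obtain ⟨u, hu, hdu⟩ : ∃ u, ¬ p ∣ u ∧ d = p ^ d.factorization p * u :=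
      ⟨_, Nat.not_dvd_ordCompl hp hd0, (Nat.ordProj_mul_ordCompl_eq_self d p).symm⟩
    obtain ⟨e, he⟩ : ∃ e, b = d.factorization p + (e + 1) := ⟨b - d.factorization p - 1, by omega⟩
    let D : {z : Z // z ≠ 1} → locRing M := fun z => ⟨_, memLocalRing_of_memLocalIdeal M (hloc z.1 z.2)⟩
    have heq : ((p ^ (e + 1) * k : ℕ) : locRing M) =
        (u : locRing M) * (1 + ∑ z : {z : Z // z ≠ 1}, D z) := by
      apply Subtype.ext
      push_cast
      have hs : (ψ : G → ℂ) (1 : G) + ∑ z : {z : Z // z ≠ 1}, (ψ : G → ℂ) (z.1 : G) =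
          ∑ z : Z, (ψ : G → ℂ) z := by
        rw [← Finset.add_sum_erase _ _ (Finset.mem_univ (1 : Z))]
        congr 1
        exact (Finset.sum_subtype _ (by simp) (fun z : Z => (ψ : G → ℂ) z)).symm
      show (p : ℂ) ^ (e + 1) * (k : ℂ) = (u : ℂ) * (1 + ∑ z : {z : Z // z ≠ 1}, (ψ : G → ℂ) (z.1 : G) / (d : ℂ))
      rw [← Finset.sum_div]
      have hdc : (d : ℂ) ≠ 0 := by exact_mod_cast hd0
      apply mul_left_cancel₀ hdc
      rw [show (d : ℂ) * ((u : ℂ) * (1 + (∑ z : {z : Z // z ≠ 1}, (ψ : G → ℂ) (z.1 : G)) / (d : ℂ))) =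
        (u : ℂ) * ((d : ℂ) + ∑ z : {z : Z // z ≠ 1}, (ψ : G → ℂ) (z.1 : G)) by field_simp]
      rw [hd1, hs, hsum, ← hd1]
      have : (d : ℂ) = (p : ℂ) ^ d.factorization p * (u : ℂ) := by exact_mod_cast hdu
      rw [this, he]
      push_cast
      ring
    have h2 := congrArg (res M) heq
    rw [map_mul, map_add, map_one, map_sum,
      Finset.sum_eq_zero (fun z _ => (res_eq_zero_iff M (D z)).mpr (hloc z.1 z.2)), add_zero,
      mul_one, (res_natCast_eq_zero_iff M hM _).mpr (dvd_mul_of_dvd_left (dvd_pow_self p (by omega)) k)]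
      at h2
    exact hu ((res_natCast_eq_zero_iff M hM u).mp h2.symm)
  have hmain : Cfsg.blockDefect p (Cfsg.blockOf M (χ : G → ℂ)) ≤ a - b := by
    rw [Cfsg.blockDefect]
    have hfa : (Nat.card G).factorization p = a := by
      have := P.card_eq_multiplicity
      rw [ha] at this
      exact (Nat.pow_right_injective hp.two_le this).symm
    rw [hfa]
    refine Nat.sub_le_sub_left ?_ a
    refine le_csInf ?_ (by rintro _ ⟨ψ, hψ, rfl⟩; exact key ψ hψ)
    refine ⟨_, χ, ?_, rfl⟩
    intro g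
    rw [sub_self]
    simpa using (res_eq_zero_iff M (0 : locRing M)).mp (map_zero _)
  refine ⟨hmain, fun hab => ?_⟩
  have : Subgroup.center ↥(P : Subgroup G) = ⊤ := by
    rw [eq_top_iff]
    exact fun x _ => Subgroup.mem_center_iff.mpr fun y => hab.is_comm.comm y x
  rw [this, Subgroup.card_top, ha] at hb
  have := Nat.pow_right_injective hp.two_le hb
  subst this
  omega

end Cfsg.Agent.S4730
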