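import Cfsg.Statements.S4731
import Cfsg.Agent.Lib.Blocks.SecondMain

set_option autoImplicit false
open Cfsg

namespace Cfsg.Agent.S4731

/-- Let p ≠ q be primes, M_p and M_q maximal ideals of the algebraic integers containing p and q respectively, and G a finite group with no element of order pq; let q^b be the q-part of the order of G. For a p-block B_p (relative to M_p), a q-block B_q (relative to M_q) and a p-singular element y, the sum of χ(1)χ(y) over the irreducible characters χ lying in both B_p and B_q is q^b times an algebraic integer. -/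
theorem result {G : Type*} [Group G] [Finite G] (p q : ℕ) [Fact p.Prime] [Fact q.Prime] (hpq : p ≠ q) (Mp Mq : Ideal Cfsg.AlgInt) (hMp : Cfsg.IsPModular p Mp) (hMq : Cfsg.IsPModular q Mq) (hno : ∀ g : G, orderOf g ≠ p * q) (b : ℕ) (hb : (Nat.card G).factorization q = b) (Bp : Set (Cfsg.IrrCharacter G)) (hBp : Cfsg.IsPBlock Mp Bp) (Bq : Set (Cfsg.IrrCharacter G)) (hBq : Cfsg.IsPBlock Mq Bq) (y : G) (hy : p ∣ orderOf y) : ∃ ω : Cfsg.AlgInt, ∑ᶠ χ ∈ Bp ∩ Bq, (Cfsg.charDegree (χ : G → ℂ) : ℂ) * (χ : G → ℂ) y = (q : ℂ) ^ b * (ω : ℂ) := by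
  classical
  have := Fintype.ofFinite G
  have := hMp.2.1
  have := hMq.2.1
  let c : IrrCharacter G → ℂ := fun χ => if χ ∈ Bp then (χ : G → ℂ) y else 0
  let F : G → ℂ := ∑ χ : IrrCharacter G, c χ • (χ : G → ℂ)
  have hch : ∀ χ : IrrCharacter G, IsCharacter G (χ : G → ℂ) :=
    fun χ => CfsgLib.Char.isCharacter_of_isIrr χ.2
  have hyinv : p ∣ orderOf y⁻¹ := by rwa [orderOf_inv]
  have hF0 : ∀ g : G, q ∣ orderOf g → F g = 0 := by
    intro g hg
    obtain ⟨z, hz⟩ := CfsgLib.Blocks.exists_isPPart (p := p) g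
    obtain ⟨w, hw⟩ := CfsgLib.Blocks.exists_isPPart (p := p) y⁻¹
    have hne : ¬ IsConj z w := by
      intro hc
      obtain ⟨e, he⟩ := isConj_iff.mp hc
      have hz1 : z ≠ 1 := by
        intro h1
        rw [h1, mul_one, mul_inv_cancel] at he
        exact CfsgLib.Blocks.isPPart_one_iff.mp (he ▸ hw) hyinv
      obtain ⟨t, rfl, htz, ⟨k, hk⟩, ht⟩ := id hz
      have hzdvd : orderOf z ∣ orderOf (z * t) := by
        rw [← Nat.card_zpowers, ← Nat.card_zpowers]
        exact Subgroup.card_dvd_of_le (Subgroup.zpowers_le.mpr (CfsgLib.Blocks.isPPart_mem_zpowers hz))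
      have hk0 : k ≠ 0 := fun h => hz1 (by rw [h, pow_zero, orderOf_eq_one_iff] at hk; exact hk)
      have hpz : p ∣ orderOf (z * t) := ((dvd_pow_self p hk0).trans hk.symm.dvd).trans hzdvd
      have hpq' : p * q ∣ orderOf (z * t) :=
        ((Nat.coprime_primes Fact.out Fact.out).mpr hpq).mul_dvd_of_dvd_of_dvd hpz hg
      exact hno _ (orderOf_pow_orderOf_div (orderOf_pos _).ne' hpq')
    have h := CfsgLib.Blocks.block_orthogonality hMp hz hw hne hBp
    refine Eq.trans ?_ h
    simp only [F, Finset.sum_apply, Pi.smul_apply, smul_eq_mul, c]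
    refine Finset.sum_congr rfl fun χ _ => ?_
    split_ifs
    · rw [CfsgLib.Char.char_inv (hch χ), Complex.conj_conj, mul_comm]
    · rw [zero_mul]
  have hinner : ∀ χ : IrrCharacter G, classInner F (χ : G → ℂ) = c χ := by
    intro χ
    simp only [F, CfsgLib.Char.classInner_sum_left, CfsgLib.Char.classInner_smul_left,
      CfsgLib.Char.classInner_irrCharacter, mul_ite, mul_one, mul_zero, Finset.sum_ite_eq',
      Finset.mem_univ, if_true]
  have hF'0 : ∀ u : G, q ∣ orderOf u → blockPart Bq F u = 0 := by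
    intro u hu
    obtain ⟨x, hx⟩ := CfsgLib.Blocks.exists_isPPart (p := q) u
    refine CfsgLib.Blocks.blockPart_eq_zero_on_section hMq (x := x) (fun v z hv hz => hF0 v ?_) hBq hx
      (IsConj.refl x)
    by_contra hvq
    have hz1 : z = 1 := CfsgLib.Blocks.isPPart_unique hv (CfsgLib.Blocks.isPPart_one_iff.mpr hvq)
    rw [hz1, isConj_one_left] at hz
    exact CfsgLib.Blocks.isPPart_one_iff.mp (hz ▸ hx) hu
  obtain ⟨Q⟩ : Nonempty (Sylow q G) := inferInstance
  let _ := Fintype.ofFinite (Q : Subgroup G)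
  have hn : ∀ χ : IrrCharacter G, ∃ n : ℕ, classInner (fun z : (Q : Subgroup G) => (χ : G → ℂ) z)
      (fun _ => 1) = n := fun χ =>
    CfsgLib.Char.classInner_char_nat (CfsgLib.Char.isCharacter_res _ (hch χ)) CfsgLib.Char.isCharacter_one
  choose n hn using hn
  let ω : AlgInt := ∑ χ : IrrCharacter G, if χ ∈ Bq ∧ χ ∈ Bp then
    (n χ : AlgInt) * ⟨(χ : G → ℂ) y, CfsgLib.Char.char_isIntegral (hch χ) y⟩ else 0
  refine ⟨ω, ?_⟩
  have h1 : ∑ᶠ χ ∈ Bp ∩ Bq, (charDegree (χ : G → ℂ) : ℂ) * (χ : G → ℂ) y = blockPart Bq F 1 := by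
    rw [CfsgLib.Blocks.blockPart_apply, finsum_eq_sum_of_fintype]
    refine Finset.sum_congr rfl fun χ _ => ?_
    rw [finsum_eq_if, hinner]
    simp only [c, Set.mem_inter_iff]
    by_cases h1 : χ ∈ Bp <;> by_cases h2 : χ ∈ Bq <;> simp only [h1, h2, and_self, and_true, and_false,
      false_and, true_and, if_true, if_false, zero_mul]
    rw [CfsgLib.Blocks.charDegree_eq (hch χ), mul_comm]
  have h2 : ∑ z : (Q : Subgroup G), blockPart Bq F (z : G) = blockPart Bq F 1 := by
    rw [Finset.sum_eq_single (1 : (Q : Subgroup G))]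
    · rw [Subgroup.coe_one]
    · intro z _ hz
      obtain ⟨k, hk⟩ := IsPGroup.iff_orderOf.mp Q.isPGroup' z
      refine hF'0 _ ?_
      rw [Subgroup.orderOf_coe, hk]
      refine dvd_pow_self q fun h => hz ?_
      rw [h, pow_zero, orderOf_eq_one_iff] at hk
      exact hk
    · simp
  have hQ : (Nat.card (Q : Subgroup G) : ℂ) = (q : ℂ) ^ b := by
    rw [Sylow.card_eq_multiplicity, hb]
    push_cast
    rfl
  rw [h1, ← h2, ← hQ]
  simp only [CfsgLib.Blocks.blockPart_apply, hinner, ω]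
  rw [Finset.sum_comm, AddSubmonoidClass.coe_finsetSum, Finset.mul_sum]
  refine Finset.sum_congr rfl fun χ _ => ?_
  by_cases h2' : χ ∈ Bq <;> by_cases h1' : χ ∈ Bp <;> simp only [c, h1', h2', and_self, and_true,
    and_false, false_and, true_and, if_true, if_false, zero_mul, Finset.sum_const_zero,
    ZeroMemClass.coe_zero, mul_zero]
  rw [Subalgebra.coe_mul, ← mul_assoc, show ((n χ : AlgInt) : ℂ) = (n χ : ℂ) from map_natCast AlgInt.val _, ← hn χ,
    CfsgLib.Char.card_mul_classInner, ← Finset.mul_sum, mul_comm]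
  congr 1
  exact Finset.sum_congr rfl fun z _ => by rw [map_one, mul_one]

end Cfsg.Agent.S4731
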