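import Cfsg.Statements.S4732
import Cfsg.Agent.Lib.CharBlocks.ModularJordan.Main

set_option autoImplicit false
universe u v
open Cfsg

namespace Cfsg.Agent.S4732

open CfsgLib.CharBlocks.ModularJordan Module

/-- Let p be a prime. There is a function f of two natural-number arguments such that every finite group G admitting a faithful representation of degree n over a field of characteristic p, with Sylow p-subgroups of order p^m, has a normal abelian subgroup A with [G : A] < f(m, n). -/
theorem result (p : ℕ) [Fact p.Prime] : ∃ f : ℕ → ℕ → ℕ, ∀ (G : Type u) [Group G] [Finite G] (F : Type v) [Field F] [CharP F p] (n : ℕ) (ρ : Representation F G (Fin n → F)), Function.Injective ρ → ∀ m : ℕ, (Nat.card G).factorization p = m → ∃ A : Subgroup G, A.Normal ∧ IsMulCommutative A ∧ A.index < f m n := by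
  classical
  have hb : ∀ m n, ∃ J, Bound.{u, v} p m n J := fun m n => exists_bound p m n
  choose J hJ using hb
  refine ⟨fun m n => (J m n).factorial + 1, fun G _ _ F _ _ n ρ hinj m hm => ?_⟩
  let K := AlgebraicClosure F
  have : CharP K p := charP_of_injective_algebraMap (algebraMap F K).injective p
  let e1 : End F (Fin n → F) →* Matrix (Fin n) (Fin n) F :=
    (LinearMap.toMatrixAlgEquiv' : End F (Fin n → F) ≃ₐ[F] _).toMulEquiv.toMonoidHom
  let e2 : Matrix (Fin n) (Fin n) F →* Matrix (Fin n) (Fin n) K :=
    ((algebraMap F K).mapMatrix : Matrix (Fin n) (Fin n) F →+* _).toMonoidHom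
  let e3 : Matrix (Fin n) (Fin n) K →* End K (Fin n → K) :=
    (Matrix.toLinAlgEquiv' : Matrix (Fin n) (Fin n) K ≃ₐ[K] _).toMulEquiv.toMonoidHom
  let ρ' : G →* End K (Fin n → K) := e3.comp (e2.comp (e1.comp ρ))
  have hinj' : Function.Injective ρ' := fun a b h =>
    hinj (LinearMap.toMatrixAlgEquiv'.injective
      (Matrix.map_injective (algebraMap F K).injective (Matrix.toLinAlgEquiv'.injective h)))
  have hcard : ¬ p ^ (m + 1) ∣ Nat.card G := fun h => by
    have h1 := ((Fact.out : p.Prime).pow_dvd_iff_le_factorization Nat.card_pos.ne').mp h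
    omega
  obtain ⟨A, hA, hidx⟩ := hJ m n G K (Fin n → K) ρ' (by simp) hinj' hcard
  refine ⟨A.normalCore, A.normalCore_normal, ⟨⟨fun a b => Subtype.ext ?_⟩⟩, ?_⟩
  · exact hA.1 a (A.normalCore_le a.2) b (A.normalCore_le b.2)
  · refine lt_of_le_of_lt ?_ (Nat.lt_succ_self _)
    rw [Subgroup.normalCore_eq_ker, Subgroup.index_ker]
    refine (Nat.le_of_dvd Nat.card_pos (Subgroup.card_subgroup_dvd_card _)).trans ?_
    rw [Nat.card_perm, ← Subgroup.index_eq_card]
    exact Nat.factorial_le hidx

end Cfsg.Agent.S4732
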