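import Cfsg.Statements.S4733
import Cfsg.Agent.Lib.BlockArith.SmallRank
import Cfsg.Agent.Lib.CharBlocks.Degree

set_option autoImplicit false
open Cfsg

namespace Cfsg.Agent.S4733

open CfsgLib.Char CfsgLib.BlockArith
open scoped ComplexConjugate

theorem defect_zero_of_vanish {G : Type*} [Group G] [Fintype G] {p : ℕ} [hp : Fact p.Prime]
    (χ : Cfsg.IrrCharacter G) (hv : ∀ x : G, p ∣ orderOf x → (χ : G → ℂ) x = 0) :
    (Nat.card G).factorization p ≤ (Cfsg.charDegree (χ : G → ℂ)).factorization p := by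
  classical
  obtain ⟨P⟩ : Nonempty (Sylow p G) := inferInstance
  have := Fintype.ofFinite ↥(P : Subgroup G)
  obtain ⟨m, hm⟩ := classInner_char_nat (isCharacter_res (P : Subgroup G) (isCharacter_of_isIrr χ.2))
    (isCharacter_one (G := ↥(P : Subgroup G)))
  have h0 : ∀ u : ↥(P : Subgroup G), u ≠ 1 → (χ : G → ℂ) u = 0 := by
    intro u hu
    refine hv _ ?_
    obtain ⟨k, hk⟩ := IsPGroup.iff_orderOf.1 P.2 u
    rw [Subgroup.orderOf_coe, hk]
    refine dvd_pow_self p fun e => hu ?_
    rw [e, pow_zero, orderOf_eq_one_iff] at hk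
    exact hk
  have h1 := card_mul_classInner (fun u : ↥(P : Subgroup G) => (χ : G → ℂ) u) (fun _ => (1 : ℂ))
  rw [hm] at h1
  simp only [map_one, mul_one] at h1
  rw [Fintype.sum_eq_single 1 h0, OneMemClass.coe_one, ← CfsgLib.CharBlocks.coe_charDegree_irr] at h1
  have h2 : Nat.card ↥(P : Subgroup G) ∣ Cfsg.charDegree (χ : G → ℂ) := ⟨m, by exact_mod_cast h1.symm⟩
  rw [P.card_eq_multiplicity] at h2
  exact (hp.out.pow_dvd_iff_le_factorization (CfsgLib.CharBlocks.charDegree_pos χ.2).ne').mp h2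

theorem defect_zero_of_card_eq {G : Type*} [Group G] [Fintype G] {p : ℕ} [hp : Fact p.Prime]
    {M : Ideal AlgInt} [M.IsMaximal] (hM : IsPModular p M) {B : Set (IrrCharacter G)}
    (hB : IsPBlock M B) (h : Nat.card B = blockRank p B) : blockDefect p B = 0 := by
  classical
  have h1 := card_mul_blockRank hM hB
  have h2 : ∑ χ : IrrCharacter G, (if χ ∈ B then
      ∑ s : G, (χ : G → ℂ) s * conj ((χ : G → ℂ) s) else 0) = (Nat.card G : ℂ) * (Nat.card B : ℂ) := by
    rw [Finset.sum_congr rfl fun χ _ => by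
      rw [← card_mul_classInner (χ : G → ℂ) (χ : G → ℂ), classInner_irr_self χ.2, mul_one]]
    rw [← Finset.sum_filter, Finset.sum_const, nsmul_eq_mul, mul_comm]
    congr 2
    rw [Nat.card_eq_fintype_card]
    exact (Fintype.card_subtype _).symm
  rw [← h, ← h2] at h1
  have h3 := congrArg Complex.re h1
  simp only [Complex.re_sum, apply_ite Complex.re, Complex.zero_re, Complex.mul_conj,
    Complex.ofReal_re] at h3
  have h4 : ∀ χ : IrrCharacter G, χ ∈ B → ∀ x : G, p ∣ orderOf x → (χ : G → ℂ) x = 0 := by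
    intro χ hχ x hx
    have hle : ∀ ψ ∈ (Finset.univ : Finset (IrrCharacter G)),
        (if ψ ∈ B then ∑ s : G, (if p ∣ orderOf s then (0 : ℝ) else Complex.normSq ((ψ : G → ℂ) s))
          else 0) ≤ if ψ ∈ B then ∑ s : G, Complex.normSq ((ψ : G → ℂ) s) else 0 := by
      intro ψ _
      split_ifs
      · exact Finset.sum_le_sum fun s _ => by split_ifs <;> simp [Complex.normSq_nonneg]
      · exact le_rfl
    have h5 := (Finset.sum_eq_sum_iff_of_le hle).mp h3.symm χ (Finset.mem_univ _)
    rw [if_pos hχ, if_pos hχ] at h5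
    have h6 := (Finset.sum_eq_sum_iff_of_le (fun s (_ : s ∈ (Finset.univ : Finset G)) => by
      split_ifs <;> simp [Complex.normSq_nonneg])).mp h5 x (Finset.mem_univ _)
    rw [if_pos hx] at h6
    exact Complex.normSq_eq_zero.mp h6.symm
  rw [blockDefect, Nat.sub_eq_zero_iff_le]
  refine le_csInf (Set.Nonempty.image _ (CfsgLib.Blocks.IsPBlock.nonempty hB)) ?_
  rintro _ ⟨χ, hχ, rfl⟩
  exact defect_zero_of_vanish χ (h4 χ hχ)

/-- Let p be a prime, M a maximal ideal of the algebraic integers containing p, and B a p-block of the finite group G with k irreducible characters and p-regular rank l (the number of irreducible Brauer characters). Then l ≤ k, and the following are equivalent: B has defect 0; k = l = 1; k = l. -/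
theorem result {G : Type*} [Group G] [Finite G] (p : ℕ) [Fact p.Prime] (M : Ideal Cfsg.AlgInt) (hM : Cfsg.IsPModular p M) (B : Set (Cfsg.IrrCharacter G)) (hB : Cfsg.IsPBlock M B) : Cfsg.blockRank p B ≤ Nat.card B ∧ (Cfsg.blockDefect p B = 0 ↔ (Nat.card B = 1 ∧ Cfsg.blockRank p B = 1)) ∧ (Cfsg.blockDefect p B = 0 ↔ Nat.card B = Cfsg.blockRank p B) := by
  classical
  have := Fintype.ofFinite G
  have : M.IsMaximal := hM.2.1
  refine ⟨blockRank_le_card B, ⟨fun h => ⟨card_eq_one_of_defect_zero hM hB h,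
    blockRank_eq_one_of_defect_zero hM hB h⟩, fun h => defect_zero_of_card_eq hM hB (h.1.trans h.2.symm)⟩,
    fun h => ?_, defect_zero_of_card_eq hM hB⟩
  rw [card_eq_one_of_defect_zero hM hB h, blockRank_eq_one_of_defect_zero hM hB h]

end Cfsg.Agent.S4733
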