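import Cfsg.Statements.S4734
import Cfsg.Agent.Lib.CharBlocks.KernelLocal

set_option autoImplicit false
open Cfsg

namespace Cfsg.Agent.S4734


open CfsgLib.BrauerPairs CfsgLib.Blocks CfsgLib.CharBlocks
/-- Let p be a prime, π a set of primes containing p, M a maximal ideal of the algebraic integers containing p, B a p-block of the finite group G with defect group D, and B₁ the block of N_G(D) with defect group D inducing B. Write O_π'(X) for the largest normal subgroup of X whose order has no prime divisor in π, and suppose every element of O_π'(N_G(D)) lies in the kernel of every member of B₁. Let G₀ be a subgroup and B₀ a block of G₀ with defect group D₀ such that C_G(D₀) ≤ G₀ and B₀ induces B. Then every element of O_π'(G₀) lies in the kernel of every member of B₀. -/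
theorem result {G : Type*} [Group G] [Finite G] (p : ℕ) [Fact p.Prime] (M : Ideal Cfsg.AlgInt) (hM : Cfsg.IsPModular p M) (π : Set ℕ) (hpπ : p ∈ π) (B : Set (Cfsg.IrrCharacter G)) (hB : Cfsg.IsPBlock M B) (D : Subgroup G) (hBD : Cfsg.IsDefectGroup p M B D) (B₁ : Set (Cfsg.IrrCharacter ↥(Subgroup.normalizer (D : Set G)))) (hB₁ : Cfsg.IsInducedBlock M (Subgroup.normalizer (D : Set G)) B₁ B) (hB₁D : Cfsg.IsDefectGroup p M B₁ (D.subgroupOf (Subgroup.normalizer (D : Set G)))) (hker : ∀ n : ↥(Subgroup.normalizer (D : Set G)), n ∈ Cfsg.piCore {q | q ∉ π} ↥(Subgroup.normalizer (D : Set G)) → n ∈ Cfsg.blockKer B₁) (G₀ : Subgroup G) (B₀ : Set (Cfsg.IrrCharacter ↥G₀)) (hB₀ : Cfsg.IsInducedBlock M G₀ B₀ B) (D₀ : Subgroup ↥G₀) (hD₀ : Cfsg.IsDefectGroup p M B₀ D₀) (hC : Subgroup.centralizer ((D₀.map G₀.subtype : Subgroup G) : Set G) ≤ G₀) : ∀ x : ↥G₀, x ∈ Cfsg.piCore {q | q ∉ π} ↥G₀ → x ∈ Cfsg.blockKer B₀ := by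

  classical
  have : M.IsMaximal := hM.2.1
  have hp : Fact p.Prime := inferInstance
  have := Fintype.ofFinite G
  have := Fintype.ofFinite ↥(Subgroup.normalizer (D : Set G))
  have := Fintype.ofFinite G₀
  obtain ⟨hB₀b, -, -⟩ := (isInducedBlock_iff _).mp hB₀
  obtain ⟨e₀, he₀⟩ := exists_maximal_at hM hB₀b hD₀
  have hC' := map_cen_subtype D₀ hC
  obtain ⟨g, hg, hu⟩ := exists_up (M := M) hp (a := ⟨D₀, e₀⟩) hC' he₀.1.1.2
  have hpair := pairOf_trans hM hB₀ he₀.1 hg hu
  have hk := killsPi_of_correspondent hM hpπ hB hBD hB₁ hB₁D hker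
    (a := ⟨D₀.map G₀.subtype, g⟩) hpair
  have hN : G₀ ≤ Subgroup.normalizer (piOf π G₀ : Set G) :=
    Subgroup.le_normalizer.trans (normalizer_le_piOf π G₀)
  have hD' : D₀.map G₀.subtype ≤ G₀ := Subgroup.map_subtype_le D₀
  have hle : piOf π G₀ ⊓ Cen (D₀.map G₀.subtype) ≤ piOf π (Cen (D₀.map G₀.subtype)) :=
    le_piOf inf_le_right (fun c hc => Subgroup.mem_set_normalizer_iff.mpr fun k => and_congr
      (Subgroup.mem_set_normalizer_iff.mp (hN (hC hc)) k)
      (Subgroup.mem_set_normalizer_iff.mp (Subgroup.le_normalizer hc) k))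
      fun q hq hd => prime_notMem_piOf π _ hq (hd.trans (Subgroup.card_dvd_of_le inf_le_left))
  have hk' := mul_avgOn_mono hM hle (not_dvd_of_le_piOf hM hpπ inf_le_left) (centralIn_gidem g)
    (piOf_le π _) hk
  have hbr : br (D₀.map G₀.subtype) (gidem M G₀ B₀) * gidem M (Cen (D₀.map G₀.subtype)) g =
      gidem M (Cen (D₀.map G₀.subtype)) g := by
    rw [gidem_eq_emb hB₀b, ← gidemTop_eq hB₀b, show gidem M (Cen (D₀.map G₀.subtype)) g =
        emb G₀ (gidem M (Cen D₀) e₀) from hu.pid_eq,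
      ← emb_br (fun z => cen_iff_map hC' z), ← map_mul, ((brauerPairOf_iff hM).mp he₀.1).2.2]
  have htriv : TrivOn (piOf π G₀) B₀ := by
    refine trivOn_of_mul_ne_zero hM (piOf_le π G₀) hN (not_dvd_piOf hM hpπ G₀) hB₀b fun h0 =>
      gidem_ne_zero hg ?_
    have h1 := congrArg (br (D₀.map G₀.subtype)) h0
    rw [br_zero, br_mul hM hpair.1.1 ((centralIn_gidem B₀).2.mono hD') (isFixed_avgOn (hD'.trans hN)),
      br_avgOn hM hpair.1.1 (hD'.trans hN)] at h1
    rw [← hbr]
    conv_lhs => rw [← hk']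
    rw [(centralIn_gidem g).commute_of_supp fun z hz => by
      rw [coeff_avgOn, if_neg fun h5 => hz h5.2], ← mul_assoc, h1, zero_mul]
  intro x hx θ hθ
  exact htriv θ hθ x ⟨x, hx, rfl⟩

end Cfsg.Agent.S4734
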