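import Cfsg.Statements.S4735
import Cfsg.Agent.S0967
import Cfsg.Agent.Lib.Blocks.GaloisInv
import Cfsg.Agent.Lib.Blocks.Functional
import Cfsg.Agent.Lib.CharBlocks.AMGM
import Cfsg.Agent.Lib.CharBlocks.Degree
import Cfsg.Agent.Lib.Cores.Basic

set_option autoImplicit false
open Cfsg

namespace Cfsg.Agent.S4735

open scoped ComplexConjugate

theorem finsum_mem_ite {α β : Type*} [Fintype α] [AddCommMonoid β] (s : Set α) [DecidablePred (· ∈ s)]
    (f : α → β) : ∑ᶠ a ∈ s, f a = ∑ a : α, if a ∈ s then f a else 0 := by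
  classical
  rw [finsum_eq_sum_of_fintype]
  refine Finset.sum_congr rfl fun a _ => ?_
  rw [finsum_eq_if]

theorem centralChar_inflate {G : Type*} [Group G] [Finite G] (N : Subgroup G) [N.Normal] (g : G) :
    ∃ n : ℕ, ∀ χ : G ⧸ N → ℂ,
      centralChar (χ ∘ QuotientGroup.mk) g = (n : ℂ) * centralChar χ (g : G ⧸ N) := by
  have h1 : (Subgroup.centralizer ({(g : G ⧸ N)} : Set (G ⧸ N))).index ∣
      (Subgroup.centralizer ({g} : Set G)).index := by
    refine dvd_trans (Subgroup.index_dvd_of_le ?_)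
      (Subgroup.index_map_dvd (f := QuotientGroup.mk' N) _ (QuotientGroup.mk'_surjective N))
    rintro _ ⟨c, hc, rfl⟩
    rw [Subgroup.mem_centralizer_singleton_iff]
    show ((c : G ⧸ N)) * (g : G ⧸ N) = (g : G ⧸ N) * (c : G ⧸ N)
    rw [← QuotientGroup.mk_mul, ← QuotientGroup.mk_mul, Subgroup.mem_centralizer_singleton_iff.mp hc]
  obtain ⟨n, hn⟩ := h1
  refine ⟨n, fun χ => ?_⟩
  simp only [centralChar, Function.comp_apply, hn, QuotientGroup.mk_one, Nat.cast_mul]
  ring

theorem sameBlock_inflate {G : Type*} [Group G] [Finite G] (M : Ideal AlgInt) [M.IsMaximal]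
    (N : Subgroup G) [N.Normal] {χ ψ : G ⧸ N → ℂ}
    (h : SameBlock M χ ψ) : SameBlock M (χ ∘ QuotientGroup.mk) (ψ ∘ QuotientGroup.mk) := by
  intro g
  obtain ⟨n, hn⟩ := centralChar_inflate N g
  obtain ⟨a, s, ha, hs, he⟩ := h (g : G ⧸ N)
  refine ⟨(n : AlgInt) * a, s, M.mul_mem_left _ ha, hs, ?_⟩
  rw [hn, hn, ← mul_sub, ← he, Subalgebra.coe_mul,
    show ((n : AlgInt) : ℂ) = (n : ℂ) from map_natCast AlgInt.val _, mul_div_assoc]

/-- Let p be a prime, M a maximal ideal of the algebraic integers containing p, G a finite group, H = O_p'(G) and Ḡ = G/H. For x ∈ G write λ(G, x) for the sum of |χ(x)|^2 over the irreducible characters χ in the principal p-block of G. Then λ(G, x) is a positive integer, λ(G, x) = λ(Ḡ, x̄) where x̄ is the image of x, and λ(G, x) ≤ #C_Ḡ(x̄). Moreover λ(G, 1) = [G : H] if and only if the principal block is the only p-block of Ḡ. -/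
theorem result {G : Type*} [Group G] [Finite G] (p : ℕ) [Fact p.Prime] (M : Ideal Cfsg.AlgInt) (hM : Cfsg.IsPModular p M) (x : G) : (∃ n : ℕ, 0 < n ∧ ∑ᶠ χ ∈ Cfsg.principalBlock M G, Complex.normSq ((χ : G → ℂ) x) = n) ∧ ∑ᶠ χ ∈ Cfsg.principalBlock M G, Complex.normSq ((χ : G → ℂ) x) = ∑ᶠ ψ ∈ Cfsg.principalBlock M (G ⧸ Cfsg.pPrimeCore p G), Complex.normSq ((ψ : G ⧸ Cfsg.pPrimeCore p G → ℂ) (QuotientGroup.mk x)) ∧ ∑ᶠ χ ∈ Cfsg.principalBlock M G, Complex.normSq ((χ : G → ℂ) x) ≤ (Nat.card ↥(Subgroup.centralizer ({(QuotientGroup.mk x : G ⧸ Cfsg.pPrimeCore p G)} : Set (G ⧸ Cfsg.pPrimeCore p G))) : ℝ) ∧ ((∑ᶠ χ ∈ Cfsg.principalBlock M G, Cfsg.charDegree (χ : G → ℂ) ^ 2) = (Cfsg.pPrimeCore p G).index ↔ ∀ B : Set (Cfsg.IrrCharacter (G ⧸ Cfsg.pPrimeCore p G)), Cfsg.IsPBlock M B → B = Cfsg.principalBlock M (G ⧸ Cfsg.pPrimeCore p G)) := by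
  classical
  have := Fintype.ofFinite G
  have := hM.2.1
  have : Fact p.Prime := ⟨hM.1⟩
  set N := pPrimeCore p G
  have hNn : N.Normal := inferInstance
  have := Fintype.ofFinite N
  have := Fintype.ofFinite (G ⧸ N)
  have hND : ¬ p ∣ Nat.card N := CfsgLib.Cores.not_dvd_card_pPrimeCore p
  set B := principalBlock M G with hBdef
  set B' := principalBlock M (G ⧸ N) with hB'def
  let one : IrrCharacter G := CfsgLib.Char.irrOne
  have hone : one ∈ B := by
    rw [hBdef, CfsgLib.Blocks.principalBlock_eq]; exact CfsgLib.Blocks.mem_blockOf_self _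
  let one' : IrrCharacter (G ⧸ N) := CfsgLib.Char.irrOne
  let inf : IrrCharacter (G ⧸ N) → IrrCharacter G := fun ψ => ⟨_, CfsgLib.CharNormal.isIrr_comp_mk' N ψ.2⟩
  have hbij : Set.BijOn inf B' B := by
    refine ⟨fun ψ hψ => ?_, fun a _ b _ hab => ?_, fun χ hχ => ?_⟩
    · exact sameBlock_inflate M N (show SameBlock M (fun _ : G ⧸ N => (1 : ℂ)) (ψ : G ⧸ N → ℂ) from hψ)
    · refine Subtype.ext (funext fun q => ?_)
      obtain ⟨g, rfl⟩ := QuotientGroup.mk_surjective q
      exact congrFun (congrArg Subtype.val hab) g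
    · have hker := CfsgLib.Blocks.trivialOn_of_sameBlock (N := N) (χ := one) hM hND
        (show SameBlock M (one : G → ℂ) (χ : G → ℂ) from hχ) (fun _ _ => rfl)
      obtain ⟨ψ', he, hsame⟩ := Cfsg.Agent.S0967.result p M hM N hND one' χ
        (show χ ∈ blockOf M ((one' : G ⧸ N → ℂ) ∘ QuotientGroup.mk) from hχ)
      exact ⟨ψ', hsame, Subtype.ext he.symm⟩
  have hxq : ∀ f : ℂ → ℝ, ∀ g : G, ∑ᶠ χ ∈ B, f ((χ : G → ℂ) g) =
      ∑ᶠ ψ ∈ B', f ((ψ : G ⧸ N → ℂ) (g : G ⧸ N)) := fun f g =>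
    (finsum_mem_eq_of_bijOn inf hbij fun ψ _ => rfl).symm
  have h2 : ∑ᶠ χ ∈ B, Complex.normSq ((χ : G → ℂ) x) =
      ∑ᶠ ψ ∈ B', Complex.normSq ((ψ : G ⧸ N → ℂ) (x : G ⧸ N)) := hxq Complex.normSq x
  refine ⟨?_, h2, ?_, ?_⟩
  · -- a positive rational algebraic integer
    let z : ℂ := ∑ χ : IrrCharacter G, if χ ∈ B then (χ : G → ℂ) x * (χ : G → ℂ) x⁻¹ else 0
    have hz : z = ((∑ᶠ χ ∈ B, Complex.normSq ((χ : G → ℂ) x) : ℝ) : ℂ) := by
      rw [finsum_mem_ite, Complex.ofReal_sum]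
      refine Finset.sum_congr rfl fun χ _ => ?_
      rw [apply_ite Complex.ofReal, CfsgLib.Char.char_inv (CfsgLib.Char.isCharacter_of_isIrr χ.2),
        Complex.mul_conj, Complex.ofReal_zero]
    have hint : IsIntegral ℤ z := by
      refine IsIntegral.sum _ fun χ _ => ?_
      split_ifs
      · exact (CfsgLib.Char.char_isIntegral (CfsgLib.Char.isCharacter_of_isIrr χ.2) x).mul
          (CfsgLib.Char.char_isIntegral (CfsgLib.Char.isCharacter_of_isIrr χ.2) x⁻¹)
      · exact isIntegral_zero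
    obtain ⟨m, hm⟩ := CfsgLib.CharBlocks.exists_int_of_fixed hint (fun σ => by
      have hmem : ∀ (τ : ℂ ≃+* ℂ) (χ : IrrCharacter G), χ ∈ B → CfsgLib.CharNormal.galIrr τ χ ∈ B := by
        intro τ χ hχ g
        obtain ⟨k, hk⟩ := CfsgLib.Blocks.ringEquiv_centralChar τ g
        have e1 : centralChar (CfsgLib.CharNormal.galIrr τ χ : G → ℂ) g =
            centralChar (χ : G → ℂ) (g ^ k) := by
          rw [← hk χ]
          simp [centralChar, CfsgLib.CharNormal.galIrr_apply]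
        have e2 : centralChar (one : G → ℂ) g = centralChar (one : G → ℂ) (g ^ k) := by
          rw [← hk one]
          simp [centralChar, one, show (CfsgLib.Char.irrOne : IrrCharacter G).1 = fun _ => (1 : ℂ) from rfl]
        show MemLocalIdeal M (centralChar (one : G → ℂ) g -
          centralChar (CfsgLib.CharNormal.galIrr τ χ : G → ℂ) g)
        rw [e1, e2]
        exact (show SameBlock M (one : G → ℂ) (χ : G → ℂ) from hχ) (g ^ k)
      let e : IrrCharacter G ≃ IrrCharacter G :=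
        { toFun := CfsgLib.CharNormal.galIrr σ
          invFun := CfsgLib.CharNormal.galIrr σ.symm
          left_inv := fun χ => Subtype.ext (funext fun g => by simp [CfsgLib.CharNormal.galIrr_apply])
          right_inv := fun χ => Subtype.ext (funext fun g => by simp [CfsgLib.CharNormal.galIrr_apply]) }
      rw [map_sum]
      refine Fintype.sum_equiv e _ _ fun χ => ?_
      rw [apply_ite σ, map_mul, map_zero]
      refine if_congr ⟨hmem σ χ, fun h => ?_⟩ rfl rfl
      have := hmem σ.symm _ h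
      rwa [show CfsgLib.CharNormal.galIrr σ.symm (e χ) = χ from e.left_inv χ] at this)
    have hR : (m : ℝ) = ∑ᶠ χ ∈ B, Complex.normSq ((χ : G → ℂ) x) := by
      have := congrArg Complex.re (hm.symm.trans hz)
      simpa using this
    have hge : (1 : ℝ) ≤ m := by
      rw [hR, finsum_mem_ite]
      refine le_trans (le_of_eq ?_) (Finset.single_le_sum (fun χ _ => ?_) (Finset.mem_univ one))
      · rw [if_pos hone]
        simp [one, show (CfsgLib.Char.irrOne : IrrCharacter G).1 = fun _ => (1 : ℂ) from rfl]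
      · split_ifs
        · exact Complex.normSq_nonneg _
        · exact le_refl _
    have h1 : (1 : ℤ) ≤ m := by exact_mod_cast hge
    refine ⟨m.toNat, by omega, ?_⟩
    rw [← hR]
    exact_mod_cast (Int.toNat_of_nonneg (by omega)).symm
  · rw [h2, finsum_mem_ite]
    have h := congrArg Complex.re
      (CfsgLib.Char.second_orthogonality (x : G ⧸ N) (x : G ⧸ N))
    rw [if_pos (IsConj.refl _), Complex.natCast_re, Complex.re_sum] at h
    rw [← h]
    refine Finset.sum_le_sum fun ψ _ => ?_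
    rw [Complex.mul_conj, Complex.ofReal_re]
    split_ifs
    · exact le_refl _
    · exact Complex.normSq_nonneg _
  · have hdeg : ∑ᶠ χ ∈ B, charDegree (χ : G → ℂ) ^ 2 =
        ∑ᶠ ψ ∈ B', charDegree (ψ : G ⧸ N → ℂ) ^ 2 :=
      (finsum_mem_eq_of_bijOn inf hbij fun ψ _ => by
        congr 1).symm
    have htot : ∑ ψ : IrrCharacter (G ⧸ N), charDegree (ψ : G ⧸ N → ℂ) ^ 2 = N.index := by
      apply Nat.cast_injective (R := ℂ)
      have h := CfsgLib.Char.sum_degree_mul_apply (1 : G ⧸ N)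
      rw [if_pos rfl, ← Subgroup.index_eq_card] at h
      rw [← h, Nat.cast_sum]
      refine Finset.sum_congr rfl fun ψ _ => ?_
      rw [Nat.cast_pow, ← CfsgLib.Blocks.charDegree_eq (CfsgLib.Char.isCharacter_of_isIrr ψ.2), sq]
    rw [hdeg, finsum_mem_ite, ← htot]
    constructor
    · intro h B₂ hB₂
      have hall : ∀ ψ, ψ ∈ B' := by
        intro ψ
        by_contra hψ
        refine absurd h (ne_of_lt (Finset.sum_lt_sum (fun a _ => ?_) ⟨ψ, Finset.mem_univ ψ, ?_⟩))
        · split_ifs <;> simp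
        · rw [if_neg hψ]
          exact pow_pos (Nat.pos_of_ne_zero (CfsgLib.Blocks.charDegree_ne_zero ψ)) 2
      obtain ⟨ψ, hψ⟩ := CfsgLib.Blocks.IsPBlock.nonempty hB₂
      refine CfsgLib.Blocks.isPBlock_eq_of_mem hB₂ ?_ hψ (hall ψ)
      rw [hB'def, CfsgLib.Blocks.principalBlock_eq]; exact CfsgLib.Blocks.isPBlock_blockOf _
    · intro h
      refine Finset.sum_congr rfl fun ψ _ => if_pos ?_
      rw [← h _ (CfsgLib.Blocks.isPBlock_blockOf ψ)]
      exact CfsgLib.Blocks.mem_blockOf_self ψ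

end Cfsg.Agent.S4735
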