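import Cfsg.Statements.S4736
import Cfsg.Agent.Lib.Blocks.Covering
import Cfsg.Agent.Lib.Blocks.PrincipalSection
import Cfsg.Agent.Lib.Blocks.Orth
import Cfsg.Agent.Lib.BrauerPairs.Maximal
import Cfsg.Agent.Lib.Char.Ito
import Cfsg.Agent.Lib.Transfer.PSolvable
import Cfsg.Agent.Lib.Cores.Basic
import Cfsg.Agent.Lib.FGS.Covering
import Cfsg.Agent.Lib.CharBlocks.Degree
import Mathlib

set_option autoImplicit false
open Cfsg

namespace Cfsg.Agent.S4736

open CfsgLib.Char CfsgLib.CharNormal CfsgLib.Blocks CfsgLib.Cores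
open scoped ComplexConjugate

section Groups

variable {G : Type*} [Group G] [Finite G] {p : ℕ} [hp : Fact p.Prime]

theorem relIndex_dvd_index (W I : Subgroup G) [W.Normal] : I.relIndex W ∣ I.index := by
  have e0 : I.relIndex W = I.relIndex (I ⊔ W) := by
    have e1 := Subgroup.relIndex_mul_relIndex (I ⊓ W) W (I ⊔ W) inf_le_right le_sup_right
    have e2 := Subgroup.relIndex_mul_relIndex (I ⊓ W) I (I ⊔ W) inf_le_left le_sup_left
    rw [Subgroup.inf_relIndex_right, Subgroup.relIndex_sup_right] at e1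
    rw [Subgroup.inf_relIndex_left, ← e1, mul_comm (I.relIndex W)] at e2
    exact (Nat.eq_of_mul_eq_mul_left (Nat.pos_of_ne_zero
      (Subgroup.index_ne_zero_of_finite : (W.subgroupOf I).index ≠ 0)) e2).symm
  rw [e0]
  exact Dvd.intro _ (Subgroup.relIndex_mul_index le_sup_left)

theorem natCast_charDegree_comp (N : Subgroup G) [N.Normal] (ψ : IrrCharacter (G ⧸ N)) :
    charDegree ((ψ : G ⧸ N → ℂ) ∘ QuotientGroup.mk) = charDegree (ψ : G ⧸ N → ℂ) := rfl

theorem exists_dvd_degree (N : Subgroup G) [N.Normal] (θ : IrrCharacter N) :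
    ∃ χ : IrrCharacter G, charDegree (θ : N → ℂ) * (inertia N (θ : N → ℂ)).index ∣
      charDegree (χ : G → ℂ) := by
  classical
  have := Fintype.ofFinite G
  have := Fintype.ofFinite N
  obtain ⟨χ, hχ⟩ := exists_irr_over N θ.2
  obtain ⟨e, he⟩ := classInner_char_nat (isCharacter_res N (isCharacter_of_isIrr χ.2))
    (isCharacter_of_isIrr θ.2)
  have h := degree_eq_mul_card_orbit N χ.2 θ hχ
  rw [he, card_orbit_eq_index, ← CfsgLib.CharBlocks.coe_charDegree_irr,
    ← CfsgLib.CharBlocks.coe_charDegree_irr, ← Nat.cast_mul, ← Nat.cast_mul, Nat.cast_inj] at h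
  exact ⟨χ, ⟨e, by rw [h]; ring⟩⟩

theorem pCore_comm (hdeg : ∀ χ : IrrCharacter G, ¬ p ∣ charDegree (χ : G → ℂ)) :
    IsMulCommutative ↥(pCore p G) := by
  classical
  have := Fintype.ofFinite G
  have := Fintype.ofFinite ↥(pCore p G)
  refine ⟨⟨(comm_iff_forall_linear (G := ↥(pCore p G))).mpr fun θ => ?_⟩⟩
  have : (pCore p G).Normal := pCore_normal p G
  obtain ⟨χ, hχ⟩ := exists_dvd_degree (pCore p G) θ
  obtain ⟨k, hk⟩ := card_pCore_eq_pow (G := G) p
  have hd : charDegree (θ : ↥(pCore p G) → ℂ) ∣ p ^ k := by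
    rw [← hk]; exact CfsgLib.CharBlocks.charDegree_dvd_card θ.2
  obtain ⟨i, -, hi⟩ := (Nat.dvd_prime_pow hp.out).mp hd
  rcases Nat.eq_zero_or_pos i with h | h
  · rw [← CfsgLib.CharBlocks.coe_charDegree_irr, hi, h, pow_zero, Nat.cast_one]
  · exact absurd ((hi ▸ dvd_pow_self p h.ne').trans ((dvd_mul_right _ _).trans hχ)) (hdeg χ)

/-- A `p`-group fixing all irreducible characters of a normal `p'`-subgroup centralizes it. -/
theorem le_centralizer_of_fixed (K : Subgroup G) [K.Normal] (hK : ¬ p ∣ Nat.card K)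
    (P : Subgroup G) (hP : IsPGroup p P)
    (hfix : ∀ x ∈ P, ∀ θ : IrrCharacter K, conjFun K x (θ : K → ℂ) = θ) :
    ∀ x ∈ P, ∀ k ∈ K, x * k = k * x := by
  classical
  have := Fintype.ofFinite G
  have := Fintype.ofFinite K
  let C : Subgroup K := (Subgroup.centralizer (P : Set G)).subgroupOf K
  have hC : C = ⊤ := by
    refine CfsgLib.FGS.eq_top_of_forall_exists_conj fun k => ?_
    let Ω := {y : K // IsConj k y}
    have hmove : ∀ (x : P) (y : Ω), IsConj k
        (⟨(x : G) * y.1 * (x : G)⁻¹, Subgroup.Normal.conj_mem ‹_› _ y.1.2 _⟩ : K) := by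
      intro x y
      refine y.2.trans ((isConj_iff_forall_irr _ _).mpr fun θ => ?_)
      exact (congrFun (hfix x x.2 θ) y.1).symm
    letI : MulAction P Ω :=
      { smul := fun x y => ⟨_, hmove x y⟩
        one_smul := fun y => Subtype.ext (Subtype.ext (show
          ((1 : P) : G) * y.1 * ((1 : P) : G)⁻¹ = y.1 by simp))
        mul_smul := fun x z y => Subtype.ext (Subtype.ext (show
          ((x * z : P) : G) * y.1 * ((x * z : P) : G)⁻¹ =
            (x : G) * ((z : G) * y.1 * (z : G)⁻¹) * (x : G)⁻¹ by push_cast; group)) }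
    have hcard : ¬ p ∣ Nat.card Ω := fun h => hK (h.trans (by
      show Nat.card {y : K // IsConj k y} ∣ _
      rw [card_isConj_eq_index]; exact Subgroup.index_dvd_card _))
    obtain ⟨y, hy⟩ := hP.nonempty_fixed_point_of_prime_not_dvd_card Ω hcard
    obtain ⟨c, hc⟩ := isConj_iff.mp y.2
    refine ⟨c, Subgroup.mem_subgroupOf.mpr (Subgroup.mem_centralizer_iff.mpr fun x hx => ?_)⟩
    rw [hc]
    exact mul_inv_eq_iff_eq_mul.mp
      (congrArg (fun q : Ω => ((q.1 : K) : G)) (hy ⟨x, hx⟩))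
  intro x hx k hk
  have h : (⟨k, hk⟩ : K) ∈ C := hC ▸ Subgroup.mem_top _
  exact Subgroup.mem_centralizer_iff.mp (Subgroup.mem_subgroupOf.mp h) x hx

end Groups

/-- Itô–Michler for `p`-solvable groups, in the form needed. -/
theorem sylow_normal_comm {p : ℕ} [hp : Fact p.Prime] (n : ℕ) :
    ∀ (G : Type _) [Group G] [Finite G], Nat.card G = n → IsPSolvable p G →
      (∀ χ : IrrCharacter G, ¬ p ∣ charDegree (χ : G → ℂ)) →
      ∀ P : Sylow p G, (P : Subgroup G).Normal ∧ IsMulCommutative ↥(P : Subgroup G) := by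
  induction n using Nat.strong_induction_on with
  | _ n ih =>
  intro G _ _ hn hsol hdeg P
  classical
  have := Fintype.ofFinite G
  have hquot : ∀ (N : Subgroup G) [N.Normal], N ≠ ⊥ → ∀ Q : Sylow p (G ⧸ N),
      (Q : Subgroup (G ⧸ N)).Normal ∧ IsMulCommutative ↥(Q : Subgroup (G ⧸ N)) := by
    intro N _ hN Q
    refine ih (Nat.card (G ⧸ N)) ?_ (G ⧸ N) rfl
      (CfsgLib.Transfer.isPSolvable_quotient hsol N) (fun ψ => ?_) Q
    · rw [← hn, ← Subgroup.index_eq_card]
      refine Nat.lt_of_le_of_ne (Nat.le_of_dvd Nat.card_pos N.index_dvd_card) fun e => hN ?_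
      have h := N.card_mul_index
      rw [e] at h
      exact Subgroup.card_eq_one.mp ((Nat.mul_eq_right Nat.card_pos.ne').mp h)
    · rw [← natCast_charDegree_comp]
      exact hdeg ⟨_, isIrr_comp_mk' N ψ.2⟩
  by_cases hK : pPrimeCore p G = ⊥
  · have hC := CfsgLib.Transfer.centralizer_pCore_le_of_isPSolvable hsol hK
    have : (pCore p G).Normal := pCore_normal p G
    by_cases hU : pCore p G = ⊥
    · rw [hU] at hC
      have hP : (P : Subgroup G) = ⊥ := eq_bot_iff.mpr fun x _ => hC (by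
        refine Subgroup.mem_centralizer_iff.mpr fun y hy => ?_
        rw [Subgroup.mem_bot.mp hy]; simp)
      rw [hP]
      exact ⟨inferInstance, inferInstance⟩
    · let Q := P.mapSurjective (QuotientGroup.mk'_surjective (pCore p G))
      obtain ⟨hQ, -⟩ := hquot (pCore p G) hU Q
      have hcm : ((Q : Subgroup (G ⧸ pCore p G))).comap (QuotientGroup.mk' (pCore p G)) =
          (P : Subgroup G) := by
        show ((P : Subgroup G).map _).comap _ = _
        exact Subgroup.comap_map_eq_self (by rw [QuotientGroup.ker_mk']; exact pCore_le_sylow P)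
      have hPn : (P : Subgroup G).Normal := hcm ▸ hQ.comap _
      exact ⟨hPn, pCore_eq_of_normal_sylow P ▸ pCore_comm hdeg⟩
  · have : (pPrimeCore p G).Normal := pPrimeCore_normal p G
    let K := pPrimeCore p G
    have hKp : ¬ p ∣ Nat.card K := not_dvd_card_pPrimeCore p
    let Q := P.mapSurjective (QuotientGroup.mk'_surjective K)
    obtain ⟨hQ, hQab⟩ := hquot K hK Q
    let W : Subgroup G := ((P : Subgroup G).map (QuotientGroup.mk' K)).comap (QuotientGroup.mk' K)
    have hWn : W.Normal := hQ.comap _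
    have hKW : K ≤ W := fun k hk => ⟨1, Subgroup.one_mem _, by
      rw [map_one]; exact ((QuotientGroup.eq_one_iff k).mpr hk).symm⟩
    have hPW : (P : Subgroup G) ≤ W := Subgroup.le_comap_map _ _
    have hW : ∀ w ∈ W, ∃ x ∈ (P : Subgroup G), x⁻¹ * w ∈ K := by
      rintro w ⟨x, hx, e⟩
      exact ⟨x, hx, QuotientGroup.eq.mp e⟩
    have hKWidx : ∃ k, K.relIndex W = p ^ k := by
      obtain ⟨k, hk⟩ := IsPGroup.iff_card.1 P.2
      have hd : K.relIndex W ∣ p ^ k := by
        rw [← hk, show K.relIndex W = K.relIndex (K ⊔ (P : Subgroup G)) from congrArg _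
          (le_antisymm (fun w hw => by
            obtain ⟨x, hx, hxw⟩ := hW w hw
            rw [show w = x * (x⁻¹ * w) by group]
            exact mul_mem (Subgroup.mem_sup_right hx) (Subgroup.mem_sup_left hxw))
            (sup_le hKW hPW)), Subgroup.relIndex_sup_left]
        exact Subgroup.relIndex_dvd_card _ _
      obtain ⟨i, -, hi⟩ := (Nat.dvd_prime_pow hp.out).mp hd
      exact ⟨i, hi⟩
    have hfix : ∀ x ∈ (P : Subgroup G), ∀ θ : IrrCharacter K, conjFun K x (θ : K → ℂ) = θ := by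
      intro x hx θ
      obtain ⟨χ, hχ⟩ := exists_dvd_degree K θ
      have hI : ¬ p ∣ (inertia K (θ : K → ℂ)).index :=
        fun h => hdeg χ ((h.trans (dvd_mul_left _ _)).trans hχ)
      obtain ⟨k, hk⟩ := hKWidx
      have h1 : (inertia K (θ : K → ℂ)).relIndex W ∣ p ^ k :=
        hk ▸ Subgroup.relIndex_dvd_of_le_left W (le_inertia K (isClassFunction_of_isIrr θ.2))
      obtain ⟨i, -, hi⟩ := (Nat.dvd_prime_pow hp.out).mp h1
      have hi0 : i = 0 := by
        by_contra h
        exact hI ((hi ▸ dvd_pow_self p h).trans (relIndex_dvd_index W _))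
      exact (mem_inertia K).mp
        ((Subgroup.relIndex_eq_one.mp (by rw [hi, hi0, pow_zero])) (hPW hx))
    have hcomm := le_centralizer_of_fixed K hKp (P : Subgroup G) P.2 hfix
    have hinj : ∀ a ∈ (P : Subgroup G), a ∈ K → a = 1 := by
      intro a ha haK
      obtain ⟨j, hj⟩ := IsPGroup.iff_orderOf.1 P.2 ⟨a, ha⟩
      rw [Subgroup.orderOf_mk] at hj
      rcases Nat.eq_zero_or_pos j with h | h
      · rwa [h, pow_zero, orderOf_eq_one_iff] at hj
      · exact absurd ((hj ▸ dvd_pow_self p h.ne' : p ∣ orderOf a).trans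
          (Subgroup.orderOf_dvd_natCard K haK)) hKp
    refine ⟨⟨fun a ha g => ?_⟩, ⟨⟨fun a b => Subtype.ext ?_⟩⟩⟩
    · obtain ⟨x, hx, hxw⟩ := hW _ (hWn.conj_mem a (hPW ha) g)
      obtain ⟨j, hj⟩ := IsPGroup.iff_orderOf.1 P.2 ⟨a, ha⟩
      rw [Subgroup.orderOf_mk] at hj
      have hord : orderOf (g * a * g⁻¹) = p ^ j := by
        rw [← hj]; exact ((SemiconjBy.conj_mk g a).orderOf_eq).symm
      obtain ⟨w, hwK⟩ : ∃ w : K, (w : G) = x⁻¹ * (g * a * g⁻¹) := ⟨⟨_, hxw⟩, rfl⟩
      have he : g * a * g⁻¹ = x * (w : G) := by rw [hwK]; group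
      have hcw : Commute x (w : G) := hcomm x hx _ w.2
      obtain ⟨i, hi⟩ := IsPGroup.iff_orderOf.1 P.2 ⟨x, hx⟩
      rw [Subgroup.orderOf_mk] at hi
      have hw1 : (w : G) ^ (p ^ (i + j)) = 1 := by
        have e1 : (g * a * g⁻¹) ^ (p ^ (i + j)) = 1 :=
          orderOf_dvd_iff_pow_eq_one.mp (hord ▸ pow_dvd_pow p (Nat.le_add_left j i))
        have e2 : x ^ (p ^ (i + j)) = 1 :=
          orderOf_dvd_iff_pow_eq_one.mp (hi ▸ pow_dvd_pow p (Nat.le_add_right i j))
        rwa [he, hcw.mul_pow, e2, one_mul] at e1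
      have hw2 : (w : G) = 1 := orderOf_eq_one_iff.mp (Nat.eq_one_of_dvd_coprimes
        ((hp.out.coprime_iff_not_dvd.mpr hKp).pow_left (i + j))
        (orderOf_dvd_of_pow_eq_one hw1) (Subgroup.orderOf_dvd_natCard K w.2))
      rw [he, hw2, mul_one]
      exact hx
    · have h := congrArg Subtype.val (hQab.is_comm.comm
        (⟨_, ⟨a, a.2, rfl⟩⟩ : ↥(Q : Subgroup (G ⧸ K))) ⟨_, ⟨b, b.2, rfl⟩⟩)
      simp only [Subgroup.coe_mul] at h
      rw [← map_mul, ← map_mul] at h
      have h' := QuotientGroup.eq.mp h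
      have := hinj _ (mul_mem (inv_mem (mul_mem a.2 b.2)) (mul_mem b.2 a.2)) h'
      exact inv_mul_eq_one.mp this

section Block

variable {G : Type*} [Group G] [Fintype G] {p : ℕ} [hp : Fact p.Prime] {M : Ideal AlgInt}
  [M.IsMaximal]

/-- With a self-centralizing normal `p`-subgroup there is only one block. -/
theorem mem_principalBlock_of_selfCentral (hM : IsPModular p M)
    (hC : Subgroup.centralizer (pCore p G : Set G) ≤ pCore p G) (χ : IrrCharacter G) :
    χ ∈ principalBlock M G := by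
  classical
  have : (pCore p G).Normal := pCore_normal p G
  have hB : IsPBlock M (principalBlock M G) := isPBlock_principalBlock
  have h0 : ∀ g : G, g ≠ 1 → blockCoeff (principalBlock M G) g = 0 := by
    intro g hg
    by_cases hgC : g ∈ Subgroup.centralizer (pCore p G : Set G)
    · refine blockCoeff_eq_zero hM hB ?_
      obtain ⟨j, hj⟩ := IsPGroup.iff_orderOf.1 (isPGroup_pCore p) (⟨g, hC hgC⟩ : ↥(pCore p G))
      rw [Subgroup.orderOf_mk] at hj
      rw [hj]
      refine dvd_pow_self p fun e => hg ?_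
      rw [e, pow_zero, orderOf_eq_one_iff] at hj
      exact hj
    · exact CfsgLib.BrauerPairs.blockCoeff_eq_zero_normal hM (isPGroup_pCore p) hB hgC
  have hω : ∀ η : IrrCharacter G, omega (η : G → ℂ) (blockElt (principalBlock M G)) =
      blockCoeff (principalBlock M G) 1 := by
    intro η
    rw [omega, charLin_apply, Fintype.sum_eq_single 1 (fun g hg => by simp [blockElt, h0 g hg])]
    simp [blockElt, irr_one_ne_zero η.2]
  have h1 := hω irrOne
  rw [omega_blockElt, if_pos irrOne_mem_principalBlock] at h1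
  have h2 := hω χ
  rw [omega_blockElt, ← h1] at h2
  by_contra hne
  rw [if_neg hne] at h2
  exact zero_ne_one h2

theorem mem_principalBlock_comp (N : Subgroup G) [N.Normal] [Fintype (G ⧸ N)]
    {ψ : IrrCharacter (G ⧸ N)} (hψ : ψ ∈ principalBlock M (G ⧸ N)) :
    (⟨_, isIrr_comp_mk' N ψ.2⟩ : IrrCharacter G) ∈ principalBlock M G := by
  intro g
  obtain ⟨a, b, ha, hb, hab⟩ := hψ (g : G ⧸ N)
  obtain ⟨r, hr⟩ : (Subgroup.centralizer ({(g : G ⧸ N)} : Set (G ⧸ N))).index ∣
      (Subgroup.centralizer ({g} : Set G)).index := by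
    rw [← Subgroup.index_comap_of_surjective (H := Subgroup.centralizer ({(g : G ⧸ N)} : Set (G ⧸ N)))
      (QuotientGroup.mk'_surjective N)]
    refine Subgroup.index_dvd_of_le fun x hx => ?_
    rw [Subgroup.mem_comap, Subgroup.mem_centralizer_singleton_iff, QuotientGroup.mk'_apply,
      ← QuotientGroup.mk_mul, ← QuotientGroup.mk_mul, Subgroup.mem_centralizer_singleton_iff.mp hx]
  refine ⟨(r : AlgInt) * a, b, M.mul_mem_left _ ha, hb, ?_⟩
  push_cast
  rw [mul_div_assoc, hab, centralChar, centralChar, centralChar, centralChar, hr]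
  simp only [Function.comp_apply, QuotientGroup.mk_one]
  push_cast
  ring

theorem blockHeight_eq_zero_iff (χ : IrrCharacter G) :
    blockHeight p (principalBlock M G) (χ : G → ℂ) = 0 ↔ ¬ p ∣ charDegree (χ : G → ℂ) := by
  have h1 : charDegree ((irrOne : IrrCharacter G) : G → ℂ) = 1 :=
    CfsgLib.CharBlocks.charDegree_eq (by simp [irrOne_apply])
  have h : sInf ((fun ψ : IrrCharacter G => (charDegree (ψ : G → ℂ)).factorization p) ''
      principalBlock M G) = 0 := by
    refine Nat.sInf_eq_zero.mpr (Or.inl ⟨irrOne, irrOne_mem_principalBlock, ?_⟩)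
    simp [h1]
  rw [blockHeight, h, Nat.sub_zero, Nat.factorization_eq_zero_iff]
  refine ⟨fun h => ?_, fun h => Or.inr (Or.inl h)⟩
  rcases h with h | h | h
  · exact absurd hp.out h
  · exact h
  · exact absurd h (CfsgLib.CharBlocks.charDegree_pos χ.2).ne'

end Block

/-- Let p be a prime, M a maximal ideal of the algebraic integers containing p, and G a finite p-solvable group with Sylow p-subgroup P. Then P is abelian if and only if every irreducible character in the principal p-block of G has height zero. -/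
theorem result {G : Type*} [Group G] [Finite G] (p : ℕ) [Fact p.Prime] (M : Ideal Cfsg.AlgInt) (hM : Cfsg.IsPModular p M) (hsolv : Cfsg.IsPSolvable p G) (P : Sylow p G) : IsMulCommutative P ↔ ∀ χ ∈ Cfsg.principalBlock M G, Cfsg.blockHeight p (Cfsg.principalBlock M G) (χ : G → ℂ) = 0 := by
  classical
  have := Fintype.ofFinite G
  have := hM.2.1
  have hKn : (pPrimeCore p G).Normal := Cfsg.pPrimeCore_normal p G
  let K := pPrimeCore p G
  have := Fintype.ofFinite (G ⧸ K)
  have := Fintype.ofFinite ↥K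
  have hKp : ¬ p ∣ Nat.card K := CfsgLib.Cores.not_dvd_card_pPrimeCore p
  have hO : pPrimeCore p (G ⧸ K) = ⊥ := CfsgLib.Cores.pPrimeCore_quotient_self p
  have hsolK := CfsgLib.Transfer.isPSolvable_quotient hsolv K
  have hC := CfsgLib.Transfer.centralizer_pCore_le_of_isPSolvable hsolK hO
  let Q := P.mapSurjective (QuotientGroup.mk'_surjective K)
  constructor
  · intro hab χ hχ
    rw [blockHeight_eq_zero_iff]
    have hker := CfsgLib.Blocks.trivialOn_of_sameBlock (N := K) hM hKp (χ := CfsgLib.Char.irrOne)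
      (ψ := χ) (by rw [CfsgLib.Blocks.principalBlock_eq] at hχ; exact hχ)
      (fun n _ => by simp [CfsgLib.Char.irrOne_apply])
    obtain ⟨ψ, hψ, he⟩ := CfsgLib.CharNormal.exists_irr_eq_comp_mk' K χ.2 hker
    have hQab : IsMulCommutative ↥(Q : Subgroup (G ⧸ K)) := by
      refine ⟨⟨?_⟩⟩
      rintro ⟨_, a, ha, rfl⟩ ⟨_, b, hb, rfl⟩
      refine Subtype.ext ?_
      show QuotientGroup.mk' K a * QuotientGroup.mk' K b = QuotientGroup.mk' K b * QuotientGroup.mk' K a
      rw [← map_mul, ← map_mul]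
      exact congrArg _ (congrArg Subtype.val (hab.is_comm.comm (⟨a, ha⟩ : ↥(P : Subgroup G)) ⟨b, hb⟩))
    have hQU : (Q : Subgroup (G ⧸ K)) = pCore p (G ⧸ K) := by
      refine le_antisymm (le_trans (fun x hx => Subgroup.mem_centralizer_iff.mpr fun y hy => ?_) hC)
        (CfsgLib.Cores.pCore_le_sylow Q)
      exact congrArg Subtype.val (hQab.is_comm.comm
        (⟨y, CfsgLib.Cores.pCore_le_sylow Q hy⟩ : ↥(Q : Subgroup (G ⧸ K))) ⟨x, hx⟩)
    have : (Q : Subgroup (G ⧸ K)).Normal := hQU ▸ Cfsg.pCore_normal p (G ⧸ K)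
    intro hdvd
    refine Q.not_dvd_index (hdvd.trans (CfsgLib.Char.degree_dvd_index_abelian_normal
      (Q : Subgroup (G ⧸ K)) (fun a ha b hb => congrArg Subtype.val
        (hQab.is_comm.comm (⟨a, ha⟩ : ↥(Q : Subgroup (G ⧸ K))) ⟨b, hb⟩)) hψ ?_))
    rw [CfsgLib.CharBlocks.coe_charDegree_irr, ← he]
    rfl
  · intro h0
    have hdeg : ∀ ψ : Cfsg.IrrCharacter (G ⧸ K), ¬ p ∣ charDegree (ψ : G ⧸ K → ℂ) := by
      intro ψ
      have h := (blockHeight_eq_zero_iff (M := M) _).mp
        (h0 _ (mem_principalBlock_comp K (mem_principalBlock_of_selfCentral hM hC ψ)))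
      exact h
    obtain ⟨-, hQab⟩ := sylow_normal_comm _ (G ⧸ K) rfl hsolK hdeg Q
    refine ⟨⟨fun a b => Subtype.ext ?_⟩⟩
    have h := congrArg Subtype.val (hQab.is_comm.comm
      (⟨_, ⟨a, a.2, rfl⟩⟩ : ↥(Q : Subgroup (G ⧸ K))) ⟨_, ⟨b, b.2, rfl⟩⟩)
    simp only [Subgroup.coe_mul] at h
    rw [← map_mul, ← map_mul] at h
    have h' := QuotientGroup.eq.mp h
    have hm : (((a : G) * b)⁻¹ * ((b : G) * a)) ∈ (P : Subgroup G) :=
      mul_mem (inv_mem (mul_mem a.2 b.2)) (mul_mem b.2 a.2)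
    obtain ⟨j, hj⟩ := IsPGroup.iff_orderOf.1 P.2 ⟨_, hm⟩
    rw [Subgroup.orderOf_mk] at hj
    rcases Nat.eq_zero_or_pos j with h1 | h1
    · rw [h1, pow_zero, orderOf_eq_one_iff] at hj
      exact inv_mul_eq_one.mp hj
    · exact absurd ((hj ▸ dvd_pow_self p h1.ne' :
        p ∣ orderOf (((a : G) * b)⁻¹ * ((b : G) * a))).trans
        (Subgroup.orderOf_dvd_natCard K h')) hKp

end Cfsg.Agent.S4736
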