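import Cfsg.Statements.S4737
import Cfsg.Agent.Lib.CharBlocks.ClassMul
import Cfsg.Agent.Lib.CharBlocks.Degree
import Cfsg.Agent.Lib.Blocks.GaloisInv
import Mathlib

set_option autoImplicit false
open Cfsg

namespace Cfsg.Agent.S4737

open CfsgLib.Char CfsgLib.CharBlocks
open scoped ComplexConjugate

variable {G : Type*} [Group G]

def IsT (g : G) : Prop :=
  orderOf g = 3 ∧ ∀ Q : Subgroup G, IsPGroup 2 Q → g ∈ Subgroup.normalizer (Q : Set G) → Q = ⊥

theorem IsT.pow_three {g : G} (hg : IsT g) : g ^ 3 = 1 := hg.1 ▸ pow_orderOf_eq_one g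

theorem not_two_dvd_centralizer [Finite G] {g : G} (hg : IsT g) :
    ¬ 2 ∣ Nat.card (Subgroup.centralizer ({g} : Set G)) := by
  intro h2
  have : Fact (Nat.Prime 2) := ⟨Nat.prime_two⟩
  obtain ⟨t, ht⟩ := exists_prime_orderOf_dvd_card' 2 h2
  have ht' : orderOf (t : G) = 2 := by rw [Subgroup.orderOf_coe, ht]
  have hgt : Commute g (t : G) := (Subgroup.mem_centralizer_singleton_iff.mp t.2).symm
  have hcomm : ∀ n ∈ Subgroup.zpowers (t : G), g * n * g⁻¹ = n := by
    intro n hn
    obtain ⟨k, rfl⟩ := Subgroup.mem_zpowers_iff.mp hn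
    rw [(hgt.zpow_right k).eq, mul_inv_cancel_right]
  have hQ := hg.2 (Subgroup.zpowers (t : G))
    (IsPGroup.of_card (n := 1) (by rw [Nat.card_zpowers, ht', pow_one])) (by
      refine Subgroup.mem_normalizer_iff.mpr fun n => ⟨fun hn => ?_, fun hn => ?_⟩
      · rwa [hcomm n hn]
      · have e : g * n = g * (g * n * g⁻¹) := mul_right_cancel
          ((by group : g * n * g⁻¹ = g * n * g⁻¹).trans (hcomm _ hn).symm)
        rw [← mul_left_cancel e] at hn
        exact hn)
  rw [Subgroup.zpowers_eq_bot] at hQ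
  rw [hQ, orderOf_one] at ht'
  exact absurd ht' (by norm_num)

theorem IsT.not_klein {h : G} (hh : IsT h) {s t : G} (hs : s * s = 1) (ht : t * t = 1)
    (hst : s * t = t * s) (hsne : s ≠ 1) (h1 : h * s * h⁻¹ = s * t) (h2 : h * t * h⁻¹ = s) :
    False := by
  have e1 : ∀ a, s * (s * a) = a := fun a => by rw [← mul_assoc, hs, one_mul]
  have e2 : ∀ a, t * (t * a) = a := fun a => by rw [← mul_assoc, ht, one_mul]
  have e3 : ∀ a, t * (s * a) = s * (t * a) := fun a => by rw [← mul_assoc, ← hst, mul_assoc]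
  let V : Subgroup G :=
    { carrier := {1, s, t, s * t}
      one_mem' := by simp
      mul_mem' := by
        intro a b ha hb
        simp only [Set.mem_insert_iff, Set.mem_singleton_iff] at ha hb ⊢
        rcases ha with rfl | rfl | rfl | rfl <;> rcases hb with rfl | rfl | rfl | rfl <;>
          simp [mul_assoc, hs, ht, ← hst, e1, e2, e3]
      inv_mem' := by
        intro a ha
        simp only [Set.mem_insert_iff, Set.mem_singleton_iff] at ha ⊢
        have hsi : s⁻¹ = s := inv_eq_of_mul_eq_one_right hs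
        have hti : t⁻¹ = t := inv_eq_of_mul_eq_one_right ht
        rcases ha with rfl | rfl | rfl | rfl <;> simp [hsi, hti, ← hst] }
  have hmem : ∀ a, a ∈ V ↔ a = 1 ∨ a = s ∨ a = t ∨ a = s * t := fun a => Iff.rfl
  have h12 : h * (s * t) * h⁻¹ = t := by
    rw [show h * (s * t) * h⁻¹ = (h * s * h⁻¹) * (h * t * h⁻¹) by group, h1, h2, mul_assoc,
      ← hst, e1]
  have hfw : ∀ a ∈ V, h * a * h⁻¹ ∈ V := by
    intro a ha
    rcases (hmem a).mp ha with rfl | rfl | rfl | rfl
    · simp [hmem]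
    · exact (hmem _).mpr (by tauto)
    · exact (hmem _).mpr (by tauto)
    · exact (hmem _).mpr (by tauto)
  have hV := hh.2 V (fun a => ⟨1, Subtype.ext (by
    rw [pow_one, SubmonoidClass.coe_pow, pow_two]
    rcases (hmem (a : G)).mp a.2 with e | e | e | e <;>
      simp [e, mul_assoc, hs, ht, e1, e2, e3])⟩) (by
    refine Subgroup.mem_normalizer_iff.mpr fun n => ⟨hfw n, fun hn => ?_⟩
    have h4 := hfw _ (hfw _ hn)
    rwa [show h * (h * (h * n * h⁻¹) * h⁻¹) * h⁻¹ = h ^ 3 * n * (h ^ 3)⁻¹ by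
        simp only [pow_succ, pow_zero, one_mul, mul_inv_rev, mul_assoc],
      hh.pow_three, one_mul, inv_one, mul_one] at h4)
  have : s ∈ V := (hmem s).mpr (by tauto)
  rw [hV, Subgroup.mem_bot] at this
  exact hsne this

theorem IsT.eq_of_braid {h x y : G} (hh : IsT h) (hxy : x * y = h) (hx : x ^ 3 = 1)
    (hbr : x * y * x = y * x * y) : x = y := by
  obtain ⟨s, hsdef⟩ : ∃ s, s = x * y * x := ⟨_, rfl⟩
  have hs : s * s = 1 := by
    calc s * s = (x * y * x) * (y * x * y) := by rw [hsdef]; nth_rw 2 [hbr]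
      _ = h ^ 3 := by rw [← hxy]; simp only [pow_succ, pow_zero, one_mul, mul_assoc]
      _ = 1 := hh.pow_three
  by_contra hne
  have hs1 : s ≠ 1 := by
    intro e
    rw [hsdef] at e
    apply hne
    calc x = x⁻¹ * (x * y * x) * x⁻¹ * x ^ 3 := by rw [e]; group
      _ = y := by rw [hx, mul_one]; group
  have hsi : s⁻¹ = s := inv_eq_of_mul_eq_one_right hs
  have hhs : h = s * x⁻¹ := by rw [hsdef, ← hxy]; group
  -- `(s x) ^ 3 = 1`
  have h3 : x * s * x * s * x * s = 1 := by
    have e := congrArg (·⁻¹) hh.pow_three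
    simp only [hhs, pow_succ, pow_zero, one_mul, mul_inv_rev, inv_inv, inv_one, hsi] at e
    simpa [mul_assoc] using e
  have e4 : s * x * s = x⁻¹ * s * x⁻¹ := by
    calc s * x * s = x⁻¹ * (x * s * x * s * x * s) * s⁻¹ * x⁻¹ := by group
      _ = _ := by rw [h3, hsi]; group
  have e5 : s * x⁻¹ * s = x * s * x := by
    have e := congrArg (·⁻¹) e4
    simp only [mul_inv_rev, inv_inv, hsi] at e
    simpa [mul_assoc] using e
  have hst : s * (x * s * x⁻¹) = x⁻¹ * s * x := by
    calc s * (x * s * x⁻¹) = (s * x * s) * x⁻¹ := by group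
      _ = x⁻¹ * s * x * (x ^ 3)⁻¹ := by rw [e4]; group
      _ = _ := by rw [hx]; simp
  have hts : x * s * x⁻¹ * s = x⁻¹ * s * x := by
    calc x * s * x⁻¹ * s = x * (s * x⁻¹ * s) := by group
      _ = x ^ 3 * (x⁻¹ * s * x) := by
          rw [e5]; simp only [pow_succ, pow_zero, one_mul, mul_assoc, mul_inv_cancel_left]
      _ = _ := by rw [hx, one_mul]
  refine hh.not_klein hs (t := x * s * x⁻¹) ?_ (hst.trans hts.symm) hs1 ?_ ?_
  · rw [show x * s * x⁻¹ * (x * s * x⁻¹) = x * (s * s) * x⁻¹ by group, hs]; simp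
  · rw [hhs, mul_inv_rev, inv_inv, hsi, show s * x⁻¹ * s * (x * s) = s * (x⁻¹ * s * x) * s by group,
      ← hts, show s * (x * s * x⁻¹ * s) * s = s * (x * s * x⁻¹) * (s * s) by group, hs, mul_one]
  · rw [hhs, mul_inv_rev, inv_inv, hsi,
      show s * x⁻¹ * (x * s * x⁻¹) * (x * s) = s * s * s by group, hs, one_mul]

/-- The number of factorisations of `h` in two conjugates of `g⁻¹`. -/
noncomputable def facSet [Fintype G] (g h : G) : Finset G := by
  classical exact Finset.univ.filter fun x => IsConj x g⁻¹ ∧ IsConj (x⁻¹ * h) g⁻¹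

theorem card_facSet_cast [Fintype G] {R : Type*} [CommRing R] (h2 : (2 : R) = 0) {g h : G}
    (hg : IsT g) (hh : IsT h) [Decidable (IsConj g h)] :
    ((facSet g h).card : R) = if IsConj g h then 1 else 0 := by
  classical
  have h3 := hh.pow_three
  have hmem : ∀ x, x ∈ facSet g h ↔ IsConj x g⁻¹ ∧ IsConj (x⁻¹ * h) g⁻¹ := by simp [facSet]
  have hh2 : h⁻¹⁻¹ * h = h⁻¹ := by
    rw [inv_inv, eq_inv_iff_mul_eq_one]
    simpa [pow_succ] using h3
  have hgh : IsConj g h ↔ h⁻¹ ∈ facSet g h := by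
    rw [hmem, hh2, and_self]
    constructor
    · intro e
      obtain ⟨c, hc⟩ := isConj_iff.mp e.symm
      exact isConj_iff.mpr ⟨c, by rw [← hc]; group⟩
    · intro e
      obtain ⟨c, hc⟩ := isConj_iff.mp e.symm
      exact isConj_iff.mpr ⟨c, inv_injective (by rw [← hc]; group)⟩
  have hzero : ∑ x ∈ (facSet g h).erase h⁻¹, (1 : R) = 0 := by
    refine Finset.sum_involution (fun x _ => h⁻¹ * x⁻¹ * h ^ 2) ?_ ?_ ?_ ?_
    · intro x _
      rw [one_add_one_eq_two, h2]
    · intro x hx _ e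
      obtain ⟨hne, hxm⟩ := Finset.mem_erase.mp hx
      obtain ⟨hx1, -⟩ := (hmem x).mp hxm
      obtain ⟨c, hc⟩ := isConj_iff.mp hx1.symm
      have hx3 : x ^ 3 = 1 := by rw [← hc, conj_pow, inv_pow, hg.pow_three]; simp
      have hfix : h * x = x⁻¹ * h * h := by
        calc h * x = h * (h⁻¹ * x⁻¹ * h ^ 2) := congrArg (h * ·) e.symm
          _ = x⁻¹ * h * h := by rw [pow_two]; group
      have := hh.eq_of_braid (x := x) (y := x⁻¹ * h) (by group) hx3 (by
        rw [show x * (x⁻¹ * h) * x = h * x by group, hfix]; group)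
      apply hne
      have e2 : x * x = h := by nth_rw 2 [this]; group
      calc x = (x * x)⁻¹ * x ^ 3 := by group
        _ = h⁻¹ := by rw [hx3, e2, mul_one]
    · intro x hx
      obtain ⟨hne, hxm⟩ := Finset.mem_erase.mp hx
      obtain ⟨hx1, hx2⟩ := (hmem x).mp hxm
      refine Finset.mem_erase.mpr ⟨?_, (hmem _).mpr ⟨?_, ?_⟩⟩
      · intro e
        apply hne
        have e2 : x⁻¹ = (h ^ 2)⁻¹ := by
          calc x⁻¹ = h * (h⁻¹ * x⁻¹ * h ^ 2) * (h ^ 2)⁻¹ := by group
            _ = _ := by rw [e]; group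
        rw [inv_inj] at e2
        rw [e2, eq_inv_iff_mul_eq_one]
        simpa [pow_succ] using h3
      · exact (isConj_iff.mpr ⟨h, by group⟩).trans hx2
      · refine (isConj_iff.mpr ⟨h ^ 2, ?_⟩).trans hx1
        group
    · intro x _
      calc h⁻¹ * (h⁻¹ * x⁻¹ * h ^ 2)⁻¹ * h ^ 2 = (h ^ 3)⁻¹ * x * h ^ 3 := by group
        _ = x := by rw [h3]; simp
  rw [Finset.card_eq_sum_ones, Nat.cast_sum, Nat.cast_one]
  split_ifs with hc
  · rw [← Finset.add_sum_erase _ _ (hgh.mp hc), hzero, add_zero]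
  · rwa [Finset.erase_eq_of_notMem (fun e => hc (hgh.mpr e))] at hzero

theorem sum_formula [Fintype G] (g h : G) :
    ((Nat.card (Subgroup.centralizer ({g} : Set G)) ^ 2 * (facSet g h).card : ℕ) : ℂ) =
      ∑ χ : Cfsg.IrrCharacter G, ((Nat.card G / charDegree (χ : G → ℂ) : ℕ) : ℂ) *
        ((χ : G → ℂ) g ^ 2 * (χ : G → ℂ) h) := by
  classical
  have hind : ∀ x : G, ∑ χ : Cfsg.IrrCharacter G, (χ : G → ℂ) x * (χ : G → ℂ) g =
      if IsConj x g⁻¹ then (Nat.card (Subgroup.centralizer ({g} : Set G)) : ℂ) else 0 := by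
    intro x
    calc _ = ∑ χ : Cfsg.IrrCharacter G, (χ : G → ℂ) g * conj ((χ : G → ℂ) x⁻¹) := by
          refine Finset.sum_congr rfl fun χ _ => ?_
          rw [char_inv (isCharacter_of_isIrr χ.2), Complex.conj_conj, mul_comm]
      _ = _ := by
          rw [second_orthogonality]
          refine if_congr ⟨fun e => ?_, fun e => ?_⟩ rfl rfl
          · obtain ⟨c, hc⟩ := isConj_iff.mp e.symm
            exact isConj_iff.mpr ⟨c, by rw [← hc]; group⟩
          · obtain ⟨c, hc⟩ := isConj_iff.mp e.symm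
            exact isConj_iff.mpr ⟨c, inv_injective (by rw [← hc]; group)⟩
  calc ((Nat.card (Subgroup.centralizer ({g} : Set G)) ^ 2 * (facSet g h).card : ℕ) : ℂ)
      = ∑ x : G, (∑ χ : Cfsg.IrrCharacter G, (χ : G → ℂ) x * (χ : G → ℂ) g) *
          ∑ ψ : Cfsg.IrrCharacter G, (ψ : G → ℂ) (x⁻¹ * h) * (ψ : G → ℂ) g := by
        have e : ∀ x ∈ (Finset.univ : Finset G),
            (∑ χ : Cfsg.IrrCharacter G, (χ : G → ℂ) x * (χ : G → ℂ) g) *
              ∑ ψ : Cfsg.IrrCharacter G, (ψ : G → ℂ) (x⁻¹ * h) * (ψ : G → ℂ) g =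
            if x ∈ facSet g h then
              (Nat.card (Subgroup.centralizer ({g} : Set G)) : ℂ) ^ 2 else 0 := by
          intro x _
          have hm : x ∈ facSet g h ↔ IsConj x g⁻¹ ∧ IsConj (x⁻¹ * h) g⁻¹ := by simp [facSet]
          rw [hind x, hind (x⁻¹ * h)]
          by_cases h1 : IsConj x g⁻¹ <;> by_cases h2 : IsConj (x⁻¹ * h) g⁻¹
          · rw [if_pos h1, if_pos h2, if_pos (hm.mpr ⟨h1, h2⟩), sq]
          · rw [if_neg h2, if_neg fun e => h2 (hm.mp e).2, mul_zero]
          · rw [if_neg h1, if_neg fun e => h1 (hm.mp e).1, zero_mul]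
          · rw [if_neg h1, if_neg fun e => h1 (hm.mp e).1, zero_mul]
        rw [Finset.sum_congr rfl e, Finset.sum_ite_mem, Finset.univ_inter, Finset.sum_const,
          nsmul_eq_mul]
        push_cast
        ring
    _ = ∑ χ : Cfsg.IrrCharacter G, ∑ ψ : Cfsg.IrrCharacter G, (χ : G → ℂ) g * (ψ : G → ℂ) g *
          ∑ x : G, (χ : G → ℂ) x * (ψ : G → ℂ) (x⁻¹ * h) := by
        simp_rw [Finset.sum_mul_sum, Finset.mul_sum]
        rw [Finset.sum_comm]
        refine Finset.sum_congr rfl fun χ _ => ?_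
        rw [Finset.sum_comm]
        exact Finset.sum_congr rfl fun ψ _ => Finset.sum_congr rfl fun x _ => by ring
    _ = _ := by
        simp_rw [sum_mul_inv_mul, mul_ite, mul_zero, Finset.sum_ite_eq, Finset.mem_univ, if_true]
        refine Finset.sum_congr rfl fun χ _ => ?_
        rw [Nat.cast_div (charDegree_dvd_card χ.2)
          (Nat.cast_ne_zero.mpr (charDegree_pos χ.2).ne'), coe_charDegree_irr]
        ring

abbrev DefZero (χ : Cfsg.IrrCharacter G) : Prop :=
  (charDegree (χ : G → ℂ)).factorization 2 = (Nat.card G).factorization 2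

theorem count_le [Fintype G] {ι : Type*} [Fintype ι] (g : ι → G) (hg : ∀ i, IsT (g i))
    (hinj : ∀ i j, IsConj (g i) (g j) → i = j) :
    Fintype.card ι ≤ Nat.card {χ : Cfsg.IrrCharacter G // DefZero χ} := by
  classical
  obtain ⟨M, hM⟩ := CfsgLib.Blocks.exists_isPModular (p := 2) Nat.prime_two
  have := hM.2.1
  letI : Field (AlgInt ⧸ M) := Ideal.Quotient.field M
  have h2 : (2 : AlgInt ⧸ M) = 0 := by
    have h := (Ideal.Quotient.eq_zero_iff_mem (I := M)).mpr hM.2.2
    rw [map_natCast] at h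
    exact_mod_cast h
  have hodd : ∀ n : ℕ, ¬ 2 ∣ n → (n : AlgInt ⧸ M) = 1 := by
    intro n hn
    obtain ⟨k, rfl⟩ : ∃ k, n = 2 * k + 1 := ⟨n / 2, by omega⟩
    simp [h2]
  have heven : ∀ n : ℕ, 2 ∣ n → (n : AlgInt ⧸ M) = 0 := by
    rintro n ⟨k, rfl⟩
    simp [h2]
  let π := Ideal.Quotient.mk M
  let v : Cfsg.IrrCharacter G → G → AlgInt := fun χ x =>
    ⟨(χ : G → ℂ) x, char_isIntegral (isCharacter_of_isIrr χ.2) x⟩
  have hn : ∀ χ : Cfsg.IrrCharacter G, ((Nat.card G / charDegree (χ : G → ℂ) : ℕ) : AlgInt ⧸ M) =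
      if DefZero χ then 1 else 0 := by
    intro χ
    have hd := charDegree_dvd_card χ.2
    have hq : Nat.card G / charDegree (χ : G → ℂ) ≠ 0 :=
      (Nat.div_pos (Nat.le_of_dvd Nat.card_pos hd) (charDegree_pos χ.2)).ne'
    have hf : (Nat.card G / charDegree (χ : G → ℂ)).factorization 2 =
        (Nat.card G).factorization 2 - (charDegree (χ : G → ℂ)).factorization 2 := by
      rw [Nat.factorization_div hd]; rfl
    have hle := (Nat.factorization_le_iff_dvd (charDegree_pos χ.2).ne' Nat.card_pos.ne').mpr hd 2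
    have hiff := Nat.Prime.dvd_iff_one_le_factorization Nat.prime_two hq
    split_ifs with hc
    · exact hodd _ fun e => by have := hiff.mp e; have := hc; omega
    · exact heven _ (hiff.mpr (by have : ¬ _ = _ := hc; omega))
  have key : ∀ i j, ∑ χ : Cfsg.IrrCharacter G,
      (if DefZero χ then π (v χ (g i)) ^ 2 * π (v χ (g j)) else 0) = if i = j then 1 else 0 := by
    intro i j
    have hform : ((Nat.card (Subgroup.centralizer ({g i} : Set G)) ^ 2 *
        (facSet (g i) (g j)).card : ℕ) : AlgInt) = ∑ χ : Cfsg.IrrCharacter G,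
          ((Nat.card G / charDegree (χ : G → ℂ) : ℕ) : AlgInt) * (v χ (g i) ^ 2 * v χ (g j)) := by
      apply Subtype.ext
      push_cast [v]
      exact_mod_cast sum_formula (g i) (g j)
    have := congrArg π hform
    simp only [map_natCast, map_sum, map_mul, map_pow, hn, ite_mul, one_mul, zero_mul] at this
    rw [← this, Nat.cast_mul, Nat.cast_pow, hodd _ (not_two_dvd_centralizer (hg i)), one_pow,
      one_mul, card_facSet_cast h2 (hg i) (hg j)]
    exact if_congr ⟨hinj i j, fun e => e ▸ IsConj.refl _⟩ rfl rfl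
  let A : Matrix ι {χ : Cfsg.IrrCharacter G // DefZero χ} (AlgInt ⧸ M) :=
    Matrix.of fun i χ => π (v χ.1 (g i)) ^ 2
  let B : Matrix {χ : Cfsg.IrrCharacter G // DefZero χ} ι (AlgInt ⧸ M) :=
    Matrix.of fun χ j => π (v χ.1 (g j))
  have hAB : A * B = 1 := by
    ext i j
    rw [Matrix.mul_apply, Matrix.one_apply, ← key i j, ← Finset.sum_filter]
    exact (Finset.sum_subtype (p := fun χ : Cfsg.IrrCharacter G => DefZero χ)
      (Finset.univ.filter fun χ => DefZero χ) (fun χ => by simp)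
        (fun χ => π (v χ (g i)) ^ 2 * π (v χ (g j)))).symm
  rw [Nat.card_eq_fintype_card, ← Matrix.rank_one (R := AlgInt ⧸ M) (n := ι), ← hAB]
  exact (Matrix.rank_mul_le_left A B).trans A.rank_le_card_width

/-- Let G be a finite group of order divisible by 6. Then the number of irreducible characters of G whose degree has the same 2-part as the order of G (the characters of 2-defect zero, each forming a 2-block of defect zero on its own) is at least the number of conjugacy classes of elements of order 3 that normalize no nontrivial 2-subgroup of G. In particular G has a 2-block of defect zero as soon as some element of order 3 normalizes no nontrivial 2-subgroup. -/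
theorem result {G : Type*} [Group G] [Finite G] (h6 : 6 ∣ Nat.card G) : Nat.card {C : ConjClasses G // ∃ g ∈ C.carrier, orderOf g = 3 ∧ ∀ Q : Subgroup G, IsPGroup 2 ↥Q → g ∈ Subgroup.normalizer (Q : Set G) → Q = ⊥} ≤ Nat.card {χ : Cfsg.IrrCharacter G // (Cfsg.charDegree (χ : G → ℂ)).factorization 2 = (Nat.card G).factorization 2} := by
  classical
  have := Fintype.ofFinite G
  have : Fintype (ConjClasses G) := Fintype.ofFinite _
  let g : {C : ConjClasses G // ∃ g ∈ C.carrier, orderOf g = 3 ∧ ∀ Q : Subgroup G, IsPGroup 2 ↥Q →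
      g ∈ Subgroup.normalizer (Q : Set G) → Q = ⊥} → G := fun C => C.2.choose
  rw [Nat.card_eq_fintype_card]
  refine count_le g (fun C => C.2.choose_spec.2) fun C D h => Subtype.ext ?_
  rw [← ConjClasses.mem_carrier_iff_mk_eq.mp C.2.choose_spec.1,
    ← ConjClasses.mem_carrier_iff_mk_eq.mp D.2.choose_spec.1]
  exact ConjClasses.mk_eq_mk_iff_isConj.mpr h

end Cfsg.Agent.S4737
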