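import Cfsg.Statements.S4738
import Cfsg.Agent.S4740
import Cfsg.Agent.Lib.CharBlocks.InvolSylow
import Cfsg.Agent.Lib.CharBlocks.Degree

set_option autoImplicit false
open Cfsg

namespace Cfsg.Agent.S4738

open CfsgLib.CharBlocks

/-- With no defect-zero character, every involution inverts some nontrivial `p`-element. -/
theorem exists_inverted {G : Type*} [Group G] [Finite G] {p : ℕ} [Fact p.Prime] (hp2 : p ≠ 2)
    (hG : Even (Nat.card G))
    (hodd : ∀ t z : G, orderOf t = 2 → (∃ k, orderOf z = p ^ k) → t * z = z * t → z = 1)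
    (hno : ¬ ∃ χ : Cfsg.IrrCharacter G,
      (Cfsg.charDegree (χ : G → ℂ)).factorization p = (Nat.card G).factorization p)
    {g : G} (hg : orderOf g = 2) :
    ∃ P : Sylow p G, InvolSylow.Inverts g P := by
  classical
  by_contra hcon
  have hC : (Nat.card (Subgroup.centralizer ({g} : Set G))).factorization p = 0 := by
    refine Nat.factorization_eq_zero_of_not_dvd fun h => ?_
    obtain ⟨w, hw⟩ := exists_prime_orderOf_dvd_card' p h
    rw [← Subgroup.orderOf_coe] at hw
    have := hodd g w hg ⟨1, by rw [hw, pow_one]⟩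
      (Subgroup.mem_centralizer_singleton_iff.mp w.2).symm
    rw [this, orderOf_one] at hw
    exact (Fact.out : p.Prime).ne_one hw.symm
  obtain ⟨P⟩ : Nonempty (Sylow p G) := inferInstance
  obtain ⟨χ, hχ⟩ := Cfsg.Agent.S4740.result p hp2 hG g hg (P : Subgroup G) _ P.card_eq_multiplicity
    (fun t ht z hz hz1 heq => hcon (by
      obtain ⟨c, rfl⟩ := isConj_iff.mp ht
      obtain ⟨k, hk⟩ := P.2 ⟨z, hz⟩
      obtain ⟨i, -, hi⟩ := (Nat.dvd_prime_pow (Fact.out : p.Prime)).mp
        (orderOf_dvd_of_pow_eq_one (congrArg Subtype.val hk))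
      refine InvolSylow.exists_inverted_sylow hp2 hodd hg (z := c⁻¹ * z * c)
        (fun h => hz1 ?_) ⟨i, ?_⟩ ?_
      · calc z = c * (c⁻¹ * z * c) * c⁻¹ := by group
          _ = 1 := by rw [h]; group
      · rw [← hi, show c⁻¹ * z * c = c⁻¹ * z * c⁻¹⁻¹ by rw [inv_inv]]
        exact (SemiconjBy.conj_mk c⁻¹ z).orderOf_eq.symm
      · calc g * (c⁻¹ * z * c) * g⁻¹ = c⁻¹ * (c * g * c⁻¹ * z * (c * g * c⁻¹)⁻¹) * c := by group
          _ = (c⁻¹ * z * c)⁻¹ := by rw [heq]; group)) 0 hC
  rw [Nat.sub_zero] at hχ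
  refine hno ⟨χ, le_antisymm ?_ ?_⟩
  · exact (Nat.factorization_le_iff_dvd (CfsgLib.CharBlocks.charDegree_pos χ.2).ne' Nat.card_pos.ne').mpr
      (CfsgLib.CharBlocks.charDegree_dvd_card χ.2) p
  · exact ((Fact.out : p.Prime).pow_dvd_iff_le_factorization
      (CfsgLib.CharBlocks.charDegree_pos χ.2).ne').mp hχ

theorem sylow_comm {G : Type*} [Group G] [Finite G] {p : ℕ} [Fact p.Prime] {g : G} {P : Sylow p G}
    (h : InvolSylow.Inverts g P) (Q : Sylow p G) : IsMulCommutative ↥(Q : Subgroup G) := by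
  obtain ⟨c, hc⟩ := MulAction.exists_smul_eq G P Q
  refine ⟨⟨fun a b => ?_⟩⟩
  have e : ∀ a : (Q : Subgroup G), c⁻¹ * a * c ∈ (P : Subgroup G) := fun a => by
    have ha : (a : G) ∈ ((c • P : Sylow p G) : Subgroup G) := by rw [hc]; exact a.2
    simpa [Sylow.coe_subgroup_smul, Subgroup.mem_pointwise_smul_iff_inv_smul_mem, MulAut.smul_def]
      using ha
  apply Subtype.ext
  calc (a : G) * b = c * ((c⁻¹ * a * c) * (c⁻¹ * b * c)) * c⁻¹ := by group
    _ = c * ((c⁻¹ * b * c) * (c⁻¹ * a * c)) * c⁻¹ := by rw [h.comm _ (e a) _ (e b)]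
    _ = b * a := by group

/-- Let p be an odd prime and G a finite group of even order containing no element of order 2p. Then either G has an irreducible character of p-defect zero (its degree has the same p-part as the order of G), or every Sylow p-subgroup of G is abelian and all involutions of G are conjugate. -/
theorem result {G : Type*} [Group G] [Finite G] (p : ℕ) [Fact p.Prime] (hp2 : p ≠ 2) (hG : Even (Nat.card G)) (h2p : ∀ g : G, orderOf g ≠ 2 * p) : (∃ χ : Cfsg.IrrCharacter G, (Cfsg.charDegree (χ : G → ℂ)).factorization p = (Nat.card G).factorization p) ∨ ((∀ P : Sylow p G, IsMulCommutative ↥(P : Subgroup G)) ∧ ∀ s t : G, orderOf s = 2 → orderOf t = 2 → IsConj s t) := by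
  classical
  by_cases hno : ∃ χ : Cfsg.IrrCharacter G,
      (Cfsg.charDegree (χ : G → ℂ)).factorization p = (Nat.card G).factorization p
  · exact Or.inl hno
  refine Or.inr ?_
  have hp : p.Prime := Fact.out
  have hodd : ∀ t z : G, orderOf t = 2 → (∃ k, orderOf z = p ^ k) → t * z = z * t → z = 1 := by
    rintro t z ht ⟨k, hk⟩ hcom
    rcases Nat.eq_zero_or_pos k with rfl | hk0
    · exact orderOf_eq_one_iff.mp (by rw [hk, pow_zero])
    exfalso
    have hz' : orderOf (z ^ (orderOf z / p)) = p :=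
      orderOf_pow_orderOf_div (orderOf_pos z).ne' (hk ▸ dvd_pow_self p hk0.ne')
    refine h2p (t * z ^ (orderOf z / p)) ?_
    rw [((show Commute t z from hcom).pow_right _).orderOf_mul_eq_mul_orderOf_of_coprime
      (by rw [ht, hz']; exact (Nat.coprime_primes Nat.prime_two hp).mpr hp2.symm), ht, hz']
  obtain ⟨g, hg⟩ := exists_prime_orderOf_dvd_card' 2 (even_iff_two_dvd.mp hG)
  refine ⟨fun Q => ?_, fun s t hs ht => ?_⟩
  · obtain ⟨P, hP⟩ := exists_inverted hp2 hG hodd hno hg
    exact sylow_comm hP Q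
  · by_cases hpG : p ∣ Nat.card G
    swap
    · exfalso
      refine hno ⟨⟨_, CfsgLib.Char.isIrrCharacter_one⟩, ?_⟩
      rw [CfsgLib.CharBlocks.charDegree_eq (n := 1) (by simp), Nat.factorization_one,
        Nat.factorization_eq_zero_of_not_dvd hpG]
      rfl
    obtain ⟨P, hP⟩ := exists_inverted hp2 hG hodd hno hs
    obtain ⟨Q, hQ⟩ := exists_inverted hp2 hG hodd hno ht
    obtain ⟨c, hc⟩ := MulAction.exists_smul_eq G Q P
    have hP1 : (P : Subgroup G) ≠ ⊥ := fun h => by
      have := P.dvd_card_of_dvd_card hpG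
      rw [h, Subgroup.card_bot] at this
      exact hp.not_dvd_one this
    have ht' : InvolSylow.Inverts (c * t * c⁻¹) (P : Subgroup G) := by
      intro z hz
      have hz' : c⁻¹ * z * c ∈ (Q : Subgroup G) := by
        rw [← hc] at hz
        simpa [Sylow.coe_subgroup_smul, Subgroup.mem_pointwise_smul_iff_inv_smul_mem, MulAut.smul_def]
          using hz
      calc c * t * c⁻¹ * z * (c * t * c⁻¹)⁻¹ = c * (t * (c⁻¹ * z * c) * t⁻¹) * c⁻¹ := by group
        _ = z⁻¹ := by rw [hQ _ hz']; group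
    exact (InvolSylow.isConj_of_inverted hodd hs
      ((SemiconjBy.conj_mk c t).orderOf_eq.symm.trans ht) P.2 hP1 hP ht').trans
      (isConj_iff.mpr ⟨c, rfl⟩).symm

end Cfsg.Agent.S4738
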