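import Cfsg.Statements.S4741
import Cfsg.Agent.Lib.Blocks.Heights
import Cfsg.Agent.Lib.Char.Regular

set_option autoImplicit false
open Cfsg

namespace Cfsg.Agent.S4741

open CfsgLib.Blocks
open scoped ComplexConjugate

section

variable {G : Type*} [Group G] [Fintype G] {p : ℕ} [Fact p.Prime]

theorem sep_coeff {r : ℕ} (x : Fin r → G) (hx : ∀ i j : Fin r, IsConj (x i) (x j) → i = j)
    (hsep : ∀ i j : Fin r, ∀ g h : G, IsConj (x i) g → IsConj (x j) h → ∀ k : ℕ, 0 < k →
      orderOf (g * h⁻¹) ≠ p ^ k) (P : Subgroup G) [Fintype P] (hP : IsPGroup p P) (i j : Fin r) :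
    ∑ u : P, (classSum (x i) * classSum (x j)⁻¹).coeff (u : G) =
      if i = j then ((Subgroup.centralizer ({x i} : Set G)).index : ℂ) else 0 := by
  classical
  have hterm : ∀ (g u : G), (classSum (x i)).coeff g * (classSum (x j)⁻¹).coeff (g⁻¹ * u) =
      if IsConj (x i) g ∧ IsConj (x j) (u⁻¹ * g) then 1 else 0 := by
    intro g u
    have hinv : IsConj (x j)⁻¹ (g⁻¹ * u) ↔ IsConj (x j) (u⁻¹ * g) := by
      constructor <;> intro h <;> obtain ⟨c, hc⟩ := isConj_iff.mp h <;> refine isConj_iff.mpr ⟨c, ?_⟩
      · rw [← inv_inj, conj_inv, mul_inv_rev, inv_inv, hc]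
      · rw [← conj_inv, hc, mul_inv_rev, inv_inv]
    rw [classSum_coeff, classSum_coeff, ite_and]
    by_cases h1 : IsConj (x i) g <;> by_cases h2 : IsConj (x j) (u⁻¹ * g) <;>
      simp only [hinv, h1, h2, if_true, if_false, mul_one, mul_zero, zero_mul]
  simp only [coeff_mul_eq_sum, hterm]
  rw [Finset.sum_eq_single (1 : P)]
  · simp only [OneMemClass.coe_one, inv_one, one_mul]
    by_cases hij : i = j
    · subst hij
      simp only [and_self, if_true]
      have := CfsgLib.Char.card_isConj_mul_card_centralizer (x i)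
      rw [← Subgroup.card_mul_index (Subgroup.centralizer ({x i} : Set G)), mul_comm] at this
      rw [← Finset.sum_filter, Finset.sum_const, nsmul_eq_mul, mul_one, ← Fintype.card_subtype,
        ← Nat.card_eq_fintype_card, Nat.eq_of_mul_eq_mul_left Nat.card_pos this]
    · rw [if_neg hij]
      refine Finset.sum_eq_zero fun g _ => if_neg fun h => hij (hx i j (h.1.trans h.2.symm))
  · intro u _ hu
    refine Finset.sum_eq_zero fun g _ => if_neg fun h => ?_
    obtain ⟨k, hk⟩ := hP u
    obtain ⟨l, -, hl⟩ := (Nat.dvd_prime_pow (Fact.out : p.Prime)).mp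
      (orderOf_dvd_of_pow_eq_one hk)
    rcases Nat.eq_zero_or_pos l with rfl | hl0
    · rw [pow_zero, orderOf_eq_one_iff] at hl; exact hu hl
    refine hsep i j g ((u : G)⁻¹ * g) h.1 h.2 l hl0 ?_
    rw [mul_inv_rev, inv_inv, ← mul_assoc, mul_inv_cancel, one_mul, Subgroup.orderOf_coe, hl]
  · simp

end

/-- Let p be a prime, M a maximal ideal of the algebraic integers containing p, and D a subgroup of the finite group G. Let x₁, …, x_r be pairwise non-conjugate elements of G such that D is a Sylow p-subgroup of the centralizer of each xᵢ, and such that for any conjugates g of some xᵢ and h of some xⱼ the element g h⁻¹ is never a non-identity p-element. Then there are r distinct p-blocks B₁, …, B_r of G, each having D as a defect group, such that for every choice of characters χᵢ ∈ Bᵢ of height zero the determinant of the r × r matrix (χᵢ(xⱼ)) does not lie in the local ideal at M. -/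
theorem result {G : Type*} [Group G] [Finite G] (p : ℕ) [Fact p.Prime] (M : Ideal Cfsg.AlgInt) (hM : Cfsg.IsPModular p M) (D : Subgroup G) {r : ℕ} (x : Fin r → G) (hx : ∀ i j : Fin r, IsConj (x i) (x j) → i = j) (hD : ∀ i : Fin r, ∃ S : Sylow p ↥(Subgroup.centralizer ({x i} : Set G)), (S : Subgroup ↥(Subgroup.centralizer ({x i} : Set G))).map (Subgroup.centralizer ({x i} : Set G)).subtype = D) (hsep : ∀ i j : Fin r, ∀ g h : G, IsConj (x i) g → IsConj (x j) h → ∀ k : ℕ, 0 < k → orderOf (g * h⁻¹) ≠ p ^ k) : ∃ B : Fin r → Set (Cfsg.IrrCharacter G), Function.Injective B ∧ (∀ i : Fin r, Cfsg.IsPBlock M (B i) ∧ Cfsg.IsDefectGroup p M (B i) D) ∧ ∀ χ : Fin r → Cfsg.IrrCharacter G, (∀ i : Fin r, χ i ∈ B i ∧ Cfsg.blockHeight p (B i) (χ i : G → ℂ) = 0) → ¬ Cfsg.MemLocalIdeal M (Matrix.det (Matrix.of fun i j : Fin r => (χ i : G → ℂ) (x j))) := by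
  classical
  have := Fintype.ofFinite G
  have hp : p.Prime := Fact.out
  have := hM.2.1
  let _ : Field (Res M) := Ideal.Quotient.field M
  set a := (Nat.card G).factorization p with ha
  rcases Nat.eq_zero_or_pos r with rfl | hr
  · refine ⟨fun i => i.elim0, fun i => i.elim0, fun i => i.elim0, fun χ _ h => ?_⟩
    rw [Matrix.det_isEmpty] at h
    exact locRing_not_ideal_one M h
  set d := (Nat.card (Subgroup.centralizer ({x ⟨0, hr⟩} : Set G))).factorization p with hd
  have hDc : ∀ i, IsClassDefect p (x i) D := fun i => by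
    obtain ⟨S, hS⟩ := hD i
    exact ⟨S, hS.symm⟩
  have hdi : ∀ i, (Nat.card (Subgroup.centralizer ({x i} : Set G))).factorization p = d := fun i =>
    Nat.pow_right_injective hp.two_le ((hDc i).card.symm.trans (hDc ⟨0, hr⟩).card)
  have hKv : ∀ i, (Subgroup.centralizer ({x i} : Set G)).index.factorization p = a - d := fun i => by
    have := index_centralizer_factorization p (x i)
    rw [hdi i] at this
    omega
  have hcinv : ∀ g : G, Subgroup.centralizer ({g⁻¹} : Set G) = Subgroup.centralizer ({g} : Set G) := by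
    intro g
    ext y
    simp only [Subgroup.mem_centralizer_iff, Set.mem_singleton_iff, forall_eq]
    exact ⟨fun h => by simpa using (Commute.inv_left (show Commute g⁻¹ y from h)).eq,
      fun h => (Commute.inv_left (show Commute g y from h)).eq⟩
  let P : Sylow p G := Classical.arbitrary _
  have := Fintype.ofFinite (P : Subgroup G)
  choose m hm using fun χ : Cfsg.IrrCharacter G => CfsgLib.Char.classInner_char_nat
    (CfsgLib.Char.isCharacter_one (G := (P : Subgroup G)))
    (CfsgLib.Char.isCharacter_res (P : Subgroup G) (CfsgLib.Char.isCharacter_of_isIrr χ.2))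
  have hsumP : ∀ χ : Cfsg.IrrCharacter G,
      ∑ u : (P : Subgroup G), conj ((χ : G → ℂ) u) = (Nat.card (P : Subgroup G) : ℂ) * m χ := by
    intro χ
    rw [← hm χ, CfsgLib.Char.card_mul_classInner]
    simp
  set g' := Nat.card G / p ^ a with hg'
  have hg'0 : ¬ p ∣ g' := Nat.not_dvd_ordCompl hp Nat.card_pos.ne'
  have hg'ne : g' ≠ 0 := fun h => hg'0 (by rw [h]; exact dvd_zero p)
  have hG : Nat.card G = Nat.card (P : Subgroup G) * g' := by
    rw [P.card_eq_multiplicity, hg', ha, Nat.ordProj_mul_ordCompl_eq_self]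
  set t := p ^ (a - d) with ht
  have ht0 : t ≠ 0 := pow_ne_zero _ hp.ne_zero
  have htv : t.factorization p = a - d := by
    rw [ht, hp.factorization_pow, Finsupp.single_eq_same]
  have hKt : ∀ i, ((Subgroup.centralizer ({x i} : Set G)).index : ℂ) / (t : ℂ) ∈ locRing M := fun i =>
    frac_mem_locRing hM ht0 (.inr (by rw [htv, hKv]))
  -- the key congruence
  let e : Cfsg.IrrCharacter G → Res M := fun χ =>
    if h : (charDegree (χ : G → ℂ)).factorization p = a - d then
      res M ⟨_, frac_mem_locRing hM (n := charDegree (χ : G → ℂ) * m χ) (m := t * g')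
        (Nat.mul_ne_zero ht0 hg'ne)
        (by
          rcases Nat.eq_zero_or_pos (m χ) with h0 | h0
          · exact .inl (by rw [h0, mul_zero])
          refine .inr ?_
          rw [Nat.factorization_mul ht0 hg'ne,
            Nat.factorization_mul (charDegree_ne_zero χ) h0.ne', Finsupp.add_apply,
            Finsupp.add_apply, htv, Nat.factorization_eq_zero_of_not_dvd hg'0]
          omega)⟩
    else 0
  let S : Set (Cfsg.IrrCharacter G) := {χ | (charDegree (χ : G → ℂ)).factorization p = a - d}
  have key : ∀ i j, (if i = j then res M ⟨_, hKt i⟩ else 0) =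
      ∑ χ : Cfsg.IrrCharacter G,
        bomega χ (zclass M (x i)) * bomega χ (zclass M (x j)⁻¹) * e χ := by
    intro i j
    have hsum := sep_coeff x hx hsep (P : Subgroup G) P.2 i j
    have hc : classSum (x i) * classSum (x j)⁻¹ ∈ Subsemiring.center (CA G) :=
      Subsemiring.mul_mem _ (classSum_mem_center _) (classSum_mem_center _)
    simp only [coeff_eq_sum_omega hc, ← Finset.mul_sum] at hsum
    rw [Finset.sum_comm] at hsum
    simp only [omega_mul (Subtype.prop _) (classSum_mem_center (x i)),
      omega_classSum (CfsgLib.Char.isClassFunction_of_isIrr (Subtype.prop _)), ← Finset.mul_sum,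
      hsumP] at hsum
    -- termwise
    have hmem : ∀ χ : Cfsg.IrrCharacter G, ∃ T : locRing M,
        (T : ℂ) = centralChar (χ : G → ℂ) (x i) * centralChar (χ : G → ℂ) (x j)⁻¹ *
          (((charDegree (χ : G → ℂ) * m χ : ℕ) : ℂ) / ((t * g' : ℕ) : ℂ)) ∧
        res M T = bomega χ (zclass M (x i)) * bomega χ (zclass M (x j)⁻¹) * e χ := by
      intro χ
      rcases lt_trichotomy ((charDegree (χ : G → ℂ)).factorization p) (a - d) with hlt | heq | hgt
      · -- small degree
        have hA : ((Subgroup.centralizer ({x i} : Set G)).index : ℂ) / (t : ℂ) ∈ locRing M := hKt i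
        have hB : ((Subgroup.centralizer ({x j} : Set G)).index : ℂ) / (charDegree (χ : G → ℂ) : ℂ) ∈
            locRing M := frac_mem_locRing hM (charDegree_ne_zero χ) (.inr (by rw [hKv]; omega))
        have hC : (χ : G → ℂ) (x i) * (χ : G → ℂ) (x j)⁻¹ * (m χ : ℂ) / (g' : ℂ) ∈ locRing M := by
          rw [div_eq_mul_inv]
          refine Subring.mul_mem _ (Subring.mul_mem _ (Subring.mul_mem _
            (algInt_le_locRing M (CfsgLib.Char.char_isIntegral (CfsgLib.Char.isCharacter_of_isIrr χ.2) _))
            (algInt_le_locRing M (CfsgLib.Char.char_isIntegral (CfsgLib.Char.isCharacter_of_isIrr χ.2) _)))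
            (natCast_mem _ _)) ?_
          exact ⟨1, (g' : AlgInt), fun h => hg'0 ((natCast_mem_iff hM g').mp h), by simp⟩
        refine ⟨⟨_, hA⟩ * ⟨_, hB⟩ * ⟨_, hC⟩, ?_, ?_⟩
        · push_cast
          rw [centralChar, centralChar, hcinv,
            CfsgLib.Blocks.charDegree_eq (CfsgLib.Char.isCharacter_of_isIrr χ.2)]
          have : (charDegree (χ : G → ℂ) : ℂ) ≠ 0 := degree_pos χ
          field_simp
        · rw [map_mul, map_mul, (res_frac_eq_zero_iff hM Subgroup.index_ne_zero_of_finite
            (charDegree_ne_zero χ) hB).mpr (by rw [hKv]; omega), mul_zero, zero_mul]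
          simp only [e, dif_neg hlt.ne, mul_zero]
      · have hT := frac_mem_locRing hM (n := charDegree (χ : G → ℂ) * m χ) (m := t * g')
          (Nat.mul_ne_zero ht0 hg'ne) (by
          rcases Nat.eq_zero_or_pos (m χ) with h0 | h0
          · exact .inl (by rw [h0, mul_zero])
          refine .inr ?_
          rw [Nat.factorization_mul ht0 hg'ne,
            Nat.factorization_mul (charDegree_ne_zero χ) h0.ne', Finsupp.add_apply,
            Finsupp.add_apply, htv, Nat.factorization_eq_zero_of_not_dvd hg'0]
          omega)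
        refine ⟨zomega χ (zclass M (x i)) * zomega χ (zclass M (x j)⁻¹) * ⟨_, hT⟩, ?_, ?_⟩
        · push_cast
          simp only [coe_zomega_zclass]
        · simp only [map_mul, e, dif_pos heq, bomega_apply]
      · have hA : (charDegree (χ : G → ℂ) : ℂ) / (t : ℂ) ∈ locRing M :=
          frac_mem_locRing hM ht0 (.inr (by rw [htv]; omega))
        have hB : (m χ : ℂ) / (g' : ℂ) ∈ locRing M :=
          frac_mem_locRing hM hg'ne
            (.inr (by rw [Nat.factorization_eq_zero_of_not_dvd hg'0]; omega))
        refine ⟨zomega χ (zclass M (x i)) * zomega χ (zclass M (x j)⁻¹) * (⟨_, hA⟩ * ⟨_, hB⟩), ?_, ?_⟩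
        · push_cast
          simp only [coe_zomega_zclass]
          rw [div_mul_div_comm]
        · rw [map_mul, map_mul (res M) (⟨_, hA⟩ : locRing M) ⟨_, hB⟩, (res_frac_eq_zero_iff hM (charDegree_ne_zero χ) ht0 hA).mpr
            (by rw [htv]; omega), zero_mul, mul_zero]
          simp only [e, dif_neg hgt.ne', mul_zero]
    choose T hT hTr using hmem
    rw [← Finset.sum_congr rfl fun χ _ => hTr χ, ← map_sum]
    have hval : (((∑ χ, T χ : locRing M)) : ℂ) =
        (if i = j then ((Subgroup.centralizer ({x i} : Set G)).index : ℂ) else 0) / (t : ℂ) := by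
      rw [AddSubmonoidClass.coe_finsetSum, Finset.sum_congr rfl fun χ _ => hT χ, ← hsum, Finset.mul_sum,
        Finset.sum_div]
      refine Finset.sum_congr rfl fun χ _ => ?_
      rw [CfsgLib.Blocks.charDegree_eq (CfsgLib.Char.isCharacter_of_isIrr χ.2)]
      have : (Nat.card (P : Subgroup G) : ℂ) ≠ 0 := by exact_mod_cast Nat.card_pos.ne'
      have : (g' : ℂ) ≠ 0 := Nat.cast_ne_zero.mpr hg'ne
      have : (t : ℂ) ≠ 0 := Nat.cast_ne_zero.mpr ht0
      rw [hG]
      push_cast
      field_simp
    by_cases hij : i = j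
    · rw [if_pos hij]
      exact congrArg (res M) (Subtype.ext (by rw [hval, if_pos hij]))
    · rw [if_neg hij, ← map_zero (res M)]
      exact congrArg (res M) (Subtype.ext (by rw [hval, if_neg hij, zero_div]; rfl))
  -- the reduced central characters span
  let w : Cfsg.IrrCharacter G → (Fin r → Res M) := fun χ i => bomega χ (zclass M (x i))
  have hspan : Submodule.span (Res M) (w '' S) = ⊤ := by
    rw [eq_top_iff, ← (Pi.basisFun (Res M) (Fin r)).span_eq, Submodule.span_le]
    rintro _ ⟨j, rfl⟩
    have hne : res M ⟨_, hKt j⟩ ≠ 0 := fun h => by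
      rw [res_frac_eq_zero_iff hM Subgroup.index_ne_zero_of_finite ht0, htv, hKv] at h
      exact lt_irrefl _ h
    have he : (Pi.basisFun (Res M) (Fin r)) j = (res M ⟨_, hKt j⟩)⁻¹ •
        ∑ χ : Cfsg.IrrCharacter G, (bomega χ (zclass M (x j)⁻¹) * e χ) • w χ := by
      funext i
      have hk := key i j
      simp only [Pi.basisFun_apply, Pi.smul_apply, Finset.sum_apply, smul_eq_mul, w]
      rw [show (∑ χ : Cfsg.IrrCharacter G, bomega χ (zclass M (x j)⁻¹) * e χ * bomega χ (zclass M (x i)))
        = if i = j then res M ⟨_, hKt i⟩ else 0 by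
          rw [hk]; exact Finset.sum_congr rfl fun χ _ => by ring]
      by_cases hij : i = j
      · subst hij
        rw [Pi.single_eq_same, if_pos rfl, inv_mul_cancel₀ hne]
      · rw [Pi.single_eq_of_ne hij, if_neg hij, mul_zero]
    rw [SetLike.mem_coe, he]
    refine Submodule.smul_mem _ _ (Submodule.sum_mem _ fun χ _ => ?_)
    by_cases hχ : χ ∈ S
    · exact Submodule.smul_mem _ _ (Submodule.subset_span ⟨χ, hχ, rfl⟩)
    · have : e χ = 0 := dif_neg hχ
      rw [this, mul_zero, zero_smul]
      exact Submodule.zero_mem _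
  have hfr : Module.finrank (Res M) (Submodule.span (Res M) (w '' S)) = r := by
    rw [hspan, finrank_top, Module.finrank_pi, Fintype.card_fin]
  obtain ⟨f, hfS, -, hfli⟩ := Submodule.exists_fun_fin_finrank_span_eq (Res M) (w '' S)
  let v : Fin r → (Fin r → Res M) := f ∘ Fin.cast hfr.symm
  have hvli : LinearIndependent (Res M) v := hfli.comp _ (Fin.cast_injective _)
  choose η hηS hη using fun k => hfS (Fin.cast hfr.symm k)
  have hvη : ∀ k, v k = w (η k) := fun k => (hη k).symm
  have hblk : ∀ k, IsPBlock M (blockOf M (η k : G → ℂ)) := fun k => isPBlock_blockOf _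
  have hdef : ∀ k, blockDefect p (blockOf M (η k : G → ℂ)) = d ∧
      IsDefectGroup p M (blockOf M (η k : G → ℂ)) D := by
    intro k
    obtain ⟨i, hi⟩ : ∃ i, w (η k) i ≠ 0 := by
      by_contra h
      push Not at h
      exact hvli.ne_zero k (by rw [hvη]; exact funext h)
    have hle := blockDefect_le_of_bomega_ne_zero hM (hblk k) (mem_blockOf_self (η k)) (g := x i) hi
    rw [hdi i] at hle
    have hge : d ≤ blockDefect p (blockOf M (η k : G → ℂ)) := by
      have h1 := degree_height hM (hblk k) (mem_blockOf_self (η k)) (p := p)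
      have h2 : (charDegree (η k : G → ℂ)).factorization p = a - d := hηS k
      have h3 := index_centralizer_factorization p (x i)
      rw [hdi i] at h3
      omega
    refine ⟨le_antisymm hle hge, ?_⟩
    obtain ⟨E, hE⟩ := exists_isDefectGroup (p := p) (hblk k)
    obtain ⟨c, hc⟩ := defect_le_of_bomega_ne_zero hM (hblk k) hE (mem_blockOf_self (η k)) hi (hDc i)
    have heq : cj c E = D := cj_eq_of_le hc (by
      rw [card_defectGroup hM (hblk k) hE, (hDc i).card, hdi i]
      exact Nat.pow_le_pow_right hp.pos hge)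
    exact heq ▸ IsDefectGroup.conj (hblk k) hE c
  refine ⟨fun k => blockOf M (η k : G → ℂ), ?_, fun k => ⟨hblk k, (hdef k).2⟩, ?_⟩
  · intro k l hkl
    refine hvli.injective ?_
    rw [hvη, hvη]
    have hmem : η l ∈ blockOf M (η k : G → ℂ) := by
      simp only at hkl
      rw [hkl]
      exact mem_blockOf_self _
    funext i
    exact congrArg (fun φ => φ (zclass M (x i))) ((mem_blockOf_iff (η k) (η l)).mp hmem)
  · intro χ hχ hdet
    let A : Matrix (Fin r) (Fin r) (locRing M) := Matrix.of fun i j =>
      cvalR M (CfsgLib.Char.isCharacter_of_isIrr (χ i).2) (x j)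
    have hAdet : ((A.det : locRing M) : ℂ) =
        Matrix.det (Matrix.of fun i j : Fin r => (χ i : G → ℂ) (x j)) := by
      show (locRing M).subtype A.det = _
      rw [RingHom.map_det]
      congr 1
    rw [← hAdet, ← res_eq_zero_iff, RingHom.map_det] at hdet
    set B0 := blockOf M (η ⟨0, hr⟩ : G → ℂ)
    have htau : ∀ j, tauClass M p B0 (x j) ≠ 0 := by
      intro j
      have hb : blockDefect p B0 = d := (hdef _).1
      rw [tauClass, dif_pos (tau_frac_mem hM (by rw [hb, hdi j]))]
      intro h
      rw [res_frac_eq_zero_iff hM (pow_ne_zero _ hp.ne_zero) Subgroup.index_ne_zero_of_finite,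
        hp.factorization_pow, Finsupp.single_eq_same, hKv, hb, ← ha] at h
      exact lt_irrefl _ h
    have hmat : (res M).mapMatrix A = Matrix.of fun i j =>
        kappa M p (blockOf M (η i : G → ℂ)) (χ i) * (tauClass M p B0 (x j) * w (η i) j) := by
      ext i j
      have hb : blockDefect p (blockOf M (η i : G → ℂ)) = d := (hdef i).1
      have hcv := cval_eq_kappa_mul hM (hblk i) (hχ i).1 (g := x j) (by rw [hb, hdi j])
      have htt : tauClass M p (blockOf M (η i : G → ℂ)) (x j) = tauClass M p B0 (x j) := by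
        simp only [tauClass, hb, show blockDefect p B0 = d from (hdef _).1]
      rw [htt, bomega_eq_of_mem (hblk i) (hχ i).1 (mem_blockOf_self (η i))] at hcv
      exact hcv
    rw [hmat] at hdet
    have hprod : (Matrix.of fun i j => kappa M p (blockOf M (η i : G → ℂ)) (χ i) *
          (tauClass M p B0 (x j) * w (η i) j)) =
        Matrix.diagonal (fun i => kappa M p (blockOf M (η i : G → ℂ)) (χ i)) *
          (Matrix.of fun i j => w (η i) j) * Matrix.diagonal (fun j => tauClass M p B0 (x j)) := by
      ext i j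
      simp [Matrix.mul_diagonal, Matrix.diagonal_mul]
      ring
    rw [hprod, Matrix.det_mul, Matrix.det_mul, Matrix.det_diagonal, Matrix.det_diagonal] at hdet
    rcases mul_eq_zero.mp hdet with h | h
    · rcases mul_eq_zero.mp h with h' | h'
      · obtain ⟨i, -, hi⟩ := Finset.prod_eq_zero_iff.mp h'
        exact (kappa_ne_zero_iff hM (hblk i) (hχ i).1).mpr (hχ i).2 hi
      · have hu : IsUnit (Matrix.of fun i j => w (η i) j) := by
          rw [← Matrix.linearIndependent_rows_iff_isUnit]
          have hrow : (Matrix.of fun i j => w (η i) j).row = v := funext fun k => (hvη k).symm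
          rw [hrow]
          exact hvli
        exact ((Matrix.isUnit_iff_isUnit_det _).mp hu).ne_zero h'
    · obtain ⟨j, -, hj⟩ := Finset.prod_eq_zero_iff.mp h
      exact htau j hj

end Cfsg.Agent.S4741
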