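import Cfsg.Statements.S4742
import Mathlib
import Cfsg.Agent.Lib.CharBlocks.RankTrick

set_option autoImplicit false
open Cfsg

namespace Cfsg.Agent.S4742

/-- Let p ≠ q be primes dividing the order of the finite group G, and suppose the centralizer of every non-identity p-element of G has order prime to q. Then either G has an irreducible character of p-defect zero, or for every non-identity q-element z of G there are conjugates g, h of z such that g h⁻¹ is a non-identity p-element. -/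
theorem result {G : Type*} [Group G] [Finite G] (p q : ℕ) [Fact p.Prime] [Fact q.Prime] (hppq : p ≠ q) (hpG : p ∣ Nat.card G) (hqG : q ∣ Nat.card G) (hC : ∀ g : G, g ≠ 1 → (∃ k : ℕ, orderOf g = p ^ k) → ¬ q ∣ Nat.card ↥(Subgroup.centralizer ({g} : Set G))) : (∃ χ : Cfsg.IrrCharacter G, (Cfsg.charDegree (χ : G → ℂ)).factorization p = (Nat.card G).factorization p) ∨ ∀ z : G, z ≠ 1 → (∃ k : ℕ, orderOf z = q ^ k) → ∃ g h : G, IsConj z g ∧ IsConj z h ∧ g * h⁻¹ ≠ 1 ∧ ∃ k : ℕ, orderOf (g * h⁻¹) = p ^ k := by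
  classical
  have := Fintype.ofFinite G
  by_contra hcon
  push Not at hcon
  obtain ⟨hno, z, hz1, ⟨k, hk⟩, hpair⟩ := hcon
  have hC' : ¬ p ∣ Nat.card (Subgroup.centralizer ({z} : Set G)) := by
    intro hd
    obtain ⟨w, hw⟩ := exists_prime_orderOf_dvd_card' p hd
    rw [← Subgroup.orderOf_coe] at hw
    have hw1 : (w : G) ≠ 1 := fun e => (Fact.out : p.Prime).ne_one (by rw [← hw, e, orderOf_one])
    refine hC _ hw1 ⟨1, by rw [hw, pow_one]⟩ ?_
    have hk1 : q ∣ orderOf z := by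
      rcases Nat.eq_zero_or_pos k with rfl | hk0
      · rw [pow_zero, orderOf_eq_one_iff] at hk; exact absurd hk hz1
      · rw [hk]; exact dvd_pow_self q hk0.ne'
    have hzC : z ∈ Subgroup.centralizer ({(w : G)} : Set G) :=
      Subgroup.mem_centralizer_singleton_iff.mpr
        (Subgroup.mem_centralizer_singleton_iff.mp w.2).symm
    refine hk1.trans ?_
    have := orderOf_dvd_natCard (⟨z, hzC⟩ : Subgroup.centralizer ({(w : G)} : Set G))
    rwa [← Subgroup.orderOf_coe] at this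
  have hf : ∀ w : G, w ≠ 1 → (∃ j : ℕ, orderOf w = p ^ j) → ∀ g : G,
      ¬ IsConj (g * z * g⁻¹ * z⁻¹) w := by
    rintro w hw1 ⟨j, hj⟩ g hgw
    obtain ⟨u, hu⟩ := isConj_iff.mp hgw
    have e : (u * g * z * (u * g)⁻¹) * (u * z * u⁻¹)⁻¹ = w := by rw [← hu]; group
    exact hpair _ _ (isConj_iff.mpr ⟨u * g, rfl⟩) (isConj_iff.mpr ⟨u, rfl⟩) (e ▸ hw1) j (e ▸ hj)
  obtain ⟨χ, hχ⟩ := CfsgLib.CharBlocks.exists_defectZero_degree (p := p) z z⁻¹ (IsConj.refl _) hC' hf
  exact hno χ hχ

end Cfsg.Agent.S4742
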