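import Cfsg.Statements.S4743
import Mathlib
import Cfsg.Agent.S4742

set_option autoImplicit false
open Cfsg

namespace Cfsg.Agent.S4743

theorem exists_normal {G : Type*} [Group G] [Finite G] {p q : ℕ} (hp : p.Prime) (hq : q.Prime)
    (hpq : p ≠ q) (hpG : p ∣ Nat.card G) (hs : Cfsg.IsPSolvable p G) :
    ∃ V : Subgroup G, V.Normal ∧ ((p ∣ Nat.card V ∧ ¬ q ∣ Nat.card V) ∨ (q ∣ Nat.card V ∧ ¬ p ∣ Nat.card V)) := by
  obtain ⟨n, H, h0, hl, hmono, hnorm, hstep⟩ := hs
  by_contra hcon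
  push Not at hcon
  have key : ∀ i : Fin (n + 1), ¬ p ∣ Nat.card (H i) ∧ ¬ q ∣ Nat.card (H i) := by
    intro i
    induction i using Fin.induction with
    | zero =>
      rw [h0, Subgroup.card_bot]
      exact ⟨fun h => hp.ne_one (Nat.dvd_one.mp h), fun h => hq.ne_one (Nat.dvd_one.mp h)⟩
    | succ i ih =>
      have hle : H i.castSucc ≤ H i.succ := hmono (le_of_lt Fin.castSucc_lt_succ)
      have hcard := Subgroup.relIndex_mul_relIndex ⊥ (H i.castSucc) (H i.succ) bot_le hle
      rw [Subgroup.relIndex_bot_left, Subgroup.relIndex_bot_left] at hcard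
      have h2 := hcon (H i.succ) (hnorm _)
      rcases hstep i with ⟨m, hm⟩ | hco
      · have hq' : ¬ q ∣ Nat.card (H i.succ) := by
          rw [← hcard, hq.dvd_mul, hm]
          exact fun h => h.elim ih.2 fun h => hpq ((Nat.prime_dvd_prime_iff_eq hq hp).mp (hq.dvd_of_dvd_pow h)).symm
        exact ⟨fun h => hq' (h2.1 h), hq'⟩
      · have hp' : ¬ p ∣ Nat.card (H i.succ) := by
          rw [← hcard, hp.dvd_mul]
          exact fun h => h.elim ih.1 fun h => (Nat.Prime.coprime_iff_not_dvd hp).mp hco.symm h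
        exact ⟨hp', fun h => hp' (h2.2 h)⟩
  have := (key (Fin.last n)).1
  rw [hl, Subgroup.card_top] at this
  exact this hpG

/-- Let p ≠ q be primes dividing the order of the finite group G, suppose the centralizer of every non-identity p-element has order prime to q, and suppose G is p-solvable or q-solvable. Then G has an irreducible character of p-defect zero or an irreducible character of q-defect zero. -/
theorem result {G : Type*} [Group G] [Finite G] (p q : ℕ) [Fact p.Prime] [Fact q.Prime] (hppq : p ≠ q) (hpG : p ∣ Nat.card G) (hqG : q ∣ Nat.card G) (hC : ∀ g : G, g ≠ 1 → (∃ k : ℕ, orderOf g = p ^ k) → ¬ q ∣ Nat.card ↥(Subgroup.centralizer ({g} : Set G))) (hsolv : Cfsg.IsPSolvable p G ∨ Cfsg.IsPSolvable q G) : (∃ χ : Cfsg.IrrCharacter G, (Cfsg.charDegree (χ : G → ℂ)).factorization p = (Nat.card G).factorization p) ∨ (∃ χ : Cfsg.IrrCharacter G, (Cfsg.charDegree (χ : G → ℂ)).factorization q = (Nat.card G).factorization q) := by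
  classical
  by_contra hcon
  push Not at hcon
  obtain ⟨hnp, hnq⟩ := hcon
  have h1 := (S4742.result p q hppq hpG hqG hC).resolve_left (fun ⟨χ, hχ⟩ => hnp χ hχ)
  have hC' : ∀ g : G, g ≠ 1 → (∃ k : ℕ, orderOf g = q ^ k) →
      ¬ p ∣ Nat.card ↥(Subgroup.centralizer ({g} : Set G)) := by
    rintro g hg ⟨k, hk⟩ hd
    obtain ⟨w, hw⟩ := exists_prime_orderOf_dvd_card' p hd
    rw [← Subgroup.orderOf_coe] at hw
    have hw1 : (w : G) ≠ 1 := fun e => (Fact.out : p.Prime).ne_one (by rw [← hw, e, orderOf_one])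
    refine hC _ hw1 ⟨1, by rw [hw, pow_one]⟩ ?_
    have hk1 : q ∣ orderOf g := by
      rcases Nat.eq_zero_or_pos k with rfl | hk0
      · rw [pow_zero, orderOf_eq_one_iff] at hk; exact absurd hk hg
      · rw [hk]; exact dvd_pow_self q hk0.ne'
    have hgC : g ∈ Subgroup.centralizer ({(w : G)} : Set G) :=
      Subgroup.mem_centralizer_singleton_iff.mpr
        (Subgroup.mem_centralizer_singleton_iff.mp w.2).symm
    refine hk1.trans ?_
    have := orderOf_dvd_natCard (⟨g, hgC⟩ : Subgroup.centralizer ({(w : G)} : Set G))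
    rwa [← Subgroup.orderOf_coe] at this
  have h2 := (S4742.result q p hppq.symm hqG hpG hC').resolve_left (fun ⟨χ, hχ⟩ => hnq χ hχ)
  have key : ∀ (r s : ℕ) [Fact r.Prime] [Fact s.Prime],
      (∀ z : G, z ≠ 1 → (∃ k : ℕ, orderOf z = r ^ k) → ∃ g h : G, IsConj z g ∧ IsConj z h ∧
        g * h⁻¹ ≠ 1 ∧ ∃ k : ℕ, orderOf (g * h⁻¹) = s ^ k) →
      ∀ V : Subgroup G, V.Normal → r ∣ Nat.card V → ¬ s ∣ Nat.card V → False := by
    intro r s _ _ hpair V hVn hr hs
    obtain ⟨z, hz⟩ := exists_prime_orderOf_dvd_card' (G := V) r hr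
    rw [← Subgroup.orderOf_coe] at hz
    obtain ⟨g, h, hg, hh, hne, k, hk⟩ := hpair z
      (fun e => (Fact.out : r.Prime).ne_one (by rw [← hz, e, orderOf_one])) ⟨1, by rw [hz, pow_one]⟩
    have hmem : g * h⁻¹ ∈ V := by
      obtain ⟨a, rfl⟩ := isConj_iff.mp hg
      obtain ⟨b, rfl⟩ := isConj_iff.mp hh
      exact mul_mem (hVn.conj_mem _ z.2 a) (inv_mem (hVn.conj_mem _ z.2 b))
    rcases Nat.eq_zero_or_pos k with rfl | hk0
    · rw [pow_zero, orderOf_eq_one_iff] at hk; exact hne hk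
    · refine hs ((dvd_pow_self s hk0.ne').trans ?_)
      rw [← hk, ← Subgroup.orderOf_mk (g * h⁻¹) hmem]
      exact orderOf_dvd_natCard _
  rcases hsolv with hs | hs
  · obtain ⟨V, hV, h | h⟩ := exists_normal Fact.out Fact.out hppq hpG hs
    · exact key p q h2 V hV h.1 h.2
    · exact key q p h1 V hV h.1 h.2
  · obtain ⟨V, hV, h | h⟩ := exists_normal Fact.out Fact.out hppq.symm hqG hs
    · exact key q p h1 V hV h.1 h.2
    · exact key p q h2 V hV h.1 h.2

end Cfsg.Agent.S4743
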