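import Cfsg.Statements.S4746
import Cfsg.Agent.S4744
import Cfsg.Agent.Lib.CharBlocks.RankTrick

set_option autoImplicit false
open Cfsg

namespace Cfsg.Agent.S4746

/-- Let p be an odd prime and G a finite group of even order divisible by p in which the centralizer of every non-identity p-element has odd order. Then G has an irreducible character of p-defect zero or an irreducible character of even degree. -/
theorem result {G : Type*} [Group G] [Finite G] (p : ℕ) [Fact p.Prime] (hp2 : p ≠ 2) (hpG : p ∣ Nat.card G) (h2G : 2 ∣ Nat.card G) (hC : ∀ g : G, g ≠ 1 → (∃ k : ℕ, orderOf g = p ^ k) → Odd (Nat.card ↥(Subgroup.centralizer ({g} : Set G)))) : (∃ χ : Cfsg.IrrCharacter G, (Cfsg.charDegree (χ : G → ℂ)).factorization p = (Nat.card G).factorization p) ∨ ∃ χ : Cfsg.IrrCharacter G, Even (Cfsg.charDegree (χ : G → ℂ)) := by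
  classical
  have := Fintype.ofFinite G
  rcases Cfsg.Agent.S4744.result p hp2 hpG h2G hC with h | h
  · exact Or.inl h
  refine Or.inr ?_
  by_contra hev
  push Not at hev
  obtain ⟨P⟩ : Nonempty (Sylow p G) := inferInstance
  obtain ⟨hN, hPc⟩ := h P
  obtain ⟨⟨v, hvN⟩, hv⟩ := exists_prime_orderOf_dvd_card' 2 (even_iff_two_dvd.mp hN)
  rw [Subgroup.orderOf_mk] at hv
  have hvv := CfsgLib.CharBlocks.InvolSylow.invol_mul_self hv
  -- `v` inverts some nontrivial element `z` of `P`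
  obtain ⟨z, hz1, hzp, hvz⟩ : ∃ z : G, z ≠ 1 ∧ (∃ k, orderOf z = p ^ k) ∧ v * z * v⁻¹ = z⁻¹ := by
    have hP1 : (P : Subgroup G) ≠ ⊥ := fun h => by
      have := P.dvd_card_of_dvd_card hpG
      rw [h, Subgroup.card_bot] at this
      exact (Fact.out : p.Prime).not_dvd_one this
    obtain ⟨y, hy, hy1⟩ := (Subgroup.bot_or_exists_ne_one _).resolve_left hP1
    have hy' : v * y * v⁻¹ ∈ (P : Subgroup G) := (Subgroup.mem_normalizer_iff.mp hvN y).mp hy
    have hord : ∀ w ∈ (P : Subgroup G), ∃ k, orderOf w = p ^ k := fun w hw => by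
      obtain ⟨k, hk⟩ := IsPGroup.iff_orderOf.mp P.isPGroup' ⟨w, hw⟩
      exact ⟨k, by rw [← hk, Subgroup.orderOf_mk]⟩
    refine ⟨y * (v * y * v⁻¹)⁻¹, fun h1 => ?_, hord _ (Subgroup.mul_mem _ hy (Subgroup.inv_mem _ hy')), ?_⟩
    · rw [mul_inv_eq_one] at h1
      have hcom : v * y = y * v := by
        calc v * y = v * y * v⁻¹ * v := by group
          _ = y * v := by rw [← h1]
      have h2 := orderOf_dvd_natCard (⟨v, Subgroup.mem_centralizer_singleton_iff.mpr hcom⟩ :
        Subgroup.centralizer ({y} : Set G))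
      rw [Subgroup.orderOf_mk, hv] at h2
      exact Nat.not_even_iff_odd.mpr (hC y hy1 (hord y hy)) (even_iff_two_dvd.mpr h2)
    · have hcomm : y * (v * y * v⁻¹) = v * y * v⁻¹ * y :=
        congrArg Subtype.val (hPc.is_comm.comm ⟨y, hy⟩ ⟨_, hy'⟩)
      calc v * (y * (v * y * v⁻¹)⁻¹) * v⁻¹ = v * y * v⁻¹ * ((v * v) * y * (v * v)⁻¹)⁻¹ := by group
        _ = v * y * v⁻¹ * y⁻¹ := by rw [hvv]; group
        _ = (y * (v * y * v⁻¹)⁻¹)⁻¹ := by group
  have hnconj : ¬ IsConj v z := fun h => by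
    obtain ⟨c, rfl⟩ := isConj_iff.mp h
    obtain ⟨k, hk⟩ := hzp
    rw [(SemiconjBy.conj_mk c v).orderOf_eq.symm, hv] at hk
    rcases Nat.eq_zero_or_pos k with rfl | hk0
    · norm_num at hk
    · exact hp2 ((Nat.prime_dvd_prime_iff_eq Fact.out Nat.prime_two).mp (hk ▸ dvd_pow_self p hk0.ne'))
  have hreal : ∀ χ : Cfsg.IrrCharacter G, starRingEnd ℂ ((χ : G → ℂ) z) = (χ : G → ℂ) z := fun χ => by
    rw [← CfsgLib.Char.char_inv (CfsgLib.Char.isCharacter_of_isIrr χ.2), ← hvz]
    exact CfsgLib.Char.isClassFunction_of_isIrr χ.2 z v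
  have heq : ∀ χ : Cfsg.IrrCharacter G, ∃ m : ℤ, (χ : G → ℂ) v = 2 * (m : ℂ) - 1 := by
    intro χ
    have := Fintype.ofFinite (Subgroup.zpowers v)
    obtain ⟨m, hm⟩ := CfsgLib.Char.classInner_char_nat
      (φ := fun _ : Subgroup.zpowers v => (1 : ℂ)) (ψ := fun w : Subgroup.zpowers v => (χ : G → ℂ) w)
      CfsgLib.Char.isCharacter_one (CfsgLib.Char.isCharacter_res _ (CfsgLib.Char.isCharacter_of_isIrr χ.2))
    obtain ⟨d, hd⟩ := Nat.not_even_iff_odd.mp (hev χ)
    have e := CfsgLib.Char.card_mul_classInner (fun _ : Subgroup.zpowers v => (1 : ℂ))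
      (fun w : Subgroup.zpowers v => (χ : G → ℂ) w)
    rw [hm, Nat.card_zpowers, hv] at e
    have hu : (Finset.univ : Finset (Subgroup.zpowers v)) = {1, ⟨v, Subgroup.mem_zpowers v⟩} := by
      refine (Finset.eq_univ_of_card _ ?_).symm
      rw [Finset.card_pair (fun h => ?_), ← Nat.card_eq_fintype_card, Nat.card_zpowers, hv]
      have := congrArg Subtype.val h
      simp only [OneMemClass.coe_one] at this
      rw [← this, orderOf_one] at hv
      norm_num at hv
    rw [hu, Finset.sum_pair (fun h => by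
      have := congrArg Subtype.val h
      simp only [OneMemClass.coe_one] at this
      rw [← this, orderOf_one] at hv
      norm_num at hv)] at e
    have hvconj : starRingEnd ℂ ((χ : G → ℂ) v) = (χ : G → ℂ) v := by
      rw [← CfsgLib.Char.char_inv (CfsgLib.Char.isCharacter_of_isIrr χ.2),
        inv_eq_of_mul_eq_one_right hvv]
    have h1 : (χ : G → ℂ) 1 = ((2 * d + 1 : ℕ) : ℂ) := by
      rw [← CfsgLib.CharBlocks.coe_charDegree_irr, hd]
    refine ⟨(m : ℤ) - d, ?_⟩
    simp only [one_mul, hvconj, CfsgLib.Char.char_conj_one (CfsgLib.Char.isCharacter_of_isIrr χ.2),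
      OneMemClass.coe_one, h1] at e
    simp only [Nat.cast_add, Nat.cast_mul, Nat.cast_ofNat, Nat.cast_one, map_add, map_mul, map_ofNat,
      map_natCast, map_one] at e
    push_cast at e ⊢
    linear_combination (-1 : ℂ) * e
  choose m hm using heq
  have h0 := CfsgLib.Char.second_orthogonality v z
  rw [if_neg hnconj] at h0
  have hsq := CfsgLib.Char.second_orthogonality z z
  rw [if_pos (IsConj.refl z)] at hsq
  simp only [hreal, hm] at h0 hsq
  -- the sum of the values at `z` is twice an algebraic integer, the sum of their squares is odd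
  set S := ∑ χ : Cfsg.IrrCharacter G, (χ : G → ℂ) z with hS
  set A := ∑ χ : Cfsg.IrrCharacter G, ((m χ : ℤ) : ℂ) * (χ : G → ℂ) z with hA
  have hSA : S = 2 * A := by
    rw [hS, hA, Finset.mul_sum, ← sub_eq_zero, ← Finset.sum_sub_distrib, ← neg_eq_zero,
      ← Finset.sum_neg_distrib, ← h0]
    exact Finset.sum_congr rfl fun χ _ => by ring
  have hSsq : ∀ s : Finset (Cfsg.IrrCharacter G), ∃ B : ℂ, IsIntegral ℤ B ∧
      (∑ χ ∈ s, (χ : G → ℂ) z) ^ 2 = ∑ χ ∈ s, (χ : G → ℂ) z * (χ : G → ℂ) z + 2 * B := by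
    intro s
    induction s using Finset.induction_on with
    | empty => exact ⟨0, isIntegral_zero, by simp⟩
    | @insert a s ha ih =>
      obtain ⟨B, hB, hB'⟩ := ih
      refine ⟨B + (a : G → ℂ) z * ∑ χ ∈ s, (χ : G → ℂ) z, hB.add
        ((CfsgLib.Char.char_isIntegral (CfsgLib.Char.isCharacter_of_isIrr a.2) z).mul
          (IsIntegral.sum _ fun χ _ => CfsgLib.Char.char_isIntegral (CfsgLib.Char.isCharacter_of_isIrr χ.2) z)), ?_⟩
      rw [Finset.sum_insert ha, Finset.sum_insert ha]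
      linear_combination hB'
  obtain ⟨B, hB, hB'⟩ := hSsq Finset.univ
  rw [← hS, hsq, hSA] at hB'
  have hAint : IsIntegral ℤ A := IsIntegral.sum _ fun χ _ =>
    (isIntegral_algebraMap (R := ℤ) (A := ℂ) (x := m χ)).mul
      (CfsgLib.Char.char_isIntegral (CfsgLib.Char.isCharacter_of_isIrr χ.2) z)
  refine CfsgLib.CharBlocks.not_prime_pow_denom Nat.prime_two one_ne_zero
    (Nat.two_dvd_ne_zero.mpr (Nat.odd_iff.mp (hC z hz1 hzp))) ?_
  have e : (Nat.card (Subgroup.centralizer ({z} : Set G)) : ℂ) / ((2 : ℕ) : ℂ) ^ 1 = 2 * (A * A) - B := by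
    push_cast
    linear_combination (-1 / 2 : ℂ) * hB'
  rw [e]
  exact ((CfsgLib.CharBlocks.isIntegral_natCast 2).mul (hAint.mul hAint)).sub hB

end Cfsg.Agent.S4746
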