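import Cfsg.Statements.S4748
import Cfsg.Agent.Lib.CharBlocks.TICommute
import Cfsg.Agent.Lib.Cores.Basic

set_option autoImplicit false
open scoped Pointwise
open Cfsg

namespace Cfsg.Agent.S4748

/-- In a `p`-solvable group with `O_p = 1`, the centralizer of `O_{p'}` lies in `O_{p'}`. -/
theorem centralizer_pPrimeCore_le {G : Type*} [Group G] [Finite G] {p : ℕ} [Fact p.Prime]
    (hs : Cfsg.IsPSolvable p G) (hO : Cfsg.pCore p G = ⊥) :
    Subgroup.centralizer (Cfsg.pPrimeCore p G : Set G) ≤ Cfsg.pPrimeCore p G := by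
  classical
  obtain ⟨n, H, h0, hl, hm, hn, hstep⟩ := hs
  set N := Cfsg.pPrimeCore p G with hN
  set C := Subgroup.centralizer (N : Set G) with hC
  have : N.Normal := by rw [hN]; exact Subgroup.sSup_normal _ fun M hM => hM.1
  have key : ∀ i, H i ⊓ C ≤ N := by
    intro i
    induction i using Fin.induction with
    | zero => rw [h0]; simp
    | succ i ih =>
      have hle : H i.castSucc ≤ H i.succ := hm (Fin.castSucc_lt_succ).le
      have := hn i.castSucc
      have := hn i.succ
      set C' := H i.succ ⊓ C with hC'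
      set Z := H i.castSucc ⊓ C with hZ
      have hZC : Z ≤ C' := inf_le_inf_right _ hle
      have hcard : Nat.card Z * Z.relIndex C' = Nat.card C' := by
        rw [← Subgroup.relIndex_bot_left, ← Subgroup.relIndex_bot_left C',
          Subgroup.relIndex_mul_relIndex _ _ _ bot_le hZC]
      have hrel : Z.relIndex C' ∣ (H i.castSucc).relIndex (H i.succ) := by
        have h1 : Z.relIndex C' = (H i.castSucc).relIndex C' := by
          rw [← Subgroup.inf_relIndex_right (H i.castSucc) C']
          congr 1
          rw [hZ, hC']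
          ext x
          simp only [Subgroup.mem_inf]
          exact ⟨fun h => ⟨h.1, hle h.1, h.2⟩, fun h => ⟨h.1, h.2.2⟩⟩
        rw [h1, ← Subgroup.relIndex_subgroupOf (H := H i.castSucc) (inf_le_left : C' ≤ H i.succ)]
        exact Subgroup.relIndex_dvd_index_of_normal ((H i.castSucc).subgroupOf (H i.succ)) _
      have hZco : (Nat.card Z).Coprime p :=
        (CfsgLib.Cores.coprime_card_pPrimeCore p).coprime_dvd_left (Subgroup.card_dvd_of_le ih)
      suffices hco : (Nat.card C').Coprime p from CfsgLib.Cores.le_pPrimeCore hco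
      rcases hstep i with ⟨m, hm'⟩ | hco
      · rw [Nat.coprime_comm, (Fact.out : p.Prime).coprime_iff_not_dvd]
        intro hdvd
        obtain ⟨S⟩ : Nonempty (Sylow p C') := inferInstance
        obtain ⟨k, hk, hk'⟩ := (Nat.dvd_prime_pow (Fact.out : p.Prime)).mp (hm' ▸ hrel)
        have hSn : (S : Subgroup C').Normal := by
          set Z' := Z.subgroupOf C' with hZ'
          have hsup : Z' ⊔ (S : Subgroup C') = ⊤ := by
            refine Subgroup.eq_top_of_card_eq _ (Nat.dvd_antisymm (Subgroup.card_subgroup_dvd_card _) ?_)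
            have h1 : Nat.card Z' ∣ Nat.card ↥(Z' ⊔ (S : Subgroup C')) :=
              Subgroup.card_dvd_of_le le_sup_left
            have h2 : Nat.card (S : Subgroup C') ∣ Nat.card ↥(Z' ⊔ (S : Subgroup C')) :=
              Subgroup.card_dvd_of_le le_sup_right
            rw [Nat.card_congr (Subgroup.subgroupOfEquivOfLe hZC).toEquiv] at h1
            have hS : Nat.card (S : Subgroup C') = p ^ k := by
              rw [S.card_eq_multiplicity, ← hcard, hk', Nat.factorization_mul Nat.card_pos.ne'
                (pow_ne_zero _ (Fact.out : p.Prime).ne_zero), Finsupp.add_apply,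
                Nat.factorization_eq_zero_of_not_dvd
                  ((Fact.out : p.Prime).coprime_iff_not_dvd.mp hZco.symm),
                (Fact.out : p.Prime).factorization_pow, Finsupp.single_eq_same, zero_add]
            rw [← hcard, hk', ← hS]
            refine Nat.Coprime.mul_dvd_of_dvd_of_dvd ?_ h1 h2
            rw [hS]
            exact hZco.pow_right _
          rw [← Subgroup.normalizer_eq_top_iff, eq_top_iff, ← hsup]
          refine sup_le (fun z hz => ?_) Subgroup.le_normalizer
          rw [Subgroup.mem_normalizer_iff]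
          intro x
          have hzx : (z : C') * x = x * z := by
            apply Subtype.ext
            exact Subgroup.mem_centralizer_iff.mp x.2.2 z (ih hz)
          show x ∈ (S : Subgroup C') ↔ z * x * z⁻¹ ∈ (S : Subgroup C')
          rw [hzx, mul_inv_cancel_right]
        have hbot : (S : Subgroup C') = ⊥ := by
          have h1 : (S : Subgroup C') ≤ Cfsg.pCore p C' := CfsgLib.Cores.le_pCore S.2
          have : C'.Normal := inferInstance
          have h2 := CfsgLib.Cores.map_subtype_pCore_le_of_normal (G := G) p C'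
          rw [hO, le_bot_iff, Subgroup.map_eq_bot_iff_of_injective _ C'.subtype_injective] at h2
          exact le_bot_iff.mp (h2 ▸ h1)
        have := S.dvd_card_of_dvd_card hdvd
        rw [hbot, Subgroup.card_bot] at this
        exact (Fact.out : p.Prime).not_dvd_one this
      · rw [← hcard]
        exact hZco.mul_left (hco.coprime_dvd_left hrel)
  intro x hx
  exact key (Fin.last n) ⟨hl ▸ Subgroup.mem_top x, hx⟩

/-- Let G be a finite p-solvable group whose Sylow p-subgroup P meets each conjugate g P g⁻¹ with g outside N_G(P) trivially, and let χ be a faithful character of G (χ g = χ 1 only for g = 1) whose degree d satisfies d² ≤ |P|. Then P is normal in G. -/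
theorem result {G : Type*} [Group G] [Finite G] (p : ℕ) [Fact p.Prime] (hsolv : Cfsg.IsPSolvable p G) (P : Sylow p G) (hTI : ∀ g : G, g ∉ Subgroup.normalizer ((P : Subgroup G) : Set G) → (P : Subgroup G) ⊓ (MulAut.conj g • (P : Subgroup G)) = ⊥) (χ : G → ℂ) (hχ : Cfsg.IsCharacter G χ) (hfaith : ∀ g : G, χ g = χ 1 → g = 1) (hdeg : Cfsg.charDegree χ ^ 2 ≤ Nat.card ↥(P : Subgroup G)) : (P : Subgroup G).Normal := by
  classical
  have hTI' := CfsgLib.CharBlocks.TICommute.ti_elementwise hTI
  by_cases hO : Cfsg.pCore p G = ⊥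
  swap
  · refine Subgroup.normalizer_eq_top_iff.mp (eq_top_iff.mpr fun g _ => ?_)
    by_contra hg
    refine hO ((Subgroup.eq_bot_iff_forall _).mpr fun σ hσ => hTI' g hg σ (CfsgLib.Cores.pCore_le_sylow P hσ)
      (CfsgLib.Cores.pCore_le_sylow P ?_))
    have : (Cfsg.pCore p G).Normal := Subgroup.sSup_normal _ fun M hM => hM.1
    simpa using this.conj_mem σ hσ g⁻¹
  by_contra hPn
  have : Nontrivial (P : Subgroup G) := (Subgroup.nontrivial_iff_ne_bot _).mpr fun h =>
    hPn (by rw [h]; infer_instance)
  have := P.2.center_nontrivial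
  obtain ⟨z, hz1⟩ := exists_ne (1 : Subgroup.center (P : Subgroup G))
  have hzc : ∀ σ ∈ (P : Subgroup G), σ * ((z : (P : Subgroup G)) : G) = (z : (P : Subgroup G)) * σ :=
    fun σ hσ => congrArg Subtype.val (Subgroup.mem_center_iff.mp z.2 ⟨σ, hσ⟩)
  set z0 : G := ((z : (P : Subgroup G)) : G) with hz0
  have hz0P : z0 ∈ (P : Subgroup G) := (z : (P : Subgroup G)).2
  set N := Cfsg.pPrimeCore p G with hN
  have hNn : N.Normal := by rw [hN]; exact Subgroup.sSup_normal _ fun M hM => hM.1
  have hNP : ∀ x, x ∈ N → x ∈ (P : Subgroup G) → x = 1 := by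
    intro x h1 h2
    obtain ⟨k, hk⟩ := P.2 ⟨x, h2⟩
    have hd : orderOf x ∣ p ^ k := orderOf_dvd_of_pow_eq_one (congrArg Subtype.val hk)
    have hd' : orderOf x ∣ Nat.card N := by
      have := orderOf_dvd_natCard (⟨x, h1⟩ : N)
      rwa [← Subgroup.orderOf_coe] at this
    exact orderOf_eq_one_iff.mp (Nat.eq_one_of_dvd_coprimes
      ((CfsgLib.Cores.coprime_card_pPrimeCore p).pow_right k) hd' hd)
  set G1 := N ⊔ (P : Subgroup G) with hG1
  have hPG1 : (P : Subgroup G) ≤ G1 := le_sup_right
  set P1 : Sylow p G1 := P.subtype hPG1 with hP1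
  have hmem : ∀ x : G1, x ∈ (P1 : Subgroup G1) ↔ (x : G) ∈ (P : Subgroup G) := fun x => by
    rw [hP1, Sylow.coe_subtype, Subgroup.mem_subgroupOf]
  have hnorm : ∀ g : G1, g ∈ Subgroup.normalizer ((P1 : Subgroup G1) : Set G1) ↔
      (g : G) ∈ Subgroup.normalizer ((P : Subgroup G) : Set G) := by
    intro g
    rw [Subgroup.mem_normalizer_iff, Subgroup.mem_normalizer_iff]
    constructor
    · intro h x
      constructor
      · intro hx
        have := (h ⟨x, hPG1 hx⟩).mp ((hmem _).mpr hx)
        exact (hmem _).mp this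
      · intro hx
        have hx' : x ∈ G1 := by
          have := G1.mul_mem (G1.mul_mem (G1.inv_mem g.2) (hPG1 hx)) g.2
          simpa [mul_assoc] using this
        exact (hmem ⟨x, hx'⟩).mp ((h ⟨x, hx'⟩).mpr ((hmem _).mpr hx))
    · intro h x
      rw [hmem, hmem]
      exact h x
  have hdeg' : Cfsg.charDegree (fun x : G1 => χ x) ^ 2 ≤ Nat.card (P1 : Subgroup G1) := by
    rw [hP1, Sylow.coe_subtype, Nat.card_congr (Subgroup.subgroupOfEquivOfLe hPG1).toEquiv]
    exact hdeg
  have hcomm := CfsgLib.CharBlocks.TICommute.eq_one_of_central (χ := fun x : G1 => χ x)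
    (z := (⟨z0, hPG1 hz0P⟩ : G1)) P1
    (fun g hg σ hσ hσ' => Subtype.ext (hTI' g (fun h => hg ((hnorm g).mpr h)) σ ((hmem σ).mp hσ)
      ((hmem _).mp hσ')))
    (CfsgLib.Char.isCharacter_res G1 hχ) (fun g hg => Subtype.ext (hfaith g hg)) hdeg' (fun g hg => by
      apply Subtype.ext
      show (g : G) * z0 = z0 * g
      have hgS : (g : G) ∈ (N : Set G) * ((P : Subgroup G) : Set G) := by
        rw [← Subgroup.normal_mul]; exact g.2
      obtain ⟨m, hm, σ, hσ, he⟩ := Set.mem_mul.mp hgS
      rw [← he]
      have hmn : m ∈ Subgroup.normalizer ((P : Subgroup G) : Set G) := by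
        have := Subgroup.mul_mem _ ((hnorm g).mp hg)
          (Subgroup.inv_mem _ (Subgroup.le_normalizer hσ))
        rwa [← he, mul_inv_cancel_right] at this
      have h1 : m * z0 * m⁻¹ * z0⁻¹ = 1 := by
        refine hNP _ ?_ (Subgroup.mul_mem _ ((Subgroup.mem_normalizer_iff.mp hmn z0).mp hz0P)
          (Subgroup.inv_mem _ hz0P))
        rw [mul_assoc m z0, mul_assoc m]
        exact N.mul_mem hm (hNn.conj_mem _ (N.inv_mem hm) z0)
      have h2 : m * z0 = z0 * m := by
        calc m * z0 = (m * z0 * m⁻¹ * z0⁻¹) * (z0 * m) := by group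
          _ = z0 * m := by rw [h1, one_mul]
      calc m * σ * z0 = m * (σ * z0) := mul_assoc _ _ _
        _ = (m * z0) * σ := by rw [hzc σ hσ]; group
        _ = z0 * (m * σ) := by rw [h2]; group)
  have hzN : z0 ∈ N := by
    refine centralizer_pPrimeCore_le hsolv hO ?_
    rw [Subgroup.mem_centralizer_iff]
    intro x hx
    exact congrArg Subtype.val (hcomm ⟨x, (le_sup_left : N ≤ G1) hx⟩)
  exact hz1 (Subtype.ext (Subtype.ext (hNP z0 hzN hz0P)))

end Cfsg.Agent.S4748
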