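import Cfsg.Statements.S4751
import Cfsg.Agent.Lib.Cores.Basic
import Cfsg.Agent.Lib.Char.Linear
import Cfsg.Agent.Lib.CharNormal.Kernel
import Cfsg.Agent.Lib.CharNormal.CentralCount
import Cfsg.Agent.Lib.CharBlocks.Degree
import Mathlib.GroupTheory.GroupAction.Quotient
import Mathlib.GroupTheory.Perm.Finite
import Mathlib.Data.Fintype.Perm

set_option autoImplicit false
open Cfsg

namespace Cfsg.Agent.S4751

open CfsgLib.Char CfsgLib.CharNormal
open scoped ComplexConjugate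

/-- Facts on `Perm (Fin 3)`. -/
theorem perm3_fix : ∀ σ : Equiv.Perm (Fin 3), σ ≠ 1 → ∀ a b, σ a = a → σ b = b → a = b := by decide

set_option maxRecDepth 4000 in
set_option synthInstance.maxSize 2000 in
/-- Facts on `Perm (Fin 3)`. -/
theorem perm3_comm : ∀ σ τ : Equiv.Perm (Fin 3), σ ^ 3 = 1 → σ ≠ 1 → τ * τ = 1 → τ ≠ 1 →
    (σ * τ * σ⁻¹ * τ) ^ 3 = 1 ∧ σ * τ * σ⁻¹ * τ ≠ 1 := by decide

/-- The group-theoretic end of the exceptional case. -/
theorem s4_case {G : Type*} [Group G] [Finite G] (P R : Subgroup G) [P.Normal]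
    (hP4 : Nat.card P = 4) (hexp : ∀ x ∈ P, x * x = 1) (hPR : P ≤ R) (hR : Nat.card R = 8)
    (hC : Subgroup.centralizer (P : Set G) = P ⊔ Subgroup.center G) (hZ : P ⊓ Subgroup.center G = ⊥)
    (hodd : Odd (Nat.card (Subgroup.center G))) (h3 : 3 ∣ (Subgroup.centralizer (P : Set G)).index) :
    ∃ H : Subgroup G, Nonempty (↥H ≃* Equiv.Perm (Fin 4)) ∧ H ⊓ Subgroup.center G = ⊥ ∧
      H ⊔ Subgroup.center G = ⊤ := by
  classical
  have hPinv : ∀ x ∈ P, x⁻¹ = x := fun x hx => inv_eq_of_mul_eq_one_right (hexp x hx)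
  have hPcomm : ∀ a ∈ P, ∀ b ∈ P, a * b = b * a := fun a ha b hb => by
    rw [← hPinv _ (mul_mem ha hb), mul_inv_rev, hPinv _ ha, hPinv _ hb]
  -- the action on the three non-trivial elements of `P`
  have hX : Nat.card {x : P // x ≠ 1} = 3 := by
    have := Fintype.ofFinite P
    rw [Nat.card_eq_fintype_card] at hP4
    rw [Nat.card_eq_fintype_card, Fintype.card_subtype_compl, Fintype.card_subtype_eq, hP4]
  let e : {x : P // x ≠ 1} ≃ Fin 3 := Finite.equivFinOfCardEq hX
  let f : G →* Equiv.Perm (Fin 3) := e.permCongrHom.toMonoidHom.comp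
    (MonoidHom.mk' (fun g => Equiv.Perm.subtypePerm (MulAut.conjNormal (H := P) g).toEquiv
      (fun x => by simp)) (fun a b => Equiv.ext fun x => Subtype.ext (Subtype.ext (by
        simp [mul_assoc]))))
  have hfapp : ∀ (g : G) (x : {x : P // x ≠ 1}), ((e.symm (f g (e x)) : P) : G) = g * x * g⁻¹ :=
    fun g x => by simp [f, Equiv.permCongrHom, Equiv.permCongr_apply]
  have hker : ∀ g, f g = 1 ↔ g ∈ Subgroup.centralizer (P : Set G) := fun g => by
    rw [Subgroup.mem_centralizer_iff]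
    constructor
    · intro h x hx
      by_cases hx1 : x = 1
      · simp [hx1]
      have := hfapp g ⟨⟨x, hx⟩, fun h' => hx1 (congrArg Subtype.val h')⟩
      rw [h] at this
      simp only [Equiv.Perm.one_apply, Equiv.symm_apply_apply] at this
      calc x * g = g * x * g⁻¹ * g := by rw [← this]
        _ = g * x := by group
    · intro h
      refine Equiv.ext fun i => e.symm.injective (Subtype.ext (Subtype.ext ?_))
      have := hfapp g (e.symm i)
      rw [Equiv.apply_symm_apply] at this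
      rw [this, Equiv.Perm.one_apply, ← h _ (e.symm i).1.2, mul_inv_cancel_right]
  have d1 := perm3_fix
  have d2 := perm3_comm
  have hCsq : ∀ c ∈ Subgroup.centralizer (P : Set G), c * c ∈ Subgroup.center G := by
    intro c hc
    rw [hC, Subgroup.mem_sup_of_normal_left] at hc
    obtain ⟨a, ha, z, hz, rfl⟩ := hc
    have : a * z * (a * z) = a * a * (z * z) := by
      rw [mul_assoc a z, ← mul_assoc z a, ← Subgroup.mem_center_iff.1 hz a]
      group
    rw [this, hexp a ha, one_mul]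
    exact mul_mem hz hz
  have hCR : ∀ r ∈ R, r ∈ Subgroup.centralizer (P : Set G) → r ∈ P := by
    intro r hr hc
    rw [hC, Subgroup.mem_sup_of_normal_left] at hc
    obtain ⟨a, ha, z, hz, rfl⟩ := hc
    have hzR : z ∈ R := by
      have := mul_mem (inv_mem (hPR ha)) hr
      rwa [inv_mul_cancel_left] at this
    have h1 : orderOf z ∣ 8 := hR ▸ Subgroup.orderOf_dvd_natCard R hzR
    have h2 : orderOf z ∣ Nat.card (Subgroup.center G) := Subgroup.orderOf_dvd_natCard _ hz
    have h3 : Nat.Coprime (2 ^ 3) (Nat.card (Subgroup.center G)) :=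
      Nat.Coprime.pow_left 3 (Nat.coprime_two_left.2 hodd)
    rw [orderOf_eq_one_iff.1 (Nat.eq_one_of_dvd_coprimes h3 h1 h2), mul_one]
    exact ha
  -- an involution of `R` outside `P`
  have hidx2 : (P.subgroupOf R).index = 2 := by
    have h := Subgroup.card_mul_index (P.subgroupOf R)
    rw [Nat.card_congr (Subgroup.subgroupOfEquivOfLe hPR).toEquiv, hP4, hR] at h
    omega
  have hsqP : ∀ y ∈ R, y * y ∈ P := fun y hy => by
    have := (Subgroup.mul_mem_iff_of_index_two hidx2 (a := ⟨y, hy⟩) (b := ⟨y, hy⟩)).2 Iff.rfl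
    exact this
  obtain ⟨s, hsR, hsP, hs⟩ : ∃ s, s ∈ R ∧ s ∉ P ∧ s * s = 1 := by
    obtain ⟨y, hyR, hyP⟩ : ∃ y ∈ R, y ∉ P := Set.not_subset.1 fun h => by
      have : R = P := le_antisymm h hPR
      rw [this, hP4] at hR
      omega
    by_cases hy2 : y * y = 1
    · exact ⟨y, hyR, hyP, hy2⟩
    obtain ⟨x, hx, hxy⟩ : ∃ x ∈ P, y⁻¹ * x * y ≠ x := by
      by_contra! h
      refine hyP (hCR y hyR (Subgroup.mem_centralizer_iff.2 fun x hx => ?_))
      calc x * y = y * (y⁻¹ * x * y) := by group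
        _ = y * x := by rw [h x hx]
    set u := y⁻¹ * x * y with hu
    have huP : u ∈ P := by simpa [hu] using (inferInstance : P.Normal).conj_mem x hx y⁻¹
    have hyy := hsqP y hyR
    have hyu : y * u * y⁻¹ = x := by rw [hu]; group
    have hyx : y * x * y⁻¹ = u := by
      calc y * x * y⁻¹ = (y * y) * u * (y * y)⁻¹ := by rw [hu]; group
        _ = u := by rw [hPcomm _ hyy u huP, mul_inv_cancel_right]
    have hw1 : u * x ≠ 1 := fun h => hxy (by rw [← hPinv x hx]; exact eq_inv_of_mul_eq_one_left h)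
    have hwy : y * (u * x) * y⁻¹ = u * x := by
      calc y * (u * x) * y⁻¹ = (y * u * y⁻¹) * (y * x * y⁻¹) := by group
        _ = u * x := by rw [hyu, hyx, hPcomm x hx u huP]
    have hfy : f y ≠ 1 := fun h => hyP (hCR y hyR ((hker y).1 h))
    have hfix : ∀ v : {v : P // v ≠ 1}, y * v * y⁻¹ = (v : G) → f y (e v) = e v := fun v hv =>
      e.symm.injective (Subtype.ext (Subtype.ext (by rw [hfapp, hv, Equiv.symm_apply_apply])))
    have heq := d1 (f y) hfy _ _
      (hfix ⟨⟨u * x, mul_mem huP hx⟩, fun h => hw1 (congrArg Subtype.val h)⟩ hwy)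
      (hfix ⟨⟨y * y, hyy⟩, fun h => hy2 (congrArg Subtype.val h)⟩ (by simp [mul_assoc]))
    have heq' : u * x = y * y := congrArg (fun v : {v : P // v ≠ 1} => ((v : P) : G)) (e.injective heq)
    refine ⟨y * x, mul_mem hyR (hPR hx), fun h => hyP ?_, ?_⟩
    · simpa using mul_mem h (inv_mem hx)
    · calc y * x * (y * x) = (y * y) * (u * x) := by rw [hu]; group
        _ = 1 := by rw [heq', hexp _ hyy]
  have hfs : f s ≠ 1 := fun h => hsP (hCR s hsR ((hker s).1 h))
  have hfs2 : f s * f s = 1 := by rw [← map_mul, hs, map_one]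
  have hsinv : s⁻¹ = s := inv_eq_of_mul_eq_one_right hs
  -- an element of order three inverted by `s`
  have hkerf : f.ker = Subgroup.centralizer (P : Set G) := Subgroup.ext fun g => MonoidHom.mem_ker.trans (hker g)
  have : Fact (Nat.Prime 3) := ⟨Nat.prime_three⟩
  obtain ⟨⟨_, u, rfl⟩, hu⟩ := exists_prime_orderOf_dvd_card' (G := f.range) 3 (by
    rw [← Subgroup.index_ker, hkerf]; exact h3)
  rw [← Subgroup.orderOf_coe] at hu
  change orderOf (f u) = 3 at hu
  obtain ⟨hσ3, hσ1⟩ := d2 (f u) (f s) (by have := pow_orderOf_eq_one (f u); rwa [hu] at this)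
    (fun h => by rw [h, orderOf_one] at hu; omega) hfs2 hfs
  set r₀ := u * s * u⁻¹ * s with hr₀
  have hfr₀ : f r₀ = f u * f s * (f u)⁻¹ * f s := by simp [hr₀]
  rw [← hfr₀] at hσ3 hσ1
  have hsr₀ : s * r₀ * s⁻¹ = r₀⁻¹ := by
    rw [hr₀, hsinv]
    calc s * (u * s * u⁻¹ * s) * s = s * (u * s * u⁻¹) * (s * s) := by group
      _ = s⁻¹ * (u * s⁻¹ * u⁻¹) := by rw [hs, mul_one, hsinv]
      _ = (u * s * u⁻¹ * s)⁻¹ := by group
  obtain ⟨a, q, hq, hord⟩ := Nat.exists_eq_pow_mul_and_not_dvd (orderOf_pos r₀).ne' 3 (by norm_num)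
  set r := r₀ ^ q with hr
  have hr3a : r ^ 3 ^ a = 1 := by rw [hr, ← pow_mul, mul_comm, ← hord, pow_orderOf_eq_one]
  have hfr : f r ≠ 1 := fun h => hq (by
    rw [hr, map_pow] at h
    have h' : orderOf (f r₀) = 3 := orderOf_eq_prime hσ3 hσ1
    rw [← h']
    exact orderOf_dvd_of_pow_eq_one h)
  have hsr : s * r * s⁻¹ = r⁻¹ := by rw [hr, ← conj_pow, hsr₀, inv_pow]
  have hr3 : r ^ 3 = 1 := by
    have hc : r ^ 3 ∈ Subgroup.centralizer (P : Set G) := (hker _).1 (by
      rw [map_pow, hr, map_pow, ← pow_mul, mul_comm, pow_mul, hσ3, one_pow])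
    set c := r ^ 3 with hcdef
    have hc3 : c ^ 3 ^ a = 1 := by rw [hcdef, ← pow_mul, mul_comm, pow_mul, hr3a, one_pow]
    have ho : Odd (3 ^ a) := Odd.pow (by decide)
    have hcZ : c ∈ Subgroup.center G := by
      obtain ⟨b, hb⟩ := ho
      have : c = (c * c) ^ (b + 1) := by
        rw [← sq, ← pow_mul, show 2 * (b + 1) = 3 ^ a + 1 by omega, pow_add, hc3, one_mul, pow_one]
      rw [this]
      exact pow_mem (hCsq c hc) _
    have hinv : s * c * s⁻¹ = c⁻¹ := by rw [hcdef, ← conj_pow, hsr, inv_pow]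
    rw [Subgroup.mem_center_iff.1 hcZ s, mul_inv_cancel_right] at hinv
    have hc2 : c ^ 2 = 1 := by
      rw [sq]
      calc c * c = c * c⁻¹ := by rw [← hinv]
        _ = 1 := mul_inv_cancel c
    exact orderOf_eq_one_iff.1 (Nat.eq_one_of_dvd_coprimes (Nat.coprime_two_left.2 ho)
      (orderOf_dvd_of_pow_eq_one hc2) (orderOf_dvd_of_pow_eq_one hc3))
  have hor : orderOf r = 3 := orderOf_eq_prime hr3 (fun h => hfr (by rw [h, map_one]))
  have hofr : orderOf (f r) = 3 := orderOf_eq_prime (by rw [← map_pow, hr3, map_one]) hfr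
  have hos : orderOf s = 2 := orderOf_eq_prime (by rw [sq, hs]) (fun h => hfs (by rw [h, map_one]))
  have hofs : orderOf (f s) = 2 := orderOf_eq_prime (by rw [sq, hfs2]) hfs
  -- the complement
  set S := Subgroup.zpowers r ⊔ Subgroup.zpowers s with hS
  have hnorm : Subgroup.zpowers s ≤ Subgroup.normalizer (Subgroup.zpowers r : Set G) := by
    rw [Subgroup.zpowers_le, Subgroup.mem_normalizer_iff]
    have key : ∀ h, h ∈ Subgroup.zpowers r → s * h * s⁻¹ ∈ Subgroup.zpowers r := by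
      rintro h ⟨i, rfl⟩
      rw [← conj_zpow, hsr, inv_zpow]
      exact inv_mem (Subgroup.zpow_mem_zpowers r i)
    refine fun h => ⟨key h, fun h' => ?_⟩
    have := key _ h'
    rwa [show s * (s * h * s⁻¹) * s⁻¹ = (s * s) * h * (s * s)⁻¹ by group, hs, one_mul, inv_one,
      mul_one] at this
  have hSker : ∀ g ∈ S, f g = 1 → g = 1 := by
    intro g hg h
    rw [hS, ← SetLike.mem_coe, Subgroup.coe_mul_of_right_le_normalizer_left _ _ hnorm] at hg
    obtain ⟨_, ⟨i, rfl⟩, _, ⟨j, rfl⟩, rfl⟩ := hg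
    simp only [map_mul, map_zpow] at h
    have h2 : (f r ^ i : Equiv.Perm (Fin 3)) = (f s ^ j)⁻¹ := eq_inv_of_mul_eq_one_left h
    have h3 : orderOf (f r ^ i) ∣ 3 := (orderOf_dvd_of_mem_zpowers (Subgroup.zpow_mem_zpowers (f r) i)).trans hofr.dvd
    have h4 : orderOf (f r ^ i) ∣ 2 := by
      rw [h2, orderOf_inv]
      exact (orderOf_dvd_of_mem_zpowers (Subgroup.zpow_mem_zpowers (f s) j)).trans hofs.dvd
    have h5 : f r ^ i = 1 :=
      orderOf_eq_one_iff.1 (Nat.eq_one_of_dvd_coprimes (by norm_num : Nat.Coprime 3 2) h3 h4)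
    rw [h5, one_mul] at h
    have e1 : r ^ i = 1 := by
      rw [← orderOf_dvd_iff_zpow_eq_one, hor, ← hofr, orderOf_dvd_iff_zpow_eq_one, h5]
    have e2 : s ^ j = 1 := by
      rw [← orderOf_dvd_iff_zpow_eq_one, hos, ← hofs, orderOf_dvd_iff_zpow_eq_one, h]
    show r ^ i * s ^ j = 1
    rw [e1, e2, one_mul]
  have hperm3 : Nat.card (Equiv.Perm (Fin 3)) = 6 := by rw [Nat.card_perm, Nat.card_fin]; rfl
  have hSmap : S.map f = ⊤ := by
    refine Subgroup.eq_top_of_card_eq _ (le_antisymm (Subgroup.card_le_card_group _) ?_)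
    rw [hperm3]
    refine Nat.le_of_dvd Nat.card_pos (Nat.Coprime.mul_dvd_of_dvd_of_dvd (m := 3) (n := 2) (by norm_num) ?_ ?_)
    · exact hofr.symm.dvd.trans <| Subgroup.orderOf_dvd_natCard _
        (Subgroup.mem_map_of_mem f (Subgroup.mem_sup_left (Subgroup.mem_zpowers r)))
    · exact hofs.symm.dvd.trans <| Subgroup.orderOf_dvd_natCard _
        (Subgroup.mem_map_of_mem f (Subgroup.mem_sup_right (Subgroup.mem_zpowers s)))
  set H := P ⊔ S with hH
  have hHker : ∀ g ∈ H, f g = 1 → g ∈ P := by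
    intro g hg h
    rw [hH, Subgroup.mem_sup_of_normal_left] at hg
    obtain ⟨x, hx, b, hb, rfl⟩ := hg
    rw [map_mul, (hker x).2 (Subgroup.mem_centralizer_iff.2 fun h hh => hPcomm h hh x hx), one_mul] at h
    rw [hSker b hb h, mul_one]
    exact hx
  have hsurj : ∀ σ, ∃ b ∈ S, f b = σ := fun σ =>
    Subgroup.mem_map.1 (hSmap ▸ Subgroup.mem_top σ : σ ∈ S.map f)
  refine ⟨H, ?_, ?_, ?_⟩
  · -- faithful on the cosets of `S`
    have hSH : S ≤ H := le_sup_right
    have hcS : Nat.card (S.subgroupOf H) = 6 := by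
      rw [Nat.card_congr (Subgroup.subgroupOfEquivOfLe hSH).toEquiv, ← hperm3]
      refine Nat.card_congr (Equiv.ofBijective (f.comp S.subtype) ⟨?_, fun σ => ?_⟩)
      · rw [injective_iff_map_eq_one]
        exact fun b hb => Subtype.ext (hSker b b.2 hb)
      · obtain ⟨b, hb, hb'⟩ := hsurj σ
        exact ⟨⟨b, hb⟩, hb'⟩
    have hcH : Nat.card H = 24 := by
      have h := Subgroup.card_mul_index (f.comp H.subtype).ker
      have hk : (f.comp H.subtype).ker = P.subgroupOf H := Subgroup.ext fun g => by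
        rw [MonoidHom.mem_ker, Subgroup.mem_subgroupOf]
        exact ⟨hHker g g.2, fun hg => (hker _).2 (Subgroup.mem_centralizer_iff.2 fun h hh => hPcomm h hh _ hg)⟩
      rw [hk, Nat.card_congr (Subgroup.subgroupOfEquivOfLe (le_sup_left : P ≤ H)).toEquiv, hP4, ← hk,
        Subgroup.index_ker, (MonoidHom.range_eq_top).2 fun σ => by
          obtain ⟨b, hb, hb'⟩ := hsurj σ
          exact ⟨⟨b, hSH hb⟩, hb'⟩, Nat.card_congr Subgroup.topEquiv.toEquiv, hperm3] at h
      omega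
    have hiS : Nat.card (↥H ⧸ S.subgroupOf H) = 4 := by
      have h := Subgroup.card_mul_index (S.subgroupOf H)
      rw [hcS, hcH, Subgroup.index] at h
      omega
    let ψ := MulAction.toPermHom ↥H (↥H ⧸ S.subgroupOf H)
    have hinj : Function.Injective ψ := by
      rw [injective_iff_map_eq_one]
      intro k hk
      have hkk : k ∈ (S.subgroupOf H).normalCore := by rw [Subgroup.normalCore_eq_ker]; exact hk
      have hkS : (k : G) ∈ S := Subgroup.normalCore_le (S.subgroupOf H) hkk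
      refine Subtype.ext (hSker _ hkS ((hker _).2 (Subgroup.mem_centralizer_iff.2 fun x hx => ?_)))
      let x' : ↥H := ⟨x, (le_sup_left : P ≤ H) hx⟩
      have hc : x' * k * x'⁻¹ * k⁻¹ ∈ (S.subgroupOf H).normalCore :=
        mul_mem ((Subgroup.normalCore_normal _).conj_mem k hkk x') (inv_mem hkk)
      have hcP : x * k * x⁻¹ * (k : G)⁻¹ ∈ P := by
        have : x * k * x⁻¹ * (k : G)⁻¹ = x * (k * x⁻¹ * (k : G)⁻¹) := by group
        rw [this]
        exact mul_mem hx ((inferInstance : P.Normal).conj_mem _ (inv_mem hx) _)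
      have hone : x * k * x⁻¹ * (k : G)⁻¹ = 1 :=
        hSker _ (Subgroup.normalCore_le (S.subgroupOf H) hc)
          ((hker _).2 (Subgroup.mem_centralizer_iff.2 fun h hh => hPcomm h hh _ hcP))
      rw [mul_inv_eq_one, mul_inv_eq_iff_eq_mul] at hone
      exact hone
    have hcard : Nat.card ↥H = Nat.card (Equiv.Perm (↥H ⧸ S.subgroupOf H)) := by
      rw [Nat.card_perm, hiS, hcH]; rfl
    exact ⟨(MulEquiv.ofBijective ψ ((Nat.bijective_iff_injective_and_card _).2 ⟨hinj, hcard⟩)).trans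
      (Finite.equivFinOfCardEq hiS).permCongrHom⟩
  · refine (Subgroup.eq_bot_iff_forall _).2 fun z hz => ?_
    obtain ⟨hzH, hzZ⟩ := Subgroup.mem_inf.1 hz
    have hzC : f z = 1 := (hker z).2 (hC.symm ▸ Subgroup.mem_sup_right hzZ)
    have : z ∈ P ⊓ Subgroup.center G := ⟨hHker z hzH hzC, hzZ⟩
    rwa [hZ, Subgroup.mem_bot] at this
  · refine top_le_iff.1 fun g _ => ?_
    obtain ⟨b, hb, hb'⟩ := hsurj (f g)
    have h : b⁻¹ * g ∈ P ⊔ Subgroup.center G := hC ▸ (hker _).1 (by simp [hb'])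
    rw [← mul_inv_cancel_left b g]
    exact mul_mem (Subgroup.mem_sup_left (Subgroup.mem_sup_right hb))
      ((sup_le_sup_right le_sup_left _ : P ⊔ Subgroup.center G ≤ H ⊔ Subgroup.center G) h)

/-- The norm of the restriction to a `p`-subgroup. -/
theorem norm_count {G : Type*} [Group G] [Finite G] {p : ℕ} [Fact p.Prime] {χ : Cfsg.IrrCharacter G}
    (hroot : ∀ g : G, p ∣ orderOf g → ∃ n : ℕ, 0 < n ∧ ((χ : G → ℂ) g) ^ n = 1) {d : ℕ}
    (hd : (χ : G → ℂ) 1 = d) (R : Subgroup G) [Fintype R] (hR : IsPGroup p R) :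
    ∃ m : ℕ, Cfsg.classInner (fun x : R => (χ : G → ℂ) x) (fun x : R => (χ : G → ℂ) x) = m ∧
      Nat.card R * m + 1 = d ^ 2 + Nat.card R := by
  classical
  have hc := isCharacter_res R (isCharacter_of_isIrr χ.2)
  obtain ⟨m, hm⟩ := classInner_char_nat hc hc
  refine ⟨m, hm, ?_⟩
  have h1 : ∀ x ∈ (Finset.univ : Finset R).erase 1, (χ : G → ℂ) x * conj ((χ : G → ℂ) x) = 1 := by
    intro x hx
    obtain ⟨k, hk⟩ := IsPGroup.iff_orderOf.1 hR x
    have hk0 : k ≠ 0 := fun h => (Finset.mem_erase.1 hx).1 (orderOf_eq_one_iff.1 (by rw [hk, h, pow_zero]))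
    obtain ⟨n, hn, hn'⟩ := hroot x (by rw [Subgroup.orderOf_coe, hk]; exact dvd_pow_self p hk0)
    rw [Complex.mul_conj', norm_eq_one_of_pow_eq_one' hn.ne' hn']
    simp
  have h := card_mul_classInner (fun x : R => (χ : G → ℂ) x) (fun x : R => (χ : G → ℂ) x)
  rw [hm, ← Finset.add_sum_erase _ _ (Finset.mem_univ (1 : R)), Finset.sum_congr rfl h1,
    Finset.sum_const, Finset.card_erase_of_mem (Finset.mem_univ _), Finset.card_univ,
    nsmul_eq_mul, mul_one, OneMemClass.coe_one, hd, Complex.conj_natCast,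
    Nat.cast_sub (Nat.succ_le_of_lt Fintype.card_pos), ← Nat.card_eq_fintype_card] at h
  have h2 : ((Nat.card R * m + 1 : ℕ) : ℂ) = ((d ^ 2 + Nat.card R : ℕ) : ℂ) := by
    push_cast
    linear_combination h
  exact_mod_cast h2

/-- The norm is the sum of the squared multiplicities. -/
theorem norm_eq_sum_sq {A : Type*} [Group A] [Fintype A] {φ : A → ℂ} {a : Cfsg.IrrCharacter A → ℕ}
    (h : φ = ∑ c, (a c : ℂ) • (c : A → ℂ))
    (ha : ∀ c : Cfsg.IrrCharacter A, Cfsg.classInner φ (c : A → ℂ) = a c) :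
    Cfsg.classInner φ φ = ((∑ c, a c * a c : ℕ) : ℂ) := by
  conv_lhs => arg 1; rw [h]
  rw [classInner_sum_left, Nat.cast_sum]
  refine Finset.sum_congr rfl fun c _ => ?_
  rw [classInner_smul_left, ← classInner_conj_symm φ (c : A → ℂ), ha c, Complex.conj_natCast]
  push_cast
  rfl

/-- Restriction of a linear irreducible character. -/
theorem prodIrr {A : Type*} [Group A] {μ ν : A → ℂ} (hμ : Cfsg.IsCharacter A μ) (h1 : μ 1 = 1)
    (hν : Cfsg.IsCharacter A ν) (h2 : ν 1 = 1) : Cfsg.IsIrrCharacter A (μ * ν) :=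
  isIrr_of_linear (isCharacter_mul hμ hν) (by simp [h1, h2])

/-- In an elementary abelian two-group with at most one non-trivial invariant character. -/
theorem card_le_four {G : Type*} [Group G] [Fintype G] (P R : Subgroup G) [P.Normal] [Fintype P]
    (hexp : ∀ x ∈ P, x * x = 1) {y : G} (_hy : y ∈ R) (hyy : y * y ∈ P)
    (hR : ∀ r ∈ R, r ∈ P ∨ y⁻¹ * r ∈ P)
    (huniq : ∀ μ ν : Cfsg.IrrCharacter P, μ ≠ irrOne → ν ≠ irrOne →
      (∀ r ∈ R, conjFun P r (μ : P → ℂ) = μ) → (∀ r ∈ R, conjFun P r (ν : P → ℂ) = ν) → μ = ν) :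
    Fintype.card (Cfsg.IrrCharacter P) ≤ 4 := by
  classical
  have hPinv : ∀ x : P, x⁻¹ = x := fun x => inv_eq_of_mul_eq_one_right (Subtype.ext (hexp x x.2))
  have hPcomm : ∀ a b : P, a * b = b * a := fun a b => by
    rw [← hPinv (a * b), mul_inv_rev, hPinv a, hPinv b]
  have hlin : ∀ μ : Cfsg.IrrCharacter P, (μ : P → ℂ) 1 = 1 := fun μ => irr_one_of_comm hPcomm μ.2
  have hsq : ∀ (μ : Cfsg.IrrCharacter P) (x : P), (μ : P → ℂ) x * (μ : P → ℂ) x = 1 := fun μ x => by
    rw [← linear_map_mul (isCharacter_of_isIrr μ.2) (hlin μ), show x * x = 1 from Subtype.ext (hexp x x.2),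
      hlin μ]
  let cy : Cfsg.IrrCharacter P → Cfsg.IrrCharacter P := conjIrr P y
  let mulI : Cfsg.IrrCharacter P → Cfsg.IrrCharacter P → Cfsg.IrrCharacter P := fun μ ν =>
    ⟨(μ : P → ℂ) * ν, prodIrr (isCharacter_of_isIrr μ.2) (hlin μ) (isCharacter_of_isIrr ν.2) (hlin ν)⟩
  have hcyy : ∀ μ, cy (cy μ) = μ := fun μ => Subtype.ext (by
    show conjFun P y (conjFun P y (μ : P → ℂ)) = μ
    rw [conjFun_conjFun]
    exact conjFun_of_mem P (isClassFunction_of_isIrr μ.2) hyy)
  have hfixR : ∀ μ, cy μ = μ → ∀ r ∈ R, conjFun P r (μ : P → ℂ) = μ := fun μ hμ r hr => by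
    rcases hR r hr with h | h
    · exact conjFun_of_mem P (isClassFunction_of_isIrr μ.2) h
    · have hμ' : conjFun P y (μ : P → ℂ) = μ := congrArg Subtype.val hμ
      rw [← mul_inv_cancel_left y r, ← conjFun_conjFun, hμ']
      exact conjFun_of_mem P (isClassFunction_of_isIrr μ.2) h
  let S : Finset (Cfsg.IrrCharacter P) := Finset.univ.filter fun μ => cy μ = μ
  have hS : S.card ≤ 2 := by
    have h1 : (S.erase irrOne).card ≤ 1 := Finset.card_le_one.2 fun μ hμ ν hν => by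
      simp only [S, Finset.mem_erase, Finset.mem_filter, Finset.mem_univ, true_and] at hμ hν
      exact huniq μ ν hμ.1 hν.1 (hfixR μ hμ.2) (hfixR ν hν.2)
    have := Finset.pred_card_le_card_erase (a := (irrOne : Cfsg.IrrCharacter P)) (s := S)
    omega
  let φ : Cfsg.IrrCharacter P → Cfsg.IrrCharacter P := fun μ => mulI μ (cy μ)
  have hφS : Finset.univ.image φ ⊆ S := fun ν hν => by
    obtain ⟨μ, -, rfl⟩ := Finset.mem_image.1 hν
    refine Finset.mem_filter.2 ⟨Finset.mem_univ _, Subtype.ext (funext fun x => ?_)⟩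
    have h := congrFun (congrArg Subtype.val (hcyy μ)) x
    show (cy μ : P → ℂ) x * (cy (cy μ) : P → ℂ) x = (μ : P → ℂ) x * (cy μ : P → ℂ) x
    rw [h, mul_comm]
  have hfib : ∀ a ∈ Finset.univ.image φ, (Finset.univ.filter fun μ => φ μ = a).card ≤ 2 := by
    intro a ha
    obtain ⟨ν, -, rfl⟩ := Finset.mem_image.1 ha
    refine (Finset.card_le_card_of_injOn (fun μ => mulI μ ν) (fun μ hμ => ?_) (fun μ _ μ' _ h => ?_)).trans hS
    · have hμ' : φ μ = φ ν := by simpa using hμ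
      refine Finset.mem_filter.2 ⟨Finset.mem_univ _, Subtype.ext (funext fun x => ?_)⟩
      have h : (μ : P → ℂ) x * (cy μ : P → ℂ) x = (ν : P → ℂ) x * (cy ν : P → ℂ) x :=
        congrFun (congrArg Subtype.val hμ') x
      show (cy μ : P → ℂ) x * (cy ν : P → ℂ) x = (μ : P → ℂ) x * (ν : P → ℂ) x
      linear_combination ((μ : P → ℂ) x * (cy ν : P → ℂ) x) * h -
        ((cy μ : P → ℂ) x * (cy ν : P → ℂ) x) * hsq μ x + ((μ : P → ℂ) x * (ν : P → ℂ) x) * hsq (cy ν) x
    · refine Subtype.ext (funext fun x => ?_)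
      have h' : (μ : P → ℂ) x * (ν : P → ℂ) x = (μ' : P → ℂ) x * (ν : P → ℂ) x :=
        congrFun (congrArg Subtype.val h) x
      exact mul_right_cancel₀ (fun h0 => by simpa [h0] using hsq ν x) h'
  have := Finset.card_le_mul_card_image (Finset.univ : Finset (Cfsg.IrrCharacter P)) 2 hfib
  rw [Finset.card_univ] at this
  have h2 := (Finset.card_le_card hφS).trans hS
  omega

/-- Let χ be a faithful, non-linear irreducible character of the finite group G (χ g = χ 1 only for g = 1, χ 1 ≠ 1) whose value at every element of order divisible by p is a root of unity, and suppose P = O_p(G) ≠ 1. Then either P is an elementary abelian Sylow p-subgroup of G, C_G(P) is the internal direct product of P and Z(G), G acts transitively by conjugation on the non-principal linear characters of P, and χ 1 = |P| − 1; or p = 2 and G is the internal direct product of a subgroup isomorphic to the symmetric group S₄ and the centre Z(G), which has odd order. -/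
theorem result {G : Type*} [Group G] [Finite G] (p : ℕ) [Fact p.Prime] (χ : Cfsg.IrrCharacter G) (hfaith : ∀ g : G, (χ : G → ℂ) g = (χ : G → ℂ) 1 → g = 1) (hnl : (χ : G → ℂ) 1 ≠ 1) (hroot : ∀ g : G, p ∣ orderOf g → ∃ n : ℕ, 0 < n ∧ ((χ : G → ℂ) g) ^ n = 1) (hP : Cfsg.pCore p G ≠ ⊥) : ((Nat.card ↥(Cfsg.pCore p G)).factorization p = (Nat.card G).factorization p ∧ Cfsg.IsElementaryAbelian p (Cfsg.pCore p G) ∧ Subgroup.centralizer ((Cfsg.pCore p G : Subgroup G) : Set G) = Cfsg.pCore p G ⊔ Subgroup.center G ∧ Cfsg.pCore p G ⊓ Subgroup.center G = ⊥ ∧ (∀ lam mu : ↥(Cfsg.pCore p G) → ℂ, Cfsg.IsCharacter ↥(Cfsg.pCore p G) lam → lam 1 = 1 → lam ≠ (fun _ => (1 : ℂ)) → Cfsg.IsCharacter ↥(Cfsg.pCore p G) mu → mu 1 = 1 → mu ≠ (fun _ => (1 : ℂ)) → ∃ g : G, ∀ (x : G) (hx : x ∈ Cfsg.pCore p G) (hgx : g * x * g⁻¹ ∈ Cfsg.pCore p G), mu ⟨x, hx⟩ = lam ⟨g * x * g⁻¹, hgx⟩) ∧ (χ : G → ℂ) 1 = (Nat.card ↥(Cfsg.pCore p G) : ℂ) - 1) ∨ (p = 2 ∧ Odd (Nat.card ↥(Subgroup.center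 G)) ∧ ∃ H : Subgroup G, Nonempty (↥H ≃* Equiv.Perm (Fin 4)) ∧ H ⊓ Subgroup.center G = ⊥ ∧ H ⊔ Subgroup.center G = ⊤) := by
  classical
  have := Fintype.ofFinite G
  have hpp : p.Prime := Fact.out
  have hχc := isCharacter_of_isIrr χ.2
  obtain ⟨d, hd0, hd⟩ := exists_degree_pos χ.2
  have hd1 : d ≠ 1 := fun h => hnl (by rw [hd, h, Nat.cast_one])
  set P := Cfsg.pCore p G with hPdef
  have := Fintype.ofFinite P
  have hPp : IsPGroup p P := CfsgLib.Cores.isPGroup_pCore p
  obtain ⟨k, hk⟩ := IsPGroup.iff_card.1 hPp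
  set n := Nat.card P with hn
  have hn2 : 2 ≤ n := by
    have h1 : n ≠ 1 := fun h => hP (Subgroup.card_eq_one.1 h)
    have h0 : 0 < n := Nat.card_pos
    omega
  have hk0 : k ≠ 0 := fun h => by rw [h, pow_zero] at hk; omega
  have hunit : ∀ g : G, p ∣ orderOf g → (χ : G → ℂ) g * conj ((χ : G → ℂ) g) = 1 := fun g hg => by
    obtain ⟨m, hm, hm'⟩ := hroot g hg
    rw [Complex.mul_conj', norm_eq_one_of_pow_eq_one' hm.ne' hm']
    simp
  have hpord : ∀ x ∈ P, x ≠ 1 → p ∣ orderOf x := fun x hx hx1 => by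
    obtain ⟨j, hj⟩ := IsPGroup.iff_orderOf.1 hPp ⟨x, hx⟩
    rw [← Subgroup.orderOf_coe] at hj
    refine hj ▸ dvd_pow_self p fun h => hx1 ?_
    rw [h, pow_zero] at hj
    exact orderOf_eq_one_iff.1 hj
  have hscal : ∀ a ∈ Subgroup.center G, (χ : G → ℂ) a * conj ((χ : G → ℂ) a) = (d : ℂ) ^ 2 := fun a ha => by
    have h := char_center_mul χ.2 ha a⁻¹
    rw [mul_inv_cancel, char_inv hχc, hd] at h
    rw [← h, sq]
  -- `P` meets the centre trivially
  have hPZ : P ⊓ Subgroup.center G = ⊥ := by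
    refine (Subgroup.eq_bot_iff_forall _).2 fun z hz => by_contra fun hz1 => ?_
    obtain ⟨hzP, hzZ⟩ := Subgroup.mem_inf.1 hz
    have h := (hscal z hzZ).symm.trans (hunit z (hpord z hzP hz1))
    have h' : d ^ 2 = 1 := by exact_mod_cast h
    exact hd1 (Nat.pow_eq_one.1 h' |>.resolve_right two_ne_zero)
  -- the restriction to `P`
  obtain ⟨mP, hmP, hmPeq⟩ := norm_count hroot hd P hPp
  have hpd : ¬ p ∣ d := fun h => by
    have h1 : p ∣ n := hk ▸ dvd_pow_self p hk0
    have h2 : p ∣ d ^ 2 + n := dvd_add (dvd_pow h two_ne_zero) h1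
    rw [← hmPeq, Nat.dvd_add_right (Dvd.dvd.mul_right h1 mP)] at h2
    exact hpp.one_lt.ne' (Nat.dvd_one.1 h2)
  obtain ⟨θ₀, hθ₀, hθne⟩ := exists_constituent (isCharacter_res P hχc) fun h =>
    irr_one_ne_zero χ.2 (by simpa using congrFun h 1)
  let θ : Cfsg.IrrCharacter P := ⟨θ₀, hθ₀⟩
  obtain ⟨e, he⟩ := classInner_char_nat (isCharacter_res P hχc) (isCharacter_of_isIrr hθ₀)
  have hres := res_eq_smul_sum_orbit P χ.2 θ hθne
  have hdeg := degree_eq_mul_card_orbit P χ.2 θ hθne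
  set t := (orbit P θ).card with ht
  obtain ⟨c₀, -, hc₀⟩ := exists_degree_pos hθ₀
  have hde : d = e * t * c₀ := by
    rw [hd, show Cfsg.classInner (fun x : P => (χ : G → ℂ) x) (θ : P → ℂ) = (e : ℂ) from he,
      show (θ : P → ℂ) 1 = (c₀ : ℂ) from hc₀] at hdeg
    exact_mod_cast hdeg
  have hc1 : c₀ = 1 := by
    have h := degree_dvd_card hθ₀ hc₀
    rw [← hn, hk] at h
    obtain ⟨j, -, rfl⟩ := (Nat.dvd_prime_pow hpp).1 h
    rcases j with _ | j
    · rfl
    · exact absurd ((dvd_pow_self p (Nat.succ_ne_zero j)).trans ⟨e * t, by rw [hde, mul_comm]⟩) hpd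
  subst hc1
  rw [mul_one] at hde
  have hres' : ∀ x : P, (χ : G → ℂ) x = (e : ℂ) * ∑ ψ ∈ orbit P θ, (ψ : P → ℂ) x := fun x => by
    have h := congrFun hres x
    rw [show Cfsg.classInner (fun x : P => (χ : G → ℂ) x) (θ : P → ℂ) = (e : ℂ) from he] at h
    simpa [Finset.sum_apply] using h
  have hθ1 : (θ : P → ℂ) 1 = 1 := hc₀.trans Nat.cast_one
  have horb1 : ∀ ψ ∈ orbit P θ, (ψ : P → ℂ) 1 = 1 := fun ψ hψ => by
    obtain ⟨g, hg⟩ := (mem_orbit P).1 hψ
    rw [← hg, conjFun_apply_one, hθ1]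
  have hkill : ∀ x : P, (∀ ψ ∈ orbit P θ, (ψ : P → ℂ) x = 1) → x = 1 := fun x hx =>
    Subtype.ext (hfaith x (by
      rw [hres', Finset.sum_congr rfl hx, hd, hde, Finset.sum_const, nsmul_eq_mul, mul_one, ← ht]
      push_cast
      rfl))
  have hPcomm : ∀ a b : P, a * b = b * a := fun a b => by
    have h1 : a * b * a⁻¹ * b⁻¹ = 1 := hkill _ fun ψ hψ => by
      have hc := isCharacter_of_isIrr ψ.2
      have h1' : ∀ z : P, (ψ : P → ℂ) z * (ψ : P → ℂ) z⁻¹ = 1 := fun z => by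
        rw [← linear_map_mul hc (horb1 ψ hψ), mul_inv_cancel, horb1 ψ hψ]
      rw [linear_map_mul hc (horb1 ψ hψ), linear_map_mul hc (horb1 ψ hψ), linear_map_mul hc (horb1 ψ hψ)]
      linear_combination (ψ : P → ℂ) b * (ψ : P → ℂ) b⁻¹ * h1' a + h1' b
    calc a * b = (a * b * a⁻¹ * b⁻¹) * (b * a) := by group
      _ = b * a := by rw [h1, one_mul]
  have hlin : ∀ μ : Cfsg.IrrCharacter P, (μ : P → ℂ) 1 = 1 := fun μ => irr_one_of_comm hPcomm μ.2
  have hcardI : Fintype.card (Cfsg.IrrCharacter P) = n := by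
    have h := sum_degree_sq (G := P)
    simp only [hlin, one_pow, Finset.sum_const, Finset.card_univ, nsmul_eq_mul, mul_one] at h
    exact_mod_cast h
  -- the orbit consists of all non-trivial characters
  have hne1 : ∀ ψ ∈ orbit P θ, ψ ≠ irrOne := by
    intro ψ hψ h
    refine hP ((Subgroup.eq_bot_iff_forall _).2 fun x hx => ?_)
    have h0 : Cfsg.classInner (fun x : P => (χ : G → ℂ) x) (fun _ : P => (1 : ℂ)) ≠ 0 := by
      obtain ⟨g, hg⟩ := (mem_orbit P).1 hψ
      rw [h] at hg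
      rw [show (fun _ : P => (1 : ℂ)) = conjFun P g (θ : P → ℂ) from hg.symm,
        classInner_res_conjFun P (isClassFunction_of_isIrr χ.2)]
      exact hθne
    exact hfaith x (res_eq_degree_of_constituent_one P χ.2 h0 x hx)
  have htle : t + 1 ≤ n := by
    have h : orbit P θ ⊆ Finset.univ.erase irrOne := fun ψ hψ =>
      Finset.mem_erase.2 ⟨hne1 ψ hψ, Finset.mem_univ _⟩
    have := Finset.card_le_card h
    rw [Finset.card_erase_of_mem (Finset.mem_univ _), Finset.card_univ, hcardI] at this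
    omega
  have ht0 : 0 < t := Finset.card_pos.2 ⟨θ, self_mem_orbit P θ⟩
  have hmet : mP = e * e * t := by
    have h : Cfsg.classInner (fun x : P => (χ : G → ℂ) x) (fun x : P => (χ : G → ℂ) x) =
        ((e * e * t : ℕ) : ℂ) := by
      have hr : (fun x : P => (χ : G → ℂ) x) = (e : ℂ) • ∑ ψ ∈ orbit P θ, (ψ : P → ℂ) :=
        funext fun x => by simpa [Finset.sum_apply] using hres' x
      rw [hr, classInner_smul_left, classInner_smul_right, classInner_sum_left,
        Finset.sum_congr rfl fun ψ hψ => by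
          rw [classInner_sum_right, Finset.sum_eq_single ψ
            (fun φ _ hne => classInner_irr_ne ψ.2 φ.2 fun h => hne (Subtype.ext h.symm))
            (fun h => absurd hψ h), classInner_irr_self ψ.2],
        Finset.sum_const, ← ht, Complex.conj_natCast]
      push_cast
      simp [mul_assoc]
    exact_mod_cast (hmP.symm.trans h)
  have hkey : e = 1 ∧ t + 1 = n := by
    rw [hmet, hde] at hmPeq
    have he0 : 0 < e := Nat.pos_of_ne_zero fun h => by simp [h] at hde; omega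
    have e1 : (n : ℤ) * (e * e * t) + 1 = (e * t) ^ 2 + n := by exact_mod_cast hmPeq
    have ht' : (1 : ℤ) ≤ t := by exact_mod_cast ht0
    have htn : (t : ℤ) + 1 ≤ n := by exact_mod_cast htle
    have he' : (1 : ℤ) ≤ e := by exact_mod_cast he0
    have hA : 0 ≤ ((t : ℤ) - 1) * ((n : ℤ) - t - 1) := mul_nonneg (by linarith) (by linarith)
    have hB : 0 < (t : ℤ) * ((n : ℤ) - t) := mul_pos (by linarith) (by linarith)
    have hsum : ((e : ℤ) * e - 1) * ((t : ℤ) * ((n : ℤ) - t)) + ((t : ℤ) - 1) * ((n : ℤ) - t - 1) = 0 := by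
      linear_combination e1
    have hC : 0 ≤ ((e : ℤ) * e - 1) * ((t : ℤ) * ((n : ℤ) - t)) := mul_nonneg (by nlinarith) hB.le
    have h1 : ((e : ℤ) * e - 1) * ((t : ℤ) * ((n : ℤ) - t)) = 0 := by linarith
    have h2 : ((t : ℤ) - 1) * ((n : ℤ) - t - 1) = 0 := by linarith
    have h3 : (e : ℤ) * e = 1 := by
      rcases mul_eq_zero.1 h1 with h | h <;> linarith
    have he1 : e = 1 := Nat.eq_one_of_mul_eq_one_right (by exact_mod_cast h3 : e * e = 1)
    refine ⟨he1, ?_⟩
    rcases mul_eq_zero.1 h2 with h | h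
    · exfalso
      have : t = 1 := by omega
      rw [he1, this] at hde
      omega
    · omega
  obtain ⟨rfl, htn⟩ := hkey
  rw [one_mul] at hde
  have horbit : orbit P θ = Finset.univ.erase irrOne := by
    refine Finset.eq_of_subset_of_card_le
      (fun ψ hψ => Finset.mem_erase.2 ⟨hne1 ψ hψ, Finset.mem_univ _⟩) ?_
    rw [Finset.card_erase_of_mem (Finset.mem_univ _), Finset.card_univ, hcardI]
    omega
  have hmult : ∀ μ : Cfsg.IrrCharacter P, Cfsg.classInner (fun x : P => (χ : G → ℂ) x) (μ : P → ℂ) =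
      if μ = irrOne then 0 else 1 := by
    intro μ
    have hr : (fun x : P => (χ : G → ℂ) x) = ∑ ψ ∈ orbit P θ, (ψ : P → ℂ) :=
      funext fun x => by rw [hres', Nat.cast_one, one_mul, Finset.sum_apply]
    rw [hr, classInner_sum_left]
    simp only [classInner_irrCharacter]
    rw [Finset.sum_ite_eq', horbit]
    by_cases h : μ = irrOne <;> simp [h]
  have htrans : ∀ μ ν : Cfsg.IrrCharacter P, μ ≠ irrOne → ν ≠ irrOne →
      ∃ g : G, conjFun P g (μ : P → ℂ) = ν := by
    intro μ ν hμ hν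
    obtain ⟨a, ha⟩ := (mem_orbit P).1 (horbit ▸ Finset.mem_erase.2 ⟨hμ, Finset.mem_univ _⟩ : μ ∈ orbit P θ)
    obtain ⟨b, hb⟩ := (mem_orbit P).1 (horbit ▸ Finset.mem_erase.2 ⟨hν, Finset.mem_univ _⟩ : ν ∈ orbit P θ)
    exact ⟨a⁻¹ * b, by rw [← conjFun_conjFun, ← ha, conjFun_inv_conjFun, hb]⟩
  -- `P` is elementary abelian
  have helem : ∀ x ∈ P, x ^ p = 1 := by
    let f := linearHom (isCharacter_of_isIrr θ.2) hθ1
    have hfne : f ≠ 1 := fun h => hne1 θ (self_mem_orbit P θ) (Subtype.ext (funext fun z => by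
      show (f z : ℂ) = 1
      rw [h]; simp))
    have hfpow : ∃ j, ∀ z, f z ^ p ^ j = 1 := ⟨k, fun z => by
      rw [← map_pow, ← hk, hn, pow_card_eq_one', map_one]⟩
    let j := Nat.find hfpow
    have hj := Nat.find_spec hfpow
    have hj0 : j ≠ 0 := fun h => hfne (MonoidHom.ext fun z => by
      have := hj z
      rw [show Nat.find hfpow = 0 from h, pow_zero, pow_one] at this
      rw [this]; rfl)
    let f' : P →* ℂˣ := (powMonoidHom (p ^ (j - 1))).comp f
    let μ₀ : Cfsg.IrrCharacter P := ⟨fun z => (f' z : ℂ), isIrrCharacter_units_hom f'⟩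
    have hμp : ∀ z, (μ₀ : P → ℂ) z ^ p = 1 := fun z => by
      show ((f' z : ℂˣ) : ℂ) ^ p = 1
      rw [← Units.val_pow_eq_pow_val, show f' z ^ p = 1 from ?_, Units.val_one]
      show (f z ^ p ^ (j - 1)) ^ p = 1
      rw [← pow_mul, ← pow_succ, show j - 1 + 1 = j by omega]
      exact hj z
    have hμne : μ₀ ≠ irrOne := fun h => Nat.find_min hfpow (show j - 1 < j by omega) fun z => Units.ext (by
      have := congrFun (congrArg Subtype.val h) z
      simpa [μ₀, f', irrOne_apply] using this)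
    intro x hx
    refine congrArg Subtype.val (hkill (⟨x, hx⟩ ^ p) fun ψ hψ => ?_)
    obtain ⟨g, hg⟩ := htrans μ₀ ψ hμne (hne1 ψ hψ)
    have hz : ∀ (z : P) (m : ℕ), (ψ : P → ℂ) (z ^ m) = (ψ : P → ℂ) z ^ m := fun z m => by
      induction m with
      | zero => simp [hlin]
      | succ m ih => rw [pow_succ, linear_map_mul (isCharacter_of_isIrr ψ.2) (hlin ψ), ih, pow_succ]
    rw [hz, ← hg, conjFun_apply, hμp]
  have hPC : P ≤ Subgroup.centralizer (P : Set G) := fun x hx =>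
    Subgroup.mem_centralizer_iff.2 fun y hy => congrArg Subtype.val (hPcomm ⟨y, hy⟩ ⟨x, hx⟩)
  -- the centraliser of `P`
  set C := Subgroup.centralizer (P : Set G) with hC
  have := Fintype.ofFinite C
  have hPc : ∀ x : P, (⟨x, hPC x.2⟩ : C) ∈ Subgroup.center C := fun x => Subgroup.mem_center_iff.2 fun c =>
    Subtype.ext ((Subgroup.mem_centralizer_iff.1 c.2 x x.2).symm)
  obtain ⟨η₀, hη₀, hηne⟩ := exists_constituent (isCharacter_res C hχc) fun h =>
    irr_one_ne_zero χ.2 (by simpa using congrFun h 1)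
  let η : Cfsg.IrrCharacter C := ⟨η₀, hη₀⟩
  obtain ⟨e', he'⟩ := classInner_char_nat (isCharacter_res C hχc) (isCharacter_of_isIrr hη₀)
  have hresC : ∀ c : C, (χ : G → ℂ) c = (e' : ℂ) * ∑ ψ ∈ orbit C η, (ψ : C → ℂ) c := fun c => by
    have h := congrFun (res_eq_smul_sum_orbit C χ.2 η hηne) c
    rw [show Cfsg.classInner (fun x : C => (χ : G → ℂ) x) (η : C → ℂ) = (e' : ℂ) from he'] at h
    simpa [Finset.sum_apply] using h
  let r : Cfsg.IrrCharacter C → P → ℂ := fun ψ x => (ψ : C → ℂ) ⟨x, hPC x.2⟩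
  have hrc : ∀ ψ, Cfsg.IsCharacter P (r ψ) := fun ψ =>
    isCharacter_comp (isCharacter_of_isIrr ψ.2) (Subgroup.inclusion hPC)
  choose b hb hb' using fun ψ => char_decomp (hrc ψ)
  have hsumb : ∀ μ : Cfsg.IrrCharacter P,
      ((e' * ∑ ψ ∈ orbit C η, b ψ μ : ℕ) : ℂ) = if μ = irrOne then 0 else 1 := by
    intro μ
    rw [← hmult μ, show (fun x : P => (χ : G → ℂ) x) = (e' : ℂ) • ∑ ψ ∈ orbit C η, r ψ from
      funext fun x => by simpa [Finset.sum_apply, r] using hresC ⟨x, hPC x.2⟩,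
      classInner_smul_left, classInner_sum_left]
    simp only [hb']
    push_cast
    rfl
  have hble : ∀ ψ ∈ orbit C η, ∀ μ, e' * b ψ μ ≤ 1 := fun ψ hψ μ => by
    have h : e' * b ψ μ ≤ e' * ∑ φ ∈ orbit C η, b φ μ :=
      Nat.mul_le_mul_left _ (Finset.single_le_sum (fun φ _ => Nat.zero_le (b φ μ)) hψ)
    refine h.trans ?_
    have h' := hsumb μ
    split at h' <;> · norm_cast at h'; omega
  have hψfacts : ∀ ψ ∈ orbit C η, e' = 1 ∧ (ψ : C → ℂ) 1 = 1 := by
    intro ψ hψ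
    obtain ⟨m', hm'0, hm'⟩ := exists_degree_pos ψ.2
    have hsum : m' = ∑ μ, b ψ μ := by
      have h := congrFun (hb ψ) 1
      rw [show r ψ 1 = (ψ : C → ℂ) 1 from rfl, hm'] at h
      simp only [Finset.sum_apply, Pi.smul_apply, smul_eq_mul, hlin, mul_one] at h
      exact_mod_cast h
    have hnorm : Cfsg.classInner (r ψ) (r ψ) = ((m' * m' : ℕ) : ℂ) := by
      apply mul_left_cancel₀ (card_ne_zero' (G := P))
      rw [card_mul_classInner, Finset.sum_congr rfl fun x _ => show r ψ x * conj (r ψ x) = ((m' * m' : ℕ) : ℂ) by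
        have h := char_center_mul ψ.2 (hPc x) (⟨x, hPC x.2⟩ : C)⁻¹
        rw [mul_inv_cancel, char_inv (isCharacter_of_isIrr ψ.2), hm'] at h
        push_cast
        exact h.symm]
      simp [Nat.card_eq_fintype_card]
    have hsq : m' * m' = ∑ μ, b ψ μ * b ψ μ := by
      exact_mod_cast hnorm.symm.trans (norm_eq_sum_sq (hb ψ) (hb' ψ))
    obtain ⟨μ, -, hμ⟩ : ∃ μ ∈ Finset.univ, b ψ μ ≠ 0 := Finset.exists_ne_zero_of_sum_ne_zero (by omega)
    have he0 : e' ≠ 0 := fun h => hηne (by rw [show η₀ = (η : C → ℂ) from rfl] at he'; rw [he', h, Nat.cast_zero])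
    have h1 := hble ψ hψ μ
    have he1 : e' = 1 := by
      rcases Nat.lt_or_ge e' 2 with h | h
      · omega
      · have := Nat.mul_le_mul h (Nat.pos_of_ne_zero hμ); omega
    refine ⟨he1, ?_⟩
    have hle : ∀ ν, b ψ ν * b ψ ν = b ψ ν := fun ν => by
      have := hble ψ hψ ν
      rw [he1, one_mul] at this
      interval_cases b ψ ν <;> rfl
    rw [Finset.sum_congr rfl fun ν _ => hle ν, ← hsum] at hsq
    rw [hm', (by nlinarith : m' = 1), Nat.cast_one]
  have he'1 : e' = 1 := (hψfacts η (self_mem_orbit C η)).1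
  subst he'1
  have hψ1 : ∀ ψ ∈ orbit C η, (ψ : C → ℂ) 1 = 1 := fun ψ hψ => (hψfacts ψ hψ).2
  have hrirr : ∀ ψ ∈ orbit C η, Cfsg.IsIrrCharacter P (r ψ) := fun ψ hψ =>
    isIrr_of_linear (hrc ψ) (hψ1 ψ hψ)
  have hrinj : ∀ ψ ∈ orbit C η, ∀ φ ∈ orbit C η, ψ ≠ φ → r ψ ≠ r φ := by
    intro ψ hψ φ hφ hne heq
    let μ : Cfsg.IrrCharacter P := ⟨r ψ, hrirr ψ hψ⟩
    have hbψ : b ψ μ = 1 := by
      exact_mod_cast (hb' ψ μ).symm.trans (classInner_irr_self (hrirr ψ hψ))
    have hbφ : b φ μ = 1 := by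
      have h := hb' φ μ
      rw [show r φ = (μ : P → ℂ) from heq.symm, classInner_irr_self μ.2] at h
      exact_mod_cast h.symm
    have h2 : 2 ≤ ∑ ξ ∈ orbit C η, b ξ μ := by
      rw [show (2 : ℕ) = ∑ ξ ∈ ({ψ, φ} : Finset (Cfsg.IrrCharacter C)), b ξ μ by
        rw [Finset.sum_pair hne, hbψ, hbφ]]
      exact Finset.sum_le_sum_of_subset (by
        intro ξ hξ
        rcases Finset.mem_insert.1 hξ with rfl | h
        · exact hψ
        · rw [Finset.mem_singleton.1 h]; exact hφ)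
    have h' := hsumb μ
    rw [one_mul] at h'
    split at h' <;> · norm_cast at h'; omega
  have hdC : d = (orbit C η).card := by
    have h := hresC 1
    rw [OneMemClass.coe_one, hd, Nat.cast_one, one_mul, Finset.sum_congr rfl hψ1, Finset.sum_const,
      nsmul_eq_mul, mul_one] at h
    exact_mod_cast h
  have hCcomm : ∀ a b : C, a * b = b * a := fun a b => by
    have h1 : a * b * a⁻¹ * b⁻¹ = 1 := Subtype.ext (hfaith _ (by
      rw [hresC, Nat.cast_one, one_mul, Finset.sum_congr rfl (g := fun _ => (1 : ℂ)) fun ψ hψ => ?_, Finset.sum_const,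
        nsmul_eq_mul, mul_one, ← hdC, hd]
      have hc := isCharacter_of_isIrr ψ.2
      have h1' : ∀ z : C, (ψ : C → ℂ) z * (ψ : C → ℂ) z⁻¹ = 1 := fun z => by
        rw [← linear_map_mul hc (hψ1 ψ hψ), mul_inv_cancel, hψ1 ψ hψ]
      rw [linear_map_mul hc (hψ1 ψ hψ), linear_map_mul hc (hψ1 ψ hψ), linear_map_mul hc (hψ1 ψ hψ)]
      linear_combination (ψ : C → ℂ) b * (ψ : C → ℂ) b⁻¹ * h1' a + h1' b))
    calc a * b = (a * b * a⁻¹ * b⁻¹) * (b * a) := by group
      _ = b * a := by rw [h1, one_mul]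
  have hcentral : ∀ y ∈ C, ¬ p ∣ orderOf y → y ∈ Subgroup.center G := by
    intro y hy hpy
    set F : P → ℂ := fun x => (χ : G → ℂ) (y * x) with hF
    have hFsum : F = ∑ ψ ∈ orbit C η, (ψ : C → ℂ) ⟨y, hy⟩ • r ψ := funext fun x => by
      have h := hresC (⟨y, hy⟩ * ⟨x, hPC x.2⟩)
      rw [Nat.cast_one, one_mul] at h
      rw [hF]
      simp only [Finset.sum_apply, Pi.smul_apply, smul_eq_mul]
      refine h.trans (Finset.sum_congr rfl fun ψ hψ => ?_)
      exact linear_map_mul (isCharacter_of_isIrr ψ.2) (hψ1 ψ hψ) _ _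
    have hFF : Cfsg.classInner F F = (d : ℂ) := by
      rw [hFsum, classInner_sum_left, Finset.sum_congr rfl (g := fun _ => (1 : ℂ)) fun ψ hψ => ?_,
        Finset.sum_const, ← hdC, nsmul_eq_mul, mul_one]
      rw [classInner_smul_left, classInner_sum_right, Finset.sum_eq_single ψ
        (fun φ hφ hne => by
          rw [classInner_smul_right, classInner_irr_ne (hrirr ψ hψ) (hrirr φ hφ) (hrinj ψ hψ φ hφ (Ne.symm hne)),
            mul_zero])
        (fun h => absurd hψ h), classInner_smul_right, classInner_irr_self (hrirr ψ hψ), mul_one,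
        ← char_inv (isCharacter_of_isIrr ψ.2), ← linear_map_mul (isCharacter_of_isIrr ψ.2) (hψ1 ψ hψ),
        mul_inv_cancel, hψ1 ψ hψ]
    have h1 : ∀ x ∈ (Finset.univ : Finset P).erase 1, F x * conj (F x) = 1 := by
      intro x hx
      refine hunit _ ?_
      have hcom : Commute y (x : G) := (Subgroup.mem_centralizer_iff.1 hy x x.2).symm
      obtain ⟨j, hj⟩ := IsPGroup.iff_orderOf.1 hPp x
      rw [← Subgroup.orderOf_coe] at hj
      rw [hcom.orderOf_mul_eq_mul_orderOf_of_coprime (hj ▸ ((hpp.coprime_iff_not_dvd.2 hpy).symm.pow_right j))]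
      exact (hpord x x.2 fun h => (Finset.mem_erase.1 hx).1 (Subtype.ext h)).mul_left _
    have h := card_mul_classInner F F
    rw [hFF, ← Finset.add_sum_erase _ _ (Finset.mem_univ (1 : P)), Finset.sum_congr rfl h1,
      Finset.sum_const, Finset.card_erase_of_mem (Finset.mem_univ _), Finset.card_univ,
      nsmul_eq_mul, mul_one, Nat.cast_sub (Nat.succ_le_of_lt Fintype.card_pos), ← Nat.card_eq_fintype_card,
      ← hn, Nat.cast_one, hF] at h
    simp only [OneMemClass.coe_one, mul_one] at h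
    rw [Complex.mul_conj', ← htn, ← hde] at h
    push_cast at h
    have h2 : ((‖(χ : G → ℂ) y‖ ^ 2 : ℝ) : ℂ) = (((d : ℝ) ^ 2 : ℝ) : ℂ) := by
      push_cast; linear_combination -h
    have h3 : ‖(χ : G → ℂ) y‖ = d :=
      (sq_eq_sq₀ (norm_nonneg _) (Nat.cast_nonneg d)).1 (Complex.ofReal_injective h2)
    obtain ⟨N, ρ, hρirr, hρ⟩ := χ.2
    have hN : N = d := by
      have := congrFun hρ 1
      rw [Representation.char_one, hd, Module.finrank_fin_fun] at this
      exact_mod_cast this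
    subst hN
    rw [← hρ] at h3
    obtain ⟨ω, hω⟩ := (norm_character_eq_iff ρ y).1 (by rw [h3, Module.finrank_fin_fun])
    refine Subgroup.mem_center_iff.2 fun g => ?_
    have hyg : ρ (g * y) = ρ (y * g) := by
      rw [map_mul, map_mul, hω]
      ext v
      simp [Module.End.mul_eq_comp]
    have h1 : g * y * (y * g)⁻¹ = 1 := hfaith _ (by
      rw [← hρ]
      have hone : ρ (g * y * (y * g)⁻¹) = ρ 1 := by rw [map_mul, hyg, ← map_mul, mul_inv_cancel]
      exact congrArg (LinearMap.trace ℂ (Fin N → ℂ)) hone)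
    exact mul_inv_eq_one.1 h1
  have hCPZ : C = P ⊔ Subgroup.center G := by
    refine le_antisymm (fun c hc => ?_) (sup_le hPC (Subgroup.center_le_centralizer _))
    obtain ⟨a, q, hq, hord⟩ := Nat.exists_eq_pow_mul_and_not_dvd (orderOf_pos c).ne' p hpp.ne_one
    let T : Subgroup G :=
      { carrier := {x | x ∈ C ∧ ∃ j, x ^ p ^ j = 1}
        one_mem' := ⟨one_mem C, 0, one_pow _⟩
        mul_mem' := fun {x y} ⟨hx, i, hi⟩ ⟨hy, j, hj⟩ => ⟨mul_mem hx hy, i + j, by
          have hcxy : Commute x y := congrArg Subtype.val (hCcomm ⟨x, hx⟩ ⟨y, hy⟩)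
          rw [hcxy.mul_pow, pow_add, pow_mul, hi, one_pow, one_mul, mul_comm, pow_mul, hj, one_pow]⟩
        inv_mem' := fun {x} ⟨hx, i, hi⟩ => ⟨inv_mem hx, i, by rw [inv_pow, hi, inv_one]⟩ }
    have hTn : T.Normal := ⟨fun x ⟨hx, i, hi⟩ g =>
      ⟨(inferInstance : (Subgroup.centralizer (P : Set G)).Normal).conj_mem x hx g, i,
        by rw [conj_pow, hi, mul_one, mul_inv_cancel]⟩⟩
    have hTP : T ≤ P := CfsgLib.Cores.le_pCore (hn := hTn)
      fun x => ⟨x.2.2.choose, Subtype.ext x.2.2.choose_spec⟩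
    have h1 : c ^ q ∈ P := hTP ⟨pow_mem hc _, a, by rw [← pow_mul, mul_comm, ← hord, pow_orderOf_eq_one]⟩
    have h2 : c ^ p ^ a ∈ Subgroup.center G := hcentral _ (pow_mem hc _) fun h => hq (h.trans
      (orderOf_dvd_of_pow_eq_one (by rw [← pow_mul, ← hord, pow_orderOf_eq_one])))
    have hco : Nat.gcd q (p ^ a) = 1 := ((hpp.coprime_iff_not_dvd.2 hq).symm).pow_right a
    have hgcd := Int.gcd_eq_gcd_ab (q : ℤ) ((p ^ a : ℕ) : ℤ)
    rw [Int.gcd_natCast_natCast, hco, Nat.cast_one] at hgcd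
    rw [← zpow_one c, hgcd, zpow_add, zpow_mul, zpow_mul, zpow_natCast, zpow_natCast]
    exact mul_mem (Subgroup.mem_sup_left (zpow_mem h1 _)) (Subgroup.mem_sup_right (zpow_mem h2 _))
  -- a Sylow subgroup
  obtain ⟨R⟩ : Nonempty (Sylow p G) := inferInstance
  have hPR : P ≤ (R : Subgroup G) := CfsgLib.Cores.pCore_le_sylow R
  have := Fintype.ofFinite (R : Subgroup G)
  obtain ⟨m, hm, hmeq⟩ := norm_count hroot hd (R : Subgroup G) R.2
  set v := (Nat.card G).factorization p with hv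
  have hRv : Nat.card (R : Subgroup G) = p ^ v := R.card_eq_multiplicity
  rw [hRv] at hmeq
  have hdn : d + 1 = n := by omega
  have hkv : k ≤ v := (Nat.pow_le_pow_iff_right hpp.one_lt).1 (by
    rw [← hk, ← hRv, hn]; exact Subgroup.card_le_of_le hPR)
  have hdvd : p ^ v ∣ p ^ k * (d - 1) := by
    have h : (p ^ v : ℤ) ∣ (p ^ k : ℤ) * ((d : ℤ) - 1) := ⟨(m : ℤ) - 1, by
      have e1 : (p ^ v : ℤ) * m + 1 = (d : ℤ) ^ 2 + (p ^ v : ℤ) := by exact_mod_cast hmeq
      have e2 : (d : ℤ) + 1 = (p ^ k : ℤ) := by exact_mod_cast hdn.trans hk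
      rw [← e2]
      linear_combination -e1⟩
    have h1 : ((d - 1 : ℕ) : ℤ) = (d : ℤ) - 1 := by omega
    rw [← h1] at h
    exact_mod_cast h
  have hmain : v = k ∨ (p = 2 ∧ v = k + 1) := by
    rcases Nat.lt_or_ge k v with hlt | hge
    swap
    · exact Or.inl (le_antisymm hge hkv)
    have hj : p ^ (v - k) ∣ d - 1 := by
      rw [show p ^ v = p ^ k * p ^ (v - k) by rw [← pow_add]; congr 1; omega] at hdvd
      exact (Nat.mul_dvd_mul_iff_left (pow_pos hpp.pos k)).1 hdvd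
    have hpn : p ∣ n := hk ▸ dvd_pow_self p hk0
    have hp2 : p = 2 := by
      have h1 : p ∣ d - 1 := (dvd_pow_self p (by omega)).trans hj
      have h2 : p ∣ 2 := by
        have := Nat.dvd_sub hpn h1
        rwa [show n - (d - 1) = 2 by omega] at this
      exact (Nat.prime_dvd_prime_iff_eq hpp Nat.prime_two).1 h2
    refine Or.inr ⟨hp2, ?_⟩
    by_contra hne
    subst hp2
    have h4 : 4 ∣ d - 1 := (Nat.pow_dvd_pow 2 (show 2 ≤ v - k by omega)).trans hj
    rcases k with _ | _ | k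
    · exact hk0 rfl
    · rw [pow_one] at hk; omega
    · rw [show 2 ^ (k + 1 + 1) = 4 * 2 ^ k by ring] at hk; omega
  rcases hmain with hvk | ⟨rfl, hvk⟩
  · refine Or.inl ⟨?_, ⟨⟨⟨hPcomm⟩⟩, helem⟩, hCPZ, hPZ, fun lam mu hl hl1 hlne hmu hmu1 hmune => ?_, ?_⟩
    · rw [hk, hpp.factorization_pow, Finsupp.single_eq_same, ← hvk]
    · obtain ⟨g, hg⟩ := htrans ⟨lam, isIrr_of_linear hl hl1⟩ ⟨mu, isIrr_of_linear hmu hmu1⟩
        (fun h => hlne (congrArg Subtype.val h)) (fun h => hmune (congrArg Subtype.val h))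
      exact ⟨g, fun x hx hgx => (congrFun hg ⟨x, hx⟩).symm⟩
    · show (χ : G → ℂ) 1 = (n : ℂ) - 1
      rw [hd, ← hdn]
      push_cast
      ring
  -- the exceptional case
  have h2m : 2 * m = n := by
    have e1 : ((2 : ℕ) ^ v : ℤ) * m + 1 = (d : ℤ) ^ 2 + ((2 : ℕ) ^ v : ℤ) := by exact_mod_cast hmeq
    have e2 : (d : ℤ) + 1 = (n : ℤ) := by exact_mod_cast hdn
    have e3 : ((2 : ℕ) ^ v : ℤ) = 2 * (n : ℤ) := by
      rw [hvk, hk]; push_cast; ring
    rw [e3] at e1
    have e4 : (n : ℤ) * (2 * (m : ℤ) - n) = 0 := by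
      have : (d : ℤ) = n - 1 := by linarith
      rw [this] at e1
      linear_combination e1
    rcases mul_eq_zero.1 e4 with h | h <;> omega
  have hR2n : Nat.card (R : Subgroup G) = 2 * n := by rw [hRv, hvk, hk, pow_succ, mul_comm]
  let N := P.subgroupOf (R : Subgroup G)
  have := Fintype.ofFinite N
  let eN : N ≃* P := Subgroup.subgroupOfEquivOfLe hPR
  have hNidx : N.index = 2 := by
    have h := Subgroup.card_mul_index N
    rw [show Nat.card N = n from Nat.card_congr eN.toEquiv, hR2n, mul_comm 2 n] at h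
    exact Nat.eq_of_mul_eq_mul_left (by omega) h
  have hNcomm : ∀ x ∈ N, ∀ y ∈ N, x * y = y * x := fun x hx y hy =>
    Subtype.ext (congrArg Subtype.val (hPcomm ⟨x, hx⟩ ⟨y, hy⟩) :)
  obtain ⟨a, ha, ha'⟩ := char_decomp (isCharacter_res (R : Subgroup G) hχc)
  have hNmult : ∀ μ : Cfsg.IrrCharacter P,
      ∑ ν, (a ν : ℂ) * Cfsg.classInner (fun z : N => (ν : ↥(R : Subgroup G) → ℂ) z) ((μ : P → ℂ) ∘ eN) =
        if μ = irrOne then 0 else 1 := by
    intro μ
    rw [← hmult μ, ← classInner_comp_mulEquiv eN,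
      show ((fun x : P => (χ : G → ℂ) x) ∘ eN) = ∑ ν : Cfsg.IrrCharacter (R : Subgroup G),
        (a ν : ℂ) • (fun z : N => (ν : ↥(R : Subgroup G) → ℂ) z) from funext fun z => by
          rw [show (((fun x : P => (χ : G → ℂ) x) ∘ eN) z) = (χ : G → ℂ) ((z : (R : Subgroup G)) : G) from rfl]
          simpa [Finset.sum_apply] using congrFun ha (z : (R : Subgroup G)),
      classInner_sum_left]
    simp only [classInner_smul_left]
  have hNle : ∀ (ν : Cfsg.IrrCharacter (R : Subgroup G)) (μ : Cfsg.IrrCharacter P) (c : ℕ),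
      Cfsg.classInner (fun z : N => (ν : ↥(R : Subgroup G) → ℂ) z) ((μ : P → ℂ) ∘ eN) = c → a ν * c ≤ 1 := by
    intro ν μ c hc
    have hnat : ∀ ν' : Cfsg.IrrCharacter (R : Subgroup G), ∃ c' : ℕ,
        Cfsg.classInner (fun z : N => (ν' : ↥(R : Subgroup G) → ℂ) z) ((μ : P → ℂ) ∘ eN) = c' := fun ν' =>
      classInner_char_nat (isCharacter_res N (isCharacter_of_isIrr ν'.2))
        (isCharacter_of_isIrr (isIrr_comp_mulEquiv μ.2 eN))
    choose c' hc' using hnat
    have h := hNmult μ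
    simp only [hc'] at h
    have hle : a ν * c' ν ≤ ∑ ν', a ν' * c' ν' :=
      Finset.single_le_sum (fun ν' _ => Nat.zero_le (a ν' * c' ν')) (Finset.mem_univ ν)
    have hcc : c' ν = c := by exact_mod_cast (hc' ν).symm.trans hc
    rw [← hcc]
    refine hle.trans ?_
    split at h <;> · norm_cast at h; omega
  choose g hg0 hg using fun ν : Cfsg.IrrCharacter (R : Subgroup G) => exists_degree_pos ν.2
  have hg2 : ∀ ν, g ν ≤ 2 := fun ν => by
    have h := degree_le_index_of_comm ν.2 N hNcomm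
    rw [hg, hNidx, Complex.natCast_re] at h
    exact_mod_cast h
  have ha1 : ∀ ν, a ν ≤ 1 := fun ν => by
    obtain ⟨φ, hφ, hφne⟩ := exists_constituent (isCharacter_res N (isCharacter_of_isIrr ν.2)) fun h =>
      irr_one_ne_zero ν.2 (by simpa using congrFun h 1)
    obtain ⟨c, hc⟩ := classInner_char_nat (isCharacter_res N (isCharacter_of_isIrr ν.2)) (isCharacter_of_isIrr hφ)
    have hc0 : c ≠ 0 := fun h => hφne (by rw [hc, h, Nat.cast_zero])
    have h := hNle ν ⟨φ ∘ eN.symm, isIrr_comp_mulEquiv hφ eN.symm⟩ c (by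
      rw [show ((φ ∘ eN.symm) ∘ eN : N → ℂ) = φ from funext fun z => congrArg φ (eN.symm_apply_apply z)]
      exact hc)
    exact le_trans (Nat.le_mul_of_pos_right _ (Nat.pos_of_ne_zero hc0)) h
  have hma : m = ∑ ν, a ν := by
    have h : m = ∑ ν, a ν * a ν := by exact_mod_cast hm.symm.trans (norm_eq_sum_sq ha ha')
    rw [h]
    exact Finset.sum_congr rfl fun ν _ => by have := ha1 ν; interval_cases a ν <;> rfl
  have hda : d = ∑ ν, a ν * g ν := by
    have h := congrFun ha 1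
    simp only [OneMemClass.coe_one, hd, Finset.sum_apply, Pi.smul_apply, smul_eq_mul, hg] at h
    exact_mod_cast h
  have hone : ∑ ν, a ν * (2 - g ν) = 1 := by
    have h : ∑ ν, a ν * (2 - g ν) + ∑ ν, a ν * g ν = 2 * ∑ ν, a ν := by
      rw [← Finset.sum_add_distrib, Finset.mul_sum]
      refine Finset.sum_congr rfl fun ν _ => ?_
      rw [← mul_add, Nat.sub_add_cancel (hg2 ν), mul_comm]
    rw [← hda, ← hma] at h
    omega
  have hR' : ∀ μ : Cfsg.IrrCharacter P, μ ≠ irrOne →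
      (∀ r ∈ (R : Subgroup G), conjFun P r (μ : P → ℂ) = μ) →
      ∃ ν : Cfsg.IrrCharacter (R : Subgroup G), a ν ≠ 0 ∧ g ν = 1 ∧
        (fun z : N => (ν : ↥(R : Subgroup G) → ℂ) z) = (μ : P → ℂ) ∘ eN := by
    intro μ hμ hinv
    obtain ⟨ν, -, hν⟩ : ∃ ν ∈ (Finset.univ : Finset (Cfsg.IrrCharacter (R : Subgroup G))), (a ν : ℂ) *
        Cfsg.classInner (fun z : N => (ν : ↥(R : Subgroup G) → ℂ) z) ((μ : P → ℂ) ∘ eN) ≠ 0 :=
      Finset.exists_ne_zero_of_sum_ne_zero (by rw [hNmult, if_neg hμ]; exact one_ne_zero)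
    obtain ⟨hν1, hν2⟩ := mul_ne_zero_iff.1 hν
    have hμ' := isIrr_comp_mulEquiv μ.2 eN
    obtain ⟨c, hc⟩ := classInner_char_nat (isCharacter_res N (isCharacter_of_isIrr ν.2)) (isCharacter_of_isIrr hμ')
    have ha0 : a ν ≠ 0 := by exact_mod_cast hν1
    have hc1 : c = 1 := by
      have h1 := hNle ν μ c hc
      have h0 : c ≠ 0 := fun h => hν2 (by rw [hc, h, Nat.cast_zero])
      have := Nat.le_mul_of_pos_left c (Nat.pos_of_ne_zero ha0)
      omega
    have hres := res_eq_smul_of_invariant N ν.2 hμ' (fun y => funext fun z => by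
      show (μ : P → ℂ) (eN _) = (μ : P → ℂ) (eN z)
      have := congrFun (hinv (y : G) y.2) (eN z)
      rw [conjFun_apply] at this
      exact (congrArg (μ : P → ℂ) (Subtype.ext rfl)).trans this) hν2
    rw [hc, hc1, Nat.cast_one, one_smul] at hres
    refine ⟨ν, ha0, ?_, hres⟩
    have h1 : (ν : ↥(R : Subgroup G) → ℂ) 1 = 1 := by
      have := congrFun hres 1
      simp only [OneMemClass.coe_one, Function.comp_apply, map_one, hlin μ] at this
      exact this
    exact_mod_cast (hg ν).symm.trans h1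
  have huniq : ∀ μ μ' : Cfsg.IrrCharacter P, μ ≠ irrOne → μ' ≠ irrOne →
      (∀ r ∈ (R : Subgroup G), conjFun P r (μ : P → ℂ) = μ) →
      (∀ r ∈ (R : Subgroup G), conjFun P r (μ' : P → ℂ) = μ') → μ = μ' := by
    intro μ μ' h1 h2 h3 h4
    obtain ⟨ν, hν, hνg, hνe⟩ := hR' μ h1 h3
    obtain ⟨ν', hν', hνg', hνe'⟩ := hR' μ' h2 h4
    have heq : ν = ν' := by
      by_contra hne
      have hle : ∑ ξ ∈ ({ν, ν'} : Finset (Cfsg.IrrCharacter (R : Subgroup G))), a ξ * (2 - g ξ) ≤
          ∑ ξ, a ξ * (2 - g ξ) := Finset.sum_le_sum_of_subset (Finset.subset_univ _)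
      rw [Finset.sum_pair hne, hone, hνg, hνg'] at hle
      omega
    subst heq
    refine Subtype.ext (funext fun x => ?_)
    have := congrFun (hνe.symm.trans hνe') (eN.symm x)
    simpa using this
  have helem2 : ∀ x ∈ P, x * x = 1 := fun x hx => by rw [← sq]; exact helem x hx
  obtain ⟨y, hyR, hyP⟩ : ∃ y ∈ (R : Subgroup G), y ∉ P := Set.not_subset.1 fun h => by
    have : (R : Subgroup G) = P := le_antisymm h hPR
    rw [this] at hR2n
    omega
  have hn4 : n ≤ 4 := by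
    rw [← hcardI]
    refine card_le_four P (R : Subgroup G) helem2 hyR ?_ (fun r hr => ?_) huniq
    · exact (Subgroup.mul_mem_iff_of_index_two hNidx (a := ⟨y, hyR⟩) (b := ⟨y, hyR⟩)).2 Iff.rfl
    · by_cases h : r ∈ P
      · exact Or.inl h
      · exact Or.inr ((Subgroup.mul_mem_iff_of_index_two hNidx (a := ⟨y, hyR⟩⁻¹) (b := ⟨r, hr⟩)).2
          (iff_of_false (fun h' => hyP (by simpa [N, Subgroup.mem_subgroupOf] using h')) h))
  have hn4' : n = 4 := by
    rcases k with _ | _ | _ | k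
    · exact absurd rfl hk0
    · rw [pow_one] at hk; omega
    · exact hk
    · rw [show 2 ^ (k + 1 + 1 + 1) = 8 * 2 ^ k by ring] at hk
      have := Nat.one_le_two_pow (n := k)
      omega
  have hZodd : Odd (Nat.card (Subgroup.center G)) := by
    by_contra hno
    obtain ⟨z, hz⟩ := exists_prime_orderOf_dvd_card' (G := Subgroup.center G) 2
      (Nat.not_odd_iff_even.1 hno).two_dvd
    have hz' : orderOf (z : G) = 2 := by rw [Subgroup.orderOf_coe, hz]
    have hnorm : (Subgroup.zpowers (z : G)).Normal := ⟨fun x hx g => by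
      have hxc : x ∈ Subgroup.center G := Subgroup.zpowers_le.2 z.2 hx
      rw [Subgroup.mem_center_iff.1 hxc g, mul_inv_cancel_right]
      exact hx⟩
    have hzP : (z : G) ∈ P := CfsgLib.Cores.le_pCore (hn := hnorm)
      (IsPGroup.of_card (n := 1) (by rw [Nat.card_zpowers, hz', pow_one])) (Subgroup.mem_zpowers _)
    have : (z : G) ∈ P ⊓ Subgroup.center G := ⟨hzP, z.2⟩
    rw [hPZ, Subgroup.mem_bot] at this
    rw [this, orderOf_one] at hz'
    omega
  refine Or.inr ⟨rfl, hZodd, s4_case P (R : Subgroup G) (hn.symm.trans hn4') helem2 hPR (by omega) hCPZ hPZ hZodd ?_⟩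
  have hle : C ≤ inertia P (θ : P → ℂ) := fun c hc => funext fun x => by
    rw [conjFun_apply]
    refine congrArg _ (Subtype.ext ?_)
    show c * x * c⁻¹ = x
    rw [← Subgroup.mem_centralizer_iff.1 hc x x.2, mul_inv_cancel_right]
  have h3 : (inertia P (θ : P → ℂ)).index = 3 := by rw [← card_orbit_eq_index, ← ht]; omega
  exact h3 ▸ Subgroup.index_dvd_of_le hle

end Cfsg.Agent.S4751
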