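import Cfsg.Statements.S4754
import Cfsg.Agent.Lib.CharBlocks.ClassMul

set_option autoImplicit false
open Cfsg

namespace Cfsg.Agent.S4754

theorem avg_eq {G : Type*} [Group G] [Fintype G] (x y : G) (χ : IrrCharacter G) {v : ℂ}
    (h : ∀ a : G, (χ : G → ℂ) (a * x * a⁻¹ * y) = v) :
    (χ : G → ℂ) 1 * v = (χ : G → ℂ) x * (χ : G → ℂ) y := by
  have h0 := CfsgLib.CharBlocks.sum_conj_mul χ.2 x y
  simp only [h, Finset.sum_const, Finset.card_univ, nsmul_eq_mul, ← Nat.card_eq_fintype_card] at h0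
  refine mul_left_cancel₀ (CfsgLib.Char.card_ne_zero' (G := G)) ?_
  linear_combination h0

/-- For elements x, y of a finite group G, the conjugacy class of x y equals the set of all products of a conjugate of x with a conjugate of y if and only if χ(1) χ(a x a⁻¹ b y b⁻¹) = χ(x) χ(y) for all a, b ∈ G and every irreducible character χ. -/
theorem result {G : Type*} [Group G] [Finite G] (x y : G) : (∀ z : G, IsConj (x * y) z ↔ ∃ a b : G, z = a * x * a⁻¹ * (b * y * b⁻¹)) ↔ ∀ (a b : G) (χ : Cfsg.IrrCharacter G), (χ : G → ℂ) 1 * (χ : G → ℂ) (a * x * a⁻¹ * (b * y * b⁻¹)) = (χ : G → ℂ) x * (χ : G → ℂ) y := by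
  classical
  have := Fintype.ofFinite G
  constructor
  · intro h a b χ
    have hv : ∀ a b : G, (χ : G → ℂ) (a * x * a⁻¹ * (b * y * b⁻¹)) = (χ : G → ℂ) (x * y) := fun a b =>
      (CfsgLib.Char.isClassFunction_iff.mp (CfsgLib.Char.isClassFunction_of_isIrr χ.2) _ _
        ((h _).mpr ⟨a, b, rfl⟩)).symm
    rw [hv, avg_eq x y χ (fun c => by simpa using hv c 1)]
  · intro h z
    have hconj : ∀ a b : G, IsConj (x * y) (a * x * a⁻¹ * (b * y * b⁻¹)) := fun a b =>
      (CfsgLib.Char.isConj_iff_forall_irr _ _).mpr fun χ => by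
        have h1 := h a b χ
        have h2 := h 1 1 χ
        simp only [one_mul, inv_one, mul_one] at h2
        exact mul_left_cancel₀ (CfsgLib.Char.irr_one_ne_zero χ.2) (h2.trans h1.symm)
    refine ⟨fun hz => ?_, fun ⟨a, b, e⟩ => e ▸ hconj a b⟩
    obtain ⟨c, rfl⟩ := isConj_iff.mp hz
    exact ⟨c, c, by group⟩

end Cfsg.Agent.S4754
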