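import Cfsg.Statements.S4755
import Cfsg.Agent.Lib.CharBlocks.ClassMul
import Cfsg.Agent.Lib.Char.Linear

set_option autoImplicit false
open Cfsg
open scoped commutatorElement

namespace Cfsg.Agent.S4755

/-- Let x, y be non-identity elements of the finite group G such that χ(x' y') = χ(x') χ(y') for all conjugates x' of x, y' of y and every irreducible character χ. Then the conjugacy class of x y is the set of all products of a conjugate of x with a conjugate of y; every irreducible character of degree greater than 1 vanishes at x y; and the conjugacy class of x y is the coset of the commutator subgroup containing x y. -/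
theorem result {G : Type*} [Group G] [Finite G] (x y : G) (hx : x ≠ 1) (hy : y ≠ 1) (h : ∀ (a b : G) (χ : Cfsg.IrrCharacter G), (χ : G → ℂ) (a * x * a⁻¹ * (b * y * b⁻¹)) = (χ : G → ℂ) (a * x * a⁻¹) * (χ : G → ℂ) (b * y * b⁻¹)) : (∀ z : G, IsConj (x * y) z ↔ ∃ a b : G, z = a * x * a⁻¹ * (b * y * b⁻¹)) ∧ (∀ χ : Cfsg.IrrCharacter G, (χ : G → ℂ) 1 ≠ 1 → (χ : G → ℂ) (x * y) = 0) ∧ (∀ z : G, IsConj (x * y) z ↔ (x * y)⁻¹ * z ∈ commutator G) := by
  classical
  have := Fintype.ofFinite G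
  have hcf : ∀ (χ : IrrCharacter G) (a z : G), (χ : G → ℂ) (a * z * a⁻¹) = (χ : G → ℂ) z :=
    fun χ a z => CfsgLib.Char.isClassFunction_of_isIrr χ.2 z a
  have hval : ∀ (a b : G) (χ : IrrCharacter G),
      (χ : G → ℂ) (a * x * a⁻¹ * (b * y * b⁻¹)) = (χ : G → ℂ) (x * y) := by
    intro a b χ
    have h1 := h a b χ
    have h2 := h 1 1 χ
    simp only [one_mul, inv_one, mul_one] at h2
    rw [h1, hcf, hcf, h2]
  have hz : ∀ z : G, IsConj (x * y) z ↔ ∃ a b : G, z = a * x * a⁻¹ * (b * y * b⁻¹) := fun z => by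
    refine ⟨fun hz => ?_, fun ⟨a, b, e⟩ => e ▸
      (CfsgLib.Char.isConj_iff_forall_irr _ _).mpr fun χ => (hval a b χ).symm⟩
    obtain ⟨c, rfl⟩ := isConj_iff.mp hz
    exact ⟨c, c, by group⟩
  have hzero : ∀ χ : IrrCharacter G, (χ : G → ℂ) 1 ≠ 1 → (χ : G → ℂ) (x * y) = 0 := by
    intro χ hne
    have h2 := h 1 1 χ
    simp only [one_mul, inv_one, mul_one] at h2
    have h3 := CfsgLib.CharBlocks.sum_conj_mul χ.2 x y
    have hv : ∀ a : G, (χ : G → ℂ) (a * x * a⁻¹ * y) = (χ : G → ℂ) (x * y) := fun a => by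
      simpa using hval a 1 χ
    simp only [hv, Finset.sum_const, Finset.card_univ, nsmul_eq_mul, ← Nat.card_eq_fintype_card] at h3
    have h5 : (Nat.card G : ℂ) * (((χ : G → ℂ) 1 - 1) * (χ : G → ℂ) (x * y)) = 0 := by
      linear_combination h3 - (Nat.card G : ℂ) * h2
    exact (mul_eq_zero.mp ((mul_eq_zero.mp h5).resolve_left (CfsgLib.Char.card_ne_zero' (G := G)))).resolve_left
      (sub_ne_zero.mpr hne)
  refine ⟨hz, hzero, fun z => ⟨fun hc => ?_, fun hc => ?_⟩⟩
  · obtain ⟨c, rfl⟩ := isConj_iff.mp hc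
    rw [show (x * y)⁻¹ * (c * (x * y) * c⁻¹) = ⁅(x * y)⁻¹, c⁆ by rw [commutatorElement_def]; group]
    exact Subgroup.commutator_mem_commutator (Subgroup.mem_top _) (Subgroup.mem_top _)
  -- the class of `xy` fills the coset
  set w := x * y
  have hlin : ∀ χ : IrrCharacter G, (χ : G → ℂ) 1 = 1 →
      (χ : G → ℂ) w * starRingEnd ℂ ((χ : G → ℂ) z) = 1 := by
    intro χ h1
    let f := CfsgLib.Char.linearHom (CfsgLib.Char.isCharacter_of_isIrr χ.2) h1
    have hf : ∀ g, ((f g : ℂˣ) : ℂ) = (χ : G → ℂ) g := fun g => rfl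
    have hk : f (w⁻¹ * z) = 1 := MonoidHom.mem_ker.mp (Abelianization.commutator_subset_ker f hc)
    rw [map_mul, map_inv, inv_mul_eq_one] at hk
    have hwz : (χ : G → ℂ) z = (χ : G → ℂ) w := by rw [← hf, ← hf, hk]
    rw [hwz, ← CfsgLib.Char.char_inv (CfsgLib.Char.isCharacter_of_isIrr χ.2), ← hf, ← hf, ← Units.val_mul,
      ← map_mul, mul_inv_cancel, map_one, Units.val_one]
  have hs := CfsgLib.Char.second_orthogonality w z
  rw [← Finset.sum_subset (Finset.subset_univ (Finset.univ.filter fun χ : IrrCharacter G => (χ : G → ℂ) 1 = 1))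
      (fun χ _ hχ => by rw [hzero χ (fun h1 => hχ (by simp [h1])), zero_mul]),
    Finset.sum_congr rfl (fun χ hχ => hlin χ (Finset.mem_filter.mp hχ).2), Finset.sum_const, nsmul_one] at hs
  by_contra hne
  rw [if_neg hne, Nat.cast_eq_zero, Finset.card_eq_zero] at hs
  have : (CfsgLib.Char.irrOne : IrrCharacter G) ∈ Finset.univ.filter fun χ : IrrCharacter G => (χ : G → ℂ) 1 = 1 :=
    Finset.mem_filter.mpr ⟨Finset.mem_univ _, rfl⟩
  rw [hs] at this
  exact Finset.notMem_empty _ this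

end Cfsg.Agent.S4755
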