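import Cfsg.Statements.S4756
import Cfsg.Agent.Lib.Blocks.GroupAlgebra
import Cfsg.Agent.Lib.Char.Linear
import Cfsg.Agent.Lib.Solvable.FrobeniusComplement
import Mathlib.GroupTheory.SchurZassenhaus

set_option autoImplicit false
open Cfsg

namespace Cfsg.Agent.S4756

open CfsgLib.Char
open scoped ComplexConjugate commutatorElement

section
variable {G : Type*} [Group G] [Fintype G]

/-- The centraliser is as small as possible iff all non-linear characters vanish. -/
theorem card_centralizer_eq_iff (g : G) :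
    (Nat.card (Subgroup.centralizer ({g} : Set G)) = (commutator G).index) ↔
      ∀ χ : IrrCharacter G, (χ : G → ℂ) 1 ≠ 1 → (χ : G → ℂ) g = 0 := by
  classical
  set Lin := Finset.univ.filter fun χ : IrrCharacter G => (χ : G → ℂ) 1 = 1 with hLin
  have hc : Lin.card = (commutator G).index := by
    rw [← card_linear (G := G), Nat.card_eq_fintype_card, Fintype.card_subtype]
  have hu : ∀ χ ∈ Lin, (χ : G → ℂ) g * conj ((χ : G → ℂ) g) = 1 := by
    intro χ hχ
    have h1 := (Finset.mem_filter.1 hχ).2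
    have hC := isCharacter_of_isIrr χ.2
    rw [← char_inv hC, ← linear_map_mul hC h1, mul_inv_cancel, h1]
  have hs := second_orthogonality g g
  rw [if_pos (IsConj.refl g), ← Finset.sum_filter_add_sum_filter_not Finset.univ
    (fun χ : IrrCharacter G => (χ : G → ℂ) 1 = 1), Finset.sum_congr rfl hu, Finset.sum_const,
    nsmul_eq_mul, mul_one, hc] at hs
  constructor
  · intro h χ hχ
    rw [h] at hs
    have hs2 : ∑ x ∈ Finset.univ.filter (fun x : IrrCharacter G => ¬ (x : G → ℂ) 1 = 1),
        (x : G → ℂ) g * conj ((x : G → ℂ) g) = 0 := by linear_combination hs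
    have hs3 : ∑ x ∈ Finset.univ.filter (fun x : IrrCharacter G => ¬ (x : G → ℂ) 1 = 1),
        Complex.normSq ((x : G → ℂ) g) = 0 := by
      simp only [Complex.mul_conj] at hs2
      exact_mod_cast hs2
    exact Complex.normSq_eq_zero.1 ((Finset.sum_eq_zero_iff_of_nonneg fun x _ => Complex.normSq_nonneg _).1
      hs3 χ (Finset.mem_filter.2 ⟨Finset.mem_univ _, hχ⟩))
  · intro h
    rw [Finset.sum_eq_zero (s := Finset.univ.filter (fun x : IrrCharacter G => ¬ (x : G → ℂ) 1 = 1))
      (fun x hx => by rw [h x (Finset.mem_filter.1 hx).2, zero_mul]), add_zero] at hs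
    exact_mod_cast hs.symm

/-- A centraliser is at least as large as the abelianisation. -/
theorem index_le_card_centralizer (g : G) :
    (commutator G).index ≤ Nat.card (Subgroup.centralizer ({g} : Set G)) := by
  have h1 := card_isConj_mul_card_centralizer g
  have hle : Nat.card {x : G // IsConj g x} ≤ Nat.card (commutator G) := by
    refine Nat.card_le_card_of_injective (fun x => ⟨x.1 * g⁻¹, ?_⟩) fun a b h => ?_
    · obtain ⟨u, hu⟩ := isConj_iff.1 x.2
      rw [← hu, show u * g * u⁻¹ * g⁻¹ = ⁅u, g⁆ from rfl]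
      exact Subgroup.commutator_mem_commutator (Subgroup.mem_top u) (Subgroup.mem_top g)
    · exact Subtype.ext (mul_right_cancel (congrArg Subtype.val h))
  have h2 := (commutator G).index_mul_card
  by_contra hlt
  push Not at hlt
  have h3 : Nat.card {x : G // IsConj g x} * Nat.card (Subgroup.centralizer ({g} : Set G)) <
      Nat.card (commutator G) * (commutator G).index :=
    lt_of_le_of_lt (Nat.mul_le_mul_right _ hle) ((Nat.mul_lt_mul_left Nat.card_pos).2 hlt)
  rw [h1, mul_comm, h2] at h3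
  exact lt_irrefl _ h3

/-- In the minimal case the class is the whole coset of the derived subgroup. -/
theorem isConj_of_coset (g : G)
    (h : Nat.card (Subgroup.centralizer ({g} : Set G)) = (commutator G).index) (x : G)
    (hx : x * g⁻¹ ∈ commutator G) : IsConj g x := by
  have h1 := card_isConj_mul_card_centralizer g
  rw [h, ← (commutator G).index_mul_card, mul_comm] at h1
  have hcard : Nat.card {x : G // IsConj g x} = Nat.card (commutator G) :=
    Nat.eq_of_mul_eq_mul_left (Nat.pos_of_ne_zero Subgroup.index_ne_zero_of_finite) h1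
  let f : {x : G // IsConj g x} → commutator G := fun x => ⟨x.1 * g⁻¹, by
    obtain ⟨u, hu⟩ := isConj_iff.1 x.2
    rw [← hu, show u * g * u⁻¹ * g⁻¹ = ⁅u, g⁆ from rfl]
    exact Subgroup.commutator_mem_commutator (Subgroup.mem_top u) (Subgroup.mem_top g)⟩
  have hf : Function.Bijective f := (Nat.bijective_iff_injective_and_card f).2
    ⟨fun a b e => Subtype.ext (mul_right_cancel (congrArg Subtype.val e)), hcard⟩
  obtain ⟨y, hy⟩ := hf.2 ⟨_, hx⟩
  exact mul_right_cancel (congrArg Subtype.val hy) ▸ y.2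

end

theorem coprime_pow_orders {G : Type*} [Group G] {x y : G} {p q a b : ℕ} (hp : p.Prime)
    (hq : q.Prime) (hpq : p ≠ q) (ha : orderOf x = p ^ a) (hb : orderOf y = q ^ b) :
    Nat.Coprime (orderOf x) (orderOf y) := by
  rw [ha, hb]; exact Nat.Coprime.pow _ _ ((Nat.coprime_primes hp hq).2 hpq)


/-- For a finite group G the following are equivalent. (1) χ(x y) = χ(x) χ(y) for every irreducible character χ and all non-identity elements x, y of prime power orders for two different primes. (2) G is a p-group for some prime p, or G is abelian, or for some prime p: G = A P with P a normal Sylow p-subgroup and A a nontrivial cyclic subgroup of order prime to p such that, with C = C_P(A) and D = [A, P], one has P = C D, C abelian, D normal in G, C ∩ D = 1, and A acts fixed-point-freely on D (no non-identity element of A centralizes a non-identity element of D). -/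
theorem result {G : Type*} [Group G] [Finite G] : (∀ (x y : G) (χ : Cfsg.IrrCharacter G), x ≠ 1 → y ≠ 1 → (∃ p q a b : ℕ, p.Prime ∧ q.Prime ∧ p ≠ q ∧ orderOf x = p ^ a ∧ orderOf y = q ^ b) → (χ : G → ℂ) (x * y) = (χ : G → ℂ) x * (χ : G → ℂ) y) ↔ ((∃ p : ℕ, p.Prime ∧ IsPGroup p G) ∨ IsMulCommutative G ∨ ∃ (p : ℕ) (_ : Fact p.Prime) (P : Sylow p G) (A : Subgroup G), (P : Subgroup G).Normal ∧ IsCyclic ↥A ∧ A ≠ ⊥ ∧ (Nat.card ↥A).Coprime p ∧ A ⊔ (P : Subgroup G) = ⊤ ∧ IsMulCommutative ↥((P : Subgroup G) ⊓ Subgroup.centralizer (A : Set G)) ∧ (⁅A, (P : Subgroup G)⁆).Normal ∧ ((P : Subgroup G) ⊓ Subgroup.centralizer (A : Set G)) ⊔ ⁅A, (P : Subgroup G)⁆ = (P : Subgroup G) ∧ ((P : Subgroup G) ⊓ Subgroup.centralizer (A : Set G)) ⊓ ⁅A, (P : Subgroup G)⁆ = ⊥ ∧ ∀ a ∈ A, a ≠ 1 → ∀ d ∈ ⁅A, (P : Subgroup G)⁆, a * d = d * a → d = 1) := by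
  classical
  have := Fintype.ofFinite G
  constructor
  · intro h
    by_cases hpg : ∃ p : ℕ, p.Prime ∧ IsPGroup p G
    · exact Or.inl hpg
    by_cases hab : IsMulCommutative G
    · exact Or.inr (Or.inl hab)
    refine Or.inr (Or.inr ?_)
    have key : ∀ x y : G, x ≠ 1 → y ≠ 1 → (∃ p q a b : ℕ, p.Prime ∧ q.Prime ∧ p ≠ q ∧ orderOf x = p ^ a ∧
        orderOf y = q ^ b) → x * y ≠ 1 ∧ x * y ∉ commutator G ∧
        ∀ w, w * (x * y)⁻¹ ∈ commutator G → IsConj (x * y) w := by
      intro x y hx hy hord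
      obtain ⟨p, q, a, b, hp, hq, hpq, ha, hb⟩ := id hord
      have hne : x * y ≠ 1 := by
        intro e
        have e2 : x = y⁻¹ := mul_eq_one_iff_eq_inv.1 e
        have hc := coprime_pow_orders hp hq hpq ha hb
        rw [e2, orderOf_inv, Nat.coprime_self] at hc
        exact hy (orderOf_eq_one_iff.1 hc)
      have hz : Nat.card (Subgroup.centralizer ({x * y} : Set G)) = (commutator G).index := by
        refine (card_centralizer_eq_iff _).2 fun χ hχ1 => ?_
        have h1 := CfsgLib.Blocks.sum_char_mul_conj χ.2 x y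
        have h2 : ∀ g : G, (χ : G → ℂ) (x * (g * y * g⁻¹)) = (χ : G → ℂ) x * (χ : G → ℂ) y := fun g => by
          rw [h x (g * y * g⁻¹) χ hx (fun e => hy (conj_eq_one_iff.1 e)) ⟨p, q, a, b, hp, hq, hpq, ha, by
            rw [← hb]; exact orderOf_injective (MulAut.conj g).toMonoidHom (MulAut.conj g).injective y⟩,
            isClassFunction_of_isIrr χ.2 y g]
        rw [Finset.sum_congr rfl fun g _ => h2 g, Finset.sum_const, Finset.card_univ, nsmul_eq_mul,
          ← Nat.card_eq_fintype_card, eq_div_iff (irr_one_ne_zero χ.2)] at h1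
        rw [h x y χ hx hy hord]
        have h3 : (Nat.card G : ℂ) * ((χ : G → ℂ) x * (χ : G → ℂ) y) * ((χ : G → ℂ) 1 - 1) = 0 := by
          linear_combination h1
        rcases mul_eq_zero.1 h3 with h4 | h4
        · exact (mul_eq_zero.1 h4).resolve_left card_ne_zero'
        · exact absurd (sub_eq_zero.1 h4) hχ1
      refine ⟨hne, fun hmem => ?_, fun w hw => isConj_of_coset _ hz w hw⟩
      have := isConj_of_coset _ hz 1 (by rw [one_mul]; exact inv_mem hmem)
      exact hne (isConj_one_left.1 this)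
    -- the derived subgroup
    set D := commutator G with hD
    have hDne : D ≠ ⊥ := fun e => hab ⟨⟨fun a b => commutatorElement_eq_one_iff_mul_comm.1
      (Subgroup.mem_bot.1 (e ▸ Subgroup.commutator_mem_commutator (Subgroup.mem_top a) (Subgroup.mem_top b)))⟩⟩
    obtain ⟨p, hp, hpD⟩ := Nat.exists_prime_and_dvd (fun e => hDne (Subgroup.card_eq_one.1 e))
    haveI : Fact p.Prime := ⟨hp⟩
    obtain ⟨⟨x₀, hx₀D⟩, hx₀⟩ := exists_prime_orderOf_dvd_card' (G := D) p hpD
    rw [Subgroup.orderOf_mk] at hx₀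
    have hx₀1 : x₀ ≠ 1 := fun e => by rw [e, orderOf_one] at hx₀; exact hp.ne_one hx₀.symm
    have hDp : IsPGroup p D := by
      refine IsPGroup.of_card (n := (Nat.card D).primeFactorsList.length)
        (Nat.eq_prime_pow_of_unique_prime_dvd Nat.card_pos.ne' fun {r} hr hrd => ?_)
      by_contra hne
      haveI : Fact r.Prime := ⟨hr⟩
      obtain ⟨⟨y, hyD⟩, hy⟩ := exists_prime_orderOf_dvd_card' (G := D) r hrd
      rw [Subgroup.orderOf_mk] at hy
      exact (key x₀ y hx₀1 (fun e => by rw [e, orderOf_one] at hy; exact hr.ne_one hy.symm)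
        ⟨p, r, 1, 1, hp, hr, Ne.symm hne, by rw [hx₀, pow_one], by rw [hy, pow_one]⟩).2.1 (mul_mem hx₀D hyD)
    obtain ⟨P, hP⟩ := hDp.exists_le_sylow
    have hPn : (P : Subgroup G).Normal := ⟨fun u hu g => by
      have : g * u * g⁻¹ = ⁅g, u⁆ * u := by rw [commutatorElement_def]; group
      rw [this]
      exact mul_mem (hP (Subgroup.commutator_mem_commutator (Subgroup.mem_top g) (Subgroup.mem_top u))) hu⟩
    obtain ⟨H, hH⟩ := Subgroup.exists_right_complement'_of_coprime (P.card_coprime_index)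
    have hsupHP : H ⊔ (P : Subgroup G) = ⊤ := by rw [sup_comm]; exact hH.sup_eq_top
    have hHcard : Nat.card H = (P : Subgroup G).index := hH.symm.index_eq_card.symm
    have hHcop : Nat.Coprime (Nat.card H) p := by
      rw [hHcard]
      exact ((hp.coprime_iff_not_dvd).2 P.not_dvd_index).symm
    have hinfPH : (P : Subgroup G) ⊓ H = ⊥ := disjoint_iff.1 hH.disjoint
    have hHc : ∀ a ∈ H, ∀ b ∈ H, a * b = b * a := fun a ha b hb => by
      refine commutatorElement_eq_one_iff_mul_comm.1 (Subgroup.mem_bot.1 (hinfPH ▸ ⟨hP ?_, ?_⟩))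
      · exact Subgroup.commutator_mem_commutator (Subgroup.mem_top a) (Subgroup.mem_top b)
      · exact H.mul_mem (H.mul_mem (H.mul_mem ha hb) (H.inv_mem ha)) (H.inv_mem hb)
    have hHne : H ≠ ⊥ := by
      intro e
      rw [e, Subgroup.card_bot] at hHcard
      exact hpg ⟨p, hp, (show IsPGroup p (⊤ : Subgroup G) from
        (Subgroup.index_eq_one.1 hHcard.symm) ▸ P.2).of_equiv Subgroup.topEquiv⟩
    have hdec : ∀ g : G, ∃ u ∈ (P : Subgroup G), ∃ a ∈ H, g = u * a := fun g => by
      obtain ⟨⟨⟨u, hu⟩, ⟨a, ha⟩⟩, hg⟩ := hH.2 g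
      exact ⟨u, hu, a, ha, hg.symm⟩
    -- elements of prime order in H
    have hy : ∀ y ∈ H, (orderOf y).Prime → (∀ d ∈ D, ∃ u ∈ (P : Subgroup G), d = ⁅u, y⁆) ∧
        (∀ d ∈ D, d * y = y * d → d = 1) := by
      intro y hyH hyq
      have hy1 : y ≠ 1 := fun e => by rw [e, orderOf_one] at hyq; exact Nat.not_prime_one hyq
      have hyp : orderOf y ≠ p := fun e =>
        (hp.coprime_iff_not_dvd.1 hHcop.symm) (e ▸ Subgroup.orderOf_dvd_natCard H hyH)
      have hk : ∀ x ∈ D, x ≠ 1 → ∀ d ∈ D, IsConj (x * y) (d * y) := by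
        intro x hx hx1 d hd
        obtain ⟨k, hk⟩ := hDp.exists_orderOf_eq_pow ⟨x, hx⟩
        rw [Subgroup.orderOf_mk] at hk
        refine (key x y hx1 hy1 ⟨p, orderOf y, k, 1, hp, hyq, hyp.symm, hk, (pow_one _).symm⟩).2.2 _ ?_
        rw [show d * y * (x * y)⁻¹ = d * x⁻¹ by group]
        exact mul_mem hd (inv_mem hx)
      have hyd : ∀ d ∈ D, IsConj y (d * y) := fun d hd => by
        have h1 := hk x₀ hx₀D hx₀1 1 (one_mem _)
        rw [one_mul] at h1
        exact h1.symm.trans (hk x₀ hx₀D hx₀1 d hd)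
      refine ⟨fun d hd => ?_, fun d hd hdy => ?_⟩
      · obtain ⟨g, hg⟩ := isConj_iff.1 (hyd d hd)
        obtain ⟨u, hu, a, ha, rfl⟩ := hdec g
        refine ⟨u, hu, ?_⟩
        have hya : a * y * a⁻¹ = y := by rw [hHc a ha y hyH, mul_inv_cancel_right]
        rw [show u * a * y * (u * a)⁻¹ = u * (a * y * a⁻¹) * u⁻¹ by group, hya] at hg
        rw [commutatorElement_def, hg, mul_inv_cancel_right]
      · by_contra hd1
        have hc : IsConj y (d * y) := hyd d hd
        obtain ⟨g, hg⟩ := isConj_iff.1 hc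
        have ho : orderOf (d * y) = orderOf y :=
          hg ▸ orderOf_injective (MulAut.conj g).toMonoidHom (MulAut.conj g).injective y
        have hd2 : d ^ orderOf y = 1 := by
          have h1 := pow_orderOf_eq_one (d * y)
          rwa [ho, (show Commute d y from hdy).mul_pow, pow_orderOf_eq_one, mul_one] at h1
        obtain ⟨k, hk⟩ := hDp.exists_orderOf_eq_pow ⟨d, hd⟩
        rw [Subgroup.orderOf_mk] at hk
        refine hd1 (orderOf_eq_one_iff.1 (Nat.eq_one_of_dvd_coprimes ?_ (dvd_of_eq hk)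
          (orderOf_dvd_of_pow_eq_one hd2)))
        exact ((Nat.coprime_primes hp hyq).2 hyp.symm).pow_left k
    obtain ⟨r, hr, hrH⟩ := Nat.exists_prime_and_dvd (fun e => hHne (Subgroup.card_eq_one.1 e))
    haveI : Fact r.Prime := ⟨hr⟩
    obtain ⟨⟨y, hyH⟩, hy0⟩ := exists_prime_orderOf_dvd_card' (G := H) r hrH
    rw [Subgroup.orderOf_mk] at hy0
    obtain ⟨hycomm, hyfix⟩ := hy y hyH (hy0 ▸ hr)
    have hDeq : ⁅H, (P : Subgroup G)⁆ = D := by
      refine le_antisymm (Subgroup.commutator_mono le_top le_top) fun d hd => ?_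
      obtain ⟨u, hu, e⟩ := hycomm d hd
      rw [e, Subgroup.commutator_comm]
      exact Subgroup.commutator_mem_commutator hu hyH
    have hDn : D.Normal := inferInstanceAs (commutator G).Normal
    have hfpf : ∀ a ∈ H, a ≠ 1 → ∀ d ∈ D, a * d = d * a → d = 1 := by
      intro a ha ha1 d hd had
      obtain ⟨s, hs, hsd⟩ := Nat.exists_prime_and_dvd (fun e => ha1 (orderOf_eq_one_iff.1 e))
      have ho : orderOf (a ^ (orderOf a / s)) = s :=
        orderOf_pow_orderOf_div (orderOf_pos a).ne' hsd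
      exact (hy _ (pow_mem ha _) (ho.symm ▸ hs)).2 d hd ((show Commute d a from had.symm).pow_right _)
    refine ⟨p, ⟨hp⟩, P, H, hPn, ?_, hHne, hHcop, hsupHP, ?_, hDeq.symm ▸ hDn, ?_, ?_, ?_⟩
    · refine CfsgLib.Solvable.isCyclic_of_fpf hDne ?_ (fun a ha ha1 => ?_) (Or.inl hHc)
      · rw [Subgroup.normalizer_eq_top (H := D)]; exact le_top
      · rw [eq_bot_iff]
        intro d hd
        exact Subgroup.mem_bot.2 (hfpf a ha ha1 d hd.1 (Subgroup.mem_centralizer_singleton_iff.1 hd.2).symm)
    · refine ⟨⟨fun c c' => Subtype.ext ?_⟩⟩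
      refine commutatorElement_eq_one_iff_mul_comm.1 (hfpf y hyH (fun e => by
        rw [e, orderOf_one] at hy0; exact hr.ne_one hy0.symm) _
        (Subgroup.commutator_mem_commutator (Subgroup.mem_top _) (Subgroup.mem_top _)) ?_)
      exact Subgroup.mem_centralizer_iff.1
        (mul_mem (mul_mem (mul_mem c.2.2 c'.2.2) (inv_mem c.2.2)) (inv_mem c'.2.2)) y hyH
    · rw [hDeq]
      refine le_antisymm (sup_le inf_le_left hP) fun u hu => ?_
      obtain ⟨v, hv, e⟩ := hycomm ⁅u, y⁆ (Subgroup.commutator_mem_commutator (Subgroup.mem_top u) (Subgroup.mem_top y))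
      -- the map `d ↦ ⁅d, y⁆` is onto, so `u ∈ C D`
      have hbij : Function.Bijective (fun d : D => (⟨⁅(d : G), y⁆,
          Subgroup.commutator_mem_commutator (Subgroup.mem_top _) (Subgroup.mem_top _)⟩ : D)) := by
        rw [Finite.injective_iff_bijective.symm]
        intro d d' h1
        have h2 : (d : G) * y * (d : G)⁻¹ * y⁻¹ = (d' : G) * y * (d' : G)⁻¹ * y⁻¹ := congrArg Subtype.val h1
        have h3 : ((d' : G)⁻¹ * d) * y = y * ((d' : G)⁻¹ * d) := by
          have h4 := mul_right_cancel h2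
          calc ((d' : G)⁻¹ * d) * y = (d' : G)⁻¹ * ((d : G) * y * (d : G)⁻¹) * d := by group
            _ = (d' : G)⁻¹ * ((d' : G) * y * (d' : G)⁻¹) * d := by rw [h4]
            _ = y * ((d' : G)⁻¹ * d) := by group
        exact Subtype.ext (inv_mul_eq_one.1 (hyfix _ (mul_mem (inv_mem d'.2) d.2) h3)).symm
      obtain ⟨d, hd⟩ := hbij.2 ⟨⁅u, y⁆, Subgroup.commutator_mem_commutator (Subgroup.mem_top _) (Subgroup.mem_top _)⟩
      have hdy : ⁅(d : G), y⁆ = ⁅u, y⁆ := congrArg Subtype.val hd
      have hc : ((d : G)⁻¹ * u) * y = y * ((d : G)⁻¹ * u) := by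
        rw [commutatorElement_def, commutatorElement_def] at hdy
        have h4 := mul_right_cancel hdy
        calc ((d : G)⁻¹ * u) * y = (d : G)⁻¹ * (u * y * u⁻¹) * u := by group
          _ = (d : G)⁻¹ * ((d : G) * y * (d : G)⁻¹) * u := by rw [h4]
          _ = y * ((d : G)⁻¹ * u) := by group
      have hcP : (d : G)⁻¹ * u ∈ (P : Subgroup G) := mul_mem (inv_mem (hP d.2)) hu
      have hcC : (d : G)⁻¹ * u ∈ (P : Subgroup G) ⊓ Subgroup.centralizer (H : Set G) := by
        refine ⟨hcP, Subgroup.mem_centralizer_iff.2 fun a ha => ?_⟩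
        refine commutatorElement_eq_one_iff_mul_comm.1 (hyfix _
          (Subgroup.commutator_mem_commutator (Subgroup.mem_top _) (Subgroup.mem_top _)) ?_)
        have h1 : a ∈ Subgroup.centralizer ({y} : Set G) :=
          Subgroup.mem_centralizer_singleton_iff.2 (hHc a ha y hyH)
        have h2 : (d : G)⁻¹ * u ∈ Subgroup.centralizer ({y} : Set G) := Subgroup.mem_centralizer_singleton_iff.2 hc
        exact Subgroup.mem_centralizer_singleton_iff.1
          (mul_mem (mul_mem (mul_mem h1 h2) (inv_mem h1)) (inv_mem h2))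
      rw [show u = (d : G) * ((d : G)⁻¹ * u) by group]
      exact mul_mem (Subgroup.mem_sup_right d.2) (Subgroup.mem_sup_left hcC)
    · rw [hDeq, eq_bot_iff]
      intro c hc
      exact Subgroup.mem_bot.2 (hyfix c hc.2 (Subgroup.mem_centralizer_iff.1 hc.1.2 y hyH).symm)
    · rw [hDeq]; exact hfpf
  · intro h x y χ hx hy hord
    obtain ⟨r, s, a, b, hr, hs, hrs, ha, hb⟩ := hord
    have hlin : (χ : G → ℂ) 1 = 1 → (χ : G → ℂ) (x * y) = (χ : G → ℂ) x * (χ : G → ℂ) y := fun h1 =>
      linear_map_mul (isCharacter_of_isIrr χ.2) h1 x y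
    rcases h with ⟨p, hp, hG⟩ | hG | ⟨p, hp, P, A, hPn, hAcyc, -, hAp, hsup, hCc, hDn, hCD, -, hfpf⟩
    · haveI : Fact p.Prime := ⟨hp⟩
      exfalso
      have hsame : ∀ (z : G) (q c : ℕ), q.Prime → orderOf z = q ^ c → z ≠ 1 → q = p := by
        intro z q c hq hz hz1
        obtain ⟨i, hi⟩ := hG.exists_orderOf_eq_pow z
        have hc : c ≠ 0 := by rintro rfl; exact hz1 (orderOf_eq_one_iff.1 (by simpa using hz))
        have h1 : q ∣ p ^ i := by rw [← hi, hz]; exact dvd_pow_self q hc
        exact (Nat.prime_dvd_prime_iff_eq hq hp).1 (hq.dvd_of_dvd_pow h1)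
      exact hrs ((hsame x r a hr ha hx).trans (hsame y s b hs hb hy).symm)
    · exact hlin (irr_one_eq_one_of_comm hG.is_comm.comm χ.2)
    by_cases h1 : (χ : G → ℂ) 1 = 1
    · exact hlin h1
    set C := (P : Subgroup G) ⊓ Subgroup.centralizer (A : Set G)
    set D := ⁅A, (P : Subgroup G)⁆ with hD
    have hDP : D ≤ (P : Subgroup G) := Subgroup.commutator_le_right _ _
    have hdec : ∀ g : G, ∃ d ∈ D, ∃ c ∈ C, ∃ e ∈ A, g = d * c * e := by
      intro g
      have hg : g ∈ A ⊔ (P : Subgroup G) := hsup ▸ Subgroup.mem_top g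
      obtain ⟨u, hu, e, he, rfl⟩ := Subgroup.mem_sup_of_normal_left.1 (show g ∈ (P : Subgroup G) ⊔ A by rwa [sup_comm])
      rw [← hCD] at hu
      obtain ⟨d, hd, c, hc, rfl⟩ := Subgroup.mem_sup_of_normal_left.1 (show u ∈ D ⊔ C by rwa [sup_comm])
      exact ⟨d, hd, c, hc, e, he, rfl⟩
    have hcomm : commutator G ≤ D := by
      rw [commutator_def, Subgroup.commutator_le]
      intro g _ g' _
      obtain ⟨d, hd, c, hc, e, he, rfl⟩ := hdec g
      obtain ⟨d', hd', c', hc', e', he', rfl⟩ := hdec g'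
      rw [← QuotientGroup.eq_one_iff (N := D)]
      let π := QuotientGroup.mk' D
      show π ⁅d * c * e, d' * c' * e'⁆ = 1
      have hd0 : π d = 1 := (QuotientGroup.eq_one_iff d).2 hd
      have hd0' : π d' = 1 := (QuotientGroup.eq_one_iff d').2 hd'
      rw [map_commutatorElement, map_mul, map_mul, map_mul, map_mul, hd0, hd0', one_mul, one_mul,
        commutatorElement_eq_one_iff_mul_comm]
      have c1 : Commute (π c) (π c') :=
        (show Commute c c' from congrArg Subtype.val (hCc.is_comm.comm ⟨c, hc⟩ ⟨c', hc'⟩)).map π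
      have c2 : Commute (π c) (π e') :=
        (show Commute c e' from (Subgroup.mem_centralizer_iff.1 hc.2 e' he').symm).map π
      have c3 : Commute (π e) (π c') :=
        (show Commute e c' from Subgroup.mem_centralizer_iff.1 hc'.2 e he).map π
      have c4 : Commute (π e) (π e') := by
        have := hAcyc
        exact (show Commute e e' from congrArg Subtype.val (IsMulCommutative.is_comm.comm
          (⟨e, he⟩ : A) ⟨e', he'⟩)).map π
      exact ((c1.mul_right c2).mul_left (c3.mul_right c4))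
    have hvan : ∀ g : G, g ∉ (P : Subgroup G) → (χ : G → ℂ) g = 0 := by
      intro g hg
      obtain ⟨d, hd, c, hc, e, he, rfl⟩ := hdec g
      have he1 : e ≠ 1 := by
        rintro rfl
        exact hg (by rw [mul_one]; exact mul_mem (hDP hd) hc.1)
      have hce : Commute c e := (Subgroup.mem_centralizer_iff.1 hc.2 e he).symm
      have hfix : ∀ u ∈ D, Commute u (c * e) → u = 1 := by
        intro u hu huc
        have h2 := huc.pow_right (Nat.card (P : Subgroup G))
        rw [hce.mul_pow, show c ^ Nat.card (P : Subgroup G) = 1 from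
          orderOf_dvd_iff_pow_eq_one.1 (Subgroup.orderOf_dvd_natCard _ hc.1), one_mul] at h2
        refine hfpf _ (pow_mem he _) ?_ u hu h2.symm
        intro h3
        apply he1
        obtain ⟨k, hk⟩ := IsPGroup.iff_card.1 (P.2)
        refine orderOf_eq_one_iff.1 (Nat.eq_one_of_dvd_coprimes (hAp.pow_right k)
          (Subgroup.orderOf_dvd_natCard A he) (hk ▸ orderOf_dvd_of_pow_eq_one h3))
      let f : D → D := fun u => ⟨(u : G) * (c * e) * (u : G)⁻¹ * (c * e)⁻¹, by
        rw [show (u : G) * (c * e) * (u : G)⁻¹ * (c * e)⁻¹ =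
          (u : G) * ((c * e) * (u : G)⁻¹ * (c * e)⁻¹) by group]
        exact mul_mem u.2 (hDn.conj_mem _ (inv_mem u.2) _)⟩
      have hf : Function.Bijective f := by
        rw [Finite.injective_iff_bijective.symm]
        intro u v huv
        have h4 := mul_right_cancel (congrArg Subtype.val huv)
        have h5 := hfix ((v : G)⁻¹ * u) (mul_mem (inv_mem v.2) u.2) (by
          show ((v : G)⁻¹ * u) * (c * e) = (c * e) * ((v : G)⁻¹ * u)
          calc ((v : G)⁻¹ * u) * (c * e) = (v : G)⁻¹ * ((u : G) * (c * e) * (u : G)⁻¹) * u := by group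
            _ = (v : G)⁻¹ * ((v : G) * (c * e) * (v : G)⁻¹) * u := by rw [h4]
            _ = (c * e) * ((v : G)⁻¹ * u) := by group)
        exact Subtype.ext (inv_mul_eq_one.1 h5).symm
      obtain ⟨u, hu⟩ := hf.2 ⟨d, hd⟩
      have hconj : IsConj (c * e) (d * c * e) := isConj_iff.2 ⟨u, by
        rw [mul_assoc d, ← eq_mul_inv_iff_mul_eq.1 (congrArg Subtype.val hu).symm]⟩
      rw [← isClassFunction_iff.1 (isClassFunction_of_isIrr χ.2) _ _ hconj]
      refine (card_centralizer_eq_iff _).1 (le_antisymm ?_ (index_le_card_centralizer _)) χ h1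
      have h6 : Nat.card (Subgroup.centralizer ({c * e} : Set G)) * Nat.card D ≤ Nat.card G := by
        rw [← Nat.card_prod]
        refine Nat.card_le_card_of_injective (fun w => (w.2 : G) * w.1) fun w v hwv => ?_
        have h7 : (v.2 : G)⁻¹ * w.2 = (v.1 : G) * (w.1 : G)⁻¹ := by
          have := congrArg (fun z => (v.2 : G)⁻¹ * z * (w.1 : G)⁻¹) hwv
          simpa [mul_assoc] using this
        have h8 : (v.2 : G)⁻¹ * w.2 = 1 := hfix _ (mul_mem (inv_mem v.2.2) w.2.2) (by
          rw [h7]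
          exact Subgroup.mem_centralizer_singleton_iff.1 (mul_mem v.1.2 (inv_mem w.1.2)))
        have h9 := h7.symm.trans h8
        exact Prod.ext (Subtype.ext (mul_inv_eq_one.1 h9).symm) (Subtype.ext (inv_mul_eq_one.1 h8).symm)
      rw [← (commutator G).index_mul_card] at h6
      refine Nat.le_of_mul_le_mul_right (h6.trans (Nat.mul_le_mul_left _ ?_)) Nat.card_pos
      exact Nat.card_le_card_of_injective _ (Subgroup.inclusion_injective hcomm)
    haveI := hp
    have hpp := hp.out
    obtain ⟨k, hk⟩ := IsPGroup.iff_card.1 P.2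
    have hout : ∀ (z : G) (q c : ℕ), q.Prime → q ≠ p → orderOf z = q ^ c → z ≠ 1 → z ∉ (P : Subgroup G) := by
      intro z q c hq hqp hz hz1 hmem
      refine hz1 (orderOf_eq_one_iff.1 (Nat.eq_one_of_dvd_coprimes
        (((Nat.coprime_primes hq hpp).2 hqp).pow c k) (hz ▸ dvd_rfl)
        (hk ▸ Subgroup.orderOf_dvd_natCard _ hmem)))
    have hxy : x * y ∉ (P : Subgroup G) := by
      intro hmem
      let π := QuotientGroup.mk' (P : Subgroup G)
      have e : π x * π y = 1 := by rw [← map_mul]; exact (QuotientGroup.eq_one_iff _).2 hmem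
      have e2 : orderOf (π x) ∣ orderOf y := by
        rw [mul_eq_one_iff_eq_inv.1 e, orderOf_inv]
        exact orderOf_map_dvd π y
      have hx1 : π x = 1 := orderOf_eq_one_iff.1 (Nat.eq_one_of_dvd_coprimes
        (coprime_pow_orders hr hs hrs ha hb) (orderOf_map_dvd π x) e2)
      rw [hx1, one_mul] at e
      have hxP := (QuotientGroup.eq_one_iff x).1 hx1
      have hyP := (QuotientGroup.eq_one_iff y).1 e
      rcases eq_or_ne r p with hrp | hrp
      · exact hout y s b hs (fun e => hrs (hrp.trans e.symm)) hb hy hyP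
      · exact hout x r a hr hrp ha hx hxP
    rw [hvan _ hxy]
    rcases eq_or_ne r p with hrp | hrp
    · rw [hvan y (hout y s b hs (fun e => hrs (hrp.trans e.symm)) hb hy), mul_zero]
    · rw [hvan x (hout x r a hr hrp ha hx), zero_mul]

end Cfsg.Agent.S4756
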