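import Cfsg.Statements.S4757
import Cfsg.Agent.Lib.Char.Linear
import Cfsg.Agent.Lib.CharBlocks.Degree
import Cfsg.Agent.Lib.Cores.Basic
import Mathlib.GroupTheory.FixedPointFree

set_option autoImplicit false
open Cfsg

namespace Cfsg.Agent.S4757

section Aux

open CfsgLib.Char CfsgLib.CharBlocks CfsgLib.Cores
open scoped ComplexConjugate

variable {G : Type*} [Group G] [Fintype G] {u : G}

theorem eq_irrOne {χ : IrrCharacter G} : χ = irrOne ↔ (χ : G → ℂ) = fun _ => (1 : ℂ) :=
  ⟨fun h => by rw [h]; rfl, fun h => Subtype.ext h⟩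

theorem sum_col_eq_zero (hu : u ≠ 1) :
    (∑ χ ∈ Finset.univ.erase (irrOne (G := G)), ((χ : G → ℂ) 1 * (χ : G → ℂ) u).re) = -1 := by
  classical
  have h := sum_degree_mul_apply (G := G) u
  rw [if_neg hu, ← Finset.add_sum_erase _ _ (Finset.mem_univ (irrOne (G := G)))] at h
  have h' := congrArg Complex.re h
  rw [Complex.add_re, Complex.re_sum, Complex.zero_re] at h'
  simp only [show ((irrOne (G := G)) : G → ℂ) = fun _ => 1 from rfl, mul_one, Complex.one_re] at h'
  linarith

/-- The product of two linear characters. -/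
noncomputable def linMul (a b : IrrCharacter G) (ha : (a : G → ℂ) 1 = 1) (hb : (b : G → ℂ) 1 = 1) :
    IrrCharacter G :=
  ⟨fun g => ((linearHom (isCharacter_of_isIrr a.2) ha * linearHom (isCharacter_of_isIrr b.2) hb) g : ℂ),
    isIrrCharacter_units_hom _⟩

theorem linMul_apply (a b : IrrCharacter G) (ha : (a : G → ℂ) 1 = 1) (hb : (b : G → ℂ) 1 = 1)
    (g : G) : (linMul a b ha hb : G → ℂ) g = (a : G → ℂ) g * (b : G → ℂ) g := by
  show ((linearHom _ ha * linearHom _ hb) g : ℂ) = _
  rw [MonoidHom.mul_apply, Units.val_mul, linearHom_apply, linearHom_apply]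

theorem linear_apply_ne_zero (a : IrrCharacter G) (ha : (a : G → ℂ) 1 = 1) (g : G) :
    (a : G → ℂ) g ≠ 0 := by
  rw [← linearHom_apply (isCharacter_of_isIrr a.2) ha g]
  exact Units.ne_zero _

variable {c : ℂ}

/-- A non-principal linear character forces `c = 2`. -/
theorem c_eq_two (hu : u ≠ 1)
    (hyp : ∀ χ : IrrCharacter G, (χ : G → ℂ) ≠ (fun _ => (1 : ℂ)) →
      ((χ : G → ℂ) 1 - (χ : G → ℂ) u = c ∨ (χ : G → ℂ) u = 0))
    (a : IrrCharacter G) (ha : (a : G → ℂ) 1 = 1) (hne : a ≠ irrOne) :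
    c = 2 ∧ ∀ b : IrrCharacter G, (b : G → ℂ) 1 = 1 → b ≠ irrOne → (b : G → ℂ) u = -1 := by
  have hv : ∀ b : IrrCharacter G, (b : G → ℂ) 1 = 1 → b ≠ irrOne → (b : G → ℂ) u = 1 - c := by
    intro b hb hbn
    rcases hyp b (fun h => hbn (eq_irrOne.mpr h)) with h | h
    · rw [← h, hb]; ring
    · exact absurd h (linear_apply_ne_zero b hb u)
  have hc0 : c ≠ 0 := by
    intro hc
    have h := sum_col_eq_zero hu
    have h0 : 0 ≤ ∑ χ ∈ Finset.univ.erase (irrOne (G := G)), ((χ : G → ℂ) 1 * (χ : G → ℂ) u).re := by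
      refine Finset.sum_nonneg fun χ hχ => ?_
      rcases hyp χ (fun h => (Finset.ne_of_mem_erase hχ) (eq_irrOne.mpr h)) with h | h
      · rw [hc, sub_eq_zero] at h
        rw [← h, ← coe_charDegree_irr χ]
        simp only [← Nat.cast_mul, Complex.natCast_re]
        positivity
      · simp [h]
    linarith
  have hsq : linMul a a ha ha = irrOne := by
    by_contra h
    have h1 := hv _ (by rw [linMul_apply, ha, one_mul]) h
    rw [linMul_apply, hv a ha hne] at h1
    have h2 := hv a ha hne
    have : (1 - c) * (1 - c - 1) = 0 := by linear_combination h1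
    rcases mul_eq_zero.mp this with h' | h'
    · exact linear_apply_ne_zero a ha u (h2.trans h')
    · exact hc0 (by linear_combination -h')
  have h1 : (a : G → ℂ) u * (a : G → ℂ) u = 1 := by
    rw [← linMul_apply a a ha ha u, hsq]; rfl
  rw [hv a ha hne] at h1
  have hc : c = 2 := by
    have : c * (c - 2) = 0 := by linear_combination h1
    exact sub_eq_zero.mp ((mul_eq_zero.mp this).resolve_left hc0)
  exact ⟨hc, fun b hb hbn => by rw [hv b hb hbn, hc]; norm_num⟩

theorem exists_linear (h : commutator G ≠ ⊤) :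
    ∃ a : IrrCharacter G, (a : G → ℂ) 1 = 1 ∧ a ≠ irrOne := by
  by_contra hcon
  push Not at hcon
  refine h (Subgroup.index_eq_one.1 ?_)
  rw [← card_linear]
  exact Nat.card_eq_one_iff_unique.2
    ⟨⟨fun a b => Subtype.ext ((hcon _ a.2).trans (hcon _ b.2).symm)⟩, ⟨⟨irrOne, rfl⟩⟩⟩

theorem not_perfect_of_two (hu : u ≠ 1)
    (hyp : ∀ χ : IrrCharacter G, (χ : G → ℂ) ≠ (fun _ => (1 : ℂ)) →
      ((χ : G → ℂ) 1 - (χ : G → ℂ) u = (2 : ℂ) ∨ (χ : G → ℂ) u = 0)) : commutator G ≠ ⊤ := by
  intro htop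
  have h1 : ∀ χ : IrrCharacter G, (χ : G → ℂ) 1 = 1 → χ = irrOne := by
    have hc : Nat.card {χ : IrrCharacter G // (χ : G → ℂ) 1 = 1} = 1 := by
      rw [card_linear, htop, Subgroup.index_top]
    obtain ⟨_, _⟩ := Nat.card_eq_one_iff_unique.1 hc
    exact fun χ hχ => congrArg Subtype.val (Subsingleton.elim
      (⟨χ, hχ⟩ : {χ : IrrCharacter G // (χ : G → ℂ) 1 = 1}) ⟨irrOne, rfl⟩)
  have h := sum_col_eq_zero hu
  have h0 : 0 ≤ ∑ χ ∈ Finset.univ.erase (irrOne (G := G)), ((χ : G → ℂ) 1 * (χ : G → ℂ) u).re := by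
    refine Finset.sum_nonneg fun χ hχ => ?_
    have hne := Finset.ne_of_mem_erase hχ
    rcases hyp χ (fun h => hne (eq_irrOne.mpr h)) with h | h
    · have hd : 2 ≤ charDegree (χ : G → ℂ) := by
        have := charDegree_pos χ.2
        rcases Nat.lt_or_ge (charDegree (χ : G → ℂ)) 2 with hlt | hge
        · exact absurd (h1 χ (by rw [← coe_charDegree_irr χ, show charDegree (χ : G → ℂ) = 1 by omega,
            Nat.cast_one])) hne
        · exact hge
      rw [show (χ : G → ℂ) u = (χ : G → ℂ) 1 - 2 by linear_combination -h, ← coe_charDegree_irr χ,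
        ← Nat.cast_ofNat, ← Nat.cast_sub hd, ← Nat.cast_mul, Complex.natCast_re]
      positivity
    · simp [h]
  linarith

theorem structure_of_two (hu : u ≠ 1)
    (hyp : ∀ χ : IrrCharacter G, (χ : G → ℂ) ≠ (fun _ => (1 : ℂ)) →
      ((χ : G → ℂ) 1 - (χ : G → ℂ) u = c ∨ (χ : G → ℂ) u = 0)) (hne : commutator G ≠ ⊤) :
    orderOf u = 2 ∧ Subgroup.zpowers u ⊔ Cfsg.oddCore G = ⊤ ∧
      Subgroup.centralizer ({u} : Set G) = Subgroup.zpowers u := by
  classical
  obtain ⟨a, ha, han⟩ := exists_linear hne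
  obtain ⟨rfl, hv⟩ := c_eq_two hu hyp a ha han
  have huniq : ∀ b : IrrCharacter G, (b : G → ℂ) 1 = 1 → b ≠ irrOne → b = a := by
    intro b hb hbn
    have h1 : linMul a b ha hb = irrOne := by
      by_contra h
      have := hv _ (by rw [linMul_apply, ha, hb, one_mul]) h
      rw [linMul_apply, hv a ha han, hv b hb hbn] at this
      norm_num at this
    have h2 : linMul a a ha ha = irrOne := by
      by_contra h
      have := hv _ (by rw [linMul_apply, ha, one_mul]) h
      rw [linMul_apply, hv a ha han] at this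
      norm_num at this
    refine Subtype.ext (funext fun g => mul_left_cancel₀ (linear_apply_ne_zero a ha g) ?_)
    rw [← linMul_apply a b ha hb g, ← linMul_apply a a ha ha g, h1, h2]
  -- all other characters vanish at `u`
  have hae : a ∈ Finset.univ.erase (irrOne (G := G)) := Finset.mem_erase.2 ⟨han, Finset.mem_univ _⟩
  have hvan : ∀ χ : IrrCharacter G, χ ≠ irrOne → χ ≠ a → (χ : G → ℂ) u = 0 := by
    have h := sum_col_eq_zero hu
    rw [← Finset.add_sum_erase _ _ hae, ha, hv a ha han] at h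
    have h' : ∑ χ ∈ (Finset.univ.erase (irrOne (G := G))).erase a,
        ((χ : G → ℂ) 1 * (χ : G → ℂ) u).re = 0 := by
      have e : ((1 : ℂ) * -1).re = -1 := by simp
      linarith
    have hnn : ∀ χ ∈ (Finset.univ.erase (irrOne (G := G))).erase a,
        0 ≤ ((χ : G → ℂ) 1 * (χ : G → ℂ) u).re ∧
          (((χ : G → ℂ) 1 * (χ : G → ℂ) u).re = 0 → (χ : G → ℂ) u = 0) := by
      intro χ hχ
      obtain ⟨hna, hχ'⟩ := Finset.mem_erase.1 hχ
      have hn1 := Finset.ne_of_mem_erase hχ'
      rcases hyp χ (fun h => hn1 (eq_irrOne.mpr h)) with h | h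
      · have hd : 2 ≤ charDegree (χ : G → ℂ) := by
          have := charDegree_pos χ.2
          rcases Nat.lt_or_ge (charDegree (χ : G → ℂ)) 2 with hlt | hge
          · exact absurd (huniq χ (by rw [← coe_charDegree_irr χ,
              show charDegree (χ : G → ℂ) = 1 by omega, Nat.cast_one]) hn1) hna
          · exact hge
        rw [show (χ : G → ℂ) u = (χ : G → ℂ) 1 - 2 by linear_combination -h, ← coe_charDegree_irr χ,
          ← Nat.cast_ofNat, ← Nat.cast_sub hd, ← Nat.cast_mul, Complex.natCast_re, Nat.cast_eq_zero,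
          Nat.cast_eq_zero, mul_eq_zero]
        exact ⟨Nat.cast_nonneg _, fun h' => h'.resolve_left (by omega)⟩
      · exact ⟨by simp [h], fun _ => h⟩
    have h0 := (Finset.sum_eq_zero_iff_of_nonneg fun χ hχ => (hnn χ hχ).1).1 h'
    intro χ h1 h2
    have hm : χ ∈ (Finset.univ.erase (irrOne (G := G))).erase a :=
      Finset.mem_erase.2 ⟨h2, Finset.mem_erase.2 ⟨h1, Finset.mem_univ _⟩⟩
    exact (hnn χ hm).2 (h0 χ hm)
  have hcard : Nat.card (Subgroup.centralizer ({u} : Set G)) = 2 := by
    have h := second_orthogonality u u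
    rw [if_pos (IsConj.refl u), ← Finset.add_sum_erase _ _ (Finset.mem_univ (irrOne (G := G))),
      ← Finset.add_sum_erase _ _ hae, Finset.sum_eq_zero fun χ hχ => by
        obtain ⟨hna, hχ'⟩ := Finset.mem_erase.1 hχ
        rw [hvan χ (Finset.ne_of_mem_erase hχ') hna, zero_mul],
      hv a ha han, show ((irrOne (G := G)) : G → ℂ) u = 1 from rfl] at h
    rw [show Nat.card (Subgroup.centralizer ({u} : Set G)) = 2 ↔
      (Nat.card (Subgroup.centralizer ({u} : Set G)) : ℂ) = 2 by norm_cast, ← h]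
    simp; norm_num
  have hle : Subgroup.zpowers u ≤ Subgroup.centralizer ({u} : Set G) :=
    Subgroup.zpowers_le.mpr (Subgroup.mem_centralizer_singleton_iff.mpr rfl)
  have h2 : orderOf u = 2 := by
    have hd := Subgroup.card_dvd_of_le hle
    rw [Nat.card_zpowers, hcard] at hd
    exact ((Nat.dvd_prime Nat.prime_two).1 hd).resolve_left (mt orderOf_eq_one_iff.1 hu)
  have hC : Subgroup.centralizer ({u} : Set G) = Subgroup.zpowers u :=
    (Subgroup.eq_of_le_of_card_ge hle (by rw [Nat.card_zpowers, hcard, h2])).symm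
  have hindex : (commutator G).index = 2 := by
    rw [← card_linear, Nat.card_eq_fintype_card, Fintype.card_subtype]
    have : (Finset.univ.filter fun χ : IrrCharacter G => (χ : G → ℂ) 1 = 1) = {irrOne, a} := by
      ext χ
      simp only [Finset.mem_filter, Finset.mem_univ, true_and, Finset.mem_insert,
        Finset.mem_singleton]
      refine ⟨fun h => ?_, fun h => h.elim (fun e => by rw [e]; rfl) fun e => by rw [e, ha]⟩
      by_cases hn : χ = irrOne
      · exact Or.inl hn
      · exact Or.inr (huniq χ h hn)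
    rw [this, Finset.card_pair han.symm]
  have hnot : u ∉ commutator G := fun h => by
    have hk : commutator G ≤ (linearHom (isCharacter_of_isIrr a.2) ha).ker :=
      Abelianization.commutator_subset_ker _
    have h1 := congrArg Units.val (MonoidHom.mem_ker.1 (hk h))
    rw [linearHom_apply, hv a ha han, Units.val_one] at h1
    norm_num at h1
  have huu : u * u = 1 := by rw [← sq, ← h2, pow_orderOf_eq_one]
  let φ : ↥(commutator G) →* ↥(commutator G) :=
    (MulAut.conjNormal u : MulAut ↥(commutator G)).toMonoidHom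
  have hφ : ∀ x : ↥(commutator G), (φ x : G) = u * x * u⁻¹ := fun x => MulAut.conjNormal_apply u x
  have hfpf : MonoidHom.FixedPointFree φ := fun x hx => by
    have hx' : u * x * u⁻¹ = (x : G) := by rw [← hφ, hx]
    have hm : (x : G) ∈ Subgroup.zpowers u := hC ▸ Subgroup.mem_centralizer_singleton_iff.mpr
      (by rw [← mul_inv_eq_iff_eq_mul.1 hx'])
    obtain ⟨n, hn⟩ := hm
    rcases Int.even_or_odd n with ⟨m, hm⟩ | ⟨m, hm⟩
    · refine Subtype.ext ?_
      rw [← hn, hm]
      show u ^ (m + m) = 1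
      rw [zpow_add, ← (Commute.refl u).mul_zpow, huu, one_zpow]
      -- commuting powers
    · refine absurd ?_ hnot
      have : u ^ n = u := by
        rw [hm, two_mul, zpow_add_one, zpow_add, ← (Commute.refl u).mul_zpow, huu, one_zpow, one_mul]
      rw [← this, show u ^ n = (x : G) from hn]
      exact x.2
  have hodd : Odd (Nat.card ↥(commutator G)) := by
    refine hfpf.odd_card_of_involutive fun x => Subtype.ext ?_
    rw [hφ, hφ]
    simp only [inv_eq_of_mul_eq_one_left huu, mul_assoc, huu, mul_one]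
    rw [← mul_assoc, huu, one_mul]
  refine ⟨h2, ?_, hC⟩
  have hO : commutator G ≤ Cfsg.oddCore G := le_pPrimeCore
    (Nat.coprime_two_right.mpr hodd)
  have hlt : commutator G < Subgroup.zpowers u ⊔ Cfsg.oddCore G := by
    refine lt_of_le_of_ne (hO.trans le_sup_right) fun e => hnot ?_
    rw [e]
    exact Subgroup.mem_sup_left (Subgroup.mem_zpowers u)
  have := Subgroup.index_strictAnti hlt
  rw [hindex] at this
  exact Subgroup.index_eq_one.1 (by
    have := Nat.pos_of_ne_zero (Subgroup.index_ne_zero_of_finite (H := Subgroup.zpowers u ⊔ Cfsg.oddCore G))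
    omega)

theorem not_perfect_of_structure (h2 : orderOf u = 2)
    (hgen : Subgroup.zpowers u ⊔ Cfsg.oddCore G = ⊤) : commutator G ≠ ⊤ := by
  have hodd : (Nat.card (Cfsg.oddCore G)).Coprime 2 := coprime_card_pPrimeCore 2
  have : (Cfsg.oddCore G).Normal := pPrimeCore_normal 2 G
  have hnot : u ∉ Cfsg.oddCore G := fun h => by
    have hd := Subgroup.orderOf_dvd_natCard _ h
    rw [h2] at hd
    exact Nat.not_even_iff_odd.2 (Nat.coprime_two_right.1 hodd) (even_iff_two_dvd.2 hd)
  intro htop
  have hle : commutator G ≤ Cfsg.oddCore G := by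
    refine Subgroup.Normal.quotient_commutative_iff_commutator_le.mp ?_
    have hmap : ∀ y : G ⧸ Cfsg.oddCore G, y ∈ Subgroup.zpowers (QuotientGroup.mk' _ u) := by
      intro y
      obtain ⟨g, rfl⟩ := QuotientGroup.mk'_surjective _ y
      have hm := Subgroup.mem_map_of_mem (QuotientGroup.mk' (Cfsg.oddCore G))
        (hgen.symm ▸ Subgroup.mem_top g : g ∈ Subgroup.zpowers u ⊔ Cfsg.oddCore G)
      rw [Subgroup.map_sup, MonoidHom.map_zpowers, QuotientGroup.map_mk'_self, sup_bot_eq] at hm
      exact hm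
    have : IsCyclic (G ⧸ Cfsg.oddCore G) := ⟨_, hmap⟩
    exact IsCyclic.isMulCommutative
  exact hnot (hle (htop ▸ Subgroup.mem_top u))

end Aux

/-- Let u ≠ 1 be an element of the finite group G and c a complex number such that every non-principal irreducible character χ satisfies χ(1) − χ(u) = c or χ(u) = 0. Then the following are equivalent: (a) u has order 2, G is generated by u together with O(G), the largest normal subgroup of G of odd order, and the centralizer of u is {1, u}; (b) G is not perfect; (c) c = 2. -/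
theorem result {G : Type*} [Group G] [Finite G] (u : G) (hu : u ≠ 1) (c : ℂ) (hyp : ∀ χ : Cfsg.IrrCharacter G, (χ : G → ℂ) ≠ (fun _ => (1 : ℂ)) → ((χ : G → ℂ) 1 - (χ : G → ℂ) u = c ∨ (χ : G → ℂ) u = 0)) : ((orderOf u = 2 ∧ Subgroup.zpowers u ⊔ Cfsg.oddCore G = ⊤ ∧ Subgroup.centralizer ({u} : Set G) = Subgroup.zpowers u) ↔ commutator G ≠ ⊤) ∧ (commutator G ≠ ⊤ ↔ c = 2) := by
  classical
  have := Fintype.ofFinite G
  refine ⟨⟨fun h => not_perfect_of_structure h.1 h.2.1, structure_of_two hu hyp⟩, fun h => ?_,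
    fun h => ?_⟩
  · obtain ⟨a, ha, han⟩ := exists_linear h
    exact (c_eq_two hu hyp a ha han).1
  · subst h
    exact not_perfect_of_two hu hyp

end Cfsg.Agent.S4757
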