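import Cfsg.Statements.S4758
import Cfsg.Agent.S4757
import Cfsg.Agent.Lib.CharBlocks.DiffFour.Structure

set_option autoImplicit false
open Cfsg

namespace Cfsg.Agent.S4758

/-- Let u ≠ 1 be an element of the finite group G such that every non-principal irreducible character χ satisfies χ(1) − χ(u) = 4 or χ(u) = 0. Then O(G), the largest normal subgroup of odd order, is abelian, and either G ⧸ O(G) ≅ PSL₂(5) and u is an involution, or G ⧸ O(G) ≅ SL₂(5) and u has order 4. -/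
theorem result {G : Type*} [Group G] [Finite G] (u : G) (hu : u ≠ 1) (hyp : ∀ χ : Cfsg.IrrCharacter G, (χ : G → ℂ) ≠ (fun _ => (1 : ℂ)) → ((χ : G → ℂ) 1 - (χ : G → ℂ) u = 4 ∨ (χ : G → ℂ) u = 0)) : IsMulCommutative ↥(Cfsg.oddCore G) ∧ ((Nonempty (G ⧸ Cfsg.oddCore G ≃* Matrix.ProjectiveSpecialLinearGroup (Fin 2) (ZMod 5)) ∧ orderOf u = 2) ∨ (Nonempty (G ⧸ Cfsg.oddCore G ≃* Matrix.SpecialLinearGroup (Fin 2) (ZMod 5)) ∧ orderOf u = 4)) := by
  classical
  have := Fintype.ofFinite G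
  have htop : commutator G = ⊤ := by
    by_contra hne
    have h2 := ((Cfsg.Agent.S4757.result u hu 4 hyp).2).mp hne
    norm_num at h2
  have S : CfsgLib.CharBlocks.DiffFour.Setting G u := ⟨hu, htop, fun χ hχ => hyp ⟨χ, hχ⟩⟩
  obtain ⟨K, hn, hidx, huK, huu, hC, hfus⟩ := S.exists_core
  have C : CfsgLib.CharBlocks.DiffFour.Core G u K := ⟨hn, htop, hidx, huK, huu, hC, hfus⟩
  by_cases hu2 : u * u = 1
  · obtain ⟨hab, hodd, hord⟩ := C.of_involution hu2
    have heq : Cfsg.oddCore G = K := le_antisymm C.oddCore_le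
      (CfsgLib.Cores.le_pPrimeCore (p := 2) (Nat.coprime_two_right.mpr hodd))
    refine ⟨by rw [heq]; exact hab, Or.inl ⟨?_, hord⟩⟩
    obtain ⟨e⟩ := C.exists_equiv
    haveI : Fact (Nat.Prime 5) := ⟨by norm_num⟩
    obtain ⟨e'⟩ := Cfsg.Agent.S0253.result (F := ZMod 5) (ZMod.card 5)
    have := Cfsg.pPrimeCore_normal 2 G
    exact ⟨((QuotientGroup.quotientMulEquivOfEq heq).trans e).trans e'.symm⟩
  · obtain ⟨h4, hab, he⟩ := C.of_order_four hu2
    exact ⟨hab, Or.inr ⟨he, h4⟩⟩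

end Cfsg.Agent.S4758
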