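import Cfsg.Statements.S4759
import Cfsg.Agent.Lib.Char.ExtraspecialExt.Main

set_option autoImplicit false
open Cfsg

namespace Cfsg.Agent.S4759

open Subgroup CfsgLib.Char CfsgLib.Char.ExtraspecialExt SemidirectProduct
open scoped commutatorElement

variable {G : Type*} [Group G] [Finite G]

theorem exists_quad {E : Type*} [Group E] [Finite E] (hE : Cfsg.IsExtraspecial 2 E) : ∃ z : E, Quad z := by
  obtain ⟨⟨htwo, -, hcomm⟩, hZ⟩ := hE
  obtain ⟨x, y, hxy, hxy'⟩ := Nat.card_eq_two_iff.1 hZ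
  obtain ⟨z, hz, hz1⟩ : ∃ z : E, z ∈ Subgroup.center E ∧ z ≠ 1 := by
    by_cases h : x = 1
    · exact ⟨y, y.2, fun h' => hxy (h.trans (Subtype.ext h').symm)⟩
    · exact ⟨x, x.2, fun h' => h (Subtype.ext h')⟩
  have hall : ∀ w ∈ Subgroup.center E, w = 1 ∨ w = z := by
    intro w hw
    obtain ⟨a, -, ha⟩ := Nat.card_eq_two_iff' (1 : Subgroup.center E) |>.1 hZ
    by_cases h : w = 1
    · exact Or.inl h
    · have h1 := ha ⟨w, hw⟩ fun e => h (congrArg Subtype.val e)
      have h2 := ha ⟨z, hz⟩ fun e => hz1 (congrArg Subtype.val e)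
      exact Or.inr (congrArg Subtype.val (h1.trans h2.symm))
  refine ⟨z, htwo, ?_, hz1, fun g => (mem_center_iff.1 hz g).symm, fun a b => hall _ ?_,
    fun w hw => hall w (mem_center_iff.2 fun g => (hw g).eq.symm)⟩
  · have h2 := pow_card_eq_one' (x := (⟨z, hz⟩ : Subgroup.center E))
    rw [hZ, pow_two] at h2
    exact congrArg Subtype.val h2
  · rw [← hcomm, commutator_def, ← commutatorElement_def]
    exact commutator_mem_commutator (mem_top a) (mem_top b)

/-- The action on the normal subgroup. -/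
abbrev act (E X : Subgroup G) [E.Normal] : X →* MulAut E := (MulAut.conjNormal).comp X.subtype

theorem no_fixed (E K : Subgroup G) [E.Normal] (hKodd : Odd (Nat.card K)) (hEK : ⁅E, K⁆ = E) {z : E}
    (hq : Quad z) : ∀ x : E, (∀ k ∈ (act E K).range, k x = x) → x = 1 ∨ x = z := by
  intro x hx
  set U := fixedSub (act E K).range with hU
  have hodd : Odd (Nat.card (act E K).range) := hKodd.of_dvd_nat (Subgroup.card_range_dvd _)
  set W := centralizer (U : Set E) with hW
  have hle : ⁅E, K⁆ ≤ W.map E.subtype := by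
    refine commutator_le.2 fun e he k hk => ?_
    obtain ⟨u, hu, w, hw, hew⟩ := exists_mul_centralizer hq (act E K).range hodd ⟨e, he⟩
    set f := act E K ⟨k, hk⟩
    have hfw : f w ∈ W := centralizer_invariant (fun y hy => by
      rw [← map_inv]
      rw [hy _ ⟨(⟨k, hk⟩ : K)⁻¹, rfl⟩]
      exact hy) w hw
    have hd : w * (f w)⁻¹ ∈ W := mul_mem hw (inv_mem hfw)
    refine ⟨w * (f w)⁻¹, hd, ?_⟩
    have h1 : w * (f w)⁻¹ = (⟨e, he⟩ : E) * (f ⟨e, he⟩)⁻¹ := by
      rw [hew, map_mul, hu f ⟨_, rfl⟩, mul_inv_rev, ← mul_assoc, mul_assoc u w,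
        mem_centralizer_iff.1 hd u hu, mul_inv_cancel_right]
    rw [h1]
    show (((⟨e, he⟩ : E) * (f ⟨e, he⟩)⁻¹ : E) : G) = ⁅e, k⁆
    rw [commutatorElement_def, Subgroup.coe_mul, Subgroup.coe_inv]
    show e * (k * e * k⁻¹)⁻¹ = e * k * e⁻¹ * k⁻¹
    group
  rw [hEK] at hle
  refine hq.center x fun y => ?_
  obtain ⟨y', hy', h⟩ := hle y.2
  obtain rfl : y' = y := Subtype.ext h
  exact mem_centralizer_iff.1 hy' x hx

theorem ext_two (E H : Subgroup G) [E.Normal] (hEH : E ⊓ H = ⊥) (hEHtop : E ⊔ H = ⊤) (K : Subgroup G)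
    (hKn : ∀ h ∈ H, ∀ k ∈ K, h * k * h⁻¹ ∈ K) (hKodd : Odd (Nat.card K)) (hEK : ⁅E, K⁆ = E) {z : E}
    (hq : Quad z) : ∃ (P : Subgroup G) (hEP : E ≤ P) (ν : P → ℂ), ¬ 2 ∣ P.index ∧ Cfsg.IsCharacter P ν ∧
      IsFr z (fun e : E => ν ⟨e, hEP e.2⟩) := by
  classical
  haveI : Fact (Nat.Prime 2) := ⟨Nat.prime_two⟩
  obtain ⟨P, hEP⟩ := IsPGroup.exists_le_sylow hq.two
  set S := (P : Subgroup G) ⊓ H with hS
  let φ := act E S
  have hPS : ∀ g ∈ (P : Subgroup G), ∃ e ∈ E, ∃ s ∈ S, e * s = g := by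
    intro g hg
    obtain ⟨e, he, h, hh, heh⟩ := mem_sup_of_normal_left.1 (hEHtop ▸ mem_top g)
    refine ⟨e, he, h, mem_inf.2 ⟨?_, hh⟩, heh⟩
    rw [show h = e⁻¹ * g by rw [← heh, inv_mul_cancel_left]]
    exact mul_mem (inv_mem (hEP he)) hg
  have hP2 : IsPGroup 2 S := P.2.to_le inf_le_left
  obtain ⟨η, hη⟩ := has_exts (Nat.card E) E z hq rfl (act E K).range φ.range
    (hKodd.of_dvd_nat (Subgroup.card_range_dvd _))
    (hP2.of_surjective φ.rangeRestrict φ.rangeRestrict_surjective) (by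
      rintro _ ⟨s, rfl⟩ _ ⟨k, rfl⟩
      refine ⟨⟨_, hKn s s.2.2 k k.2⟩, ?_⟩
      show MulAut.conjNormal ((s : G) * k * (s : G)⁻¹) = φ s * (act E K k) * (φ s)⁻¹
      rw [map_mul, map_mul, map_inv]
      rfl) (no_fixed E K hKodd hEK hq)
  have hη' := hη.pullback (φ' := φ) φ.rangeRestrict fun t => rfl
  obtain ⟨η', hη'⟩ : ∃ η', IsExt z φ η' := ⟨_, hη'⟩
  let f : E ⋊[φ] S →* (P : Subgroup G) :=
    SemidirectProduct.lift (Subgroup.inclusion hEP) (Subgroup.inclusion inf_le_left) fun s =>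
      MonoidHom.ext fun e => Subtype.ext rfl
  have hfv : ∀ g : E ⋊[φ] S, ((f g : (P : Subgroup G)) : G) = (g.left : G) * (g.right : G) := fun g => rfl
  have hf : Function.Bijective f := by
    refine ⟨fun a b hab => ?_, fun g => ?_⟩
    · have h1 : (a.left : G) * (a.right : G) = (b.left : G) * (b.right : G) := by rw [← hfv, hab, hfv]
      have h2 : (b.left : G)⁻¹ * a.left ∈ E ⊓ H := mem_inf.2 ⟨mul_mem (inv_mem b.left.2) a.left.2, by
        rw [show (b.left : G)⁻¹ * a.left = (b.right : G) * (a.right : G)⁻¹ by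
          rw [eq_mul_inv_iff_mul_eq, mul_assoc, h1, inv_mul_cancel_left]]
        exact mul_mem (mem_inf.1 b.right.2).2 (inv_mem (mem_inf.1 a.right.2).2)⟩
      rw [hEH, mem_bot, inv_mul_eq_one] at h2
      rw [h2] at h1
      exact SemidirectProduct.ext (Subtype.ext h2.symm) (Subtype.ext (mul_left_cancel h1))
    · obtain ⟨e, he, s, hs, hes⟩ := hPS g g.2
      exact ⟨⟨⟨e, he⟩, ⟨s, hs⟩⟩, Subtype.ext hes⟩
  let eq := MulEquiv.ofBijective f hf
  refine ⟨P, hEP, η' ∘ eq.symm, P.not_dvd_index, isCharacter_comp hη'.char eq.symm.toMonoidHom, ?_⟩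
  have : (fun e : E => (η' ∘ eq.symm) ⟨e, hEP e.2⟩) = fun e => η' (inl e) := funext fun e => by
    have h : eq.symm ⟨e, hEP e.2⟩ = inl e := by
      rw [MulEquiv.symm_apply_eq]
      exact Subtype.ext (mul_one (e : G)).symm
    rw [Function.comp_apply, h]
  rw [this]
  exact hη'.fr


/-- Let G be a finite group that is the semidirect product of a normal extraspecial 2-subgroup E and a complement H acting faithfully on E (no non-identity element of H centralizes E), and suppose H has a normal subgroup K of odd order with [E, K] = E. Then every faithful irreducible character θ of E (there is exactly one) extends to G: some irreducible character of G restricts to θ on E. -/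
theorem result {G : Type*} [Group G] [Finite G] (E H : Subgroup G) [E.Normal] (hE : Cfsg.IsExtraspecial 2 ↥E) (hEH : E ⊓ H = ⊥) (hEHtop : E ⊔ H = ⊤) (hfaith : ∀ h ∈ H, (∀ e ∈ E, h * e = e * h) → h = 1) (K : Subgroup G) (hKH : K ≤ H) (hKn : ∀ h ∈ H, ∀ k ∈ K, h * k * h⁻¹ ∈ K) (hKodd : Odd (Nat.card ↥K)) (hEK : ⁅E, K⁆ = E) (θ : Cfsg.IrrCharacter ↥E) (hθ : ∀ e : ↥E, (θ : ↥E → ℂ) e = (θ : ↥E → ℂ) 1 → e = 1) : ∃ χ : Cfsg.IrrCharacter G, ∀ e : ↥E, (χ : G → ℂ) e = (θ : ↥E → ℂ) e := by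
  classical
  obtain ⟨z, hq⟩ := exists_quad hE
  haveI := Fintype.ofFinite G
  haveI := Fintype.ofFinite E
  have hθf : IsFr z (θ : E → ℂ) := fr_of_ne hq θ fun h => hq.z_ne (hθ z h)
  have hinv : ∀ (g : G) (n : E), (θ : E → ℂ) ⟨g * n * g⁻¹, (inferInstance : E.Normal).conj_mem (n : G) n.2 g⟩ =
      (θ : E → ℂ) n := fun g n => by
    exact hθf.aut_apply hq (MulAut.conjNormal g) n
  obtain ⟨χ, hχ, hext⟩ := CfsgLib.Char.extend_of_local E θ.2 hinv fun p hp hpi => by
    haveI : Fact p.Prime := ⟨hp⟩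
    by_cases hp2 : p = 2
    · subst hp2
      obtain ⟨P, hEP, ν, hP, hν, hfr⟩ := ext_two E H hEH hEHtop K hKn hKodd hEK hq
      exact ⟨P, hEP, ν, hP, hν, fun n => congrFun (IsFr.apply hq hfr hθf) n⟩
    · set Q : Sylow p (G ⧸ E) := default
      set P : Subgroup G := (Q : Subgroup (G ⧸ E)).comap (QuotientGroup.mk' E) with hP
      have hEP : E ≤ P := fun x hx => by
        rw [hP, mem_comap, QuotientGroup.mk'_apply, (QuotientGroup.eq_one_iff x).2 hx]
        exact one_mem _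
      haveI : Fintype P := Fintype.ofFinite P
      obtain ⟨i, hi⟩ := IsPGroup.iff_card.1 hq.two
      obtain ⟨j, hj⟩ := IsPGroup.iff_card.1 Q.2
      let N := E.subgroupOf P
      let e : N ≃* E := Subgroup.subgroupOfEquivOfLe hEP
      have hidx : N.index = p ^ j := by
        rw [← hj]
        show E.relIndex P = _
        have h := relIndex_comap (Q : Subgroup (G ⧸ E)) (QuotientGroup.mk' E)
        have h1 : Nat.card P = Nat.card E * Nat.card (Q : Subgroup (G ⧸ E)) :=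
          Nat.card_congr (QuotientGroup.preimageMkEquivSubgroupProdSet E (Q : Set (G ⧸ E))) |>.trans
            (Nat.card_prod _ _)
        have h2 := N.card_mul_index
        rw [Nat.card_congr e.toEquiv, h1] at h2
        exact Nat.eq_of_mul_eq_mul_left Nat.card_pos h2
      obtain ⟨χ, hχ, hext, -⟩ := CfsgLib.CharNormal.CyclicGlauberman.exists_ext (N := N) (ϑ := (θ : E → ℂ) ∘ e)
        (CfsgLib.CharNormal.isIrr_comp_mulEquiv θ.2 e) (by
          rw [hidx, Nat.card_congr e.toEquiv, hi]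
          exact (((Nat.coprime_primes Nat.prime_two hp).2 (Ne.symm hp2)).pow i j))
        (fun g n => hinv (g : G) (e n))
      refine ⟨P, hEP, χ, ?_, CfsgLib.Char.isCharacter_of_isIrr hχ, fun n => ?_⟩
      · rw [hP, index_comap_of_surjective _ (QuotientGroup.mk'_surjective E)]
        exact Q.not_dvd_index
      · exact hext (e.symm n)
  exact ⟨⟨χ, hχ⟩, hext⟩

end Cfsg.Agent.S4759
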