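import Cfsg.Statements.S4762
import Cfsg.Agent.Lib.Char.Extraspecial
import Cfsg.Agent.Lib.PGroup.Extraspecial
import Cfsg.Agent.Lib.FGS.ThompsonKernel
import Cfsg.Agent.Lib.CharNormal.Kernel
import Cfsg.Agent.Lib.CharNormal.Gallagher
import Cfsg.Agent.Lib.Char.Ito
import Cfsg.Agent.Lib.Char.Linear
import Cfsg.Agent.Lib.Blocks.Functional

set_option autoImplicit false
open Cfsg

namespace Cfsg.Agent.S4762

open CfsgLib.Char

theorem deg_one_of_dvd_eq {G : Type*} [Group G] {p : ℕ} {χ : Cfsg.IrrCharacter G}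
    (h : (χ : G → ℂ) 1 = 1) (hp : p.Prime) : ¬ p ∣ Cfsg.charDegree (χ : G → ℂ) := by
  rw [show Cfsg.charDegree (χ : G → ℂ) = 1 by simp [Cfsg.charDegree, h]]
  exact hp.not_dvd_one

/-- Let p be a prime and G a finite nilpotent group. Then G has exactly one irreducible complex character of degree divisible by p if and only if p = 2 and G is an extraspecial 2-group. -/
theorem result {G : Type*} [Group G] [Finite G] [Group.IsNilpotent G] (p : ℕ) [Fact p.Prime] : Nat.card {χ : Cfsg.IrrCharacter G // p ∣ Cfsg.charDegree (χ : G → ℂ)} = 1 ↔ (p = 2 ∧ Cfsg.IsExtraspecial 2 G) := by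
  classical
  have := Fintype.ofFinite G
  have hp : p.Prime := Fact.out
  have hdeg : ∀ χ : IrrCharacter G, (χ : G → ℂ) 1 = (charDegree (χ : G → ℂ) : ℂ) := fun χ =>
    CfsgLib.Blocks.charDegree_eq (isCharacter_of_isIrr χ.2)
  constructor
  · intro hcard
    obtain ⟨⟨χ, hpχ⟩, huniq⟩ := Nat.card_eq_one_iff_exists.mp hcard
    have hu : ∀ ψ : IrrCharacter G, p ∣ charDegree (ψ : G → ℂ) → ψ = χ := fun ψ h =>
      congrArg Subtype.val (huniq ⟨ψ, h⟩)
    obtain ⟨P, K, hKn, hKP⟩ := CfsgLib.FGS.hasNormalPComplement_of_isNilpotent (p := p) G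
    have hidx : K.index = Nat.card (P : Subgroup G) := hKP.symm.index_eq_card
    obtain ⟨e, he⟩ := P.isPGroup'.exists_card_eq
    -- some character trivial on the complement has degree divisible by `p`
    have hχK : ∀ n ∈ K, (χ : G → ℂ) n = (χ : G → ℂ) 1 := by
      by_cases hall : ∀ q : IrrCharacter (G ⧸ K), (q : G ⧸ K → ℂ) 1 = 1
      · exfalso
        have := Fintype.ofFinite (G ⧸ K)
        have hcomm := (comm_iff_forall_linear (G := G ⧸ K)).mpr hall
        haveI : (P : Subgroup G).Normal :=
          ((Group.isNilpotent_of_finite_tfae (G := G)).out 0 3 rfl rfl).1 inferInstance p inferInstance P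
        have hP : ∀ a ∈ (P : Subgroup G), ∀ b ∈ (P : Subgroup G), a * b = b * a := fun a ha b hb => by
          have h1 : (a * b)⁻¹ * (b * a) ∈ K := QuotientGroup.eq.mp (by
            rw [QuotientGroup.mk_mul, QuotientGroup.mk_mul, hcomm])
          have h2 : (a * b)⁻¹ * (b * a) ∈ K ⊓ (P : Subgroup G) :=
            ⟨h1, Subgroup.mul_mem _ (Subgroup.inv_mem _ (Subgroup.mul_mem _ ha hb)) (Subgroup.mul_mem _ hb ha)⟩
          rw [hKP.disjoint.eq_bot, Subgroup.mem_bot, inv_mul_eq_one] at h2
          exact h2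
        exact P.not_dvd_index (hpχ.trans (degree_dvd_index_abelian_normal _ hP χ.2 (hdeg χ)))
      · push Not at hall
        obtain ⟨q, hq⟩ := hall
        obtain ⟨m, hm⟩ := exists_degree (isCharacter_of_isIrr q.2)
        have hdvd : m ∣ p ^ e := by
          have := Fintype.ofFinite (G ⧸ K)
          have h := degree_dvd_card q.2 hm
          rwa [← Subgroup.index_eq_card, hidx, he] at h
        obtain ⟨i, -, rfl⟩ := (Nat.dvd_prime_pow hp).mp hdvd
        have hi : i ≠ 0 := fun h => hq (by rw [hm, h, pow_zero, Nat.cast_one])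
        set ψ := (CfsgLib.CharNormal.inflEquiv K q).1 with hψ
        have hψ1 : (ψ : G → ℂ) 1 = ((p ^ i : ℕ) : ℂ) := by
          rw [hψ, CfsgLib.CharNormal.inflEquiv_apply, QuotientGroup.mk_one, hm]
        have : ψ = χ := hu ψ (by
          rw [show charDegree (ψ : G → ℂ) = p ^ i from Nat.cast_injective (R := ℂ) ((hdeg ψ).symm.trans hψ1)]
          exact dvd_pow_self p hi)
        rw [← this]
        exact (CfsgLib.CharNormal.inflEquiv K q).2
    -- so `G` is a `p`-group
    have hK : K = ⊥ := by
      by_contra hne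
      have hnt : Nontrivial K := K.nontrivial_iff_ne_bot.mpr hne
      have hPn : (P : Subgroup G).Normal :=
        ((Group.isNilpotent_of_finite_tfae (G := G)).out 0 3 rfl rfl).1 inferInstance p inferInstance P
      have := Fintype.ofFinite (G ⧸ (P : Subgroup G))
      have hqnt : Nontrivial (G ⧸ (P : Subgroup G)) := by
        rw [← Finite.one_lt_card_iff_nontrivial, ← Subgroup.index_eq_card, hKP.index_eq_card]
        exact Finite.one_lt_card_iff_nontrivial.mpr hnt
      have hcom : commutator (G ⧸ (P : Subgroup G)) ≠ ⊤ := (IsSolvable.commutator_lt_top_of_nontrivial _).ne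
      have hlin : 1 < Nat.card {q : IrrCharacter (G ⧸ (P : Subgroup G)) // (q : G ⧸ (P : Subgroup G) → ℂ) 1 = 1} := by
        rw [card_linear]
        exact Subgroup.one_lt_index_of_ne_top hcom
      have : Nontrivial {q : IrrCharacter (G ⧸ (P : Subgroup G)) // (q : G ⧸ (P : Subgroup G) → ℂ) 1 = 1} :=
        Finite.one_lt_card_iff_nontrivial.mp hlin
      obtain ⟨⟨q, hq⟩, hqne⟩ := exists_ne (⟨irrOne, irrOne_apply 1⟩ :
        {q : IrrCharacter (G ⧸ (P : Subgroup G)) // (q : G ⧸ (P : Subgroup G) → ℂ) 1 = 1})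
      set lam := (CfsgLib.CharNormal.inflEquiv (P : Subgroup G) q).1 with hlam
      have hlv : ∀ g : G, (lam : G → ℂ) g = (q : G ⧸ (P : Subgroup G) → ℂ) g := fun g =>
        CfsgLib.CharNormal.inflEquiv_apply _ q g
      have hl1 : (lam : G → ℂ) 1 = 1 := by rw [hlv, QuotientGroup.mk_one, hq]
      have hmul : (⟨(χ : G → ℂ) * (lam : G → ℂ), CfsgLib.CharNormal.isIrr_mul_linear χ.2
          (isCharacter_of_isIrr lam.2) hl1⟩ : IrrCharacter G) = χ := by
        refine hu _ ?_
        simpa [charDegree, hl1] using hpχ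
      refine hqne (Subtype.ext (Subtype.ext (funext fun z => ?_)))
      obtain ⟨x, rfl⟩ := QuotientGroup.mk_surjective z
      obtain ⟨⟨⟨k, hk⟩, ⟨u, hu'⟩⟩, hxu⟩ := hKP.2 x
      have hxk : (q : G ⧸ (P : Subgroup G) → ℂ) (x : G ⧸ (P : Subgroup G)) = (lam : G → ℂ) k := by
        rw [hlv, ← hxu, QuotientGroup.mk_mul, (QuotientGroup.eq_one_iff u).mpr hu', mul_one]
      have h2 := congrFun (congrArg Subtype.val hmul) k
      simp only [Pi.mul_apply, hχK k hk] at h2
      show (q : G ⧸ (P : Subgroup G) → ℂ) _ = (irrOne : IrrCharacter (G ⧸ (P : Subgroup G))).1 _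
      rw [hxk, irrOne_apply]
      exact mul_left_cancel₀ (irr_one_ne_zero χ.2) (h2.trans (mul_one _).symm)
    have hcardG : Nat.card G = p ^ e := by
      rw [← he, ← hidx, hK, Subgroup.index_bot]
    have hG : IsPGroup p G := IsPGroup.of_card hcardG
    -- degrees
    have hpdvd : ∀ ψ : IrrCharacter G, (ψ : G → ℂ) 1 ≠ 1 → p ∣ charDegree (ψ : G → ℂ) := fun ψ h => by
      have hd := degree_dvd_card ψ.2 (hdeg ψ)
      rw [hcardG] at hd
      obtain ⟨i, -, hi⟩ := (Nat.dvd_prime_pow hp).mp hd
      rw [hi]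
      exact dvd_pow_self p fun h0 => h (by rw [hdeg, hi, h0, pow_zero, Nat.cast_one])
    have hχ1 : (χ : G → ℂ) 1 ≠ 1 := fun h => deg_one_of_dvd_eq h hp hpχ
    obtain ⟨i, -, hi⟩ := (Nat.dvd_prime_pow hp).mp (hcardG ▸ degree_dvd_card χ.2 (hdeg χ))
    have hi0 : i ≠ 0 := fun h => hχ1 (by rw [hdeg, hi, h, pow_zero, Nat.cast_one])
    have hsum : Nat.card G = (commutator G).index + (p ^ i) ^ 2 := by
      apply Nat.cast_injective (R := ℂ)
      rw [← sum_degree_sq, ← Finset.add_sum_erase _ _ (Finset.mem_univ χ), Nat.cast_add, Nat.cast_pow,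
        hdeg χ, hi, add_comm, ← card_linear]
      congr 1
      have hlin1 : ∀ ψ ∈ (Finset.univ : Finset (IrrCharacter G)).erase χ, (ψ : G → ℂ) 1 ^ 2 = 1 :=
        fun ψ hψ => by
          have : (ψ : G → ℂ) 1 = 1 := by
            by_contra h
            exact (Finset.mem_erase.mp hψ).1 (hu ψ (hpdvd ψ h))
          rw [this, one_pow]
      rw [Finset.sum_congr rfl hlin1, Finset.sum_const, nsmul_eq_mul, mul_one, Nat.card_eq_fintype_card,
        Fintype.card_subtype]
      congr 2
      ext ψ
      simp only [Finset.mem_erase, Finset.mem_univ, and_true, Finset.mem_filter, true_and]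
      exact ⟨fun h => by_contra fun h' => h (hu ψ (hpdvd ψ h')), fun h e => hχ1 (e ▸ h)⟩
    obtain ⟨a, ha, ha'⟩ := (Nat.dvd_prime_pow hp).mp (hcardG ▸ (commutator G).index_dvd_card)
    obtain ⟨c, hc, hc'⟩ := (Nat.dvd_prime_pow hp).mp (hcardG ▸ Subgroup.card_subgroup_dvd_card (commutator G))
    have hmul : p ^ a * p ^ c = p ^ a + (p ^ i) ^ 2 := by
      rw [← ha', ← hc', Subgroup.index_mul_card, hsum]
    rw [← pow_mul] at hmul
    have hia : a ≤ i * 2 := by
      refine (Nat.pow_dvd_pow_iff_le_right hp.one_lt).mp ?_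
      exact (Nat.dvd_add_right (dvd_refl (p ^ a))).mp (hmul ▸ Dvd.intro _ rfl)
    have hpa : 0 < p ^ a := pow_pos hp.pos a
    have hc1 : p ^ c = 1 + p ^ (i * 2 - a) := by
      refine Nat.eq_of_mul_eq_mul_left hpa ?_
      rw [hmul, mul_add, mul_one, ← pow_add, Nat.add_sub_cancel' hia]
    have hc0 : c ≠ 0 := fun h => by
      rw [h, pow_zero] at hc1
      have := pow_pos hp.pos (i * 2 - a)
      omega
    have hia' : i * 2 = a := by
      by_contra hne
      have h1 : p ∣ 1 + p ^ (i * 2 - a) := hc1 ▸ dvd_pow_self p hc0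
      exact hp.not_dvd_one ((Nat.dvd_add_left (dvd_pow_self p (by omega))).mp h1)
    rw [hia', Nat.sub_self, pow_zero] at hc1
    have hp2 : p = 2 := by
      have h2 : p ∣ 2 := (dvd_pow_self p hc0).trans (by rw [hc1]; norm_num)
      exact (Nat.prime_dvd_prime_iff_eq hp Nat.prime_two).mp h2
    refine ⟨hp2, ?_⟩
    subst hp2
    have hD : Nat.card (commutator G) = 2 := by rw [hc', hc1]; try norm_num
    have hDZ : commutator G ≤ Subgroup.center G := fun z hz => by
      refine Subgroup.mem_center_iff.mpr fun g => ?_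
      by_cases hz1 : z = 1
      · simp [hz1]
      have hgz : g * z * g⁻¹ ∈ commutator G := (inferInstance : (commutator G).Normal).conj_mem z hz g
      have hgne : g * z * g⁻¹ ≠ 1 := fun h => hz1 (conj_eq_one_iff.mp h)
      obtain ⟨u, v, huv, hset⟩ := Nat.card_eq_two_iff.mp hD
      have hall : ∀ w : commutator G, w = u ∨ w = v := fun w => by
        have : w ∈ ({u, v} : Set (commutator G)) := hset.symm ▸ Set.mem_univ w
        simpa using this
      have heq : g * z * g⁻¹ = z := by
        rcases hall 1 with e1 | e1 <;> rcases hall ⟨z, hz⟩ with e2 | e2 <;>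
          rcases hall ⟨_, hgz⟩ with e3 | e3 <;>
          first
            | exact absurd (congrArg Subtype.val (e2.trans e1.symm)) hz1
            | exact absurd (congrArg Subtype.val (e3.trans e1.symm)) hgne
            | exact congrArg Subtype.val (e3.trans e2.symm)
      calc g * z = g * z * g⁻¹ * g := by group
        _ = z * g := by rw [heq]
    have hna : ¬ IsMulCommutative G := fun h => hχ1 (irr_one_eq_one_of_comm h.is_comm.comm χ.2)
    have hZ : Nat.card (Subgroup.center G) = 2 := by
      have h1 := Nat.le_of_dvd Nat.card_pos (Subgroup.card_dvd_of_le hDZ)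
      rw [hD] at h1
      suffices hle : Subgroup.center G ≤ commutator G by
        have := Nat.le_of_dvd Nat.card_pos (Subgroup.card_dvd_of_le hle)
        rw [hD] at this
        omega
      intro z hz
      by_contra hzD
      -- a linear character separates `z`, but `χ` does not vanish at `z`
      have hab : ∀ a b : G ⧸ commutator G, a * b = b * a := fun a b => by
        obtain ⟨a, rfl⟩ := QuotientGroup.mk_surjective a
        obtain ⟨b, rfl⟩ := QuotientGroup.mk_surjective b
        rw [← QuotientGroup.mk_mul, ← QuotientGroup.mk_mul, QuotientGroup.eq, ← mul_assoc, mul_inv_rev]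
        have := Subgroup.commutator_mem_commutator (Subgroup.mem_top b⁻¹) (Subgroup.mem_top a⁻¹)
        rw [commutatorElement_def] at this
        simpa [mul_assoc, _root_.commutator_def] using this
      have := Fintype.ofFinite (G ⧸ commutator G)
      obtain ⟨q, hq⟩ : ∃ q : IrrCharacter (G ⧸ commutator G), (q : G ⧸ commutator G → ℂ) z ≠ 1 := by
        by_contra hcon
        push Not at hcon
        have hs := sum_degree_mul_apply (z : G ⧸ commutator G)
        rw [if_neg (fun e => hzD ((QuotientGroup.eq_one_iff z).mp e))] at hs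
        have h1 : ∀ q : IrrCharacter (G ⧸ commutator G), (q : G ⧸ commutator G → ℂ) 1 = 1 :=
          fun q => irr_one_eq_one_of_comm hab q.2
        simp only [h1, hcon, mul_one, Finset.sum_const, Finset.card_univ, nsmul_eq_mul] at hs
        have : Nonempty (IrrCharacter (G ⧸ commutator G)) := ⟨irrOne⟩
        exact Fintype.card_ne_zero (by exact_mod_cast hs)
      set lam := (CfsgLib.CharNormal.inflEquiv (commutator G) q).1 with hlam
      have hlv : ∀ g : G, (lam : G → ℂ) g = (q : G ⧸ commutator G → ℂ) g := fun g =>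
        CfsgLib.CharNormal.inflEquiv_apply _ q g
      have hl1 : (lam : G → ℂ) 1 = 1 := by
        rw [hlv, QuotientGroup.mk_one]; exact irr_one_eq_one_of_comm hab q.2
      have hmul : (⟨(χ : G → ℂ) * (lam : G → ℂ), CfsgLib.CharNormal.isIrr_mul_linear χ.2
          (isCharacter_of_isIrr lam.2) hl1⟩ : IrrCharacter G) = χ := by
        refine hu _ ?_
        simpa [charDegree, hl1] using hpχ
      have hχz : (χ : G → ℂ) z = 0 := by
        have h2 := congrFun (congrArg Subtype.val hmul) z
        simp only [Pi.mul_apply] at h2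
        by_contra hne
        exact hq (by rw [← hlv]; exact mul_left_cancel₀ hne (h2.trans (mul_one _).symm))
      have hcol := second_orthogonality z z
      rw [if_pos (IsConj.refl z), Subgroup.centralizer_eq_top_iff_subset.mpr (by simpa using hz),
        Subgroup.card_top, ← Finset.add_sum_erase _ _ (Finset.mem_univ χ), hχz, zero_mul, zero_add] at hcol
      have hterm : ∀ ψ ∈ (Finset.univ : Finset (IrrCharacter G)).erase χ,
          (ψ : G → ℂ) z * starRingEnd ℂ ((ψ : G → ℂ) z) = (ψ : G → ℂ) 1 ^ 2 := fun ψ hψ => by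
        have h1 : (ψ : G → ℂ) 1 = 1 := by
          by_contra h
          exact (Finset.mem_erase.mp hψ).1 (hu ψ (hpdvd ψ h))
        rw [← char_inv (isCharacter_of_isIrr ψ.2), ← linear_map_mul (isCharacter_of_isIrr ψ.2) h1,
          mul_inv_cancel, h1, one_pow]
      rw [Finset.sum_congr rfl hterm, ← sum_degree_sq, ← Finset.add_sum_erase _ _ (Finset.mem_univ χ)] at hcol
      exact irr_one_ne_zero χ.2 (pow_eq_zero_iff two_ne_zero |>.mp (by linear_combination -hcol))
    have hsq : ∀ z ∈ commutator G, z * z = 1 := fun z hz => by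
      have := congrArg Subtype.val (pow_card_eq_one' (x := (⟨z, hz⟩ : commutator G)))
      rw [hD] at this
      simpa [pow_two] using this
    refine CfsgLib.PGroup.isExtraspecial_mk hG hZ hna
      (fun x y => hDZ (Subgroup.commutator_mem_commutator (Subgroup.mem_top x) (Subgroup.mem_top y))) fun x => ?_
    refine Subgroup.mem_center_iff.mpr fun g => ?_
    set w := g * x * g⁻¹ * x⁻¹ with hw
    have hwD : w ∈ commutator G := Subgroup.commutator_mem_commutator (Subgroup.mem_top g) (Subgroup.mem_top x)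
    have hwc := Subgroup.mem_center_iff.mp (hDZ hwD)
    have hgx : g * x * g⁻¹ = w * x := by rw [hw]; group
    have : g * x ^ 2 * g⁻¹ = x ^ 2 := by
      rw [pow_two, ← conj_mul, hgx]
      calc w * x * (w * x) = w * (x * w) * x := by group
        _ = (w * w) * (x * x) := by rw [hwc x]; group
        _ = x * x := by rw [hsq w hwD, one_mul]
    calc g * x ^ 2 = g * x ^ 2 * g⁻¹ * g := by group
      _ = x ^ 2 * g := by rw [this]
  · rintro ⟨rfl, hE⟩
    obtain ⟨n, hn, hcard⟩ := CfsgLib.PGroup.extraspecial_card hE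
    have h := extraspecial_card_irr hE hcard
    rw [show 2 - 1 = 1 from rfl] at h
    refine (Nat.card_congr (Equiv.subtypeEquivRight fun χ => ?_)).trans h
    constructor
    · intro hd
      rcases extraspecial_irr hE hcard χ.2 with ⟨h1, -⟩ | ⟨h1, -, -⟩
      · exact absurd hd (deg_one_of_dvd_eq h1 hp)
      · exact h1
    · intro h1
      have : charDegree (χ : G → ℂ) = 2 ^ n := Nat.cast_injective (R := ℂ) (by
        rw [← hdeg, h1]; push_cast; ring)
      rw [this]
      exact dvd_pow_self 2 (by omega)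

end Cfsg.Agent.S4762
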