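import Cfsg.Statements.S4885
import Cfsg.Agent.S4736
import Cfsg.Agent.Lib.Transfer.Tate
import Cfsg.Agent.Lib.PGroup.Basic

set_option autoImplicit false
open Cfsg

namespace Cfsg.Agent.S4885

open CfsgLib.Char CfsgLib.CharNormal CfsgLib.Blocks CfsgLib.Cores
open scoped ComplexConjugate

section Char

variable {G : Type*} [Group G] [Fintype G]

/-- A character of `p'`-degree above a linear character nontrivial at `x`. -/
theorem exists_irr_not_dvd {p : ℕ} [Fact p.Prime] (Q : Subgroup G) (hQ : ¬ p ∣ Q.index)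
    [Fintype Q] {lam : Q → ℂ} (hlam : IsIrrCharacter Q lam) (h1 : lam 1 = 1) {x : Q}
    (hx : lam x ≠ 1) :
    ∃ ψ : IrrCharacter G, ¬ p ∣ charDegree (ψ : G → ℂ) ∧ (ψ : G → ℂ) x ≠ (ψ : G → ℂ) 1 := by
  classical
  obtain ⟨m, hm, hmi⟩ := char_decomp (isCharacter_indFun Q (isCharacter_of_isIrr hlam))
  have hd := congrFun hm 1
  simp only [indFun_one, h1, mul_one, Finset.sum_apply, Pi.smul_apply, smul_eq_mul,
    ← CfsgLib.CharBlocks.coe_charDegree_irr, ← Nat.cast_mul, ← Nat.cast_sum, Nat.cast_inj] at hd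
  obtain ⟨ψ, -, hψ⟩ : ∃ ψ ∈ (Finset.univ : Finset (IrrCharacter G)),
      ¬ p ∣ m ψ * charDegree (ψ : G → ℂ) := by
    by_contra hc
    push Not at hc
    exact hQ (hd ▸ Finset.dvd_sum hc)
  refine ⟨ψ, fun hh => hψ (hh.mul_left _), fun he => hx ?_⟩
  have hne : classInner lam (fun y : Q => (ψ : G → ℂ) y) ≠ 0 := by
    rw [← frobenius_reciprocity Q lam (isClassFunction_of_isIrr ψ.2), hmi ψ]
    exact_mod_cast fun h0 : m ψ = 0 => hψ (by rw [h0, zero_mul]; exact dvd_zero p)
  have hmul : ∀ y, lam (y * x) = lam y * lam x :=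
    fun y => linear_map_mul (isCharacter_of_isIrr hlam) h1 y x
  have hS : ∑ y : Q, lam y * conj ((ψ : G → ℂ) y) =
      lam x * ∑ y : Q, lam y * conj ((ψ : G → ℂ) y) := by
    rw [Finset.mul_sum]
    conv_lhs => rw [← Equiv.sum_comp (Equiv.mulRight x) (fun y : Q => lam y * conj ((ψ : G → ℂ) y))]
    refine Finset.sum_congr rfl fun y _ => ?_
    simp only [Equiv.coe_mulRight, hmul, Subgroup.coe_mul,
      apply_mul_eq_one (isCharacter_of_isIrr ψ.2) he]
    ring
  by_contra hl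
  refine hne ?_
  rw [classInner_def]
  have : (lam x - 1) * ∑ y : Q, lam y * conj ((ψ : G → ℂ) y) = 0 := by linear_combination -hS
  rcases mul_eq_zero.mp this with h | h
  · exact absurd (sub_eq_zero.mp h) hl
  · simp [h]

/-- Outside the derived subgroup some linear character is nontrivial. -/
theorem exists_linear_ne {x : G} (hx : x ∉ _root_.commutator G) :
    ∃ lam : IrrCharacter G, (lam : G → ℂ) 1 = 1 ∧ (lam : G → ℂ) x ≠ 1 := by
  classical
  have := Fintype.ofFinite (G ⧸ _root_.commutator G)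
  have hne : ¬ IsConj (x : G ⧸ _root_.commutator G) 1 := by
    rw [isConj_one_left, QuotientGroup.eq_one_iff]
    exact hx
  rw [isConj_iff_forall_irr] at hne
  push Not at hne
  obtain ⟨ψ, hψ⟩ := hne
  have h1 : (ψ : G ⧸ _root_.commutator G → ℂ) 1 = 1 :=
    irr_one_eq_one_of_comm (fun a b => (inferInstance :
      IsMulCommutative (Abelianization G)).is_comm.comm a b) ψ.2
  exact ⟨⟨_, isIrr_comp_mk' _ ψ.2⟩, h1, fun h => hψ (h.trans h1.symm)⟩

theorem mem_commutator_of_mem_core {p q : ℕ} [Fact p.Prime] [Fact q.Prime]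
    {Mp Mq : Ideal AlgInt} (hMp : IsPModular p Mp) (hMq : IsPModular q Mq)
    (hps : IsPSolvable p G)
    (h : ∀ χ : IrrCharacter G, χ ∈ principalBlock Mp G → ¬ p ∣ charDegree (χ : G → ℂ) →
      χ ∈ principalBlock Mq G)
    (P : Sylow p G) (x : G) (hxP : x ∈ (P : Subgroup G)) (hxK : x ∈ pPrimeCore q G) :
    (⟨x, hxP⟩ : ↥(P : Subgroup G)) ∈ _root_.commutator ↥(P : Subgroup G) := by
  classical
  have := hMp.2.1
  have := hMq.2.1
  have hKn : (pPrimeCore p G).Normal := pPrimeCore_normal p G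
  have hKqn : (pPrimeCore q G).Normal := pPrimeCore_normal q G
  let K := pPrimeCore p G
  have := Fintype.ofFinite (G ⧸ K)
  by_contra hx
  obtain ⟨lam, hlam1, hlamx⟩ := exists_linear_ne hx
  let Q := P.mapSurjective (QuotientGroup.mk'_surjective K)
  let f : ↥(P : Subgroup G) →* ↥(Q : Subgroup (G ⧸ K)) :=
    (QuotientGroup.mk' K).subgroupMap (P : Subgroup G)
  have hf : Function.Bijective f := by
    refine ⟨(injective_iff_map_eq_one f).mpr fun a ha => ?_,
      MonoidHom.subgroupMap_surjective _ _⟩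
    have haK : (a : G) ∈ K := (QuotientGroup.eq_one_iff _).mp (congrArg Subtype.val ha)
    obtain ⟨j, hj⟩ := IsPGroup.iff_orderOf.1 P.2 a
    rw [← orderOf_eq_one_iff, hj]
    rcases Nat.eq_zero_or_pos j with hj0 | hj0
    · rw [hj0, pow_zero]
    · refine absurd ?_ (not_dvd_card_pPrimeCore (G := G) p)
      rw [← Subgroup.orderOf_coe] at hj
      exact (hj ▸ dvd_pow_self p hj0.ne' : p ∣ orderOf (a : G)).trans
        (Subgroup.orderOf_dvd_natCard K haK)
  let e := MulEquiv.ofBijective f hf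
  have := Fintype.ofFinite ↥(Q : Subgroup (G ⧸ K))
  obtain ⟨ψ, hψd, hψx⟩ := exists_irr_not_dvd (p := p) (Q : Subgroup (G ⧸ K)) Q.not_dvd_index
    (lam := fun y => (lam : ↥(P : Subgroup G) → ℂ) (e.symm y))
    (isIrr_comp_mulEquiv lam.2 e.symm) (by simpa using hlam1) (x := e ⟨x, hxP⟩)
    (by simpa using hlamx)
  have hC := CfsgLib.Transfer.centralizer_pCore_le_of_isPSolvable
    (CfsgLib.Transfer.isPSolvable_quotient hps K) (pPrimeCore_quotient_self p)
  have hχq := h ⟨_, isIrr_comp_mk' K ψ.2⟩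
    (S4736.mem_principalBlock_comp K (S4736.mem_principalBlock_of_selfCentral hMp hC ψ)) hψd
  rw [principalBlock_eq] at hχq
  exact hψx (trivialOn_of_sameBlock hMq (not_dvd_card_pPrimeCore q) (χ := irrOne) hχq
    (fun n _ => by simp [irrOne_apply]) x hxK)

end Char

section Group

variable {G : Type*} [Group G] [Finite G] {p : ℕ} [hp : Fact p.Prime]

/-- Tate's criterion for a normal subgroup. -/
theorem tate_split (P : Sylow p G) (L : Subgroup G) [L.Normal]
    (hL : (P : Subgroup G) ⊓ L ≤ (frattini (P : Subgroup G)).map (P : Subgroup G).subtype) :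
    ∃ C : Subgroup G, C ≤ pPrimeCore p G ∧ C ≤ L ∧
      ∀ x ∈ L, ∃ c ∈ C, c⁻¹ * x ∈ (P : Subgroup G) := by
  classical
  let Y : Subgroup G := L ⊔ P
  let Py := P.subtype (le_sup_right : (P : Subgroup G) ≤ Y)
  let L' : Subgroup Y := L.subgroupOf Y
  have hres : pResidual p Y ≤ L' := by
    refine CfsgLib.Transfer.pResidual_le (P.2.of_surjective
      ((QuotientGroup.mk' L').comp (Subgroup.inclusion le_sup_right)) fun z => ?_)
    obtain ⟨⟨y, hy⟩, rfl⟩ := QuotientGroup.mk'_surjective L' z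
    obtain ⟨l, hl, x, hx, rfl⟩ := Subgroup.mem_sup_of_normal_left.mp hy
    refine ⟨⟨x, hx⟩, QuotientGroup.eq.mpr ?_⟩
    show x⁻¹ * (l * x) ∈ L
    simpa [mul_assoc] using (inferInstance : L.Normal).conj_mem l hl x⁻¹
  have hY : HasNormalPComplement p Y := by
    refine CfsgLib.Transfer.hasNormalPComplement_of_le_frattini Py ?_
    rintro y ⟨hyP, hyR⟩
    obtain ⟨z, hz, hze⟩ := hL ⟨Subgroup.mem_subgroupOf.mp hyP,
      Subgroup.mem_subgroupOf.mp (hres hyR)⟩
    let f : ↥(Py : Subgroup Y) ≃* ↥(P : Subgroup G) :=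
      Subgroup.subgroupOfEquivOfLe le_sup_right
    exact ⟨f.symm z, frattini_le_comap_frattini_of_surjective
      (φ := (f.symm : ↥(P : Subgroup G) →* ↥(Py : Subgroup Y))) f.symm.surjective hz,
      Subtype.ext hze⟩
  have hc := CfsgLib.Transfer.hasNormalPComplement_iff_pResidual.mp hY
  let C : Subgroup G := (pResidual p Y).map Y.subtype
  have hCL : C ≤ L := by
    rintro _ ⟨y, hy, rfl⟩
    exact hres hy
  refine ⟨C, ?_, hCL, fun x hx => ?_⟩
  · have hn : (C.subgroupOf L).Normal := ⟨fun c hc' l => by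
      obtain ⟨y, hy, hye⟩ := hc'
      exact ⟨⟨(l : G), Subgroup.mem_sup_left l.2⟩ * y * ⟨(l : G), Subgroup.mem_sup_left l.2⟩⁻¹,
        CfsgLib.Transfer.pResidual_normal_inst.conj_mem y hy _,
        congrArg (fun t : G => (l : G) * t * (l : G)⁻¹) hye⟩⟩
    intro x hx
    have hcard : ¬ p ∣ Nat.card (C.subgroupOf L) := by
      rw [Nat.card_congr (Subgroup.subgroupOfEquivOfLe hCL).toEquiv,
        Subgroup.card_map_of_injective Y.subtype_injective]
      exact CfsgLib.Transfer.not_dvd_of_coprime hc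
    exact map_subtype_pPrimeCore_le_of_normal p L
      (Subgroup.mem_map_of_mem L.subtype (le_pPrimeCore_of_not_dvd hcard
        (show (⟨x, hCL hx⟩ : L) ∈ C.subgroupOf L from hx)))
  · have ht : (⟨x, Subgroup.mem_sup_left hx⟩ : Y) ∈ pResidual p Y ⊔ (Py : Subgroup Y) :=
      CfsgLib.Transfer.pResidual_sup_sylow Py ▸ Subgroup.mem_top _
    obtain ⟨c, hc', y, hy, he⟩ := Subgroup.mem_sup_of_normal_left.mp ht
    refine ⟨_, Subgroup.mem_map_of_mem Y.subtype hc', ?_⟩
    have he' : (c : G) * (y : G) = x := congrArg Subtype.val he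
    rw [← he', Subgroup.coe_subtype, inv_mul_cancel_left]
    exact hy

variable {q : ℕ} [hq : Fact q.Prime]

/-- A normal subgroup meeting `P` in the Frattini subgroup lies in the product of the cores. -/
theorem le_of_tate (P : Sylow p G) (L : Subgroup G) [L.Normal] (F : Subgroup G)
    (hF : pPrimeCore p G ≤ F) (hPF : (P : Subgroup G) ⊓ L ≤ F)
    (hL : (P : Subgroup G) ⊓ L ≤ (frattini (P : Subgroup G)).map (P : Subgroup G).subtype) :
    L ≤ F := by
  obtain ⟨C, hCA, hCL, hC⟩ := tate_split P L hL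
  intro x hx
  obtain ⟨c, hc, hcx⟩ := hC x hx
  rw [← mul_inv_cancel_left c x]
  exact mul_mem (hF (hCA hc)) (hPF (Subgroup.mem_inf.mpr ⟨hcx, mul_mem (inv_mem (hCL hc)) hx⟩))

/-- The `q'`-core is inside `P` when it meets `P` in the Frattini subgroup. -/
theorem core_le_sylow (P : Sylow p G) (hAB : pPrimeCore p G ⊓ pPrimeCore q G = ⊥)
    (hB : (P : Subgroup G) ⊓ pPrimeCore q G ≤
      (frattini (P : Subgroup G)).map (P : Subgroup G).subtype) :
    pPrimeCore q G ≤ (P : Subgroup G) := by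
  have : (pPrimeCore q G).Normal := pPrimeCore_normal q G
  obtain ⟨C, hCA, hCL, hC⟩ := tate_split P _ hB
  intro x hx
  obtain ⟨c, hc, hcx⟩ := hC x hx
  rw [Subgroup.mem_bot.mp (hAB ▸ ⟨hCA hc, hCL hc⟩ : c ∈ (⊥ : Subgroup G)), inv_one, one_mul] at hcx
  exact hcx

theorem pPrimeCore_quotient_sup (P : Sylow p G) (hAB : pPrimeCore p G ⊓ pPrimeCore q G = ⊥)
    (hB : (P : Subgroup G) ⊓ pPrimeCore q G ≤
      (frattini (P : Subgroup G)).map (P : Subgroup G).subtype)
    (F : Subgroup G) [F.Normal] (hFdef : F = pPrimeCore p G ⊔ pPrimeCore q G) :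
    pPrimeCore p (G ⧸ F) = ⊥ := by
  have : (pPrimeCore p (G ⧸ F)).Normal := pPrimeCore_normal p _
  have : (pPrimeCore p G).Normal := pPrimeCore_normal p G
  have hBP := core_le_sylow P hAB hB
  have hPL : (P : Subgroup G) ⊓ (pPrimeCore p (G ⧸ F)).comap (QuotientGroup.mk' F) ≤ F := by
    rintro x ⟨hxP, hxL⟩
    refine (QuotientGroup.eq_one_iff x).mp (orderOf_eq_one_iff.mp ?_)
    obtain ⟨j, hj⟩ := IsPGroup.iff_orderOf.1 P.2 ⟨x, hxP⟩
    rw [Subgroup.orderOf_mk] at hj
    exact Nat.eq_one_of_dvd_coprimes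
      ((hp.out.coprime_iff_not_dvd.mpr (not_dvd_card_pPrimeCore (G := G ⧸ F) p)).pow_left j)
      (hj ▸ orderOf_map_dvd (QuotientGroup.mk' F) x) (Subgroup.orderOf_dvd_natCard _ hxL)
  have hPF : (P : Subgroup G) ⊓ F ≤ pPrimeCore q G := by
    intro x hx
    obtain ⟨hxP, hxF⟩ := Subgroup.mem_inf.mp hx
    rw [hFdef] at hxF
    obtain ⟨a, ha, b, hb, rfl⟩ := Subgroup.mem_sup_of_normal_left.mp hxF
    have haP : a ∈ (P : Subgroup G) := by
      simpa using mul_mem hxP (inv_mem (hBP hb))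
    obtain ⟨j, hj⟩ := IsPGroup.iff_orderOf.1 P.2 ⟨a, haP⟩
    rw [Subgroup.orderOf_mk] at hj
    rw [orderOf_eq_one_iff.mp (Nat.eq_one_of_dvd_coprimes
      ((hp.out.coprime_iff_not_dvd.mpr (not_dvd_card_pPrimeCore (G := G) p)).pow_left j)
      (hj ▸ dvd_rfl) (Subgroup.orderOf_dvd_natCard _ ha)), one_mul]
    exact hb
  have h := le_of_tate P ((pPrimeCore p (G ⧸ F)).comap (QuotientGroup.mk' F)) F
    (hFdef ▸ le_sup_left) hPL (fun x hx => hB ⟨hx.1, hPF ⟨hx.1, hPL hx⟩⟩)
  refine eq_bot_iff.mpr fun z hz => ?_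
  obtain ⟨g, rfl⟩ := QuotientGroup.mk'_surjective F z
  exact Subgroup.mem_bot.mpr ((QuotientGroup.eq_one_iff g).mpr (h hz))

/-- The group-theoretic core of the theorem. -/
theorem false_of_cores (hpq : p ≠ q) (hpG : p ∣ Nat.card G) (hps : IsPSolvable p G)
    (P : Sylow p G) (Q : Sylow q G) (hAB : pPrimeCore p G ⊓ pPrimeCore q G = ⊥)
    (hB : (P : Subgroup G) ⊓ pPrimeCore q G ≤
      (frattini (P : Subgroup G)).map (P : Subgroup G).subtype)
    (hA : (Q : Subgroup G) ⊓ pPrimeCore p G ≤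
      (frattini (Q : Subgroup G)).map (Q : Subgroup G).subtype) : False := by
  have hnA : (pPrimeCore p G).Normal := pPrimeCore_normal p G
  have hnB : (pPrimeCore q G).Normal := pPrimeCore_normal q G
  let F : Subgroup G := pPrimeCore p G ⊔ pPrimeCore q G
  have h1 : pPrimeCore p (G ⧸ F) = ⊥ := pPrimeCore_quotient_sup P hAB hB F rfl
  have h2 : pPrimeCore q (G ⧸ F) = ⊥ :=
    pPrimeCore_quotient_sup Q ((inf_comm _ _).trans hAB) hA F (sup_comm _ _)
  have hO : pCore p (G ⧸ F) = ⊥ := by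
    have : (pCore p (G ⧸ F)).Normal := pCore_normal p _
    refine le_bot_iff.mp (h2 ▸ le_pPrimeCore_of_not_dvd ?_)
    obtain ⟨k, hk⟩ := card_pCore_eq_pow (G := G ⧸ F) p
    rw [hk]
    exact fun hd => hpq ((Nat.prime_dvd_prime_iff_eq hq.out hp.out).mp
      (hq.out.dvd_of_dvd_pow hd)).symm
  have hC := CfsgLib.Transfer.centralizer_pCore_le_of_isPSolvable
    (CfsgLib.Transfer.isPSolvable_quotient hps F) h1
  rw [hO] at hC
  have hBP := core_le_sylow P hAB hB
  have hPB : (P : Subgroup G) ≤ pPrimeCore q G := by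
    intro x hx
    have hxF : x ∈ F := (QuotientGroup.eq_one_iff x).mp (Subgroup.mem_bot.mp (hC (by
      refine Subgroup.mem_centralizer_iff.mpr fun y hy => ?_
      rw [Subgroup.mem_bot.mp hy, one_mul, mul_one])))
    obtain ⟨a, ha, b, hb, rfl⟩ := Subgroup.mem_sup_of_normal_left.mp hxF
    have haP : a ∈ (P : Subgroup G) := by
      simpa using mul_mem hx (inv_mem (hBP hb))
    obtain ⟨j, hj⟩ := IsPGroup.iff_orderOf.1 P.2 ⟨a, haP⟩
    rw [Subgroup.orderOf_mk] at hj
    rw [orderOf_eq_one_iff.mp (Nat.eq_one_of_dvd_coprimes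
      ((hp.out.coprime_iff_not_dvd.mpr (not_dvd_card_pPrimeCore (G := G) p)).pow_left j)
      (hj ▸ dvd_rfl) (Subgroup.orderOf_dvd_natCard _ ha)), one_mul]
    exact hb
  have htop : frattini (P : Subgroup G) = ⊤ := by
    refine eq_top_iff.mpr fun x _ => ?_
    obtain ⟨z, hz, hze⟩ := hB ⟨x.2, hPB x.2⟩
    exact Subtype.ext hze ▸ hz
  have hbot : (⊥ : Subgroup ↥(P : Subgroup G)) = ⊤ :=
    frattini_nongenerating (by rw [htop, sup_top_eq])
  have hcard : Nat.card ↥(P : Subgroup G) = 1 := by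
    rw [← Subgroup.card_top (G := ↥(P : Subgroup G)), ← hbot, Subgroup.card_bot]
  have := P.dvd_card_of_dvd_card hpG
  rw [hcard] at this
  exact hp.out.one_lt.ne' (Nat.dvd_one.mp this)

/-- Passage to the quotient by `N ≤ O_{q'}(G)`. -/
theorem quotient_frattini (P : Sylow p G) (N : Subgroup G) [N.Normal] (hN : N ≤ pPrimeCore q G)
    (h : ∀ x (hx : x ∈ (P : Subgroup G)), x ∈ pPrimeCore q G →
      (⟨x, hx⟩ : ↥(P : Subgroup G)) ∈ _root_.commutator ↥(P : Subgroup G)) :
    let Pb := P.mapSurjective (QuotientGroup.mk'_surjective N)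
    (Pb : Subgroup (G ⧸ N)) ⊓ pPrimeCore q (G ⧸ N) ≤
      (frattini (Pb : Subgroup (G ⧸ N))).map (Pb : Subgroup (G ⧸ N)).subtype := by
  intro Pb
  rintro _ ⟨⟨a, ha, rfl⟩, hb⟩
  rw [← map_mk'_pPrimeCore N hN] at hb
  obtain ⟨k, hk, hke⟩ := hb
  have haK : a ∈ pPrimeCore q G := by
    have h1 := hN (QuotientGroup.eq.mp hke)
    simpa using mul_mem hk h1
  have hc := h a ha haK
  let f : ↥(P : Subgroup G) →* ↥(Pb : Subgroup (G ⧸ N)) :=
    (QuotientGroup.mk' N).subgroupMap (P : Subgroup G)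
  refine ⟨f ⟨a, ha⟩, CfsgLib.PGroup.commutator_le_frattini Pb.2 ?_, rfl⟩
  exact (Subgroup.map_commutator _ _ f).trans_le (Subgroup.commutator_mono le_top le_top)
    (Subgroup.mem_map_of_mem f hc)

end Group

/-- Let p and q be primes dividing the order of the finite group G, and suppose G is p-solvable and q-solvable. Fix maximal ideals of the algebraic integers containing p and q, defining the principal p-block and the principal q-block. If the irreducible characters of degree prime to p in the principal p-block are exactly the irreducible characters of degree prime to q in the principal q-block, then p = q. -/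
theorem result {G : Type*} [Group G] [Finite G] (p q : ℕ) [Fact p.Prime] [Fact q.Prime] (hp : p ∣ Nat.card G) (hq : q ∣ Nat.card G) (hps : Cfsg.IsPSolvable p G) (hqs : Cfsg.IsPSolvable q G) (Mp Mq : Ideal Cfsg.AlgInt) (hMp : Cfsg.IsPModular p Mp) (hMq : Cfsg.IsPModular q Mq) (h : ∀ χ : Cfsg.IrrCharacter G, (χ ∈ Cfsg.principalBlock Mp G ∧ ¬ p ∣ Cfsg.charDegree (χ : G → ℂ)) ↔ (χ ∈ Cfsg.principalBlock Mq G ∧ ¬ q ∣ Cfsg.charDegree (χ : G → ℂ))) : p = q := by
  classical
  have := Fintype.ofFinite G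
  by_contra hpq
  let P : Sylow p G := default
  let Q : Sylow q G := default
  have hB := mem_commutator_of_mem_core hMp hMq hps
    (fun χ h1 h2 => ((h χ).mp ⟨h1, h2⟩).1) P
  have hA := mem_commutator_of_mem_core hMq hMp hqs
    (fun χ h1 h2 => ((h χ).mpr ⟨h1, h2⟩).1) Q
  have hnA : (pPrimeCore p G).Normal := pPrimeCore_normal p G
  have hnB : (pPrimeCore q G).Normal := pPrimeCore_normal q G
  let N : Subgroup G := pPrimeCore p G ⊓ pPrimeCore q G
  have hAB : pPrimeCore p (G ⧸ N) ⊓ pPrimeCore q (G ⧸ N) = ⊥ := by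
    rw [← map_mk'_pPrimeCore (p := p) N inf_le_left, ← map_mk'_pPrimeCore (p := q) N inf_le_right,
      eq_bot_iff]
    rintro _ ⟨⟨a, ha, rfl⟩, b, hb, he⟩
    have h1 : b⁻¹ * a ∈ N := QuotientGroup.eq.mp he
    refine Subgroup.mem_bot.mpr ((QuotientGroup.eq_one_iff a).mpr ⟨ha, ?_⟩)
    simpa using mul_mem hb (Subgroup.mem_inf.mp h1).2
  have hd : p ∣ Nat.card (G ⧸ N) := by
    have h1 := N.card_mul_index
    rcases (Fact.out : p.Prime).dvd_mul.mp (h1.symm ▸ hp) with h2 | h2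
    · exact absurd (h2.trans (Subgroup.card_dvd_of_le inf_le_left)) (not_dvd_card_pPrimeCore p)
    · rwa [Subgroup.index_eq_card] at h2
  exact false_of_cores hpq hd (CfsgLib.Transfer.isPSolvable_quotient hps N) _ _ hAB
    (quotient_frattini P N inf_le_right hB) (quotient_frattini Q N inf_le_left hA)

end Cfsg.Agent.S4885
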