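import Cfsg.Statements.S4886
import Cfsg.Agent.S4885
import Cfsg.Agent.Lib.CharNormal.CoprimeDegreeCount
import Cfsg.Agent.Lib.Solvable.CoprimeAction
import Cfsg.Agent.Lib.CharBlocks.RelGlaubermanCore
import Cfsg.Agent.Lib.OddChar.Inertia

set_option autoImplicit false
open Cfsg

namespace Cfsg.Agent.S4886

open CfsgLib.Char CfsgLib.CharNormal CfsgLib.Cores CfsgLib.Solvable
open scoped ComplexConjugate Pointwise commutatorElement

universe u

section Group

variable {G : Type u} [Group G] [Finite G] {p q : ℕ} [hp : Fact p.Prime] [hq : Fact q.Prime]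

theorem eq_one_of_orders (hpq : p ≠ q) {P Q : Subgroup G} (hP : IsPGroup p P) (hQ : IsPGroup q Q)
    {x : G} (hxP : x ∈ P) (hxQ : x ∈ Q) : x = 1 :=
  Subgroup.mem_bot.mp ((disjoint_iff.mp (hP.disjoint_of_ne p q hpq P Q hQ)) ▸ ⟨hxP, hxQ⟩)

theorem eq_one_of_coprime_cores {P K : Subgroup G} (hP : IsPGroup p P) (hK : ¬ p ∣ Nat.card K)
    {x : G} (hxP : x ∈ P) (hxK : x ∈ K) : x = 1 := by
  obtain ⟨j, hj⟩ := IsPGroup.iff_orderOf.1 hP ⟨x, hxP⟩
  rw [Subgroup.orderOf_mk] at hj
  exact orderOf_eq_one_iff.mp (Nat.eq_one_of_dvd_coprimes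
    ((hp.out.coprime_iff_not_dvd.mpr hK).pow_left j)
    (hj ▸ dvd_rfl) (Subgroup.orderOf_dvd_natCard _ hxK))

theorem coprime_card_pGroup {P K : Subgroup G} (hP : IsPGroup p P) (hK : ¬ p ∣ Nat.card K) :
    (Nat.card P).Coprime (Nat.card K) := by
  obtain ⟨j, hj⟩ := IsPGroup.iff_card.1 hP
  rw [hj]
  exact (hp.out.coprime_iff_not_dvd.mpr hK).pow_left j

theorem isSolvable_pGroup {P : Subgroup G} (hP : IsPGroup p P) : Group.IsSolvable P := by
  have : Group.IsNilpotent P := hP.isNilpotent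
  infer_instance

/-- A `q`-subgroup normalised by a Sylow `p`-subgroup lies in `O_{p'}(G)`. -/
theorem le_pPrimeCore_of_normalized (hpq : p ≠ q) (hps : IsPSolvable p G) (P : Sylow p G)
    (Q : Subgroup G) (hQ : IsPGroup q Q) (hPQ : (P : Subgroup G) ≤ Subgroup.normalizer (Q : Set G)) :
    Q ≤ pPrimeCore p G := by
  have hKn : (pPrimeCore p G).Normal := pPrimeCore_normal p G
  let K := pPrimeCore p G
  have hC := CfsgLib.Transfer.centralizer_pCore_le_of_isPSolvable
    (CfsgLib.Transfer.isPSolvable_quotient hps K) (pPrimeCore_quotient_self p)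
  have : (pCore p (G ⧸ K)).Normal := pCore_normal p _
  let Qb : Subgroup (G ⧸ K) := Q.map (QuotientGroup.mk' K)
  have hQb : IsPGroup q Qb := hQ.map _
  intro y hy
  have hyC : QuotientGroup.mk' K y ∈ Subgroup.centralizer (pCore p (G ⧸ K) : Set (G ⧸ K)) := by
    refine Subgroup.mem_centralizer_iff.mpr fun z hz => ?_
    obtain ⟨x, hx, rfl⟩ := (pCore_le_sylow (P.mapSurjective (QuotientGroup.mk'_surjective K)) hz :
      z ∈ (P : Subgroup G).map (QuotientGroup.mk' K))
    have h1 : x * y * x⁻¹ ∈ Q := normalizer_conj_mem (hPQ hx) hy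
    refine commutatorElement_eq_one_iff_mul_comm.mp (eq_one_of_orders hpq
      (isPGroup_pCore (G := G ⧸ K) p) hQb (commutator_mem_of_normal_left hz _) ?_)
    rw [← map_commutatorElement]
    exact Subgroup.mem_map_of_mem _ (mul_mem h1 (inv_mem hy))
  have h2 := eq_one_of_orders hpq (isPGroup_pCore (G := G ⧸ K) p) hQb (hC hyC)
    (Subgroup.mem_map_of_mem _ hy)
  exact (QuotientGroup.eq_one_iff y).mp h2
where
  commutator_mem_of_normal_left {H : Type u} [Group H] {U : Subgroup H} [U.Normal] {z : H}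
      (hz : z ∈ U) (w : H) : ⁅z, w⁆ ∈ U := by
    rw [commutatorElement_def, mul_assoc, mul_assoc]
    exact mul_mem hz (by simpa [mul_assoc] using (inferInstance : U.Normal).conj_mem _ (inv_mem hz) w)

/-- If `P` normalises exactly one Sylow `q`-subgroup, that subgroup lies in every overgroup of
`P` of index prime to `q`. -/
theorem sylow_le_of_index (hpq : p ≠ q) (hps : IsPSolvable p G) (P : Sylow p G) (Q : Sylow q G)
    (hPQ : (P : Subgroup G) ≤ Subgroup.normalizer ((Q : Subgroup G) : Set G))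
    (huniq : ∀ Q' : Sylow q G, (P : Subgroup G) ≤ Subgroup.normalizer ((Q' : Subgroup G) : Set G) →
      Q' = Q)
    (T : Subgroup G) (hPT : (P : Subgroup G) ≤ T) (hT : ¬ q ∣ T.index) : (Q : Subgroup G) ≤ T := by
  have hKn : (pPrimeCore p G).Normal := pPrimeCore_normal p G
  have hQK := le_pPrimeCore_of_normalized hpq hps P Q Q.2 hPQ
  let W : Subgroup G := T ⊓ pPrimeCore p G
  have hW : ¬ q ∣ W.index := by
    rw [← Subgroup.relIndex_mul_index (inf_le_left : W ≤ T), inf_comm, Subgroup.inf_relIndex_right]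
    intro h
    rcases hq.out.dvd_mul.mp h with h | h
    · exact Q.not_dvd_index (h.trans ((Subgroup.relIndex_dvd_index_of_normal _ _).trans
        (Subgroup.index_dvd_of_le hQK)))
    · exact hT h
  have hPW : (P : Subgroup G) ≤ Subgroup.normalizer (W : Set G) :=
    le_normalizer_of_conj_mem fun x hx w hw => Subgroup.mem_inf.mpr
      ⟨mul_mem (mul_mem (hPT hx) (Subgroup.mem_inf.mp hw).1) (inv_mem (hPT hx)),
        hKn.conj_mem w (Subgroup.mem_inf.mp hw).2 x⟩
  have hWp : ¬ p ∣ Nat.card W := fun h => not_dvd_card_pPrimeCore (G := G) p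
    (h.trans (Subgroup.card_dvd_of_le inf_le_right))
  obtain ⟨S, hS⟩ := exists_invariant_sylow (P : Subgroup G) W hPW (coprime_card_pGroup P.2 hWp)
    (Or.inl (isSolvable_pGroup P.2)) q
  have hSi : ¬ q ∣ ((S : Subgroup W).map W.subtype).index := by
    rw [Subgroup.index_map_subtype]
    exact fun h => (hq.out.dvd_mul.mp h).elim S.not_dvd_index hW
  obtain rfl := huniq ((S.2.map W.subtype).toSylow hSi) hS
  exact (Subgroup.map_subtype_le _).trans inf_le_left

end Group

section Chars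

variable {G : Type u} [Group G] [Fintype G] {p q : ℕ} [hp : Fact p.Prime] [hq : Fact q.Prime]

/-- A character of `p'`-degree above a given character of `p'`-degree. -/
theorem exists_over_not_dvd (Y : Subgroup G) (hY : ¬ p ∣ Y.index) [Fintype Y] {η : Y → ℂ}
    (hη : IsIrrCharacter Y η) (hd : ¬ p ∣ charDegree η) :
    ∃ ψ : IrrCharacter G, ¬ p ∣ charDegree (ψ : G → ℂ) ∧
      classInner (fun y : Y => (ψ : G → ℂ) y) η ≠ 0 := by
  classical
  obtain ⟨m, hm, hmi⟩ := char_decomp (isCharacter_indFun Y (isCharacter_of_isIrr hη))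
  have h := congrFun hm 1
  rw [indFun_one, show η 1 = (charDegree η : ℂ) from
    (CfsgLib.CharBlocks.coe_charDegree_irr (⟨η, hη⟩ : IrrCharacter Y)).symm] at h
  simp only [Finset.sum_apply, Pi.smul_apply, smul_eq_mul,
    ← CfsgLib.CharBlocks.coe_charDegree_irr, ← Nat.cast_mul, ← Nat.cast_sum, Nat.cast_inj] at h
  obtain ⟨ψ, -, hψ⟩ : ∃ ψ ∈ (Finset.univ : Finset (IrrCharacter G)),
      ¬ p ∣ m ψ * charDegree (ψ : G → ℂ) := by
    by_contra hc
    push Not at hc
    exact (fun hh => (hp.out.dvd_mul.mp hh).elim hY hd) (h ▸ Finset.dvd_sum hc)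
  refine ⟨ψ, fun hh => hψ (hh.mul_left _), fun h0 => hψ ?_⟩
  have h1 : classInner η (fun y : Y => (ψ : G → ℂ) y) = (m ψ : ℂ) := by
    rw [← frobenius_reciprocity Y η (isClassFunction_of_isIrr ψ.2), hmi ψ]
  rw [← classInner_conj_symm, h0, map_zero] at h1
  rw [show m ψ = 0 from by exact_mod_cast h1.symm, zero_mul]
  exact dvd_zero p

/-- The inertia group of a character below a `p'`-degree character has index prime to `q`. -/
theorem not_dvd_inertia (hyp : ∀ χ : IrrCharacter G, ¬ p ∣ charDegree (χ : G → ℂ) →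
      ¬ q ∣ charDegree (χ : G → ℂ))
    (N Y : Subgroup G) [N.Normal] [Fintype N] [Fintype Y] (hNY : N ≤ Y) (hY : ¬ p ∣ Y.index)
    {η : Y → ℂ} (hη : IsIrrCharacter Y η) (hd : ¬ p ∣ charDegree η) (θ : IrrCharacter N)
    (hθ : classInner (η ∘ Subgroup.inclusion hNY) (θ : N → ℂ) ≠ 0) :
    ¬ q ∣ (inertia N (θ : N → ℂ)).index := by
  obtain ⟨ψ, hψd, hψ⟩ := exists_over_not_dvd Y hY hη hd
  have hover : classInner (fun n : N => (ψ : G → ℂ) n) (θ : N → ℂ) ≠ 0 :=
    CfsgLib.CharBlocks.RelGlauberman.classInner_ne_zero_trans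
      (f := fun y : Y => (ψ : G → ℂ) y) (isCharacter_comp (isCharacter_of_isIrr ψ.2) Y.subtype) hη
      (Subgroup.inclusion hNY) θ.2 hψ hθ
  obtain ⟨e, he⟩ := classInner_char_nat (isCharacter_res N (isCharacter_of_isIrr ψ.2))
    (isCharacter_of_isIrr θ.2)
  have h := degree_eq_mul_card_orbit N ψ.2 θ hover
  rw [he, card_orbit_eq_index, ← CfsgLib.CharBlocks.coe_charDegree_irr,
    ← CfsgLib.CharBlocks.coe_charDegree_irr, ← Nat.cast_mul, ← Nat.cast_mul, Nat.cast_inj] at h
  exact fun hh => hyp ψ hψd (h ▸ dvd_mul_of_dvd_left (hh.mul_left e) _)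

/-- Outside the derived subgroup some linear character is nontrivial. -/
theorem exists_linear_ne {x : G} (hx : x ∉ _root_.commutator G) :
    ∃ lam : IrrCharacter G, (lam : G → ℂ) 1 = 1 ∧ (lam : G → ℂ) x ≠ 1 :=
  S4885.exists_linear_ne hx

end Chars

/-- In a nilpotent group a complemented abelian normal subgroup meets the derived subgroup
properly unless it is trivial. -/
theorem eq_bot_of_complement {P : Type u} [Group P] [Group.IsNilpotent P] (W P0 : Subgroup P)
    [hWn : W.Normal] (hcomm : ∀ a ∈ W, ∀ b ∈ W, a * b = b * a) (hinf : W ⊓ P0 = ⊥)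
    (hsup : W ⊔ P0 = ⊤) (hW : W ≤ _root_.commutator P) : W = ⊥ := by
  let V : Subgroup P := ⁅W, (⊤ : Subgroup P)⁆
  have hVn : V.Normal := inferInstanceAs (⁅W, (⊤ : Subgroup P)⁆).Normal
  have hVW : V ≤ W := Subgroup.commutator_le_left _ _
  let D : Subgroup P := V ⊔ P0
  have htop : ∀ x : P, ∃ w ∈ W, ∃ z ∈ P0, w * z = x := fun x =>
    Subgroup.mem_sup_of_normal_left.mp (hsup ▸ Subgroup.mem_top x)
  have hDn : D.Normal := by
    refine ⟨fun d hd x => ?_⟩
    obtain ⟨v, hv, r, hr, rfl⟩ := Subgroup.mem_sup_of_normal_left.mp hd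
    obtain ⟨w, hw, z, hz, rfl⟩ := htop x
    rw [show w * z * (v * r) * (w * z)⁻¹ =
      ((w * z) * v * (w * z)⁻¹) * (⁅w, z * r * z⁻¹⁆ * (z * r * z⁻¹)) by
        rw [commutatorElement_def]; group]
    exact mul_mem (Subgroup.mem_sup_left (hVn.conj_mem v hv _))
      (mul_mem (Subgroup.mem_sup_left (Subgroup.commutator_mem_commutator hw (Subgroup.mem_top _)))
        (Subgroup.mem_sup_right (mul_mem (mul_mem hz hr) (inv_mem hz))))
  have hcD : _root_.commutator P ≤ D := by
    rw [commutator_def, Subgroup.commutator_le]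
    intro a _ b _
    obtain ⟨w1, hw1, z1, hz1, rfl⟩ := htop a
    obtain ⟨w2, hw2, z2, hz2, rfl⟩ := htop b
    rw [← QuotientGroup.eq_one_iff]
    have e1 : ((z1 : P) : P ⧸ D) = 1 := (QuotientGroup.eq_one_iff z1).mpr (Subgroup.mem_sup_right hz1)
    have e2 : ((z2 : P) : P ⧸ D) = 1 := (QuotientGroup.eq_one_iff z2).mpr (Subgroup.mem_sup_right hz2)
    have h := map_commutatorElement (QuotientGroup.mk' D) (w1 * z1) (w2 * z2)
    simp only [QuotientGroup.mk'_apply, QuotientGroup.mk_mul, e1, e2, mul_one] at h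
    rw [h, commutatorElement_eq_one_iff_mul_comm, ← QuotientGroup.mk_mul, ← QuotientGroup.mk_mul,
      hcomm _ hw1 _ hw2]
  have hle : W ≤ V := by
    intro w hw
    obtain ⟨v, hv, r, hr, e⟩ := Subgroup.mem_sup_of_normal_left.mp (hcD (hW hw))
    have hrW : r ∈ W := by
      rw [show r = v⁻¹ * w by rw [← e, inv_mul_cancel_left]]
      exact mul_mem (inv_mem (hVW hv)) hw
    rw [← e, Subgroup.mem_bot.mp (hinf ▸ ⟨hrW, hr⟩ : r ∈ (⊥ : Subgroup P)), mul_one]
    exact hv
  have hser : ∀ n, W ≤ (⊤ : Subgroup P).lowerCentralSeries n := by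
    intro n
    induction n with
    | zero => exact le_top
    | succ n ih =>
      rw [Subgroup.lowerCentralSeries_succ]
      exact hle.trans (Subgroup.commutator_mono ih le_rfl)
  obtain ⟨n, hn⟩ := Subgroup.nilpotent_iff_lowerCentralSeries.1 ‹Group.IsNilpotent P›
  exact le_bot_iff.1 (hn ▸ hser n)

/-- `P` normalises exactly one Sylow `q`-subgroup. -/
def UniqueNormalized (p q : ℕ) (G : Type u) [Group G] : Prop :=
  ∀ P : Sylow p G, ∃ Q : Sylow q G,
    (P : Subgroup G) ≤ Subgroup.normalizer ((Q : Subgroup G) : Set G) ∧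
    ∀ Q' : Sylow q G, (P : Subgroup G) ≤ Subgroup.normalizer ((Q' : Subgroup G) : Set G) → Q' = Q

section Step

variable {G : Type u} [Group G] [Finite G] {p q : ℕ} [hp : Fact p.Prime] [hq : Fact q.Prime]

/-- What the induction hypothesis on `G ⧸ N` says about the preimage `H = N Q`. -/
theorem exists_preimage (hpq : p ≠ q) (hps : IsPSolvable p G) (N : Subgroup G) [N.Normal]
    (hU : UniqueNormalized p q (G ⧸ N)) (P : Sylow p G) :
    ∃ H : Subgroup G, N ≤ H ∧ (P : Subgroup G) ≤ Subgroup.normalizer (H : Set G) ∧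
      ¬ q ∣ H.index ∧ IsPGroup q (H.map (QuotientGroup.mk' N)) ∧
      (∀ Q : Sylow q G, (P : Subgroup G) ≤ Subgroup.normalizer ((Q : Subgroup G) : Set G) →
        (Q : Subgroup G) ≤ H) ∧
      ∀ T : Subgroup G, N ≤ T → (P : Subgroup G) ≤ T → ¬ q ∣ T.index → H ≤ T := by
  let Pb := P.mapSurjective (QuotientGroup.mk'_surjective N)
  obtain ⟨Qb, hPQ, huniq⟩ := hU Pb
  have hker : N ≤ (Qb : Subgroup (G ⧸ N)).comap (QuotientGroup.mk' N) := fun n hn => by
    rw [Subgroup.mem_comap, QuotientGroup.mk'_apply, (QuotientGroup.eq_one_iff n).mpr hn]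
    exact one_mem _
  refine ⟨_, hker, le_normalizer_of_conj_mem fun x hx h hh => ?_, ?_, ?_, fun Q hQ => ?_,
    fun T hNT hPT hT => ?_⟩
  · rw [Subgroup.mem_comap, map_mul, map_mul, map_inv]
    exact normalizer_conj_mem (hPQ (Subgroup.mem_map_of_mem _ hx)) hh
  · rw [Subgroup.index_comap_of_surjective _ (QuotientGroup.mk'_surjective N)]
    exact Qb.not_dvd_index
  · exact Qb.2.to_le (Subgroup.map_comap_le _ _)
  · have h : Q.mapSurjective (QuotientGroup.mk'_surjective N) = Qb := by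
      refine huniq _ (le_normalizer_of_conj_mem ?_)
      rintro _ ⟨x, hx, rfl⟩ _ ⟨y, hy, rfl⟩
      exact ⟨_, normalizer_conj_mem (hQ hx) hy, by simp⟩
    rw [← h]
    exact Subgroup.le_comap_map _ _
  · have hTi : (T.map (QuotientGroup.mk' N)).index = T.index :=
      Subgroup.index_map_eq _ (QuotientGroup.mk'_surjective N) (by rwa [QuotientGroup.ker_mk'])
    refine (Subgroup.comap_mono (sylow_le_of_index hpq
      (CfsgLib.Transfer.isPSolvable_quotient hps N) Pb Qb hPQ huniq _ (Subgroup.map_mono hPT)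
      (hTi ▸ hT))).trans ?_
    rw [Subgroup.comap_map_eq_self (by rwa [QuotientGroup.ker_mk'])]

/-- The elements of `q`-power order in `H = N Q`. -/
theorem exists_mul_of_mem {N H Q : Subgroup G} [N.Normal] (hNH : N ≤ H) (hQH : Q ≤ H)
    (hQi : ¬ q ∣ Q.index) (hHq : IsPGroup q (H.map (QuotientGroup.mk' N))) {h : G} (hh : h ∈ H) :
    ∃ n ∈ N, ∃ y ∈ Q, n * y = h := by
  have he : Q.map (QuotientGroup.mk' N) = H.map (QuotientGroup.mk' N) := by
    refine le_antisymm (Subgroup.map_mono hQH) fun z hz => ?_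
    have hd : ¬ q ∣ (Q.map (QuotientGroup.mk' N)).index := fun h => hQi (h.trans
      (Subgroup.index_map_dvd Q (QuotientGroup.mk'_surjective N)))
    let S := (hHq.to_le (Subgroup.map_mono hQH)).toSylow hd
    rw [← show (S : Subgroup (G ⧸ N)) = Q.map (QuotientGroup.mk' N) from IsPGroup.toSylow_coe _ _,
      ← S.3 hHq (Subgroup.map_mono hQH)]
    exact hz
  obtain ⟨y, hy, e⟩ := (he.symm ▸ Subgroup.mem_map_of_mem _ hh :
    QuotientGroup.mk' N h ∈ Q.map (QuotientGroup.mk' N))
  have hmem : y⁻¹ * h ∈ N := QuotientGroup.eq.mp e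
  exact ⟨h * y⁻¹, by simpa [mul_assoc] using (inferInstance : N.Normal).conj_mem _ hmem y, y, hy,
    inv_mul_cancel_right h y⟩

theorem exists_sylow_le {H : Subgroup G} (hH : ¬ q ∣ H.index) :
    ∃ Q : Sylow q G, (Q : Subgroup G) ≤ H := by
  let S : Sylow q H := default
  have hSi : ¬ q ∣ ((S : Subgroup H).map H.subtype).index := by
    rw [Subgroup.index_map_subtype]
    exact fun h => (hq.out.dvd_mul.mp h).elim S.not_dvd_index hH
  exact ⟨(S.2.map H.subtype).toSylow hSi, Subgroup.map_subtype_le _⟩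

/-- The case of a normal `q`-subgroup. -/
theorem unique_of_qGroup (hpq : p ≠ q) (hps : IsPSolvable p G) (N : Subgroup G) [N.Normal]
    (hN : IsPGroup q N) (hU : UniqueNormalized p q (G ⧸ N)) : UniqueNormalized p q G := by
  intro P
  obtain ⟨H, hNH, hPH, hHi, hHq, hle, -⟩ := exists_preimage hpq hps N hU P
  have hHp : IsPGroup q H := by
    refine (hHq.comap_of_ker_isPGroup _ ?_).to_le (Subgroup.le_comap_map _ H)
    rwa [QuotientGroup.ker_mk']
  exact ⟨hHp.toSylow hHi, hPH, fun Q hQ => Sylow.ext (Q.3 hHp (hle Q hQ)).symm⟩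

/-- The case of an abelian normal `p`-subgroup. -/
theorem unique_of_abelian_pGroup (hpq : p ≠ q) (hps : IsPSolvable p G)
    (hyp : ∀ χ : IrrCharacter G, ¬ p ∣ charDegree (χ : G → ℂ) → ¬ q ∣ charDegree (χ : G → ℂ))
    (N : Subgroup G) [N.Normal] (hN : IsPGroup p N) (hab : ∀ a ∈ N, ∀ b ∈ N, a * b = b * a)
    (hU : UniqueNormalized p q (G ⧸ N)) : UniqueNormalized p q G := by
  classical
  intro P
  have := Fintype.ofFinite G
  have := Fintype.ofFinite N
  have := Fintype.ofFinite ↥(P : Subgroup G)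
  obtain ⟨H, hNH, hPH, hHi, hHq, hle, hT⟩ := exists_preimage hpq hps N hU P
  have hNP : N ≤ (P : Subgroup G) := (le_pCore hN).trans (pCore_le_sylow P)
  have hcent : ∀ Q : Sylow q G, (Q : Subgroup G) ≤ H →
      ∀ y ∈ (Q : Subgroup G), ∀ n ∈ N, y * n = n * y := by
    intro Q hQH
    -- linear characters of `P` restricted to `N` are fixed by `Q`
    have hfix : ∀ μ : IrrCharacter ↥(P : Subgroup G), (μ : ↥(P : Subgroup G) → ℂ) 1 = 1 →
        ∀ y ∈ (Q : Subgroup G), ∀ n : N, (μ : ↥(P : Subgroup G) → ℂ)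
          ⟨y * (n : G) * y⁻¹, hNP ((inferInstance : N.Normal).conj_mem (n : G) n.2 y)⟩ =
            (μ : ↥(P : Subgroup G) → ℂ) ⟨n, hNP n.2⟩ := by
      intro μ hμ1
      let θ : IrrCharacter N := ⟨(μ : ↥(P : Subgroup G) → ℂ) ∘ Subgroup.inclusion hNP,
        isIrr_of_linear (isCharacter_comp (isCharacter_of_isIrr μ.2) _)
          (by rw [Function.comp_apply, map_one, hμ1])⟩
      have hd : ¬ p ∣ charDegree (μ : ↥(P : Subgroup G) → ℂ) := by
        rw [CfsgLib.CharBlocks.charDegree_eq (n := 1) (by simpa using hμ1)]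
        exact hp.out.not_dvd_one
      have hi := not_dvd_inertia hyp N (P : Subgroup G) hNP P.not_dvd_index μ.2 hd θ
        (by rw [show (μ : ↥(P : Subgroup G) → ℂ) ∘ Subgroup.inclusion hNP = (θ : N → ℂ) from rfl,
          classInner_irr_self θ.2]; exact one_ne_zero)
      have hHT : H ≤ inertia N (θ : N → ℂ) := by
        refine hT _ (le_inertia N (isClassFunction_of_isIrr θ.2)) (fun x hx => ?_) hi
        rw [mem_inertia]
        exact funext fun n => isClassFunction_of_isIrr μ.2 ⟨n, hNP n.2⟩ ⟨x, hx⟩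
      exact fun y hy n => congrFun ((mem_inertia N).mp (hHT (hQH hy))) n
    let W : Subgroup G := ⁅N, (Q : Subgroup G)⁆
    have hQN : (Q : Subgroup G) ≤ Subgroup.normalizer (N : Set G) :=
      le_normalizer_of_conj_mem fun y _ n hn => (inferInstance : N.Normal).conj_mem n hn y
    have hWN : W ≤ N := Subgroup.commutator_le_left _ _
    have hWP : W.subgroupOf (P : Subgroup G) ≤ _root_.commutator ↥(P : Subgroup G) := by
      have h1 : W ≤ (_root_.commutator ↥(P : Subgroup G)).map (P : Subgroup G).subtype := by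
        refine Subgroup.commutator_le.mpr fun n hn y hy => ?_
        have hmem : ⁅n, y⁆ ∈ N := hWN (Subgroup.commutator_mem_commutator hn hy)
        refine ⟨⟨_, hNP hmem⟩, ?_, rfl⟩
        by_contra hc
        obtain ⟨μ, hμ1, hμ⟩ := exists_linear_ne hc
        refine hμ ?_
        have he : (⟨⁅n, y⁆, hNP hmem⟩ : ↥(P : Subgroup G)) = ⟨n, hNP hn⟩ *
            ⟨y * n⁻¹ * y⁻¹, hNP ((inferInstance : N.Normal).conj_mem _ (inv_mem hn) y)⟩ :=
          Subtype.ext (by simp [commutatorElement_def, mul_assoc])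
        have h2 := hfix μ hμ1 y hy ⟨n⁻¹, inv_mem hn⟩
        rw [he, linear_map_mul (isCharacter_of_isIrr μ.2) hμ1, h2,
          ← linear_map_mul (isCharacter_of_isIrr μ.2) hμ1,
          show (⟨n, hNP hn⟩ * ⟨n⁻¹, hNP (inv_mem hn)⟩ : ↥(P : Subgroup G)) = 1 from
            Subtype.ext (mul_inv_cancel n), hμ1]
      intro x hx
      obtain ⟨z, hz, hze⟩ := h1 (Subgroup.mem_subgroupOf.mp hx)
      exact Subtype.ext hze ▸ hz
    have hPdecomp : ∀ x ∈ (P : Subgroup G),
        ∃ n ∈ N, n⁻¹ * x ∈ Subgroup.normalizer ((Q : Subgroup G) : Set G) := by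
      intro x hx
      have hxH : ((x • Q : Sylow q G) : Subgroup G) ≤ H := by
        rw [Sylow.coe_subgroup_smul]
        intro z hz
        obtain ⟨y, hy, rfl⟩ := Subgroup.mem_smul_pointwise_iff_exists _ _ _ |>.mp hz
        exact normalizer_conj_mem (hPH hx) (hQH hy)
      obtain ⟨h, hh⟩ := MulAction.exists_smul_eq H (Q.subtype hQH) ((x • Q).subtype hxH)
      obtain ⟨n, hn, y, hy, e⟩ := exists_mul_of_mem hNH hQH Q.not_dvd_index hHq h.2
      have hxQ : x • Q = (h : G) • Q :=
        Sylow.subtype_injective (hh.symm.trans (Sylow.smul_subtype hQH h))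
      rw [← e, mul_smul, Sylow.smul_eq_iff_mem_normalizer.mpr (Subgroup.le_normalizer hy)] at hxQ
      exact ⟨n, hn, Sylow.smul_eq_iff_mem_normalizer.mp
        (by rw [mul_smul, hxQ, inv_smul_smul])⟩
    have hcomm_one : ∀ w ∈ W, w ∈ Subgroup.normalizer ((Q : Subgroup G) : Set G) → w = 1 := by
      intro w hw hwQ
      have h1 : ∀ y ∈ (Q : Subgroup G), ⁅w, y⁆ = 1 := fun y hy =>
        eq_one_of_orders hpq hN Q.2
          (hWN (Subgroup.commutator_mem_commutator (hWN hw) hy))
          (mul_mem (normalizer_conj_mem hwQ hy) (inv_mem hy))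
      -- the norm map over `Q` kills `[N, Q]` and is injective on `C_N(Q)`
      let cQ : ↥(Q : Subgroup G) → N → N := fun y n =>
        ⟨(y : G) * n * (y : G)⁻¹, (inferInstance : N.Normal).conj_mem (n : G) n.2 y⟩
      letI : CommGroup N := { (inferInstance : Group N) with
        mul_comm := fun a b => Subtype.ext (hab a a.2 b b.2) }
      have := Fintype.ofFinite ↥(Q : Subgroup G)
      let f : N →* N :=
        { toFun := fun n => ∏ y, cQ y n
          map_one' := Finset.prod_eq_one fun y _ => Subtype.ext (by simp [cQ])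
          map_mul' := fun a b => by
            rw [← Finset.prod_mul_distrib]
            exact Finset.prod_congr rfl fun y _ => Subtype.ext (by simp [cQ, mul_assoc]) }
      have hinv : ∀ (z : ↥(Q : Subgroup G)) (n : N), f (cQ z n) = f n := fun z n => by
        show ∏ y, cQ y (cQ z n) = ∏ y, cQ y n
        rw [← Equiv.prod_comp (Equiv.mulRight z) fun y => cQ y n]
        exact Finset.prod_congr rfl fun y _ => Subtype.ext (by simp [cQ, mul_assoc])
      have hW1 : W ≤ f.ker.map N.subtype := by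
        refine Subgroup.commutator_le.mpr fun n hn y hy => ?_
        refine ⟨⟨n, hn⟩ * cQ ⟨y, hy⟩ ⟨n, hn⟩⁻¹, ?_, by simp [cQ, commutatorElement_def, mul_assoc]⟩
        rw [SetLike.mem_coe, MonoidHom.mem_ker, map_mul, hinv, map_inv, mul_inv_cancel]
      obtain ⟨w', hw', rfl⟩ := hW1 hw
      have h2 : f w' = w' ^ Fintype.card ↥(Q : Subgroup G) := by
        show ∏ y, cQ y w' = _
        rw [← Finset.card_univ]
        refine Finset.prod_eq_pow_card fun y _ => Subtype.ext ?_
        have h3 := commutatorElement_eq_one_iff_mul_comm.mp (h1 y y.2)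
        show (y : G) * (w' : G) * (y : G)⁻¹ = (w' : G)
        rw [show (y : G) * (w' : G) = (w' : G) * y from h3.symm]
        exact mul_inv_cancel_right _ _
      rw [MonoidHom.mem_ker.mp hw', ← Nat.card_eq_fintype_card] at h2
      obtain ⟨k, hk⟩ := IsPGroup.iff_orderOf.1 hN w'
      obtain ⟨j, hj⟩ := IsPGroup.iff_card.1 Q.2
      refine congrArg Subtype.val (orderOf_eq_one_iff.mp (Nat.eq_one_of_dvd_coprimes
        (((Nat.coprime_primes hp.out hq.out).mpr hpq).pow k j) (hk ▸ dvd_rfl) ?_))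
      exact hj ▸ orderOf_dvd_of_pow_eq_one h2.symm
    have hPW : (P : Subgroup G) ≤ Subgroup.normalizer (W : Set G) := by
      refine le_normalizer_of_conj_mem fun x hx => ?_
      show W ≤ W.comap (MulAut.conj x).toMonoidHom
      refine Subgroup.commutator_le.mpr fun n hn y hy => ?_
      obtain ⟨m, hm, z, hz, e⟩ := exists_mul_of_mem hNH hQH Q.not_dvd_index hHq
        (normalizer_conj_mem (hPH hx) (hQH hy))
      have hn' : x * n * x⁻¹ ∈ N := (inferInstance : N.Normal).conj_mem n hn x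
      have hab' : (x * n * x⁻¹) * m = m * (x * n * x⁻¹) := hab _ hn' _ hm
      rw [Subgroup.mem_comap, map_commutatorElement, MulEquiv.coe_toMonoidHom, MulAut.conj_apply,
        MulAut.conj_apply, ← e]
      have hwz := Subgroup.commutator_mem_commutator hn' hz
      rw [show ⁅x * n * x⁻¹, m * z⁆ = ⁅x * n * x⁻¹, m⁆ * (m * ⁅x * n * x⁻¹, z⁆ * m⁻¹) by
        simp only [commutatorElement_def]; group, commutatorElement_eq_one_iff_mul_comm.mpr hab',
        one_mul, hab m hm _ (hWN hwz), mul_inv_cancel_right]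
      exact hwz
    have hWn : (W.subgroupOf (P : Subgroup G)).Normal :=
      (Subgroup.normal_subgroupOf_iff_le_normalizer (hWN.trans hNP)).2 hPW
    have hnil : Group.IsNilpotent ↥(P : Subgroup G) := P.2.isNilpotent
    have hbot := eq_bot_of_complement (W.subgroupOf (P : Subgroup G))
      ((Subgroup.normalizer ((Q : Subgroup G) : Set G)).subgroupOf (P : Subgroup G))
      (fun a ha b hb => Subtype.ext (hab _ (hWN ha) _ (hWN hb)))
      (eq_bot_iff.mpr fun a ha => Subgroup.mem_bot.mpr (Subtype.ext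
        (hcomm_one _ (Subgroup.mem_inf.mp ha).1 (Subgroup.mem_inf.mp ha).2)))
      (eq_top_iff.mpr fun a _ => ?_) hWP
    · intro y hy n hn
      have hw : ⁅n, y⁆ ∈ W := Subgroup.commutator_mem_commutator hn hy
      have : (⟨_, hNP (hWN hw)⟩ : ↥(P : Subgroup G)) ∈ W.subgroupOf (P : Subgroup G) := hw
      rw [hbot, Subgroup.mem_bot] at this
      exact (commutatorElement_eq_one_iff_mul_comm.mp (congrArg Subtype.val this)).symm
    · obtain ⟨n, hn, hna⟩ := hPdecomp a a.2
      obtain ⟨w, hw, c, hc, hwc⟩ := exists_commutator_mul_centralizer (A := (Q : Subgroup G))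
        (K := N) hQN (coprime_card_pGroup Q.2 (fun h => by
          obtain ⟨k, hk⟩ := IsPGroup.iff_card.1 hN
          exact hpq ((Nat.prime_dvd_prime_iff_eq hq.out hp.out).mp
            (hq.out.dvd_of_dvd_pow (hk ▸ h))).symm))
        (Or.inl (isSolvable_pGroup Q.2)) hn
      obtain ⟨hcN, hcC⟩ := Subgroup.mem_inf.mp hc
      have hcQ : c ∈ Subgroup.normalizer ((Q : Subgroup G) : Set G) :=
        Subgroup.centralizer_le_normalizer _ hcC
      have h1 : (⟨w, hNP (hWN hw)⟩ : ↥(P : Subgroup G)) ∈ W.subgroupOf (P : Subgroup G) := hw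
      have h2 : (⟨c * (n⁻¹ * a), mul_mem (hNP hcN) (mul_mem (inv_mem (hNP hn)) a.2)⟩ :
          ↥(P : Subgroup G)) ∈
          (Subgroup.normalizer ((Q : Subgroup G) : Set G)).subgroupOf (P : Subgroup G) :=
        mul_mem hcQ hna
      have h3 : a = (⟨w, hNP (hWN hw)⟩ : ↥(P : Subgroup G)) *
          ⟨c * (n⁻¹ * a), mul_mem (hNP hcN) (mul_mem (inv_mem (hNP hn)) a.2)⟩ :=
        Subtype.ext (by
          rw [Subgroup.coe_mul]
          simp only [← mul_assoc, ← hwc, mul_inv_cancel, one_mul])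
      rw [h3]
      exact mul_mem (Subgroup.mem_sup_left h1) (Subgroup.mem_sup_right h2)
  have huniq : ∀ Q Q' : Sylow q G, (Q : Subgroup G) ≤ H → (Q' : Subgroup G) ≤ H → Q' = Q := by
    intro Q Q' hQ hQ'
    refine Sylow.ext ((Q'.3 Q.2 fun z hz => ?_).symm)
    obtain ⟨n, hn, y, hy, rfl⟩ := exists_mul_of_mem hNH hQ Q.not_dvd_index hHq (hQ' hz)
    obtain ⟨j, hj⟩ := IsPGroup.iff_orderOf.1 Q'.2 ⟨_, hz⟩
    obtain ⟨k, hk⟩ := IsPGroup.iff_orderOf.1 Q.2 ⟨y, hy⟩
    rw [Subgroup.orderOf_mk] at hj hk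
    have hc : Commute n y := (hcent Q hQ y hy n hn).symm
    have h1 : n ^ (q ^ (j + k)) = 1 := by
      have e1 : (n * y) ^ (q ^ (j + k)) = 1 :=
        orderOf_dvd_iff_pow_eq_one.mp (hj ▸ pow_dvd_pow q (Nat.le_add_right j k))
      have e2 : y ^ (q ^ (j + k)) = 1 :=
        orderOf_dvd_iff_pow_eq_one.mp (hk ▸ pow_dvd_pow q (Nat.le_add_left k j))
      rwa [hc.mul_pow, e2, mul_one] at e1
    obtain ⟨i, hi⟩ := IsPGroup.iff_orderOf.1 hN ⟨n, hn⟩
    rw [Subgroup.orderOf_mk] at hi
    rw [orderOf_eq_one_iff.mp (Nat.eq_one_of_dvd_coprimes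
      (((Nat.coprime_primes hp.out hq.out).mpr hpq).pow i (j + k)) (hi ▸ dvd_rfl)
      (orderOf_dvd_of_pow_eq_one h1)), one_mul]
    exact hy
  obtain ⟨Q, hQH⟩ := exists_sylow_le (q := q) hHi
  refine ⟨Q, fun x hx => Sylow.smul_eq_iff_mem_normalizer.mp (huniq Q (x • Q) hQH fun z hz => ?_),
    fun Q' hQ' => huniq Q Q' hQH (hle Q' hQ')⟩
  rw [Sylow.coe_subgroup_smul] at hz
  obtain ⟨y, hy, rfl⟩ := Subgroup.mem_smul_pointwise_iff_exists _ _ _ |>.mp hz
  exact normalizer_conj_mem (hPH hx) (hQH hy)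

/-- The case of a normal subgroup of order prime to `p` and `q`. -/
theorem unique_of_coprime (hpq : p ≠ q) (hps : IsPSolvable p G)
    (hyp : ∀ χ : IrrCharacter G, ¬ p ∣ charDegree (χ : G → ℂ) → ¬ q ∣ charDegree (χ : G → ℂ))
    (N : Subgroup G) [N.Normal] (hNp : ¬ p ∣ Nat.card N) (hNq : ¬ q ∣ Nat.card N)
    (hU : UniqueNormalized p q (G ⧸ N)) : UniqueNormalized p q G := by
  classical
  intro P
  have := Fintype.ofFinite G
  have := Fintype.ofFinite N
  obtain ⟨H, hNH, hPH, hHi, hHq, hle, hT⟩ := exists_preimage hpq hps N hU P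
  have hHp : ¬ p ∣ Nat.card H := by
    intro hd
    obtain ⟨⟨h, hh⟩, ho⟩ := exists_prime_orderOf_dvd_card' p hd
    rw [Subgroup.orderOf_mk] at ho
    obtain ⟨k, hk⟩ := IsPGroup.iff_orderOf.1 hHq ⟨_, Subgroup.mem_map_of_mem _ hh⟩
    rw [Subgroup.orderOf_mk] at hk
    have h1 : orderOf (QuotientGroup.mk' N h) = 1 := Nat.eq_one_of_dvd_coprimes
      (((Nat.coprime_primes hp.out hq.out).mpr hpq).pow_right k)
      (ho ▸ orderOf_map_dvd (QuotientGroup.mk' N) h) (hk ▸ dvd_rfl)
    exact hNp (ho ▸ Subgroup.orderOf_dvd_natCard N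
      ((QuotientGroup.eq_one_iff h).mp (orderOf_eq_one_iff.mp h1)))
  obtain ⟨S, hS⟩ := exists_invariant_sylow (P : Subgroup G) H hPH (coprime_card_pGroup P.2 hHp)
    (Or.inl (isSolvable_pGroup P.2)) q
  have hSi : ¬ q ∣ ((S : Subgroup H).map H.subtype).index := by
    rw [Subgroup.index_map_subtype]
    exact fun h => (hq.out.dvd_mul.mp h).elim S.not_dvd_index hHi
  let Q : Sylow q G := (S.2.map H.subtype).toSylow hSi
  have hQH : (Q : Subgroup G) ≤ H := Subgroup.map_subtype_le _
  refine ⟨Q, hS, fun Q' hQ' => ?_⟩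
  -- `Q` centralises `C_N(P)`
  have hfix : ∀ θ : IrrCharacter N, (∀ x ∈ (P : Subgroup G), conjFun N x (θ : N → ℂ) = θ) →
      ∀ y ∈ (Q : Subgroup G), conjFun N y (θ : N → ℂ) = θ := by
    intro θ hθ y hy
    let Y : Subgroup G := N ⊔ P
    have := Fintype.ofFinite Y
    let N' : Subgroup Y := N.subgroupOf Y
    have := Fintype.ofFinite N'
    let θ' : N' → ℂ := CfsgLib.OddChar.toSub N Y (θ : N → ℂ)
    have hθ' : IsIrrCharacter N' θ' := CfsgLib.OddChar.isIrr_toSub N Y le_sup_left θ.2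
    have hle' : Y ≤ inertia N (θ : N → ℂ) :=
      sup_le (le_inertia N (isClassFunction_of_isIrr θ.2)) fun x hx => (mem_inertia N).mpr (hθ x hx)
    have hinv : ∀ (g : Y) (n : N'),
        θ' ⟨g * n * g⁻¹, (inferInstance : N'.Normal).conj_mem (n : Y) n.2 g⟩ = θ' n := fun g n =>
      congrFun ((mem_inertia N).mp (hle' g.2)) ⟨((n : Y) : G), n.2⟩
    obtain ⟨j, hj⟩ : ∃ j, N'.index = p ^ j := by
      obtain ⟨a, ha⟩ := IsPGroup.iff_card.1 P.2
      have hd : N'.index ∣ p ^ a := by
        show N.relIndex (N ⊔ (P : Subgroup G)) ∣ _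
        rw [← ha, Subgroup.relIndex_sup_left]
        exact Subgroup.relIndex_dvd_card _ _
      obtain ⟨i, -, hi⟩ := (Nat.dvd_prime_pow hp.out).mp hd
      exact ⟨i, hi⟩
    have hdp : ¬ p ∣ charDegree θ' := fun h => hNp (h.trans (by
      rw [← Nat.card_congr (Subgroup.subgroupOfEquivOfLe (le_sup_left : N ≤ Y)).toEquiv]
      exact CfsgLib.CharBlocks.charDegree_dvd_card hθ'))
    have hd1 : θ' 1 = (charDegree θ' : ℂ) :=
      (CfsgLib.CharBlocks.coe_charDegree_irr (⟨θ', hθ'⟩ : IrrCharacter N')).symm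
    obtain ⟨l, hl⟩ : ∃ l : N' →* ℂˣ, linFun l = detChar θ' := by
      obtain ⟨d, ρ, hρ⟩ := isCharacter_of_isIrr hθ'
      exact ⟨detHom ρ, by rw [← hρ, detChar_eq_detHom]; rfl⟩
    have hlord : Nat.Coprime N'.index (orderOf (detChar θ')) := by
      rw [← hl, orderOf_linFun, hj]
      refine Nat.Coprime.coprime_dvd_right ?_ ((hp.out.coprime_iff_not_dvd.mpr hNp).pow_left j)
      rw [← Nat.card_congr (Subgroup.subgroupOfEquivOfLe (le_sup_left : N ≤ Y)).toEquiv]
      exact orderOf_dvd_of_pow_eq_one (MonoidHom.ext fun n => by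
        rw [MonoidHom.pow_apply, ← map_pow, pow_card_eq_one', map_one]; rfl)
    obtain ⟨f, ⟨hf, -⟩, -⟩ := canonical_linear_extension N' (hl ▸ isCharacter_linFun l)
      (det_invariant N' (isCharacter_of_isIrr hθ') hinv) hlord
    obtain ⟨χ, hχ, hχN⟩ := (extend_iff_det N' hθ' hinv hd1
      (hj ▸ (hp.out.coprime_iff_not_dvd.mpr hdp).pow_left j)).mpr
      ⟨linFun f, (isCharacter_linFun f).1, (isCharacter_linFun f).2, hf⟩
    have hχd : charDegree χ = charDegree θ' :=
      CfsgLib.CharBlocks.charDegree_eq (by rw [← hd1]; exact hχN 1)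
    have hcomp : χ ∘ Subgroup.inclusion (le_sup_left : N ≤ Y) = (θ : N → ℂ) :=
      funext fun n => hχN ⟨⟨n, (le_sup_left : N ≤ Y) n.2⟩, n.2⟩
    have hi := not_dvd_inertia hyp N Y le_sup_left
      (fun h => P.not_dvd_index (h.trans (Subgroup.index_dvd_of_le le_sup_right)))
      hχ (hχd ▸ hdp) θ (by rw [hcomp, classInner_irr_self θ.2]; exact one_ne_zero)
    exact (mem_inertia N).mp (hT _ (le_inertia N (isClassFunction_of_isIrr θ.2))
      (le_sup_right.trans hle') hi (hQH hy))
  have hcent := centralizes_fixed hpq N hNp hNq P Q hS hfix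
  -- the conjugating element
  obtain ⟨S', hS'⟩ : ∃ S' : Sylow q H,
      (S' : Subgroup H).map H.subtype = (Q' : Subgroup G) :=
    ⟨Q'.subtype (hle Q' hQ'), Subgroup.map_subgroupOf_eq_of_le (hle Q' hQ')⟩
  obtain ⟨c, hc, hcQ⟩ := exists_centralizer_conj_sylow (P : Subgroup G) H hPH
    (coprime_card_pGroup P.2 hHp) (Or.inl (isSolvable_pGroup P.2)) S S' hS (hS' ▸ hQ')
  obtain ⟨hcH, hcP⟩ := Subgroup.mem_inf.mp hc
  obtain ⟨n, hn, y, hy, rfl⟩ := exists_mul_of_mem hNH hQH Q.not_dvd_index hHq hcH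
  have hnP : ∀ x ∈ (P : Subgroup G), x * n * x⁻¹ = n := by
    intro x hx
    have h1 : x * (n * y) * x⁻¹ = n * y := by
      rw [Subgroup.mem_centralizer_iff.mp hcP x hx, mul_inv_cancel_right]
    have h2 : n⁻¹ * (x * n * x⁻¹) = y * (x * y * x⁻¹)⁻¹ := by
      rw [eq_mul_inv_iff_mul_eq,
        show n⁻¹ * (x * n * x⁻¹) * (x * y * x⁻¹) = n⁻¹ * (x * (n * y) * x⁻¹) by group, h1,
        inv_mul_cancel_left]
    have h3 : n⁻¹ * (x * n * x⁻¹) = 1 := eq_one_of_coprime_cores (p := q) Q.2 hNq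
      (h2 ▸ mul_mem hy (inv_mem (normalizer_conj_mem (hS hx) hy)))
      (mul_mem (inv_mem hn) ((inferInstance : N.Normal).conj_mem n hn x))
    exact (inv_mul_eq_one.mp h3).symm
  refine Sylow.ext (hS' ▸ hcQ.symm.trans ?_)
  refine mem_normalizer_iff_conj_smul.mp (mul_mem ?_ (Subgroup.le_normalizer hy))
  exact Subgroup.centralizer_le_normalizer _ (Subgroup.mem_centralizer_iff.mpr
    fun z hz => hcent n hn hnP z hz)
where
  /-- If `Q` fixes every `P`-fixed character of `N` then it centralises `C_N(P)`. -/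
  centralizes_fixed {G : Type u} [Group G] [Finite G] {p q : ℕ} [hp : Fact p.Prime]
      [hq : Fact q.Prime] (_hpq : p ≠ q) (N : Subgroup G) [N.Normal] [Fintype N]
      (hNp : ¬ p ∣ Nat.card N) (hNq : ¬ q ∣ Nat.card N) (P : Sylow p G) (Q : Sylow q G)
      (hPQ : (P : Subgroup G) ≤ Subgroup.normalizer ((Q : Subgroup G) : Set G))
      (hfix : ∀ θ : IrrCharacter N, (∀ x ∈ (P : Subgroup G), conjFun N x (θ : N → ℂ) = θ) →
        ∀ y ∈ (Q : Subgroup G), conjFun N y (θ : N → ℂ) = θ) :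
      ∀ n ∈ N, (∀ x ∈ (P : Subgroup G), x * n * x⁻¹ = n) →
        ∀ z ∈ (Q : Subgroup G), z * n = n * z := by
    classical
    have := Fintype.ofFinite G
    let R : Subgroup G := Q ⊔ P
    have hRn : ((Q : Subgroup G).subgroupOf R).Normal :=
      (Subgroup.normal_subgroupOf_iff_le_normalizer le_sup_left).2
        (sup_le Subgroup.le_normalizer hPQ)
    let π : ↥(P : Subgroup G) →* ↥R ⧸ (Q : Subgroup G).subgroupOf R :=
      (QuotientGroup.mk' _).comp (Subgroup.inclusion le_sup_right)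
    have hπ : Function.Surjective π := by
      intro z
      obtain ⟨⟨r, hr⟩, rfl⟩ := QuotientGroup.mk'_surjective _ z
      have hr' : r ∈ ((Q : Subgroup G) : Set G) * ((P : Subgroup G) : Set G) := by
        rw [← Subgroup.coe_mul_of_right_le_normalizer_left _ _ hPQ]; exact hr
      obtain ⟨y, hy, x, hx, rfl⟩ := hr'
      refine ⟨⟨x, hx⟩, QuotientGroup.eq.mpr ?_⟩
      show x⁻¹ * (y * x) ∈ (Q : Subgroup G)
      simpa [mul_assoc] using normalizer_conj_mem (inv_mem (hPQ hx)) hy
    have hQs : Group.IsSolvable ↥((Q : Subgroup G).subgroupOf R) :=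
      isSolvable_pGroup (Q.2.comap_subtype)
    have hPs : Group.IsSolvable ↥(P : Subgroup G) := isSolvable_pGroup P.2
    have hRs : Group.IsSolvable R := by
      have : Group.IsSolvable (↥R ⧸ (Q : Subgroup G).subgroupOf R) :=
        Group.isSolvable_of_surjective hπ
      exact Group.isSolvable_of_ker_le_range ((Q : Subgroup G).subgroupOf R).subtype
        (QuotientGroup.mk' ((Q : Subgroup G).subgroupOf R))
        (by rw [QuotientGroup.ker_mk', Subgroup.range_subtype])
    have hcop : (Nat.card N).Coprime (Nat.card R) := by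
      rw [← Subgroup.card_mul_index ((Q : Subgroup G).subgroupOf R)]
      refine Nat.Coprime.mul_right ?_ ?_
      · rw [Nat.card_congr (Subgroup.subgroupOfEquivOfLe le_sup_left).toEquiv]
        exact (coprime_card_pGroup Q.2 hNq).symm
      · exact (coprime_card_pGroup P.2 hNp).symm.coprime_dvd_right
          (Subgroup.card_dvd_of_surjective π hπ)
    let φR : R →* MulAut N := (MulAut.conjNormal (H := N)).comp R.subtype
    let φP : ↥(P : Subgroup G) →* MulAut N :=
      (MulAut.conjNormal (H := N)).comp (P : Subgroup G).subtype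
    have hiff : ∀ θ : IrrCharacter N, IsInvariant φR θ ↔ IsInvariant φP θ := by
      intro θ
      refine ⟨fun h x n => h ⟨x, Subgroup.mem_sup_right x.2⟩ n, fun h r n => ?_⟩
      have h1 : ∀ x ∈ (P : Subgroup G), x ∈ inertia N (θ : N → ℂ) := fun x hx =>
        (mem_inertia N).mpr (funext fun m => h ⟨x, hx⟩ m)
      have h2 : R ≤ inertia N (θ : N → ℂ) := sup_le (fun y hy => (mem_inertia N).mpr
        (hfix θ (fun x hx => (mem_inertia N).mp (h1 x hx)) y hy)) h1
      exact congrFun ((mem_inertia N).mp (h2 r.2)) n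
    have hcount : Nat.card (ConjClasses (fixedBy φR (⊤ : Subgroup R))) =
        Nat.card (ConjClasses (fixedBy φP (⊤ : Subgroup ↥(P : Subgroup G)))) := by
      rw [← card_invariantClass_eq_fixed φR hRs hcop,
        ← card_invariantClass_eq_fixed φP hPs (coprime_card_pGroup P.2 hNp).symm,
        ← card_invariant_irr_eq φR hRs hcop,
        ← card_invariant_irr_eq φP hPs (coprime_card_pGroup P.2 hNp).symm]
      exact Nat.card_congr (Equiv.subtypeEquivRight hiff)
    have hleF : fixedBy φR (⊤ : Subgroup R) ≤ fixedBy φP (⊤ : Subgroup ↥(P : Subgroup G)) :=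
      fun n hn x _ => hn ⟨x, Subgroup.mem_sup_right x.2⟩ (Subgroup.mem_top _)
    let i := Subgroup.inclusion hleF
    have hinj : Function.Injective (ConjClasses.map i) := by
      intro a b
      obtain ⟨a, rfl⟩ := ConjClasses.mk_surjective a
      obtain ⟨b, rfl⟩ := ConjClasses.mk_surjective b
      intro hab
      obtain ⟨k, hk⟩ := isConj_iff.mp (ConjClasses.mk_eq_mk_iff_isConj.mp hab)
      letI : MulAction G {x : G // x = x} :=
        { smul := fun g x => ⟨g * x.1 * g⁻¹, rfl⟩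
          one_smul := fun x => Subtype.ext (show (1 : G) * x.1 * (1 : G)⁻¹ = x.1 by simp)
          mul_smul := fun g g' x => Subtype.ext (show
            g * g' * x.1 * (g * g')⁻¹ = g * (g' * x.1 * g'⁻¹) * g⁻¹ by group) }
      have hkG : ((k : N) : G) * ((a : N) : G) * ((k : N) : G)⁻¹ = ((b : N) : G) :=
        congrArg (fun t => (((t : fixedBy φP (⊤ : Subgroup ↥(P : Subgroup G))) : N) : G)) hk
      obtain ⟨c, hc, hce⟩ := exists_centralizer_smul_eq (Ω := {x : G // x = x}) R N
        (le_normalizer_of_conj_mem fun r _ m hm => (inferInstance : N.Normal).conj_mem m hm r)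
        hcop.symm (Or.inl hRs) ⟨((a : N) : G), rfl⟩ (k : N).2
        (fun r hr => Subtype.ext (show r * ((a : N) : G) * r⁻¹ = ((a : N) : G) from
          congrArg (Subtype.val (p := fun x => x ∈ N)) (a.2 ⟨r, hr⟩ (Subgroup.mem_top _))))
        (fun r hr => Subtype.ext (by
          show r * (((k : N) : G) * ((a : N) : G) * ((k : N) : G)⁻¹) * r⁻¹ = _
          rw [hkG]
          exact (congrArg Subtype.val (b.2 ⟨r, hr⟩ (Subgroup.mem_top _))).trans hkG.symm))
      obtain ⟨hcN, hcR⟩ := Subgroup.mem_inf.mp hc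
      refine ConjClasses.mk_eq_mk_iff_isConj.mpr (isConj_iff.mpr
        ⟨⟨⟨c, hcN⟩, fun r _ => Subtype.ext ?_⟩, Subtype.ext (Subtype.ext ?_)⟩)
      · show (r : G) * c * (r : G)⁻¹ = c
        rw [Subgroup.mem_centralizer_iff.mp hcR r r.2, mul_inv_cancel_right]
      · exact (congrArg Subtype.val hce).trans hkG
    have hsurj := (Nat.bijective_iff_injective_and_card _).mpr ⟨hinj, hcount⟩ |>.surjective
    have htop : i.range = ⊤ := CfsgLib.FGS.eq_top_of_forall_exists_conj fun d => by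
      obtain ⟨e, he⟩ := hsurj (ConjClasses.mk d)
      obtain ⟨e, rfl⟩ := ConjClasses.mk_surjective e
      obtain ⟨c, hc⟩ := isConj_iff.mp (ConjClasses.mk_eq_mk_iff_isConj.mp he).symm
      exact ⟨c, e, hc.symm⟩
    intro n hn hnP z hz
    obtain ⟨e, he⟩ := (htop ▸ Subgroup.mem_top
      (⟨⟨n, hn⟩, fun x _ => Subtype.ext (hnP x x.2)⟩ :
        fixedBy φP (⊤ : Subgroup ↥(P : Subgroup G))) : _ ∈ i.range)
    have h1 : z * ((e : N) : G) * z⁻¹ = ((e : N) : G) :=
      congrArg Subtype.val (e.2 ⟨z, Subgroup.mem_sup_left hz⟩ (Subgroup.mem_top _))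
    rw [show ((e : N) : G) = n from congrArg (fun t => (((t : fixedBy φP
      (⊤ : Subgroup ↥(P : Subgroup G))) : N) : G)) he] at h1
    exact mul_inv_eq_iff_eq_mul.mp h1

end Step

/-- Navarro–Wolf, one direction. -/
theorem uniqueNormalized_of_degrees {p q : ℕ} [hp : Fact p.Prime] [hq : Fact q.Prime]
    (hpq : p ≠ q) (n : ℕ) :
    ∀ (G : Type u) [Group G] [Finite G], Nat.card G = n → IsPSolvable p G → IsPSolvable q G →
      (∀ χ : IrrCharacter G, ¬ p ∣ charDegree (χ : G → ℂ) → ¬ q ∣ charDegree (χ : G → ℂ)) →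
      UniqueNormalized p q G := by
  induction n using Nat.strong_induction_on with
  | _ n ih =>
  intro G _ _ hn hps hqs hyp
  classical
  have := Fintype.ofFinite G
  have hquot : ∀ (N : Subgroup G) [N.Normal], N ≠ ⊥ → UniqueNormalized p q (G ⧸ N) := by
    intro N _ hN
    have := Fintype.ofFinite (G ⧸ N)
    refine ih (Nat.card (G ⧸ N)) ?_ (G ⧸ N) rfl (CfsgLib.Transfer.isPSolvable_quotient hps N)
      (CfsgLib.Transfer.isPSolvable_quotient hqs N)
      (fun ψ h => hyp ⟨_, isIrr_comp_mk' N ψ.2⟩ h)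
    rw [← hn, ← Subgroup.index_eq_card]
    refine Nat.lt_of_le_of_ne (Nat.le_of_dvd Nat.card_pos N.index_dvd_card) fun e => hN ?_
    have h := N.card_mul_index
    rw [e] at h
    exact Subgroup.card_eq_one.mp ((Nat.mul_eq_right Nat.card_pos.ne').mp h)
  have hnq : (pCore q G).Normal := pCore_normal q G
  by_cases h1 : pCore q G = ⊥
  swap
  · exact unique_of_qGroup hpq hps _ (isPGroup_pCore q) (hquot _ h1)
  have hnp : (pCore p G).Normal := pCore_normal p G
  by_cases h2 : pCore p G = ⊥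
  swap
  · let Z : Subgroup G := (Subgroup.center ↥(pCore p G)).map (pCore p G).subtype
    have : Nontrivial ↥(pCore p G) := (Subgroup.nontrivial_iff_ne_bot _).mpr h2
    have hZ : Z ≠ ⊥ := by
      rw [Ne, Subgroup.map_eq_bot_iff_of_injective _ (pCore p G).subtype_injective]
      have := (isPGroup_pCore (G := G) p).center_nontrivial
      exact (Subgroup.nontrivial_iff_ne_bot _).mp this
    refine unique_of_abelian_pGroup hpq hps hyp Z
      ((isPGroup_pCore p).to_le (Subgroup.map_subtype_le _)) ?_ (hquot Z hZ)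
    rintro _ ⟨a, ha, rfl⟩ _ ⟨b, -, rfl⟩
    exact congrArg Subtype.val (Subgroup.mem_center_iff.mp ha b).symm
  have hnK : (pPrimeCore p G).Normal := pPrimeCore_normal p G
  have hnK' : (pPrimeCore q G).Normal := pPrimeCore_normal q G
  by_cases h3 : pPrimeCore p G ⊓ pPrimeCore q G = ⊥
  swap
  · exact unique_of_coprime hpq hps hyp _
      (fun h => not_dvd_card_pPrimeCore (G := G) p (h.trans (Subgroup.card_dvd_of_le inf_le_left)))
      (fun h => not_dvd_card_pPrimeCore (G := G) q (h.trans (Subgroup.card_dvd_of_le inf_le_right)))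
      (hquot _ h3)
  have htriv : ∀ x : G, x = 1 := by
    have hK1 : pPrimeCore p G = ⊥ := by
      let K := pPrimeCore p G
      have hqK := CfsgLib.Transfer.isPSolvable_subgroup hqs K
      have ha : pPrimeCore q K = ⊥ := by
        rw [← Subgroup.map_eq_bot_iff_of_injective _ K.subtype_injective]
        exact le_bot_iff.mp (h3 ▸ le_inf (Subgroup.map_subtype_le _)
          (map_subtype_pPrimeCore_le_of_normal q K))
      have hb : pCore q K = ⊥ := by
        rw [← Subgroup.map_eq_bot_iff_of_injective _ K.subtype_injective]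
        exact le_bot_iff.mp (h1 ▸ map_subtype_pCore_le_of_normal q K)
      have hC := CfsgLib.Transfer.centralizer_pCore_le_of_isPSolvable hqK ha
      rw [hb] at hC
      refine eq_bot_iff.mpr fun x hx => ?_
      have := hC (show (⟨x, hx⟩ : K) ∈ Subgroup.centralizer ((⊥ : Subgroup K) : Set K) from
        Subgroup.mem_centralizer_iff.mpr fun y hy => by rw [Subgroup.mem_bot.mp hy]; simp)
      exact Subgroup.mem_bot.mpr (congrArg Subtype.val (Subgroup.mem_bot.mp this))
    have hC := CfsgLib.Transfer.centralizer_pCore_le_of_isPSolvable hps hK1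
    rw [h2] at hC
    exact fun x => Subgroup.mem_bot.mp (hC (Subgroup.mem_centralizer_iff.mpr fun y hy => by
      rw [Subgroup.mem_bot.mp hy]; simp))
  intro P
  refine ⟨default, fun x _ => ?_, fun Q _ => Sylow.ext (Subgroup.ext fun x => ?_)⟩
  · rw [htriv x]; exact one_mem _
  · rw [htriv x]; exact ⟨fun _ => one_mem _, fun _ => one_mem _⟩

/-- The key consequence: the Sylow `q`-subgroups lie in `O_{p'}(G)`. -/
theorem not_dvd_quotient {G : Type u} [Group G] [Finite G] {p q : ℕ} [Fact p.Prime] [Fact q.Prime]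
    (hpq : p ≠ q) {Mp : Ideal AlgInt} (hMp : IsPModular p Mp) (hps : IsPSolvable p G)
    (hqs : IsPSolvable q G)
    (h : ∀ χ : IrrCharacter G, χ ∈ principalBlock Mp G → ¬ p ∣ charDegree (χ : G → ℂ) →
      ¬ q ∣ charDegree (χ : G → ℂ)) :
    ∀ Q : Sylow q G, (Q : Subgroup G) ≤ pPrimeCore p G := by
  classical
  have := Fintype.ofFinite G
  have := hMp.2.1
  have hKn : (pPrimeCore p G).Normal := pPrimeCore_normal p G
  let K := pPrimeCore p G
  have := Fintype.ofFinite (G ⧸ K)
  have hpsK := CfsgLib.Transfer.isPSolvable_quotient hps K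
  have hC := CfsgLib.Transfer.centralizer_pCore_le_of_isPSolvable hpsK
    (pPrimeCore_quotient_self p)
  obtain ⟨Q0, hQ0, -⟩ := uniqueNormalized_of_degrees hpq _ (G ⧸ K) rfl hpsK
    (CfsgLib.Transfer.isPSolvable_quotient hqs K)
    (fun ψ hd => h ⟨_, isIrr_comp_mk' K ψ.2⟩
      (S4736.mem_principalBlock_comp K (S4736.mem_principalBlock_of_selfCentral hMp hC ψ)) hd)
    default
  have h0 : (Q0 : Subgroup (G ⧸ K)) = ⊥ :=
    le_bot_iff.mp (pPrimeCore_quotient_self (G := G) p ▸
      le_pPrimeCore_of_normalized hpq hpsK _ _ Q0.2 hQ0)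
  intro Q x hx
  obtain ⟨g, hg⟩ := MulAction.exists_smul_eq (G ⧸ K)
    Q0 (Q.mapSurjective (QuotientGroup.mk'_surjective K))
  have h1 : ((Q.mapSurjective (QuotientGroup.mk'_surjective K)) : Subgroup (G ⧸ K)) = ⊥ := by
    rw [← hg, Sylow.coe_subgroup_smul, h0, Subgroup.smul_bot]
  exact (QuotientGroup.eq_one_iff x).mp (Subgroup.mem_bot.mp
    (h1 ▸ (Subgroup.mem_map_of_mem (QuotientGroup.mk' K) hx)))

/-- If `P` centralises `Q`, then `Q ≤ O_{p'}(G)`. -/
theorem degree_of_commute {G : Type u} [Group G] [Finite G] {p q : ℕ} [Fact p.Prime]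
    [hq : Fact q.Prime] (hpq : p ≠ q) {Mp : Ideal AlgInt} (hMp : IsPModular p Mp)
    (hps : IsPSolvable p G) (P : Sylow p G) (Q : Sylow q G)
    (hc : ∀ x ∈ (P : Subgroup G), ∀ y ∈ (Q : Subgroup G), x * y = y * x)
    (χ : IrrCharacter G) (hχ : χ ∈ principalBlock Mp G) : ¬ q ∣ charDegree (χ : G → ℂ) := by
  classical
  have := Fintype.ofFinite G
  have := hMp.2.1
  have hKn : (pPrimeCore p G).Normal := pPrimeCore_normal p G
  let K := pPrimeCore p G
  have := Fintype.ofFinite (G ⧸ K)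
  have hQK := le_pPrimeCore_of_normalized hpq hps P Q Q.2
    (fun x hx => Subgroup.centralizer_le_normalizer _
      (Subgroup.mem_centralizer_iff.mpr fun y hy => (hc x hx y hy).symm))
  rw [CfsgLib.Blocks.principalBlock_eq] at hχ
  obtain ⟨ψ, hψ, he⟩ := exists_irr_eq_comp_mk' K χ.2
    (CfsgLib.Blocks.trivialOn_of_sameBlock (N := K) hMp (not_dvd_card_pPrimeCore p) (χ := irrOne)
      hχ (fun n _ => by simp [irrOne_apply]))
  intro hd
  rw [← he] at hd
  refine Q.not_dvd_index ((hd.trans ?_).trans (Subgroup.index_dvd_of_le hQK))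
  rw [Subgroup.index_eq_card]
  exact CfsgLib.CharBlocks.charDegree_dvd_card hψ

/-- Sylow subgroups for two primes that centralise each other modulo a `{p, q}'`-subgroup. -/
theorem exists_commute {G : Type u} [Group G] [Finite G] {p q : ℕ} [hp : Fact p.Prime]
    [hq : Fact q.Prime] (hpq : p ≠ q)
    (hQ : ∀ Q : Sylow q G, (Q : Subgroup G) ≤ pPrimeCore p G)
    (hP : ∀ P : Sylow p G, (P : Subgroup G) ≤ pPrimeCore q G) :
    ∃ (P : Sylow p G) (Q : Sylow q G),
      ∀ x ∈ (P : Subgroup G), ∀ y ∈ (Q : Subgroup G), x * y = y * x := by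
  have hKn : (pPrimeCore p G).Normal := pPrimeCore_normal p G
  have hKn' : (pPrimeCore q G).Normal := pPrimeCore_normal q G
  let Q : Sylow q G := default
  let Y : Subgroup G := Subgroup.normalizer ((Q : Subgroup G) : Set G)
  -- `N_G(Q)` has index prime to `p`
  have hYi : ¬ p ∣ Y.index := by
    have h1 := Sylow.normalizer_sup_eq_top (N := pPrimeCore p G)
      (Q.subtype (hQ Q))
    rw [Sylow.coe_subtype, Subgroup.map_subgroupOf_eq_of_le (hQ Q)] at h1
    intro h
    let K := pPrimeCore p G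
    have e1 : K.index = K.relIndex Y := by
      rw [← Subgroup.relIndex_sup_right (H := Y) (K := K), h1, Subgroup.relIndex_top_right]
    have e2 : Nat.card (K ⊓ Y : Subgroup G) * K.relIndex Y = Nat.card Y := by
      rw [← Subgroup.inf_relIndex_right K Y, ← Subgroup.relIndex_bot_left,
        Subgroup.relIndex_mul_relIndex ⊥ _ Y bot_le inf_le_right, Subgroup.relIndex_bot_left]
    have e3 := Y.index_mul_card
    rw [← e2, ← e1, ← K.index_mul_card, mul_left_comm] at e3
    have e4 : Y.index ∣ Nat.card K := Dvd.intro _ (Nat.eq_of_mul_eq_mul_left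
      (Nat.pos_of_ne_zero (Subgroup.index_ne_zero_of_finite : K.index ≠ 0))
      ((by ring : K.index * (Y.index * Nat.card (K ⊓ Y : Subgroup G)) =
        Nat.card (K ⊓ Y : Subgroup G) * (Y.index * K.index)).trans e3))
    exact not_dvd_card_pPrimeCore (G := G) p (h.trans e4)
  obtain ⟨P, hPY⟩ : ∃ P : Sylow p G, (P : Subgroup G) ≤ Y := exists_sylow_le hYi
  refine ⟨P, Q, fun x hx y hy => commutatorElement_eq_one_iff_mul_comm.mp
    (eq_one_of_coprime_cores (p := q) Q.2 (not_dvd_card_pPrimeCore (G := G) q)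
      (mul_mem (normalizer_conj_mem (hPY hx) hy) (inv_mem hy)) ?_)⟩
  rw [commutatorElement_def, mul_assoc, mul_assoc]
  exact mul_mem (hP P hx) (by simpa [mul_assoc] using hKn'.conj_mem _ (inv_mem (hP P hx)) y)

/-- Let p ≠ q be primes and G a finite group that is p-solvable and q-solvable. Fix maximal ideals of the algebraic integers containing p and q, defining the principal p-block and the principal q-block. Then every irreducible character of degree prime to p in the principal p-block has degree prime to q and every irreducible character of degree prime to q in the principal q-block has degree prime to p, if and only if some Sylow p-subgroup of G commutes elementwise with some Sylow q-subgroup. -/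
theorem result {G : Type*} [Group G] [Finite G] (p q : ℕ) [Fact p.Prime] [Fact q.Prime] (hpq : p ≠ q) (Mp Mq : Ideal Cfsg.AlgInt) (hMp : Cfsg.IsPModular p Mp) (hMq : Cfsg.IsPModular q Mq) (hps : Cfsg.IsPSolvable p G) (hqs : Cfsg.IsPSolvable q G) : ((∀ χ : Cfsg.IrrCharacter G, χ ∈ Cfsg.principalBlock Mp G → ¬ p ∣ Cfsg.charDegree (χ : G → ℂ) → ¬ q ∣ Cfsg.charDegree (χ : G → ℂ)) ∧ (∀ χ : Cfsg.IrrCharacter G, χ ∈ Cfsg.principalBlock Mq G → ¬ q ∣ Cfsg.charDegree (χ : G → ℂ) → ¬ p ∣ Cfsg.charDegree (χ : G → ℂ))) ↔ ∃ (P : Sylow p G) (Q : Sylow q G), ∀ x ∈ (P : Subgroup G), ∀ y ∈ (Q : Subgroup G), x * y = y * x := by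
  classical
  constructor
  · rintro ⟨h1, h2⟩
    exact exists_commute hpq (not_dvd_quotient hpq hMp hps hqs h1)
      (not_dvd_quotient hpq.symm hMq hqs hps h2)
  · rintro ⟨P, Q, hc⟩
    exact ⟨fun χ hχ _ => degree_of_commute hpq hMp hps P Q hc χ hχ,
      fun χ hχ _ => degree_of_commute hpq.symm hMq hqs Q P
        (fun x hx y hy => (hc y hy x hx).symm) χ hχ⟩

end Cfsg.Agent.S4886
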