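import Cfsg.Statements.S4763
import Cfsg.Agent.S4886

set_option autoImplicit false
open Cfsg

namespace Cfsg.Agent.S4763

open CfsgLib.Char CfsgLib.CharNormal

universe u

variable {G : Type u} [Group G] [Finite G] {p : ℕ} [hp : Fact p.Prime]

/-- With one character of degree divisible by `p` the complement is abelian. -/
theorem comm_of_unique (N : Subgroup G) [N.Normal] (hN : ¬ p ∣ Nat.card N) (hN1 : N ≠ ⊥)
    (P : Sylow p G) (hc : N.IsComplement' (P : Subgroup G))
    (huniq : ∀ χ ψ : IrrCharacter G, p ∣ charDegree (χ : G → ℂ) → p ∣ charDegree (ψ : G → ℂ) →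
      χ = ψ) :
    ∀ a b : ↥(P : Subgroup G), a * b = b * a := by
  classical
  have := Fintype.ofFinite G
  have := Fintype.ofFinite ↥N
  have := Fintype.ofFinite ↥(P : Subgroup G)
  have := Fintype.ofFinite (G ⧸ N)
  let π : ↥(P : Subgroup G) →* G ⧸ N := (QuotientGroup.mk' N).comp (P : Subgroup G).subtype
  have hdec : ∀ g : G, ∃ n ∈ N, ∃ y ∈ (P : Subgroup G), n * y = g := fun g =>
    Subgroup.mem_sup_of_normal_left.mp (hc.sup_eq_top ▸ Subgroup.mem_top g)
  have hπ : Function.Bijective π := by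
    refine ⟨(injective_iff_map_eq_one π).mpr fun a ha => Subtype.ext (Subgroup.mem_bot.mp
      (hc.disjoint.le_bot ⟨(QuotientGroup.eq_one_iff _).mp ha, a.2⟩)), fun z => ?_⟩
    obtain ⟨g, rfl⟩ := QuotientGroup.mk'_surjective N z
    obtain ⟨n, hn, y, hy, rfl⟩ := hdec g
    refine ⟨⟨y, hy⟩, ?_⟩
    show QuotientGroup.mk' N y = QuotientGroup.mk' N (n * y)
    rw [map_mul, show QuotientGroup.mk' N n = 1 from (QuotientGroup.eq_one_iff n).mpr hn, one_mul]
  let e := MulEquiv.ofBijective π hπ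
  by_contra hna
  rw [comm_iff_forall_linear] at hna
  push Not at hna
  obtain ⟨β, hβ⟩ := hna
  let β' : IrrCharacter (G ⧸ N) := ⟨_, isIrr_comp_mulEquiv β.2 e.symm⟩
  have hβd : p ∣ charDegree (β : ↥(P : Subgroup G) → ℂ) := by
    obtain ⟨k, hk⟩ := IsPGroup.iff_card.1 P.2
    obtain ⟨i, -, hi⟩ := (Nat.dvd_prime_pow hp.out).mp
      (hk ▸ CfsgLib.CharBlocks.charDegree_dvd_card β.2)
    rcases Nat.eq_zero_or_pos i with h | h
    · exact absurd (by rw [← CfsgLib.CharBlocks.coe_charDegree_irr, hi, h, pow_zero, Nat.cast_one]) hβ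
    · exact hi ▸ dvd_pow_self p h.ne'
  let χ0 : IrrCharacter G := ⟨_, isIrr_comp_mk' N β'.2⟩
  have hχ0 : p ∣ charDegree (χ0 : G → ℂ) := by
    rw [show charDegree (χ0 : G → ℂ) = charDegree (β : ↥(P : Subgroup G) → ℂ) from
      CfsgLib.CharBlocks.charDegree_eq (by
        show (β : ↥(P : Subgroup G) → ℂ) (e.symm ((1 : G) : G ⧸ N)) = _
        rw [QuotientGroup.mk_one, map_one, CfsgLib.CharBlocks.coe_charDegree_irr])]
    exact hβd
  -- `P` fixes every character of `N`
  have hfix : ∀ x ∈ (P : Subgroup G), ∀ θ : IrrCharacter N, conjFun N x (θ : N → ℂ) = θ := by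
    intro x hx θ
    by_cases hθ : (θ : N → ℂ) = fun _ => 1
    · rw [hθ, conjFun_const]
    have hidx : (inertia N (θ : N → ℂ)).index = 1 := by
      obtain ⟨χ, hχ⟩ := exists_irr_over N θ.2
      obtain ⟨m, hm⟩ := classInner_char_nat (isCharacter_res N (isCharacter_of_isIrr χ.2))
        (isCharacter_of_isIrr θ.2)
      have h := degree_eq_mul_card_orbit N χ.2 θ hχ
      rw [hm, card_orbit_eq_index, ← CfsgLib.CharBlocks.coe_charDegree_irr,
        ← CfsgLib.CharBlocks.coe_charDegree_irr, ← Nat.cast_mul, ← Nat.cast_mul, Nat.cast_inj] at h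
      have hI : (inertia N (θ : N → ℂ)).index ∣ Nat.card ↥(P : Subgroup G) :=
        hc.symm.index_eq_card ▸
          Subgroup.index_dvd_of_le (le_inertia N (isClassFunction_of_isIrr θ.2))
      obtain ⟨k, hk⟩ := IsPGroup.iff_card.1 P.2
      obtain ⟨i, -, hi⟩ := (Nat.dvd_prime_pow hp.out).mp (hk ▸ hI)
      rcases Nat.eq_zero_or_pos i with h0 | h0
      · rw [hi, h0, pow_zero]
      have hd : p ∣ charDegree (χ : G → ℂ) :=
        h ▸ Dvd.dvd.mul_right ((hi ▸ dvd_pow_self p h0.ne').mul_left m) _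
      refine absurd ?_ hθ
      have hres : ∀ n : N, (χ : G → ℂ) n = (χ : G → ℂ) 1 := fun n => by
        rw [huniq χ χ0 hd hχ0]
        show (β' : G ⧸ N → ℂ) ((n : G) : G ⧸ N) = (β' : G ⧸ N → ℂ) ((1 : G) : G ⧸ N)
        rw [(QuotientGroup.eq_one_iff (n : G)).mpr n.2, QuotientGroup.mk_one]
      by_contra hne
      refine hχ ?_
      rw [show (fun n : N => (χ : G → ℂ) n) = (χ : G → ℂ) 1 • ((irrOne : IrrCharacter N) : N → ℂ)
        from funext fun n => by simp [hres n, irrOne_apply], classInner_smul_left,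
        classInner_irr_ne (irrOne : IrrCharacter N).2 θ.2 (fun e' => hne (e'.symm.trans
          (funext fun n => irrOne_apply n))), mul_zero]
    exact (mem_inertia N).mp (Subgroup.index_eq_one.mp hidx ▸ Subgroup.mem_top x)
  have hcom := S4736.le_centralizer_of_fixed N hN (P : Subgroup G) P.2 hfix
  let f : ↥N × ↥(P : Subgroup G) →* G :=
    MonoidHom.noncommCoprod N.subtype (P : Subgroup G).subtype
      fun n x => (hcom x x.2 n n.2).symm
  let F := MulEquiv.ofBijective f (show Function.Bijective fun x : ↥N × ↥(P : Subgroup G) =>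
    (x.1 : G) * (x.2 : G) from hc)
  obtain ⟨θ, hθ⟩ : ∃ θ : IrrCharacter N, θ ≠ irrOne := by
    by_contra h
    push Not at h
    refine hN1 ((Subgroup.eq_bot_iff_forall N).mpr fun n hn => ?_)
    by_contra hn1
    have h1 : ¬ IsConj (⟨n, hn⟩ : N) 1 := by
      rw [isConj_one_left]
      exact fun e' => hn1 (congrArg Subtype.val e')
    rw [isConj_iff_forall_irr] at h1
    exact h1 fun θ => by rw [h θ]; simp [irrOne_apply]
  let pr : G →* N := (MonoidHom.fst _ _).comp F.symm.toMonoidHom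
  let X : G → ℂ := (θ : N → ℂ) ∘ pr
  have hpr : ∀ n : N, pr n = n := by
    intro n
    show (F.symm (n : G)).1 = n
    rw [show F.symm (n : G) = (n, 1) from F.symm_apply_eq.mpr (show (n : G) = (n : G) * (1 : G) by
      rw [mul_one])]
  have hXN : (fun n : N => X n) = (θ : N → ℂ) := funext fun n => congrArg _ (hpr n)
  have hX : IsIrrCharacter G (X * ((β' : G ⧸ N → ℂ) ∘ QuotientGroup.mk)) :=
    isIrr_mul_comp_mk' N (isCharacter_comp (isCharacter_of_isIrr θ.2) pr) (show IsIrrCharacter N (fun n : N => X n) by rw [hXN]; exact θ.2) β'.2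
  have hd : p ∣ charDegree (X * ((β' : G ⧸ N → ℂ) ∘ QuotientGroup.mk)) := by
    rw [CfsgLib.CharBlocks.charDegree_eq (n := charDegree (θ : N → ℂ) *
      charDegree (β : ↥(P : Subgroup G) → ℂ)) (by
        rw [Nat.cast_mul, CfsgLib.CharBlocks.coe_charDegree_irr, CfsgLib.CharBlocks.coe_charDegree_irr]
        show (θ : N → ℂ) (pr 1) * (β : ↥(P : Subgroup G) → ℂ) (e.symm ((1 : G) : G ⧸ N)) = _
        rw [map_one, QuotientGroup.mk_one, map_one])]
    exact hβd.mul_left _
  refine hθ (Subtype.ext (funext fun n => ?_))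
  have h := congrArg (fun χ : IrrCharacter G => (χ : G → ℂ) n) (huniq ⟨_, hX⟩ χ0 hd hχ0)
  have hb : (β' : G ⧸ N → ℂ) ((n : G) : G ⧸ N) ≠ 0 := by
    rw [(QuotientGroup.eq_one_iff (n : G)).mpr n.2]
    exact irr_one_ne_zero β'.2
  simp only [Pi.mul_apply, Function.comp_apply, congrFun hXN n, χ0] at h
  exact (mul_eq_right₀ hb).mp h

/-- The classes of size prime to `p`. -/
theorem card_classes_not_dvd (N : Subgroup G) [N.Normal] (hN : ¬ p ∣ Nat.card N)
    (P : Sylow p G) (hc : N.IsComplement' (P : Subgroup G))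
    (hab : ∀ a b : ↥(P : Subgroup G), a * b = b * a) :
    Nat.card {C : ConjClasses G // ¬ p ∣ Nat.card C.carrier} =
      Nat.card (ConjClasses ↥(N ⊓ Subgroup.centralizer ((P : Subgroup G) : Set G))) *
        Nat.card ↥(P : Subgroup G) := by
  classical
  have := Fintype.ofFinite G
  let K : Subgroup G := N ⊓ Subgroup.centralizer ((P : Subgroup G) : Set G)
  have hsize : ∀ g : G, Nat.card (ConjClasses.mk g).carrier =
      (Subgroup.centralizer ({g} : Set G)).index := fun g => by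
    rw [← card_isConj_eq_index g]
    exact Nat.card_congr (Equiv.subtypeEquivRight fun y => ConjClasses.mem_carrier_iff_mk_eq.trans
      (eq_comm.trans ConjClasses.mk_eq_mk_iff_isConj))
  have hPle : ∀ (c : G), c ∈ K → ∀ x ∈ (P : Subgroup G), ∀ y ∈ (P : Subgroup G),
      y * (c * x) = c * x * y := fun c hcK x hx y hy => by
    rw [← mul_assoc, Subgroup.mem_centralizer_iff.mp (Subgroup.mem_inf.mp hcK).2 y hy, mul_assoc,
      show y * x = x * y from congrArg Subtype.val (hab ⟨y, hy⟩ ⟨x, hx⟩), ← mul_assoc]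
  have hnd : ∀ z : ↥K × ↥(P : Subgroup G),
      ¬ p ∣ Nat.card (ConjClasses.mk ((z.1 : G) * (z.2 : G))).carrier := fun z hd =>
    P.not_dvd_index (((hsize _).symm ▸ hd).trans (Subgroup.index_dvd_of_le fun y hy =>
      Subgroup.mem_centralizer_singleton_iff.mpr (hPle _ z.1.2 _ z.2.2 y hy)))
  let F : ConjClasses ↥K × ↥(P : Subgroup G) →
      {C : ConjClasses G // ¬ p ∣ Nat.card C.carrier} := fun z =>
    Quotient.liftOn z.1 (fun c => ⟨_, hnd (c, z.2)⟩) fun a b hab' => Subtype.ext (by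
      obtain ⟨k, hk⟩ := isConj_iff.mp hab'
      refine ConjClasses.mk_eq_mk_iff_isConj.mpr (isConj_iff.mpr ⟨(k : G), ?_⟩)
      have h1 : (z.2 : G) * (k : G) = (k : G) * z.2 :=
        Subgroup.mem_centralizer_iff.mp (Subgroup.mem_inf.mp k.2).2 _ z.2.2
      show (k : G) * ((a : G) * z.2) * (k : G)⁻¹ = (b : G) * z.2
      rw [← hk, Subgroup.coe_mul, Subgroup.coe_mul, Subgroup.coe_inv,
        show (k : G) * ((a : G) * z.2) * (k : G)⁻¹ = (k : G) * (a : G) * ((z.2 : G) * (k : G)⁻¹) by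
          group,
        show (z.2 : G) * (k : G)⁻¹ = (k : G)⁻¹ * z.2 from
          (Commute.inv_right (show Commute (z.2 : G) (k : G) from h1)).eq, ← mul_assoc])
  suffices hF : Function.Bijective F by
    rw [← Nat.card_eq_of_bijective F hF, Nat.card_prod]
  refine ⟨?_, ?_⟩
  · rintro ⟨A, x⟩ ⟨B, y⟩ h
    obtain ⟨a, rfl⟩ := ConjClasses.mk_surjective A
    obtain ⟨b, rfl⟩ := ConjClasses.mk_surjective B
    obtain ⟨g, hg⟩ := isConj_iff.mp (ConjClasses.mk_eq_mk_iff_isConj.mp (congrArg Subtype.val h))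
    have hg' : g * ((a : G) * x) * g⁻¹ = (b : G) * y := hg
    obtain ⟨n, hn, w, hw, rfl⟩ := Subgroup.mem_sup_of_normal_left.mp
      (hc.sup_eq_top ▸ Subgroup.mem_top g)
    have hw1 : w * ((a : G) * x) * w⁻¹ = (a : G) * x := by
      rw [hPle _ a.2 _ x.2 w hw, mul_inv_cancel_right]
    have hn1 : n * ((a : G) * x) * n⁻¹ = (b : G) * y := by
      rw [← hg', show n * w * ((a : G) * x) * (n * w)⁻¹ =
        n * (w * ((a : G) * x) * w⁻¹) * n⁻¹ by group, hw1]
    have hxy : x = y := by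
      have h1 := congrArg (QuotientGroup.mk' N) hn1
      simp only [map_mul, map_inv, QuotientGroup.mk'_apply,
        (QuotientGroup.eq_one_iff n).mpr hn, (QuotientGroup.eq_one_iff (a : G)).mpr
          (Subgroup.mem_inf.mp a.2).1, (QuotientGroup.eq_one_iff (b : G)).mpr
          (Subgroup.mem_inf.mp b.2).1, one_mul, inv_one, mul_one] at h1
      have h2 : (x : G)⁻¹ * y ∈ (P : Subgroup G) := mul_mem (inv_mem x.2) y.2
      exact inv_mul_eq_one.mp (Subtype.ext (Subgroup.mem_bot.mp (hc.disjoint.le_bot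
        (Subgroup.mem_inf.mpr ⟨QuotientGroup.eq.mp h1, h2⟩))))
    subst hxy
    letI : MulAction G {z : G // z = z} :=
      { smul := fun g z => ⟨g * z.1 * g⁻¹, rfl⟩
        one_smul := fun z => Subtype.ext (show (1 : G) * z.1 * (1 : G)⁻¹ = z.1 by simp)
        mul_smul := fun g g' z => Subtype.ext (show
          g * g' * z.1 * (g * g')⁻¹ = g * (g' * z.1 * g'⁻¹) * g⁻¹ by group) }
    obtain ⟨c, hcc, hce⟩ := CfsgLib.Solvable.exists_centralizer_smul_eq (Ω := {z : G // z = z})
      (P : Subgroup G) N (CfsgLib.Solvable.le_normalizer_of_conj_mem fun r _ m hm =>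
        (inferInstance : N.Normal).conj_mem m hm r)
      (S4886.coprime_card_pGroup P.2 hN) (Or.inl (S4886.isSolvable_pGroup P.2))
      ⟨(a : G) * x, rfl⟩ hn
      (fun r hr => Subtype.ext (show r * ((a : G) * x) * r⁻¹ = (a : G) * x by
        rw [hPle _ a.2 _ x.2 r hr, mul_inv_cancel_right]))
      (fun r hr => Subtype.ext (show r * (n * ((a : G) * x) * n⁻¹) * r⁻¹ =
          n * ((a : G) * x) * n⁻¹ by
        rw [hn1, hPle _ b.2 _ x.2 r hr, mul_inv_cancel_right]))
    have hce' : c * ((a : G) * x) * c⁻¹ = (b : G) * x := (congrArg Subtype.val hce).trans hn1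
    have h2 : (x : G) * c⁻¹ = c⁻¹ * x := (Commute.inv_right (show Commute (x : G) c from
      Subgroup.mem_centralizer_iff.mp (Subgroup.mem_inf.mp hcc).2 _ x.2)).eq
    rw [show c * ((a : G) * x) * c⁻¹ = c * (a : G) * ((x : G) * c⁻¹) by group, h2, ← mul_assoc] at hce'
    exact Prod.ext (ConjClasses.mk_eq_mk_iff_isConj.mpr (isConj_iff.mpr
      ⟨⟨c, hcc⟩, Subtype.ext (mul_right_cancel hce')⟩)) rfl
  · rintro ⟨C, hC⟩
    obtain ⟨g, rfl⟩ := ConjClasses.mk_surjective C
    rw [hsize] at hC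
    obtain ⟨R, hR⟩ := S4886.exists_sylow_le (q := p) hC
    obtain ⟨k, hk⟩ := MulAction.exists_smul_eq G R P
    have hcent : ∀ x ∈ (P : Subgroup G), x * (k * g * k⁻¹) = k * g * k⁻¹ * x := by
      intro x hx
      rw [← hk, Sylow.coe_subgroup_smul] at hx
      obtain ⟨r, hr, rfl⟩ := Subgroup.mem_smul_pointwise_iff_exists _ _ _ |>.mp hx
      have h1 := Subgroup.mem_centralizer_singleton_iff.mp (hR hr)
      show k * r * k⁻¹ * (k * g * k⁻¹) = k * g * k⁻¹ * (k * r * k⁻¹)
      rw [show k * r * k⁻¹ * (k * g * k⁻¹) = k * (r * g) * k⁻¹ by group, h1]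
      group
    obtain ⟨n, hn, y, hy, he⟩ := Subgroup.mem_sup_of_normal_left.mp
      (hc.sup_eq_top ▸ Subgroup.mem_top (k * g * k⁻¹))
    have hnc : n ∈ Subgroup.centralizer ((P : Subgroup G) : Set G) := by
      rw [show n = k * g * k⁻¹ * y⁻¹ by rw [← he, mul_inv_cancel_right]]
      refine mul_mem (Subgroup.mem_centralizer_iff.mpr hcent) (inv_mem ?_)
      exact Subgroup.mem_centralizer_iff.mpr fun z hz =>
        congrArg Subtype.val (hab ⟨z, hz⟩ ⟨y, hy⟩)
    refine ⟨(ConjClasses.mk ⟨n, Subgroup.mem_inf.mpr ⟨hn, hnc⟩⟩, ⟨y, hy⟩), Subtype.ext ?_⟩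
    exact ConjClasses.mk_eq_mk_iff_isConj.mpr (isConj_iff.mpr ⟨k, he.symm⟩).symm

theorem card_subtype_add_not {α : Type*} [Finite α] (P : α → Prop) :
    Nat.card {a // P a} + Nat.card {a // ¬ P a} = Nat.card α := by
  classical
  rw [← Nat.card_sum]
  exact Nat.card_congr (Equiv.sumCompl P)

/-- Let p be a prime and G a finite group that is not nilpotent and has a normal p-complement (a normal subgroup of order prime to p and index a power of p). If G has exactly one irreducible complex character of degree divisible by p, then G has exactly one conjugacy class whose size is divisible by p. -/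
theorem result {G : Type*} [Group G] [Finite G] (p : ℕ) [Fact p.Prime] (hnil : ¬ Group.IsNilpotent G) (N : Subgroup G) [N.Normal] (hN : (Nat.card N).Coprime p) (hidx : ∃ k : ℕ, N.index = p ^ k) (hone : Nat.card {χ : Cfsg.IrrCharacter G // p ∣ Cfsg.charDegree (χ : G → ℂ)} = 1) : Nat.card {C : ConjClasses G // p ∣ Nat.card C.carrier} = 1 := by
  classical
  have := Fintype.ofFinite G
  obtain ⟨k, hk⟩ := hidx
  have hNp : ¬ p ∣ Nat.card N := CfsgLib.Transfer.not_dvd_of_coprime hN
  let P : Sylow p G := default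
  have hc := CfsgLib.Transfer.isComplement'_sylow P hN hk
  have hN1 : N ≠ ⊥ := by
    intro h
    subst h
    rw [Subgroup.index_bot] at hk
    exact hnil (IsPGroup.of_card hk).isNilpotent
  have huniq : ∀ χ ψ : Cfsg.IrrCharacter G, p ∣ charDegree (χ : G → ℂ) →
      p ∣ charDegree (ψ : G → ℂ) → χ = ψ := fun χ ψ h1 h2 => by
    have hs : Subsingleton {χ : Cfsg.IrrCharacter G // p ∣ Cfsg.charDegree (χ : G → ℂ)} :=
      (Nat.card_eq_one_iff_unique.mp hone).1
    exact congrArg Subtype.val (Subsingleton.elim (⟨χ, h1⟩ : {χ : Cfsg.IrrCharacter G //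
      p ∣ Cfsg.charDegree (χ : G → ℂ)}) ⟨ψ, h2⟩)
  have hab := comm_of_unique N hNp hN1 P hc huniq
  have hk0 : k ≠ 0 := by
    intro h
    rw [h, pow_zero, Subgroup.index_eq_one] at hk
    subst hk
    obtain ⟨χ, hχ⟩ := (Nat.card_eq_one_iff_unique.mp hone).2
    refine hNp (hχ.trans ?_)
    rw [Subgroup.card_top]
    exact CfsgLib.CharBlocks.charDegree_dvd_card χ.2
  have hcardP : Nat.card ↥(P : Subgroup G) = p ^ k := hc.symm.index_eq_card.symm.trans hk
  have hcomm : (_root_.commutator ↥(P : Subgroup G)).index = Nat.card ↥(P : Subgroup G) := by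
    rw [show _root_.commutator ↥(P : Subgroup G) = ⊥ from by
      rw [commutator_def, eq_bot_iff, Subgroup.commutator_le]
      exact fun a _ b _ => Subgroup.mem_bot.mpr (commutatorElement_eq_one_iff_mul_comm.mpr (hab a b)),
      Subgroup.index_bot]
  have h1 : Nat.card {χ : Cfsg.IrrCharacter G // ¬ p ∣ Cfsg.charDegree (χ : G → ℂ)} =
      Nat.card {C : ConjClasses G // ¬ p ∣ Nat.card C.carrier} := by
    rw [card_classes_not_dvd N hNp P hc hab]
    conv_rhs => arg 2; rw [← hcomm]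
    rw [← CfsgLib.CharNormal.card_coprime_degree N (P : Subgroup G) hc.sup_eq_top
      (by rw [hcardP]; exact hN.pow_right k) (S4886.isSolvable_pGroup P.2)]
    refine Nat.card_congr (Equiv.subtypeEquivRight fun χ => ?_)
    rw [hcardP, Nat.coprime_pow_right_iff (Nat.pos_of_ne_zero hk0),
      CfsgLib.Cores.coprime_iff_not_dvd Fact.out]
  have h2 := card_subtype_add_not fun χ : Cfsg.IrrCharacter G => p ∣ Cfsg.charDegree (χ : G → ℂ)
  have : Finite (ConjClasses G) := Finite.of_surjective _ ConjClasses.mk_surjective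
  have h3 := card_subtype_add_not fun C : ConjClasses G => p ∣ Nat.card C.carrier
  rw [CfsgLib.Char.card_irr_eq_card_conjClasses, hone] at h2
  omega

end Cfsg.Agent.S4763
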