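import Cfsg.Statements.S4765
import Cfsg.Agent.Lib.CharBlocks.SL2Degrees

set_option autoImplicit false
open Cfsg

namespace Cfsg.Agent.S4765

open CfsgLib.CharBlocks.SL2Deg CfsgLib.SL2Table


/-- Let F be a finite field of characteristic p with at least 4 elements. Then PSL(2,F) has exactly one irreducible complex character of degree divisible by p, and its degree is the order of F. -/
theorem result (p : ℕ) [Fact p.Prime] (F : Type*) [Field F] [Fintype F] [CharP F p] (hF : 4 ≤ Fintype.card F) : Nat.card {χ : Cfsg.IrrCharacter (Matrix.ProjectiveSpecialLinearGroup (Fin 2) F) // p ∣ Cfsg.charDegree (χ : Matrix.ProjectiveSpecialLinearGroup (Fin 2) F → ℂ)} = 1 ∧ ∀ χ : Cfsg.IrrCharacter (Matrix.ProjectiveSpecialLinearGroup (Fin 2) F), p ∣ Cfsg.charDegree (χ : Matrix.ProjectiveSpecialLinearGroup (Fin 2) F → ℂ) → Cfsg.charDegree (χ : Matrix.ProjectiveSpecialLinearGroup (Fin 2) F → ℂ) = Fintype.card F := by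
  classical
  obtain ⟨k, hp, hk⟩ := FiniteField.card F p
  have hpq : p ∣ Fintype.card F := hk ▸ dvd_pow_self p k.ne_zero
  have hq := Fintype.one_lt_card (α := F)
  have hpm : ∀ n, n ∣ Fintype.card F + 1 ∨ n ∣ Fintype.card F - 1 → ¬ p ∣ n := by
    rintro n (h | h) hn
    · exact hp.ne_one (Nat.dvd_one.1 ((Nat.dvd_add_right hpq).1 (hn.trans h)))
    · exact hp.ne_one (Nat.dvd_one.1 (by simpa [Nat.sub_sub_self hq.le] using Nat.dvd_sub hpq (hn.trans h)))
  have key : ∀ χ : IrrCharacter (Matrix.ProjectiveSpecialLinearGroup (Fin 2) F),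
      p ∣ charDegree (χ : Matrix.ProjectiveSpecialLinearGroup (Fin 2) F → ℂ) →
      charDegree (χ : Matrix.ProjectiveSpecialLinearGroup (Fin 2) F → ℂ) = Fintype.card F ∧
      ((CfsgLib.CharNormal.inflEquiv (Subgroup.center (Matrix.SpecialLinearGroup (Fin 2) F)) χ).1 :
        Matrix.SpecialLinearGroup (Fin 2) F → ℂ) = stS := by
    intro χ hd
    set φ := (CfsgLib.CharNormal.inflEquiv (Subgroup.center (Matrix.SpecialLinearGroup (Fin 2) F)) χ).1
      with hφdef
    have h1 : (φ : Matrix.SpecialLinearGroup (Fin 2) F → ℂ) 1 =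
        (χ : Matrix.ProjectiveSpecialLinearGroup (Fin 2) F → ℂ) 1 := rfl
    rcases sl_degree_cases φ with h | ⟨n, hn, ⟨rfl, h⟩ | h⟩
    · rw [h] at h1
      rw [charDegree_of_one (n := 1) (by rw [← h1]; simp)] at hd
      exact absurd (Nat.dvd_one.1 hd) hp.ne_one
    · exact ⟨charDegree_of_one (h1 ▸ hn), h _⟩
    · rw [charDegree_of_one (h1 ▸ hn)] at hd
      exact absurd hd (hpm n h)
  refine ⟨?_, fun χ hd => (key χ hd).1⟩
  obtain ⟨ψ, hψ⟩ := card_mem_psl_degrees (F := F)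
  rw [Nat.card_eq_one_iff_unique]
  refine ⟨⟨fun a b => Subtype.ext ((CfsgLib.CharNormal.inflEquiv _).injective
    (Subtype.ext (Subtype.ext ((key a.1 a.2).2.trans (key b.1 b.2).2.symm))))⟩, ⟨⟨ψ, ?_⟩⟩⟩
  rw [hψ]
  exact hpq

end Cfsg.Agent.S4765
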