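import Cfsg.Statements.S4768
import Cfsg.Agent.S4713
import Cfsg.Agent.Lib.CharBlocks.LinearConstituent
import Cfsg.Agent.Lib.CharNormal.Kernel
import Cfsg.Agent.Lib.CharNormal.Gallagher
import Cfsg.Agent.Lib.Char.Ito
import Cfsg.Agent.Lib.Transfer.PSolvable

set_option autoImplicit false
open Cfsg

namespace Cfsg.Agent.S4768

open CfsgLib.Char CfsgLib.CharBlocks

universe u

theorem mem_bot_of_derived {G : Type*} [Group G] (P : Subgroup G) {A : Subgroup P}
    (hA : ∀ a ∈ A, ∀ b ∈ A, a * b = b * a) {n : ℕ} (hn : derivedSeries P n ≤ A) :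
    derivedSeries P (n + 1) = ⊥ := by
  rw [derivedSeries_succ, eq_bot_iff]
  refine le_trans (Subgroup.commutator_mono hn hn) ?_
  rw [Subgroup.commutator_le]
  intro a ha b hb
  rw [Subgroup.mem_bot, commutatorElement_eq_one_iff_mul_comm]
  exact hA a ha b hb

theorem exists_minimal_normal (G : Type*) [Group G] [Finite G] [Nontrivial G] :
    ∃ M : Subgroup G, M.Normal ∧ M ≠ ⊥ ∧ ∀ K : Subgroup G, K.Normal → K ≤ M → K ≠ ⊥ → K = M := by
  classical
  have hex : ∃ n : ℕ, ∃ M : Subgroup G, M.Normal ∧ M ≠ ⊥ ∧ Nat.card M = n :=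
    ⟨_, ⊤, inferInstance, top_ne_bot, rfl⟩
  obtain ⟨M, hM, hne, hc⟩ := Nat.find_spec hex
  refine ⟨M, hM, hne, fun K hK hle hKne => Subgroup.eq_of_le_of_card_ge hle ?_⟩
  rw [hc]
  exact Nat.find_min' hex ⟨K, hK, hKne, rfl⟩

/-- A minimal normal subgroup of a `p`-solvable group is a `p`-group or a `p'`-group. -/
theorem minimal_cases {G : Type*} [Group G] [Finite G] {p : ℕ} [Fact p.Prime] (h : IsPSolvable p G)
    (M : Subgroup G) [M.Normal] (hne : M ≠ ⊥)
    (hmin : ∀ K : Subgroup G, K.Normal → K ≤ M → K ≠ ⊥ → K = M) :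
    IsPGroup p M ∨ ¬ p ∣ Nat.card M := by
  classical
  obtain ⟨n, H, h0, hl, hmono, hnorm, hstep⟩ := h
  have hex : ∃ i : ℕ, ∃ hi : i < n + 1, M ≤ H ⟨i, hi⟩ :=
    ⟨n, Nat.lt_succ_self n, by
      rw [show (⟨n, Nat.lt_succ_self n⟩ : Fin (n + 1)) = Fin.last n from rfl, hl]; exact le_top⟩
  obtain ⟨hi, hMi⟩ := Nat.find_spec hex
  rcases hfi : Nat.find hex with _ | j
  · exfalso
    have e : (⟨Nat.find hex, hi⟩ : Fin (n + 1)) = 0 := Fin.ext hfi
    rw [e, h0, le_bot_iff] at hMi
    exact hne hMi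
  have hj : j < n := by omega
  have esucc : (⟨Nat.find hex, hi⟩ : Fin (n + 1)) = (⟨j, hj⟩ : Fin n).succ := Fin.ext hfi
  rw [esucc] at hMi
  have hnot : ¬ M ≤ H (⟨j, hj⟩ : Fin n).castSucc := fun hle =>
    Nat.find_min hex (m := j) (by omega) ⟨by omega, hle⟩
  have := hnorm (⟨j, hj⟩ : Fin n).castSucc
  have hbot : H (⟨j, hj⟩ : Fin n).castSucc ⊓ M = ⊥ := by
    by_contra hb
    exact hnot ((hmin _ inferInstance inf_le_right hb).symm.le.trans inf_le_left)
  have hdvd : Nat.card M ∣ (H (⟨j, hj⟩ : Fin n).castSucc).relIndex (H (⟨j, hj⟩ : Fin n).succ) := by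
    have h1 : (H (⟨j, hj⟩ : Fin n).castSucc).relIndex M = Nat.card M := by
      rw [← Subgroup.inf_relIndex_right, hbot, Subgroup.relIndex_bot_left]
    rw [← h1]
    rw [← Subgroup.relIndex_subgroupOf hMi]
    exact Subgroup.relIndex_dvd_index_of_normal _ _
  rcases hstep ⟨j, hj⟩ with ⟨m, hm⟩ | hm
  · left
    rw [hm] at hdvd
    obtain ⟨i, -, hi⟩ := (Nat.dvd_prime_pow (Fact.out : p.Prime)).1 hdvd
    exact IsPGroup.of_card hi
  · right
    intro hp
    exact (Fact.out : p.Prime).ne_one (Nat.dvd_one.1 (hm ▸ Nat.dvd_gcd (hp.trans hdvd) dvd_rfl))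

theorem comm_of_minimal {G : Type*} [Group G] [Finite G] {p : ℕ} [Fact p.Prime] (M : Subgroup G)
    [M.Normal] (hne : M ≠ ⊥) (hMp : IsPGroup p M)
    (hmin : ∀ K : Subgroup G, K.Normal → K ≤ M → K ≠ ⊥ → K = M) :
    ∀ a ∈ M, ∀ b ∈ M, a * b = b * a := by
  have hN : (⁅M, M⁆ : Subgroup G).Normal := Subgroup.commutator_normal M M
  by_cases hc : ⁅M, M⁆ = ⊥
  · intro a ha b hb
    rw [← commutatorElement_eq_one_iff_mul_comm, ← Subgroup.mem_bot, ← hc]
    exact Subgroup.commutator_mem_commutator ha hb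
  · exfalso
    have he := hmin _ hN (Subgroup.commutator_le_self M) hc
    have : Nontrivial M := (Subgroup.nontrivial_iff_ne_bot M).2 hne
    have hnil : Group.IsNilpotent M := hMp.isNilpotent
    have : commutator ↥M = ⊤ := by
      apply Subgroup.map_injective M.subtype_injective
      rw [map_commutator_eq, Subgroup.range_subtype, ← MonoidHom.range_eq_map, Subgroup.range_subtype]
      exact he
    exact (IsSolvable.commutator_lt_top_of_nontrivial ↥M).ne this

/-- The unequal case: all characters above `M` have `p'`-degree. -/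
theorem derived_le {G : Type*} [Group G] [Finite G] {p : ℕ} [hp : Fact p.Prime] (hsolv : IsPSolvable p G)
    (P : Sylow p G) (M : Subgroup G) [M.Normal] (hne : M ≠ ⊥) (hMp : IsPGroup p M)
    (hcomm : ∀ a ∈ M, ∀ b ∈ M, a * b = b * a)
    (hdeg : ∀ χ : IrrCharacter G, (∃ m ∈ M, (χ : G → ℂ) m ≠ (χ : G → ℂ) 1) →
      ¬ p ∣ charDegree (χ : G → ℂ)) :
    ⁅(P : Subgroup G), (P : Subgroup G)⁆ ≤ M := by
  classical
  have := Fintype.ofFinite G
  have := Fintype.ofFinite M
  have := Fintype.ofFinite (P : Subgroup G)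
  have hMP : M ≤ (P : Subgroup G) := hMp.le_sylow_of_normal P
  obtain ⟨θ, hθne⟩ : ∃ θ : IrrCharacter M, (θ : M → ℂ) ≠ fun _ => 1 := by
    by_contra h
    push Not at h
    have : Nontrivial M := (Subgroup.nontrivial_iff_ne_bot M).2 hne
    obtain ⟨a, ha⟩ := exists_ne (1 : M)
    have hs := sum_degree_mul_apply (a : M)
    simp only [h, mul_one, Finset.sum_const, Finset.card_univ, nsmul_eq_mul, if_neg ha] at hs
    have : Nonempty (IrrCharacter M) := ⟨irrOne⟩
    exact (Fintype.card_ne_zero (α := IrrCharacter M)) (by exact_mod_cast hs)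
  obtain ⟨χ, hχ⟩ := CfsgLib.CharNormal.exists_irr_over M θ.2
  have key : ∀ (χ : IrrCharacter G) (f : M → ℂ), IsIrrCharacter M f → f ≠ (fun _ => 1) →
      classInner (fun x : M => (χ : G → ℂ) x) f ≠ 0 → ∃ m ∈ M, (χ : G → ℂ) m ≠ (χ : G → ℂ) 1 := by
    intro χ f hf hf1 hc
    by_contra hcon
    push Not at hcon
    apply hc
    rw [show (fun x : M => (χ : G → ℂ) x) = (χ : G → ℂ) 1 • fun _ : M => (1 : ℂ) from
      funext fun x => by simp [hcon x x.2], classInner_smul_left,
      classInner_irr isIrrCharacter_one hf, if_neg hf1.symm, mul_zero]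
  obtain ⟨μ, hμ⟩ := LinConst.exists_linear_constituent (P : Subgroup G) P.2 χ (hdeg χ (key χ _ θ.2 hθne hχ))
  obtain ⟨g₀, hg₀⟩ := LinConst.exists_conj_eq (P : Subgroup G) M hMP χ μ hμ θ.2 hχ
  set lam : M → ℂ := fun x => (μ ⟨x, hMP x.2⟩ : ℂ) with hlamdef
  have hlam : IsIrrCharacter M lam := isIrrCharacter_units_hom (μ.comp (Subgroup.inclusion hMP))
  have hlam1 : lam ≠ fun _ => 1 := by
    intro e
    apply hθne
    refine CfsgLib.CharNormal.conjFun_injective M g₀ ?_
    rw [hg₀, e]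
    rfl
  let T := CfsgLib.CharNormal.inertia M lam
  have hPT : (P : Subgroup G) ≤ T := by
    intro g hg
    refine (CfsgLib.CharNormal.mem_inertia M).2 (funext fun x => ?_)
    show (μ ⟨g * x * g⁻¹, _⟩ : ℂ) = (μ ⟨x, _⟩ : ℂ)
    rw [show (⟨g * x * g⁻¹, hMP (‹M.Normal›.conj_mem x x.2 g)⟩ : (P : Subgroup G)) =
      ⟨g, hg⟩ * ⟨x, hMP x.2⟩ * ⟨g, hg⟩⁻¹ from rfl, map_mul, map_mul, map_inv, mul_inv_cancel_comm]
  have hMT : M ≤ T := hMP.trans hPT
  have := Fintype.ofFinite T
  let MT : Subgroup T := M.subgroupOf T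
  let PT : Subgroup T := (P : Subgroup G).subgroupOf T
  let μT : PT →* ℂˣ := μ.comp (Subgroup.subgroupOfEquivOfLe hPT).toMonoidHom
  have hidx : ¬ p ∣ PT.index := by
    intro h
    have h1 : (P : Subgroup G).relIndex T ∣ (P : Subgroup G).index := Subgroup.relIndex_dvd_index_of_le hPT
    exact P.not_dvd_index (h.trans h1)
  have hMPT : MT ≤ PT := fun x hx => Subgroup.mem_subgroupOf.2 (hMP hx)
  obtain ⟨ν, hν⟩ := LinConst.exists_ext (p := p) PT MT hMPT
    (hMp.of_injective ((Subgroup.subgroupOfEquivOfLe hMT).toMonoidHom) (MulEquiv.injective _)) hidx μT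
    (fun g x hx => by
      have hg := congrFun ((CfsgLib.CharNormal.mem_inertia M).1 g.2) ⟨(g : G)⁻¹ * (x : G) * g, by
        simpa using ‹M.Normal›.conj_mem (x : G) hx (g : G)⁻¹⟩
      refine Units.ext ?_
      show (μ ⟨_, _⟩ : ℂ) = (μ ⟨_, _⟩ : ℂ)
      simp only [CfsgLib.CharNormal.conjFun_apply, hlamdef] at hg
      convert hg.symm using 4
      · rfl
      · group)
  have hall : ∀ φ : IrrCharacter (T ⧸ MT), ¬ p ∣ charDegree (φ : T ⧸ MT → ℂ) := by
    intro φ hpd
    let ψ : T → ℂ := ((φ : T ⧸ MT → ℂ) ∘ QuotientGroup.mk) * fun x => (ν x : ℂ)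
    have hψ : IsIrrCharacter T ψ := CfsgLib.CharNormal.isIrr_mul_linear
      (CfsgLib.CharNormal.isIrr_comp_mk' MT φ.2) (isCharacter_of_isIrr (isIrrCharacter_units_hom ν)) (by simp)
    have hψM : (fun x : M => ψ ⟨x, hMT x.2⟩) = (φ : T ⧸ MT → ℂ) 1 • lam := by
      funext x
      have h1 : ((⟨x, hMT x.2⟩ : T) : T ⧸ MT) = 1 :=
        (QuotientGroup.eq_one_iff _).2 (Subgroup.mem_subgroupOf.2 x.2)
      simp only [ψ, Pi.mul_apply, Function.comp_apply, h1, Pi.smul_apply, smul_eq_mul,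
        hν ⟨x, hMT x.2⟩ (Subgroup.mem_subgroupOf.2 x.2)]
      rfl
    have hind := isCharacter_indFun T (isCharacter_of_isIrr hψ)
    have hψ1 : ψ 1 = (φ : T ⧸ MT → ℂ) 1 := by simp [ψ]
    have hind1 : Cfsg.indFun T ψ 1 = ((T.index * charDegree (φ : T ⧸ MT → ℂ) : ℕ) : ℂ) := by
      rw [indFun_one, hψ1]; push_cast; rw [coe_charDegree_irr]
    have hne0 : Cfsg.indFun T ψ ≠ 0 := fun e => by
      have := congrFun e 1
      rw [hind1, Pi.zero_apply, Nat.cast_eq_zero] at this
      exact (Nat.mul_pos (Nat.pos_of_ne_zero Subgroup.index_ne_zero_of_finite) (charDegree_pos φ.2)).ne' this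
    obtain ⟨X, hX, hX0⟩ := exists_constituent hind hne0
    have hle := constituent_degree_le hind hX hX0
    rw [frobenius_reciprocity T _ (isClassFunction_of_isIrr hX)] at hX0
    obtain ⟨m, hm, hmi⟩ := char_decomp (isCharacter_res T (isCharacter_of_isIrr hX))
    have hm0 : m ⟨ψ, hψ⟩ ≠ 0 := fun e => hX0 (by
      rw [← classInner_conj_symm, hmi ⟨ψ, hψ⟩, e]; simp)
    choose k hk using fun η : IrrCharacter T => classInner_char_nat
      (isCharacter_comp (isCharacter_of_isIrr η.2) (Subgroup.inclusion hMT)) (isCharacter_of_isIrr hlam)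
    have hkψ : k ⟨ψ, hψ⟩ = charDegree (φ : T ⧸ MT → ℂ) := by
      have := hk ⟨ψ, hψ⟩
      rw [show (ψ ∘ Subgroup.inclusion hMT : M → ℂ) = fun x : M => ψ ⟨x, hMT x.2⟩ from rfl, hψM,
        classInner_smul_left, classInner_irr_self hlam, mul_one, ← coe_charDegree_irr] at this
      exact_mod_cast this.symm
    have hsum : classInner (fun x : M => X x) lam = ((∑ η, m η * k η : ℕ) : ℂ) := by
      have e : (fun x : M => X x) =
          ∑ η : IrrCharacter T, (m η : ℂ) • ((η : T → ℂ) ∘ Subgroup.inclusion hMT) := by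
        funext x
        have := congrFun hm ⟨x, hMT x.2⟩
        simp only [Finset.sum_apply, Pi.smul_apply, smul_eq_mul, Function.comp_apply] at this ⊢
        exact this
      rw [e, classInner_sum_left]
      push_cast
      simp only [classInner_smul_left, hk]
    set e := ∑ η, m η * k η with he
    have hge : charDegree (φ : T ⧸ MT → ℂ) ≤ e :=
      hkψ ▸ le_trans (Nat.le_mul_of_pos_left _ (Nat.pos_of_ne_zero hm0))
        (Finset.single_le_sum (f := fun η => m η * k η) (fun _ _ => Nat.zero_le _) (Finset.mem_univ _))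
    have hne' : classInner (fun x : M => X x) lam ≠ 0 := by
      rw [hsum, Nat.cast_ne_zero]
      exact (lt_of_lt_of_le (charDegree_pos φ.2) hge).ne'
    have hX1 := CfsgLib.CharNormal.degree_eq_mul_card_orbit M hX ⟨lam, hlam⟩ hne'
    have hlam0 : lam 1 = 1 := by
      show ((μ 1 : ℂˣ) : ℂ) = 1
      simp
    rw [CfsgLib.CharNormal.card_orbit_eq_index M ⟨lam, hlam⟩] at hX1
    change X 1 = classInner (fun x : M => X x) lam * (T.index : ℂ) * lam 1 at hX1
    rw [hlam0, mul_one, hsum, ← Nat.cast_mul] at hX1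
    rw [hind1, hX1, Complex.natCast_re, Complex.natCast_re, Nat.cast_le, mul_comm T.index] at hle
    have heq : e = charDegree (φ : T ⧸ MT → ℂ) :=
      le_antisymm (Nat.le_of_mul_le_mul_right hle (Nat.pos_of_ne_zero Subgroup.index_ne_zero_of_finite)) hge
    refine hdeg ⟨X, hX⟩ (key ⟨X, hX⟩ lam hlam hlam1 hne') ?_
    rw [charDegree_eq hX1, heq]
    exact dvd_mul_of_dvd_left hpd _
  have hTsolv : IsPSolvable p (T ⧸ MT) :=
    CfsgLib.Transfer.isPSolvable_quotient (CfsgLib.Transfer.isPSolvable_subgroup hsolv T) MT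
  have hPTp : IsPGroup p (PT.map (QuotientGroup.mk' MT)) :=
    IsPGroup.map (P.2.of_equiv (Subgroup.subgroupOfEquivOfLe hPT).symm) _
  obtain ⟨Q, hQ⟩ := hPTp.exists_le_sylow
  obtain ⟨-, hQc⟩ := (Cfsg.Agent.S4713.result p hTsolv Q).2 hall
  rw [Subgroup.commutator_le]
  intro a ha b hb
  have hc : QuotientGroup.mk' MT ((⟨a, hPT ha⟩ : T) * ⟨b, hPT hb⟩ * (⟨a, hPT ha⟩ : T)⁻¹ * (⟨b, hPT hb⟩ : T)⁻¹) = 1 := by
    rw [map_mul, map_mul, map_mul, map_inv, map_inv, mul_inv_eq_one, mul_inv_eq_iff_eq_mul]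
    exact congrArg Subtype.val (hQc.is_comm.comm
      ⟨_, hQ (Subgroup.mem_map_of_mem _ (show (⟨a, hPT ha⟩ : T) ∈ PT from ha))⟩
      ⟨_, hQ (Subgroup.mem_map_of_mem _ (show (⟨b, hPT hb⟩ : T) ∈ PT from hb))⟩)
  exact Subgroup.mem_subgroupOf.1 ((QuotientGroup.eq_one_iff _).1 hc)

theorem main (p : ℕ) [Fact p.Prime] (c : ℕ) :
    ∀ (G : Type u) [Group G] [Finite G], Nat.card G = c → IsPSolvable p G → ∀ P : Sylow p G,
      derivedSeries ↥(P : Subgroup G) (Nat.card {χ : IrrCharacter G // p ∣ charDegree (χ : G → ℂ)} + 1) = ⊥ := by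
  classical
  induction c using Nat.strong_induction_on with
  | _ c ih =>
    intro G _ _ hc hsolv P
    have := Fintype.ofFinite G
    set n := Nat.card {χ : IrrCharacter G // p ∣ charDegree (χ : G → ℂ)} with hn
    rcases subsingleton_or_nontrivial G with hsub | hnt
    · exact Subgroup.eq_bot_of_subsingleton _
    obtain ⟨M, hM, hne, hmin⟩ := exists_minimal_normal G
    let π := QuotientGroup.mk' M
    let Pb : Sylow p (G ⧸ M) := P.mapSurjective (QuotientGroup.mk'_surjective M)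
    have hlt : Nat.card (G ⧸ M) < c := by
      rw [← hc, Subgroup.card_eq_card_quotient_mul_card_subgroup M]
      exact lt_mul_of_one_lt_right Nat.card_pos (Subgroup.one_lt_card_iff_ne_bot M |>.2 hne)
    have hih := ih _ hlt (G ⧸ M) rfl (CfsgLib.Transfer.isPSolvable_quotient hsolv M) Pb
    set n' := Nat.card {χ : IrrCharacter (G ⧸ M) // p ∣ charDegree (χ : G ⧸ M → ℂ)} with hn'
    let f : {χ : IrrCharacter (G ⧸ M) // p ∣ charDegree (χ : G ⧸ M → ℂ)} →
        {χ : IrrCharacter G // p ∣ charDegree (χ : G → ℂ)} := fun χ =>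
      ⟨(CfsgLib.CharNormal.inflEquiv M χ.1).1, χ.2⟩
    have hfinj : Function.Injective f := fun a b h =>
      Subtype.ext ((CfsgLib.CharNormal.inflEquiv M).injective (Subtype.ext (by exact congrArg (fun z => z.1) h)))
    have hle : n' ≤ n := Nat.card_le_card_of_injective f hfinj
    let ker : Subgroup (P : Subgroup G) := M.subgroupOf (P : Subgroup G)
    have hmap : ∀ k, derivedSeries ↥(Pb : Subgroup (G ⧸ M)) k = ⊥ →
        derivedSeries ↥(P : Subgroup G) k ≤ ker := by
      intro k hk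
      let φ : (P : Subgroup G) →* (Pb : Subgroup (G ⧸ M)) :=
        (π.comp (P : Subgroup G).subtype).codRestrict _ (fun x => Subgroup.mem_map_of_mem _ x.2)
      have h1 := map_derivedSeries_le_derivedSeries φ k
      rw [hk, le_bot_iff, Subgroup.map_eq_bot_iff] at h1
      intro x hx
      have h2 : φ x = 1 := h1 hx
      exact Subgroup.mem_subgroupOf.2 ((QuotientGroup.eq_one_iff _).1 (congrArg Subtype.val h2))
    rcases minimal_cases hsolv M hne hmin with hMp | hMp'
    · have hMc := comm_of_minimal M hne hMp hmin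
      have hkerc : ∀ a ∈ ker, ∀ b ∈ ker, a * b = b * a := fun a ha b hb =>
        Subtype.ext (hMc _ (Subgroup.mem_subgroupOf.1 ha) _ (Subgroup.mem_subgroupOf.1 hb))
      rcases Nat.lt_or_ge n' n with hlt' | hge
      · exact mem_bot_of_derived _ hkerc ((derivedSeries_antitone _ hlt').trans (hmap _ hih))
      rcases Nat.eq_zero_or_pos n with h0 | hpos
      · obtain ⟨-, hcm⟩ := (Cfsg.Agent.S4713.result p hsolv P).2 (fun χ hd => by
          have := Nat.card_pos_iff.2 ⟨⟨(⟨χ, hd⟩ : {χ : IrrCharacter G // p ∣ charDegree (χ : G → ℂ)})⟩,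
            inferInstance⟩
          omega)
        rw [h0]
        refine mem_bot_of_derived _ (fun a _ b _ => hcm.is_comm.comm a b) (n := 0) le_top
      have hbij : Function.Bijective f :=
        (Nat.bijective_iff_injective_and_card f).2 ⟨hfinj, le_antisymm hle hge⟩
      have hdeg : ∀ χ : IrrCharacter G, (∃ m ∈ M, (χ : G → ℂ) m ≠ (χ : G → ℂ) 1) →
          ¬ p ∣ charDegree (χ : G → ℂ) := by
        rintro χ ⟨m, hm, hmne⟩ hd
        obtain ⟨a, ha⟩ := hbij.2 ⟨χ, hd⟩
        have e : (CfsgLib.CharNormal.inflEquiv M a.1).1 = χ := congrArg Subtype.val ha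
        have h2 := (CfsgLib.CharNormal.inflEquiv M a.1).2 m hm
        rw [e] at h2
        exact hmne h2
      have hPM := derived_le hsolv P M hne hMp hMc hdeg
      have h1 : derivedSeries ↥(P : Subgroup G) 1 ≤ ker := by
        rw [derivedSeries_one, commutator_def, Subgroup.commutator_le]
        intro a _ b _
        exact Subgroup.mem_subgroupOf.2 (hPM (Subgroup.commutator_mem_commutator a.2 b.2))
      exact mem_bot_of_derived _ hkerc ((derivedSeries_antitone _ hpos).trans h1)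
    · refine eq_bot_iff.2 (((derivedSeries_antitone _ (by omega)).trans (hmap _ hih)).trans ?_)
      intro x hx
      have hxM := Subgroup.mem_subgroupOf.1 hx
      obtain ⟨k, hk⟩ := (P.2 x)
      rw [Subgroup.mem_bot]
      apply Subtype.ext
      have h1 : orderOf (x : G) ∣ p ^ k := orderOf_dvd_of_pow_eq_one (congrArg Subtype.val hk)
      have h2 : orderOf (x : G) ∣ Nat.card M := Subgroup.orderOf_dvd_natCard M hxM
      exact orderOf_eq_one_iff.1 (Nat.eq_one_of_dvd_coprimes
        ((((Fact.out : p.Prime).coprime_iff_not_dvd).2 hMp').pow_left k) h1 h2)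


/-- Let p be a prime, G a finite p-solvable group and P a Sylow p-subgroup of G. If n is the number of irreducible complex characters of G whose degree is divisible by p, then the (n+1)-st term of the derived series of P is trivial. (The p-solvable case has a direct inductive proof.) -/
theorem result {G : Type*} [Group G] [Finite G] (p : ℕ) [Fact p.Prime] (hG : Cfsg.IsPSolvable p G) (P : Sylow p G) : derivedSeries ↥(P : Subgroup G) (Nat.card {χ : Cfsg.IrrCharacter G // p ∣ Cfsg.charDegree (χ : G → ℂ)} + 1) = ⊥ := by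
  exact main p _ G rfl hG P

end Cfsg.Agent.S4768
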