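import Cfsg.Statements.S4775
import Cfsg.Agent.Lib.Suzuki.Chars.Degrees
import Cfsg.Agent.Lib.CharBlocks.SL2Degrees

set_option autoImplicit false
open Cfsg

namespace Cfsg.Agent.S4775

/-- Let F be a finite field with q = 2^(2m+1) ≥ 8 elements and let S be isomorphic to the Suzuki group over F. Then the vertices of the character degree graph of S are 2 and the primes dividing (q − 1)(q² + 1); the primes dividing (q − 1)(q² + 1) are pairwise adjacent, and 2 is adjacent exactly to the primes dividing q − 1. -/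
theorem result (F : Type*) [Field F] [Fintype F] (m : ℕ) (hm : 1 ≤ m) (q : ℕ) (hq : Fintype.card F = q) (hqm : q = 2 ^ (2 * m + 1)) {S : Type*} [Group S] [Finite S] (hS : Nonempty (S ≃* ↥(Cfsg.Lie.Sz F (2 ^ (m + 1))))) : Cfsg.degreePrimes S = {r : ℕ | r.Prime ∧ (r = 2 ∨ r ∣ (q - 1) * (q ^ 2 + 1))} ∧ ∀ r s : ℕ, (Cfsg.degreeGraph S).Adj r s ↔ (r ≠ s ∧ r.Prime ∧ s.Prime ∧ ((r ∣ (q - 1) * (q ^ 2 + 1) ∧ s ∣ (q - 1) * (q ^ 2 + 1)) ∨ (r = 2 ∧ s ∣ q - 1) ∨ (s = 2 ∧ r ∣ q - 1))) := by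
  subst hq
  have := CfsgLib.Suzuki.charTwo hqm
  obtain ⟨e⟩ := hS
  haveI : Finite ↥(Cfsg.Lie.Sz F (2 ^ (m + 1))) := Finite.of_equiv S e.toEquiv
  letI := Fintype.ofFinite ↥(Cfsg.Lie.Sz F (2 ^ (m + 1)))
  obtain ⟨a, b, -, -, hab, hdeg⟩ := CfsgLib.Suzuki.Chars.degrees hqm hm
  have hS : charDegrees S = _ := (CfsgLib.CharBlocks.SL2Deg.charDegrees_congr e).trans hdeg
  have h2q : ∀ x : ℕ, x.Prime → x ∣ Fintype.card F ^ 2 → x = 2 := fun x hx h => by
    rw [hqm, ← pow_mul] at h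
    exact (Nat.prime_dvd_prime_iff_eq hx Nat.prime_two).1 (hx.dvd_of_dvd_pow h)
  have h2r : ∀ x : ℕ, x.Prime → x ∣ CfsgLib.Suzuki.Chars.rr m → x = 2 := fun x hx h =>
    (Nat.prime_dvd_prime_iff_eq hx Nat.prime_two).1 (hx.dvd_of_dvd_pow h)
  have hr2 : 2 ∣ CfsgLib.Suzuki.Chars.rr m := dvd_pow_self 2 (by omega)
  generalize hq : Fintype.card F = q at *
  generalize CfsgLib.Suzuki.Chars.rr m = w at *
  have ha : a ∣ q ^ 2 + 1 := ⟨b, hab.symm⟩
  have hb : b ∣ q ^ 2 + 1 := ⟨a, by rw [← hab, mul_comm]⟩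
  have h2 : 2 ∣ q ^ 2 := by rw [hqm, ← pow_mul]; exact dvd_pow_self 2 (by positivity)
  refine ⟨?_, fun r s => ?_⟩
  · ext r
    simp only [degreePrimes, hS, Set.mem_setOf_eq, Set.mem_insert_iff, Set.mem_singleton_iff]
    refine and_congr_right fun hr => ⟨?_, ?_⟩
    · rintro ⟨d, rfl | rfl | rfl | rfl | rfl | rfl, h⟩
      · exact absurd (Nat.dvd_one.1 h) hr.ne_one
      · exact Or.inl (h2q r hr h)
      · exact Or.inr (h.trans (dvd_mul_left _ _))
      · exact Or.inr (h.trans (mul_dvd_mul_left _ hb))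
      · exact Or.inr (h.trans (mul_dvd_mul_left _ ha))
      · rcases (Nat.Prime.dvd_mul hr).1 h with h | h
        · exact Or.inr (h.trans (dvd_mul_right _ _))
        · exact Or.inl (h2r r hr h)
    · rintro (rfl | h)
      · exact ⟨_, Or.inr (Or.inl rfl), h2⟩
      · rcases (Nat.Prime.dvd_mul hr).1 h with h | h
        · exact ⟨_, Or.inr (Or.inr (Or.inr (Or.inl rfl))), h.trans (dvd_mul_right _ _)⟩
        · exact ⟨_, Or.inr (Or.inr (Or.inl rfl)), h⟩
  · change (r ≠ s ∧ r.Prime ∧ s.Prime ∧ ∃ d ∈ charDegrees S, r * s ∣ d) ↔ _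
    simp only [hS, Set.mem_insert_iff, Set.mem_singleton_iff]
    refine and_congr_right fun hrs => and_congr_right fun hr => and_congr_right fun hs => ?_
    constructor
    · rintro ⟨d, hd, hrd⟩
      have h1 := (dvd_mul_right r s).trans hrd
      have h2 := (dvd_mul_left s r).trans hrd
      rcases hd with rfl | rfl | rfl | rfl | rfl | rfl
      · exact absurd (Nat.dvd_one.1 h1) hr.ne_one
      · exact absurd ((h2q r hr h1).trans (h2q s hs h2).symm) hrs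
      · exact Or.inl ⟨h1.trans (dvd_mul_left _ _), h2.trans (dvd_mul_left _ _)⟩
      · exact Or.inl ⟨h1.trans (mul_dvd_mul_left _ hb), h2.trans (mul_dvd_mul_left _ hb)⟩
      · exact Or.inl ⟨h1.trans (mul_dvd_mul_left _ ha), h2.trans (mul_dvd_mul_left _ ha)⟩
      · rcases (Nat.Prime.dvd_mul hr).1 h1 with h | h <;>
          rcases (Nat.Prime.dvd_mul hs).1 h2 with h' | h'
        · exact Or.inl ⟨h.trans (dvd_mul_right _ _), h'.trans (dvd_mul_right _ _)⟩
        · exact Or.inr (Or.inr ⟨h2r s hs h', h⟩)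
        · exact Or.inr (Or.inl ⟨h2r r hr h, h'⟩)
        · exact absurd ((h2r r hr h).trans (h2r s hs h').symm) hrs
    · have hc := (Nat.coprime_primes hr hs).2 hrs
      rintro (⟨h1, h2⟩ | ⟨rfl, h2⟩ | ⟨rfl, h1⟩)
      · rcases (Nat.Prime.dvd_mul hr).1 h1 with h1 | h1 <;>
          rcases (Nat.Prime.dvd_mul hs).1 h2 with h2 | h2
        · exact ⟨_, Or.inr (Or.inr (Or.inr (Or.inl rfl))),
            (hc.mul_dvd_of_dvd_of_dvd h1 h2).trans (dvd_mul_right _ _)⟩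
        · rw [← hab] at h2
          rcases (Nat.Prime.dvd_mul hs).1 h2 with h2 | h2
          · exact ⟨_, Or.inr (Or.inr (Or.inr (Or.inr (Or.inl rfl)))), mul_dvd_mul h1 h2⟩
          · exact ⟨_, Or.inr (Or.inr (Or.inr (Or.inl rfl))), mul_dvd_mul h1 h2⟩
        · rw [← hab] at h1
          rw [mul_comm r s]
          rcases (Nat.Prime.dvd_mul hr).1 h1 with h1 | h1
          · exact ⟨_, Or.inr (Or.inr (Or.inr (Or.inr (Or.inl rfl)))), mul_dvd_mul h2 h1⟩
          · exact ⟨_, Or.inr (Or.inr (Or.inr (Or.inl rfl))), mul_dvd_mul h2 h1⟩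
        · exact ⟨_, Or.inr (Or.inr (Or.inl rfl)), hc.mul_dvd_of_dvd_of_dvd h1 h2⟩
      · rw [mul_comm 2 s]
        exact ⟨_, Or.inr (Or.inr (Or.inr (Or.inr (Or.inr rfl)))), mul_dvd_mul h2 hr2⟩
      · exact ⟨_, Or.inr (Or.inr (Or.inr (Or.inr (Or.inr rfl)))), mul_dvd_mul h1 hr2⟩

end Cfsg.Agent.S4775
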