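import Cfsg.Statements.S4776
import Cfsg.Agent.Lib.CharBlocks.RelGraph

set_option autoImplicit false
open Cfsg

namespace Cfsg.Agent.S4776

/-- Let N be a normal subgroup of the finite group G that is not perfect and is contained in the derived subgroup of G. Consider the common-divisor graph on the relative degree set cd(G|N) (the degrees of the irreducible complex characters of G whose kernel does not contain N; two distinct degrees adjacent when they have a common divisor greater than one). Then this graph has at most two connected components; and if a, b ∈ cd(G|N) lie in different components, then one of a, b is coprime to the index m of the derived subgroup of N in N while the other is divisible by every prime divisor of m. -/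
theorem result {G : Type*} [Group G] [Finite G] (N : Subgroup G) [N.Normal] (hN : ⁅N, N⁆ < N) (hNG : N ≤ commutator G) : Nat.card (Cfsg.commonDivisorGraph.induce (Cfsg.relCharDegrees N)).ConnectedComponent ≤ 2 ∧ ∀ (a b : ℕ) (ha : a ∈ Cfsg.relCharDegrees N) (hb : b ∈ Cfsg.relCharDegrees N), ¬ (Cfsg.commonDivisorGraph.induce (Cfsg.relCharDegrees N)).Reachable ⟨a, ha⟩ ⟨b, hb⟩ → (Nat.Coprime a (⁅N, N⁆.relIndex N) ∧ ∀ r : ℕ, r.Prime → r ∣ ⁅N, N⁆.relIndex N → r ∣ b) ∨ (Nat.Coprime b (⁅N, N⁆.relIndex N) ∧ ∀ r : ℕ, r.Prime → r ∣ ⁅N, N⁆.relIndex N → r ∣ a) := by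
  classical
  have := Fintype.ofFinite G
  have := Fintype.ofFinite N
  have hidx : ⁅N, N⁆.relIndex N = (commutator N).index := by
    rw [← Subgroup.map_subtype_commutator, Subgroup.relIndex, Subgroup.subgroupOf,
      Subgroup.comap_map_eq_self_of_injective N.subtype_injective]
  have hm1 : ⁅N, N⁆.relIndex N ≠ 1 := fun h => hN.not_ge (Subgroup.relIndex_eq_one.1 h)
  have hm0 : ⁅N, N⁆.relIndex N ≠ 0 := by rw [hidx]; exact Subgroup.index_ne_zero_of_finite
  open CfsgLib.CharBlocks.RelGraph in
  have hsame : ∀ q : ℕ, q.Prime → q ∣ ⁅N, N⁆.relIndex N → ∀ a ∈ Cfsg.relCharDegrees N,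
      ∀ b ∈ Cfsg.relCharDegrees N, (q ∣ a ↔ q ∣ b) → Linked G N a b := by
    intro q hq hqm a ha b hb hab
    by_cases hqa : q ∣ a
    · exact linked_of_dvd ha hb hq.one_lt hqa (hab.1 hqa)
    rcases dichotomy G N hNG hq (hidx ▸ hqm) with h | ⟨l, -, h⟩
    · exact h a ha b hb
    · obtain ⟨d, hd⟩ := exists_over (G := G) (lin l)
      exact (h a ha hqa d hd).trans' (h b hb (fun h' => hqa (hab.2 h')) d hd).symm'
  refine ⟨?_, fun a b ha hb hnr => ?_⟩
  · obtain ⟨q, hq, hqm⟩ := Nat.exists_prime_and_dvd hm1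
    refine (Nat.card_le_card_of_injective
      (fun c : (Cfsg.commonDivisorGraph.induce (Cfsg.relCharDegrees N)).ConnectedComponent =>
        decide (q ∣ ((Quot.out c : Cfsg.relCharDegrees N) : ℕ))) ?_).trans_eq (by simp)
    intro c c' h
    obtain ⟨_, _, hr⟩ := hsame q hq hqm _ (Quot.out c).2 _ (Quot.out c').2 (decide_eq_decide.1 h)
    rw [← Quot.out_eq c, ← Quot.out_eq c']
    exact SimpleGraph.ConnectedComponent.eq.2 hr
  · have hno : ∀ q : ℕ, q.Prime → q ∣ ⁅N, N⁆.relIndex N → ¬ (q ∣ a ↔ q ∣ b) := fun q hq hqm hab => by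
      obtain ⟨_, _, hr⟩ := hsame q hq hqm a ha b hb hab
      exact hnr hr
    have hcase : ∀ q r : ℕ, q.Prime → r.Prime → q ∣ ⁅N, N⁆.relIndex N → r ∣ ⁅N, N⁆.relIndex N →
        q ∣ a → r ∣ b → False := by
      intro q r hq hr hqm hrm hqa hrb
      have hqb : ¬ q ∣ b := fun h => hno q hq hqm (iff_of_true hqa h)
      have hra : ¬ r ∣ a := fun h => hno r hr hrm (iff_of_true h hrb)
      open CfsgLib.CharBlocks.RelGraph in
      rcases dichotomy G N hNG hq (hidx ▸ hqm) with h | ⟨l, hl, h⟩
      · obtain ⟨_, _, hh⟩ := h a ha b hb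
        exact hnr hh
      open CfsgLib.CharBlocks.RelGraph in
      rcases dichotomy G N hNG hr (hidx ▸ hrm) with h' | ⟨m, hm, h'⟩
      · obtain ⟨_, _, hh⟩ := h' a ha b hb
        exact hnr hh
      open CfsgLib.CharBlocks.RelGraph in
      obtain ⟨d, hd⟩ := exists_over (G := G) (lin l)
      open CfsgLib.CharBlocks.RelGraph in
      obtain ⟨d', hd'⟩ := exists_over (G := G) (lin m)
      have hqr : q ≠ r := fun e => hqb (e ▸ hrb)
      obtain ⟨_, _, hh⟩ := (h b hb hqb d hd).trans'
        ((CfsgLib.CharBlocks.RelGraph.linked_of_two hq hr hqr hl hm hd hd').trans' (h' a ha hra d' hd').symm')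
      exact hnr hh.symm
    by_cases hA : Nat.Coprime a (⁅N, N⁆.relIndex N)
    · refine Or.inl ⟨hA, fun r hr hrm => by_contra fun hrb => hno r hr hrm (iff_of_false (fun hra => ?_) hrb)⟩
      exact hr.ne_one (Nat.eq_one_of_dvd_coprimes hA hra hrm)
    · obtain ⟨q, hq, hqa, hqm⟩ := Nat.Prime.not_coprime_iff_dvd.1 hA
      refine Or.inr ⟨?_, fun r hr hrm => by_contra fun hra => hcase q r hq hr hqm hrm hqa ?_⟩
      · by_contra hB
        obtain ⟨r, hr, hrb, hrm⟩ := Nat.Prime.not_coprime_iff_dvd.1 hB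
        exact hcase q r hq hr hqm hrm hqa hrb
      · by_contra hrb
        exact hno r hr hrm (iff_of_false hra hrb)

end Cfsg.Agent.S4776
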