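import Cfsg.Statements.S4779
import Cfsg.Agent.Lib.CharBlocks.RelGraphShape
import Cfsg.Agent.S4776

set_option autoImplicit false
open Cfsg

namespace Cfsg.Agent.S4779

/-- Let N be a solvable normal subgroup of the finite group G contained in the derived subgroup of G, and consider the common-divisor graph on the relative degree set cd(G|N) (degrees of irreducible complex characters of G whose kernel does not contain N, two distinct degrees adjacent when not coprime). If this graph has two vertices that are not joined by any path, then there is a vertex a₀ such that any two distinct vertices in the component of a₀ are adjacent, and any two distinct vertices outside that component are adjacent or have a common neighbour (one component is complete, the other has diameter at most 2). -/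
theorem result {G : Type*} [Group G] [Finite G] (N : Subgroup G) [N.Normal] [Group.IsSolvable N] (hNG : N ≤ commutator G) (hdisc : ¬ (Cfsg.commonDivisorGraph.induce (Cfsg.relCharDegrees N)).Preconnected) : ∃ a₀ : ↥(Cfsg.relCharDegrees N), (∀ b c : ↥(Cfsg.relCharDegrees N), (Cfsg.commonDivisorGraph.induce (Cfsg.relCharDegrees N)).Reachable a₀ b → (Cfsg.commonDivisorGraph.induce (Cfsg.relCharDegrees N)).Reachable a₀ c → b ≠ c → (Cfsg.commonDivisorGraph.induce (Cfsg.relCharDegrees N)).Adj b c) ∧ (∀ b c : ↥(Cfsg.relCharDegrees N), ¬ (Cfsg.commonDivisorGraph.induce (Cfsg.relCharDegrees N)).Reachable a₀ b → ¬ (Cfsg.commonDivisorGraph.induce (Cfsg.relCharDegrees N)).Reachable a₀ c → b ≠ c → (Cfsg.commonDivisorGraph.induce (Cfsg.relCharDegrees N)).Adj b c ∨ ∃ d : ↥(Cfsg.relCharDegrees N), (Cfsg.commonDivisorGraph.induce (Cfsg.relCharDegrees N)).Adj b d ∧ (Cfsg.commonDivisorGraph.induce (Cfsg.relCharDegrees N)).Adj d c) := by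
  classical
  have := Fintype.ofFinite G
  have := Fintype.ofFinite N
  obtain ⟨x, y, hxy⟩ : ∃ x y : ↥(Cfsg.relCharDegrees N),
      ¬ (Cfsg.commonDivisorGraph.induce (Cfsg.relCharDegrees N)).Reachable x y := by
    by_contra h
    push Not at h
    exact hdisc h
  have hN' : ⁅N, N⁆ < N := by
    obtain ⟨χ, ⟨z, hz, hne⟩, -⟩ := x.2
    have : Nontrivial N := ⟨⟨⟨z, hz⟩, 1, fun h => hne (by rw [show z = (1 : G) from congrArg Subtype.val h])⟩⟩
    have hs : (commutator N) < ⊤ := IsSolvable.commutator_lt_top_of_nontrivial N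
    refine lt_of_le_of_ne (Subgroup.commutator_le_left N N) fun h => hs.ne ?_
    rw [← Subgroup.map_subtype_commutator] at h
    exact Subgroup.map_injective N.subtype_injective (h.trans (by rw [← MonoidHom.range_eq_map, Subgroup.range_subtype]))
  obtain ⟨-, hclass⟩ := Cfsg.Agent.S4776.result N hN' hNG
  set m := ⁅N, N⁆.relIndex N with hm
  obtain ⟨q, hq, hqm⟩ := Nat.exists_prime_and_dvd (n := m) fun h => hN'.not_ge (Subgroup.relIndex_eq_one.1 h)
  have hno : ∀ c : ℕ, Nat.Coprime c m → ¬ q ∣ c :=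
    fun c hc h => hq.ne_one (Nat.eq_one_of_dvd_coprimes hc h hqm)
  obtain ⟨a₀, y₀, hnr, hy₀⟩ : ∃ a₀ y₀ : ↥(Cfsg.relCharDegrees N),
      ¬ (Cfsg.commonDivisorGraph.induce (Cfsg.relCharDegrees N)).Reachable a₀ y₀ ∧ Nat.Coprime (y₀ : ℕ) m := by
    rcases hclass x y x.2 y.2 hxy with ⟨h, -⟩ | ⟨h, -⟩
    · exact ⟨y, x, fun h' => hxy h'.symm, h⟩
    · exact ⟨x, y, hxy, h⟩
  have hin : ∀ c : ↥(Cfsg.relCharDegrees N),
      (Cfsg.commonDivisorGraph.induce (Cfsg.relCharDegrees N)).Reachable a₀ c → q ∣ (c : ℕ) := by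
    intro c hc
    rcases hclass c y₀ c.2 y₀.2 (fun h => hnr (hc.trans h)) with ⟨-, h⟩ | ⟨-, h⟩
    · exact absurd (h q hq hqm) (hno _ hy₀)
    · exact h q hq hqm
  have hout : ∀ c : ↥(Cfsg.relCharDegrees N),
      ¬ (Cfsg.commonDivisorGraph.induce (Cfsg.relCharDegrees N)).Reachable a₀ c → Nat.Coprime (c : ℕ) m := by
    intro c hc
    rcases hclass a₀ c a₀.2 c.2 hc with ⟨h, -⟩ | ⟨h, -⟩
    · exact absurd (hin a₀ (SimpleGraph.Reachable.refl _)) (hno _ h)
    · exact h
  have hpos : ∀ c : ↥(Cfsg.relCharDegrees N), 0 < (c : ℕ) := fun c => by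
    obtain ⟨χ, -, hd⟩ := c.2
    exact hd ▸ CfsgLib.CharBlocks.charDegree_pos χ.2
  have hadj : ∀ b c : ↥(Cfsg.relCharDegrees N), b ≠ c → ¬ Nat.Coprime (b : ℕ) c →
      (Cfsg.commonDivisorGraph.induce (Cfsg.relCharDegrees N)).Adj b c := fun b c hne h =>
    ⟨fun e => hne (Subtype.ext e), by
      have := Nat.gcd_pos_of_pos_left (c : ℕ) (hpos b)
      exact lt_of_le_of_ne this (Ne.symm h)⟩
  have hfar : ∀ c : ↥(Cfsg.relCharDegrees N),
      ¬ (Cfsg.commonDivisorGraph.induce (Cfsg.relCharDegrees N)).Reachable a₀ c →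
      CfsgLib.CharBlocks.RelGraph.Far N m (c : ℕ) := by
    intro c hc d hd r hr hrc hrd
    refine hout ⟨d, hd⟩ fun h => hc ?_
    by_cases he : (⟨d, hd⟩ : ↥(Cfsg.relCharDegrees N)) = c
    · exact he ▸ h
    · exact h.trans (hadj _ _ he (Nat.not_coprime_of_dvd_of_dvd hr hrd hrc)).reachable
  refine ⟨a₀, fun b c hb hc hne => hadj b c hne
    (Nat.not_coprime_of_dvd_of_dvd hq.one_lt (hin b hb) (hin c hc)), fun b c hb hc hne => ?_⟩
  obtain ⟨d, hd, h1, h2⟩ := CfsgLib.CharBlocks.RelGraph.two_step N hNG hm.symm b.2 c.2 (hout b hb) (hout c hc)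
    (hfar b hb) (hfar c hc)
  by_cases e1 : (b : ℕ) = d
  · exact Or.inl (hadj b c hne (e1 ▸ h2))
  by_cases e2 : d = (c : ℕ)
  · exact Or.inl (hadj b c hne (e2 ▸ h1))
  exact Or.inr ⟨⟨d, hd⟩, hadj b ⟨d, hd⟩ (fun e => e1 (congrArg Subtype.val e)) h1,
    hadj ⟨d, hd⟩ c (fun e => e2 (congrArg Subtype.val e)) h2⟩


end Cfsg.Agent.S4779
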