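import Cfsg.Statements.S4784
import Cfsg.Agent.Lib.CharBlocks.Indicator
import Cfsg.Agent.Lib.CharNormal.Kernel

set_option autoImplicit false
open Cfsg

namespace Cfsg.Agent.S4784

open CfsgLib.CharBlocks CfsgLib.Char
open scoped ComplexConjugate

/-- Let H be a subgroup of the finite group G and consider the permutation character of G on the cosets of H (the function induced from the principal character of H). Then exactly one irreducible constituent of it is real-valued with Frobenius–Schur indicator +1 (namely the principal character) if and only if the normal core of H has odd index in G. -/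
theorem result {G : Type*} [Group G] [Fintype G] (H : Subgroup G) : Nat.card {χ : Cfsg.IrrCharacter G // Cfsg.classInner (Cfsg.indFun H (fun _ : H => (1 : ℂ))) (χ : G → ℂ) ≠ 0 ∧ (∀ g : G, (starRingEnd ℂ) ((χ : G → ℂ) g) = (χ : G → ℂ) g) ∧ (Nat.card G : ℂ)⁻¹ * ∑ g : G, (χ : G → ℂ) (g * g) = 1} = 1 ↔ Odd H.normalCore.index := by
  classical
  let _ := Fintype.ofFinite H
  set π := Cfsg.indFun H (fun _ : H => (1 : ℂ)) with hπ
  have hπcl : IsClassFunction G π := CfsgLib.Char.isClassFunction_indFun H _
  have hm : ∀ χ : IrrCharacter G, ∃ n : ℕ, classInner π (χ : G → ℂ) = n := fun χ => by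
    obtain ⟨n, hn⟩ := classInner_char_nat (isCharacter_one (G := H))
      (isCharacter_res H (isCharacter_of_isIrr χ.2))
    exact ⟨n, (frobenius_reciprocity H _ (isClassFunction_of_isIrr χ.2)).trans hn⟩
  choose m hm using hm
  have hm1 : m (irrOne : IrrCharacter G) = 1 := by
    have h := hm (irrOne : IrrCharacter G)
    rw [show ((irrOne : IrrCharacter G) : G → ℂ) = fun _ => 1 from funext irrOne_apply] at h
    rw [classInner_indFun_one_one] at h
    exact_mod_cast h.symm
  have hexp : ∀ g, π g = ∑ χ : IrrCharacter G, (m χ : ℂ) * (χ : G → ℂ) g := fun g => by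
    have := congrFun (classFun_eq_sum hπcl) g
    simpa [hm] using this
  have hplus : ∀ χ : IrrCharacter G, ((∀ g : G, conj ((χ : G → ℂ) g) = (χ : G → ℂ) g) ∧
      (Nat.card G : ℂ)⁻¹ * ∑ g : G, (χ : G → ℂ) (g * g) = 1) ↔ fsInd (χ : G → ℂ) = 1 := fun χ =>
    ⟨fun h => h.2, fun h => ⟨(fsInd_ne_zero_iff χ.2).mp (by rw [h]; exact one_ne_zero), h⟩⟩
  have honemem : classInner π ((irrOne : IrrCharacter G) : G → ℂ) ≠ 0 ∧
      fsInd ((irrOne : IrrCharacter G) : G → ℂ) = 1 := ⟨by rw [hm, hm1]; simp, fsInd_irrOne⟩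
  set C := H.normalCore with hC
  constructor
  · intro hcard
    by_contra hodd
    have h2 : 2 ∣ Nat.card (G ⧸ C) := by
      rw [← Subgroup.index_eq_card]; exact even_iff_two_dvd.mp (Nat.not_odd_iff_even.mp hodd)
    obtain ⟨q, hq⟩ := exists_prime_orderOf_dvd_card' (G := G ⧸ C) 2 h2
    obtain ⟨t, rfl⟩ := QuotientGroup.mk_surjective q
    have htC : t * t ∈ C := by
      rw [← QuotientGroup.eq_one_iff, QuotientGroup.mk_mul, ← pow_two, ← hq, pow_orderOf_eq_one]
    obtain ⟨c, hc⟩ : ∃ c : G, c * t * c⁻¹ ∉ H := by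
      by_contra hall
      push Not at hall
      have htmem : t ∈ C := hall
      rw [(QuotientGroup.eq_one_iff t).mpr htmem, orderOf_one] at hq
      omega
    have hsq : c * t * c⁻¹ * (c * t * c⁻¹) ∈ H := by
      rw [conj_mul]; exact Subgroup.normalCore_le H ((inferInstance : C.Normal).conj_mem _ htC c)
    set S := Finset.univ.filter fun s : G => s * s ∈ H with hS
    have hlt : Nat.card H < S.card := by
      rw [Nat.card_eq_fintype_card, ← Finset.card_univ, ← Finset.card_map ⟨_, Subtype.val_injective⟩]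
      refine Finset.card_lt_card (Finset.ssubset_iff_of_subset ?_ |>.mpr ⟨c * t * c⁻¹, Finset.mem_filter.mpr ⟨Finset.mem_univ _, hsq⟩, ?_⟩)
      · intro s hs
        obtain ⟨s, -, rfl⟩ := Finset.mem_map.mp hs
        simp [hS, H.mul_mem s.2 s.2]
      · simp only [Finset.mem_map, Finset.mem_univ, true_and, Function.Embedding.coeFn_mk, not_exists]
        exact fun s hs => hc (hs ▸ s.2)
    have hsum : ∑ g : G, π (g * g) = (Nat.card G : ℂ) * S.card / Nat.card H := by
      simp only [hπ, indFun_apply, ← Finset.mul_sum]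
      rw [Finset.sum_comm]
      have hinner : ∀ x : G, ∑ g : G, extendByZero H (fun _ => (1 : ℂ)) (x⁻¹ * (g * g) * x) = S.card := fun x => by
        rw [hS, Finset.card_filter, Nat.cast_sum]
        refine Fintype.sum_equiv (MulAut.conj x⁻¹).toEquiv _ _ fun g => ?_
        have e : (MulAut.conj x⁻¹).toEquiv g * (MulAut.conj x⁻¹).toEquiv g = x⁻¹ * (g * g) * x := by
          simp [mul_assoc]
        rw [e]
        split_ifs with hmem
        · rw [extendByZero_of_mem _ hmem, Nat.cast_one]
        · rw [extendByZero_of_notMem _ hmem, Nat.cast_zero]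
      rw [Finset.sum_congr rfl (fun x _ => hinner x), Finset.sum_const, Finset.card_univ, nsmul_eq_mul,
        ← Nat.card_eq_fintype_card]
      ring
    have htot : ∑ χ : IrrCharacter G, (m χ : ℂ) * fsInd (χ : G → ℂ) = (S.card : ℂ) / Nat.card H := by
      calc ∑ χ : IrrCharacter G, (m χ : ℂ) * fsInd (χ : G → ℂ)
          = (Nat.card G : ℂ)⁻¹ * ∑ g : G, π (g * g) := by
            simp only [hexp, fsInd, Finset.mul_sum]
            rw [Finset.sum_comm]
            exact Finset.sum_congr rfl fun g _ => Finset.sum_congr rfl fun χ _ => by ring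
        _ = _ := by
            rw [hsum]
            have := CfsgLib.Char.card_ne_zero' (G := G)
            field_simp
    obtain ⟨a, ha⟩ := Nat.card_eq_one_iff_exists.mp hcard
    have hall : ∀ χ : IrrCharacter G, classInner π (χ : G → ℂ) ≠ 0 → fsInd (χ : G → ℂ) = 1 → χ = irrOne :=
      fun χ h1 h2 => congrArg Subtype.val ((ha ⟨χ, h1, (hplus χ).mpr h2⟩).trans
        (ha ⟨irrOne, honemem.1, (hplus _).mpr honemem.2⟩).symm)
    rw [← Finset.add_sum_erase _ _ (Finset.mem_univ (irrOne : IrrCharacter G)), hm1, fsInd_irrOne,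
      Nat.cast_one, one_mul] at htot
    have hre := congrArg Complex.re htot
    simp only [Complex.add_re, Complex.one_re, Complex.re_sum, Complex.div_natCast_re, Complex.natCast_re] at hre
    have hneg : ∀ χ ∈ (Finset.univ : Finset (IrrCharacter G)).erase irrOne,
        ((m χ : ℂ) * fsInd (χ : G → ℂ)).re ≤ 0 := fun χ hχ => by
      rcases fsInd_cases χ.2 with ⟨-, e | e⟩ | ⟨-, e⟩
      · have h0 : classInner π (χ : G → ℂ) = 0 := by
          by_contra h0
          exact (Finset.mem_erase.mp hχ).1 (hall χ h0 e)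
        rw [hm] at h0
        simp [h0]
      · simp [e]
      · simp [e]
    have h1 := Finset.sum_nonpos hneg
    have h2' : (1 : ℝ) < (S.card : ℝ) / Nat.card H := by
      rw [lt_div_iff₀ (by exact_mod_cast Nat.card_pos), one_mul]
      exact_mod_cast hlt
    linarith
  · intro hodd
    refine Nat.card_eq_one_iff_exists.mpr ⟨⟨irrOne, honemem.1, (hplus _).mpr honemem.2⟩, ?_⟩
    rintro ⟨χ, hχ0, hreal, -⟩
    refine Subtype.ext ?_
    -- the core lies in the kernel
    have hker : ∀ n ∈ C, (χ : G → ℂ) n = (χ : G → ℂ) 1 := fun n hn => by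
      have hn1 : π n = π 1 := by
        simp only [hπ, indFun_apply]
        refine congrArg _ (Finset.sum_congr rfl fun x _ => ?_)
        have hx : x⁻¹ * n * x ∈ H := by
          have := Subgroup.normalCore_le H ((inferInstance : C.Normal).conj_mem _ hn x⁻¹)
          rwa [inv_inv] at this
        rw [mul_one, inv_mul_cancel, extendByZero_of_mem _ hx, extendByZero_of_mem _ H.one_mem]
      have hre : ∑ ψ : IrrCharacter G, ((m ψ : ℝ) * (((ψ : G → ℂ) 1).re - ((ψ : G → ℂ) n).re)) = 0 := by
        have h := congrArg Complex.re hn1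
        rw [hexp, hexp, Complex.re_sum, Complex.re_sum] at h
        simp only [Complex.mul_re, Complex.natCast_re, Complex.natCast_im, zero_mul, sub_zero] at h
        simp only [mul_sub, Finset.sum_sub_distrib]
        linarith
      have hnn : ∀ ψ : IrrCharacter G, 0 ≤ (m ψ : ℝ) * (((ψ : G → ℂ) 1).re - ((ψ : G → ℂ) n).re) := fun ψ =>
        mul_nonneg (Nat.cast_nonneg _) (sub_nonneg.mpr ((Complex.re_le_norm _).trans
          (norm_char_le (isCharacter_of_isIrr ψ.2) n)))
      have h0 := (Finset.sum_eq_zero_iff_of_nonneg fun ψ _ => hnn ψ).mp hre χ (Finset.mem_univ _)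
      have hm0 : (m χ : ℝ) ≠ 0 := by
        intro e
        exact hχ0 (by rw [hm]; exact_mod_cast e)
      have heq : ((χ : G → ℂ) n).re = ((χ : G → ℂ) 1).re := by
        have := (mul_eq_zero.mp h0).resolve_left hm0
        linarith
      apply Complex.ext heq
      have h1im : ((χ : G → ℂ) 1).im = 0 :=
        Complex.conj_eq_iff_im.mp (char_conj_one (isCharacter_of_isIrr χ.2))
      rw [h1im]
      exact Complex.conj_eq_iff_im.mp (hreal n)
    set q := (CfsgLib.CharNormal.inflEquiv C).symm ⟨χ, hker⟩ with hqdef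
    have hqval : ∀ g : G, (q : G ⧸ C → ℂ) g = (χ : G → ℂ) g := fun g => by
      rw [← CfsgLib.CharNormal.inflEquiv_apply, hqdef, Equiv.apply_symm_apply]
    have hq : irrConj q = q := (irrConj_eq_self_iff q).mpr fun z => by
      obtain ⟨g, rfl⟩ := QuotientGroup.mk_surjective z
      rw [hqval]; exact Complex.conj_eq_iff_im.mp (hreal g)
    have hq1 := irr_real_eq_one (G := G ⧸ C) (by rwa [← Subgroup.index_eq_card]) hq
    refine Subtype.ext (funext fun g => ?_)
    rw [← hqval, hq1, irrOne_apply, irrOne_apply]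

end Cfsg.Agent.S4784
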