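import Cfsg.Statements.S4796
import Cfsg.Agent.Lib.CharBlocks.Codegree

set_option autoImplicit false
open Cfsg

namespace Cfsg.Agent.S4796

/-- Let G be a finite group with a faithful irreducible complex character χ whose codegree #G / χ(1) is a prime p (for a faithful character the kernel is trivial, so the codegree is #G / χ(1)). Then either G is cyclic of order p, or G is a Frobenius group whose Frobenius kernel has order p: some proper non-trivial subgroup H satisfies H ∩ gHg⁻¹ = 1 for every element g outside H, and the set of elements lying in no conjugate of H, together with the identity, has exactly p elements. -/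
theorem result {G : Type*} [Group G] [Finite G] (χ : Cfsg.IrrCharacter G) (hfaith : ∀ g : G, (χ : G → ℂ) g = (χ : G → ℂ) 1 → g = 1) (p : ℕ) (hp : p.Prime) (hcod : Nat.card G = p * Cfsg.charDegree (χ : G → ℂ)) : (IsCyclic G ∧ Nat.card G = p) ∨ ∃ H : Subgroup G, Cfsg.IsFrobeniusComplement H ∧ Nat.card ↥(Cfsg.frobeniusKernel H) = p := by
  classical
  obtain ⟨P, hPn, hPcard, hPC, hmp, hall⟩ :=
    CfsgLib.CharBlocks.prime_codegree_structure hp χ hfaith hcod
  have hm0 : 0 < charDegree (χ : G → ℂ) := CfsgLib.CharBlocks.charDegree_pos χ.2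
  set m := charDegree (χ : G → ℂ) with hm
  by_cases hm1 : m = 1
  · rw [hm1, mul_one] at hcod
    have : Fact p.Prime := ⟨hp⟩
    exact Or.inl ⟨isCyclic_of_prime_card hcod, hcod⟩
  refine Or.inr ?_
  have : Fact p.Prime := ⟨hp⟩
  have hnd : ¬ p ∣ m := fun h => absurd (Nat.le_of_dvd hm0 h) (by omega)
  have hidx : P.index = m := by
    have h := Subgroup.card_mul_index P
    rw [hPcard] at h
    exact Nat.eq_of_mul_eq_mul_left hp.pos (h.trans hcod)
  obtain ⟨H, hH⟩ := Subgroup.exists_left_complement'_of_coprime (N := P)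
    (by rw [hPcard, hidx]; exact hp.coprime_iff_not_dvd.mpr hnd)
  have hHm : Nat.card H = m := hH.index_eq_card ▸ hidx
  have hHP : ∀ x ∈ H, x ∈ P → x = 1 := fun x h1 h2 =>
    Subgroup.mem_bot.mp (hH.disjoint.le_bot ⟨h1, h2⟩)
  have hgen : ∀ u ∈ P, u ≠ 1 → Subgroup.zpowers u = P := fun u hu h1 => by
    refine Subgroup.eq_of_le_of_card_ge (Subgroup.zpowers_le.mpr hu) ?_
    rw [hPcard, Nat.card_zpowers]
    rcases (Nat.dvd_prime hp).mp (hPcard ▸ Subgroup.orderOf_dvd_natCard P hu) with h | h
    · exact absurd (orderOf_eq_one_iff.mp h) h1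
    · exact h.ge
  have hfix : ∀ y ∈ H, ∀ u ∈ P, u ≠ 1 → Commute u y → y = 1 := fun y hy u hu h1 hc => by
    refine hHP y hy (hPC.le ?_)
    rw [← hgen u hu h1, Subgroup.mem_centralizer_iff]
    rintro _ ⟨i, rfl⟩
    exact (hc.zpow_left i).eq
  have hsplit : ∀ g : G, ∃ u ∈ P, ∃ h ∈ H, g = u * h := fun g => by
    obtain ⟨⟨h, u⟩, he⟩ := hH.2 g
    exact ⟨(h : G) * u * (h : G)⁻¹, hPn.conj_mem _ u.2 _, h, h.2, he.symm.trans (by group)⟩
  have hcomp : IsFrobeniusComplement H := by
    refine ⟨fun h => hm1 ?_, fun h => ?_, fun g hg => (Subgroup.eq_bot_iff_forall _).mpr fun x hx => ?_⟩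
    · rw [← hHm, h, Subgroup.card_bot]
    · obtain ⟨u, hu, hu1⟩ := P.bot_or_exists_ne_one.resolve_left fun hb => by
        rw [hb, Subgroup.card_bot] at hPcard; exact hp.ne_one hPcard.symm
      exact hu1 (hHP u (h ▸ Subgroup.mem_top u) hu)
    obtain ⟨hxH, hxg⟩ := Subgroup.mem_inf.mp hx
    obtain ⟨u, hu, h, hh, rfl⟩ := hsplit g
    have hu1 : u ≠ 1 := fun h1 => hg (by rw [h1, one_mul]; exact hh)
    have hz : (u * h)⁻¹ * x * (u * h) ∈ H := by
      have := Subgroup.mem_pointwise_smul_iff_inv_smul_mem.mp hxg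
      simpa [MulAut.smul_def, MulAut.conj_apply, mul_assoc] using this
    set y := u⁻¹ * x * u with hy
    have hyH : y ∈ H := by
      have := H.mul_mem (H.mul_mem hh hz) (H.inv_mem hh)
      simpa [hy, mul_assoc] using this
    have hc : u * y * u⁻¹ * y⁻¹ = 1 := by
      refine hHP _ ?_ ?_
      · rw [show u * y * u⁻¹ = x by rw [hy]; group]
        exact H.mul_mem hxH (H.inv_mem hyH)
      · have := P.mul_mem hu (hPn.conj_mem _ (P.inv_mem hu) y)
        simpa [mul_assoc] using this
    have hy1 := hfix y hyH u hu hu1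
      (show u * y = y * u by rwa [mul_inv_eq_one, mul_inv_eq_iff_eq_mul] at hc)
    calc x = u * y * u⁻¹ := by rw [hy]; group
      _ = 1 := by rw [hy1]; group
  refine ⟨H, hcomp, ?_⟩
  have hker : frobeniusKernel H = (P : Set G) := by
    ext x
    constructor
    · rintro (rfl | hx)
      · exact P.one_mem
      by_contra hxP
      obtain ⟨v, hv, h, hh, rfl⟩ := hsplit x
      have hh1 : h ≠ 1 := fun h1 => hxP (by rw [h1, mul_one]; exact hv)
      let f : P → P := fun u => ⟨(u : G) * (h * (u : G)⁻¹ * h⁻¹),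
        P.mul_mem u.2 (hPn.conj_mem _ (P.inv_mem u.2) h)⟩
      have hinj : Function.Injective f := by
        intro a b hab
        have e : (a : G) * (h * (a : G)⁻¹ * h⁻¹) = (b : G) * (h * (b : G)⁻¹ * h⁻¹) :=
          congrArg Subtype.val hab
        by_contra hne
        refine hh1 (hfix h hh ((b : G)⁻¹ * a) (P.mul_mem (P.inv_mem b.2) a.2) ?_ ?_)
        · exact fun h1 => hne (Subtype.ext (inv_mul_eq_one.mp h1).symm)
        · show (b : G)⁻¹ * a * h = h * ((b : G)⁻¹ * a)
          calc (b : G)⁻¹ * a * h = (b : G)⁻¹ * ((a : G) * (h * (a : G)⁻¹ * h⁻¹)) * h * a := by group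
            _ = h * ((b : G)⁻¹ * a) := by rw [e]; group
      obtain ⟨u, hu⟩ := (Finite.injective_iff_surjective.mp hinj) ⟨v, hv⟩
      refine hx (u : G) ?_
      rw [Subgroup.mem_pointwise_smul_iff_inv_smul_mem]
      have e : (u : G) * (h * (u : G)⁻¹ * h⁻¹) = v := congrArg Subtype.val hu
      rw [← e]
      simpa [MulAut.smul_def, MulAut.conj_apply, mul_assoc] using hh
    · intro hxP
      by_cases h1 : x = 1
      · exact Or.inl h1
      refine Or.inr fun g hg => ?_
      have hz := Subgroup.mem_pointwise_smul_iff_inv_smul_mem.mp hg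
      have h2 : g⁻¹ * x * g ∈ P := by simpa using hPn.conj_mem x hxP g⁻¹
      have h3 := hHP (g⁻¹ * x * g) (by simpa [MulAut.smul_def, MulAut.conj_apply, mul_assoc] using hz) h2
      refine h1 ?_
      calc x = g * (g⁻¹ * x * g) * g⁻¹ := by group
        _ = 1 := by rw [h3]; group
  rw [hker]
  exact hPcard

end Cfsg.Agent.S4796
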