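import Cfsg.Statements.S4797
import Cfsg.Agent.Lib.CharBlocks.Codegree
import Cfsg.Agent.Lib.Solvable.BurnsideBasis
import Cfsg.Agent.Lib.Char.Linear

set_option autoImplicit false
open Cfsg
open scoped commutatorElement

namespace Cfsg.Agent.S4797

/-- The codegree of an irreducible complex character χ of a finite group G is [G : ker χ] / χ(1), where ker χ is the set of elements at which χ takes the value χ(1). A non-trivial finite group is perfect if and only if no irreducible complex character of it has prime codegree. -/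
theorem result {G : Type*} [Group G] [Finite G] [Nontrivial G] : commutator G = ⊤ ↔ ∀ χ : Cfsg.IrrCharacter G, ¬ ((Nat.card G / (Nat.card {g : G // (χ : G → ℂ) g = (χ : G → ℂ) 1} * Cfsg.charDegree (χ : G → ℂ)))).Prime := by
  classical
  have := Fintype.ofFinite G
  constructor
  · intro hperf χ hprime
    have hprime' : (CfsgLib.CharBlocks.codeg χ).Prime := hprime
    obtain ⟨ψ, he, hd, hf⟩ := CfsgLib.CharBlocks.exists_faithful χ
    obtain ⟨P, hPn, hPcard, hPC, hlt, -⟩ := CfsgLib.CharBlocks.prime_codegree_structure hprime' ψ hf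
      (by rw [hd, CfsgLib.CharBlocks.codeg_mul_degree])
    set Q := G ⧸ CfsgLib.CharBlocks.irrKer χ
    have hperfQ : commutator Q = ⊤ := by
      rw [commutator_def, ← Subgroup.map_top_of_surjective (QuotientGroup.mk' _) (QuotientGroup.mk'_surjective (CfsgLib.CharBlocks.irrKer χ)),
        ← Subgroup.map_commutator, ← commutator_def, hperf]
    -- `Q` acts on the cyclic group `P` through an abelian group
    have : Fact (CfsgLib.CharBlocks.codeg χ).Prime := ⟨hprime'⟩
    have : IsCyclic P := isCyclic_of_prime_card hPcard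
    let φ : Q →* MulAut P := MulAut.conjNormal
    have hab : ∀ a b : MulAut P, a * b = b * a := fun a b => by
      obtain ⟨g, hg⟩ := IsCyclic.exists_monoid_generator (α := P)
      refine MulEquiv.ext fun x => ?_
      obtain ⟨i, rfl⟩ := hg x
      show a (b (g ^ i)) = b (a (g ^ i))
      obtain ⟨s, hs⟩ := hg (a g)
      obtain ⟨t, ht⟩ := hg (b g)
      simp only [← hs, ← ht, map_pow, ← pow_mul, mul_left_comm s t]
    have hker : commutator Q ≤ φ.ker := by
      rw [commutator_def, Subgroup.commutator_le]
      intro a _ b _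
      rw [MonoidHom.mem_ker, map_commutatorElement, commutatorElement_eq_one_iff_mul_comm]
      exact hab _ _
    have hP : (P : Subgroup Q) = ⊤ := by
      rw [eq_top_iff, ← hperfQ]
      refine hker.trans fun q hq => ?_
      rw [← hPC, Subgroup.mem_centralizer_iff]
      intro u hu
      have := congrArg (fun f : MulAut P => ((f ⟨u, hu⟩ : P) : Q)) (MonoidHom.mem_ker.mp hq)
      simp only [φ, MulAut.conjNormal_apply, MulAut.one_apply] at this
      exact (mul_inv_eq_iff_eq_mul.mp this).symm
    have hbot : commutator Q = ⊥ := by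
      rw [commutator_def, Subgroup.commutator_eq_bot_iff_le_centralizer]
      intro a _
      rw [Subgroup.mem_centralizer_iff]
      intro b _
      exact Subgroup.mem_centralizer_iff.mp (hPC.ge (hP ▸ Subgroup.mem_top a)) b (hP ▸ Subgroup.mem_top b)
    have h1 := congrArg (fun K : Subgroup Q => Nat.card K) (hP.trans (hperfQ.symm.trans hbot))
    simp only [Subgroup.card_bot] at h1
    rw [hPcard] at h1
    exact hprime'.ne_one h1
  · intro h
    by_contra hne
    obtain ⟨M, hM, hle⟩ := (eq_top_or_exists_le_coatom (commutator G)).resolve_left hne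
    have hMn : M.Normal := CfsgLib.Solvable.normal_of_commutator_le hle
    let _ : CommGroup (G ⧸ M) :=
      { (inferInstance : Group (G ⧸ M)) with
        mul_comm := fun a b => by
          obtain ⟨a, rfl⟩ := QuotientGroup.mk_surjective a
          obtain ⟨b, rfl⟩ := QuotientGroup.mk_surjective b
          rw [← QuotientGroup.mk_mul, ← QuotientGroup.mk_mul, QuotientGroup.eq]
          have : (a * b)⁻¹ * (b * a) = ⁅b⁻¹, a⁻¹⁆ := by rw [commutatorElement_def]; group
          rw [this]
          exact hle (Subgroup.commutator_mem_commutator (Subgroup.mem_top _) (Subgroup.mem_top _)) }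
    have hsimple : IsSimpleGroup (G ⧸ M) := by
      have : Nontrivial (G ⧸ M) := QuotientGroup.nontrivial_iff.mpr hM.1
      refine ⟨fun K _ => ?_⟩
      rcases hM.le_iff.mp (QuotientGroup.le_comap_mk' M K) with h1 | h1
      · exact Or.inr (Subgroup.comap_injective (QuotientGroup.mk'_surjective M)
          (h1.trans (Subgroup.comap_top _).symm))
      · refine Or.inl (Subgroup.comap_injective (QuotientGroup.mk'_surjective M) ?_)
        rw [h1, MonoidHom.comap_bot, QuotientGroup.ker_mk']
    obtain ⟨θ, hθ1, hθd⟩ := CfsgLib.CharBlocks.exists_ne_one_not_dvd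
      (IsSimpleGroup.prime_card (α := G ⧸ M)) dvd_rfl
    let χ : IrrCharacter G := ⟨_, CfsgLib.CharNormal.isIrr_comp_mk' M θ.2⟩
    have hker : CfsgLib.CharBlocks.irrKer χ = M := by
      rcases hM.le_iff.mp (show M ≤ CfsgLib.CharBlocks.irrKer χ from
        fun x hx => CfsgLib.CharNormal.comp_mk'_const M hx) with h1 | h1
      · exfalso
        apply hθ1
        have := Fintype.ofFinite (G ⧸ M)
        have hall : ∀ q : G ⧸ M, (θ : G ⧸ M → ℂ) q = (θ : G ⧸ M → ℂ) 1 := fun q => by
          obtain ⟨g, rfl⟩ := QuotientGroup.mk_surjective q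
          exact CfsgLib.CharBlocks.mem_irrKer.mp (show g ∈ CfsgLib.CharBlocks.irrKer χ from
            h1 ▸ Subgroup.mem_top g)
        have h0 := CfsgLib.Char.classInner_irrCharacter θ (CfsgLib.Char.irrOne : IrrCharacter (G ⧸ M))
        by_contra hne'
        rw [if_neg (fun he => hne' (congrArg Subtype.val he)), CfsgLib.Char.classInner_def] at h0
        simp only [CfsgLib.Char.irrOne_apply, hall, map_one, mul_one, Finset.sum_const,
          Finset.card_univ, nsmul_eq_mul, ← Nat.card_eq_fintype_card] at h0
        rw [inv_mul_cancel_left₀ (CfsgLib.Char.card_ne_zero' (G := G ⧸ M))] at h0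
        exact CfsgLib.Char.irr_one_ne_zero θ.2 h0
      · exact h1
    have hm := CfsgLib.CharBlocks.codeg_mul_degree χ
    have hdχ : charDegree (χ : G → ℂ) = 1 := by
      refine CfsgLib.CharBlocks.charDegree_eq ?_
      rw [Nat.cast_one]
      show (θ : G ⧸ M → ℂ) ((1 : G) : G ⧸ M) = 1
      rw [QuotientGroup.mk_one]
      exact CfsgLib.Char.irr_one_eq_one_of_comm mul_comm θ.2
    rw [hdχ, mul_one, ← Subgroup.index_eq_card, hker, Subgroup.index_eq_card] at hm
    exact h χ (show (CfsgLib.CharBlocks.codeg χ).Prime from hm ▸ IsSimpleGroup.prime_card)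

end Cfsg.Agent.S4797
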