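import Cfsg.Statements.S4798
import Cfsg.Agent.Lib.CharBlocks.Degree
import Cfsg.Agent.Lib.Char.Induced

set_option autoImplicit false
open Cfsg

namespace Cfsg.Agent.S4798

/-- Let p be a prime and χ a faithful irreducible complex character of the finite group G (χ(g) = χ(1) only for g = 1), so that its codegree is #G / χ(1). Then #G / χ(1) is a power of p if and only if χ is induced from a character of a Sylow p-subgroup of G. -/
theorem result {G : Type*} [Group G] [Fintype G] (p : ℕ) [Fact p.Prime] (χ : Cfsg.IrrCharacter G) (hfaith : ∀ g : G, (χ : G → ℂ) g = (χ : G → ℂ) 1 → g = 1) : (∃ k : ℕ, Nat.card G = p ^ k * Cfsg.charDegree (χ : G → ℂ)) ↔ ∃ (P : Sylow p G) (θ : ↥(P : Subgroup G) → ℂ), Cfsg.IsCharacter ↥(P : Subgroup G) θ ∧ (χ : G → ℂ) = Cfsg.indFun (P : Subgroup G) θ := by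
  classical
  have hR := (CfsgLib.CharBlocks.charDegree_dvd_card χ.2)
  have hd0 : 0 < charDegree (χ : G → ℂ) := CfsgLib.CharBlocks.charDegree_pos χ.2
  constructor
  · rintro ⟨k, hk⟩
    let P : Sylow p G := default
    let _ := Fintype.ofFinite (P : Subgroup G)
    set R := (P : Subgroup G).index with hRdef
    set a := (Nat.card G).factorization p
    have hPa : Nat.card (P : Subgroup G) = p ^ a := P.card_eq_multiplicity
    have hRp : ¬ p ∣ R := P.not_dvd_index
    have hcard : p ^ a * R = p ^ k * charDegree (χ : G → ℂ) := by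
      rw [← hk, ← hPa, hRdef, Subgroup.card_mul_index]
    have hka : k ≤ a := by
      have h := (Nat.Coprime.pow_left k ((Fact.out : p.Prime).coprime_iff_not_dvd.mpr hRp)).dvd_of_dvd_mul_right
        (show p ^ k ∣ p ^ a * R from hcard ▸ dvd_mul_right _ _)
      exact Nat.pow_dvd_pow_iff_le_right (Fact.out : p.Prime).one_lt |>.mp h
    have hd : charDegree (χ : G → ℂ) = p ^ (a - k) * R := by
      refine Nat.eq_of_mul_eq_mul_left (pow_pos (Fact.out : p.Prime).pos k) ?_
      rw [← hcard, ← mul_assoc, ← pow_add, Nat.add_sub_cancel' hka]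
    obtain ⟨n, hn, hni⟩ := CfsgLib.Char.char_decomp
      (CfsgLib.Char.isCharacter_res (P : Subgroup G) (CfsgLib.Char.isCharacter_of_isIrr χ.2))
    have hsum : charDegree (χ : G → ℂ) =
        ∑ θ : IrrCharacter (P : Subgroup G), n θ * charDegree (θ : ↥(P : Subgroup G) → ℂ) := by
      apply Nat.cast_injective (R := ℂ)
      have h1 := congrFun hn 1
      simp only [Finset.sum_apply, Pi.smul_apply, smul_eq_mul, OneMemClass.coe_one] at h1
      rw [CfsgLib.CharBlocks.coe_charDegree_irr, h1, Nat.cast_sum]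
      exact Finset.sum_congr rfl fun θ _ => by rw [Nat.cast_mul, CfsgLib.CharBlocks.coe_charDegree_irr]
    obtain ⟨θ, hθn, hθd⟩ : ∃ θ : IrrCharacter (P : Subgroup G),
        n θ ≠ 0 ∧ ¬ p ^ (a - k + 1) ∣ charDegree (θ : ↥(P : Subgroup G) → ℂ) := by
      by_contra hc
      push Not at hc
      have h : p ^ (a - k + 1) ∣ p ^ (a - k) * R := by
        rw [← hd, hsum]
        refine Finset.dvd_sum fun θ _ => ?_
        by_cases h0 : n θ = 0
        · simp [h0]
        · exact dvd_mul_of_dvd_right (hc θ h0) _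
      rw [pow_succ] at h
      exact hRp (Nat.dvd_of_mul_dvd_mul_left (pow_pos (Fact.out : p.Prime).pos _) h)
    obtain ⟨j, hj, hje⟩ := (Nat.dvd_prime_pow (Fact.out : p.Prime)).mp
      (hPa ▸ CfsgLib.CharBlocks.charDegree_dvd_card θ.2)
    have hja : j ≤ a - k := by
      by_contra h
      exact hθd (hje ▸ pow_dvd_pow p (by omega))
    refine ⟨P, θ, CfsgLib.Char.isCharacter_of_isIrr θ.2, ?_⟩
    have hψc := CfsgLib.Char.isCharacter_indFun (P : Subgroup G) (CfsgLib.Char.isCharacter_of_isIrr θ.2)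
    obtain ⟨m, hm, hmi⟩ := CfsgLib.Char.char_decomp hψc
    have hmχ : m χ = n θ := by
      apply Nat.cast_injective (R := ℂ)
      rw [← hmi, CfsgLib.Char.frobenius_reciprocity (P : Subgroup G) _
        (CfsgLib.Char.isClassFunction_of_isIrr χ.2), ← CfsgLib.Char.classInner_conj_symm, hni,
        map_natCast]
    have hdeg : ∑ η : IrrCharacter G, m η * charDegree (η : G → ℂ) = R * p ^ j := by
      apply Nat.cast_injective (R := ℂ)
      have h1 := congrFun hm 1
      rw [CfsgLib.Char.indFun_one, ← CfsgLib.CharBlocks.coe_charDegree_irr θ, hje] at h1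
      simp only [Finset.sum_apply, Pi.smul_apply, smul_eq_mul] at h1
      rw [Nat.cast_mul, h1, Nat.cast_sum]
      exact Finset.sum_congr rfl fun η _ => by rw [Nat.cast_mul, CfsgLib.CharBlocks.coe_charDegree_irr]
    have hle : R * p ^ j ≤ charDegree (χ : G → ℂ) := by
      rw [hd, mul_comm]; exact Nat.mul_le_mul_right _ (Nat.pow_le_pow_right (Fact.out : p.Prime).pos hja)
    rw [← Finset.add_sum_erase _ _ (Finset.mem_univ χ)] at hdeg
    have h1 : charDegree (χ : G → ℂ) ≤ m χ * charDegree (χ : G → ℂ) :=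
      Nat.le_mul_of_pos_left _ (Nat.pos_of_ne_zero (hmχ ▸ hθn))
    have hm1 : m χ = 1 := by
      have h2 : m χ * charDegree (χ : G → ℂ) ≤ 1 * charDegree (χ : G → ℂ) := by omega
      have h3 := Nat.le_of_mul_le_mul_right h2 hd0
      have : m χ ≠ 0 := hmχ ▸ hθn
      omega
    have hrest : ∀ η ∈ Finset.univ.erase χ, m η = 0 := by
      have h0 : ∑ η ∈ Finset.univ.erase χ, m η * charDegree (η : G → ℂ) = 0 := by omega
      intro η hη
      exact (Nat.mul_eq_zero.mp (Finset.sum_eq_zero_iff.mp h0 η hη)).resolve_right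
        (CfsgLib.CharBlocks.charDegree_pos η.2).ne'
    rw [hm, ← Finset.add_sum_erase _ _ (Finset.mem_univ χ), hm1, Nat.cast_one, one_smul,
      Finset.sum_eq_zero (fun η hη => by rw [hrest η hη, Nat.cast_zero, zero_smul]), add_zero]
  · rintro ⟨P, θ, hθ, he⟩
    obtain ⟨t, ht⟩ := CfsgLib.Char.exists_degree hθ
    have hd : charDegree (χ : G → ℂ) = (P : Subgroup G).index * t := by
      refine CfsgLib.CharBlocks.charDegree_eq ?_
      rw [he, CfsgLib.Char.indFun_one, ht, Nat.cast_mul]
    have hdvd : t ∣ p ^ (Nat.card G).factorization p := by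
      rw [← P.card_eq_multiplicity]
      refine Nat.dvd_of_mul_dvd_mul_left (Nat.pos_of_ne_zero (P : Subgroup G).index_ne_zero_of_finite) ?_
      rw [← hd, Subgroup.index_mul_card]
      exact hR
    obtain ⟨j, hj, rfl⟩ := (Nat.dvd_prime_pow (Fact.out : p.Prime)).mp hdvd
    refine ⟨(Nat.card G).factorization p - j, ?_⟩
    have hP : Nat.card (P : Subgroup G) = p ^ (Nat.card G).factorization p := P.card_eq_multiplicity
    rw [hd, mul_left_comm, ← pow_add, Nat.sub_add_cancel hj, ← hP, Subgroup.index_mul_card]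

end Cfsg.Agent.S4798
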