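import Cfsg.Statements.S4801
import Cfsg.Agent.Lib.CharBlocks.Codegree

set_option autoImplicit false
open Cfsg

namespace Cfsg.Agent.S4801

/-- The codegree of an irreducible complex character χ of a finite group G is [G : ker χ] / χ(1), where ker χ is the set of elements at which χ takes the value χ(1). Let S be a finite simple group and G a finite group such that every codegree of an irreducible character of S is a codegree of an irreducible character of G. Then the order of S divides the order of G. -/
theorem result {S : Type*} [Group S] [Finite S] (hS : IsSimpleGroup S) {G : Type*} [Group G] [Finite G] (hsub : ∀ χ : Cfsg.IrrCharacter S, ∃ ψ : Cfsg.IrrCharacter G, (Nat.card S / (Nat.card {g : S // (χ : S → ℂ) g = (χ : S → ℂ) 1} * Cfsg.charDegree (χ : S → ℂ))) = (Nat.card G / (Nat.card {g : G // (ψ : G → ℂ) g = (ψ : G → ℂ) 1} * Cfsg.charDegree (ψ : G → ℂ)))) : Nat.card S ∣ Nat.card G := by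
  classical
  have := hS.1
  refine Nat.dvd_iff_prime_pow_dvd_dvd _ _ |>.mpr fun q k hq hk => ?_
  rcases Nat.eq_zero_or_pos k with rfl | hk0
  · simp
  obtain ⟨χ, hχ1, hχq⟩ := CfsgLib.CharBlocks.exists_ne_one_not_dvd hq
    ((dvd_pow_self q hk0.ne').trans hk)
  have hker : CfsgLib.CharBlocks.irrKer χ = ⊥ := by
    rcases hS.eq_bot_or_eq_top_of_normal _ (CfsgLib.CharBlocks.irrKer_normal χ) with h | h
    · exact h
    · exfalso
      apply hχ1
      have := Fintype.ofFinite S
      have hall : ∀ g : S, (χ : S → ℂ) g = (χ : S → ℂ) 1 := fun g =>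
        CfsgLib.CharBlocks.mem_irrKer.mp (h ▸ Subgroup.mem_top g)
      have h0 := CfsgLib.Char.classInner_irrCharacter χ (CfsgLib.Char.irrOne : IrrCharacter S)
      by_contra hne
      rw [if_neg (fun he => hne (congrArg Subtype.val he)), CfsgLib.Char.classInner_def] at h0
      simp only [CfsgLib.Char.irrOne_apply, hall, map_one, mul_one, Finset.sum_const,
        Finset.card_univ, nsmul_eq_mul, ← Nat.card_eq_fintype_card] at h0
      rw [inv_mul_cancel_left₀ (CfsgLib.Char.card_ne_zero' (G := S))] at h0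
      exact CfsgLib.Char.irr_one_ne_zero χ.2 h0
  have hm := CfsgLib.CharBlocks.codeg_mul_degree χ
  have hcard : Nat.card (S ⧸ CfsgLib.CharBlocks.irrKer χ) = Nat.card S := by
    rw [← Subgroup.index_eq_card, hker, Subgroup.index_bot]
  rw [hcard] at hm
  have hdvd : q ^ k ∣ CfsgLib.CharBlocks.codeg χ :=
    (Nat.Coprime.pow_left k (hq.coprime_iff_not_dvd.mpr hχq)).dvd_of_dvd_mul_right (hm ▸ hk)
  obtain ⟨ψ, hψ⟩ := hsub χ
  rw [show CfsgLib.CharBlocks.codeg χ = CfsgLib.CharBlocks.codeg ψ from hψ] at hdvd
  exact hdvd.trans (CfsgLib.CharBlocks.codeg_dvd_card ψ)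

end Cfsg.Agent.S4801
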