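import Cfsg.Statements.S4802
import Cfsg.Agent.Lib.Blocks.GroupAlgebra
import Cfsg.Agent.Lib.CharNormal.Kernel

set_option autoImplicit false
open Cfsg

namespace Cfsg.Agent.S4802

/-- Let N < M be normal subgroups of the finite group G and g ∈ M ∖ N. Then the conjugacy class of g is exactly M ∖ N if and only if every irreducible complex character of G whose kernel contains N takes the same value at all elements of M ∖ N, and every irreducible complex character of G whose kernel does not contain N vanishes at g. -/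
theorem result {G : Type*} [Group G] [Finite G] (N M : Subgroup G) [N.Normal] [M.Normal] (hNM : N < M) (g : G) (hgM : g ∈ M) (hgN : g ∉ N) : {h : G | IsConj g h} = (M : Set G) \ (N : Set G) ↔ ((∀ χ : Cfsg.IrrCharacter G, (∀ x ∈ N, (χ : G → ℂ) x = (χ : G → ℂ) 1) → ∀ x ∈ M, x ∉ N → ∀ y ∈ M, y ∉ N → (χ : G → ℂ) x = (χ : G → ℂ) y) ∧ (∀ χ : Cfsg.IrrCharacter G, (∃ x ∈ N, (χ : G → ℂ) x ≠ (χ : G → ℂ) 1) → (χ : G → ℂ) g = 0)) := by
  classical
  have := Fintype.ofFinite G
  have := Fintype.ofFinite N
  constructor
  · intro h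
    have hmem : ∀ x : G, x ∈ M → x ∉ N → IsConj g x := fun x h1 h2 =>
      show x ∈ {h : G | IsConj g h} from h ▸ ⟨h1, h2⟩
    refine ⟨fun χ _ x hx hxN y hy hyN => ?_, fun χ hχ => ?_⟩
    · exact CfsgLib.Char.isClassFunction_iff.mp (CfsgLib.Char.isClassFunction_of_isIrr χ.2) _ _
        ((hmem x hx hxN).symm.trans (hmem y hy hyN))
    let a : CfsgLib.Blocks.CA G := CfsgLib.Blocks.ofFun fun z : G => if z ∈ N then (1 : ℂ) else 0
    have ha : a ∈ Subsemiring.center (CfsgLib.Blocks.CA G) := by
      rw [CfsgLib.Blocks.mem_center_iff]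
      intro z c
      simp only [a, CfsgLib.Blocks.coeff_ofFun]
      refine if_congr ⟨fun hz => ?_, fun hz => ‹N.Normal›.conj_mem z hz c⟩ rfl rfl
      simpa [mul_assoc] using ‹N.Normal›.conj_mem _ hz c⁻¹
    have h0 := CfsgLib.Blocks.charLin_mul_of_central χ.2 ha (MonoidAlgebra.single g 1)
    have homega : CfsgLib.Blocks.omega (χ : G → ℂ) a = 0 := by
      have hzero : classInner (fun n : N => (χ : G → ℂ) n) (fun _ => (1 : ℂ)) = 0 := by
        by_contra hne
        obtain ⟨x, hx, hx'⟩ := hχ
        exact hx' (CfsgLib.CharNormal.res_eq_degree_of_constituent_one N χ.2 hne x hx)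
      rw [CfsgLib.Blocks.omega, CfsgLib.Blocks.charLin_apply]
      simp only [a, CfsgLib.Blocks.coeff_ofFun, ite_mul, one_mul, zero_mul, ← Finset.sum_filter]
      rw [Finset.sum_subtype (F := inferInstance) (Finset.univ.filter fun z : G => z ∈ N) (p := (· ∈ N))
        (by simp)]
      rw [CfsgLib.Char.classInner_def, mul_eq_zero,
        or_iff_right (inv_ne_zero (CfsgLib.Char.card_ne_zero' (G := N)))] at hzero
      simp only [map_one, mul_one] at hzero
      rw [show ∑ n : N, (χ : G → ℂ) n = 0 from hzero, zero_div]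
    rw [CfsgLib.Blocks.charLin_single, homega, zero_mul, CfsgLib.Blocks.charLin_apply,
      Finset.sum_eq_multiset_sum] at h0
    rw [← Finset.sum_eq_multiset_sum] at h0
    have hcalc : ∑ z : G, (a * MonoidAlgebra.single g (1 : ℂ)).coeff z * (χ : G → ℂ) z =
        (Nat.card N : ℂ) * (χ : G → ℂ) g := by
      simp only [MonoidAlgebra.coeff_mul_single_apply, a, CfsgLib.Blocks.coeff_ofFun, mul_one]
      rw [Finset.sum_congr rfl (g := fun z : G => if z * g⁻¹ ∈ N then (χ : G → ℂ) g else 0) fun z _ => ?_]
      · rw [← Finset.sum_filter, Finset.sum_const, nsmul_eq_mul]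
        congr 2
        rw [Nat.card_eq_fintype_card, ← Fintype.card_subtype]
        exact Fintype.card_congr
          { toFun := fun z => ⟨z.1 * g⁻¹, z.2⟩
            invFun := fun n => ⟨(n : G) * g, by simp⟩
            left_inv := fun z => by ext; simp
            right_inv := fun n => by ext; simp }
      · split_ifs with hz
        · rw [one_mul]
          refine CfsgLib.Char.isClassFunction_iff.mp (CfsgLib.Char.isClassFunction_of_isIrr χ.2) _ _
            (hmem z ?_ ?_).symm
          · have := M.mul_mem (hNM.le hz) hgM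
            simpa using this
          · intro hzN
            refine hgN ?_
            have := N.mul_mem (N.inv_mem hz) hzN
            simpa using this
        · rw [zero_mul]
    rw [hcalc, mul_eq_zero] at h0
    exact h0.resolve_left (CfsgLib.Char.card_ne_zero' (G := N))
  · rintro ⟨h1, h2⟩
    ext x
    constructor
    · intro hx
      obtain ⟨c, rfl⟩ := isConj_iff.mp hx
      refine ⟨‹M.Normal›.conj_mem g hgM c, fun hN => hgN ?_⟩
      simpa [mul_assoc] using ‹N.Normal›.conj_mem _ hN c⁻¹
    · rintro ⟨hxM, hxN⟩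
      show IsConj g x
      by_contra hne
      have hs := congrArg Complex.re (CfsgLib.Char.second_orthogonality g x)
      rw [if_neg hne, Complex.re_sum, Complex.zero_re] at hs
      have hterm : ∀ χ : IrrCharacter G, ((χ : G → ℂ) g * starRingEnd ℂ ((χ : G → ℂ) x)).re =
          Complex.normSq ((χ : G → ℂ) g) := by
        intro χ
        by_cases hk : ∀ n ∈ N, (χ : G → ℂ) n = (χ : G → ℂ) 1
        · rw [h1 χ hk x hxM hxN g hgM hgN, Complex.mul_conj, Complex.ofReal_re]
        · push Not at hk
          rw [h2 χ hk]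
          simp
      simp only [hterm] at hs
      have := (Finset.sum_eq_zero_iff_of_nonneg fun χ _ => Complex.normSq_nonneg _).mp hs
        CfsgLib.Char.irrOne (Finset.mem_univ _)
      simp [show (CfsgLib.Char.irrOne : IrrCharacter G).1 = fun _ => (1 : ℂ) from rfl] at this

end Cfsg.Agent.S4802
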