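import Cfsg.Statements.S4807
import Cfsg.Agent.Lib.CharBlocks.RelMcKay.Main

set_option autoImplicit false
open Cfsg

open CfsgLib.CharBlocks.RelMcKay CfsgLib.Char CfsgLib.CharNormal

namespace Cfsg.Agent.S4807

theorem finsum_ne_zero_iff {G : Type*} [Group G] [Finite G] {B H : Subgroup G} (h : B ≤ H)
    (χ : Ch H) (β : Ch B) :
    (∑ᶠ b : B, z χ (b : G) * (starRingEnd ℂ) ((β : B → ℂ) b)) ≠ 0 ↔ m χ β ≠ 0 := by
  have := Fintype.ofFinite B
  have h1 := m_sum h χ β
  simp only [z_coe β] at h1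
  rw [finsum_eq_sum_of_fintype]
  constructor
  · intro h2 h0
    apply h2
    convert h1.symm using 1
    · exact Finset.sum_congr (by ext; simp) fun _ _ => rfl
    · simp [h0]
  · intro h0 h2
    have h3 : (m χ β : ℂ) * (Nat.card B : ℂ) = 0 := by
      convert h2 using 1
      convert h1 using 1
      exact Finset.sum_congr (by ext; simp) fun _ _ => rfl
    rcases mul_eq_zero.mp h3 with h4 | h4
    · exact h0 (by exact_mod_cast h4)
    · exact Nat.card_pos.ne' (by exact_mod_cast h4)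


/-- Let p be a prime and G a finite p-solvable group, L a normal subgroup of G, S a Sylow p-subgroup of G and P the subgroup generated by L and S (so P/L is a Sylow p-subgroup of G/L), and let ν be an irreducible complex character of L that is invariant under conjugation by every element of P. Let N be the normalizer of P in G (it contains L). Then the number of irreducible characters of G of degree prime to p lying over ν (restriction to L not orthogonal to ν) equals the number of irreducible characters of N of degree prime to p lying over ν. -/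
theorem result {G : Type*} [Group G] [Finite G] (p : ℕ) [Fact p.Prime] (hG : Cfsg.IsPSolvable p G) (L : Subgroup G) [L.Normal] (S : Sylow p G) (P : Subgroup G) (hP : P = L ⊔ (S : Subgroup G)) (hLN : L ≤ (Subgroup.normalizer ((P : Subgroup G) : Set G))) (ν : Cfsg.IrrCharacter ↥L) (hν : ∀ x ∈ P, Cfsg.IsConjCharOf L x (ν : ↥L → ℂ) (ν : ↥L → ℂ)) : Nat.card {χ : Cfsg.IrrCharacter G // ¬ p ∣ Cfsg.charDegree (χ : G → ℂ) ∧ (∑ᶠ l : ↥L, (χ : G → ℂ) (l : G) * (starRingEnd ℂ) ((ν : ↥L → ℂ) l)) ≠ 0} = Nat.card {ψ : Cfsg.IrrCharacter ↥(Subgroup.normalizer ((P : Subgroup G) : Set G)) // ¬ p ∣ Cfsg.charDegree (ψ : ↥(Subgroup.normalizer ((P : Subgroup G) : Set G)) → ℂ) ∧ (∑ᶠ l : ↥L, (ψ : ↥(Subgroup.normalizer ((P : Subgroup G) : Set G)) → ℂ) (Subgroup.inclusion hLN l) * (starRingEnd ℂ) ((ν : ↥L → ℂ) l)) ≠ 0} := by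
  classical
  have := Fintype.ofFinite G
  have := Fintype.ofFinite (⊤ : Subgroup G)
  have hG' : L ≤ P := hP ▸ le_sup_left
  have hfix : Fix P ν := fun g hg => Ch_ext fun x hx => by
    have hgL : g ∈ Nz L := mem_nz_of_conj fun y hy => ‹L.Normal›.conj_mem y hy g
    rw [z_cj hgL]
    have hmem : g⁻¹ * x * g ∈ L := by
      simpa using ‹L.Normal›.conj_mem x hx g⁻¹
    rw [z_of_mem ν hx, z_of_mem ν hmem]
    exact (hν g hg ⟨_, hmem⟩ ⟨x, hx⟩ (by simp [mul_assoc])).symm
  have hidx : ¬ p ∣ P.relIndex ⊤ := by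
    rw [Subgroup.relIndex_top_right]
    exact fun h => S.not_dvd_index (h.trans (Subgroup.index_dvd_of_le (hP ▸ le_sup_right)))
  obtain ⟨k, hk⟩ : ∃ k, L.relIndex P = p ^ k := by
    obtain ⟨j, hj⟩ := (S.isPGroup').exists_card_eq
    rw [hP, relIndex_sup_of_le_nz (fun g _ => mem_nz_of_conj fun y hy => ‹L.Normal›.conj_mem y hy g)]
    obtain ⟨i, -, hi⟩ := (Nat.dvd_prime_pow (Fact.out : p.Prime)).mp
      (hj ▸ Subgroup.relIndex_dvd_card L (S : Subgroup G))
    exact ⟨i, hi⟩
  have key := count_eq hG _ (G := (⊤ : Subgroup G)) ν rfl hG' le_top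
    (fun g _ => mem_nz_of_conj fun y hy => ‹L.Normal›.conj_mem y hy g) hidx ⟨k, hk⟩ hfix
  rw [top_inf_eq] at key
  let e : Cfsg.IrrCharacter G ≃ Ch (⊤ : Subgroup G) :=
    { toFun := fun χ => ⟨(χ : G → ℂ) ∘ (Subgroup.topEquiv : (⊤ : Subgroup G) ≃* G),
        isIrr_comp_mulEquiv χ.2 _⟩
      invFun := fun χ => ⟨(χ : (⊤ : Subgroup G) → ℂ) ∘ (Subgroup.topEquiv : (⊤ : Subgroup G) ≃* G).symm,
        isIrr_comp_mulEquiv χ.2 _⟩
      left_inv := fun χ => Subtype.ext (funext fun x => rfl)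
      right_inv := fun χ => Subtype.ext (funext fun x => rfl) }
  refine Eq.trans (Nat.card_congr (e.subtypeEquiv fun χ => ?_))
    (key.trans (Nat.card_congr (Equiv.subtypeEquivRight fun ψ => ?_)))
  · have h1 : ∀ l : L, z (e χ) (l : G) = (χ : G → ℂ) l := fun l =>
      (z_of_mem (e χ) (Subgroup.mem_top _)).trans rfl
    have h2 : dg (e χ) = Cfsg.charDegree (χ : G → ℂ) := rfl
    rw [← h2, ← finsum_ne_zero_iff le_top (e χ) ν]
    simp only [h1]
  · have h1 : ∀ l : L, z ψ (l : G) =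
        (ψ : ↥(Subgroup.normalizer ((P : Subgroup G) : Set G)) → ℂ) (Subgroup.inclusion hLN l) :=
      fun l => z_of_mem ψ (hLN l.2)
    rw [← finsum_ne_zero_iff hLN ψ ν]
    simp only [h1]
    rfl

end Cfsg.Agent.S4807
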