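import Cfsg.Statements.S4808
import Cfsg.Agent.Lib.CharBlocks.Codegree

set_option autoImplicit false
open Cfsg

namespace Cfsg.Agent.S4808

/-- The codegree of an irreducible complex character χ of a finite group G is [G : ker χ] / χ(1), where ker χ is the set of elements at which χ takes the value χ(1). A prime divides the order of G if and only if it divides the codegree of some irreducible complex character of G. -/
theorem result {G : Type*} [Group G] [Finite G] (p : ℕ) (hp : p.Prime) : p ∣ Nat.card G ↔ ∃ χ : Cfsg.IrrCharacter G, p ∣ (Nat.card G / (Nat.card {g : G // (χ : G → ℂ) g = (χ : G → ℂ) 1} * Cfsg.charDegree (χ : G → ℂ))) := by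
  classical
  have := Fintype.ofFinite G
  have : Fact p.Prime := ⟨hp⟩
  refine ⟨fun h => ?_, fun ⟨χ, hχ⟩ => hχ.trans (CfsgLib.CharBlocks.codeg_dvd_card χ)⟩
  by_contra hc
  push Not at hc
  obtain ⟨x, hx⟩ := exists_prime_orderOf_dvd_card' p h
  have hz : ∀ χ : IrrCharacter G, (χ : G → ℂ) x = (χ : G → ℂ) 1 ∨ (χ : G → ℂ) x = 0 := by
    intro χ
    by_cases hk : x ∈ CfsgLib.CharBlocks.irrKer χ
    · exact Or.inl hk
    · obtain ⟨ψ, he, hd, -⟩ := CfsgLib.CharBlocks.exists_faithful χ
      refine Or.inr ?_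
      rw [he, Function.comp_apply]
      refine CfsgLib.CharBlocks.vanish_of_not_dvd hp ψ (t := CfsgLib.CharBlocks.codeg χ) ?_ (hc χ) ?_
      · rw [hd, CfsgLib.CharBlocks.codeg_mul_degree]
      · have h1 : orderOf (x : G ⧸ CfsgLib.CharBlocks.irrKer χ) ∣ p :=
          hx ▸ orderOf_map_dvd (QuotientGroup.mk' _) x
        rcases (Nat.dvd_prime hp).mp h1 with h2 | h2
        · exact absurd ((QuotientGroup.eq_one_iff x).mp (orderOf_eq_one_iff.mp h2)) hk
        · rw [h2]
  have h0 := CfsgLib.Char.sum_degree_mul_apply x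
  rw [if_neg (fun h1 : x = 1 => by rw [h1, orderOf_one] at hx; exact hp.ne_one hx.symm)] at h0
  have hre := congrArg Complex.re h0
  rw [Complex.re_sum, Complex.zero_re] at hre
  have hnn : ∀ χ ∈ (Finset.univ : Finset (IrrCharacter G)),
      0 ≤ ((χ : G → ℂ) 1 * (χ : G → ℂ) x).re := by
    intro χ _
    rcases hz χ with h1 | h1
    · rw [h1, ← CfsgLib.CharBlocks.coe_charDegree_irr χ, ← Nat.cast_mul, Complex.natCast_re]
      exact Nat.cast_nonneg _
    · simp [h1]
  have := (Finset.sum_eq_zero_iff_of_nonneg hnn).mp hre CfsgLib.Char.irrOne (Finset.mem_univ _)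
  simp [show (CfsgLib.Char.irrOne : IrrCharacter G).1 = fun _ => (1 : ℂ) from rfl] at this

end Cfsg.Agent.S4808
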