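import Cfsg.Statements.S4811
import Cfsg.Agent.Lib.CharBlocks.DegreeLinks
import Mathlib.Combinatorics.SimpleGraph.Connectivity.Connected

set_option autoImplicit false
open Cfsg

namespace Cfsg.Agent.S4811

section Aux

open CfsgLib.Char CfsgLib.CharBlocks CfsgLib.CharNormal

variable {G : Type*} [Group G] [Fintype G]

theorem reach {p r : ℕ} (hp : p ∈ degreePrimes G) (hr : r ∈ degreePrimes G) (χ : IrrCharacter G)
    (hpd : p ∣ charDegree (χ : G → ℂ)) (hrd : r ∣ charDegree (χ : G → ℂ)) :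
    ((degreeGraph G).induce (degreePrimes G)).Reachable ⟨p, hp⟩ ⟨r, hr⟩ := by
  by_cases h : p = r
  · subst h; exact SimpleGraph.Reachable.refl _
  · refine SimpleGraph.Adj.reachable ?_
    exact ⟨h, hp.1, hr.1, _, ⟨χ, rfl⟩,
      ((Nat.coprime_primes hp.1 hr.1).mpr h).mul_dvd_of_dvd_of_dvd hpd hrd⟩

theorem mem_degreePrimes {p : ℕ} (hp : p.Prime) (χ : IrrCharacter G)
    (h : p ∣ charDegree (χ : G → ℂ)) : p ∈ degreePrimes G :=
  ⟨hp, _, ⟨χ, rfl⟩, h⟩

theorem two_hubs [Group.IsSolvable G] (v₀ : ↥(degreePrimes G)) :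
    ∃ a b : ↥(degreePrimes G), ∀ v : ↥(degreePrimes G),
      ((degreeGraph G).induce (degreePrimes G)).Reachable v a ∨
      ((degreeGraph G).induce (degreePrimes G)).Reachable v b := by
  classical
  have hna : commutator G ≠ ⊥ := by
    intro h
    obtain ⟨p, hp, d, ⟨χ, rfl⟩, hpd⟩ := v₀
    have hc : ∀ a b : G, a * b = b * a := fun a b => by
      have := Subgroup.commutator_mem_commutator (Subgroup.mem_top a) (Subgroup.mem_top b)
      rw [← commutator_def, h, Subgroup.mem_bot, commutatorElement_eq_one_iff_mul_comm] at this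
      exact this
    rw [charDegree_eq (n := 1) (by rw [irr_one_of_comm hc χ.2, Nat.cast_one])] at hpd
    exact hp.ne_one (Nat.dvd_one.mp hpd)
  obtain ⟨N, K, q, hN, hK, hq, hNK, hGK, hnN, hKK, hpow, hcase⟩ := exists_split hna
  have := Fintype.ofFinite K
  rcases hcase with hQ | ⟨hKtop, hfree⟩
  · -- every vertex is joined to `q`
    have key : ∀ v : ↥(degreePrimes G), ∃ φ : IrrCharacter G,
        (v : ℕ) ∣ charDegree (φ : G → ℂ) ∧ q ∣ charDegree (φ : G → ℂ) := by
      rintro ⟨p, hp, d, ⟨χ, rfl⟩, hpd⟩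
      by_cases hqd : q ∣ charDegree (χ : G → ℂ)
      · exact ⟨χ, hpd, hqd⟩
      · obtain ⟨φ, hφ⟩ := exists_degree_mul_of_qGroup hq hNK hGK hnN hKK hQ χ hqd
        exact ⟨φ, (hpd.trans (dvd_mul_right _ q)).trans hφ, (dvd_mul_left q _).trans hφ⟩
    obtain ⟨φ₀, -, h0⟩ := key v₀
    refine ⟨⟨q, mem_degreePrimes hq φ₀ h0⟩, ⟨q, mem_degreePrimes hq φ₀ h0⟩, fun v => Or.inl ?_⟩
    obtain ⟨φ, h1, h2⟩ := key v
    exact reach v.2 _ φ h1 h2
  · have hKN : ¬ K ≤ N := fun h => hnN (hGK.trans h)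
    have hf : K.index ≠ 1 := fun h => hKtop (Subgroup.index_eq_one.mp h)
    obtain ⟨s, hs, hsd⟩ := Nat.exists_prime_and_dvd hf
    obtain ⟨φ₁, hφ₁⟩ := exists_degree_mul_of_free hq hGK hKN hKK hpow hfree irrOne (by
      rw [show charDegree ((irrOne : IrrCharacter K) : K → ℂ) = 1 from charDegree_one]
      exact hq.not_dvd_one)
    rw [show charDegree ((irrOne : IrrCharacter K) : K → ℂ) = 1 from charDegree_one, mul_one] at hφ₁
    have hs' : s ∈ degreePrimes G := mem_degreePrimes hs φ₁ (hsd.trans hφ₁)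
    have key : ∀ v : ↥(degreePrimes G), ∃ φ : IrrCharacter G,
        (v : ℕ) ∣ charDegree (φ : G → ℂ) ∧
          (s ∣ charDegree (φ : G → ℂ) ∨ q ∣ charDegree (φ : G → ℂ)) := by
      rintro ⟨p, hp, d, ⟨χ, rfl⟩, hpd⟩
      by_cases hpf : p ∣ K.index
      · exact ⟨φ₁, hpf.trans hφ₁, Or.inl (hsd.trans hφ₁)⟩
      obtain ⟨ψ, hψ, h0⟩ := exists_constituent (isCharacter_res K (isCharacter_of_isIrr χ.2))
        (fun h => irr_one_ne_zero χ.2 (by simpa using congrFun h 1))
      obtain ⟨e, n, -, -, hd, -, hn⟩ := degree_abelian_quotient K hGK χ ⟨ψ, hψ⟩ h0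
      have hpψ : p ∣ charDegree ψ :=
        ((Nat.Prime.dvd_mul hp).mp (hn ▸ hpd.mul_left (n * e))).resolve_left hpf
      by_cases hqψ : q ∣ charDegree ψ
      · refine ⟨χ, hpd, Or.inr ?_⟩
        rw [hd]
        exact hqψ.mul_left _
      · obtain ⟨φ, hφ⟩ := exists_degree_mul_of_free hq hGK hKN hKK hpow hfree ⟨ψ, hψ⟩ hqψ
        exact ⟨φ, (hpψ.mul_left _).trans hφ, Or.inl ((hsd.trans (dvd_mul_right _ _)).trans hφ)⟩
    by_cases hq' : q ∈ degreePrimes G
    · refine ⟨⟨s, hs'⟩, ⟨q, hq'⟩, fun v => ?_⟩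
      obtain ⟨φ, h1, h2 | h2⟩ := key v
      · exact Or.inl (reach v.2 hs' φ h1 h2)
      · exact Or.inr (reach v.2 hq' φ h1 h2)
    · refine ⟨⟨s, hs'⟩, ⟨s, hs'⟩, fun v => Or.inl ?_⟩
      obtain ⟨φ, h1, h2 | h2⟩ := key v
      · exact reach v.2 hs' φ h1 h2
      · exact absurd (mem_degreePrimes hq φ h2) hq'

end Aux

/-- For every finite solvable group G the character degree graph of G (vertices: the primes dividing some irreducible complex character degree; edges: distinct primes whose product divides some degree) has at most two connected components. -/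
theorem result {G : Type*} [Group G] [Finite G] [Group.IsSolvable G] : Nat.card ((Cfsg.degreeGraph G).induce (Cfsg.degreePrimes G)).ConnectedComponent ≤ 2 := by
  classical
  have := Fintype.ofFinite G
  by_cases hv : Nonempty ↥(degreePrimes G)
  · obtain ⟨v₀⟩ := hv
    obtain ⟨a, b, hab⟩ := two_hubs v₀
    refine (Nat.card_le_card_of_surjective
      (fun x : Bool => ((degreeGraph G).induce (degreePrimes G)).connectedComponentMk (cond x a b))
      ?_).trans_eq (by simp)
    intro c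
    induction c using SimpleGraph.ConnectedComponent.ind with
    | h v =>
      rcases hab v with h | h
      · exact ⟨true, (SimpleGraph.ConnectedComponent.eq.mpr h).symm⟩
      · exact ⟨false, (SimpleGraph.ConnectedComponent.eq.mpr h).symm⟩
  · have : IsEmpty ↥(degreePrimes G) := not_nonempty_iff.mp hv
    have : IsEmpty ((degreeGraph G).induce (degreePrimes G)).ConnectedComponent :=
      ⟨fun c => c.ind fun v => isEmptyElim v⟩
    simp

end Cfsg.Agent.S4811
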