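import Cfsg.Statements.S4813
import Cfsg.Agent.Lib.CharBlocks.DegreeLinks
import Cfsg.Agent.Lib.CharNormal.BlichfeldtHall
import Cfsg.Agent.Lib.Char.Burnside
import Mathlib.LinearAlgebra.Matrix.Determinant.Basic

set_option autoImplicit false
open Cfsg

namespace Cfsg.Agent.S4813

section Aux

open CfsgLib.Char CfsgLib.CharBlocks CfsgLib.CharNormal
open Module

universe u

variable {G : Type u} [Group G]

/-- An element whose image is scalar is central. -/
theorem mem_center_of_scalar {V : Type*} [AddCommGroup V] [Module ℂ V] (ρ : Representation ℂ G V)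
    (hker : Function.Injective ρ) {g : G} {c : ℂ} (h : ρ g = c • LinearMap.id) :
    g ∈ Subgroup.center G :=
  Subgroup.mem_center_iff.mpr fun y => hker <| by
    rw [map_mul, map_mul, h]
    exact LinearMap.ext fun v => by simp

variable [Fintype G]

theorem injective_of_simple [IsSimpleGroup G] (χ : IrrCharacter G) (hd : (χ : G → ℂ) 1 ≠ 1) {m : ℕ}
    (ρ : Representation ℂ G (Fin m → ℂ)) (hρ : ρ.character = (χ : G → ℂ)) :
    Function.Injective ρ := by
  refine ρ.ker_eq_bot_iff.mp ((Subgroup.Normal.eq_bot_or_eq_top ρ.normal_ker).resolve_right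
    fun htop => hd ?_)
  have hone : ∀ x, ρ x = LinearMap.id := fun x => MonoidHom.mem_ker.mp (htop ▸ Subgroup.mem_top x)
  have hm : (χ : G → ℂ) 1 = (m : ℂ) := by rw [← hρ, Representation.char_one]; simp
  have hconst : (χ : G → ℂ) = fun _ => (m : ℂ) := funext fun x => by
    rw [← hρ]; simp [Representation.character, hone x]
  have h1 := classInner_irr_self χ.2
  rw [hconst, classInner_def] at h1
  simp only [map_natCast, Finset.sum_const, Finset.card_univ, nsmul_eq_mul,
    ← Nat.card_eq_fintype_card, inv_mul_cancel_left₀ card_ne_zero'] at h1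
  have : m = 1 := Nat.eq_one_of_mul_eq_one_left (by exact_mod_cast h1)
  rw [hm, this, Nat.cast_one]

theorem no_degree_two [IsSimpleGroup G] (hperf : commutator G = ⊤)
    (hnc : Subgroup.center G = ⊥) (χ : IrrCharacter G) : charDegree (χ : G → ℂ) ≠ 2 := by
  intro h2
  have : Fact (Nat.Prime 2) := ⟨Nat.prime_two⟩
  have hdvd : 2 ∣ Nat.card G := h2 ▸ charDegree_dvd_card χ.2
  obtain ⟨t, ht⟩ := exists_prime_orderOf_dvd_card' 2 hdvd
  obtain ⟨m, ρ, hirr, hρ⟩ := χ.2
  have hm : m = 2 := by
    have h := congrFun hρ 1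
    rw [Representation.char_one, ← coe_charDegree_irr, h2] at h
    rw [Module.finrank_fin_fun] at h
    exact_mod_cast h
  subst hm
  have hinj := injective_of_simple χ (by rw [← coe_charDegree_irr, h2]; norm_num) ρ hρ
  let D : G →* ℂˣ := (LinearMap.det.comp ρ).toHomUnits
  have hD : ∀ g, LinearMap.det (ρ g) = 1 := fun g => by
    have hg : g ∈ D.ker := Abelianization.commutator_subset_ker D (hperf ▸ Subgroup.mem_top g)
    exact congrArg Units.val (MonoidHom.mem_ker.mp hg)
  let M : Matrix (Fin 2) (Fin 2) ℂ := LinearMap.toMatrix' (ρ t)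
  have hMM : M * M = 1 := by
    rw [← LinearMap.toMatrix'_comp, ← Module.End.mul_eq_comp, ← map_mul,
      show t * t = 1 by rw [← sq, ← ht, pow_orderOf_eq_one], map_one, Module.End.one_eq_id,
      LinearMap.toMatrix'_id]
  have hdet : M.det = 1 := by rw [LinearMap.det_toMatrix']; exact hD t
  rw [Matrix.det_fin_two] at hdet
  have e00 := congrFun (congrFun hMM 0) 0
  have e01 := congrFun (congrFun hMM 0) 1
  have e10 := congrFun (congrFun hMM 1) 0
  have e11 := congrFun (congrFun hMM 1) 1
  simp [Matrix.mul_apply, Fin.sum_univ_two] at e00 e01 e10 e11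
  have htr : (M 0 0 + M 1 1) ^ 2 = 4 := by linear_combination e00 + e11 + 2 * hdet
  have hne : M 0 0 + M 1 1 ≠ 0 := fun h => by rw [h] at htr; norm_num at htr
  have hb : M 0 1 = 0 := (mul_eq_zero.mp (show M 0 1 * (M 0 0 + M 1 1) = 0 by
    linear_combination e01)).resolve_right hne
  have hc : M 1 0 = 0 := (mul_eq_zero.mp (show M 1 0 * (M 0 0 + M 1 1) = 0 by
    linear_combination e10)).resolve_right hne
  have hda : M 1 1 = M 0 0 := by
    rw [hb] at hdet e00
    linear_combination M 0 0 * hdet - M 1 1 * e00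
  have hscal : ρ t = M 0 0 • LinearMap.id := by
    refine LinearMap.toMatrix'.injective ?_
    rw [map_smul, LinearMap.toMatrix'_id]
    show M = M 0 0 • 1
    ext i j
    fin_cases i <;> fin_cases j <;> simp [hb, hc, hda]
  have h1 : t ∈ Subgroup.center G := mem_center_of_scalar ρ hinj hscal
  rw [hnc, Subgroup.mem_bot] at h1
  rw [h1, orderOf_one] at ht
  norm_num at ht

theorem false_of_simple [IsSimpleGroup G] (hnab : ¬ ∀ a b : G, a * b = b * a)
    (hprime : ∀ χ : IrrCharacter G, charDegree (χ : G → ℂ) = 1 ∨ (charDegree (χ : G → ℂ)).Prime) :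
    False := by
  classical
  have hperf : commutator G = ⊤ :=
    (Subgroup.Normal.eq_bot_or_eq_top inferInstance).resolve_left fun h => hnab fun a b => by
      have := Subgroup.commutator_mem_commutator (Subgroup.mem_top a) (Subgroup.mem_top b)
      rw [← commutator_def, h, Subgroup.mem_bot, commutatorElement_eq_one_iff_mul_comm] at this
      exact this
  have hnc : Subgroup.center G = ⊥ :=
    (Subgroup.Normal.eq_bot_or_eq_top inferInstance).resolve_right fun h => hnab fun a b =>
      Subgroup.mem_center_iff.mp (h ▸ Subgroup.mem_top b : b ∈ Subgroup.center G) a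
  have hlin : ∀ χ : IrrCharacter G, charDegree (χ : G → ℂ) = 1 → χ = irrOne := by
    have hc : Nat.card {χ : IrrCharacter G // (χ : G → ℂ) 1 = 1} = 1 := by
      rw [card_linear, hperf, Subgroup.index_top]
    obtain ⟨_, _⟩ := Nat.card_eq_one_iff_unique.1 hc
    intro χ hχ
    have h1 : (χ : G → ℂ) 1 = 1 := by rw [← coe_charDegree_irr, hχ, Nat.cast_one]
    exact congrArg Subtype.val (Subsingleton.elim
      (⟨χ, h1⟩ : {χ : IrrCharacter G // (χ : G → ℂ) 1 = 1}) ⟨irrOne, rfl⟩)
  obtain ⟨χ₁, hχ₁⟩ : ∃ χ : IrrCharacter G, charDegree (χ : G → ℂ) ≠ 1 := by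
    by_contra h
    push Not at h
    exact hnab (comm_iff_forall_linear.mpr fun χ => by rw [← coe_charDegree_irr, h χ, Nat.cast_one])
  have hex : ∃ d : ℕ, d ≠ 1 ∧ ∃ χ : IrrCharacter G, charDegree (χ : G → ℂ) = d :=
    ⟨_, hχ₁, χ₁, rfl⟩
  obtain ⟨p, ⟨hp1, χp, hχp⟩, hpmin⟩ : ∃ p, (p ≠ 1 ∧ ∃ χ : IrrCharacter G,
      charDegree (χ : G → ℂ) = p) ∧ ∀ χ : IrrCharacter G, charDegree (χ : G → ℂ) ≠ 1 →
        p ≤ charDegree (χ : G → ℂ) :=
    ⟨Nat.find hex, Nat.find_spec hex, fun χ hχ => Nat.find_min' hex ⟨hχ, χ, rfl⟩⟩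
  have hp : p.Prime := hχp ▸ (hprime χp).resolve_left (hχp.symm ▸ hp1)
  have hp2 : p ≠ 2 := hχp ▸ no_degree_two hperf hnc χp
  -- larger degrees are primes greater than `p + 1`
  have hbig : ∀ χ : IrrCharacter G, charDegree (χ : G → ℂ) ≠ 1 → charDegree (χ : G → ℂ) ≠ p →
      p + 1 < charDegree (χ : G → ℂ) := by
    intro χ h1 h2
    have hq := (hprime χ).resolve_left h1
    have hodd := hq.odd_of_ne_two (no_degree_two hperf hnc χ)
    have := hp.odd_of_ne_two hp2
    have := hpmin χ h1
    obtain ⟨a, ha⟩ := hodd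
    obtain ⟨b, hb⟩ := ‹Odd p›
    omega
  obtain ⟨m, ρ, hirr, hρ⟩ := χp.2
  have hinj := injective_of_simple χp
    (by rw [← coe_charDegree_irr, hχp]; exact_mod_cast hp1) ρ hρ
  have hfaith : ∀ g : G, (χp : G → ℂ) g = (χp : G → ℂ) 1 → g = 1 := by
    intro g hg
    have hn := charKer_normal (isCharacter_of_isIrr χp.2)
    rcases Subgroup.Normal.eq_bot_or_eq_top hn with h | h
    · exact (Subgroup.mem_bot).mp (h ▸ (mem_charKer.mpr hg :
        g ∈ charKer (isCharacter_of_isIrr χp.2)))
    · refine absurd ?_ hp1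
      have hc : ∀ x, (χp : G → ℂ) x = (χp : G → ℂ) 1 := fun x =>
        (mem_charKer (hχ := isCharacter_of_isIrr χp.2)).mp (h ▸ Subgroup.mem_top x)
      have h1 := classInner_irr_self χp.2
      rw [classInner_def] at h1
      simp only [hc, ← coe_charDegree_irr, hχp, map_natCast, Finset.sum_const, Finset.card_univ,
        nsmul_eq_mul, ← Nat.card_eq_fintype_card, inv_mul_cancel_left₀ card_ne_zero'] at h1
      exact Nat.eq_one_of_mul_eq_one_left (by exact_mod_cast h1)
  obtain ⟨A, hA, hAab⟩ := exists_abelian_hall (isCharacter_of_isIrr χp.2) hfaith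
    (coe_charDegree_irr χp).symm (π := {r | p + 1 < r}) (fun q _ hq => by rw [hχp]; exact hq)
  -- an element at which every character of larger degree vanishes
  obtain ⟨z, hz1, hz⟩ : ∃ z : G, z ≠ 1 ∧ ∀ χ : IrrCharacter G, charDegree (χ : G → ℂ) ≠ 1 →
      charDegree (χ : G → ℂ) ≠ p → (χ : G → ℂ) z = 0 := by
    by_cases hbot : A = ⊥
    · obtain ⟨z, hz⟩ := exists_ne (1 : G)
      refine ⟨z, hz, fun χ h1 h2 => absurd (charDegree_dvd_card χ.2) ?_⟩
      have := hA.2 _ ((hprime χ).resolve_left h1) (hbig χ h1 h2)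
      rwa [hbot, Subgroup.index_bot] at this
    · obtain ⟨⟨z, hzA⟩, hz⟩ := (Subgroup.ne_bot_iff_exists_ne_one).mp hbot
      have hz1 : z ≠ 1 := fun h => hz (Subtype.ext h)
      refine ⟨z, hz1, fun χ h1 h2 => ?_⟩
      have hq := (hprime χ).resolve_left h1
      have hcop : Nat.Coprime (charDegree (χ : G → ℂ))
          (Subgroup.centralizer ({z} : Set G)).index := by
        rw [hq.coprime_iff_not_dvd]
        intro hd
        exact hA.2 _ hq (hbig χ h1 h2) (hd.trans (Subgroup.index_dvd_of_le fun a ha =>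
          Subgroup.mem_centralizer_singleton_iff.mpr (hAab a ha z hzA)))
      obtain ⟨k, σ, hσi, hσ⟩ := χ.2
      have hfr : finrank ℂ (Fin k → ℂ) = charDegree (χ : G → ℂ) := by
        have h := congrFun hσ 1
        rw [Representation.char_one, ← coe_charDegree_irr] at h
        exact_mod_cast h
      rw [← congrFun hσ z]
      refine (zero_or_norm_eq σ z (hfr ▸ hcop)).resolve_right fun hn => ?_
      obtain ⟨ω, hω⟩ := (norm_character_eq_iff σ z).mp hn
      have hσinj := injective_of_simple χ (by rw [← coe_charDegree_irr]; exact_mod_cast h1) σ hσ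
      have := mem_center_of_scalar σ hσinj hω
      rw [hnc, Subgroup.mem_bot] at this
      exact hz1 this
  have hsum := sum_degree_mul_apply z
  rw [if_neg hz1, ← Finset.add_sum_erase Finset.univ _ (Finset.mem_univ (irrOne (G := G)))] at hsum
  have hint : IsIntegral ℤ ((∑ χ ∈ Finset.univ.erase (irrOne (G := G)),
      (χ : G → ℂ) 1 * (χ : G → ℂ) z) / p) := by
    rw [Finset.sum_div]
    refine IsIntegral.sum _ fun χ hχ => ?_
    have h1 : charDegree (χ : G → ℂ) ≠ 1 := fun h => Finset.ne_of_mem_erase hχ (hlin χ h)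
    by_cases h2 : charDegree (χ : G → ℂ) = p
    · rw [← coe_charDegree_irr, h2, mul_div_cancel_left₀ _ (by exact_mod_cast hp.ne_zero)]
      exact char_isIntegral (isCharacter_of_isIrr χ.2) z
    · rw [hz χ h1 h2]
      simpa using isIntegral_zero
  have heq : (∑ χ ∈ Finset.univ.erase (irrOne (G := G)),
      (χ : G → ℂ) 1 * (χ : G → ℂ) z) = -1 := by
    simp only [irrOne_apply] at hsum
    linear_combination hsum
  rw [heq] at hint
  have : IsIntegral ℤ (((1 : ℕ) : ℂ) / p) := by
    convert hint.neg using 1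
    rw [Nat.cast_one]; ring
  exact hp.one_lt.ne' (Nat.dvd_one.mp (dvd_of_isIntegral_div hp.ne_zero this))

theorem solvable_of_prime_degrees : ∀ (n : ℕ) (H : Type u) [Group H] [Fintype H], Nat.card H = n →
    (∀ χ : IrrCharacter H, charDegree (χ : H → ℂ) = 1 ∨ (charDegree (χ : H → ℂ)).Prime) →
    Group.IsSolvable H := by
  intro n
  induction n using Nat.strong_induction_on with
  | _ n ih =>
  intro H _ _ hn hp
  classical
  by_cases hab : ∀ a b : H, a * b = b * a
  · let _ : CommGroup H := { (inferInstance : Group H) with mul_comm := hab }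
    infer_instance
  by_cases hN : ∃ N : Subgroup H, N.Normal ∧ N ≠ ⊥ ∧ N ≠ ⊤
  · obtain ⟨N, hNn, hNb, hNt⟩ := hN
    have := Fintype.ofFinite N
    have := Fintype.ofFinite (H ⧸ N)
    have h1 : Group.IsSolvable N := by
      refine ih (Nat.card N) (hn ▸ ?_) N rfl fun ψ => ?_
      · exact lt_of_le_of_ne (Subgroup.card_le_card_group N) fun h =>
          hNt (Subgroup.eq_top_of_card_eq N h)
      · obtain ⟨χ, hχ⟩ := exists_irr_over N ψ.2
        obtain ⟨e, he⟩ := classInner_char_nat (isCharacter_res N (isCharacter_of_isIrr χ.2))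
          (isCharacter_of_isIrr ψ.2)
        have hd := degree_eq_mul_card_orbit N χ.2 ψ hχ
        rw [he, ← coe_charDegree_irr χ, ← coe_charDegree_irr ψ] at hd
        have hd' : charDegree (χ : H → ℂ) = e * (orbit N ψ).card * charDegree (ψ : N → ℂ) := by
          exact_mod_cast hd
        have hdvd : charDegree (ψ : N → ℂ) ∣ charDegree (χ : H → ℂ) := ⟨_, hd'.trans (mul_comm _ _)⟩
        rcases hp χ with h | h
        · exact Or.inl (Nat.dvd_one.mp (h ▸ hdvd))
        · rcases (Nat.dvd_prime h).mp hdvd with h' | h'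
          · exact Or.inl h'
          · exact Or.inr (h' ▸ h)
    have h2 : Group.IsSolvable (H ⧸ N) := by
      refine ih (Nat.card (H ⧸ N)) (hn ▸ ?_) (H ⧸ N) rfl fun ψ => ?_
      · rw [← N.index_eq_card]
        have := N.index_mul_card
        have hc : 1 < Nat.card N := (Subgroup.one_lt_card_iff_ne_bot N).mpr hNb
        have : 0 < N.index := Nat.pos_of_ne_zero Subgroup.index_ne_zero_of_finite
        nlinarith
      · have : charDegree (ψ : H ⧸ N → ℂ) = charDegree ((inflEquiv N ψ).1 : H → ℂ) :=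
          (charDegree_eq (by rw [inflEquiv_apply, coe_charDegree_irr, QuotientGroup.mk_one])).symm
        rw [this]
        exact hp _
    exact solvable_of_ker_le_range N.subtype (QuotientGroup.mk' N)
      (by rw [QuotientGroup.ker_mk', Subgroup.range_subtype])
  · push Not at hN
    exfalso
    have : Nontrivial H := by
      by_contra h
      rw [not_nontrivial_iff_subsingleton] at h
      exact hab fun a b => Subsingleton.elim _ _
    have : IsSimpleGroup H :=
      { eq_bot_or_eq_top_of_normal := fun N hNn => or_iff_not_imp_left.mpr (hN N hNn) }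
    exact false_of_simple hab hp

theorem degrees_le_three (hp : ∀ d ∈ charDegrees G, d = 1 ∨ d.Prime) :
    ∃ a b : ℕ, charDegrees G ⊆ ({1, a, b} : Set ℕ) := by
  classical
  have : Group.IsSolvable G :=
    solvable_of_prime_degrees _ G rfl fun χ => hp _ ⟨χ, rfl⟩
  have hmul : ∀ (χ : IrrCharacter G) (a r : ℕ), r ≠ 1 → a * r ∣ charDegree (χ : G → ℂ) → a ≠ 1 →
      False := by
    intro χ a r hr hdvd ha
    rcases hp _ ⟨χ, rfl⟩ with h | h
    · exact ha (Nat.eq_one_of_mul_eq_one_right (Nat.dvd_one.mp (h ▸ hdvd)))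
    · rcases (Nat.dvd_prime h).mp (dvd_trans (dvd_mul_right a r) hdvd) with h' | h'
      · exact ha h'
      · rw [← h'] at hdvd
        have := Nat.le_of_dvd (h'.symm ▸ h.pos) hdvd
        rcases r with _ | _ | r
        · exact h.ne_zero (h' ▸ Nat.zero_dvd.mp (by simpa using hdvd))
        · exact hr rfl
        · have : 0 < a := h'.symm ▸ h.pos
          nlinarith
  by_cases hna : commutator G = ⊥
  · refine ⟨1, 1, fun d ⟨χ, hd⟩ => Or.inl ?_⟩
    have hc : ∀ a b : G, a * b = b * a := fun a b => by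
      have := Subgroup.commutator_mem_commutator (Subgroup.mem_top a) (Subgroup.mem_top b)
      rw [← commutator_def, hna, Subgroup.mem_bot, commutatorElement_eq_one_iff_mul_comm] at this
      exact this
    rw [← hd]
    exact charDegree_eq (by rw [irr_one_of_comm hc χ.2, Nat.cast_one])
  obtain ⟨N, K, q, hN, hK, hq, hNK, hGK, hnN, hKK, hpow, hcase⟩ := exists_split hna
  have := Fintype.ofFinite K
  rcases hcase with hQ | ⟨hKtop, hfree⟩
  · refine ⟨q, q, fun d ⟨χ, hd⟩ => ?_⟩
    subst hd
    simp only [Set.mem_insert_iff, Set.mem_singleton_iff]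
    rcases hp _ ⟨χ, rfl⟩ with h | h
    · exact Or.inl h
    by_cases hqd : q ∣ charDegree (χ : G → ℂ)
    · exact Or.inr (Or.inl ((Nat.prime_dvd_prime_iff_eq hq h).mp hqd).symm)
    · obtain ⟨φ, hφ⟩ := exists_degree_mul_of_qGroup hq hNK hGK hnN hKK hQ χ hqd
      exact (hmul φ _ q hq.ne_one hφ h.ne_one).elim
  · have hKN : ¬ K ≤ N := fun h => hnN (hGK.trans h)
    have hf : K.index ≠ 1 := fun h => hKtop (Subgroup.index_eq_one.mp h)
    refine ⟨K.index, q, fun d ⟨χ, hd⟩ => ?_⟩
    subst hd
    simp only [Set.mem_insert_iff, Set.mem_singleton_iff]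
    rcases hp _ ⟨χ, rfl⟩ with h | h
    · exact Or.inl h
    obtain ⟨ψ, hψ, h0⟩ := exists_constituent (isCharacter_res K (isCharacter_of_isIrr χ.2))
      (fun h => irr_one_ne_zero χ.2 (by simpa using congrFun h 1))
    obtain ⟨e, n, -, -, hd, -, hn⟩ := degree_abelian_quotient K hGK χ ⟨ψ, hψ⟩ h0
    by_cases hqψ : q ∣ charDegree ψ
    · exact Or.inr (Or.inr ((Nat.prime_dvd_prime_iff_eq hq h).mp
        (by rw [hd]; exact hqψ.mul_left _)).symm)
    obtain ⟨φ, hφ⟩ := exists_degree_mul_of_free hq hGK hKN hKK hpow hfree ⟨ψ, hψ⟩ hqψ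
    have hψ1 : charDegree ψ = 1 := by_contra fun hne => hmul φ _ _ hne hφ hf
    refine Or.inr (Or.inl ?_)
    have hdvd : charDegree (χ : G → ℂ) ∣ K.index :=
      ⟨n * e, by rw [mul_comm _ (n * e), hn, hψ1, mul_one]⟩
    obtain ⟨φ₁, hφ₁⟩ := exists_degree_mul_of_free hq hGK hKN hKK hpow hfree ⟨ψ, hψ⟩ hqψ
    rw [hψ1, mul_one] at hφ₁
    rcases hp _ ⟨φ₁, rfl⟩ with h' | h'
    · exact absurd (Nat.dvd_one.mp (h' ▸ hφ₁)) hf
    · have hfd := ((Nat.dvd_prime h').mp hφ₁).resolve_left hf
      exact (Nat.prime_dvd_prime_iff_eq h (hfd ▸ h')).mp hdvd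

end Aux

/-- If every irreducible complex character of the finite group G of degree greater than one has prime degree, then G has at most three distinct irreducible character degrees. -/
theorem result {G : Type*} [Group G] [Finite G] (hprime : ∀ d ∈ Cfsg.charDegrees G, d = 1 ∨ d.Prime) : Nat.card ↥(Cfsg.charDegrees G) ≤ 3 := by
  classical
  have := Fintype.ofFinite G
  obtain ⟨a, b, hab⟩ := degrees_le_three hprime
  rw [Nat.card_coe_set_eq]
  refine (Set.ncard_le_ncard hab (Set.toFinite _)).trans ?_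
  refine (Set.ncard_insert_le _ _).trans ?_
  have := Set.ncard_insert_le a ({b} : Set ℕ)
  rw [Set.ncard_singleton] at this
  omega

end Cfsg.Agent.S4813
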