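import Cfsg.Statements.S4814
import Cfsg.Agent.Lib.CharBlocks.Commutators
import Mathlib

set_option autoImplicit false
open Cfsg

namespace Cfsg.Agent.S4814

open CfsgLib.Char CfsgLib.CharBlocks

/-- Let G be a finite group such that the sum, over the irreducible complex characters χ of G, of 1/χ(1)² is less than 2. Then every element of G is a product of two commutators. -/
theorem result {G : Type*} [Group G] [Finite G]
    (h : ∑ᶠ χ : Cfsg.IrrCharacter G, 1 / ‖(χ : G → ℂ) 1‖ ^ 2 < (2 : ℝ)) (g : G) :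
    ∃ a b c d : G, (a * b * a⁻¹ * b⁻¹) * (c * d * c⁻¹ * d⁻¹) = g := by
  classical
  have := Fintype.ofFinite G
  by_contra hcon
  push Not at hcon
  rw [finsum_eq_sum_of_fintype] at h
  let F : G → ℕ := fun w => Nat.card {xy : G × G // xy.1 * xy.2 * xy.1⁻¹ * xy.2⁻¹ = w}
  have hzero : ∀ w : G, (F w : ℂ) * (F (w⁻¹ * g) : ℂ) = 0 := by
    intro w
    by_contra hne
    obtain ⟨h1, h2⟩ := mul_ne_zero_iff.mp hne
    have h1' : F w ≠ 0 := by exact_mod_cast h1
    have h2' : F (w⁻¹ * g) ≠ 0 := by exact_mod_cast h2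
    obtain ⟨⟨⟨a, b⟩, hab⟩⟩ := (Nat.card_ne_zero.mp h1').1
    obtain ⟨⟨⟨c, d⟩, hcd⟩⟩ := (Nat.card_ne_zero.mp h2').1
    exact hcon a b c d (by simp only at hab hcd; rw [hab, hcd, mul_inv_cancel_left])
  have hconv : ∑ w : G, (F w : ℂ) * (F (w⁻¹ * g) : ℂ) = (Nat.card G : ℂ) ^ 3 *
      ∑ χ : Cfsg.IrrCharacter G, (χ : G → ℂ) g / (χ : G → ℂ) 1 ^ 3 := by
    simp only [F, card_commutator_eq]
    calc ∑ w : G, ((Nat.card G : ℂ) * ∑ χ : Cfsg.IrrCharacter G, (χ : G → ℂ) w / (χ : G → ℂ) 1) *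
          ((Nat.card G : ℂ) * ∑ χ : Cfsg.IrrCharacter G, (χ : G → ℂ) (w⁻¹ * g) / (χ : G → ℂ) 1)
        = (Nat.card G : ℂ) ^ 2 * ∑ χ : Cfsg.IrrCharacter G, ∑ ψ : Cfsg.IrrCharacter G,
            (∑ w : G, (χ : G → ℂ) w * (ψ : G → ℂ) (w⁻¹ * g)) /
              ((χ : G → ℂ) 1 * (ψ : G → ℂ) 1) := by
          simp only [Finset.mul_sum, Finset.sum_mul, Finset.sum_div]
          rw [Finset.sum_comm]
          conv_rhs => rw [Finset.sum_comm]
          refine Finset.sum_congr rfl fun χ _ => ?_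
          rw [Finset.sum_comm]
          refine Finset.sum_congr rfl fun ψ _ => Finset.sum_congr rfl fun w _ => ?_
          ring
      _ = _ := by
          simp only [sum_mul_inv_mul, Finset.mul_sum]
          refine Finset.sum_congr rfl fun χ _ => ?_
          rw [Finset.sum_eq_single χ (fun ψ _ hne => by rw [if_neg hne.symm]; simp) (by simp),
            if_pos rfl]
          field_simp
  rw [Finset.sum_eq_zero (fun w _ => hzero w)] at hconv
  have hsum : (∑ χ : Cfsg.IrrCharacter G, (χ : G → ℂ) g / (χ : G → ℂ) 1 ^ 3).re = 0 := by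
    rw [(mul_eq_zero.mp hconv.symm).resolve_left (pow_ne_zero 3 card_ne_zero')]
    simp
  let one : Cfsg.IrrCharacter G := ⟨fun _ => 1, isIrrCharacter_one⟩
  rw [← Finset.add_sum_erase _ _ (Finset.mem_univ one)] at h hsum
  have hbound : ∀ χ : Cfsg.IrrCharacter G,
      -((χ : G → ℂ) g / (χ : G → ℂ) 1 ^ 3).re ≤ 1 / ‖(χ : G → ℂ) 1‖ ^ 2 := by
    intro χ
    refine (neg_le_abs _).trans ((Complex.abs_re_le_norm _).trans ?_)
    have h1 := norm_char_le (isCharacter_of_isIrr χ.2) g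
    have hre : ((χ : G → ℂ) 1).re = ‖(χ : G → ℂ) 1‖ := by
      obtain ⟨n, hn⟩ := exists_degree (isCharacter_of_isIrr χ.2)
      simp [hn]
    have hpos : 0 < ‖(χ : G → ℂ) 1‖ := norm_pos_iff.mpr (irr_one_ne_zero χ.2)
    rw [norm_div, norm_pow, div_le_div_iff₀ (pow_pos hpos 3) (pow_pos hpos 2)]
    calc ‖(χ : G → ℂ) g‖ * ‖(χ : G → ℂ) 1‖ ^ 2 ≤ ‖(χ : G → ℂ) 1‖ * ‖(χ : G → ℂ) 1‖ ^ 2 := by
          gcongr; rw [← hre]; exact h1
      _ = _ := by ring
  have hle := Finset.sum_le_sum (s := Finset.univ.erase one) (fun χ _ => hbound χ)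
  rw [Finset.sum_neg_distrib] at hle
  simp only [Complex.add_re, Complex.re_sum] at hsum
  have e1 : ((one : G → ℂ) g / (one : G → ℂ) 1 ^ 3).re = 1 := by simp [one]
  have e2 : 1 / ‖(one : G → ℂ) 1‖ ^ 2 = 1 := by simp [one]
  linarith

end Cfsg.Agent.S4814
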