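import Cfsg.Statements.S4825
import Cfsg.Agent.Lib.Blocks.SecondMain
import Cfsg.Agent.Lib.CharNormal.Clifford

set_option autoImplicit false
open Cfsg

namespace Cfsg.Agent.S4825

/-- Let p be a prime, G a finite group with Sylow p-subgroup P, M a maximal ideal of the algebraic integers containing p, and B a p-block of G with defect group P. Let N be a normal subgroup of G not containing P and θ an irreducible character of N. Then the number of irreducible characters in B of degree prime to p lying over θ (having θ as a constituent on restriction to N) is either 0 or at least 2, and when p ≤ 3 it is divisible by p. -/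
theorem result {G : Type*} [Group G] [Fintype G] (p : ℕ) [Fact p.Prime] (P : Sylow p G) (M : Ideal Cfsg.AlgInt) (hM : Cfsg.IsPModular p M) (B : Set (Cfsg.IrrCharacter G)) (hB : Cfsg.IsPBlock M B) (hBP : Cfsg.IsDefectGroup p M B P) (N : Subgroup G) [N.Normal] [Fintype N] (hPN : ¬ (P : Subgroup G) ≤ N) (θ : Cfsg.IrrCharacter N) :
    (Nat.card {χ : Cfsg.IrrCharacter G // χ ∈ B ∧ ¬ p ∣ Cfsg.charDegree (χ : G → ℂ) ∧ Cfsg.classInner (fun n : N => (χ : G → ℂ) n) (θ : N → ℂ) ≠ 0} = 0 ∨
      2 ≤ Nat.card {χ : Cfsg.IrrCharacter G // χ ∈ B ∧ ¬ p ∣ Cfsg.charDegree (χ : G → ℂ) ∧ Cfsg.classInner (fun n : N => (χ : G → ℂ) n) (θ : N → ℂ) ≠ 0}) ∧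
    (p ≤ 3 → p ∣ Nat.card {χ : Cfsg.IrrCharacter G // χ ∈ B ∧ ¬ p ∣ Cfsg.charDegree (χ : G → ℂ) ∧ Cfsg.classInner (fun n : N => (χ : G → ℂ) n) (θ : N → ℂ) ≠ 0}) := by
  classical
  have := hM.2.1
  let _ := Fintype.ofFinite (P : Subgroup G)
  obtain ⟨x, hxP, hxN⟩ := SetLike.not_le_iff_exists.mp hPN
  have hxp : ∃ k : ℕ, orderOf x = p ^ k := by
    obtain ⟨k, hk⟩ := IsPGroup.iff_orderOf.mp P.isPGroup' ⟨x, hxP⟩
    exact ⟨k, by rwa [Subgroup.orderOf_mk] at hk⟩
  -- the block part of `θ^G` vanishes on the section of `x`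
  have hvan : blockPart B (indFun N (θ : N → ℂ)) x = 0 := by
    refine CfsgLib.Blocks.blockPart_eq_zero_on_section (x := x) hM (fun u z hu hz => ?_) hB
      (CfsgLib.Blocks.isPPart_self Fact.out hxp) (IsConj.refl x)
    refine CfsgLib.Char.indFun_eq_zero_of_forall N fun w hw => absurd ?_ hxN
    have huN : u ∈ N := by simpa [mul_assoc] using (inferInstance : N.Normal).conj_mem _ hw w
    have hzN : z ∈ N := (Subgroup.zpowers_le.mpr huN) (CfsgLib.Blocks.isPPart_mem_zpowers hu)
    obtain ⟨c, hc⟩ := isConj_iff.mp hz.symm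
    exact hc ▸ (inferInstance : N.Normal).conj_mem _ hzN c
  have hn : ∀ χ : IrrCharacter G, ∃ n : ℕ,
      classInner (fun n : N => (χ : G → ℂ) n) (θ : N → ℂ) = n := fun χ =>
    CfsgLib.Char.classInner_char_nat
      (CfsgLib.Char.isCharacter_res N (CfsgLib.Char.isCharacter_of_isIrr χ.2))
      (CfsgLib.Char.isCharacter_of_isIrr θ.2)
  choose n hn using hn
  have hsum : ∑ χ : IrrCharacter G,
      (if χ ∈ B then ((n χ * charDegree (χ : G → ℂ) : ℕ) : CfsgLib.Blocks.Res M) else 0) = 0 := by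
    obtain ⟨k, hk⟩ := hxp
    have hcv : ∀ χ : IrrCharacter G, CfsgLib.Blocks.cval M χ x =
        (charDegree (χ : G → ℂ) : CfsgLib.Blocks.Res M) := by
      intro χ
      have h := CfsgLib.Blocks.cval_mul hM χ (Commute.one_right x) (k := k)
        (by rw [← hk, pow_orderOf_eq_one])
      rw [mul_one] at h
      rw [h, ← map_natCast (CfsgLib.Blocks.res M)]
      exact congrArg (CfsgLib.Blocks.res M) (Subtype.ext
        (CfsgLib.Blocks.charDegree_eq (CfsgLib.Char.isCharacter_of_isIrr χ.2)))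
    let a : IrrCharacter G → CfsgLib.Blocks.locRing M := fun χ => if χ ∈ B then
      (n χ : CfsgLib.Blocks.locRing M) * CfsgLib.Blocks.cvalR M (CfsgLib.Char.isCharacter_of_isIrr χ.2) x
      else 0
    have ha : ∑ χ, a χ = 0 := by
      refine Subtype.ext (Eq.trans ?_ hvan)
      rw [AddSubmonoidClass.coe_finsetSum, CfsgLib.Blocks.blockPart_apply]
      refine Finset.sum_congr rfl fun χ _ => ?_
      simp only [a]
      split_ifs with h
      · rw [CfsgLib.Char.frobenius_reciprocity N _ (CfsgLib.Char.isClassFunction_of_isIrr χ.2),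
          ← CfsgLib.Char.classInner_conj_symm, hn, map_natCast, Subring.coe_mul,
          SubringClass.coe_natCast]
        rfl
      · rfl
    have := congrArg (CfsgLib.Blocks.res M) ha
    rw [map_sum, map_zero] at this
    refine Eq.trans (Finset.sum_congr rfl fun χ _ => ?_) this
    simp only [a]
    split_ifs
    · rw [map_mul, map_natCast, Nat.cast_mul, ← hcv χ]
      rfl
    · rw [map_zero]
  set S : Finset (IrrCharacter G) := Finset.univ.filter fun χ => χ ∈ B ∧
    ¬ p ∣ charDegree (χ : G → ℂ) ∧ classInner (fun n : N => (χ : G → ℂ) n) (θ : N → ℂ) ≠ 0 with hS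
  rw [show Nat.card {χ : IrrCharacter G // χ ∈ B ∧ ¬ p ∣ charDegree (χ : G → ℂ) ∧
    classInner (fun n : N => (χ : G → ℂ) n) (θ : N → ℂ) ≠ 0} = S.card by
      rw [Nat.card_eq_fintype_card, Fintype.card_subtype]]
  set K : ℕ := (CfsgLib.CharNormal.orbit N θ).card * charDegree (θ : N → ℂ) with hK
  have hdeg : ∀ χ ∈ S, charDegree (χ : G → ℂ) = n χ * K := by
    intro χ hχ
    have h := CfsgLib.CharNormal.degree_eq_mul_card_orbit N χ.2 θ (Finset.mem_filter.mp hχ).2.2.2
    rw [hn, CfsgLib.Blocks.charDegree_eq (CfsgLib.Char.isCharacter_of_isIrr χ.2),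
      CfsgLib.Blocks.charDegree_eq (CfsgLib.Char.isCharacter_of_isIrr θ.2)] at h
    rw [hK, ← mul_assoc]
    exact_mod_cast h
  have hsumS : ((∑ χ ∈ S, n χ * n χ * K : ℕ) : CfsgLib.Blocks.Res M) = 0 := by
    rw [Nat.cast_sum, ← hsum]
    refine Eq.trans ?_ (Finset.sum_subset (Finset.subset_univ S) fun χ _ hχ => ?_)
    · refine Finset.sum_congr rfl fun χ hχ => ?_
      rw [if_pos (Finset.mem_filter.mp hχ).2.1, hdeg χ hχ, mul_assoc]
    · split_ifs with hB'
      · by_cases hd : p ∣ charDegree (χ : G → ℂ)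
        · rw [← map_natCast (CfsgLib.Blocks.res M),
            (CfsgLib.Blocks.res_natCast_eq_zero_iff M hM _).mpr (dvd_mul_of_dvd_right hd _)]
        · have h0 : classInner (fun n : N => (χ : G → ℂ) n) (θ : N → ℂ) = 0 := by
            by_contra h0
            exact hχ (Finset.mem_filter.mpr ⟨Finset.mem_univ _, hB', hd, h0⟩)
          rw [hn, Nat.cast_eq_zero] at h0
          simp [h0]
      · rfl
  have hdvd : p ∣ ∑ χ ∈ S, n χ * n χ * K := by
    rw [← CfsgLib.Blocks.res_natCast_eq_zero_iff M hM, map_natCast]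
    exact hsumS
  have hunit : ∀ χ ∈ S, ¬ p ∣ n χ ∧ ¬ p ∣ K := fun χ hχ =>
    ⟨fun h => (Finset.mem_filter.mp hχ).2.2.1 (hdeg χ hχ ▸ dvd_mul_of_dvd_left h K),
      fun h => (Finset.mem_filter.mp hχ).2.2.1 (hdeg χ hχ ▸ dvd_mul_of_dvd_right h _)⟩
  refine ⟨?_, fun hp3 => ?_⟩
  · by_contra hc
    push Not at hc
    obtain ⟨χ, hχ⟩ := Finset.card_eq_one.mp (show S.card = 1 by omega)
    rw [hχ, Finset.sum_singleton] at hdvd
    obtain ⟨h1, h2⟩ := hunit χ (by rw [hχ]; exact Finset.mem_singleton_self χ)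
    exact (Fact.out : p.Prime).not_dvd_mul ((Fact.out : p.Prime).not_dvd_mul h1 h1) h2 hdvd
  · rcases S.eq_empty_or_nonempty with h | ⟨χ₀, hχ₀⟩
    · simp [h]
    have hsq : ∀ m : ℕ, ¬ p ∣ m → m * m ≡ 1 [MOD p] := by
      intro m hm
      rw [Nat.ModEq, Nat.mul_mod]
      have h0 : m % p ≠ 0 := fun h => hm (Nat.dvd_of_mod_eq_zero h)
      have hlt := Nat.mod_lt m (Fact.out : p.Prime).pos
      have h2 := (Fact.out : p.Prime).two_le
      obtain rfl | rfl : p = 2 ∨ p = 3 := by omega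
      · rw [show m % 2 = 1 by omega]
      · obtain h | h : m % 3 = 1 ∨ m % 3 = 2 := by omega
        · rw [h]
        · rw [h]
    have hmod : (∑ χ ∈ S, n χ * n χ * K) ≡ S.card * K [MOD p] := by
      rw [← smul_eq_mul S.card K, ← Finset.sum_const]
      refine Nat.ModEq.sum fun χ hχ => ?_
      have := (hsq _ (hunit χ hχ).1).mul_right K
      rwa [one_mul] at this
    have := (Nat.ModEq.dvd_iff hmod dvd_rfl).mp hdvd
    exact ((Fact.out : p.Prime).dvd_mul.mp this).resolve_right (hunit χ₀ hχ₀).2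

end Cfsg.Agent.S4825
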