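import Cfsg.Statements.S4828
import Cfsg.Agent.Lib.BrauerPairs.Weight
import Cfsg.Agent.Lib.BrauerPairs.Correspondence
import Cfsg.Agent.Lib.BrauerPairs.Fusion
import Cfsg.Agent.Lib.BrauerPairs.Stable

set_option autoImplicit false
open Cfsg

namespace Cfsg.Agent.S4828


open CfsgLib.BrauerPairs CfsgLib.Blocks

variable {M : Ideal AlgInt} [M.IsMaximal] {G : Type*} [Group G] [Fintype G] {p : ℕ} [hp : Fact p.Prime]

/-- The Brauer map at `Q ⊔ R` does not kill an idempotent of `C(Q)` surviving at `R`. -/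
theorem br_sup_ne_zero {Q R : Subgroup G} {f : Set (IrrCharacter (Cen Q))}
    (hne : br R (gidem M (Cen Q) f) ≠ 0) : br (Q ⊔ R) (gidem M (Cen Q) f) ≠ 0 := by
  intro h0
  apply hne
  refine ext_coeff fun g => ?_
  have h2 := congrArg (fun z => z.coeff g) h0
  simp only [coeff_br] at h2 ⊢
  split_ifs with hgR
  · by_cases hgQ : g ∈ Cen Q
    · rw [if_pos] at h2
      · exact h2
      · refine Subgroup.mem_centralizer_iff.mpr fun y hy => ?_
        exact Subgroup.mem_centralizer_singleton_iff.mp ((sup_le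
          (fun z hz => Subgroup.mem_centralizer_singleton_iff.mpr
            (Subgroup.mem_centralizer_iff.mp hgQ z hz))
          (fun z hz => Subgroup.mem_centralizer_singleton_iff.mpr
            (Subgroup.mem_centralizer_iff.mp hgR z hz)) :
            Q ⊔ R ≤ Subgroup.centralizer ({g} : Set G)) hy)
    · simpa using (centralIn_gidem f).1 g hgQ
  · simp

/-- No pair strictly above: the stabiliser block has defect group `Q`, the block of the centraliser `Z(Q)`. -/
theorem forward (hM : IsPModular p M) {Q : Subgroup G} {e : Set (IrrCharacter (Cen Q))}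
    (he : IsBrauerPair p M Q e)
    (hstep : ∀ b : BrauerPairIdx G, NormalSubpairRel p M ⟨Q, e⟩ b → b.1 = Q) :
    IsDefectGroup p M e (Q.subgroupOf (Cen Q)) ∧
      ∀ g ∈ stab M Q e, (∃ k : ℕ, orderOf g = p ^ k) → g ∈ Q ⊔ Cen Q := by
  classical
  have := Fintype.ofFinite (Cen Q)
  have hQC : Q.subgroupOf (Cen Q) ≤ Subgroup.center (Cen Q) := fun z hz =>
    Subgroup.mem_center_iff.mpr fun c => Subtype.ext (Subgroup.mem_centralizer_iff.mp c.2 _
      (Subgroup.mem_subgroupOf.mp hz)).symm
  constructor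
  · obtain ⟨D, hD⟩ := exists_isDefectGroup (p := p) he.2
    have hDp : IsPGroup p (D.map (Cen Q).subtype) := (IsDefectGroup.isPGroup hD).map _
    have hDC : D.map (Cen Q).subtype ≤ Cen Q := Subgroup.map_subtype_le D
    obtain ⟨g, hg⟩ := exists_pair_above hM he
      (he.1.to_sup_of_normal_left' hDp (hDC.trans (Subgroup.centralizer_le_normalizer _))) le_sup_left
      (sup_le Subgroup.le_normalizer (hDC.trans (Subgroup.centralizer_le_normalizer _)))
      (isFixed_iff_le_fixer.mpr (sup_le ((le_stab e).trans inf_le_right)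
        (hDC.trans ((cen_le_stab e).trans inf_le_right))))
      (br_sup_ne_zero (br_ne_zero_of_defect he.2 hD))
    have hS : Q ⊔ D.map (Cen Q).subtype = Q := hstep ⟨_, g⟩ hg
    have hle : D ≤ Q.subgroupOf (Cen Q) := fun d hd =>
      Subgroup.mem_subgroupOf.mpr (hS.le (le_sup_right (a := Q) ⟨d, hd, rfl⟩))
    have : (Q.subgroupOf (Cen Q)).Normal := ⟨fun z hz c => by
      rwa [Subgroup.mem_center_iff.mp (hQC hz) c, mul_inv_cancel_right]⟩
    have hge : Q.subgroupOf (Cen Q) ≤ D := normal_le_defect hM he.2 hD (he.1.comap_subtype)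
    rwa [le_antisymm hge hle]
  · intro x hx hxp
    obtain ⟨F, hF, hgF, -⟩ := exists_stable_block hM he.1 he.2 (le_stab e) (cen_le_stab e)
      inf_le_left (fun y hy => hy.2)
    have := Fintype.ofFinite (stab M Q e)
    obtain ⟨D, hD⟩ := exists_isDefectGroup (p := p) hF
    have hQn : (Q.subgroupOf (stab M Q e)).Normal :=
      (Subgroup.normal_subgroupOf_iff_le_normalizer (le_stab e)).mpr inf_le_left
    have hQD : Q.subgroupOf (stab M Q e) ≤ D := normal_le_defect hM hF hD he.1.comap_subtype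
    have hQD' : Q ≤ D.map (stab M Q e).subtype := fun q hq =>
      ⟨⟨q, le_stab e hq⟩, hQD hq, rfl⟩
    obtain ⟨g, hg⟩ := exists_pair_above hM he ((IsDefectGroup.isPGroup hD).map _) hQD'
      ((Subgroup.map_subtype_le D).trans inf_le_left)
      (isFixed_iff_le_fixer.mpr ((Subgroup.map_subtype_le D).trans inf_le_right))
      (by rw [← hgF]; exact br_ne_zero_of_defect hF hD)
    have hS : D.map (stab M Q e).subtype = Q := hstep ⟨_, g⟩ hg
    have h1 := not_dvd_index_stable hM (cen_le_stab e) inf_le_left he.2 (fun y hy => hy.2) hF hgF hD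
    have hKn : ((Cen Q).subgroupOf (stab M Q e)).Normal :=
      (Subgroup.normal_subgroupOf_iff_le_normalizer (cen_le_stab e)).mpr fun t ht =>
        mem_normalizer_centralizer ht.1
    have hDn : D.Normal := by
      rw [show D = Q.subgroupOf (stab M Q e) from le_antisymm (fun d hd =>
        Subgroup.mem_subgroupOf.mpr (hS.le ⟨d, hd, rfl⟩)) hQD]
      exact hQn
    have := Subgroup.sup_normal ((Cen Q).subgroupOf (stab M Q e)) D
    obtain ⟨k, hk⟩ := hxp
    have h3 : (QuotientGroup.mk ⟨x, hx⟩ : stab M Q e ⧸ (Cen Q).subgroupOf (stab M Q e) ⊔ D) = 1 := by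
      rw [← orderOf_eq_one_iff]
      have h4 : orderOf (QuotientGroup.mk ⟨x, hx⟩ :
          stab M Q e ⧸ (Cen Q).subgroupOf (stab M Q e) ⊔ D) ∣ p ^ k := by
        rw [← hk, ← Subgroup.orderOf_mk x hx]
        exact orderOf_map_dvd (QuotientGroup.mk' _) _
      exact Nat.eq_one_of_dvd_coprimes ((hp.out.coprime_iff_not_dvd.mpr h1).pow_left k) h4
        (orderOf_dvd_natCard _)
    rw [QuotientGroup.eq_one_iff] at h3
    have h5 : x ∈ ((Cen Q).subgroupOf (stab M Q e) ⊔ D).map (stab M Q e).subtype := ⟨_, h3, rfl⟩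
    rw [Subgroup.map_sup, hS, Subgroup.map_subgroupOf_eq_of_le (cen_le_stab e), sup_comm] at h5
    exact h5

/-- The converse: no step is possible. -/
theorem backward (hM : IsPModular p M) {Q : Subgroup G} {e : Set (IrrCharacter (Cen Q))}
    (he : IsBrauerPair p M Q e) (hD : IsDefectGroup p M e (Q.subgroupOf (Cen Q)))
    (hst : ∀ g ∈ stab M Q e, (∃ k : ℕ, orderOf g = p ^ k) → g ∈ Q ⊔ Cen Q)
    {b : BrauerPairIdx G} (hb : NormalSubpairRel p M ⟨Q, e⟩ b) : b.1 = Q := by
  classical
  obtain ⟨S, g⟩ := b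
  obtain ⟨-, ⟨hSp, hg⟩, hQS, hSN, hfix, hocc⟩ := (normalSubpair_iff hM).mp hb
  dsimp at hSp hg hQS hSN hfix hocc ⊢
  have hne : br S (gidem M (Cen Q) e) ≠ 0 := fun h0 => gidem_ne_zero hg (by rw [← hocc, h0, zero_mul])
  have h1 : Q ⊓ Cen Q ≤ S ⊓ Cen Q := inf_le_inf_right _ hQS
  have h2 := card_le_defect hM he.2 (hSp.to_le (inf_le_left : S ⊓ Cen Q ≤ S)) inf_le_right
    (br_ne_zero_mono inf_le_left hne) hD
  rw [← Subgroup.inf_subgroupOf_right,
    card_subgroupOf' (inf_le_right : Q ⊓ Cen Q ≤ Cen Q)] at h2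
  have h3 : Q ⊓ Cen Q = S ⊓ Cen Q := Subgroup.eq_of_le_of_card_ge h1 h2
  refine le_antisymm (fun s hs => ?_) hQS
  obtain ⟨k, hk⟩ := IsPGroup.iff_orderOf.mp hSp ⟨s, hs⟩
  rw [Subgroup.orderOf_mk] at hk
  have h4 := hst s ⟨hSN hs, hfix s hs⟩ ⟨k, hk⟩
  rw [← SetLike.mem_coe, Subgroup.coe_mul_of_left_le_normalizer_right _ _
    (fun q hq => mem_normalizer_centralizer (Subgroup.le_normalizer hq))] at h4
  obtain ⟨q, hq, c, hc, rfl⟩ := Set.mem_mul.mp h4
  have hcS : c ∈ S ⊓ Cen Q := ⟨by simpa using S.mul_mem (S.inv_mem (hQS hq)) hs, hc⟩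
  rw [← h3] at hcS
  exact Q.mul_mem hq hcS.1
/-- Let p be a prime, M a maximal ideal of the algebraic integers containing p, and (Q, e) a Brauer pair of the finite group G (Q a p-subgroup, e a block of C_G(Q)). Then (Q, e) is a maximal Brauer pair of some block of G if and only if e contains an irreducible character θ such that θ takes the value θ(1) at every element of Z(Q) = Q ∩ C_G(Q), the p-part of θ(1) times the p-part of the order of Z(Q) equals the p-part of the order of C_G(Q) (θ has defect zero as a character of C_G(Q)/Z(Q)), and every element of N_G(Q) of p-power order that stabilizes e lies in Q·C_G(Q) (the stabilizer of e in N_G(Q) has index prime to p over Q·C_G(Q)). -/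
theorem result {G : Type*} [Group G] [Finite G] (p : ℕ) [Fact p.Prime] (M : Ideal Cfsg.AlgInt) (hM : Cfsg.IsPModular p M) (Q : Subgroup G) (e : Set (Cfsg.IrrCharacter (Subgroup.centralizer (Q : Set G)))) (he : Cfsg.IsBrauerPair p M Q e) :
    (∃ B : Set (Cfsg.IrrCharacter G), Cfsg.IsMaximalBrauerPair p M B Q e) ↔
      ∃ θ ∈ e, (∀ z : Subgroup.centralizer (Q : Set G), (z : G) ∈ Q → (θ : Subgroup.centralizer (Q : Set G) → ℂ) z = (θ : Subgroup.centralizer (Q : Set G) → ℂ) 1) ∧
        (Cfsg.charDegree (θ : Subgroup.centralizer (Q : Set G) → ℂ)).factorization p + (Nat.card ↥(Q ⊓ Subgroup.centralizer (Q : Set G))).factorization p = (Nat.card (Subgroup.centralizer (Q : Set G))).factorization p ∧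
        (∀ g : G, g ∈ Subgroup.normalizer (Q : Set G) → Cfsg.StabilizesBlock (Subgroup.centralizer (Q : Set G)) e g → (∃ k : ℕ, orderOf g = p ^ k) → g ∈ Q ⊔ Subgroup.centralizer (Q : Set G)) := by

  classical
  have : M.IsMaximal := hM.2.1
  have := Fintype.ofFinite G
  have := Fintype.ofFinite (Subgroup.centralizer (Q : Set G))
  have hQC : Q.subgroupOf (Subgroup.centralizer (Q : Set G)) ≤
      Subgroup.center (Subgroup.centralizer (Q : Set G)) := fun z hz =>
    Subgroup.mem_center_iff.mpr fun c => Subtype.ext (Subgroup.mem_centralizer_iff.mp c.2 _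
      (Subgroup.mem_subgroupOf.mp hz)).symm
  have hcard : (Nat.card ↥(Q ⊓ Subgroup.centralizer (Q : Set G))).factorization p +
      (Q.subgroupOf (Subgroup.centralizer (Q : Set G))).index.factorization p =
      (Nat.card (Subgroup.centralizer (Q : Set G))).factorization p := by
    rw [← Subgroup.card_mul_index (Q.subgroupOf (Subgroup.centralizer (Q : Set G))),
      Nat.factorization_mul Nat.card_pos.ne' Subgroup.index_ne_zero_of_finite, Finsupp.add_apply,
      ← Subgroup.inf_subgroupOf_right,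
      CfsgLib.BrauerPairs.card_subgroupOf' (inf_le_right :
        Q ⊓ Subgroup.centralizer (Q : Set G) ≤ Subgroup.centralizer (Q : Set G))]
  constructor
  · rintro ⟨B, hB⟩
    obtain ⟨hD, hst⟩ := forward hM he ((CfsgLib.BrauerPairs.maximal_iff_no_step hM hB.1).mp hB)
    obtain ⟨⟨θ, ⟨hθ, hker⟩, -⟩, hdeg, -⟩ := CfsgLib.Blocks.central_product_block hM
      (he.1.comap_subtype : IsPGroup p (Q.subgroupOf (Subgroup.centralizer (Q : Set G))))
      (by
        rw [eq_top_iff]
        intro c _
        refine Subgroup.mem_sup_right (Subgroup.mem_centralizer_iff.mpr fun z hz => ?_)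
        exact (Subgroup.mem_center_iff.mp (hQC hz) c).symm) he.2 hD
    refine ⟨θ, hθ, fun z hz => hker z hz, ?_, fun g hgn hgs hgp =>
      hst g ((CfsgLib.BrauerPairs.mem_stab_iff he.2).mpr ⟨hgn, hgs⟩) hgp⟩
    have h : _ = (Q.subgroupOf (Subgroup.centralizer (Q : Set G))).index.factorization p :=
      hdeg θ hθ hker
    omega
  · rintro ⟨θ, hθ, hker, hdeg, hst⟩
    obtain ⟨B, hB, -⟩ := CfsgLib.BrauerPairs.existsUnique_block hM he
    have hle : (Q.subgroupOf (Subgroup.centralizer (Q : Set G))).index.factorization p ≤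
        (charDegree (θ : Subgroup.centralizer (Q : Set G) → ℂ)).factorization p := by omega
    have hD := CfsgLib.Weight.isDefectGroup_of_central hM
      (he.1.comap_subtype : IsPGroup p (Q.subgroupOf (Subgroup.centralizer (Q : Set G)))) hQC he.2 hθ
      (fun z hz => hker z hz) hle
    refine ⟨B, (CfsgLib.BrauerPairs.maximal_iff_no_step hM hB).mpr fun b hb =>
      backward hM he hD (fun g hg hgp => ?_) hb⟩
    obtain ⟨hgn, hgs⟩ := (CfsgLib.BrauerPairs.mem_stab_iff he.2).mp hg
    exact hst g hgn hgs hgp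

end Cfsg.Agent.S4828
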