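import Cfsg.Statements.S4838
import Cfsg.Agent.Lib.CharBlocks.TwoClassStruct

set_option autoImplicit false
open Cfsg

namespace Cfsg.Agent.S4838

open CfsgLib.Char CfsgLib.CharNormal CfsgLib.CharBlocks

theorem comm_mem_upperCentralSeries {P : Type*} [Group P] {k : ℕ} {z : P}
    (hz : z ∈ Subgroup.upperCentralSeries P (k + 1)) (g : P) :
    z * g * z⁻¹ * g⁻¹ ∈ Subgroup.upperCentralSeries P k :=
  Subgroup.mem_upperCentralSeries_succ_iff.mp hz g

/-- Let G be a finite group of order greater than 2 with an irreducible character χ nonzero on exactly two conjugacy classes, N the normal p-subgroup of elements where χ is nonzero, and P a Sylow p-subgroup of G. Then (a) for every x outside N the centralizer of x in G has the same order as the centralizer of xN in G/N; (b) the centre of P lies in N, and equals N exactly when P is normal in G; (c) N, viewed inside P, is a term of the upper central series of P. -/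
theorem result {G : Type*} [Group G] [Finite G] (hG : 2 < Nat.card G) (χ : Cfsg.IrrCharacter G) (hχ : Nat.card {C : ConjClasses G // ∃ g ∈ C.carrier, (χ : G → ℂ) g ≠ 0} = 2) (p : ℕ) [Fact p.Prime] (N : Subgroup G) [N.Normal] (hN : ∀ g : G, g ∈ N ↔ (χ : G → ℂ) g ≠ 0) (hNp : IsPGroup p N) (hN1 : N ≠ ⊥) (P : Sylow p G) :
    (∀ x : G, x ∉ N → Nat.card (Subgroup.centralizer ({x} : Set G)) = Nat.card (Subgroup.centralizer ({(x : G ⧸ N)} : Set (G ⧸ N)))) ∧
      ((Subgroup.center ↥(P : Subgroup G)).map (P : Subgroup G).subtype ≤ N ∧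
        ((Subgroup.center ↥(P : Subgroup G)).map (P : Subgroup G).subtype = N ↔ (P : Subgroup G).Normal)) ∧
      (∃ i : ℕ, Subgroup.upperCentralSeries ↥(P : Subgroup G) i = N.subgroupOf (P : Subgroup G)) := by
  classical
  have := Fintype.ofFinite G
  have := Fintype.ofFinite (G ⧸ N)
  have := Fintype.ofFinite N
  obtain ⟨hcent, -⟩ := TwoClass.exists_sylow hG hχ hN hN1 hNp
  have hx : ∀ x : G, x ∉ N → Nat.card (Subgroup.centralizer ({x} : Set G)) =
      Nat.card (Subgroup.centralizer ({(x : G ⧸ N)} : Set (G ⧸ N))) := by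
    intro x hxN
    have h0 : (χ : G → ℂ) x = 0 := not_ne_iff.mp fun h => hxN ((hN x).mpr h)
    have h1 := second_orthogonality x x
    have h2 := second_orthogonality (x : G ⧸ N) (x : G ⧸ N)
    rw [if_pos (IsConj.refl _), ← Finset.add_sum_erase _ _ (Finset.mem_univ χ), h0, zero_mul,
      zero_add] at h1
    rw [if_pos (IsConj.refl _)] at h2
    have h3 : ∀ ψ : Cfsg.IrrCharacter G,
        ψ ∈ Finset.univ.erase χ ↔ ∀ n ∈ N, (ψ : G → ℂ) n = (ψ : G → ℂ) 1 := by
      intro ψ
      rw [Finset.mem_erase, and_iff_left (Finset.mem_univ ψ)]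
      refine ⟨fun h n hn => TwoClass.apply_eq_degree hG hχ h ((hN n).mp hn), fun h he => ?_⟩
      subst he
      exact hN1 ((Subgroup.eq_bot_iff_forall N).mpr fun n hn => TwoClass.faithful hG hχ (h n hn))
    rw [Finset.sum_subtype _ h3, ← Equiv.sum_comp (inflEquiv N)] at h1
    simp only [inflEquiv_apply] at h1
    exact_mod_cast h1.symm.trans h2
  have hNP : N ≤ (P : Subgroup G) := hNp.le_sylow_of_normal P
  set Z := (Subgroup.center ↥(P : Subgroup G)).map (P : Subgroup G).subtype with hZ
  have hZN : Z ≤ N := by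
    intro z hz
    by_contra hzN
    obtain ⟨z', hz', rfl⟩ := Subgroup.mem_map.mp hz
    have hle : (P : Subgroup G) ≤ Subgroup.centralizer ({(z' : G)} : Set G) := fun g hg =>
      Subgroup.mem_centralizer_singleton_iff.mpr
        (congrArg Subtype.val (Subgroup.mem_center_iff.mp hz' ⟨g, hg⟩))
    have h1 := (Subgroup.card_dvd_of_le hle).trans (dvd_of_eq (hx _ hzN))
    have h2 := h1.trans (Subgroup.card_subgroup_dvd_card _)
    refine hN1 (Subgroup.card_eq_one.mp ?_)
    have h3 : Nat.card (P : Subgroup G) * Nat.card N ∣ Nat.card G := by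
      rw [← N.index_mul_card]
      exact mul_dvd_mul_right (by rwa [Subgroup.index]) _
    obtain ⟨j, hj⟩ := IsPGroup.iff_card.mp hNp
    rw [hj, P.card_eq_multiplicity, ← pow_add,
      (Fact.out : p.Prime).pow_dvd_iff_le_factorization Nat.card_pos.ne'] at h3
    rw [hj, show j = 0 by omega, pow_zero]
  refine ⟨hx, ⟨hZN, ⟨fun hZeq => ?_, fun hPn => ?_⟩⟩, ?_⟩
  · have hP : ∀ x ∈ N, x ≠ 1 → Subgroup.centralizer ({x} : Set G) = (P : Subgroup G) := by
      intro x hxN hx1
      obtain ⟨Q, hQ⟩ := hcent x hxN hx1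
      have hle : (P : Subgroup G) ≤ Q := by
        rw [← hQ]
        intro g hg
        rw [← hZeq] at hxN
        obtain ⟨x', hx', rfl⟩ := Subgroup.mem_map.mp hxN
        exact Subgroup.mem_centralizer_singleton_iff.mpr
          (congrArg Subtype.val (Subgroup.mem_center_iff.mp hx' ⟨g, hg⟩))
      rw [hQ]
      exact P.3 Q.2 hle
    obtain ⟨x, hxN, hx1⟩ := Subgroup.bot_or_exists_ne_one N |>.resolve_left hN1
    refine ⟨fun h hh g => ?_⟩
    have h1 : g⁻¹ * x * g ∈ N := by
      simpa using (inferInstance : N.Normal).conj_mem x hxN g⁻¹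
    have h2 : g⁻¹ * x * g ≠ 1 := fun he => hx1 (by
      have := congrArg (fun t => g * t * g⁻¹) he
      simpa [mul_assoc] using this)
    rw [← hP _ h1 h2, Subgroup.mem_centralizer_singleton_iff] at hh
    rw [← hP x hxN hx1, Subgroup.mem_centralizer_singleton_iff]
    calc g * h * g⁻¹ * x = g * (h * (g⁻¹ * x * g)) * g⁻¹ := by group
      _ = g * ((g⁻¹ * x * g) * h) * g⁻¹ := by rw [hh]
      _ = x * (g * h * g⁻¹) := by group
  · haveI := hPn
    refine le_antisymm hZN fun n hn => TwoClass.supp_mem_of_normal hG hχ Z ?_ ((hN n).mp hn)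
    rw [hZ, Ne, Subgroup.map_eq_bot_iff_of_injective _ (P : Subgroup G).subtype_injective,
      ← Ne, ← Subgroup.nontrivial_iff_ne_bot]
    have : Nontrivial (P : Subgroup G) := (Subgroup.nontrivial_iff_ne_bot _).mpr fun h =>
      hN1 (le_bot_iff.mp (h ▸ hNP))
    exact P.2.center_nontrivial
  · have : Group.IsNilpotent ↥(P : Subgroup G) := P.2.isNilpotent
    obtain ⟨c, hc⟩ := Group.IsNilpotent.nilpotent ↥(P : Subgroup G)
    by_cases hall : ∀ i, Subgroup.upperCentralSeries ↥(P : Subgroup G) i ≤ N.subgroupOf (P : Subgroup G)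
    · exact ⟨c, le_antisymm (hall c) (by rw [hc]; exact le_top)⟩
    push Not at hall
    obtain ⟨k, hk⟩ : ∃ k, Nat.find hall = k + 1 :=
      ⟨Nat.find hall - 1, by
        have : Nat.find hall ≠ 0 := fun h => Nat.find_spec hall (by rw [h]; simp)
        omega⟩
    have hk1 : Subgroup.upperCentralSeries ↥(P : Subgroup G) k ≤ N.subgroupOf (P : Subgroup G) :=
      not_not.mp (Nat.find_min hall (by omega))
    obtain ⟨z, hz, hzN⟩ := SetLike.not_le_iff_exists.mp (Nat.find_spec hall)
    rw [hk] at hz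
    have hzN' : (z : G) ∉ N := fun h => hzN (Subgroup.mem_subgroupOf.mpr h)
    refine ⟨k, ?_⟩
    have hinj : ∃ f : ↥(P : Subgroup G) ⧸ Subgroup.centralizer ({z} : Set ↥(P : Subgroup G)) →
        Subgroup.upperCentralSeries ↥(P : Subgroup G) k, Function.Injective f := by
      refine ⟨fun q => ⟨_, comm_mem_upperCentralSeries hz q.out⟩, fun a b h => ?_⟩
      have h' : z * a.out * z⁻¹ * a.out⁻¹ = z * b.out * z⁻¹ * b.out⁻¹ := congrArg Subtype.val h
      rw [← QuotientGroup.out_eq' a, ← QuotientGroup.out_eq' b, QuotientGroup.eq,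
        Subgroup.mem_centralizer_singleton_iff]
      have h2 : a.out * z⁻¹ * a.out⁻¹ = b.out * z⁻¹ * b.out⁻¹ := by
        simpa [mul_assoc] using h'
      calc a.out⁻¹ * b.out * z = a.out⁻¹ * (b.out * z⁻¹ * b.out⁻¹)⁻¹ * b.out := by group
        _ = a.out⁻¹ * (a.out * z⁻¹ * a.out⁻¹)⁻¹ * b.out := by rw [h2]
        _ = z * (a.out⁻¹ * b.out) := by group
    obtain ⟨f, hf⟩ := hinj
    have hcard := Nat.card_le_card_of_injective f hf
    obtain ⟨j, hj⟩ := IsPGroup.iff_card.mp hNp
    obtain ⟨l, hl⟩ := IsPGroup.iff_card.mp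
      (P.2.to_subgroup (Subgroup.centralizer ({z} : Set ↥(P : Subgroup G))))
    have hdiv : p ^ l * p ^ j ∣ Nat.card G := by
      have h1 : Nat.card (Subgroup.centralizer ({z} : Set ↥(P : Subgroup G))) ∣
          Nat.card (Subgroup.centralizer ({(z : G)} : Set G)) := by
        rw [← Subgroup.card_map_of_injective (P : Subgroup G).subtype_injective]
        refine Subgroup.card_dvd_of_le ?_
        rintro _ ⟨g, hg, rfl⟩
        exact Subgroup.mem_centralizer_singleton_iff.mpr
          (congrArg Subtype.val (Subgroup.mem_centralizer_singleton_iff.mp hg))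
      rw [← hl, ← hj, ← N.index_mul_card]
      exact mul_dvd_mul_right
        ((h1.trans (dvd_of_eq (hx _ hzN'))).trans (Subgroup.card_subgroup_dvd_card _)) _
    rw [← pow_add, (Fact.out : p.Prime).pow_dvd_iff_le_factorization Nat.card_pos.ne'] at hdiv
    have hidx : p ^ j * p ^ l ≤ (Subgroup.centralizer ({z} : Set ↥(P : Subgroup G))).index * p ^ l := by
      rw [← hl, Subgroup.index_mul_card, P.card_eq_multiplicity, hl, ← pow_add]
      exact Nat.pow_le_pow_right (Fact.out : p.Prime).pos (by omega)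
    refine Subgroup.eq_of_le_of_card_ge hk1 ?_
    rw [Nat.card_congr (Subgroup.subgroupOfEquivOfLe hNP).toEquiv, hj]
    exact (Nat.le_of_mul_le_mul_right hidx (pow_pos (Fact.out : p.Prime).pos _)).trans hcard

end Cfsg.Agent.S4838
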