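import Cfsg.Statements.S4839
import Cfsg.Agent.Lib.CharBlocks.TwoClassStruct
import Cfsg.Agent.Lib.Cores.Basic
import Cfsg.Agent.Lib.Invol.BaerSuzuki
import Cfsg.Agent.S4838

set_option autoImplicit false
open Cfsg

namespace Cfsg.Agent.S4839

open CfsgLib.Char CfsgLib.CharNormal CfsgLib.CharBlocks
open scoped Pointwise

section

variable {G : Type*} [Group G] [Finite G] {N : Subgroup G} [hNn : N.Normal]

theorem mem_conj_smul {H : Subgroup G} {g y : G} :
    y ∈ MulAut.conj g • H ↔ g⁻¹ * y * g ∈ H := by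
  rw [Subgroup.mem_pointwise_smul_iff_inv_smul_mem, MulAut.smul_def, MulAut.conj_inv_apply]

/-- If the complement of `N` is covered by the conjugates of `H`, then `#G ≤ #N #H`. -/
theorem card_le_of_cover (H : Subgroup G)
    (hcov : ∀ x : G, x ∈ N ∨ ∃ g : G, g⁻¹ * x * g ∈ H) :
    Nat.card G ≤ Nat.card N * Nat.card H := by
  classical
  have := Fintype.ofFinite G
  let S : G ⧸ H → Finset G := fun q => Finset.univ.filter fun x => x ≠ 1 ∧ q.out⁻¹ * x * q.out ∈ H
  have hS : ∀ q, (S q).card ≤ Nat.card H - 1 := by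
    intro q
    calc (S q).card ≤ ((Finset.univ.filter fun y : G => y ∈ H).erase 1).card := by
          refine Finset.card_le_card_of_injOn (fun x => q.out⁻¹ * x * q.out) (fun x hx => ?_)
            (fun a _ b _ h => by simpa using h)
          simp only [S, Finset.coe_filter, Finset.mem_univ, true_and, Set.mem_setOf_eq] at hx
          simp only [Finset.coe_erase, Finset.coe_filter, Finset.mem_univ, true_and,
            Set.mem_diff, Set.mem_setOf_eq, Set.mem_singleton_iff]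
          refine ⟨hx.2, fun h => hx.1 ?_⟩
          calc x = q.out * (q.out⁻¹ * x * q.out) * q.out⁻¹ := by group
            _ = 1 := by rw [h]; group
      _ = _ := by
          rw [Finset.card_erase_of_mem (by simp), Nat.card_eq_fintype_card, Fintype.card_subtype]
  have hsub : (Finset.univ : Finset G) ⊆
      (Finset.univ.filter fun x : G => x ∈ N) ∪ Finset.univ.biUnion S := by
    intro x _
    by_cases hx1 : x = 1
    · exact Finset.mem_union_left _ (by simp [hx1])
    rcases hcov x with h | ⟨g, hg⟩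
    · exact Finset.mem_union_left _ (by simp [h])
    · refine Finset.mem_union_right _ (Finset.mem_biUnion.mpr ⟨(g : G ⧸ H), Finset.mem_univ _, ?_⟩)
      obtain ⟨h, hh⟩ := QuotientGroup.mk_out_eq_mul H g
      simp only [S, Finset.mem_filter, Finset.mem_univ, true_and]
      refine ⟨hx1, ?_⟩
      rw [hh]
      have := H.mul_mem (H.mul_mem (H.inv_mem h.2) hg) h.2
      simpa [mul_assoc] using this
  have h1 := (Finset.card_le_card hsub).trans (Finset.card_union_le _ _)
  have h2 : (Finset.univ.biUnion S).card ≤ H.index * (Nat.card H - 1) := by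
    refine (Finset.card_biUnion_le).trans ((Finset.sum_le_card_nsmul _ _ _ fun q _ => hS q).trans ?_)
    rw [Finset.card_univ, ← Nat.card_eq_fintype_card, smul_eq_mul, Subgroup.index]
  rw [Finset.card_univ, ← Nat.card_eq_fintype_card,
    ← Fintype.card_subtype (fun x => x ∈ N), ← Nat.card_eq_fintype_card] at h1
  change Nat.card G ≤ Nat.card N + _ at h1
  have h3 := H.index_mul_card
  obtain ⟨k, hk⟩ : ∃ k, Nat.card H = k + 1 :=
    ⟨Nat.card H - 1, by have := Nat.card_pos (α := H); omega⟩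
  rw [hk, Nat.add_sub_cancel] at h2
  rw [hk] at h3 ⊢
  nlinarith

variable {χ : Cfsg.IrrCharacter G}

theorem isConj_mul_of_not_mem (hG : 2 < Nat.card G) (hχ : TwoClass.TwoSupp χ)
    (hN : ∀ g, g ∈ N ↔ (χ : G → ℂ) g ≠ 0) {x v : G} (hx : x ∉ N) (hv : v ∈ N) :
    IsConj x (x * v) := by
  have := Fintype.ofFinite G
  refine (isConj_iff_forall_irr _ _).mpr fun ψ => ?_
  by_cases h : ψ = χ
  · rw [h, not_ne_iff.mp fun e => hx ((hN x).mpr e),
      not_ne_iff.mp fun e => hx ((N.mul_mem_cancel_right hv).mp ((hN _).mpr e))]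
  · exact (apply_mul_eq_one (isCharacter_of_isIrr ψ.2)
      (TwoClass.apply_eq_degree hG hχ h ((hN v).mp hv)) x).symm

/-- The map `b ↦ b * (u b u⁻¹)` on `N` is onto when no nontrivial element of `N` is inverted
by `u`. -/
theorem exists_solution (u : G) (hu : ∀ w ∈ N, u * w * u⁻¹ = w⁻¹ → w = 1)
    (hc : ∀ a ∈ N, ∀ b ∈ N, a * b = b * a) {a : G} (ha : a ∈ N) :
    ∃ w ∈ N, w * (u * w * u⁻¹) = a := by
  let f : N → N := fun w => ⟨w * (u * w * u⁻¹), N.mul_mem w.2 (hNn.conj_mem _ w.2 u)⟩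
  have hf : Function.Injective f := by
    intro v w h
    have h' : (v : G) * (u * v * u⁻¹) = w * (u * w * u⁻¹) := congrArg Subtype.val h
    have hd : ((v : G) * (w : G)⁻¹) = 1 := by
      refine hu _ (N.mul_mem v.2 (N.inv_mem w.2)) (eq_inv_of_mul_eq_one_right ?_)
      have hcm := hc _ (N.inv_mem w.2) _ (hNn.conj_mem _ v.2 u)
      calc (v : G) * (w : G)⁻¹ * (u * (v * (w : G)⁻¹) * u⁻¹)
          = v * ((w : G)⁻¹ * (u * v * u⁻¹)) * (u * w * u⁻¹)⁻¹ := by group
        _ = (v * (u * v * u⁻¹)) * ((u * w * u⁻¹) * w)⁻¹ := by rw [hcm]; group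
        _ = (v * (u * v * u⁻¹)) * (w * (u * w * u⁻¹))⁻¹ := by
              rw [hc _ (hNn.conj_mem _ w.2 u) _ w.2]
        _ = 1 := by rw [h', mul_inv_cancel]
    exact Subtype.ext (mul_inv_eq_one.mp hd)
  obtain ⟨w, hw⟩ := (Finite.surjective_of_injective hf) ⟨a, ha⟩
  exact ⟨w, w.2, congrArg Subtype.val hw⟩

/-- The case `p ≠ 2`: `P = N`. -/
theorem sylow_le_of_odd (hG : 2 < Nat.card G) (hχ : TwoClass.TwoSupp χ)
    (hN : ∀ g, g ∈ N ↔ (χ : G → ℂ) g ≠ 0) {p : ℕ} [Fact p.Prime] (hp2 : p ≠ 2)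
    (hC : ∀ x ∈ N, x ≠ 1 → IsPGroup p (Subgroup.centralizer ({x} : Set G)))
    (hCN : ∀ g : G, (∀ x ∈ N, g * x = x * g) → g ∈ N)
    (hc : ∀ a ∈ N, ∀ b ∈ N, a * b = b * a) (hodd : Odd (Nat.card N)) (heven : 2 ∣ Nat.card G)
    (P : Sylow p G) (hNP : N ≤ (P : Subgroup G))
    (hfix : ∃ z ∈ N, z ≠ 1 ∧ ∀ y ∈ (P : Subgroup G), y * z = z * y) :
    (P : Subgroup G) ≤ N := by
  intro x hxP
  by_contra hxN
  obtain ⟨i, hi⟩ := exists_prime_orderOf_dvd_card' 2 heven
  have hi2 : i * i = 1 := by rw [← pow_two, ← hi, pow_orderOf_eq_one]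
  have hiinv : i⁻¹ = i := inv_eq_of_mul_eq_one_right hi2
  -- involutions fix no nontrivial element of `N`
  have hinv : ∀ j : G, orderOf j = 2 → ∀ a ∈ N, j * a * j⁻¹ = a⁻¹ := by
    intro j hj a ha
    have hj2 : j * j = 1 := by rw [← pow_two, ← hj, pow_orderOf_eq_one]
    have hjinv : j⁻¹ = j := inv_eq_of_mul_eq_one_right hj2
    refine eq_inv_of_mul_eq_one_right ?_
    by_contra hne
    have hmem : j ∈ Subgroup.centralizer ({a * (j * a * j⁻¹)} : Set G) := by
      rw [Subgroup.mem_centralizer_singleton_iff]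
      calc j * (a * (j * a * j⁻¹)) = (j * a * j⁻¹) * ((j * j) * a * (j⁻¹ * j⁻¹)) * j := by group
        _ = (j * a * j⁻¹) * a * j := by rw [← mul_inv_rev, hj2, inv_one, one_mul, mul_one]
        _ = (a * (j * a * j⁻¹)) * j := by rw [hc _ (hNn.conj_mem a ha j) _ ha]
    obtain ⟨k, hk⟩ := hC _ (N.mul_mem ha (hNn.conj_mem a ha j)) hne ⟨j, hmem⟩
    have h2 : orderOf j ∣ p ^ k := orderOf_dvd_of_pow_eq_one (congrArg Subtype.val hk)
    rw [hj] at h2
    exact hp2 ((Nat.prime_dvd_prime_iff_eq Nat.prime_two Fact.out).mp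
      (Nat.prime_two.dvd_of_dvd_pow h2)).symm
  -- `i` is central modulo `N`
  have hcen : ∀ g : G, g * i * g⁻¹ * i⁻¹ ∈ N := by
    intro g
    refine hCN _ fun a ha => ?_
    have e1 : (g * i * g⁻¹) * (i⁻¹ * a * i) * (g * i * g⁻¹)⁻¹ = a := by
      rw [hinv _ ((CfsgLib.Invol.orderOf_conj_eq g i).trans hi) _ (by simpa using hNn.conj_mem a ha i⁻¹),
        show i⁻¹ * a * i = i * a * i⁻¹ by rw [hiinv],
        hinv i hi a ha, inv_inv]
    calc g * i * g⁻¹ * i⁻¹ * a
        = ((g * i * g⁻¹) * (i⁻¹ * a * i) * (g * i * g⁻¹)⁻¹) * (g * i * g⁻¹ * i⁻¹) := by group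
      _ = a * (g * i * g⁻¹ * i⁻¹) := by rw [e1]
  -- a lift of `x` commuting with `i`
  set a := x⁻¹ * i * x * i⁻¹ with ha
  have haN : a ∈ N := by
    have := hcen x⁻¹
    rwa [inv_inv] at this
  obtain ⟨m, hm⟩ := hodd
  have hsq : ∀ b ∈ N, (b ^ (m + 1)) ^ 2 = b := by
    intro b hb
    rw [← pow_mul, show (m + 1) * 2 = Nat.card N + 1 by omega, pow_succ]
    have : (⟨b, hb⟩ : N) ^ Nat.card N = 1 := pow_card_eq_one'
    rw [show b ^ Nat.card N = 1 from congrArg Subtype.val this, one_mul]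
  set v := a ^ (m + 1) with hv
  have hvN : v ∈ N := N.pow_mem haN _
  set y := x * v with hy
  have hyN : y ∉ N := fun h => hxN ((N.mul_mem_cancel_right hvN).mp h)
  have hyP : y ∈ (P : Subgroup G) := mul_mem hxP (hNP hvN)
  have hiy : i * y = y * i := by
    calc i * y = x * a * (i * v * i⁻¹) * i := by rw [ha, hy]; group
      _ = x * (v ^ 2 * v⁻¹) * i := by rw [hinv i hi v hvN, hsq a haN]; group
      _ = y * i := by rw [hy, pow_two, mul_inv_cancel_right]
  -- `b ↦ y⁻¹ b y b⁻¹` is a homomorphism of `N` with a nontrivial kernel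
  have hdm : ∀ b ∈ N, y⁻¹ * b * y * b⁻¹ ∈ N := fun b hb =>
    N.mul_mem (by simpa using hNn.conj_mem b hb y⁻¹) (N.inv_mem hb)
  let d : N →* N :=
    { toFun := fun b => ⟨y⁻¹ * b * y * (b : G)⁻¹, hdm b b.2⟩
      map_one' := Subtype.ext (by simp)
      map_mul' := fun b b' => Subtype.ext (by
        show y⁻¹ * ((b : G) * b') * y * ((b : G) * b')⁻¹ =
          y⁻¹ * b * y * (b : G)⁻¹ * (y⁻¹ * b' * y * (b' : G)⁻¹)
        have h := hc _ (N.inv_mem b.2) _ (hdm b' b'.2)
        calc y⁻¹ * ((b : G) * b') * y * ((b : G) * b')⁻¹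
            = (y⁻¹ * b * y) * ((y⁻¹ * b' * y * (b' : G)⁻¹) * (b : G)⁻¹) := by group
          _ = (y⁻¹ * b * y) * ((b : G)⁻¹ * (y⁻¹ * b' * y * (b' : G)⁻¹)) := by rw [h]
          _ = _ := by group) }
  obtain ⟨z, hzN, hz1, hz⟩ := hfix
  have hdz : d ⟨z, hzN⟩ = 1 := Subtype.ext (by
    show y⁻¹ * z * y * z⁻¹ = 1
    rw [mul_assoc y⁻¹ z y, ← hz y hyP]
    group)
  have hdsurj : ¬ Function.Surjective d := fun hs =>
    hz1 (congrArg Subtype.val
      (Finite.injective_iff_surjective.mpr hs (hdz.trans d.map_one.symm)))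
  obtain ⟨w, hw⟩ := not_forall.mp hdsurj
  obtain ⟨g, hg⟩ := isConj_iff.mp (isConj_mul_of_not_mem hG hχ hN hyN w.2)
  set b := i⁻¹ * (g * i * g⁻¹) with hb
  have hbN : b ∈ N := by
    rw [show b = i⁻¹ * (g * i * g⁻¹ * i⁻¹) * i⁻¹⁻¹ by rw [hb]; group]
    exact hNn.conj_mem _ (hcen g) i⁻¹
  have hcomm : i * b * (y * w) = y * w * (i * b) := by
    calc i * b * (y * w) = g * (i * y) * g⁻¹ := by rw [hb, ← hg]; group
      _ = y * w * (i * b) := by rw [hiy, hb, ← hg]; group
  have hiy' : y⁻¹ * i = i * y⁻¹ := by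
    calc y⁻¹ * i = y⁻¹ * (i * y) * y⁻¹ := by group
      _ = i * y⁻¹ := by rw [hiy]; group
  have h1 : (y⁻¹ * b * y) * w = (w : G)⁻¹ * b := by
    have h2 : (w : G) * i = i * (w : G)⁻¹ := by
      rw [← hinv i hi w w.2]
      calc (w : G) * i = (i * i) * w * (i⁻¹ * i⁻¹) * i := by rw [← mul_inv_rev, hi2]; simp
        _ = i * (i * w * i⁻¹) := by group
    refine mul_left_cancel (a := i) ?_
    calc i * ((y⁻¹ * b * y) * w) = (i * y⁻¹) * b * (y * w) := by group
      _ = y⁻¹ * (i * b * (y * w)) := by rw [← hiy']; group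
      _ = (w : G) * i * b := by rw [hcomm]; group
      _ = i * ((w : G)⁻¹ * b) := by rw [h2]; group
  have h3 : d ⟨b, hbN⟩⁻¹ = w ^ 2 := by
    rw [map_inv]
    refine inv_eq_of_mul_eq_one_left (Subtype.ext ?_)
    show ((w : G) ^ 2) * (y⁻¹ * b * y * b⁻¹) = 1
    calc ((w : G) ^ 2) * (y⁻¹ * b * y * b⁻¹)
        = w * ((w : G) * (y⁻¹ * b * y)) * b⁻¹ := by rw [pow_two]; group
      _ = w * ((y⁻¹ * b * y) * (w : G)) * b⁻¹ := by
            rw [hc _ w.2 (y⁻¹ * b * y) (by simpa using hNn.conj_mem b hbN y⁻¹)]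
      _ = 1 := by rw [h1]; group
  refine hw ⟨(⟨b, hbN⟩⁻¹) ^ (m + 1), ?_⟩
  rw [map_pow, h3, ← pow_mul, mul_comm, pow_mul]
  exact Subtype.ext (by push_cast; exact hsq _ w.2)

/-- The case `p = 2`: the quotient by `N` has odd order. -/
theorem not_two_dvd_quotient (hG : 2 < Nat.card G) (hχ : TwoClass.TwoSupp χ)
    (hN : ∀ g, g ∈ N ↔ (χ : G → ℂ) g ≠ 0)
    (hC : ∀ x ∈ N, x ≠ 1 → IsPGroup 2 (Subgroup.centralizer ({x} : Set G)))
    (hCN : ∀ g : G, (∀ x ∈ N, g * x = x * g) → g ∈ N)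
    (hc : ∀ a ∈ N, ∀ b ∈ N, a * b = b * a) (hexp : ∀ a ∈ N, a ^ 2 = 1) (hNp : IsPGroup 2 N)
    (hcore : N = Cfsg.pCore 2 G) : ¬ 2 ∣ Nat.card (G ⧸ N) := by
  intro hdvd
  obtain ⟨t', ht'⟩ := exists_prime_orderOf_dvd_card' 2 hdvd
  obtain ⟨u', hu1, huodd, hinvu⟩ := CfsgLib.Invol.exists_inverted_odd t' ht' (fun M hM hMp => by
    haveI := hM
    intro hmem
    have hker : IsPGroup 2 (QuotientGroup.mk' N).ker := by rw [QuotientGroup.ker_mk']; exact hNp
    have hle := CfsgLib.Cores.le_pCore (hMp.comap_of_ker_isPGroup (QuotientGroup.mk' N) hker)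
    rw [← hcore] at hle
    obtain ⟨t, rfl⟩ := QuotientGroup.mk_surjective t'
    rw [(QuotientGroup.eq_one_iff t).mpr (hle hmem), orderOf_one] at ht'
    omega)
  obtain ⟨t, rfl⟩ := QuotientGroup.mk_surjective t'
  obtain ⟨u, rfl⟩ := QuotientGroup.mk_surjective u'
  have htN : t ∉ N := fun h => by
    rw [(QuotientGroup.eq_one_iff t).mpr h, orderOf_one] at ht'
    omega
  have hinv : ∀ a ∈ N, a⁻¹ = a := fun a ha =>
    inv_eq_of_mul_eq_one_right (by rw [← pow_two]; exact hexp a ha)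
  have hu : ∀ w ∈ N, u * w * u⁻¹ = w⁻¹ → w = 1 := by
    intro w hw h
    rw [hinv w hw] at h
    by_contra hw1
    obtain ⟨k, hk⟩ := hC w hw hw1 ⟨u, Subgroup.mem_centralizer_singleton_iff.mpr
      (by calc u * w = u * w * u⁻¹ * u := by group
            _ = w * u := by rw [h])⟩
    have h2 : orderOf (u : G ⧸ N) ∣ 2 ^ k := orderOf_dvd_of_pow_eq_one (by
      rw [← QuotientGroup.mk_pow, show u ^ 2 ^ k = 1 from congrArg Subtype.val hk,
        QuotientGroup.mk_one])
    exact hu1 (orderOf_eq_one_iff.mp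
      (Nat.eq_one_of_dvd_coprimes ((Nat.coprime_two_right.mpr huodd).pow_right k) dvd_rfl h2))
  have ha : t ^ 2 ∈ N := by
    rw [← QuotientGroup.eq_one_iff, QuotientGroup.mk_pow, ← ht', pow_orderOf_eq_one]
  set a := t ^ 2 with hat
  obtain ⟨w, hwN, hw⟩ := exists_solution u hu hc ha
  have hk : u * (t * u * t⁻¹) ∈ N := by
    rw [← QuotientGroup.eq_one_iff]
    rw [QuotientGroup.mk_mul, QuotientGroup.mk_mul, QuotientGroup.mk_mul, QuotientGroup.mk_inv, hinvu, mul_inv_cancel]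
  set k := u * (t * u * t⁻¹) with hk'
  have hconj : ∀ z ∈ N, t * (u * z * u⁻¹) * t⁻¹ = u⁻¹ * (t * z * t⁻¹) * u := by
    intro z hz
    have htz := hNn.conj_mem z hz t
    calc t * (u * z * u⁻¹) * t⁻¹ = u⁻¹ * (k * (t * z * t⁻¹) * k⁻¹) * u := by rw [hk']; group
      _ = _ := by rw [hc k hk _ htz, mul_inv_cancel_right]
  set s := t * w * t⁻¹ with hs
  have hsN : s ∈ N := hNn.conj_mem w hwN t
  have hs2 : s * (u⁻¹ * s * u) = a := by
    calc s * (u⁻¹ * s * u) = t * (w * (u * w * u⁻¹)) * t⁻¹ := by rw [← hconj w hwN, hs]; group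
      _ = a := by rw [hw, hat]; group
  have hus : u * s * u⁻¹ ∈ N := hNn.conj_mem s hsN u
  have hua : u * a * u⁻¹ ∈ N := hNn.conj_mem a ha u
  have huw : u * w * u⁻¹ ∈ N := hNn.conj_mem w hwN u
  have hs3 : s * (u * s * u⁻¹) = u * a * u⁻¹ := by
    rw [hc _ hsN _ hus]
    calc u * s * u⁻¹ * s = u * (s * (u⁻¹ * s * u)) * u⁻¹ := by group
      _ = _ := by rw [hs2]
  have hsw : s * w = a := by
    have hz : (s * w * a⁻¹) = 1 := by
      refine hu _ (N.mul_mem (N.mul_mem hsN hwN) (N.inv_mem ha)) (eq_inv_of_mul_eq_one_right ?_)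
      have hA : u * a⁻¹ * u⁻¹ = (u * a * u⁻¹)⁻¹ := by group
      calc s * w * a⁻¹ * (u * (s * w * a⁻¹) * u⁻¹)
          = s * ((w * a⁻¹) * (u * s * u⁻¹)) * ((u * w * u⁻¹) * (u * a⁻¹ * u⁻¹)) := by group
        _ = (s * (u * s * u⁻¹)) * (w * ((a⁻¹ * (u * w * u⁻¹)) * (u * a⁻¹ * u⁻¹))) := by
              rw [hc _ (N.mul_mem hwN (N.inv_mem ha)) _ hus]; group
        _ = (u * a * u⁻¹) * ((w * (u * w * u⁻¹)) * (a⁻¹ * (u * a * u⁻¹)⁻¹)) := by
              rw [hs3, hc _ (N.inv_mem ha) _ huw, hA]; group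
        _ = 1 := by rw [hw]; group
    exact mul_inv_eq_one.mp hz
  have hy2 : (t * w) * (t * w) = 1 := by
    calc (t * w) * (t * w) = s * (t ^ 2) * w := by rw [hs]; group
      _ = s * w * a := by rw [← hat, mul_assoc, hc a ha w hwN, ← mul_assoc]
      _ = 1 := by rw [hsw, ← pow_two, hexp a ha]
  refine htN ((N.mul_mem_cancel_right hwN).mp (hCN _ fun v hv => ?_))
  have hyN : t * w ∉ N := fun h => htN ((N.mul_mem_cancel_right hwN).mp h)
  obtain ⟨g, hg⟩ := isConj_iff.mp (isConj_mul_of_not_mem hG hχ hN hyN hv)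
  have hyv : (t * w * v) * (t * w * v) = 1 := by
    calc (t * w * v) * (t * w * v) = g * ((t * w) * (t * w)) * g⁻¹ := by rw [← hg]; group
      _ = 1 := by rw [hy2]; group
  calc t * w * v = (t * w * v)⁻¹ := (inv_eq_of_mul_eq_one_right hyv).symm
    _ = v⁻¹ * (t * w)⁻¹ := mul_inv_rev _ _
    _ = v * (t * w) := by rw [hinv v hv, inv_eq_of_mul_eq_one_right hy2]

end

/-- Let G be a finite group of order greater than 2 with an irreducible character χ nonzero on exactly two conjugacy classes, and let N be the normal p-subgroup of elements where χ is nonzero. Then N is the whole p-core O_p(G) if and only if G is a doubly transitive Frobenius group with kernel N: G has a Frobenius complement H whose Frobenius kernel is N and whose order is one less than that of N. -/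
theorem result {G : Type*} [Group G] [Finite G] (hG : 2 < Nat.card G) (χ : Cfsg.IrrCharacter G) (hχ : Nat.card {C : ConjClasses G // ∃ g ∈ C.carrier, (χ : G → ℂ) g ≠ 0} = 2) (p : ℕ) [Fact p.Prime] (N : Subgroup G) [N.Normal] (hN : ∀ g : G, g ∈ N ↔ (χ : G → ℂ) g ≠ 0) (hNp : IsPGroup p N) (hN1 : N ≠ ⊥) :
    N = Cfsg.pCore p G ↔ ∃ H : Subgroup G, Cfsg.IsFrobeniusComplement H ∧ Cfsg.frobeniusKernel H = (N : Set G) ∧ Nat.card H + 1 = Nat.card N := by
  classical
  have := Fintype.ofFinite N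
  obtain ⟨p', hp', hp'g, hpow', hcomm⟩ := TwoClass.elementaryAbelian hG hχ hN hN1
  have hc : ∀ a ∈ N, ∀ b ∈ N, a * b = b * a := fun a ha b hb =>
    congrArg Subtype.val (mul_comm' (⟨a, ha⟩ : N) ⟨b, hb⟩)
  obtain ⟨hsyl, -⟩ := TwoClass.exists_sylow hG hχ hN hN1 hNp
  obtain ⟨e, he0, hGe, -, hCe⟩ := TwoClass.exists_e hG hχ hN hN1
  haveI : Fact p'.Prime := ⟨hp'⟩
  obtain ⟨x₀, hx₀, hx₀1⟩ := Subgroup.bot_or_exists_ne_one N |>.resolve_left hN1
  obtain ⟨P, hP⟩ := hsyl x₀ hx₀ hx₀1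
  have hPcard : Nat.card (P : Subgroup G) = e ^ 2 * Nat.card N := by rw [← hP]; exact hCe x₀ hx₀ hx₀1
  have hNP : N ≤ (P : Subgroup G) := hNp.le_sylow_of_normal P
  have hN2 : 1 < Nat.card N := Subgroup.one_lt_card_iff_ne_bot N |>.mpr hN1
  have hC : ∀ x ∈ N, x ≠ 1 → IsPGroup p (Subgroup.centralizer ({x} : Set G)) := fun x hx hx1 => by
    obtain ⟨Q, hQ⟩ := hsyl x hx hx1
    rw [hQ]; exact Q.2
  have hN2G : Nat.card N ≠ 2 ∨ e ≠ 1 := by
    by_contra h
    push Not at h
    rw [h.1, h.2] at hGe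
    omega
  constructor
  · intro hcore
    have hCN : ∀ g : G, (∀ x ∈ N, g * x = x * g) → g ∈ N := by
      intro g hg
      have hle : Subgroup.centralizer (N : Set G) ≤ Subgroup.centralizer ({x₀} : Set G) :=
        Subgroup.centralizer_le (Set.singleton_subset_iff.mpr hx₀)
      have := CfsgLib.Cores.le_pCore ((hC x₀ hx₀ hx₀1).to_le hle)
      rw [← hcore] at this
      exact this (Subgroup.mem_centralizer_iff.mpr fun x hx => (hg x hx).symm)
    have hPN : (P : Subgroup G) = N := by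
      by_cases hp2 : p = 2
      · subst hp2
        refine le_antisymm ?_ hNP
        have hexp : ∀ a ∈ N, a ^ 2 = 1 := by
          have h2 : p' = 2 := by
            obtain ⟨j, hj⟩ := IsPGroup.iff_card.mp hp'g
            obtain ⟨l, hl⟩ := IsPGroup.iff_card.mp hNp
            have hj0 : j ≠ 0 := fun h => by rw [hj, h, pow_zero] at hN2; omega
            exact (Nat.prime_dvd_prime_iff_eq hp' Nat.prime_two).mp
              (hp'.dvd_of_dvd_pow (hl ▸ hj ▸ dvd_pow_self p' hj0))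
          exact fun a ha => h2 ▸ hpow' a ha
        have hnd := not_two_dvd_quotient hG hχ hN hC hCN hc hexp hNp hcore
        intro x hx
        rw [← QuotientGroup.eq_one_iff]
        obtain ⟨k, hk⟩ := P.2 ⟨x, hx⟩
        have h2 : orderOf (x : G ⧸ N) ∣ 2 ^ k := orderOf_dvd_of_pow_eq_one (by
          rw [← QuotientGroup.mk_pow, show x ^ 2 ^ k = 1 from congrArg Subtype.val hk,
            QuotientGroup.mk_one])
        obtain ⟨i, -, hi⟩ := (Nat.dvd_prime_pow Nat.prime_two).mp h2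
        rcases Nat.eq_zero_or_pos i with rfl | hi0
        · exact orderOf_eq_one_iff.mp (by rw [hi, pow_zero])
        · exact absurd (((dvd_pow_self 2 hi0.ne').trans (dvd_of_eq hi.symm)).trans
            (orderOf_dvd_natCard _)) hnd
      · refine le_antisymm ?_ hNP
        obtain ⟨j, hj⟩ := IsPGroup.iff_card.mp hNp
        have hpodd : Odd p := (Fact.out : p.Prime).odd_of_ne_two hp2
        have hodd : Odd (Nat.card N) := hj ▸ hpodd.pow
        refine sylow_le_of_odd hG hχ hN hp2 hC hCN hc hodd ?_ P hNP ?_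
        · rw [hGe]
          exact Dvd.dvd.mul_right (even_iff_two_dvd.mp (Nat.Odd.sub_odd hodd odd_one)) _
        · obtain ⟨hZN, -⟩ := (Cfsg.Agent.S4838.result hG χ hχ p N hN hNp hN1 P).2.1
          have hPne : Nontrivial (P : Subgroup G) := (Subgroup.nontrivial_iff_ne_bot _).mpr fun h =>
            hN1 (le_bot_iff.mp (h ▸ hNP))
          have := P.2.center_nontrivial
          obtain ⟨z, hz⟩ := exists_ne (1 : Subgroup.center (P : Subgroup G))
          refine ⟨_, hZN (Subgroup.mem_map_of_mem _ z.2), fun h => hz (Subtype.ext (Subtype.ext h)),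
            fun y hy => congrArg Subtype.val (Subgroup.mem_center_iff.mp z.2 ⟨y, hy⟩)⟩
    -- `G` is a Frobenius group
    have he1 : e ^ 2 = 1 := by
      have h := hPcard
      rw [hPN] at h
      exact Nat.eq_of_mul_eq_mul_right (show 0 < Nat.card N by omega) (by rw [one_mul]; exact h.symm)
    rw [he1, one_mul] at hGe
    have hidx : N.index = Nat.card N - 1 := by
      have h := N.index_mul_card
      rw [hGe] at h
      exact Nat.eq_of_mul_eq_mul_right (by omega) h
    obtain ⟨H, hH⟩ := Subgroup.exists_right_complement'_of_coprime (N := N) (by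
      rw [hidx]
      have hco : Nat.Coprime (Nat.card N - 1) (Nat.card N - 1 + 1) := Nat.coprime_self_add_right.mpr (Nat.coprime_one_right _)
      rw [Nat.sub_add_cancel hN2.le] at hco
      exact hco.symm)
    have hHcard : Nat.card H + 1 = Nat.card N := by
      rw [← hH.symm.index_eq_card, hidx]; omega
    have hNH : ∀ y, y ∈ N → y ∈ H → y = 1 := fun y h1 h2 => Subgroup.disjoint_def.mp hH.disjoint h1 h2
    have hfix : ∀ y : G, y ∉ N → ∀ m ∈ N, y * m = m * y → m = 1 := by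
      intro y hy m hm h
      by_contra hm1
      refine hy ?_
      have hle : N ≤ Subgroup.centralizer ({m} : Set G) := fun b hb =>
        Subgroup.mem_centralizer_singleton_iff.mpr (hc b hb m hm)
      have hCm : Subgroup.centralizer ({m} : Set G) = N :=
        (Subgroup.eq_of_le_of_card_ge hle (by rw [hCe m hm hm1, he1, one_mul])).symm
      rw [← hCm]
      exact Subgroup.mem_centralizer_singleton_iff.mpr h
    have hdec : ∀ g : G, ∃ m ∈ N, ∃ h ∈ H, m * h = g := fun g => by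
      have hg : g ∈ (N : Set G) * (H : Set G) := by rw [hH.mul_eq]; exact Set.mem_univ g
      obtain ⟨m, hm, h, hh, e⟩ := Set.mem_mul.mp hg
      exact ⟨m, hm, h, hh, e⟩
    refine ⟨H, ⟨?_, ?_, ?_⟩, ?_, hHcard⟩
    · intro h
      rw [h, Subgroup.card_bot] at hHcard
      rcases hN2G with h' | h'
      · omega
      · exact h' ((pow_eq_one_iff.mp he1).resolve_right two_ne_zero)
    · intro h
      exact hN1 ((Subgroup.eq_bot_iff_forall N).mpr fun y hy => hNH y hy (h ▸ Subgroup.mem_top y))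
    · intro g hg
      rw [Subgroup.eq_bot_iff_forall]
      rintro y ⟨hy, hy'⟩
      by_contra hy1
      change y ∈ MulAut.conj g • H at hy'
      rw [mem_conj_smul] at hy'
      obtain ⟨m, hm, h, hh, rfl⟩ := hdec g
      have hy'' : m⁻¹ * y * m ∈ H := by
        have := H.mul_mem (H.mul_mem hh hy') (H.inv_mem hh)
        simpa [mul_assoc] using this
      have he : (m⁻¹ * y * m) * y⁻¹ = 1 := by
        refine hNH _ ?_ (H.mul_mem hy'' (H.inv_mem hy))
        rw [mul_assoc m⁻¹ y m, mul_assoc m⁻¹]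
        exact N.mul_mem (N.inv_mem hm) (Subgroup.Normal.conj_mem inferInstance m hm y)
      have hcomm : y * m = m * y := by
        calc y * m = m * ((m⁻¹ * y * m) * y⁻¹) * y := by group
          _ = m * y := by rw [he, mul_one]
      have hm1 : m = 1 := hfix y (fun h => hy1 (hNH y h hy)) m hm hcomm
      exact hg (by rw [hm1, one_mul]; exact hh)
    · ext x
      simp only [Cfsg.frobeniusKernel, Set.mem_setOf_eq, mem_conj_smul, SetLike.mem_coe]
      constructor
      · rintro (rfl | h)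
        · exact one_mem N
        by_contra hxN
        obtain ⟨a, ha, h', hh, rfl⟩ := hdec x
        have hh'N : h' ∉ N := fun hN' => hxN (N.mul_mem ha hN')
        let f : N → N := fun m => ⟨m * (h' * (m : G)⁻¹ * h'⁻¹),
          N.mul_mem m.2 (Subgroup.Normal.conj_mem inferInstance _ (N.inv_mem m.2) h')⟩
        have hf : Function.Injective f := by
          intro v w hvw
          have h2 : (v : G) * (h' * (v : G)⁻¹ * h'⁻¹) = w * (h' * (w : G)⁻¹ * h'⁻¹) :=
            congrArg Subtype.val hvw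
          refine Subtype.ext (eq_of_inv_mul_eq_one ?_).symm
          refine hfix h' hh'N _ (N.mul_mem (N.inv_mem w.2) v.2) ?_
          calc h' * ((w : G)⁻¹ * v)
              = (w : G)⁻¹ * ((w : G) * (h' * (w : G)⁻¹ * h'⁻¹)) * (h' * (v : G)) := by group
            _ = (w : G)⁻¹ * v * h' := by rw [← h2]; group
        obtain ⟨m, hm⟩ := Finite.surjective_of_injective hf ⟨a, ha⟩
        refine h m ?_
        have e : (m : G) * (h' * (m : G)⁻¹ * h'⁻¹) = a := congrArg Subtype.val hm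
        rw [← e]
        simpa [mul_assoc] using hh
      · intro hx
        by_cases hx1 : x = 1
        · exact Or.inl hx1
        refine Or.inr fun g hg => hx1 ?_
        have h2 : g⁻¹ * x * g ∈ N := by
          simpa using Subgroup.Normal.conj_mem (inferInstance : N.Normal) x hx g⁻¹
        calc x = g * (g⁻¹ * x * g) * g⁻¹ := by group
          _ = 1 := by rw [hNH _ h2 hg]; group
  · rintro ⟨H, -, hker, hH⟩
    refine le_antisymm (CfsgLib.Cores.le_pCore hNp) ((CfsgLib.Cores.pCore_le_sylow P).trans ?_)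
    have hle := card_le_of_cover (N := N) H fun x => by
      by_cases hx : x ∈ N
      · exact Or.inl hx
      refine Or.inr ?_
      by_contra h
      push Not at h
      refine hx (SetLike.mem_coe.mp (hker ▸ ?_))
      exact Or.inr fun g hg => h g (mem_conj_smul.mp hg)
    rw [hGe, show Nat.card H = Nat.card N - 1 by omega] at hle
    have hpos : 0 < Nat.card N - 1 := by omega
    have he1 : e ^ 2 * Nat.card N ≤ Nat.card N := Nat.le_of_mul_le_mul_left (by linarith) hpos
    exact (Subgroup.eq_of_le_of_card_ge hNP (hPcard ▸ he1)).ge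

end Cfsg.Agent.S4839
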