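import Cfsg.Statements.S4840
import Cfsg.Agent.Lib.CharBlocks.TwoClassStruct
import Cfsg.Agent.Lib.Cores.Basic
import Cfsg.Agent.Lib.Cores.Fitting
import Cfsg.Agent.Lib.Solvable.Fitting
import Cfsg.Agent.Lib.Solvable.Hall
import Cfsg.Agent.Lib.Solvable.UniqueSubgroup
import Cfsg.Agent.Lib.Solvable.FrobeniusComplement
import Cfsg.Agent.Lib.Icosa.SolvableQuot
import Cfsg.Agent.Lib.Invol.Quaternion
import Cfsg.Agent.S3742
import Cfsg.Agent.S4835

set_option autoImplicit false
open Cfsg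

namespace Cfsg.Agent.S4840

open CfsgLib.Char CfsgLib.CharBlocks
open scoped commutatorElement

section abstract

variable {H V : Type*} [Group H] [Finite H] [CommGroup V] [Finite V] {ρ : H →* MulAut V} {p : ℕ}

/-- A solvable group transitive on the nonidentity elements of an elementary abelian `p`-group, with
`p`-groups as stabilizers. -/
structure Data (ρ : H →* MulAut V) (p : ℕ) : Prop where
  hp : p.Prime
  hexp : ∀ v : V, v ^ p = 1
  hne : ∃ v : V, v ≠ 1
  hstab : ∀ v : V, v ≠ 1 → ∀ h : H, ρ h v = v → ∃ k, orderOf h = p ^ k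
  htrans : ∀ v w : V, v ≠ 1 → w ≠ 1 → ∃ h, ρ h v = w
  hbot : Cfsg.pCore p H = ⊥

theorem Data.fpf (D : Data ρ p) {h : H} (hh : ¬ p ∣ orderOf h) {v : V} (hv : v ≠ 1) (he : ρ h v = v) :
    h = 1 := by
  obtain ⟨k, hk⟩ := D.hstab v hv h he
  rcases Nat.eq_zero_or_pos k with rfl | hk0
  · rwa [pow_zero, orderOf_eq_one_iff] at hk
  · exact absurd (hk ▸ dvd_pow_self p hk0.ne') hh

theorem Data.fpf_mem (D : Data ρ p) {K : Subgroup H} (hK : ¬ p ∣ Nat.card K) {h : H} (hh : h ∈ K) {v : V}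
    (hv : v ≠ 1) (he : ρ h v = v) : h = 1 :=
  D.fpf (fun hd => hK (hd.trans (by
    rw [← Subgroup.orderOf_mk h hh]; exact orderOf_dvd_natCard _))) hv he

theorem Data.exists_hall (D : Data ρ p) [Group.IsSolvable H] :
    ∃ (K : Subgroup H) (a : ℕ), Nat.card K + 1 = Nat.card V ∧ Nat.card H = Nat.card K * p ^ a ∧
      ¬ p ∣ Nat.card K := by
  classical
  have := Fact.mk D.hp
  letI : MulAction H V := MulAction.compHom V ρ
  obtain ⟨v, hv⟩ := D.hne
  have horb : MulAction.orbit H v = {w : V | w ≠ 1} := by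
    ext w
    constructor
    · rintro ⟨h, rfl⟩
      exact fun e => hv ((ρ h).injective (e.trans (map_one (ρ h)).symm))
    · intro hw
      obtain ⟨h, hh⟩ := D.htrans v w hv hw
      exact ⟨h, hh⟩
  have hidx : (MulAction.stabilizer H v).index = Nat.card V - 1 := by
    rw [MulAction.index_stabilizer, horb, show {w : V | w ≠ 1} = ({1} : Set V)ᶜ from rfl,
      Set.ncard_compl, Set.ncard_singleton]
  have hS : IsPGroup p (MulAction.stabilizer H v) := IsPGroup.iff_orderOf.2 fun x => by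
    rw [← Subgroup.orderOf_coe]
    exact D.hstab v hv _ x.2
  obtain ⟨a, ha⟩ := IsPGroup.iff_card.1 hS
  have hV : IsPGroup p V := fun w => ⟨1, by rw [pow_one, D.hexp]⟩
  obtain ⟨n, hn⟩ := IsPGroup.iff_card.1 hV
  have hV2 : 1 < Nat.card V := Finite.one_lt_card_iff_nontrivial.2 ⟨⟨v, 1, hv⟩⟩
  have hpn : p ∣ Nat.card V := by
    rw [hn]; exact dvd_pow_self p (by rintro rfl; rw [hn, pow_zero] at hV2; omega)
  have hnd : ¬ p ∣ Nat.card V - 1 := fun hd => D.hp.not_dvd_one (by
    have := Nat.dvd_sub hpn hd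
    rwa [show Nat.card V - (Nat.card V - 1) = 1 by omega] at this)
  have hcard : Nat.card H = (Nat.card V - 1) * p ^ a := by
    rw [← (MulAction.stabilizer H v).index_mul_card, hidx, ha]
  obtain ⟨K, hK⟩ := CfsgLib.Solvable.exists_hall hcard
    ((((D.hp.coprime_iff_not_dvd).2 hnd).symm).pow_right a)
  exact ⟨K, a, by rw [hK]; omega, by rw [hK]; exact hcard, by rw [hK]; exact hnd⟩

theorem le_hall (hp : p.Prime) {K N : Subgroup H} [N.Normal] {a : ℕ} (hK : Nat.card H = Nat.card K * p ^ a)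
    (hKp : ¬ p ∣ Nat.card K) (hN : ¬ p ∣ Nat.card N) : N ≤ K := by
  have h1 : Nat.card (K ⊔ N : Subgroup H) = Nat.card N * N.relIndex K := by
    rw [← Subgroup.relIndex_sup_right K N, Subgroup.relIndex,
      ← (N.subgroupOf (K ⊔ N)).card_mul_index,
      Nat.card_congr (Subgroup.subgroupOfEquivOfLe (le_sup_right : N ≤ K ⊔ N)).toEquiv]
  have h2 : ¬ p ∣ Nat.card (K ⊔ N : Subgroup H) := fun h => by
    rw [h1] at h
    rcases hp.dvd_mul.1 h with h | h
    · exact hN h
    · exact hKp (h.trans (Subgroup.relIndex_dvd_card N K))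
  have h3 : Nat.card (K ⊔ N : Subgroup H) ∣ Nat.card K := by
    refine Nat.Coprime.dvd_of_dvd_mul_right ((((hp.coprime_iff_not_dvd).2 h2).symm).pow_right a) ?_
    rw [← hK]; exact Subgroup.card_subgroup_dvd_card _
  rw [Subgroup.eq_of_le_of_card_ge (le_sup_left : K ≤ K ⊔ N) (Nat.le_of_dvd Nat.card_pos h3)]
  exact le_sup_right

theorem eq_one_of_pelement (hp : p.Prime) {K : Subgroup H} (hKp : ¬ p ∣ Nat.card K) {h : H} (hh : h ∈ K) {k : ℕ}
    (hk : orderOf h = p ^ k) : h = 1 := by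
  rcases Nat.eq_zero_or_pos k with rfl | hk0
  · rwa [pow_zero, orderOf_eq_one_iff] at hk
  · refine absurd ((dvd_pow_self p hk0.ne').trans ?_) hKp
    rw [← hk, ← Subgroup.orderOf_mk h hh]
    exact orderOf_dvd_natCard _

theorem commutator_le_centralizer_cyclic (A : Subgroup H) [A.Normal] [IsCyclic A] :
    commutator H ≤ Subgroup.centralizer (A : Set H) := by
  obtain ⟨⟨g, hg⟩, hgen⟩ := IsCyclic.exists_generator (α := A)
  have key : ∀ a : H, ∃ i : ℤ, ∀ x ∈ A, a * x * a⁻¹ = x ^ i := by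
    intro a
    obtain ⟨i, hi⟩ := hgen ⟨a * g * a⁻¹, Subgroup.Normal.conj_mem inferInstance g hg a⟩
    refine ⟨i, fun x hx => ?_⟩
    obtain ⟨j, hj⟩ := hgen ⟨x, hx⟩
    have hj' : g ^ j = x := by simpa using congrArg Subtype.val hj
    have hi' : g ^ i = a * g * a⁻¹ := by simpa using congrArg Subtype.val hi
    rw [← hj', ← conj_zpow, ← hi', ← zpow_mul, ← zpow_mul, mul_comm]
  rw [commutator_def, Subgroup.commutator_le]
  intro a _ b _
  rw [Subgroup.mem_centralizer_iff]
  intro x hx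
  obtain ⟨i, hi⟩ := key a
  obtain ⟨j, hj⟩ := key b
  have h2 : ∀ y ∈ A, a * b * y * (a * b)⁻¹ = b * a * y * (b * a)⁻¹ := by
    intro y hy
    rw [show a * b * y * (a * b)⁻¹ = a * (b * y * b⁻¹) * a⁻¹ by group,
      show b * a * y * (b * a)⁻¹ = b * (a * y * a⁻¹) * b⁻¹ by group,
      hj y hy, hi y hy, hi _ (A.zpow_mem hy j), hj _ (A.zpow_mem hy i), ← zpow_mul, ← zpow_mul, mul_comm]
  have h3 := h2 ((b * a)⁻¹ * x * (b * a)) (by
    simpa using Subgroup.Normal.conj_mem (H := A) inferInstance x hx (b * a)⁻¹)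
  have h4 : ⁅a, b⁆ * x * ⁅a, b⁆⁻¹ = x := by
    rw [commutatorElement_def]
    calc a * b * a⁻¹ * b⁻¹ * x * (a * b * a⁻¹ * b⁻¹)⁻¹
        = a * b * ((b * a)⁻¹ * x * (b * a)) * (a * b)⁻¹ := by group
      _ = b * a * ((b * a)⁻¹ * x * (b * a)) * (b * a)⁻¹ := h3
      _ = x := by group
  exact (mul_inv_eq_iff_eq_mul.1 h4).symm

theorem Data.cyclic_or_quaternion (D : Data ρ p) {q : ℕ} [Fact q.Prime] {P : Subgroup H} (hP : IsPGroup q P)
    (hqp : q ≠ p) : IsCyclic P ∨ (q = 2 ∧ ∃ n : ℕ, Nonempty (P ≃* QuaternionGroup (2 ^ n))) := by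
  refine CfsgLib.Solvable.isCyclic_or_quaternion hP fun x y hx hy => ?_
  let L := V ⋊[ρ] H
  set N : Subgroup L := (SemidirectProduct.inl : V →* L).range with hN
  have : Finite L := Finite.of_equiv _ SemidirectProduct.equivProd.symm
  have hNn : N.Normal := by
    rw [hN, SemidirectProduct.range_inl_eq_ker_rightHom]; infer_instance
  let e := Subgroup.equivMapOfInjective P (SemidirectProduct.inr : H →* L) SemidirectProduct.inr_injective
  have hPp : ¬ p ∣ Nat.card P := by
    obtain ⟨k, hk⟩ := IsPGroup.iff_card.1 hP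
    rw [hk]
    exact fun h => hqp ((Nat.prime_dvd_prime_iff_eq D.hp Fact.out).1 (D.hp.dvd_of_dvd_pow h)).symm
  obtain ⟨i, hi⟩ := CfsgLib.Solvable.mem_zpowers_of_fpf_pGroup (p := q) (K := N)
    (P := P.map (SemidirectProduct.inr : H →* L))
    (fun h => by
      obtain ⟨v, hv⟩ := D.hne
      have h1 : (SemidirectProduct.inl v : L) ∈ N := ⟨v, rfl⟩
      rw [h, Subgroup.mem_bot] at h1
      exact hv (SemidirectProduct.inl_injective (h1.trans (map_one _).symm)))
    (by rw [Subgroup.normalizer_eq_top]; exact le_top)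
    (fun a ha ha1 => by
      obtain ⟨h, hh, rfl⟩ := ha
      rw [Subgroup.eq_bot_iff_forall]
      rintro _ ⟨⟨v, rfl⟩, hc⟩
      by_contra hv
      have hv' : v ≠ 1 := fun e => hv (by rw [e, map_one])
      have hc' := Subgroup.mem_centralizer_singleton_iff.1 hc
      have h2 : (SemidirectProduct.inl (ρ h v) : L) = SemidirectProduct.inl v := by
        rw [SemidirectProduct.inl_aut, ← hc', map_inv, mul_inv_cancel_right]
      exact ha1 (by rw [D.fpf_mem hPp hh hv' (SemidirectProduct.inl_injective h2), map_one]))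
    (hP.map _) (x := e x) (y := e y) (by rw [MulEquiv.orderOf_eq]; exact hx)
    (by rw [MulEquiv.orderOf_eq]; exact hy)
  exact ⟨i, e.injective (by rw [map_zpow]; exact hi)⟩

theorem Data.case_quaternion (D : Data ρ p) [Group.IsSolvable H] {K : Subgroup H} {a : ℕ}
    (hKV : Nat.card K + 1 = Nat.card V) (hK : Nat.card H = Nat.card K * p ^ a) (hKp : ¬ p ∣ Nat.card K)
    {h : H} {k : ℕ} (hk : orderOf h = p ^ k) {q : ℕ} (hq : q.Prime) (hnc : ¬ IsCyclic (Cfsg.pCore q H))
    (hh : h ∉ Subgroup.centralizer (Cfsg.pCore q H : Set H)) : commutator H ≤ K := by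
  classical
  have := Fact.mk D.hp
  have := Fact.mk hq
  have hqp : q ≠ p := by
    rintro rfl
    exact hnc (by rw [D.hbot]; infer_instance)
  have hQ2 := CfsgLib.Cores.isPGroup_pCore (G := H) q
  obtain ⟨rfl, m, ⟨e⟩⟩ := (D.cyclic_or_quaternion hQ2 hqp).resolve_left hnc
  set Q := Cfsg.pCore 2 H with hQdef
  have hQn : Q.Normal := by rw [hQdef]; infer_instance
  obtain ⟨m, rfl⟩ : ∃ j, m = j + 1 := by
    rcases m with _ | j
    · exfalso
      refine hnc (e.isCyclic.2 ?_)
      rw [pow_zero]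
      exact QuaternionGroup.quaternionGroup_one_isCyclic
    · exact ⟨j, rfl⟩
  obtain ⟨x, y, hx, hy, hox, hoy, hyx, hyy, hS⟩ := CfsgLib.Invol.quaternion_gens Q m e
  have hho : (orderOf h).Coprime 2 := by
    rw [hk]; exact ((Nat.coprime_primes D.hp Nat.prime_two).2 (Ne.symm hqp)).pow_left k
  have hm : m = 0 := by
    by_contra hm
    obtain ⟨i, hi | hi⟩ := hS _ (hQn.conj_mem x hx h)
    · exact hh (CfsgLib.Icosa.centralizes_quaternion hy hox hyx hS hho ⟨i, by simpa using hi.symm⟩ (hQn.conj_mem y hy h))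
    · have h5 : orderOf (y * x ^ i) ∣ 4 := by
        refine orderOf_dvd_of_pow_eq_one ?_
        have hyi : y * x ^ i * y⁻¹ = x⁻¹ ^ i := by rw [← hyx, conj_pow]
        have h6 : (y * x ^ i) * (y * x ^ i) = y * y := by
          calc (y * x ^ i) * (y * x ^ i) = (y * x ^ i * y⁻¹) * (y * y) * x ^ i := by group
            _ = y * y := by
              rw [hyi, hyy, inv_pow, mul_assoc, (Commute.pow_pow_self x _ i).eq, inv_mul_cancel_left]
        rw [show (4 : ℕ) = 2 * 2 from rfl, pow_mul, pow_two (y * x ^ i), h6, ← pow_two y, ← pow_mul,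
          show 2 * 2 = orderOf y from hoy.symm]
        exact pow_orderOf_eq_one y
      have hoc : orderOf (h * x * h⁻¹) = orderOf x := orderOf_injective (MulAut.conj h).toMonoidHom
        (MulAut.conj h).injective x
      rw [← hi, hoc, hox] at h5
      have h6 := Nat.le_of_dvd (by norm_num) h5
      have h7 : 2 ^ 3 ≤ 2 ^ (m + 2) := Nat.pow_le_pow_right (by norm_num) (by omega)
      omega
  subst hm
  have hox4 : orderOf x = 4 := hox
  have hyy2 : y * y = x ^ 2 := hyy
  -- the automorphisms of the quaternion group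
  have hQ8 : Nat.card Q = 8 := by
    rw [Nat.card_congr e.toEquiv, Nat.card_eq_fintype_card, QuaternionGroup.card]; rfl
  let eQ : Q ≃* QuaternionGroup 2 := e
  have hAut : Nat.card (MulAut Q) = 24 := by
    obtain ⟨s⟩ := Cfsg.Agent.S3742.result
    rw [Nat.card_congr ((MulAut.congr eQ).toEquiv.trans s.toEquiv), Nat.card_perm, Nat.card_fin]
    rfl
  let c : H →* MulAut Q := MulAut.conjNormal
  have hker : ∀ {g : H}, c g = 1 ↔ g ∈ Subgroup.centralizer (Q : Set H) := by
    intro g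
    rw [Subgroup.mem_centralizer_iff]
    constructor
    · intro hg u hu
      have h1 := congrArg (fun f : MulAut Q => ((f ⟨u, hu⟩ : Q) : H)) hg
      simp only [c, MulAut.conjNormal_apply, MulAut.one_apply] at h1
      exact (mul_inv_eq_iff_eq_mul.1 h1).symm
    · intro hg
      ext u
      simp only [c, MulAut.conjNormal_apply, MulAut.one_apply]
      rw [← hg u u.2, mul_inv_cancel_right]
  -- `p = 3`
  have hp3 : p = 3 := by
    have h1 : orderOf (c h) ∣ p ^ k := hk ▸ orderOf_map_dvd c h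
    obtain ⟨j, -, hj⟩ := (Nat.dvd_prime_pow D.hp).1 h1
    have hj0 : j ≠ 0 := by
      rintro rfl
      rw [pow_zero, orderOf_eq_one_iff] at hj
      exact hh (hker.1 hj)
    have h2 : p ∣ 24 := hAut ▸ (dvd_pow_self p hj0).trans (hj ▸ orderOf_dvd_natCard _)
    have h3 : p ∣ 2 ^ 3 * 3 := h2
    rcases D.hp.dvd_mul.1 h3 with h4 | h4
    · exact absurd ((Nat.prime_dvd_prime_iff_eq D.hp Nat.prime_two).1 (D.hp.dvd_of_dvd_pow h4)).symm hqp
    · exact (Nat.prime_dvd_prime_iff_eq D.hp Nat.prime_three).1 h4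
  subst hp3
  have hQK : Q ≤ K := le_hall D.hp hK hKp (by rw [hQ8]; decide)
  -- the central involution inverts `V`
  have hz : ∀ v : V, ρ (x ^ 2) v = v⁻¹ := by
    intro v
    have hz2 : x ^ 2 * x ^ 2 = 1 := by rw [← pow_add, ← pow_orderOf_eq_one x, hox4]
    have hfix : ρ (x ^ 2) (v * ρ (x ^ 2) v) = v * ρ (x ^ 2) v := by
      rw [map_mul, ← MulAut.mul_apply, ← map_mul, hz2, map_one, MulAut.one_apply, mul_comm]
    by_contra hne
    have h1 : v * ρ (x ^ 2) v ≠ 1 := fun e => hne (eq_inv_of_mul_eq_one_right e)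
    have h2 := D.fpf_mem hKp (hQK (Q.pow_mem hx 2)) h1 hfix
    have h3 := orderOf_dvd_of_pow_eq_one h2
    rw [hox4] at h3
    norm_num at h3
  have hv3 : ∀ v : V, v * v * v = 1 := fun v => by rw [← D.hexp v, pow_succ, pow_two]
  have hxi : ∀ w : V, ρ x⁻¹ w = (ρ x w)⁻¹ := by
    intro w
    have e1 : x⁻¹ = x * x ^ 2 := inv_eq_of_mul_eq_one_right (by
      rw [← mul_assoc, ← pow_two, ← pow_add, ← pow_orderOf_eq_one x, hox4])
    rw [e1, map_mul, MulAut.mul_apply, hz, map_inv]
  have hm' : ∀ (g g' : H) (v : V), ρ g (ρ g' v) = ρ (g * g') v := fun g g' v => by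
    rw [map_mul, MulAut.mul_apply]
  have hyx' : y * x = x⁻¹ * y := mul_inv_eq_iff_eq_mul.1 hyx
  let T : V →* V := (ρ x).toMonoidHom * (ρ y).toMonoidHom
  have hT : ∀ v, T v = ρ x v * ρ y v := fun v => rfl
  have hTT : ∀ v, T (T v) = v := by
    intro v
    rw [hT, hT, map_mul, map_mul, hm', hm', hm', hm', hyy2, ← pow_two, hz, hyx', ← hm' x⁻¹ y, hxi,
      ← hm' x y]
    have h := hv3 v
    calc v⁻¹ * ρ x (ρ y v) * ((ρ x (ρ y v))⁻¹ * v⁻¹) = (v * v)⁻¹ := by
          rw [mul_assoc, mul_inv_cancel_left, mul_inv_rev]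
      _ = v := inv_eq_of_mul_eq_one_right h
  have hTk : ∀ v, T (ρ (x * y) v) = (ρ (x * y) (T v))⁻¹ := by
    intro v
    rw [hT, hT, map_mul (ρ (x * y)), hm', hm', hm', hm']
    have e1 : x * (x * y) = x ^ 2 * y := by rw [pow_two, mul_assoc]
    have e2 : y * (x * y) = x⁻¹ * x ^ 2 := by rw [← mul_assoc, hyx', mul_assoc, hyy2]
    have e3 : x * y * x = y := by rw [mul_assoc, hyx', mul_inv_cancel_left]
    have e4 : x * y * y = x * x ^ 2 := by rw [mul_assoc, hyy2]
    rw [e1, e2, e3, e4, ← hm' (x ^ 2) y, ← hm' x⁻¹ (x ^ 2), ← hm' x (x ^ 2), hz, hz, hxi, map_inv, inv_inv,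
      mul_inv_rev, inv_inv, mul_comm]
  let W : Subgroup V := T.eqLocus (MonoidHom.id V)
  have hW : ∀ v, v ∈ W ↔ T v = v := fun v => Iff.rfl
  have hcardV : Nat.card V = Nat.card W * Nat.card W := by
    rw [← Nat.card_prod]
    refine (Nat.card_congr (Equiv.ofBijective (fun u : W × W => (u.1 : V) * ρ (x * y) (u.2 : V)) ⟨?_, ?_⟩)).symm
    · rintro ⟨u1, u2⟩ ⟨w1, w2⟩ he
      simp only at he
      have h1 : ρ (x * y) ((u2 : V) * (w2 : V)⁻¹) = (u1 : V)⁻¹ * (w1 : V) := by
        rw [map_mul, map_inv, eq_inv_mul_iff_mul_eq, ← mul_assoc, he, mul_inv_cancel_right]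
      set b := (u2 : V) * (w2 : V)⁻¹
      have hb : T b = b := W.mul_mem u2.2 (W.inv_mem w2.2)
      have hc : T (ρ (x * y) b) = ρ (x * y) b := by rw [h1]; exact W.mul_mem (W.inv_mem u1.2) w1.2
      rw [hTk, hb] at hc
      have h5 : ρ (x * y) b = 1 := by
        have h6 := hv3 (ρ (x * y) b)
        nth_rw 1 [← hc] at h6
        rwa [inv_mul_cancel, one_mul] at h6
      have hb1 : b = 1 := (ρ (x * y)).injective (h5.trans (map_one _).symm)
      rw [hb1, map_one] at h1
      refine Prod.ext (Subtype.ext ?_) (Subtype.ext (mul_inv_eq_one.1 hb1))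
      exact (eq_of_inv_mul_eq_one h1.symm)
    · intro v
      set s := (v * (T v)⁻¹)⁻¹
      have hs : T s = s⁻¹ := by
        simp only [s, map_inv, map_mul, hTT]
        rw [inv_inv, mul_inv_rev, inv_inv]
      refine ⟨(⟨(v * T v)⁻¹, ?_⟩, ⟨(ρ (x * y)).symm s, ?_⟩), ?_⟩
      · rw [hW, map_inv, map_mul, hTT, mul_comm]
      · rw [hW]
        have h1 := hTk ((ρ (x * y)).symm s)
        rw [MulEquiv.apply_symm_apply, hs, inv_inj] at h1
        exact (MulEquiv.eq_symm_apply _).2 h1.symm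
      · simp only [MulEquiv.apply_symm_apply, s]
        rw [← mul_inv, show v * T v * (v * (T v)⁻¹) = v * v by
          rw [mul_mul_mul_comm, mul_inv_cancel, mul_one]]
        exact inv_eq_of_mul_eq_one_right (hv3 v)
  set L := Subgroup.centralizer (Q : Set H) ⊓ K with hL
  have hLK : Nat.card K ≤ 8 * Nat.card L := by
    let f : K →* MulAut Q := c.comp K.subtype
    have hfk : Nat.card f.ker = Nat.card L :=
      Nat.card_congr
        { toFun := fun g => ⟨((g : K) : H), hker.1 g.2, (g : K).2⟩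
          invFun := fun g => ⟨⟨(g : H), g.2.2⟩, hker.2 g.2.1⟩
          left_inv := fun _ => rfl
          right_inv := fun _ => rfl }
    have h1 : f.ker.index ∣ 24 := by
      rw [Subgroup.index_ker, ← hAut]; exact Subgroup.card_subgroup_dvd_card _
    have h2 : f.ker.index ∣ Nat.card K := Subgroup.index_dvd_card _
    have h3 : f.ker.index ∣ 8 :=
      Nat.Coprime.dvd_of_dvd_mul_right (k := f.ker.index) (n := 3)
        ((Nat.prime_three.coprime_iff_not_dvd.2 fun hd => hKp (hd.trans h2)).symm) h1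
    rw [← f.ker.index_mul_card, hfk]
    exact Nat.mul_le_mul_right _ (Nat.le_of_dvd (by norm_num) h3)
  have hW1 : 1 < Nat.card W := by
    by_contra hle
    have : Nat.card W = 1 := le_antisymm (not_lt.1 hle) Nat.card_pos
    rw [this] at hcardV
    obtain ⟨v, hv⟩ := D.hne
    have : 1 < Nat.card V := Finite.one_lt_card_iff_nontrivial.2 ⟨⟨v, 1, hv⟩⟩
    omega
  have hLW : Nat.card L + 1 ≤ Nat.card W := by
    have := Finite.one_lt_card_iff_nontrivial.1 hW1
    obtain ⟨⟨w, hw⟩, hw1⟩ := exists_ne (1 : W)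
    have hw1' : w ≠ 1 := fun e => hw1 (Subtype.ext e)
    let φ : L → (({1} : Set W)ᶜ : Set W) := fun l => ⟨⟨ρ (l : H) w, by
        have hc := Subgroup.mem_centralizer_iff.1 l.2.1
        rw [hW, hT, hm', hm', hc x hx, hc y hy, ← hm', ← hm', ← map_mul, ← hT, (hW w).1 hw]⟩,
      fun e => hw1' ((ρ (l : H)).injective ((congrArg Subtype.val e).trans (map_one _).symm))⟩
    have hφ : Function.Injective φ := by
      intro l l' he
      have h1 : ρ (l : H) w = ρ (l' : H) w := congrArg Subtype.val (congrArg Subtype.val he)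
      have h2 : ρ ((l' : H)⁻¹ * (l : H)) w = w := by
        rw [← hm', h1, hm', inv_mul_cancel, map_one, MulAut.one_apply]
      exact Subtype.ext (inv_mul_eq_one.1 (D.fpf_mem hKp (K.mul_mem (K.inv_mem l'.2.2) l.2.2) hw1' h2)).symm
    have h3 := Nat.card_le_card_of_injective φ hφ
    rw [Nat.card_coe_set_eq, Set.ncard_compl, Set.ncard_singleton] at h3
    omega
  have hWp : IsPGroup 3 W := fun w => ⟨1, Subtype.ext (by push_cast; exact D.hexp w)⟩
  obtain ⟨r, hr⟩ := IsPGroup.iff_card.1 hWp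
  have hW3 : Nat.card W = 3 := by
    have hr2 : r < 2 := by
      by_contra hge
      have : 3 ^ 2 ≤ Nat.card W := hr ▸ Nat.pow_le_pow_right (by norm_num) (not_lt.1 hge)
      nlinarith
    interval_cases r <;> simp_all
  have hK8 : Nat.card K = 8 := by rw [hW3] at hcardV; omega
  have hKQ : K = Q := (Subgroup.eq_of_le_of_card_ge hQK (by rw [hK8, hQ8])).symm
  have hFK : Cfsg.fittingSubgroup H ≤ K := by
    rw [CfsgLib.Cores.fittingSubgroup_eq_iSup_pCore]
    refine iSup_le fun r => ?_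
    have := Fact.mk (Nat.prime_of_mem_primeFactors r.2)
    by_cases hr3 : (r : ℕ) = 3
    · rw [hr3, D.hbot]; exact bot_le
    · refine le_hall D.hp hK hKp fun hd => ?_
      obtain ⟨j, hj⟩ := IsPGroup.iff_card.1 (CfsgLib.Cores.isPGroup_pCore (G := H) (r : ℕ))
      rw [hj] at hd
      exact hr3 ((Nat.prime_dvd_prime_iff_eq Nat.prime_three Fact.out).1 (Nat.prime_three.dvd_of_dvd_pow hd)).symm
  -- a Sylow 3-subgroup acts faithfully on the quaternion group
  obtain ⟨S⟩ : Nonempty (Sylow 3 H) := inferInstance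
  have hSinj : Function.Injective (c.comp (S : Subgroup H).subtype) := by
    rw [injective_iff_map_eq_one]
    intro s hs
    obtain ⟨j, hj⟩ := IsPGroup.iff_orderOf.1 S.2 s
    have h1 : (s : H) ∈ Subgroup.centralizer (Cfsg.fittingSubgroup H : Set H) :=
      Subgroup.centralizer_le (hKQ ▸ hFK) (hker.1 hs)
    exact Subtype.ext (eq_one_of_pelement D.hp hKp (hFK (CfsgLib.Solvable.centralizer_fittingSubgroup_le h1))
      (k := j) (by rw [Subgroup.orderOf_coe]; exact hj))
  have hS24 : Nat.card S ∣ 24 := hAut ▸ Subgroup.card_dvd_of_injective _ hSinj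
  have hKn : K.Normal := hKQ ▸ hQn
  obtain ⟨t, ht⟩ := IsPGroup.iff_card.1 S.2
  have hidx : K.index ∣ 3 := by
    have h1 : K.index = 3 ^ a := Nat.eq_of_mul_eq_mul_left Nat.card_pos (K.card_mul_index.trans hK)
    have h2 : 3 ^ a ∣ Nat.card S := by
      have h3 : 3 ^ a ∣ Nat.card (S : Subgroup H) * (S : Subgroup H).index := by
        rw [(S : Subgroup H).card_mul_index, hK]; exact dvd_mul_left _ _
      exact (((Nat.prime_three.coprime_iff_not_dvd).2 S.not_dvd_index).pow_left a).dvd_of_dvd_mul_right h3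
    have h4 : 3 ^ a ∣ 8 * 3 := h2.trans hS24
    rw [h1]
    exact (((Nat.coprime_primes Nat.prime_three Nat.prime_two).2 (by norm_num)).pow a 3).dvd_of_dvd_mul_left h4
  intro g hg
  have hab : ∀ u w : H ⧸ K, u * w = w * u := by
    rcases (Nat.dvd_prime Nat.prime_three).1 hidx with h1 | h1
    · have : Subsingleton (H ⧸ K) := (Nat.card_eq_one_iff_unique.1 (K.index_eq_card ▸ h1)).1
      exact fun u w => Subsingleton.elim _ _
    · have : IsCyclic (H ⧸ K) := isCyclic_of_prime_card (p := 3) (K.index_eq_card ▸ h1)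
      exact fun u w => (IsMulCommutative.is_comm (M := H ⧸ K)).comm u w
  have h2 : commutator H ≤ (QuotientGroup.mk' K).ker := by
    rw [commutator_def, Subgroup.commutator_le]
    intro u _ w _
    rw [MonoidHom.mem_ker, map_commutatorElement, commutatorElement_eq_one_iff_mul_comm]
    exact hab _ _
  rw [QuotientGroup.ker_mk'] at h2
  exact h2 hg

theorem Data.main (D : Data ρ p) [Group.IsSolvable H] :
    Cfsg.HasNormalPComplement p H ∧ ∀ P : Sylow p H, IsMulCommutative (P : Subgroup H) := by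
  classical
  have := Fact.mk D.hp
  obtain ⟨K, a, hKV, hK, hKp⟩ := D.exists_hall
  have key : commutator H ≤ K := by
    by_cases hA : ∀ q : ℕ, q.Prime → ¬ IsCyclic (Cfsg.pCore q H) → ∀ h : H, (∃ k, orderOf h = p ^ k) →
        h ∈ Subgroup.centralizer (Cfsg.pCore q H : Set H)
    · let L : Subgroup H := ⨅ (q : ℕ) (_ : q.Prime) (_ : IsCyclic (Cfsg.pCore q H)),
        Subgroup.centralizer (Cfsg.pCore q H : Set H)
      have hcL : commutator H ≤ L := le_iInf fun q => le_iInf fun _ => le_iInf fun hc => by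
        have := hc
        exact commutator_le_centralizer_cyclic _
      have hLn : L.Normal := Subgroup.normal_iInf_normal fun q => Subgroup.normal_iInf_normal fun _ =>
        Subgroup.normal_iInf_normal fun _ => inferInstance
      refine hcL.trans (le_hall D.hp hK hKp fun hd => ?_)
      obtain ⟨⟨h, hh⟩, ho⟩ := exists_prime_orderOf_dvd_card' p hd
      have hoh : orderOf h = p ^ 1 := by rw [← Subgroup.orderOf_mk h hh, ho, pow_one]
      have hFC : h ∈ Subgroup.centralizer (Cfsg.fittingSubgroup H : Set H) := by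
        rw [CfsgLib.Cores.fittingSubgroup_eq_iSup_pCore, Subgroup.mem_centralizer_iff]
        intro u hu
        refine Subgroup.iSup_induction _ (C := fun u => u * h = h * u) hu (fun r u hu => ?_)
          (by rw [one_mul, mul_one]) (fun u w hu hw => ((show Commute u h from hu).mul_left hw).eq)
        have hr := Nat.prime_of_mem_primeFactors r.2
        refine Subgroup.mem_centralizer_iff.1 ?_ u hu
        by_cases hc : IsCyclic (Cfsg.pCore (r : ℕ) H)
        · exact Subgroup.mem_iInf.1 (Subgroup.mem_iInf.1 (Subgroup.mem_iInf.1 hh r) hr) hc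
        · exact hA r hr hc h ⟨1, hoh⟩
      have hFK : Cfsg.fittingSubgroup H ≤ K := by
        rw [CfsgLib.Cores.fittingSubgroup_eq_iSup_pCore]
        refine iSup_le fun r => ?_
        have := Fact.mk (Nat.prime_of_mem_primeFactors r.2)
        by_cases hrp : (r : ℕ) = p
        · rw [hrp, D.hbot]; exact bot_le
        · refine le_hall D.hp hK hKp fun hd => ?_
          obtain ⟨j, hj⟩ := IsPGroup.iff_card.1 (CfsgLib.Cores.isPGroup_pCore (G := H) (r : ℕ))
          rw [hj] at hd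
          exact hrp ((Nat.prime_dvd_prime_iff_eq D.hp Fact.out).1 (D.hp.dvd_of_dvd_pow hd)).symm
      have h1 := eq_one_of_pelement D.hp hKp (hFK (CfsgLib.Solvable.centralizer_fittingSubgroup_le hFC)) hoh
      rw [h1, orderOf_one, pow_one] at hoh
      exact D.hp.ne_one hoh.symm
    · push Not at hA
      obtain ⟨q, hq, hnc, h, ⟨k, hk⟩, hh⟩ := hA
      exact D.case_quaternion hKV hK hKp hk hq hnc hh
  have hKn : K.Normal := Subgroup.Normal.of_commutator_le _ key
  obtain ⟨P⟩ : Nonempty (Sylow p H) := inferInstance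
  have hKi : K.index = p ^ a := Nat.eq_of_mul_eq_mul_left Nat.card_pos (K.card_mul_index.trans hK)
  have hPc : Nat.card P = p ^ a := by
    rw [P.card_eq_multiplicity, hK, Nat.factorization_mul Nat.card_pos.ne' (pow_ne_zero a D.hp.ne_zero),
      Finsupp.add_apply, Nat.factorization_eq_zero_of_not_dvd hKp, zero_add, D.hp.factorization_pow,
      Finsupp.single_eq_same]
  refine ⟨⟨P, K, hKn, Subgroup.isComplement'_of_coprime ?_ ?_⟩, fun Q => ?_⟩
  · rw [hPc, hK]
  · rw [hPc]; exact (((D.hp.coprime_iff_not_dvd).2 hKp).symm).pow_right a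
  · refine ⟨⟨fun u w => Subtype.ext (commutatorElement_eq_one_iff_mul_comm.1 ?_)⟩⟩
    have hmem : ⁅(u : H), (w : H)⁆ ∈ K :=
      key (Subgroup.commutator_mem_commutator (Subgroup.mem_top (u : H)) (Subgroup.mem_top (w : H)))
    obtain ⟨j, hj⟩ := IsPGroup.iff_orderOf.1 Q.2 ⁅u, w⁆
    exact eq_one_of_pelement D.hp hKp hmem (k := j) (by
      rw [← hj, ← Subgroup.orderOf_coe]
      rfl)

end abstract

/-- Let G be a finite solvable group of order greater than 2 with an irreducible character nonzero on exactly two conjugacy classes. Then there is exactly one prime p with O_p(G) ≠ 1, and the quotient G/O_p(G) has a normal p-complement and commutative Sylow p-subgroups. -/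
theorem result {G : Type*} [Group G] [Finite G] [hs : Group.IsSolvable G] (hG : 2 < Nat.card G) (χ : Cfsg.IrrCharacter G) (hχ : Nat.card {C : ConjClasses G // ∃ g ∈ C.carrier, (χ : G → ℂ) g ≠ 0} = 2) :
    ∃ p : ℕ, p.Prime ∧ (∀ q : ℕ, q.Prime → (Cfsg.pCore q G ≠ ⊥ ↔ q = p)) ∧
      Cfsg.HasNormalPComplement p (G ⧸ Cfsg.pCore p G) ∧ ∀ Q : Sylow p (G ⧸ Cfsg.pCore p G), IsMulCommutative (Q : Subgroup (G ⧸ Cfsg.pCore p G)) := by
  classical
  obtain ⟨N, hNn, hN, hN1⟩ : ∃ N : Subgroup G, N.Normal ∧ (∀ g, g ∈ N ↔ (χ : G → ℂ) g ≠ 0) ∧ N ≠ ⊥ := by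
    obtain ⟨N, h1, h2, -, -, h3, -⟩ := Cfsg.Agent.S4835.result hG χ hχ
    exact ⟨N, h1, fun g => (h3 g).symm, h2⟩
  obtain ⟨N', hN'n, hN'1, hmin, ⟨p, hp, hel⟩, hN', htr⟩ := Cfsg.Agent.S4835.result hG χ hχ
  obtain rfl : N' = N := Subgroup.ext fun g => (hN' g).symm.trans (hN g).symm
  have := Fact.mk hp
  have := Fintype.ofFinite N'
  have hNp : IsPGroup p N' := fun u => ⟨1, Subtype.ext (by push_cast; rw [pow_one]; exact hel.2 _ u.2)⟩
  obtain ⟨hsyl, -⟩ := TwoClass.exists_sylow hG hχ hN hN1 hNp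
  set O := Cfsg.pCore p G with hO
  have hNO : N' ≤ O := CfsgLib.Cores.le_pCore hNp
  have hOc : ∀ g ∈ O, ∀ u : N', g * u = u * g := by
    intro g hg u
    by_cases hu : (u : G) = 1
    · rw [hu, one_mul, mul_one]
    obtain ⟨P, hP⟩ := hsyl u u.2 hu
    have h1 : g ∈ Subgroup.centralizer ({(u : G)} : Set G) := by
      rw [hP]; exact (CfsgLib.Cores.isPGroup_pCore p).le_sylow_of_normal P hg
    exact Subgroup.mem_centralizer_singleton_iff.1 h1
  refine ⟨p, hp, fun q hq => ⟨fun hne => ?_, ?_⟩, ?_⟩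
  · have := Fact.mk hq
    by_contra hqp
    have h1 : N' ≤ Cfsg.pCore q G := hmin _ inferInstance hne
    have h2 : IsPGroup q N' := (CfsgLib.Cores.isPGroup_pCore q).to_le h1
    exact hN1 (Subgroup.eq_bot_of_card_eq N' (by
      obtain ⟨i, hi⟩ := IsPGroup.iff_card.1 h2
      obtain ⟨j, hj⟩ := IsPGroup.iff_card.1 hNp
      rcases Nat.eq_zero_or_pos i with rfl | hi0
      · rw [hi, pow_zero]
      · exact absurd ((Nat.prime_dvd_prime_iff_eq hq hp).1
          (hq.dvd_of_dvd_pow (hj ▸ hi ▸ dvd_pow_self q hi0.ne'))) hqp))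
  · rintro rfl
    exact fun h => hN1 (le_bot_iff.1 (h ▸ hNO))
  letI : CommGroup N' := { (inferInstance : Group N') with mul_comm := fun a b => hel.1.is_comm.comm a b }
  let ρ : G ⧸ O →* MulAut N' := QuotientGroup.lift O (MulAut.conjNormal : G →* MulAut N') (fun g hg => by
    ext u
    simp only [MulAut.conjNormal_apply, MulAut.one_apply]
    rw [hOc g hg u, mul_inv_cancel_right])
  have hρ : ∀ (g : G) (u : N'), ((ρ (g : G ⧸ O) u : N') : G) = g * u * g⁻¹ := fun g u => by
    exact MulAut.conjNormal_apply g u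
  have D : Data ρ p :=
    { hp := hp
      hexp := fun u => Subtype.ext (by push_cast; exact hel.2 _ u.2)
      hne := by
        obtain ⟨u, hu, hu1⟩ := Subgroup.bot_or_exists_ne_one N' |>.resolve_left hN1
        exact ⟨⟨u, hu⟩, fun e => hu1 (congrArg Subtype.val e)⟩
      hstab := fun u hu h he => by
        obtain ⟨g, rfl⟩ := QuotientGroup.mk_surjective h
        have hu' : (u : G) ≠ 1 := fun e => hu (Subtype.ext e)
        obtain ⟨P, hP⟩ := hsyl u u.2 hu'
        have hg : g ∈ (P : Subgroup G) := by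
          rw [← hP, Subgroup.mem_centralizer_singleton_iff]
          have h1 := congrArg Subtype.val he
          rw [hρ] at h1
          exact mul_inv_eq_iff_eq_mul.1 h1
        obtain ⟨k, hk⟩ := IsPGroup.iff_orderOf.1 P.2 ⟨g, hg⟩
        rw [Subgroup.orderOf_mk] at hk
        obtain ⟨j, -, hj⟩ := (Nat.dvd_prime_pow hp).1 (hk ▸ orderOf_map_dvd (QuotientGroup.mk' O) g)
        exact ⟨j, hj⟩
      htrans := fun u w hu hw => by
        obtain ⟨g, hg⟩ := htr u u.2 w w.2 (fun e => hu (Subtype.ext e)) (fun e => hw (Subtype.ext e))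
        exact ⟨(g : G ⧸ O), Subtype.ext ((hρ g u).trans hg)⟩
      hbot := CfsgLib.Cores.pCore_quotient_self p }
  exact D.main

end Cfsg.Agent.S4840
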