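import Cfsg.Statements.S4843
import Cfsg.Agent.Lib.Char.Ortho
import Cfsg.Agent.Lib.Char.Integral
import Cfsg.Agent.Lib.CharNormal.Galois
import Cfsg.Agent.Lib.Cores.Fitting
import Mathlib.RepresentationTheory.Character
import Mathlib.GroupTheory.Solvable
import Mathlib.GroupTheory.Nilpotent

set_option autoImplicit false
open Cfsg

namespace Cfsg.Agent.S4843

section Aux

open CfsgLib.Char CfsgLib.CharNormal CfsgLib.Cores
open Module
open scoped ComplexConjugate TensorProduct

universe u

variable {G : Type u} [Group G] [Fintype G]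

/-- A central element acts on an irreducible representation by a scalar of absolute value one. -/
theorem exists_scalar {V : Type*} [AddCommGroup V] [Module ℂ V] [FiniteDimensional ℂ V]
    (ρ : Representation ℂ G V) [ρ.IsIrreducible] {z : G} (hz : z ∈ Subgroup.center G) :
    ∃ a : ℂ, ρ z = a • LinearMap.id ∧ ρ.character z = a * (finrank ℂ V : ℂ) := by
  obtain ⟨a, ha⟩ := exists_eq_smul_id ρ (ρ z) fun g => by
    rw [← Module.End.mul_eq_comp, ← Module.End.mul_eq_comp, ← map_mul, ← map_mul,
      Subgroup.mem_center_iff.mp hz g]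
  exact ⟨a, ha, by simp [Representation.character, ha]⟩

variable {n m : ℕ} (ρ : Representation ℂ G (Fin n → ℂ)) (ρ' : Representation ℂ G (Fin m → ℂ)) (c : ℕ)

/-- The twisted diagonal operator. -/
noncomputable def T (x : G) : (Fin n → ℂ) ⊗[ℂ] (Fin m → ℂ) →ₗ[ℂ] (Fin n → ℂ) ⊗[ℂ] (Fin m → ℂ) :=
  TensorProduct.map (ρ x) (ρ' (x ^ c))

theorem trace_T (x : G) :
    LinearMap.trace ℂ _ (T ρ ρ' c x) = ρ.character x * ρ'.character (x ^ c) :=
  LinearMap.trace_tensorProduct' _ _

theorem T_mul (x y : G) : T ρ ρ' c x * T ρ ρ' c y =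
    TensorProduct.map (ρ (x * y)) (ρ' (x ^ c * y ^ c)) := by
  rw [map_mul, map_mul, T, T, ← TensorProduct.map_mul]

theorem commute_sum (M : Subgroup G) [hM : M.Normal] [Fintype M] (g : G) :
    (∑ x : M, T ρ ρ' c (x : G)) ∘ₗ (ρ.tprod ρ') g = (ρ.tprod ρ') g ∘ₗ ∑ x : M, T ρ ρ' c (x : G) := by
  rw [← Module.End.mul_eq_comp, ← Module.End.mul_eq_comp, Finset.sum_mul, Finset.mul_sum,
    ← Equiv.sum_comp (MulAut.conjNormal g : MulAut M).toEquiv]
  refine Finset.sum_congr rfl fun x _ => ?_
  show T ρ ρ' c ((MulAut.conjNormal g x : M) : G) * (ρ.tprod ρ') g = _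
  rw [MulAut.conjNormal_apply, Representation.tprod_apply, T, T, ← TensorProduct.map_mul,
    ← TensorProduct.map_mul, ← map_mul, ← map_mul, ← map_mul, ← map_mul, conj_pow,
    inv_mul_cancel_right, inv_mul_cancel_right]

variable [hρ : ρ.IsIrreducible] [hρ' : ρ'.IsIrreducible]

theorem sum_scalar (hirr : IsIrrCharacter G (ρ.character * ρ'.character)) (M : Subgroup G) [M.Normal]
    [Fintype M] : ∃ s : ℂ, ∑ x : M, T ρ ρ' c (x : G) = s • LinearMap.id := by
  rw [← Representation.char_tensor] at hirr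
  have := isIrreducible_of_isIrrCharacter (ρ.tprod ρ') hirr
  exact exists_eq_smul_id (ρ.tprod ρ') _ (commute_sum ρ ρ' c M)

omit hρ' in
/-- A non-central element with a central commutator is a zero. -/
theorem char_eq_zero {w u : G} (hfaith : ∀ g, ρ.character g = ρ.character 1 → g = 1)
    (ha : u * w * u⁻¹ * w⁻¹ ∈ Subgroup.center G) (hne : u * w ≠ w * u) : ρ.character w = 0 := by
  obtain ⟨a, ha', hat⟩ := exists_scalar ρ ha
  have h1 : ρ.character (u * w * u⁻¹) = ρ.character w := Representation.char_conj ρ w u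
  rw [show u * w * u⁻¹ = (u * w * u⁻¹ * w⁻¹) * w by group] at h1
  have h2 : ρ.character ((u * w * u⁻¹ * w⁻¹) * w) = a * ρ.character w := by
    show LinearMap.trace ℂ _ (ρ ((u * w * u⁻¹ * w⁻¹) * w)) = a * LinearMap.trace ℂ _ (ρ w)
    rw [map_mul, ha', Module.End.mul_eq_comp, LinearMap.smul_comp, LinearMap.id_comp, map_smul,
      smul_eq_mul]
  rw [h2] at h1
  by_contra hw
  have ha1 : a = 1 := mul_right_cancel₀ hw (h1.trans (one_mul _).symm)
  refine hne ?_
  have h3 := hfaith _ (by rw [hat, ha1, one_mul, Representation.char_one] :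
    ρ.character (u * w * u⁻¹ * w⁻¹) = ρ.character 1)
  rwa [mul_inv_eq_one, mul_inv_eq_iff_eq_mul] at h3

variable (hc : ∀ x : G, ρ'.character (x ^ c) = conj (ρ.character x))

include hc

theorem T_center {z : G} (hz : z ∈ Subgroup.center G) (hnm : n = m) (hn : n ≠ 0) :
    TensorProduct.map (ρ z) (ρ' (z ^ c)) = LinearMap.id := by
  obtain ⟨a, ha, hat⟩ := exists_scalar ρ hz
  obtain ⟨b, hb, hbt⟩ := exists_scalar ρ' (Subgroup.pow_mem _ hz c)
  rw [Module.finrank_fin_fun] at hat hbt
  have hab : b = conj a := by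
    have h := hc z
    rw [hat, hbt, map_mul, map_natCast, hnm] at h
    exact mul_right_cancel₀ (by exact_mod_cast hnm ▸ hn) h
  have hpow : ∀ k : ℕ, ρ (z ^ k) = a ^ k • LinearMap.id := by
    intro k
    induction k with
    | zero => simp [Module.End.one_eq_id]
    | succ k ih =>
      rw [pow_succ, map_mul, ih, ha, pow_succ, Module.End.mul_eq_comp, LinearMap.smul_comp,
        LinearMap.comp_smul, LinearMap.id_comp, smul_smul]
  have hao : a ^ orderOf z = 1 := by
    have h := congrArg (LinearMap.trace ℂ (Fin n → ℂ)) (hpow (orderOf z))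
    rw [pow_orderOf_eq_one, map_one, map_smul, Module.End.one_eq_id, LinearMap.trace_id,
      Module.finrank_fin_fun, smul_eq_mul] at h
    exact (mul_eq_right₀ (by exact_mod_cast hn)).mp h.symm
  have hnorm : a * conj a = 1 := by
    rw [Complex.mul_conj, Complex.normSq_eq_norm_sq,
      norm_eq_one_of_pow_eq_one' (orderOf_pos z).ne' hao]
    simp
  rw [ha, hb, TensorProduct.map_smul_left, TensorProduct.map_smul_right, TensorProduct.map_id,
    smul_smul, hab, hnorm, one_smul]

theorem abelian_le_center (hnm : n = m) (hn : n ≠ 0)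
    (hirr : IsIrrCharacter G (ρ.character * ρ'.character))
    (hfaith : ∀ g, ρ.character g = ρ.character 1 → g = 1) (A : Subgroup G) [A.Normal] [Fintype A]
    (hA : ∀ a ∈ A, ∀ b ∈ A, a * b = b * a) : A ≤ Subgroup.center G := by
  classical
  obtain ⟨s, hs⟩ := sum_scalar ρ ρ' c hirr A
  set S := ∑ x : A, T ρ ρ' c (x : G) with hS
  have hmul : ∀ x y : A, T ρ ρ' c (x : G) * T ρ ρ' c (y : G) = T ρ ρ' c ((x * y : A) : G) := fun x y => by
    rw [T_mul, T, Subgroup.coe_mul, (show Commute (x : G) y from hA x x.2 y y.2).mul_pow]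
  have hSS : S * S = (Nat.card A : ℂ) • S := by
    conv_lhs => rw [hS, Finset.sum_mul]
    rw [Finset.sum_congr rfl (g := fun _ => S) fun x _ => ?_]
    · rw [Finset.sum_const, Finset.card_univ, ← Nat.card_eq_fintype_card, Nat.cast_smul_eq_nsmul]
    · rw [Finset.mul_sum, hS, ← Equiv.sum_comp (Equiv.mulLeft x) (fun y : A => T ρ ρ' c (y : G))]
      exact Finset.sum_congr rfl fun y _ => hmul x y
  have hid : (LinearMap.trace ℂ ((Fin n → ℂ) ⊗[ℂ] (Fin m → ℂ))) LinearMap.id = (n : ℂ) * n := by
    rw [LinearMap.trace_id, Module.finrank_tensorProduct, Module.finrank_fin_fun,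
      Module.finrank_fin_fun, Nat.cast_mul, ← hnm]
  have htr : s * ((n : ℂ) * n) = ((∑ x : A, Complex.normSq (ρ.character (x : G)) : ℝ) : ℂ) := by
    have h := congrArg (LinearMap.trace ℂ _) hs
    rw [map_smul, hid, smul_eq_mul, hS, map_sum] at h
    rw [← h, Complex.ofReal_sum]
    exact Finset.sum_congr rfl fun x _ => by rw [trace_T, hc, Complex.mul_conj]
  have hs0 : s ≠ 0 := by
    intro h0
    rw [h0, zero_mul] at htr
    have hz : (∑ x : A, Complex.normSq (ρ.character (x : G)) : ℝ) = 0 := by exact_mod_cast htr.symm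
    have h1 := (Finset.sum_eq_zero_iff_of_nonneg fun x _ => Complex.normSq_nonneg _).mp hz 1
      (Finset.mem_univ _)
    rw [OneMemClass.coe_one, Representation.char_one, Module.finrank_fin_fun,
      Complex.normSq_natCast, mul_self_eq_zero] at h1
    exact hn (by exact_mod_cast h1)
  have hsA : s = (Nat.card A : ℂ) := by
    rw [hs] at hSS
    have h := congrArg (LinearMap.trace ℂ _) hSS
    simp only [Module.End.mul_eq_comp, LinearMap.smul_comp, LinearMap.comp_smul, LinearMap.id_comp,
      smul_smul, map_smul, hid, smul_eq_mul] at h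
    have hn2 : ((n : ℂ) * n) ≠ 0 := mul_ne_zero (by exact_mod_cast hn) (by exact_mod_cast hn)
    exact mul_right_cancel₀ hs0 (mul_right_cancel₀ hn2 h)
  have hsum : ∑ x : A, Complex.normSq (ρ.character (x : G)) = ∑ _x : A, (n : ℝ) * n := by
    rw [hsA] at htr
    rw [Finset.sum_const, Finset.card_univ, ← Nat.card_eq_fintype_card, nsmul_eq_mul]
    exact_mod_cast htr.symm
  have hle : ∀ x : A, Complex.normSq (ρ.character (x : G)) ≤ (n : ℝ) * n := fun x => by
    rw [Complex.normSq_eq_norm_sq, sq]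
    have h := norm_character_le ρ (x : G)
    rw [Module.finrank_fin_fun] at h
    exact mul_self_le_mul_self (norm_nonneg _) h
  intro w hw
  have h1 := (Finset.sum_eq_sum_iff_of_le fun x _ => hle x).mp hsum ⟨w, hw⟩ (Finset.mem_univ _)
  rw [Complex.normSq_eq_norm_sq, sq] at h1
  obtain ⟨ω, hω⟩ := (norm_character_eq_iff ρ w).mp (by
    rw [Module.finrank_fin_fun]
    exact (mul_self_inj (norm_nonneg _) (Nat.cast_nonneg n)).mp h1)
  refine Subgroup.mem_center_iff.mpr fun g => ?_
  have h2 : ρ (g * w) = ρ (w * g) := by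
    rw [map_mul, map_mul, hω]
    exact LinearMap.ext fun v => by simp
  have h3 := hfaith ((g * w) * (w * g)⁻¹) (by
    have he : ρ ((g * w) * (w * g)⁻¹) = ρ 1 := by
      rw [map_mul, h2, ← map_mul, mul_inv_cancel]
    simp only [Representation.character, he])
  exact mul_inv_eq_one.mp h3

theorem nilpotent_le_center (hnm : n = m) (hn : n ≠ 0)
    (hirr : IsIrrCharacter G (ρ.character * ρ'.character))
    (hfaith : ∀ g, ρ.character g = ρ.character 1 → g = 1) :
    fittingSubgroup G ≤ Subgroup.center G := by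
  classical
  rw [fittingSubgroup_le_iff]
  by_contra hcon
  push Not at hcon
  obtain ⟨M₀, hM₀⟩ := hcon
  obtain ⟨M, ⟨hMn, hMnil, hMZ⟩, hmin⟩ := Set.Finite.exists_minimal
    (s := {M : Subgroup G | M.Normal ∧ Group.IsNilpotent M ∧ ¬ M ≤ Subgroup.center G})
    (Set.toFinite _) ⟨M₀, hM₀⟩
  have := Fintype.ofFinite M
  have hC : ⁅M, M⁆ ≤ Subgroup.center G := by
    by_contra h
    have hle : ⁅M, M⁆ ≤ M := Subgroup.commutator_le_left M M
    have hnil : Group.IsNilpotent ↥⁅M, M⁆ :=
      nilpotent_of_mulEquiv (Subgroup.subgroupOfEquivOfLe hle)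
    have hge := hmin ⟨inferInstance, hnil, h⟩ hle
    have hne : (⊤ : Subgroup M) ≠ ⊥ := fun e => hMZ fun x hx => by
      have : (⟨x, hx⟩ : M) ∈ (⊥ : Subgroup M) := e ▸ Subgroup.mem_top _
      rw [Subgroup.mem_bot] at this
      rw [show x = 1 from congrArg Subtype.val this]
      exact Subgroup.one_mem _
    have hlt := Group.IsSolvable.commutator_lt_of_ne_bot hne
    refine hlt.ne (eq_top_iff.mpr fun x _ => ?_)
    have hx : (x : G) ∈ (commutator M).map M.subtype := by
      rw [Subgroup.map_subtype_commutator]; exact hge x.2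
    obtain ⟨y, hy, hyx⟩ := hx
    rwa [show y = x from Subtype.ext hyx] at hy
  have hcomm : ∀ a ∈ M, ∀ b ∈ M, a * b * a⁻¹ * b⁻¹ ∈ Subgroup.center G := fun a ha b hb => by
    rw [← commutatorElement_def]; exact hC (Subgroup.commutator_mem_commutator ha hb)
  have hzero : ∀ w ∈ M, w ∉ Subgroup.center G → ρ.character w = 0 := by
    intro w hw hwZ
    obtain ⟨u, hu, hne⟩ : ∃ u ∈ M, u * w ≠ w * u := by
      by_contra h
      push Not at h
      let A : Subgroup G := M ⊓ Subgroup.centralizer (M : Set G)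
      have hAn : A.Normal := ⟨fun a ha g => ⟨hMn.conj_mem a ha.1 g,
        Subgroup.mem_centralizer_iff.mpr fun b hb => by
          have := Subgroup.mem_centralizer_iff.mp ha.2 (g⁻¹ * b * g) (by
            have := hMn.conj_mem b hb g⁻¹; simpa using this)
          have e := congrArg (fun v => g * v * g⁻¹) this
          simpa [mul_assoc] using e⟩⟩
      have := Fintype.ofFinite A
      exact hwZ (abelian_le_center ρ ρ' c hc hnm hn hirr hfaith A
        (fun a ha b hb => (Subgroup.mem_centralizer_iff.mp hb.2 a ha.1))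
        ⟨hw, Subgroup.mem_centralizer_iff.mpr fun b hb => h b hb⟩)
    exact char_eq_zero ρ hfaith (hcomm u hu w hw) hne
  obtain ⟨y, hy, hyZ⟩ := SetLike.not_le_iff_exists.mp hMZ
  obtain ⟨s, hs⟩ := sum_scalar ρ ρ' c hirr M
  have hT : ∀ x : M, LinearMap.trace ℂ _ (T ρ ρ' c (x : G) * T ρ ρ' c y) =
      if (x : G) * y ∈ Subgroup.center G then (n : ℂ) * n else 0 := by
    intro x
    rw [T_mul]
    split_ifs with hz
    · set z := (x : G) * y
      have hx : (x : G) = z * y⁻¹ := (mul_inv_cancel_right _ _).symm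
      have hzc : (x : G) ^ c * y ^ c = z ^ c := by
        rw [hx, (show Commute z y⁻¹ from (Subgroup.mem_center_iff.mp hz y⁻¹).symm).mul_pow, mul_assoc,
          inv_pow, inv_mul_cancel, mul_one]
      rw [hzc, T_center ρ ρ' c hc hz hnm hn, LinearMap.trace_id, Module.finrank_tensorProduct,
        Module.finrank_fin_fun, Module.finrank_fin_fun, Nat.cast_mul, hnm]
    · rw [LinearMap.trace_tensorProduct']
      show ρ.character ((x : G) * y) * _ = 0
      rw [hzero _ (M.mul_mem x.2 hy) hz, zero_mul]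
  have h := congrArg (fun f => LinearMap.trace ℂ _ (f * T ρ ρ' c y)) hs
  simp only [Finset.sum_mul, map_sum, hT] at h
  rw [← Finset.sum_filter, Finset.sum_const, nsmul_eq_mul, smul_mul_assoc, map_smul,
    ← Module.End.one_eq_id, one_mul, trace_T, hzero y hy hyZ, zero_mul, smul_zero] at h
  rcases mul_eq_zero.mp h with h | h
  · have hne : (Finset.univ.filter fun x : M => (x : G) * y ∈ Subgroup.center G).Nonempty :=
      ⟨⟨y⁻¹, M.inv_mem hy⟩, Finset.mem_filter.mpr
        ⟨Finset.mem_univ _, by simp [Subgroup.one_mem]⟩⟩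
    exact hne.card_pos.ne' (by exact_mod_cast h)
  · exact hn (by simpa using h)

end Aux

/-- Let G be a finite group with a faithful irreducible character χ (taking the value χ(1) only at the identity) and let k be prime to the order of G, so that g ↦ χ(g^k) is a Galois conjugate of χ. If the pointwise product g ↦ χ(g)·χ(g^k) is again an irreducible character, then the Fitting subgroup of G equals its centre. -/
theorem result {G : Type*} [Group G] [Finite G] (χ : Cfsg.IrrCharacter G) (hfaith : ∀ g : G, (χ : G → ℂ) g = (χ : G → ℂ) 1 → g = 1) (k : ℕ) (hk : Nat.Coprime k (Nat.card G)) (hirr : Cfsg.IsIrrCharacter G (fun g => (χ : G → ℂ) g * (χ : G → ℂ) (g ^ k))) : Cfsg.fittingSubgroup G = Subgroup.center G := by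
  classical
  have := Fintype.ofFinite G
  open CfsgLib.Char CfsgLib.CharNormal CfsgLib.Cores in
  · refine le_antisymm ?_ (le_fittingSubgroup (@CommGroup.isNilpotent _
      { (inferInstance : Group ↥(Subgroup.center G)) with
        mul_comm := fun a b => Subtype.ext (Subgroup.mem_center_iff.mp b.2 a) }))
    obtain ⟨σ, hσ⟩ := exists_ringEquiv_root_pow Nat.card_pos.ne' hk
    obtain ⟨n, ρ, hρ, hρc⟩ := χ.2
    obtain ⟨m, ρ', hρ', hρ'c⟩ := isIrr_ringEquiv σ χ.2
    have hgal : ∀ g, ρ'.character g = (χ : G → ℂ) (g ^ k) := fun g => by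
      rw [hρ'c]
      exact ringEquiv_char_apply hσ (isCharacter_of_isIrr χ.2) (orderOf_dvd_natCard g)
    have hnm : n = m := by
      have h := hgal 1
      rw [one_pow, ← hρc, Representation.char_one, Representation.char_one, Module.finrank_fin_fun,
        Module.finrank_fin_fun] at h
      exact_mod_cast h.symm
    have hn : n ≠ 0 := by
      intro h0
      refine irr_one_ne_zero χ.2 ?_
      rw [← hρc, Representation.char_one, Module.finrank_fin_fun, h0, Nat.cast_zero]
    obtain ⟨c, hc⟩ : ∃ c : ℕ, ∀ x : G, (x ^ c) ^ k = x⁻¹ := by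
      rcases Nat.lt_or_ge 1 (Nat.card G) with hN | hN
      · obtain ⟨c₀, -, h₀⟩ := Nat.exists_mul_mod_eq_one_of_coprime hk hN
        refine ⟨c₀ * (Nat.card G - 1), fun x => ?_⟩
        have h1 : x ^ (k * c₀) = x := by
          rw [← pow_mod_natCard, h₀, pow_one]
        rw [← pow_mul, show c₀ * (Nat.card G - 1) * k = (k * c₀) * (Nat.card G - 1) by ring, pow_mul,
          h1, eq_inv_iff_mul_eq_one, ← pow_succ, Nat.sub_add_cancel hN.le, pow_card_eq_one']
      · have : Subsingleton G := Finite.card_le_one_iff_subsingleton.mp hN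
        exact ⟨0, fun x => Subsingleton.elim _ _⟩
    refine nilpotent_le_center ρ ρ' c (fun x => ?_) hnm hn ?_ ?_
    · rw [hgal, hc, hρc, char_inv (isCharacter_of_isIrr χ.2)]
    · rw [show ρ.character * ρ'.character = fun g => (χ : G → ℂ) g * (χ : G → ℂ) (g ^ k) from
        funext fun g => by rw [Pi.mul_apply, hgal, hρc]]
      exact hirr
    · intro g hg
      rw [hρc] at hg
      exact hfaith g hg

end Cfsg.Agent.S4843
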