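import Cfsg.Statements.S4870
import Cfsg.Agent.Lib.OddChar.Inertia
import Cfsg.Agent.Lib.CharNormal.Gallagher
import Cfsg.Agent.Lib.CharBlocks.Degree

set_option autoImplicit false
open Cfsg

namespace Cfsg.Agent.S4870

open CfsgLib.Char CfsgLib.CharNormal
open scoped ComplexConjugate

variable {G : Type*} [Group G] [Fintype G]

theorem linear_eq_one_of_mem_commutator (lam : IrrCharacter G) (h1 : (lam : G → ℂ) 1 = 1) {x : G}
    (hx : x ∈ _root_.commutator G) : (lam : G → ℂ) x = 1 := by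
  have h := Abelianization.commutator_subset_ker
    (linearHom (isCharacter_of_isIrr lam.2) h1) hx
  rw [MonoidHom.mem_ker] at h
  rw [← linearHom_apply (isCharacter_of_isIrr lam.2) h1, h]
  rfl

theorem le_commutator_of_minimal (N : Subgroup G) (hN : N.Normal)
    (hmin : ∀ M : Subgroup G, M.Normal → M ≤ N → M = ⊥ ∨ M = N)
    (hna : ¬ IsMulCommutative ↥N) : N ≤ _root_.commutator G := by
  rcases hmin ⁅N, N⁆ inferInstance (Subgroup.commutator_le_left N N) with h | h
  · refine absurd ⟨⟨fun a b => Subtype.ext ?_⟩⟩ hna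
    exact commutatorElement_eq_one_iff_mul_comm.mp
      (Subgroup.mem_bot.mp (h ▸ Subgroup.commutator_mem_commutator a.2 b.2))
  · rw [← h, commutator_def]
    exact Subgroup.commutator_mono le_top le_top

/-- Linear characters with a common restriction to `I` number at most the index of `I`. -/
theorem card_le_index (I : Subgroup G) (s : Finset (IrrCharacter G))
    (hl : ∀ l ∈ s, (l : G → ℂ) 1 = 1)
    (hres : ∀ l ∈ s, ∀ m ∈ s, ∀ g ∈ I, (l : G → ℂ) g = (m : G → ℂ) g) : s.card ≤ I.index := by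
  classical
  have := Fintype.ofFinite (G ⧸ I)
  let v : s → (G ⧸ I → ℂ) := fun l x => ((l : IrrCharacter G) : G → ℂ) x.out
  have hv : LinearIndependent ℂ v := by
    have hli : LinearIndependent ℂ
        (fun l : s => ((l : IrrCharacter G) : G → ℂ)) :=
      linearIndependent_irr.comp _ Subtype.val_injective
    rw [Fintype.linearIndependent_iff] at hli ⊢
    intro c hc
    refine hli c (funext fun g => ?_)
    rcases isEmpty_or_nonempty s with he | ⟨⟨l0⟩⟩
    · simp
    set o := (g : G ⧸ I).out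
    have ho : o⁻¹ * g ∈ I := QuotientGroup.eq.mp (QuotientGroup.out_eq' _)
    have h := congrFun hc (g : G ⧸ I)
    simp only [Finset.sum_apply, Pi.smul_apply, smul_eq_mul, Pi.zero_apply, v] at h ⊢
    have he : ∀ l : s, ((l : IrrCharacter G) : G → ℂ) g =
        ((l : IrrCharacter G) : G → ℂ) o * ((l0 : IrrCharacter G) : G → ℂ) (o⁻¹ * g) := fun l => by
      rw [← hres l l.2 l0 l0.2 _ ho,
        ← linear_map_mul (isCharacter_of_isIrr l.1.2) (hl l l.2), mul_inv_cancel_left]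
    simp only [he, ← mul_assoc, ← Finset.sum_mul]
    rw [h, zero_mul]
  have := hv.fintype_card_le_finrank
  rwa [Fintype.card_coe, Module.finrank_fintype_fun_eq_card, ← Nat.card_eq_fintype_card,
    ← Subgroup.index_eq_card] at this

/-- Twists of an induced character by linear characters. -/
theorem card_linear_le (N : Subgroup G) (hN : N.Normal) (hNG : N ≤ _root_.commutator G)
    (φ : IrrCharacter ↥N) (I : Subgroup G)
    (hI : ∀ g : G, g ∈ I ↔ ∀ n n' : ↥N, (n' : G) = g * (n : G) * g⁻¹ →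
      (φ : ↥N → ℂ) n' = (φ : ↥N → ℂ) n)
    (hNI : N ≤ I) [Fintype ↥I] (ψ : IrrCharacter ↥I)
    (hψ : ∀ n : ↥N, (ψ : ↥I → ℂ) (Subgroup.inclusion hNI n) = (φ : ↥N → ℂ) n)
    (P Q : IrrCharacter G → Prop) (hP : ∀ l, P l → (l : G → ℂ) 1 = 1)
    (hQ : ∀ l, P l → ∀ χ : IrrCharacter G,
      (χ : G → ℂ) = indFun I (ψ : ↥I → ℂ) * (l : G → ℂ) → Q χ) :
    Nat.card {l : IrrCharacter G // P l} ≤ I.index * Nat.card {χ : IrrCharacter G // Q χ} := by
  classical
  have := Fintype.ofFinite ↥N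
  have := Fintype.ofFinite ↥(N.subgroupOf I)
  have hT : ∀ g : G, g ∈ I ↔ conjFun N g (φ : ↥N → ℂ) = φ := fun g => by
    rw [hI g]
    refine ⟨fun h => funext fun n => h n _ rfl, fun h n n' e => ?_⟩
    rw [← congrFun h n, conjFun_apply]
    exact congrArg _ (Subtype.ext e)
  have hres : (fun n : ↥N => (ψ : ↥I → ℂ) ⟨n, hNI n.2⟩) = (φ : ↥N → ℂ) := funext hψ
  obtain ⟨hirr, -⟩ := CfsgLib.OddChar.indFun_irr_of_inertia N I φ.2 hT hNI ψ.2
    (by rw [hres, classInner_irr_self φ.2]; exact one_ne_zero)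
  let F : {l : IrrCharacter G // P l} → {χ : IrrCharacter G // Q χ} := fun l =>
    ⟨⟨_, isIrr_mul_linear hirr (isCharacter_of_isIrr l.1.2) (hP l l.2)⟩, hQ l l.2 _ rfl⟩
  have hfib : ∀ l m : {l : IrrCharacter G // P l}, F l = F m → ∀ g ∈ I,
      (l.1 : G → ℂ) g = (m.1 : G → ℂ) g := by
    intro l m hlm g hg
    have he : indFun I (ψ : ↥I → ℂ) * (l.1 : G → ℂ) = indFun I (ψ : ↥I → ℂ) * (m.1 : G → ℂ) :=
      congrArg (fun x : {χ : IrrCharacter G // Q χ} => (x.1 : G → ℂ)) hlm
    rw [indFun_mul _ _ (isClassFunction_of_isIrr l.1.2),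
      indFun_mul _ _ (isClassFunction_of_isIrr m.1.2)] at he
    have htw : ∀ k : {l : IrrCharacter G // P l},
        IsIrrCharacter ↥I ((ψ : ↥I → ℂ) * fun h : ↥I => (k.1 : G → ℂ) h) := fun k =>
      isIrr_mul_linear ψ.2 (isCharacter_res I (isCharacter_of_isIrr k.1.2)) (hP k k.2)
    have hover : ∀ k : {l : IrrCharacter G // P l},
        classInner (fun n : ↥N => ((ψ : ↥I → ℂ) * fun h : ↥I => (k.1 : G → ℂ) h) ⟨n, hNI n.2⟩)
          (φ : ↥N → ℂ) ≠ 0 := fun k => by
      rw [show (fun n : ↥N => ((ψ : ↥I → ℂ) * fun h : ↥I => (k.1 : G → ℂ) h) ⟨n, hNI n.2⟩) =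
        (φ : ↥N → ℂ) from funext fun n => by
          rw [Pi.mul_apply, linear_eq_one_of_mem_commutator k.1 (hP k k.2) (hNG n.2), mul_one]
          exact hψ n, classInner_irr_self φ.2]
      exact one_ne_zero
    obtain ⟨-, huniq⟩ := CfsgLib.OddChar.indFun_irr_of_inertia N I φ.2 hT hNI (htw m) (hover m)
    have h := huniq _ (htw l) (hover l) he
    have hsq := sum_normSq_coset (N := N.subgroupOf I) (isCharacter_of_isIrr ψ.2) (by
      rw [show (fun n : ↥(N.subgroupOf I) => (ψ : ↥I → ℂ) n) =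
        CfsgLib.OddChar.toSub N I (φ : ↥N → ℂ) from funext fun n =>
          hψ ⟨((n : ↥I) : G), n.2⟩]
      exact CfsgLib.OddChar.isIrr_toSub N I hNI φ.2) (⟨g, hg⟩ : ↥I)
    obtain ⟨n, hn⟩ : ∃ n : ↥(N.subgroupOf I), (ψ : ↥I → ℂ) (⟨g, hg⟩ * n) ≠ 0 := by
      by_contra hc
      push Not at hc
      rw [Finset.sum_eq_zero fun n _ => by rw [hc n, zero_mul]] at hsq
      exact (Nat.cast_ne_zero.mpr Nat.card_pos.ne') hsq.symm
    have h' := mul_left_cancel₀ hn (congrFun h (⟨g, hg⟩ * (n : ↥I)))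
    have hn1 : ∀ k : {l : IrrCharacter G // P l}, (k.1 : G → ℂ) (g * ((n : ↥I) : G)) =
        (k.1 : G → ℂ) g := fun k => by
      rw [linear_map_mul (isCharacter_of_isIrr k.1.2) (hP k k.2),
        linear_eq_one_of_mem_commutator k.1 (hP k k.2) (x := ((n : ↥I) : G))
          (hNG (Subgroup.mem_subgroupOf.mp n.2)), mul_one]
    rw [← hn1 l, ← hn1 m]
    exact h'
  rw [Nat.card_eq_fintype_card, Nat.card_eq_fintype_card]
  refine Finset.card_le_mul_card_image_of_maps_to (s := Finset.univ) (t := Finset.univ) (f := F)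
    (fun _ _ => Finset.mem_univ _) I.index fun b _ => ?_
  have h := card_le_index I
    ((Finset.univ.filter fun l => F l = b).map (Function.Embedding.subtype _))
    (fun l hl => by
      obtain ⟨k, -, rfl⟩ := Finset.mem_map.mp hl
      exact hP k k.2)
    (fun l hl m hm => by
      obtain ⟨k, hk, rfl⟩ := Finset.mem_map.mp hl
      obtain ⟨j, hj, rfl⟩ := Finset.mem_map.mp hm
      exact hfib k j ((Finset.mem_filter.mp hk).2.trans (Finset.mem_filter.mp hj).2.symm))
  rwa [Finset.card_map] at h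

theorem charDegree_twist (I : Subgroup G) [Fintype ↥I] (N : Subgroup G) (hNI : N ≤ I)
    (φ : IrrCharacter ↥N) (ψ : IrrCharacter ↥I)
    (hψ : ∀ n : ↥N, (ψ : ↥I → ℂ) (Subgroup.inclusion hNI n) = (φ : ↥N → ℂ) n)
    {l : IrrCharacter G} (hl : (l : G → ℂ) 1 = 1) :
    charDegree (indFun I (ψ : ↥I → ℂ) * (l : G → ℂ)) = charDegree (φ : ↥N → ℂ) * I.index := by
  refine CfsgLib.CharBlocks.charDegree_eq ?_
  rw [Pi.mul_apply, hl, mul_one, indFun_one, show (ψ : ↥I → ℂ) 1 = (φ : ↥N → ℂ) 1 from by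
    rw [← hψ 1, map_one], Nat.cast_mul, CfsgLib.CharBlocks.coe_charDegree_irr, mul_comm]

/-- Let G be a finite group with a non-abelian minimal normal subgroup N, and let φ be an irreducible complex character of N with stabilizer I in G (the elements g with φ(g n g⁻¹) = φ(n) for all n ∈ N) such that φ extends to an irreducible character of I. Put d = φ(1)·[G : I]. Then the number of linear characters of G is at most [G : I] times the number of irreducible characters of G of degree d. -/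
theorem result {G : Type*} [Group G] [Finite G] (N : Subgroup G) (hN : N.Normal) (hN1 : N ≠ ⊥) (hmin : ∀ M : Subgroup G, M.Normal → M ≤ N → M = ⊥ ∨ M = N) (hna : ¬ IsMulCommutative ↥N) (φ : Cfsg.IrrCharacter ↥N) (I : Subgroup G) (hI : ∀ g : G, g ∈ I ↔ ∀ n n' : ↥N, (n' : G) = g * (n : G) * g⁻¹ → (φ : ↥N → ℂ) n' = (φ : ↥N → ℂ) n) (hNI : N ≤ I) (hext : ∃ ψ : Cfsg.IrrCharacter ↥I, ∀ n : ↥N, (ψ : ↥I → ℂ) (Subgroup.inclusion hNI n) = (φ : ↥N → ℂ) n) : Nat.card {χ : Cfsg.IrrCharacter G // Cfsg.charDegree (χ : G → ℂ) = 1} ≤ I.index * Nat.card {χ : Cfsg.IrrCharacter G // Cfsg.charDegree (χ : G → ℂ) = Cfsg.charDegree (φ : ↥N → ℂ) * I.index} := by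
  classical
  have := Fintype.ofFinite G
  have := Fintype.ofFinite ↥I
  obtain ⟨ψ, hψ⟩ := hext
  refine card_linear_le N hN (le_commutator_of_minimal N hN hmin hna) φ I hI hNI ψ hψ _ _
    (fun l hl => ?_) (fun l hl χ hχ => ?_)
  · rw [← CfsgLib.CharBlocks.coe_charDegree_irr, hl, Nat.cast_one]
  · rw [hχ]
    exact charDegree_twist I N hNI φ ψ hψ
      (by rw [← CfsgLib.CharBlocks.coe_charDegree_irr, hl, Nat.cast_one])

end Cfsg.Agent.S4870
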