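import Cfsg.Statements.S4845
import Cfsg.Agent.S4870
import Cfsg.Agent.S4885
import Cfsg.Agent.Lib.CharNormal.CentralCount
import Cfsg.Agent.Lib.CharNormal.Kernel
import Cfsg.Agent.Lib.PGroup.Basic

set_option autoImplicit false
open Cfsg

namespace Cfsg.Agent.S4845

open CfsgLib.Char CfsgLib.CharNormal
open scoped ComplexConjugate commutatorElement

universe u

/-- Nonlinear characters of the same degree are conjugate under power maps. -/
def SameDeg (P : Type u) [Group P] : Prop :=
  ∀ χ ψ : IrrCharacter P, charDegree (χ : P → ℂ) ≠ 1 →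
    charDegree (χ : P → ℂ) = charDegree (ψ : P → ℂ) →
      ∃ k : ℕ, Nat.Coprime k (Nat.card P) ∧ ∀ g : P, (ψ : P → ℂ) g = (χ : P → ℂ) (g ^ k)

variable {P : Type u} [Group P] [Finite P] {p : ℕ} [hp : Fact p.Prime]

theorem nonlinear_of_commutator {χ : IrrCharacter P} {c : P} (hc : c ∈ _root_.commutator P)
    (h : (χ : P → ℂ) c ≠ (χ : P → ℂ) 1) : charDegree (χ : P → ℂ) ≠ 1 := by
  intro h1
  have := Fintype.ofFinite P
  have hl : (χ : P → ℂ) 1 = 1 := by rw [← CfsgLib.CharBlocks.coe_charDegree_irr, h1, Nat.cast_one]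
  exact h ((S4870.linear_eq_one_of_mem_commutator χ hl hc).trans hl.symm)

theorem exists_irr_ne {c : P} (hc : c ≠ 1) :
    ∃ χ : IrrCharacter P, (χ : P → ℂ) c ≠ (χ : P → ℂ) 1 := by
  have := Fintype.ofFinite P
  have h : ¬ IsConj c 1 := by rwa [isConj_one_left]
  rw [isConj_iff_forall_irr] at h
  simpa only [not_forall] using h

theorem same_ker (H : SameDeg P) {χ ψ : IrrCharacter P} (hχ : charDegree (χ : P → ℂ) ≠ 1)
    (hd : charDegree (χ : P → ℂ) = charDegree (ψ : P → ℂ)) {g : P}
    (hg : (χ : P → ℂ) g = (χ : P → ℂ) 1) : (ψ : P → ℂ) g = (ψ : P → ℂ) 1 := by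
  obtain ⟨k, -, hk⟩ := H χ ψ hχ hd
  rw [hk, hk, one_pow]
  have hm : g ∈ charKer (isCharacter_of_isIrr χ.2) := mem_charKer.mpr hg
  exact mem_charKer.mp (pow_mem hm k)

theorem sameDeg_quotient (H : SameDeg P) (N : Subgroup P) [N.Normal] : SameDeg (P ⧸ N) := by
  classical
  have := Fintype.ofFinite P
  have := Fintype.ofFinite (P ⧸ N)
  intro χ ψ h1 h2
  obtain ⟨k, hk, hg⟩ := H ⟨_, isIrr_comp_mk' N χ.2⟩ ⟨_, isIrr_comp_mk' N ψ.2⟩ h1 h2
  refine ⟨k, hk.coprime_dvd_right (Subgroup.card_quotient_dvd_card N), fun x => ?_⟩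
  obtain ⟨g, rfl⟩ := QuotientGroup.mk_surjective x
  exact hg g

/-- A character vanishes at an element moved by a central translation outside its kernel. -/
theorem eq_zero_of_moved (χ : IrrCharacter P) {g x : P}
    (hc : ⁅x, g⁆ ∈ Subgroup.center P) (hne : (χ : P → ℂ) ⁅x, g⁆ ≠ (χ : P → ℂ) 1) :
    (χ : P → ℂ) g = 0 := by
  have := Fintype.ofFinite P
  have h1 := char_center_mul χ.2 hc g
  rw [show ⁅x, g⁆ * g = x * g * x⁻¹ by rw [commutatorElement_def]; group,
    isClassFunction_of_isIrr χ.2 g x] at h1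
  by_contra h0
  exact hne (mul_left_cancel₀ h0 (by rw [h1, mul_comm]))

/-- A nonlinear character of a group with `|P'| = p` vanishes off the centre. -/
theorem eq_zero_off_center (χ : IrrCharacter P)
    (hcen : _root_.commutator P ≤ Subgroup.center P)
    (hker : ∀ c ∈ _root_.commutator P, c ≠ 1 → (χ : P → ℂ) c ≠ (χ : P → ℂ) 1)
    {g : P} (hg : g ∉ Subgroup.center P) : (χ : P → ℂ) g = 0 := by
  rw [Subgroup.mem_center_iff] at hg
  push Not at hg
  obtain ⟨x, hx⟩ := hg
  have hc : ⁅x, g⁆ ∈ _root_.commutator P :=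
    Subgroup.commutator_mem_commutator (Subgroup.mem_top x) (Subgroup.mem_top g)
  exact eq_zero_of_moved χ (hcen hc)
    (hker _ hc fun h => hx (commutatorElement_eq_one_iff_mul_comm.mp h))

/-- `χ(1)² = [P : Z(P)]` for a character vanishing off the centre. -/
theorem degree_sq (χ : IrrCharacter P)
    (hvan : ∀ g, g ∉ Subgroup.center P → (χ : P → ℂ) g = 0) :
    charDegree (χ : P → ℂ) ^ 2 = (Subgroup.center P).index := by
  classical
  have := Fintype.ofFinite P
  have := Fintype.ofFinite ↥(Subgroup.center P)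
  have h1 := card_mul_classInner (χ : P → ℂ) (χ : P → ℂ)
  rw [classInner_irr_self χ.2, mul_one] at h1
  have hsum : ∑ g : P, (χ : P → ℂ) g * conj ((χ : P → ℂ) g) =
      ∑ z : ↥(Subgroup.center P), (χ : P → ℂ) z * conj ((χ : P → ℂ) z) := by
    rw [← Finset.sum_subset (Finset.subset_univ ((Finset.univ : Finset ↥(Subgroup.center P)).map
      ⟨Subtype.val, Subtype.val_injective⟩)), Finset.sum_map]
    · rfl
    · intro g _ hg
      rw [hvan g fun hz => hg (Finset.mem_map.mpr ⟨⟨g, hz⟩, Finset.mem_univ _, rfl⟩), zero_mul]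
  have hz : ∀ z : ↥(Subgroup.center P), (χ : P → ℂ) z * conj ((χ : P → ℂ) z) =
      (charDegree (χ : P → ℂ) : ℂ) ^ 2 := fun z => by
    rw [← char_inv (isCharacter_of_isIrr χ.2), ← char_center_mul χ.2 z.2, mul_inv_cancel,
      CfsgLib.CharBlocks.coe_charDegree_irr, pow_two]
  rw [hsum, Finset.sum_congr rfl fun z _ => hz z, Finset.sum_const, Finset.card_univ,
    nsmul_eq_mul, ← Nat.card_eq_fintype_card] at h1
  have h2 : Nat.card P = Nat.card ↥(Subgroup.center P) * charDegree (χ : P → ℂ) ^ 2 := by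
    exact_mod_cast h1
  rw [← (Subgroup.center P).card_mul_index] at h2
  exact (Nat.eq_of_mul_eq_mul_left Nat.card_pos h2).symm

/-- When `|P'| = p` every nonlinear character is nontrivial on each `c ∈ P'`, `c ≠ 1`. -/
theorem ker_commutator (hcard : Nat.card (_root_.commutator P) = p) (χ : IrrCharacter P)
    (hχ : charDegree (χ : P → ℂ) ≠ 1) {c : P} (hc : c ∈ _root_.commutator P) (hc1 : c ≠ 1) :
    (χ : P → ℂ) c ≠ (χ : P → ℂ) 1 := by
  intro he
  have := Fintype.ofFinite P
  have hchar := isCharacter_of_isIrr χ.2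
  have hle : _root_.commutator P ≤ charKer hchar := by
    have hz : Subgroup.zpowers c = _root_.commutator P := by
      refine Subgroup.eq_of_le_of_card_ge (Subgroup.zpowers_le.mpr hc) ?_
      rw [hcard, Nat.card_zpowers]
      rcases hp.out.eq_one_or_self_of_dvd _ (hcard ▸ Subgroup.orderOf_dvd_natCard _ hc) with h | h
      · exact absurd (orderOf_eq_one_iff.mp h) hc1
      · exact h.ge
    rw [← hz]
    exact Subgroup.zpowers_le.mpr (mem_charKer.mpr he)
  refine hχ ?_
  have hnK : (charKer hchar).Normal := charKer_normal hchar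
  have := Fintype.ofFinite (P ⧸ charKer hchar)
  obtain ⟨ψ, hψ, he'⟩ := exists_irr_eq_comp_mk' (charKer hchar) χ.2
    fun n hn => mem_charKer.mp hn
  refine CfsgLib.CharBlocks.charDegree_eq ?_
  rw [← he', Function.comp_apply, QuotientGroup.mk_one, Nat.cast_one]
  refine irr_one_eq_one_of_comm (fun a b => ?_) hψ
  obtain ⟨x, rfl⟩ := QuotientGroup.mk_surjective a
  obtain ⟨y, rfl⟩ := QuotientGroup.mk_surjective b
  rw [← QuotientGroup.mk_mul, ← QuotientGroup.mk_mul, QuotientGroup.eq]
  refine hle ?_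
  rw [show (x * y)⁻¹ * (y * x) = ⁅y⁻¹, x⁻¹⁆ by rw [commutatorElement_def]; group]
  exact Subgroup.commutator_mem_commutator (Subgroup.mem_top _) (Subgroup.mem_top _)

theorem commutator_le_center (hP : IsPGroup p P) (hcard : Nat.card (_root_.commutator P) = p) :
    _root_.commutator P ≤ Subgroup.center P := by
  have := hP.isNilpotent
  rcases lt_or_eq_of_le (Subgroup.commutator_le_left (_root_.commutator P) (⊤ : Subgroup P))
    with h | h
  · have h1 : ⁅_root_.commutator P, (⊤ : Subgroup P)⁆ = ⊥ := by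
      refine Subgroup.card_eq_one.mp ?_
      rcases hp.out.eq_one_or_self_of_dvd _ (hcard ▸ Subgroup.card_dvd_of_le h.le) with h2 | h2
      · exact h2
      · exact absurd (Subgroup.eq_of_le_of_card_ge h.le (by rw [h2, hcard])) h.ne
    rw [Subgroup.commutator_eq_bot_iff_le_centralizer, Subgroup.coe_top,
      Subgroup.centralizer_univ] at h1
    exact h1
  · refine le_of_eq_of_le (le_bot_iff.mp ?_) bot_le
    obtain ⟨n, hn⟩ := Subgroup.nilpotent_iff_lowerCentralSeries.1 ‹Group.IsNilpotent P›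
    rw [← hn]
    clear hn
    induction n with
    | zero => exact le_top
    | succ n ih =>
      rw [Subgroup.lowerCentralSeries_succ, ← h]
      exact Subgroup.commutator_mono ih le_rfl

/-- Facts in the case `|P'| = p`. -/
theorem facts (hP : IsPGroup p P) (hcard : Nat.card (_root_.commutator P) = p)
    (χ : IrrCharacter P) (hχ : charDegree (χ : P → ℂ) ≠ 1) :
    (∀ g, g ∉ Subgroup.center P → (χ : P → ℂ) g = 0) ∧
      charDegree (χ : P → ℂ) ^ 2 = (Subgroup.center P).index := by
  have h : ∀ g, g ∉ Subgroup.center P → (χ : P → ℂ) g = 0 := fun g hg =>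
    eq_zero_off_center χ (commutator_le_center hP hcard)
      (fun c hc hc1 => ker_commutator hcard χ hχ hc hc1) hg
  exact ⟨h, degree_sq χ h⟩

theorem exists_nonlinear (hcard : Nat.card (_root_.commutator P) = p) :
    ∃ χ : IrrCharacter P, charDegree (χ : P → ℂ) ≠ 1 := by
  have : Nontrivial ↥(_root_.commutator P) :=
    Finite.one_lt_card_iff_nontrivial.mp (hcard ▸ hp.out.one_lt)
  obtain ⟨⟨c, hc⟩, hc1⟩ := exists_ne (1 : ↥(_root_.commutator P))
  obtain ⟨χ, hχ⟩ := exists_irr_ne (c := c) fun h => hc1 (Subtype.ext h)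
  exact ⟨χ, nonlinear_of_commutator hc hχ⟩

/-- The centre is cyclic. -/
theorem center_isCyclic (hP : IsPGroup p P) (hcard : Nat.card (_root_.commutator P) = p)
    (H : SameDeg P) : IsCyclic (Subgroup.center P) := by
  classical
  have := Fintype.ofFinite P
  obtain ⟨χ, hχ⟩ := exists_nonlinear (p := p) hcard
  have h1 : (χ : P → ℂ) 1 ≠ 0 := irr_one_ne_zero χ.2
  let f : Subgroup.center P →* ℂ :=
    { toFun := fun z => (χ : P → ℂ) z / (χ : P → ℂ) 1
      map_one' := div_self h1
      map_mul' := fun a b => by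
        rw [Subgroup.coe_mul, div_mul_div_comm, eq_div_iff (mul_ne_zero h1 h1), ← mul_assoc,
          div_mul_cancel₀ _ h1, char_center_mul χ.2 a.2] }
  refine isCyclic_of_subgroup_isDomain f ((injective_iff_map_eq_one f).mpr fun z hz => ?_)
  have hz' : (χ : P → ℂ) z = (χ : P → ℂ) 1 := (div_eq_one_iff_eq h1).mp hz
  by_contra hne
  have hne' : (z : P) ≠ 1 := fun h => hne (Subtype.ext h)
  by_cases hc : (z : P) ∈ _root_.commutator P
  · exact ker_commutator hcard χ hχ hc hne' hz'
  · obtain ⟨l, hl1, hl⟩ := S4885.exists_linear_ne hc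
    let ψ : IrrCharacter P :=
      ⟨_, isIrr_mul_linear χ.2 (isCharacter_of_isIrr l.2) hl1⟩
    have hd : charDegree (χ : P → ℂ) = charDegree (ψ : P → ℂ) :=
      (CfsgLib.CharBlocks.charDegree_eq (by
        show (χ : P → ℂ) 1 * (l : P → ℂ) 1 = _
        rw [hl1, mul_one, CfsgLib.CharBlocks.coe_charDegree_irr])).symm
    have h2 := same_ker H hχ hd hz'
    change (χ : P → ℂ) z * (l : P → ℂ) z = (χ : P → ℂ) 1 * (l : P → ℂ) 1 at h2
    rw [hz', hl1] at h2
    exact hl (mul_left_cancel₀ h1 h2)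

omit hp in
theorem subgroup_eq_of_card_eq {Z : Type*} [Group Z] [Finite Z] [IsCyclic Z] (A B : Subgroup Z)
    (h : Nat.card A = Nat.card B) : A = B := by
  classical
  have := Fintype.ofFinite Z
  have hle : ∀ C : Subgroup Z, (C : Set Z).toFinset =
      (Finset.univ.filter fun a : Z => a ^ Nat.card C = 1) := fun C => by
    refine Finset.eq_of_subset_of_card_le (fun a ha => Finset.mem_filter.mpr
      ⟨Finset.mem_univ a, orderOf_dvd_iff_pow_eq_one.mp
        (Subgroup.orderOf_dvd_natCard C (Set.mem_toFinset.mp ha))⟩) ?_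
    refine (IsCyclic.card_pow_eq_one_le Nat.card_pos).trans ?_
    rw [Set.toFinset_card, Nat.card_eq_fintype_card]
    exact le_rfl
  have h1 := (hle A).trans (h ▸ (hle B).symm)
  exact SetLike.coe_injective (Set.toFinset_inj.mp h1)

/-- The converse direction. -/
theorem sameDeg_of (hP : IsPGroup p P) (hcyc : IsCyclic (Subgroup.center P))
    (hcard : Nat.card (_root_.commutator P) = p) : SameDeg P := by
  classical
  have := Fintype.ofFinite P
  intro χ ψ hχ hd
  obtain ⟨z0, hz0⟩ := hcyc.exists_monoid_generator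
  have hcen := commutator_le_center hP hcard
  have hfaith : ∀ ξ : IrrCharacter P, charDegree (ξ : P → ℂ) ≠ 1 → ∀ z ∈ Subgroup.center P,
      (ξ : P → ℂ) z = (ξ : P → ℂ) 1 → z = 1 := by
    intro ξ hξ z hz he
    by_contra hne
    obtain ⟨j, hj⟩ := hP z
    obtain ⟨i, -, hi⟩ := (Nat.dvd_prime_pow hp.out).mp (orderOf_dvd_of_pow_eq_one hj)
    have hi0 : i ≠ 0 := fun h => hne (orderOf_eq_one_iff.mp (by rw [hi, h, pow_zero]))
    -- the subgroup of order `p` of the cyclic centre is `P'`
    have hzp : Subgroup.zpowers (z ^ p ^ (i - 1)) = _root_.commutator P := by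
      have ho : orderOf (z ^ p ^ (i - 1)) = p := by
        rw [orderOf_pow' _ (pow_ne_zero _ hp.out.ne_zero), hi,
          Nat.gcd_eq_right (pow_dvd_pow p (Nat.sub_le i 1)),
          Nat.pow_div (Nat.sub_le i 1) hp.out.pos, Nat.sub_sub_self (Nat.pos_of_ne_zero hi0), pow_one]
      have h1 : Nat.card ((Subgroup.zpowers (z ^ p ^ (i - 1))).subgroupOf (Subgroup.center P)) =
          Nat.card ((_root_.commutator P).subgroupOf (Subgroup.center P)) := by
        rw [Nat.card_congr (Subgroup.subgroupOfEquivOfLe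
            (Subgroup.zpowers_le.mpr (pow_mem hz _))).toEquiv,
          Nat.card_congr (Subgroup.subgroupOfEquivOfLe hcen).toEquiv, hcard, Nat.card_zpowers, ho]
      have h2 := subgroup_eq_of_card_eq _ _ h1
      rw [← Subgroup.map_subgroupOf_eq_of_le (Subgroup.zpowers_le.mpr (pow_mem hz (p ^ (i - 1)))),
        h2, Subgroup.map_subgroupOf_eq_of_le hcen]
    have hmem : z ^ p ^ (i - 1) ∈ _root_.commutator P := hzp ▸ Subgroup.mem_zpowers _
    have hne1 : z ^ p ^ (i - 1) ≠ 1 := fun h => by
      rw [h, Subgroup.zpowers_one_eq_bot] at hzp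
      rw [← hzp, Subgroup.card_bot] at hcard
      exact hp.out.one_lt.ne hcard
    exact ker_commutator hcard ξ hξ hmem hne1
      (mem_charKer.mp (pow_mem (mem_charKer (hχ := isCharacter_of_isIrr ξ.2).mpr he) _))
  have hψ : charDegree (ψ : P → ℂ) ≠ 1 := hd ▸ hχ
  let n := orderOf (z0 : P)
  have hn0 : n ≠ 0 := (orderOf_pos _).ne'
  have hval : ∀ ξ : IrrCharacter P, ∀ j : ℕ, (ξ : P → ℂ) ((z0 : P) ^ j) =
      (ξ : P → ℂ) 1 * ((ξ : P → ℂ) z0 / (ξ : P → ℂ) 1) ^ j := by
    intro ξ j
    have h1 := irr_one_ne_zero ξ.2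
    induction j with
    | zero => simp
    | succ j ih =>
      have h2 := char_center_mul ξ.2 (pow_mem z0.2 j) (z0 : P)
      rw [← pow_succ, ih] at h2
      refine mul_right_cancel₀ h1 (h2.trans ?_)
      rw [pow_succ]
      field_simp
  have hprim : ∀ ξ : IrrCharacter P, charDegree (ξ : P → ℂ) ≠ 1 →
      IsPrimitiveRoot ((ξ : P → ℂ) z0 / (ξ : P → ℂ) 1) n := by
    intro ξ hξ
    have h1 := irr_one_ne_zero ξ.2
    refine ⟨?_, fun l hl => orderOf_dvd_of_pow_eq_one (hfaith ξ hξ _ (pow_mem z0.2 l) ?_)⟩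
    · have h2 := hval ξ n
      rw [pow_orderOf_eq_one] at h2
      exact (mul_eq_left₀ h1).mp h2.symm
    · rw [hval, hl, mul_one]
  have : NeZero n := ⟨hn0⟩
  obtain ⟨i, -, hi⟩ := (hprim χ hχ).eq_pow_of_pow_eq_one (hprim ψ hψ).pow_eq_one
  have hicop : i.Coprime n := ((hprim χ hχ).pow_iff_coprime (Nat.pos_of_ne_zero hn0) i).mp
    (hi.symm ▸ hprim ψ hψ)
  have hpn : p ∣ n := by
    obtain ⟨j, hj⟩ := hP (z0 : P)
    obtain ⟨a, -, ha⟩ := (Nat.dvd_prime_pow hp.out).mp (orderOf_dvd_of_pow_eq_one hj)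
    rcases Nat.eq_zero_or_pos a with h | h
    · exfalso
      have hz1 : (z0 : P) = 1 := orderOf_eq_one_iff.mp (by rw [ha, h, pow_zero])
      have : Subsingleton (Subgroup.center P) := ⟨fun a b => by
        obtain ⟨u, rfl⟩ := hz0 a
        obtain ⟨v, rfl⟩ := hz0 b
        simp [show z0 = 1 from Subtype.ext hz1]⟩
      have hb : _root_.commutator P = ⊥ := (Subgroup.eq_bot_iff_forall _).mpr fun c hc =>
        congrArg Subtype.val (Subsingleton.elim (⟨c, hcen hc⟩ : Subgroup.center P) 1)
      rw [hb, Subgroup.card_bot] at hcard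
      exact hp.out.one_lt.ne hcard
    · show p ∣ orderOf (z0 : P)
      rw [ha]
      exact dvd_pow_self p h.ne'
  have hik : i.Coprime (Nat.card P) := by
    obtain ⟨a, ha⟩ := IsPGroup.iff_card.1 hP
    rw [ha]
    exact (hicop.coprime_dvd_right hpn).pow_right a
  refine ⟨i, hik, fun g => ?_⟩
  by_cases hg : g ∈ Subgroup.center P
  · obtain ⟨j, hj⟩ := hz0 ⟨g, hg⟩
    have hj' : (z0 : P) ^ j = g := congrArg Subtype.val hj
    rw [← hj', ← pow_mul, hval, hval, ← hi, ← pow_mul, mul_comm j i]
    congr 1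
    rw [← CfsgLib.CharBlocks.coe_charDegree_irr, ← CfsgLib.CharBlocks.coe_charDegree_irr, hd]
  · have hgi : g ^ i ∉ Subgroup.center P := by
      intro h
      obtain ⟨m, hm⟩ := exists_pow_eq_self_of_coprime (hik.coprime_dvd_right (orderOf_dvd_natCard g))
      exact hg (hm ▸ pow_mem h m)
    rw [(facts hP hcard ψ hψ).1 g hg, (facts hP hcard χ hχ).1 _ hgi]

/-- The group generated by commutators and `p`-th powers. -/
def comPow (p : ℕ) (G : Type*) [Group G] : Subgroup G :=
  _root_.commutator G ⊔ Subgroup.closure (Set.range fun x : G => x ^ p)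

theorem map_comPow {G H : Type*} [Group G] [Group H] (f : G →* H) (hf : Function.Surjective f) :
    (comPow p G).map f = comPow p H := by
  rw [comPow, comPow, Subgroup.map_sup, commutator_def, commutator_def, Subgroup.map_commutator,
    Subgroup.map_top_of_surjective f hf, MonoidHom.map_closure]
  refine congrArg _ (congrArg _ (Set.ext fun y => ?_))
  constructor
  · rintro ⟨_, ⟨x, rfl⟩, rfl⟩
    exact ⟨f x, (map_pow f x p).symm⟩
  · rintro ⟨z, rfl⟩
    obtain ⟨x, rfl⟩ := hf z
    exact ⟨x ^ p, ⟨x, rfl⟩, map_pow f x p⟩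

theorem pow_mem_center (hP : IsPGroup p P) (hcard : Nat.card (_root_.commutator P) = p) (x : P) :
    x ^ p ∈ Subgroup.center P := by
  refine Subgroup.mem_center_iff.mpr fun y => ?_
  have hc : ⁅y, x⁆ ∈ _root_.commutator P :=
    Subgroup.commutator_mem_commutator (Subgroup.mem_top y) (Subgroup.mem_top x)
  have hz : Commute ⁅y, x⁆ x :=
    (Subgroup.mem_center_iff.mp (commutator_le_center hP hcard hc) x).symm
  have hpow : ⁅y, x⁆ ^ p = 1 := orderOf_dvd_iff_pow_eq_one.mp
    (hcard ▸ Subgroup.orderOf_dvd_natCard _ hc)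
  have h1 : y * x ^ p * y⁻¹ = x ^ p := by
    rw [← conj_pow, show y * x * y⁻¹ = ⁅y, x⁆ * x by rw [commutatorElement_def]; group,
      hz.mul_pow, hpow, one_mul]
  exact mul_inv_eq_iff_eq_mul.mp h1

/-- `[P : comPow]` determines the degree. -/
theorem degree_bounds (hP : IsPGroup p P) (hcard : Nat.card (_root_.commutator P) = p)
    (hcyc : IsCyclic (Subgroup.center P)) (χ : IrrCharacter P)
    (hχ : charDegree (χ : P → ℂ) ≠ 1) :
    charDegree (χ : P → ℂ) ^ 2 ∣ (comPow p P).index ∧
      (comPow p P).index ∣ charDegree (χ : P → ℂ) ^ 2 * p := by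
  have hle : comPow p P ≤ Subgroup.center P :=
    sup_le (commutator_le_center hP hcard) ((Subgroup.closure_le _).mpr
      (Set.range_subset_iff.mpr (pow_mem_center hP hcard)))
  rw [(facts hP hcard χ hχ).2, ← Subgroup.relIndex_mul_index hle]
  refine ⟨dvd_mul_left _ _, mul_comm (Subgroup.center P).index p ▸ Nat.mul_dvd_mul_right ?_ _⟩
  obtain ⟨z, hz⟩ := hcyc.exists_monoid_generator
  let E := (comPow p P).subgroupOf (Subgroup.center P)
  have : E.Normal := ⟨fun a ha g => by
    rw [← (Subgroup.center.isMulCommutative P).is_comm.comm a g, mul_inv_cancel_right]; exact ha⟩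
  have htop : Subgroup.zpowers (QuotientGroup.mk' E z) = ⊤ := eq_top_iff.mpr fun w _ => by
    obtain ⟨v, rfl⟩ := QuotientGroup.mk'_surjective E w
    obtain ⟨j, rfl⟩ := hz v
    rw [map_pow]
    exact pow_mem (Subgroup.mem_zpowers _) j
  show E.index ∣ p
  rw [Subgroup.index_eq_card, ← Subgroup.card_top (G := _ ⧸ E), ← htop, Nat.card_zpowers]
  refine orderOf_dvd_of_pow_eq_one ?_
  rw [← map_pow]
  exact (QuotientGroup.eq_one_iff _).mpr (Subgroup.mem_subgroupOf.mpr
    (Subgroup.mem_sup_right (Subgroup.subset_closure ⟨(z : P), rfl⟩)))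

theorem charDegree_eq_pow (hP : IsPGroup p P) (χ : IrrCharacter P) :
    ∃ i, charDegree (χ : P → ℂ) = p ^ i := by
  have := Fintype.ofFinite P
  obtain ⟨a, ha⟩ := IsPGroup.iff_card.1 hP
  obtain ⟨i, -, hi⟩ := (Nat.dvd_prime_pow hp.out).mp
    (ha ▸ CfsgLib.CharBlocks.charDegree_dvd_card χ.2)
  exact ⟨i, hi⟩

theorem card_commutator_quotient (K : Subgroup P) [K.Normal]
    (h : K.relIndex (_root_.commutator P) = p) :
    Nat.card (_root_.commutator (P ⧸ K)) = p := by
  rw [← h, commutator_def, commutator_def, ← Subgroup.map_top_of_surjective (QuotientGroup.mk' K)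
    (QuotientGroup.mk'_surjective K), ← Subgroup.map_commutator, ← Subgroup.relIndex_bot_left,
    ← Subgroup.relIndex_comap, MonoidHom.comap_bot, QuotientGroup.ker_mk']

/-- At most one normal subgroup has index `p` in the derived subgroup. -/
theorem normal_unique (hP : IsPGroup p P) (H : SameDeg P) (K1 K2 : Subgroup P) [K1.Normal]
    [K2.Normal] (h1le : K1 ≤ _root_.commutator P)
    (h1 : K1.relIndex (_root_.commutator P) = p) (h2le : K2 ≤ _root_.commutator P)
    (h2 : K2.relIndex (_root_.commutator P) = p) : K1 ≤ K2 := by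
  classical
  have := Fintype.ofFinite P
  have := Fintype.ofFinite (P ⧸ K1)
  have := Fintype.ofFinite (P ⧸ K2)
  have hQ1 := hP.to_quotient K1
  have hQ2 := hP.to_quotient K2
  have hc1 := card_commutator_quotient (p := p) K1 h1
  have hc2 := card_commutator_quotient (p := p) K2 h2
  obtain ⟨χ1, hχ1⟩ := exists_nonlinear (p := p) hc1
  obtain ⟨χ2, hχ2⟩ := exists_nonlinear (p := p) hc2
  obtain ⟨a1, b1⟩ := degree_bounds hQ1 hc1 (center_isCyclic hQ1 hc1 (sameDeg_quotient H K1)) χ1 hχ1
  obtain ⟨a2, b2⟩ := degree_bounds hQ2 hc2 (center_isCyclic hQ2 hc2 (sameDeg_quotient H K2)) χ2 hχ2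
  have hi : ∀ (K : Subgroup P) [K.Normal], K ≤ _root_.commutator P →
      (comPow p (P ⧸ K)).index = (comPow p P).index := by
    intro K _ hK
    rw [← map_comPow (QuotientGroup.mk' K) (QuotientGroup.mk'_surjective K)]
    exact Subgroup.index_map_eq _ (QuotientGroup.mk'_surjective K)
      (by rw [QuotientGroup.ker_mk']; exact hK.trans le_sup_left)
  rw [hi K1 h1le] at a1 b1
  rw [hi K2 h2le] at a2 b2
  obtain ⟨i, hi1⟩ := charDegree_eq_pow hQ1 χ1
  obtain ⟨j, hj1⟩ := charDegree_eq_pow hQ2 χ2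
  rw [hi1, ← pow_mul] at a1 b1
  rw [hj1, ← pow_mul] at a2 b2
  rw [← pow_succ] at b1 b2
  have e1 := (Nat.pow_dvd_pow_iff_le_right hp.out.one_lt).mp (a1.trans b2)
  have e2 := (Nat.pow_dvd_pow_iff_le_right hp.out.one_lt).mp (a2.trans b1)
  have hd : charDegree (χ1 : P ⧸ K1 → ℂ) = charDegree (χ2 : P ⧸ K2 → ℂ) := by
    rw [hi1, hj1, show i = j by omega]
  intro k hk
  have hk1 : (χ1 : P ⧸ K1 → ℂ) ((k : P) : P ⧸ K1) = (χ1 : P ⧸ K1 → ℂ) ((1 : P) : P ⧸ K1) := by
    rw [(QuotientGroup.eq_one_iff k).mpr hk, QuotientGroup.mk_one]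
  have hk2 : (χ2 : P ⧸ K2 → ℂ) ((k : P) : P ⧸ K2) = (χ2 : P ⧸ K2 → ℂ) ((1 : P) : P ⧸ K2) :=
    same_ker H (χ := ⟨_, isIrr_comp_mk' K1 χ1.2⟩) (ψ := ⟨_, isIrr_comp_mk' K2 χ2.2⟩) hχ1 hd hk1
  rw [QuotientGroup.mk_one] at hk2
  by_contra hne
  refine ker_commutator hc2 χ2 hχ2 ?_ (fun h => hne ((QuotientGroup.eq_one_iff k).mp h)) hk2
  rw [commutator_def, ← Subgroup.map_top_of_surjective (QuotientGroup.mk' K2)
    (QuotientGroup.mk'_surjective K2), ← Subgroup.map_commutator]
  exact Subgroup.mem_map_of_mem _ (h1le hk)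

/-- A nontrivial normal subgroup of a `p`-group contains a normal subgroup of index `p`. -/
theorem exists_normal_relIndex (hP : IsPGroup p P) (N : Subgroup P) [N.Normal] (hN : N ≠ ⊥) :
    ∃ M : Subgroup P, M.Normal ∧ M ≤ N ∧ M.relIndex N = p := by
  let W : Subgroup P := ⁅N, (⊤ : Subgroup P)⁆
  have hWN : W ≤ N := Subgroup.commutator_le_left _ _
  have hne : W ≠ N := by
    intro h
    have := hP.isNilpotent
    obtain ⟨n, hn⟩ := Subgroup.nilpotent_iff_lowerCentralSeries.1 ‹Group.IsNilpotent P›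
    refine hN (le_bot_iff.mp ?_)
    rw [← hn]
    clear hn
    induction n with
    | zero => exact le_top
    | succ n ih =>
      rw [Subgroup.lowerCentralSeries_succ, ← h]
      exact Subgroup.commutator_mono ih le_rfl
  obtain ⟨a, ha⟩ := IsPGroup.iff_card.1 (hP.to_subgroup N)
  obtain ⟨b, hb⟩ := IsPGroup.iff_card.1 (hP.to_subgroup W)
  have hba : b < a := by
    refine lt_of_le_of_ne ((Nat.pow_dvd_pow_iff_le_right hp.out.one_lt).mp
      (hb ▸ ha ▸ Subgroup.card_dvd_of_le hWN)) fun h => hne ?_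
    exact Subgroup.eq_of_le_of_card_ge hWN (by rw [ha, hb, h])
  obtain ⟨M', hM', hWM⟩ := Sylow.exists_subgroup_card_pow_prime_le p (m := a - 1) (n := b)
    (ha ▸ pow_dvd_pow p (Nat.sub_le a 1)) (W.subgroupOf N)
    (by rw [Nat.card_congr (Subgroup.subgroupOfEquivOfLe hWN).toEquiv, hb]) (by omega)
  have hle := Subgroup.map_subtype_le M'
  refine ⟨M'.map N.subtype, ⟨fun m hm g => ?_⟩, hle, ?_⟩
  · have hc : ⁅m, g⁆⁻¹ ∈ M'.map N.subtype := by
      refine inv_mem ?_
      have h1 : ⁅m, g⁆ ∈ W := Subgroup.commutator_mem_commutator (hle hm) (Subgroup.mem_top g)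
      exact ⟨⟨_, hWN h1⟩, hWM h1, rfl⟩
    rw [show g * m * g⁻¹ = ⁅m, g⁆⁻¹ * m by rw [commutatorElement_def]; group]
    exact mul_mem hc hm
  · rw [Subgroup.relIndex, Subgroup.subgroupOf,
      Subgroup.comap_map_eq_self_of_injective N.subtype_injective]
    have h := M'.card_mul_index
    rw [hM', ha] at h
    refine Nat.eq_of_mul_eq_mul_left (pow_pos hp.out.pos (a - 1)) (h.trans ?_)
    rw [← pow_succ, Nat.sub_add_cancel (by omega : 1 ≤ a)]

/-- The derived subgroup has order at most `p`. -/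
theorem false_of_card_sq (hP : IsPGroup p P) (H : SameDeg P)
    (hcard : Nat.card (_root_.commutator P) = p ^ 2) (M : Subgroup P) [hMn : M.Normal]
    (hM : Nat.card M = p) (hMle : M ≤ _root_.commutator P) : False := by
  classical
  have := Fintype.ofFinite P
  have hMrel : M.relIndex (_root_.commutator P) = p := by
    refine Nat.eq_of_mul_eq_mul_left hp.out.pos ?_
    rw [← pow_two, ← hcard]
    conv_lhs => rw [← hM, ← Subgroup.relIndex_bot_left M,
      Subgroup.relIndex_mul_relIndex ⊥ M _ bot_le hMle, Subgroup.relIndex_bot_left]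
  -- every element of order `p` of `P'` that is central lies in `M`
  have huniq : ∀ c ∈ _root_.commutator P, c ∈ Subgroup.center P → c ^ p = 1 → c ∈ M := by
    intro c hc hcz hcp
    by_cases h1 : c = 1
    · rw [h1]; exact one_mem M
    have ho : orderOf c = p := orderOf_eq_prime hcp h1
    have hn : (Subgroup.zpowers c).Normal := ⟨fun a ha g => by
      obtain ⟨j, rfl⟩ := ha
      rw [Subgroup.mem_center_iff.mp (Subgroup.zpow_mem _ hcz j) g, mul_inv_cancel_right]
      exact ⟨j, rfl⟩⟩
    have hle : Subgroup.zpowers c ≤ _root_.commutator P := Subgroup.zpowers_le.mpr hc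
    refine normal_unique hP H (Subgroup.zpowers c) M hle ?_ hMle hMrel (Subgroup.mem_zpowers c)
    refine Nat.eq_of_mul_eq_mul_left hp.out.pos ?_
    rw [← pow_two, ← hcard]
    conv_lhs => rw [← ho, ← Nat.card_zpowers, ← Subgroup.relIndex_bot_left (Subgroup.zpowers c),
      Subgroup.relIndex_mul_relIndex ⊥ _ _ bot_le hle, Subgroup.relIndex_bot_left]
  have hMz : M ≤ Subgroup.center P := by
    rcases lt_or_eq_of_le (Subgroup.commutator_le_left M (⊤ : Subgroup P)) with h | h
    · have h1 : ⁅M, (⊤ : Subgroup P)⁆ = ⊥ := by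
        refine Subgroup.card_eq_one.mp ?_
        rcases hp.out.eq_one_or_self_of_dvd _ (hM ▸ Subgroup.card_dvd_of_le h.le) with h2 | h2
        · exact h2
        · exact absurd (Subgroup.eq_of_le_of_card_ge h.le (by rw [h2, hM])) h.ne
      rwa [Subgroup.commutator_eq_bot_iff_le_centralizer, Subgroup.coe_top,
        Subgroup.centralizer_univ] at h1
    · obtain ⟨M', -, hM'le, hM'⟩ := exists_normal_relIndex hP M (fun hb => by
        rw [hb, Subgroup.card_bot] at hM; exact hp.out.one_lt.ne hM)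
      have hb : M' = ⊥ := Subgroup.card_eq_one.mp (by
        have h3 := Subgroup.relIndex_mul_relIndex ⊥ M' M bot_le hM'le
        rw [Subgroup.relIndex_bot_left, Subgroup.relIndex_bot_left, hM', hM] at h3
        exact (Nat.mul_eq_right hp.out.ne_zero).mp h3)
      exfalso
      have := hP.isNilpotent
      obtain ⟨n, hn⟩ := Subgroup.nilpotent_iff_lowerCentralSeries.1 ‹Group.IsNilpotent P›
      have hle : M ≤ (⊤ : Subgroup P).lowerCentralSeries n := by
        clear hn
        induction n with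
        | zero => exact le_top
        | succ n ih =>
          rw [Subgroup.lowerCentralSeries_succ, ← h]
          exact Subgroup.commutator_mono ih le_rfl
      rw [hn, le_bot_iff] at hle
      rw [hle, Subgroup.card_bot] at hM
      exact hp.out.one_lt.ne hM
  have hMpow : ∀ m ∈ M, m ^ p = 1 := fun m hm =>
    orderOf_dvd_iff_pow_eq_one.mp (hM ▸ Subgroup.orderOf_dvd_natCard M hm)
  -- the quotient `Q = P ⧸ M`
  have := Fintype.ofFinite (P ⧸ M)
  have hQ := hP.to_quotient M
  have hcQ := card_commutator_quotient (p := p) M hMrel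
  have hcycQ := center_isCyclic hQ hcQ (sameDeg_quotient H M)
  obtain ⟨χ0, hχ0⟩ := exists_nonlinear (p := p) hcQ
  obtain ⟨-, hsq⟩ := facts hQ hcQ χ0 hχ0
  let Y : Subgroup P := (Subgroup.center (P ⧸ M)).comap (QuotientGroup.mk' M)
  have hMY : M ≤ Y := fun m hm => by
    rw [Subgroup.mem_comap, QuotientGroup.mk'_apply, (QuotientGroup.eq_one_iff m).mpr hm]
    exact one_mem _
  have hYi : Y.index = (Subgroup.center (P ⧸ M)).index :=
    Subgroup.index_comap_of_surjective _ (QuotientGroup.mk'_surjective M)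
  have hRY : _root_.commutator P ≤ Y := fun c hc => by
    refine Subgroup.mem_comap.mpr (commutator_le_center hQ hcQ ?_)
    rw [commutator_def, ← Subgroup.map_top_of_surjective (QuotientGroup.mk' M)
      (QuotientGroup.mk'_surjective M), ← Subgroup.map_commutator]
    exact Subgroup.mem_map_of_mem _ hc
  have hpowY : ∀ x : P, x ^ p ∈ Y := fun x => by
    rw [Subgroup.mem_comap, map_pow]
    exact pow_mem_center hQ hcQ _
  obtain ⟨⟨y', hy'⟩, hgen⟩ := hcycQ.exists_monoid_generator
  obtain ⟨y, rfl⟩ := QuotientGroup.mk'_surjective M y'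
  have hyY : y ∈ Y := hy'
  have hdec : ∀ v ∈ Y, ∃ i : ℕ, ∃ m ∈ M, y ^ i * m = v := by
    intro v hv
    obtain ⟨i, hi⟩ := hgen ⟨QuotientGroup.mk' M v, hv⟩
    have h1 : QuotientGroup.mk' M (y ^ i) = QuotientGroup.mk' M v := by
      rw [map_pow]; exact congrArg Subtype.val hi
    exact ⟨i, (y ^ i)⁻¹ * v, QuotientGroup.eq.mp h1, mul_inv_cancel_left _ _⟩
  have hycomm : ∀ x : P, ⁅x, y⁆ ∈ M := fun x => by
    rw [← QuotientGroup.eq_one_iff, ← QuotientGroup.mk'_apply, map_commutatorElement,
      commutatorElement_eq_one_iff_mul_comm]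
    exact Subgroup.mem_center_iff.mp hy' _
  have hypz : y ^ p ∈ Subgroup.center P := by
    refine Subgroup.mem_center_iff.mpr fun x => mul_inv_eq_iff_eq_mul.mp ?_
    have hz : Commute ⁅x, y⁆ y := (Subgroup.mem_center_iff.mp (hMz (hycomm x)) y).symm
    rw [← conj_pow, show x * y * x⁻¹ = ⁅x, y⁆ * y by rw [commutatorElement_def]; group,
      hz.mul_pow, hMpow _ (hycomm x), one_mul]
  have hiz : ∀ i, p ∣ i → y ^ i ∈ Subgroup.center P := by
    rintro _ ⟨j, rfl⟩
    rw [pow_mul]
    exact pow_mem hypz j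
  -- `y` is not central
  have hyz : y ∉ Subgroup.center P := by
    intro hy
    have hYz : Y ≤ Subgroup.center P := fun v hv => by
      obtain ⟨i, m, hm, rfl⟩ := hdec v hv
      exact mul_mem (pow_mem hy i) (hMz hm)
    have hexp : _root_.commutator P ≤ M := by
      rw [commutator_def, Subgroup.commutator_le]
      intro x _ z _
      have hc : ⁅x, z⁆ ∈ _root_.commutator P :=
        Subgroup.commutator_mem_commutator (Subgroup.mem_top x) (Subgroup.mem_top z)
      refine huniq _ hc (hYz (hRY hc)) ?_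
      have hcz : Commute ⁅x, z⁆ z := (Subgroup.mem_center_iff.mp (hYz (hRY hc)) z).symm
      have h2 : ⁅x, z⁆ ^ p * z ^ p = z ^ p := by
        rw [← hcz.mul_pow, show ⁅x, z⁆ * z = x * z * x⁻¹ by rw [commutatorElement_def]; group,
          conj_pow, Subgroup.mem_center_iff.mp (hYz (hpowY z)) x, mul_inv_cancel_right]
      exact mul_eq_right.mp h2
    have := Subgroup.card_le_of_le hexp
    rw [hcard, hM] at this
    nlinarith [hp.out.two_le]
  -- a character nontrivial on `M`
  obtain ⟨⟨c0, hc0⟩, hc01⟩ : ∃ c : M, c ≠ 1 := by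
    have : Nontrivial M := Finite.one_lt_card_iff_nontrivial.mp (hM ▸ hp.out.one_lt)
    exact exists_ne 1
  obtain ⟨χ, hχ⟩ := exists_irr_ne (c := c0) fun h => hc01 (Subtype.ext h)
  have hχnl : charDegree (χ : P → ℂ) ≠ 1 := nonlinear_of_commutator (hMle hc0) hχ
  obtain ⟨a, ha⟩ := charDegree_eq_pow hP χ
  obtain ⟨b, hb⟩ := charDegree_eq_pow hQ χ0
  by_cases hRz : _root_.commutator P ≤ Subgroup.center P
  · -- class two: `P'` is cyclic and `[P : Z(P)]` is not a square
    have hfaith : ∀ c ∈ _root_.commutator P, c ≠ 1 → (χ : P → ℂ) c ≠ (χ : P → ℂ) 1 := by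
      intro c hc hc1 he
      obtain ⟨d, hd, hd1, hdk⟩ : ∃ d, d ^ p = 1 ∧ d ≠ 1 ∧ ∃ j : ℕ, c ^ j = d := by
        obtain ⟨j, hj⟩ := hP c
        obtain ⟨i, -, hi⟩ := (Nat.dvd_prime_pow hp.out).mp (orderOf_dvd_of_pow_eq_one hj)
        have hi0 : i ≠ 0 := fun h => hc1 (orderOf_eq_one_iff.mp (by rw [hi, h, pow_zero]))
        refine ⟨c ^ p ^ (i - 1), ?_, fun h => ?_, _, rfl⟩
        · rw [← pow_mul, ← pow_succ, Nat.sub_add_cancel (Nat.pos_of_ne_zero hi0), ← hi,
            pow_orderOf_eq_one]
        · have := orderOf_dvd_of_pow_eq_one h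
          rw [hi, Nat.pow_dvd_pow_iff_le_right hp.out.one_lt] at this
          omega
      obtain ⟨j, rfl⟩ := hdk
      have hdM := huniq _ (pow_mem hc j) (hRz (pow_mem hc j)) hd
      have hdk' := mem_charKer.mp (pow_mem (mem_charKer (hχ := isCharacter_of_isIrr χ.2).mpr he) j)
      have hgen' : c0 ∈ Subgroup.zpowers (c ^ j) := by
        rw [show Subgroup.zpowers (c ^ j) = M from Subgroup.eq_of_le_of_card_ge
          (Subgroup.zpowers_le.mpr hdM) (by rw [hM, Nat.card_zpowers, orderOf_eq_prime hd hd1])]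
        exact hc0
      exact hχ (mem_charKer.mp (Subgroup.zpowers_le.mpr
        (mem_charKer (hχ := isCharacter_of_isIrr χ.2).mpr hdk') hgen'))
    have hsq' := degree_sq χ fun g hg => eq_zero_off_center χ hRz hfaith hg
    have hZY : Subgroup.center P ≤ Y := fun z hz => by
      refine Subgroup.mem_comap.mpr (Subgroup.mem_center_iff.mpr fun w => ?_)
      obtain ⟨w, rfl⟩ := QuotientGroup.mk'_surjective M w
      rw [← map_mul, ← map_mul, Subgroup.mem_center_iff.mp hz w]
    have hrel : (Subgroup.center P).relIndex Y = p := by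
      let Z' := (Subgroup.center P).subgroupOf Y
      have : Z'.Normal := (inferInstance : (Subgroup.center P).Normal).comap _
      have htop : Subgroup.zpowers (QuotientGroup.mk' Z' ⟨y, hyY⟩) = ⊤ :=
        eq_top_iff.mpr fun w _ => by
          obtain ⟨⟨v, hv⟩, rfl⟩ := QuotientGroup.mk'_surjective Z' w
          obtain ⟨i, m, hm, e⟩ := hdec v hv
          have h1 : QuotientGroup.mk' Z' ⟨v, hv⟩ = QuotientGroup.mk' Z' (⟨y, hyY⟩ ^ i) := by
            symm
            refine QuotientGroup.eq.mpr (Subgroup.mem_subgroupOf.mpr ?_)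
            show (y ^ i)⁻¹ * v ∈ Subgroup.center P
            rw [← e, inv_mul_cancel_left]
            exact hMz hm
          rw [h1, map_pow]
          exact pow_mem (Subgroup.mem_zpowers _) i
      show Z'.index = p
      rw [Subgroup.index_eq_card, ← Subgroup.card_top (G := _ ⧸ Z'), ← htop, Nat.card_zpowers]
      refine orderOf_eq_prime ?_ fun h =>
        hyz ((QuotientGroup.eq_one_iff (N := Z') (⟨y, hyY⟩ : ↥Y)).mp h)
      rw [← map_pow]
      exact (QuotientGroup.eq_one_iff _).mpr hypz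
    rw [← Subgroup.relIndex_mul_index hZY, hrel, hYi, ← hsq, hb, ha, ← pow_mul, ← pow_mul,
      ← pow_succ'] at hsq'
    have := Nat.pow_right_injective hp.out.two_le hsq'
    omega
  · -- class three: `P` has an abelian subgroup of index `p` and `χ(1) = p`
    obtain ⟨r, hr, hrz⟩ : ∃ r ∈ _root_.commutator P, r ∉ Subgroup.center P := by
      simpa [SetLike.le_def] using hRz
    have hyR : y ∈ _root_.commutator P := by
      obtain ⟨i, m, hm, e⟩ := hdec r (hRY hr)
      have hyi : y ^ i ∈ _root_.commutator P := by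
        rw [show y ^ i = r * m⁻¹ by rw [← e, mul_inv_cancel_right]]
        exact mul_mem hr (inv_mem (hMle hm))
      have hnd : ¬ p ∣ i := fun h => hrz (e ▸ mul_mem (hiz i h) (hMz hm))
      have hcop : i.Coprime (orderOf y) := by
        obtain ⟨j, hj⟩ := hP y
        exact (hp.out.coprime_iff_not_dvd.mpr hnd).symm.pow_right j |>.coprime_dvd_right
          (orderOf_dvd_of_pow_eq_one hj)
      obtain ⟨l, hl⟩ := exists_pow_eq_self_of_coprime hcop
      exact hl ▸ pow_mem hyi l
    have hYR : Y = _root_.commutator P := le_antisymm (fun v hv => by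
      obtain ⟨i, m, hm, rfl⟩ := hdec v hv
      exact mul_mem (pow_mem hyR i) (hMle hm)) hRY
    let C : Subgroup P := Subgroup.centralizer ({y} : Set P)
    have hYC : ∀ v ∈ Y, ∀ x ∈ C, x * v = v * x := by
      intro v hv x hx
      obtain ⟨i, m, hm, rfl⟩ := hdec v hv
      have h1 : Commute x (y ^ i) := (show Commute x y from
        Subgroup.mem_centralizer_singleton_iff.mp hx).pow_right i
      rw [← mul_assoc, h1.eq, mul_assoc, Subgroup.mem_center_iff.mp (hMz hm) x, mul_assoc]
    have hYleC : Y ≤ C := fun v hv => by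
      refine Subgroup.mem_centralizer_singleton_iff.mpr ?_
      have hyC : y ∈ C := Subgroup.mem_centralizer_singleton_iff.mpr rfl
      exact (hYC v hv y hyC).symm
    have hCi : C.index = p := by
      have hle : C.index ≤ p := by
        rw [← card_isConj_eq_index y, ← hM]
        refine Nat.card_le_card_of_injective (fun w => (⟨w.1 * y⁻¹, ?_⟩ : M)) ?_
        · obtain ⟨x, hx⟩ := isConj_iff.mp w.2
          rw [← hx]
          exact hycomm x
        · intro w1 w2 h
          exact Subtype.ext (mul_right_cancel (congrArg Subtype.val h))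
      obtain ⟨k, hk⟩ := IsPGroup.iff_card.1 hP
      obtain ⟨i, -, hi⟩ := (Nat.dvd_prime_pow hp.out).mp (hk ▸ C.index_dvd_card)
      rcases i with _ | _ | i
      · exfalso
        refine hyz (Subgroup.mem_center_iff.mpr fun x => ?_)
        rw [pow_zero, Subgroup.index_eq_one] at hi
        exact Subgroup.mem_centralizer_singleton_iff.mp (hi ▸ Subgroup.mem_top x : x ∈ C)
      · rw [hi, pow_one]
      · exfalso
        rw [hi] at hle
        have : p ^ 2 ≤ p ^ (i + 1 + 1) := Nat.pow_le_pow_right hp.out.pos (by omega)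
        nlinarith [hp.out.two_le]
    -- the derived subgroup of `C` is in `M`
    have hCM : ∀ x ∈ C, ∀ z ∈ C, ⁅x, z⁆ ∈ M := by
      intro x hx z hz
      have hc : ⁅x, z⁆ ∈ _root_.commutator P :=
        Subgroup.commutator_mem_commutator (Subgroup.mem_top x) (Subgroup.mem_top z)
      have hcz : ⁅x, z⁆ ∈ Subgroup.center P := by
        refine Subgroup.mem_center_iff.mpr fun g => mul_inv_eq_iff_eq_mul.mp ?_
        have hu : ∀ w : P, w⁻¹ * (g * w * g⁻¹) ∈ Y := fun w => by
          rw [hYR, show w⁻¹ * (g * w * g⁻¹) = ⁅w⁻¹, g⁆ by rw [commutatorElement_def]; group]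
          exact Subgroup.commutator_mem_commutator (Subgroup.mem_top _) (Subgroup.mem_top _)
        rw [← MulAut.conj_apply, ← MulEquiv.coe_toMonoidHom, map_commutatorElement,
          MulEquiv.coe_toMonoidHom, MulAut.conj_apply, MulAut.conj_apply,
          ← mul_inv_cancel_left x (g * x * g⁻¹), ← mul_inv_cancel_left z (g * z * g⁻¹)]
        set u := x⁻¹ * (g * x * g⁻¹) with hu'
        set v := z⁻¹ * (g * z * g⁻¹) with hv'
        have h1 : Commute z u := hYC u (hu x) z hz
        have h2 : Commute x v := hYC v (hu z) x hx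
        have h3 : Commute u v := (hYC v (hu z) u (hYleC (hu x)))
        have e1 : (x * u) * (z * v) * (x * u)⁻¹ = (x * z * x⁻¹) * v := by
          calc (x * u) * (z * v) * (x * u)⁻¹ = x * (u * z) * v * u⁻¹ * x⁻¹ := by group
            _ = x * z * (u * v) * u⁻¹ * x⁻¹ := by rw [← h1.eq]; group
            _ = x * z * v * x⁻¹ := by rw [h3.eq]; group
            _ = x * z * x⁻¹ * (x * v * x⁻¹) := by group
            _ = x * z * x⁻¹ * v := by rw [h2.eq, mul_inv_cancel_right]
        rw [commutatorElement_def, commutatorElement_def, e1]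
        group
      obtain ⟨i, m, hm, e⟩ := hdec _ (hRY hc)
      have hpi : p ∣ i := by
        by_contra hnd
        have hyi : y ^ i ∈ Subgroup.center P := by
          rw [show y ^ i = ⁅x, z⁆ * m⁻¹ by rw [← e, mul_inv_cancel_right]]
          exact mul_mem hcz (inv_mem (hMz hm))
        have hcop : i.Coprime (orderOf y) := by
          obtain ⟨j, hj⟩ := hP y
          exact (hp.out.coprime_iff_not_dvd.mpr hnd).symm.pow_right j |>.coprime_dvd_right
            (orderOf_dvd_of_pow_eq_one hj)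
        obtain ⟨l, hl⟩ := exists_pow_eq_self_of_coprime hcop
        exact hyz (hl ▸ pow_mem hyi l)
      obtain ⟨j, rfl⟩ := hpi
      have hyp : y ^ p ∈ M := by
        rw [← QuotientGroup.eq_one_iff]
        have hmem : QuotientGroup.mk' M y ∈ _root_.commutator (P ⧸ M) := by
          rw [commutator_def, ← Subgroup.map_top_of_surjective (QuotientGroup.mk' M)
            (QuotientGroup.mk'_surjective M), ← Subgroup.map_commutator]
          exact Subgroup.mem_map_of_mem _ hyR
        rw [← QuotientGroup.mk'_apply, map_pow]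
        exact orderOf_dvd_iff_pow_eq_one.mp (hcQ ▸ Subgroup.orderOf_dvd_natCard _ hmem)
      rw [← e, pow_mul]
      exact mul_mem (pow_mem hyp j) hm
    -- `χ₀(1) = p`
    have hCb : (C.map (QuotientGroup.mk' M)).index = p := by
      rw [Subgroup.index_map_eq _ (QuotientGroup.mk'_surjective M)
        (by rw [QuotientGroup.ker_mk']; exact hMY.trans hYleC), hCi]
    have h0le : charDegree (χ0 : P ⧸ M → ℂ) ≤ p := by
      have h := degree_le_index_of_comm χ0.2 (C.map (QuotientGroup.mk' M)) (by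
        rintro _ ⟨x, hx, rfl⟩ _ ⟨z, hz, rfl⟩
        rw [← commutatorElement_eq_one_iff_mul_comm, ← map_commutatorElement]
        exact (QuotientGroup.eq_one_iff _).mpr (hCM x hx z hz))
      rw [← CfsgLib.CharBlocks.coe_charDegree_irr, hCb, Complex.natCast_re] at h
      exact_mod_cast h
    have hd0 : charDegree (χ0 : P ⧸ M → ℂ) = p := by
      rcases b with _ | _ | b
      · exact absurd (hb.trans (pow_zero p)) hχ0
      · rw [hb, pow_one]
      · exfalso
        rw [hb] at h0le
        have : p ^ 2 ≤ p ^ (b + 1 + 1) := Nat.pow_le_pow_right hp.out.pos (by omega)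
        nlinarith [hp.out.two_le]
    -- `C` is abelian
    have hCab : ∀ x ∈ C, ∀ z ∈ C, x * z = z * x := by
      let Y' := Y.subgroupOf C
      have hYn : Y'.Normal := ⟨fun v hv x => by
        rw [show x * v * x⁻¹ = v from mul_inv_eq_iff_eq_mul.mpr (Subtype.ext (hYC _ hv _ x.2))]
        exact hv⟩
      have hcy : IsCyclic (↥C ⧸ Y') := by
        refine isCyclic_of_prime_card (p := p) ?_
        show Y.relIndex C = p
        have h3 := Subgroup.relIndex_mul_index hYleC
        rw [hCi, hYi, ← hsq, hd0, pow_two] at h3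
        exact Nat.eq_of_mul_eq_mul_right hp.out.pos h3
      have hker : (QuotientGroup.mk' Y').ker ≤ Subgroup.center ↥C := by
        rw [QuotientGroup.ker_mk']
        exact fun v hv => Subgroup.mem_center_iff.mpr fun x => Subtype.ext (hYC _ hv _ x.2)
      intro x hx z hz
      exact congrArg Subtype.val
        (commutative_of_cyclic_center_quotient (QuotientGroup.mk' Y') hker
          (⟨x, hx⟩ : C) ⟨z, hz⟩)
    have hle : charDegree (χ : P → ℂ) ≤ p := by
      have h := degree_le_index_of_comm χ.2 C hCab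
      rw [← CfsgLib.CharBlocks.coe_charDegree_irr, hCi, Complex.natCast_re] at h
      exact_mod_cast h
    have hdeq : charDegree (χ : P → ℂ) = p := by
      rcases a with _ | _ | a
      · exact absurd (ha.trans (pow_zero p)) hχnl
      · rw [ha, pow_one]
      · exfalso
        rw [ha] at hle
        have : p ^ 2 ≤ p ^ (a + 1 + 1) := Nat.pow_le_pow_right hp.out.pos (by omega)
        nlinarith [hp.out.two_le]
    refine hχ (same_ker H (χ := ⟨_, isIrr_comp_mk' M χ0.2⟩) (ψ := χ) hχ0
      (hd0.trans hdeq.symm) ?_)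
    show (χ0 : P ⧸ M → ℂ) ((c0 : P) : P ⧸ M) = (χ0 : P ⧸ M → ℂ) ((1 : P) : P ⧸ M)
    rw [(QuotientGroup.eq_one_iff c0).mpr hc0, QuotientGroup.mk_one]

/-- The forward direction. -/
theorem card_commutator_eq (hP : IsPGroup p P) (H : SameDeg P)
    (hne : _root_.commutator P ≠ ⊥) : Nat.card (_root_.commutator P) = p := by
  classical
  obtain ⟨K, hKn, hKle, hK⟩ := exists_normal_relIndex hP (_root_.commutator P) hne
  by_cases hKb : K = ⊥
  · subst hKb
    rwa [Subgroup.relIndex_bot_left] at hK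
  obtain ⟨L, hLn, hLle, hL⟩ := exists_normal_relIndex hP K hKb
  exfalso
  have hR := hP.to_quotient L
  have hmap : (_root_.commutator P).map (QuotientGroup.mk' L) = _root_.commutator (P ⧸ L) := by
    rw [commutator_def, commutator_def, Subgroup.map_commutator,
      Subgroup.map_top_of_surjective _ (QuotientGroup.mk'_surjective L)]
  have hcard : ∀ A : Subgroup P, Nat.card (A.map (QuotientGroup.mk' L)) = L.relIndex A := fun A => by
    rw [← Subgroup.relIndex_bot_left, ← Subgroup.relIndex_comap, MonoidHom.comap_bot,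
      QuotientGroup.ker_mk']
  refine false_of_card_sq (p := p) hR (sameDeg_quotient H L) ?_ (K.map (QuotientGroup.mk' L))
    (hMn := hKn.map _ (QuotientGroup.mk'_surjective L)) (by rw [hcard, hL]) (hmap ▸ Subgroup.map_mono hKle)
  rw [← hmap, hcard, ← Subgroup.relIndex_mul_relIndex L K _ hLle hKle, hL, hK, pow_two]

/-- Let p be a prime and P a finite non-commutative p-group. Then every two irreducible characters of P of the same degree greater than 1 are Galois conjugate (one is obtained from the other by composing with g ↦ g^k for some k prime to the order of P) if and only if the centre of P is cyclic and the derived subgroup of P has order p. -/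
theorem result {P : Type*} [Group P] [Finite P] (p : ℕ) [Fact p.Prime] (hP : IsPGroup p P) (hna : ¬ IsMulCommutative P) :
    (∀ χ ψ : Cfsg.IrrCharacter P, Cfsg.charDegree (χ : P → ℂ) ≠ 1 → Cfsg.charDegree (χ : P → ℂ) = Cfsg.charDegree (ψ : P → ℂ) → ∃ k : ℕ, Nat.Coprime k (Nat.card P) ∧ ∀ g : P, (ψ : P → ℂ) g = (χ : P → ℂ) (g ^ k)) ↔
      (IsCyclic (Subgroup.center P) ∧ Nat.card (commutator P) = p) := by
  classical
  have hne : _root_.commutator P ≠ ⊥ := fun h => hna ⟨⟨fun a b =>
    commutatorElement_eq_one_iff_mul_comm.mp (Subgroup.mem_bot.mp (h ▸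
      Subgroup.commutator_mem_commutator (Subgroup.mem_top a) (Subgroup.mem_top b)))⟩⟩
  constructor
  · intro H
    have hcard := card_commutator_eq hP H hne
    exact ⟨center_isCyclic hP hcard H, hcard⟩
  · rintro ⟨hcyc, hcard⟩
    exact sameDeg_of hP hcyc hcard

end Cfsg.Agent.S4845
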