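import Cfsg.Statements.S4850
import Cfsg.Agent.Lib.OneOrderVanish.Core
import Cfsg.Agent.Lib.PGroup.Wielandt

set_option autoImplicit false
open Cfsg

namespace Cfsg.Agent.S4850

open scoped commutatorElement

/-- Let p be a prime and G a finite solvable group whose vanishing elements (elements at which some irreducible character is zero) of order divisible by p all have the same order, with at least one such element. Let P be a Sylow p-subgroup of G. Then the derived subgroup of P is subnormal in G and the image of P in G/O_p(G) is cyclic. -/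
theorem result {G : Type*} [Group G] [Finite G] [hs : Group.IsSolvable G] (p : ℕ) [Fact p.Prime] (b : ℕ) (hvo : {n : ℕ | p ∣ n ∧ ∃ (g : G) (χ : Cfsg.IrrCharacter G), orderOf g = n ∧ (χ : G → ℂ) g = 0} = {b}) (P : Sylow p G) :
    ((commutator ↥(P : Subgroup G)).map (P : Subgroup G).subtype).IsSubnormal ∧ IsCyclic ↥((P : Subgroup G).map (QuotientGroup.mk' (Cfsg.pCore p G))) := by
  classical
  set K := Cfsg.pCore p G with hK
  have hKn : K.Normal := Cfsg.pCore_normal p G
  let π := QuotientGroup.mk' K
  have hπs : Function.Surjective π := QuotientGroup.mk'_surjective K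
  have hp : p.Prime := Fact.out
  have hKP : K ≤ (P : Subgroup G) := CfsgLib.Cores.pCore_le_sylow P
  -- all vanishing `p`-singular elements of the quotient lift to elements of order `b`
  have lift : ∀ z : G, p ∣ orderOf (π z) → (∃ χ : Cfsg.IrrCharacter (G ⧸ K), (χ : G ⧸ K → ℂ) (π z) = 0) →
      orderOf z = b := fun z hz ⟨χ, hχ⟩ => Set.eq_of_mem_singleton (hvo ▸
        (⟨hz.trans (orderOf_map_dvd π z), z,
          ⟨(χ : G ⧸ K → ℂ) ∘ QuotientGroup.mk, CfsgLib.CharNormal.isIrr_comp_mk' K χ.2⟩, rfl, hχ⟩ :
          orderOf z ∈ {n : ℕ | p ∣ n ∧ ∃ (g : G) (χ : Cfsg.IrrCharacter G), orderOf g = n ∧ (χ : G → ℂ) g = 0}))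
  have hcore : Nat.card ((P : Subgroup G).map π) ≤ p := by
    have h := CfsgLib.OneOrderVanish.core_case p (CfsgLib.Cores.pCore_quotient_self p)
      (fun x j hx hvx hxj hvxj => ?_) (P.mapSurjective hπs)
    · rwa [Sylow.coe_mapSurjective] at h
    obtain ⟨z, rfl⟩ := hπs x
    have e1 := lift z hx hvx
    have e2 := lift (z ^ j) (by rw [map_pow]; exact hxj) (by rw [map_pow]; exact hvxj)
    rw [← e1, orderOf_pow] at e2
    have hg : (orderOf z).gcd j = 1 := by
      rcases Nat.div_eq_self.1 e2 with h | h
      · have := orderOf_pos z; omega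
      · exact h
    exact Nat.Coprime.orderOf_pow (Nat.Coprime.coprime_dvd_left (orderOf_map_dvd π z) hg)
  have hcyc : IsCyclic ↥((P : Subgroup G).map π) := by
    obtain ⟨k, hk⟩ := IsPGroup.iff_card.1 (P.2.map π)
    rcases Nat.lt_or_ge k 1 with h | h
    · have : Subsingleton ↥((P : Subgroup G).map π) := (Nat.card_eq_one_iff_unique.1 (by
        rw [hk, show k = 0 by omega, pow_zero])).1
      exact isCyclic_of_subsingleton
    · refine isCyclic_of_prime_card (p := p) (le_antisymm hcore ?_)
      rw [hk]
      exact Nat.le_self_pow (by omega) p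
  refine ⟨?_, hcyc⟩
  have hle : (commutator ↥(P : Subgroup G)).map (P : Subgroup G).subtype ≤ K := by
    rw [Subgroup.map_subtype_commutator, Subgroup.commutator_le]
    intro x hx y hy
    refine (QuotientGroup.eq_one_iff _).1 ?_
    show π ⁅x, y⁆ = 1
    rw [map_commutatorElement, commutatorElement_eq_one_iff_mul_comm]
    letI := hcyc.commGroup
    exact congrArg Subtype.val (mul_comm (⟨π x, Subgroup.mem_map_of_mem π hx⟩ : ↥((P : Subgroup G).map π))
      ⟨π y, Subgroup.mem_map_of_mem π hy⟩)
  have hKs : K.IsSubnormal := hKn.isSubnormal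
  have hKp : IsPGroup p K := CfsgLib.Cores.isPGroup_pCore p
  haveI : Group.IsNilpotent K := hKp.isNilpotent
  exact Subgroup.IsSubnormal.trans hle (CfsgLib.PGroup.isSubnormal_of_isNilpotent _) hKs

end Cfsg.Agent.S4850
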