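import Cfsg.Statements.S4859
import Cfsg.Agent.Lib.CharBlocks.Indicator

set_option autoImplicit false
open Cfsg

namespace Cfsg.Agent.S4859

open CfsgLib.CharBlocks CfsgLib.Char
open scoped ComplexConjugate

/-- Let p be an odd prime, G a finite group and x an element of G whose order is a power of p (possibly 1) and whose centralizer has even order. Let y be a 2-element of the centralizer of x whose order is largest among the 2-elements of that centralizer. Then x * y is not a square in G, and some non-principal real-valued irreducible character of G does not vanish at x * y. -/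
theorem result {G : Type*} [Group G] [Finite G] (p : ℕ) [Fact p.Prime] (hp : p ≠ 2) (x : G) (hx : ∃ k : ℕ, orderOf x = p ^ k) (heven : Even (Nat.card (Subgroup.centralizer ({x} : Set G)))) (y : G) (hy : y ∈ Subgroup.centralizer ({x} : Set G)) (hy2 : ∃ k : ℕ, orderOf y = 2 ^ k) (hmax : ∀ z ∈ Subgroup.centralizer ({x} : Set G), (∃ k : ℕ, orderOf z = 2 ^ k) → orderOf z ≤ orderOf y) : (¬ ∃ u : G, u * u = x * y) ∧ ∃ χ : Cfsg.IrrCharacter G, ¬ ((χ : G → ℂ) = fun _ => (1 : ℂ)) ∧ (∀ g : G, ((χ : G → ℂ) g).im = 0) ∧ (χ : G → ℂ) (x * y) ≠ 0 := by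
  classical
  have := Fintype.ofFinite G
  obtain ⟨j, hj⟩ := hy2
  obtain ⟨k, hk⟩ := hx
  have hxy : Commute x y := ((Subgroup.mem_centralizer_singleton_iff.mp hy) : y * x = x * y).symm
  have hcop : (orderOf x).Coprime (orderOf y) := by
    rw [hk, hj]
    exact Nat.Coprime.pow k j ((Nat.coprime_primes Fact.out Nat.prime_two).mpr hp)
  -- some 2-element of the centralizer is nontrivial
  have hj0 : j ≠ 0 := by
    obtain ⟨z, hz⟩ := exists_prime_orderOf_dvd_card' (G := Subgroup.centralizer ({x} : Set G)) 2 heven.two_dvd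
    have := hmax (z : G) z.2 ⟨1, by rw [Subgroup.orderOf_coe, hz, pow_one]⟩
    intro h0
    rw [Subgroup.orderOf_coe, hz, hj, h0, pow_zero] at this
    omega
  have hnsq : ¬ ∃ u : G, u * u = x * y := by
    rintro ⟨u, hu⟩
    have hux : u * x = x * u := by
      obtain ⟨a, ha⟩ : ∃ a : ℕ, x = (x * y) ^ a := by
        obtain ⟨a, ha, hb⟩ := Nat.chineseRemainder hcop 1 0
        refine ⟨a, ?_⟩
        rw [hxy.mul_pow, pow_eq_pow_iff_modEq.mpr ha, pow_eq_pow_iff_modEq.mpr hb, pow_one, pow_zero, mul_one]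
      have : Commute u x := by
        rw [ha, ← hu]
        exact ((Commute.refl u).mul_right (Commute.refl u)).pow_right a
      exact this.eq
    have hord : orderOf (u * u) = p ^ k * 2 ^ j := by
      rw [hu, hxy.orderOf_mul_eq_mul_orderOf_of_coprime hcop, hk, hj]
    have hu2 : orderOf u = p ^ k * 2 ^ (j + 1) := by
      have h1 : orderOf (u ^ 2) = orderOf u / Nat.gcd (orderOf u) 2 := orderOf_pow u
      rw [pow_two, hord] at h1
      have h2 : p ^ k * 2 ^ j ∣ orderOf u := hord ▸ (pow_two u ▸ orderOf_pow_dvd 2)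
      have h3 : 2 ∣ orderOf u := (Nat.dvd_mul_left _ _).trans ((Nat.mul_dvd_mul_left _ (dvd_pow_self 2 hj0)).trans h2)
      rw [Nat.gcd_eq_right h3] at h1
      rw [pow_succ, ← mul_assoc, h1, Nat.div_mul_cancel h3]
    have hz : orderOf (u ^ p ^ k) = 2 ^ (j + 1) := by
      rw [orderOf_pow_of_dvd (by simp [(Fact.out : p.Prime).ne_zero]) (hu2 ▸ Nat.dvd_mul_right _ _), hu2,
        Nat.mul_div_cancel_left _ (Nat.pos_of_ne_zero (by simp [(Fact.out : p.Prime).ne_zero]))]
    have hle := hmax (u ^ p ^ k) (Subgroup.pow_mem _ (Subgroup.mem_centralizer_singleton_iff.mpr hux) _) ⟨j + 1, hz⟩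
    rw [hz, hj, pow_succ] at hle
    have := Nat.two_pow_pos j
    omega
  refine ⟨hnsq, ?_⟩
  have hsum := sum_fsInd_mul (x * y)
  rw [Finset.filter_false_of_mem (fun s _ hs => hnsq ⟨s, hs⟩), Finset.card_empty, Nat.cast_zero] at hsum
  by_contra hcon
  push Not at hcon
  rw [Finset.sum_eq_single (irrOne : IrrCharacter G) (fun χ _ hne => ?_) (by simp), fsInd_irrOne,
    irrOne_apply, one_mul] at hsum
  · exact one_ne_zero hsum
  · by_cases h0 : fsInd (χ : G → ℂ) = 0
    · rw [h0, zero_mul]
    have hreal := (fsInd_ne_zero_iff χ.2).mp h0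
    rw [hcon χ (fun e => hne (Subtype.ext (e.trans (funext fun g => (irrOne_apply g).symm))))
      (fun g => Complex.conj_eq_iff_im.mp (hreal g)), mul_zero]

end Cfsg.Agent.S4859
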