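import Cfsg.Statements.S4862
import Cfsg.Agent.Lib.CharBlocks.RealAbove
import Cfsg.Agent.Lib.PStab.QuadPair
import Mathlib.GroupTheory.FiniteAbelian.Duality

set_option autoImplicit false
open Cfsg

namespace Cfsg.Agent.S4862

open CfsgLib.Char CfsgLib.CharBlocks
open scoped commutatorElement

/-- Linear characters separate modulo the commutator subgroup. -/
theorem exists_hom_ne {A : Type*} [Group A] [Finite A] {x : A} (hx : x ∉ commutator A) :
    ∃ f : A →* ℂˣ, f x ≠ 1 := by
  have hne : (Abelianization.of x : Abelianization A) ≠ 1 := fun e =>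
    hx (by rwa [← MonoidHom.mem_ker, Abelianization.ker_of] at e)
  obtain ⟨φ, hφ⟩ := CommGroup.exists_apply_ne_one_of_hasEnoughRootsOfUnity (Abelianization A) ℂ hne
  exact ⟨φ.comp Abelianization.of, hφ⟩


/-- Let p be an odd prime and G a finite group such that the subgroup generated by the p-elements of G is solvable and every real-valued irreducible complex character of G has degree prime to p. Let K be the subgroup generated by the 2-elements of G and P a Sylow p-subgroup of G. Then every normal subgroup M of G contained in K and in the derived subgroup of P is centralized by K. -/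
theorem result {G : Type*} [Group G] [Finite G] (p : ℕ) [Fact p.Prime] (hp : p ≠ 2) (hsolv : Group.IsSolvable ↥(Subgroup.closure {g : G | ∃ k : ℕ, orderOf g = p ^ k})) (hreal : ∀ χ : Cfsg.IrrCharacter G, (∀ g : G, ((χ : G → ℂ) g).im = 0) → ¬ p ∣ Cfsg.charDegree (χ : G → ℂ)) (P : Sylow p G) (M : Subgroup G) (hM : M.Normal) (hMK : M ≤ (Subgroup.closure {g : G | ∃ k : ℕ, orderOf g = 2 ^ k})) (hMP : M ≤ ⁅(P : Subgroup G), (P : Subgroup G)⁆) : (Subgroup.closure {g : G | ∃ k : ℕ, orderOf g = 2 ^ k}) ≤ Subgroup.centralizer (M : Set G) := by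
  classical
  have := Fintype.ofFinite G
  have := Fintype.ofFinite M
  have hcomm : ⁅(P : Subgroup G), (P : Subgroup G)⁆ ≤ (P : Subgroup G) := Subgroup.commutator_le_self _
  have hMP' : M ≤ (P : Subgroup G) := hMP.trans hcomm
  have hMp : IsPGroup p M := P.2.to_le hMP'
  have := Fintype.ofFinite (P : Subgroup G)
  rw [Subgroup.closure_le]
  intro t ht
  obtain ⟨k, hk⟩ := ht
  suffices h : ∀ j, j ≤ k → t ^ 2 ^ (k - j) ∈ Subgroup.centralizer (M : Set G) by
    simpa using h k le_rfl
  intro j
  induction j with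
  | zero =>
    intro _
    rw [Nat.sub_zero, ← hk, pow_orderOf_eq_one]
    exact one_mem _
  | succ j ih =>
    intro hj
    set g := t ^ 2 ^ (k - (j + 1)) with hgdef
    have hg2 : g * g ∈ Subgroup.centralizer (M : Set G) := by
      have := ih (by omega)
      rw [show k - j = k - (j + 1) + 1 by omega, pow_succ, pow_mul, pow_two, ← hgdef] at this
      exact this
    have hgord : ∃ i, orderOf g = 2 ^ i := by
      obtain ⟨i, -, hi⟩ := (Nat.dvd_prime_pow Nat.prime_two).1 (hk ▸ orderOf_pow_dvd (x := t) (2 ^ (k - (j + 1))))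
      exact ⟨i, hi⟩
    refine CfsgLib.PStab.mem_centralizer_of_frattini hMp ?_ ?_ ?_
    · rw [Subgroup.normalizer_eq_top (H := M)]
      exact Subgroup.mem_top g
    · obtain ⟨i, hi⟩ := hgord
      rw [hi]
      exact Nat.Coprime.pow_left _ ((Nat.coprime_primes Nat.prime_two (Fact.out : p.Prime)).2 (Ne.symm hp))
    intro x hx
    have hx' : ⁅g, x⁆ ∈ M := by
      rw [commutatorElement_def]
      exact mul_mem (hM.conj_mem x hx g) (inv_mem hx)
    refine ⟨⟨⁅g, x⁆, hx'⟩, CfsgLib.PGroup.commutator_le_frattini hMp ?_, rfl⟩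
    by_contra hnot
    obtain ⟨f, hf⟩ := exists_hom_ne hnot
    let c : M →* M := MonoidHom.mk' (fun y => ⟨g * y * g⁻¹, hM.conj_mem y y.2 g⟩)
      (fun a b => Subtype.ext (show g * (a * b : G) * g⁻¹ = g * a * g⁻¹ * (g * b * g⁻¹) by group))
    let μ : M →* ℂˣ := f.comp c / f
    have hμne : μ ≠ 1 := by
      intro e
      apply hf
      have := congrArg (fun h : M →* ℂˣ => h ⟨x, hx⟩) e
      simp only [μ, MonoidHom.div_apply, MonoidHom.comp_apply, MonoidHom.one_apply] at this
      rw [← this, ← map_div]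
      exact congrArg f (Subtype.ext (by simp [c, commutatorElement_def, div_eq_mul_inv]))
    have hinv : ∀ (y : G) (hy : y ∈ M), μ ⟨g * y * g⁻¹, hM.conj_mem y hy g⟩ = (μ ⟨y, hy⟩)⁻¹ := by
      intro y hy
      have e : g * g * y * (g * g)⁻¹ = y := by
        rw [← Subgroup.mem_centralizer_iff.1 hg2 y hy]; group
      simp only [μ, MonoidHom.div_apply, MonoidHom.comp_apply, inv_div]
      congr 1
      have e2 : g * (g * y * g⁻¹) * g⁻¹ = y := Eq.trans (by group) e
      exact congrArg f (Subtype.ext e2)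
    obtain ⟨χ, hχr, hχ⟩ := RealAbove.exists_real hp M hMp μ hμne g hgord hinv
    obtain ⟨ν, hν⟩ := LinConst.exists_linear_constituent (P : Subgroup G) P.2 χ (hreal χ hχr)
    obtain ⟨a, ha⟩ := LinConst.exists_conj_eq (P : Subgroup G) M hMP' χ ν hν (isIrrCharacter_units_hom μ) hχ
    apply hμne
    ext y
    have h1 := congrFun ha ⟨a⁻¹ * y * a, by simpa using hM.conj_mem (y : G) y.2 a⁻¹⟩
    simp only [CfsgLib.CharNormal.conjFun_apply] at h1
    have h2 : ν ⟨a⁻¹ * y * a, hMP' (by simpa using hM.conj_mem (y : G) y.2 a⁻¹)⟩ = 1 := by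
      have hm : (⟨a⁻¹ * y * a, hMP' (by simpa using hM.conj_mem (y : G) y.2 a⁻¹)⟩ : (P : Subgroup G)) ∈
          commutator (P : Subgroup G) := by
        have h3 : a⁻¹ * (y : G) * a ∈ (commutator (P : Subgroup G)).map (P : Subgroup G).subtype := by
          rw [map_commutator_eq, Subgroup.range_subtype]
          exact hMP (by simpa using hM.conj_mem (y : G) y.2 a⁻¹)
        obtain ⟨z, hz, hz'⟩ := h3
        have ez : z = (⟨a⁻¹ * y * a, hMP' (by simpa using hM.conj_mem (y : G) y.2 a⁻¹)⟩ : (P : Subgroup G)) :=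
          Subtype.ext hz'
        exact ez ▸ hz
      exact Abelianization.commutator_subset_ker ν hm
    rw [h2, Units.val_one] at h1
    simp only [MonoidHom.one_apply, Units.val_one]
    rw [← h1]
    exact congrArg (fun z => ((μ z : ℂˣ) : ℂ)) (Subtype.ext (show (y : G) = a * (a⁻¹ * y * a) * a⁻¹ by group))

end Cfsg.Agent.S4862
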