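import Cfsg.Statements.S4864
import Cfsg.Agent.Lib.CharBlocks.RealPrimeCorr

set_option autoImplicit false
open Cfsg

namespace Cfsg.Agent.S4864

open CfsgLib.Char CfsgLib.CharBlocks CfsgLib

/-- The case of a `p'`-group generated by the `2`-elements. -/
theorem reduced {G : Type*} [Group G] [Finite G] {p : ℕ} [Fact p.Prime]
    (hsolv : Group.IsSolvable (RealPrime.gen p G))
    (hreal : ∀ χ : Cfsg.IrrCharacter G, (∀ g : G, ((χ : G → ℂ) g).im = 0) → ¬ p ∣ Cfsg.charDegree (χ : G → ℂ))
    (hK : ¬ p ∣ Nat.card (RealPrime.gen 2 G)) (P : Sylow p G) (x : G) (hx : IsConj x x⁻¹) :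
    ∃ y ∈ Subgroup.normalizer ((P : Subgroup G) : Set G), IsConj x y := by
  classical
  have := Fintype.ofFinite G
  haveI : Fact (Nat.Prime 2) := ⟨Nat.prime_two⟩
  set K := RealPrime.gen 2 G
  set N := Subgroup.normalizer ((P : Subgroup G) : Set G)
  have hKodd : Odd K.index := by
    rw [Nat.odd_iff, ← Nat.two_dvd_ne_zero]
    exact RealPrime.not_dvd_index_gen (r := 2) G
  obtain ⟨f, hf, -⟩ := RealPrimeCorr.main p hsolv hreal P
  have hle : Nat.card {C : ConjClasses G // classInv C = C} ≤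
      Nat.card {C : ConjClasses N // classInv C = C} := by
    rw [← card_real_irr, ← card_real_irr]
    refine le_trans (le_of_eq (Nat.card_congr ((Equiv.subtypeEquivRight fun χ => irrConj_eq_self_iff χ).trans
      (Equiv.ofBijective f hf)))) (Nat.card_le_card_of_injective
      (fun ξ => (⟨ξ.1, (irrConj_eq_self_iff ξ.1).2 ξ.2.1⟩ : {χ : Cfsg.IrrCharacter N // irrConj χ = χ})) ?_)
    intro a b e
    exact Subtype.ext (congrArg Subtype.val e :)
  let ι : {C : ConjClasses N // classInv C = C} → {C : ConjClasses G // classInv C = C} := fun C =>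
    ⟨ConjClasses.map N.subtype C.1, by
      obtain ⟨a, ha⟩ := ConjClasses.mk_surjective C.1
      have h1 := C.2
      rw [← ha] at h1 ⊢
      exact congrArg (ConjClasses.map N.subtype) h1⟩
  have hmem : ∀ a : N, classInv (ConjClasses.mk a) = ConjClasses.mk a →
      (a : G) ∈ Subgroup.centralizer ((P : Subgroup G) : Set G) := by
    intro a ha
    rw [classInv_mk, ConjClasses.mk_eq_mk_iff_isConj] at ha
    have h1 := (RealOddIndex.real_mem K hKodd (N.subtype.map_isConj ha).symm).1
    refine Subgroup.mem_centralizer_iff.2 fun z hz => ?_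
    have h2 : z * a * z⁻¹ * (a : G)⁻¹ ∈ K :=
      K.mul_mem (Subgroup.Normal.conj_mem inferInstance _ h1 z) (K.inv_mem h1)
    have h3 : (a : G) * z⁻¹ * (a : G)⁻¹ ∈ (P : Subgroup G) :=
      (Subgroup.mem_normalizer_iff.1 a.2 z⁻¹).1 (inv_mem hz)
    have h4 : z * a * z⁻¹ * (a : G)⁻¹ ∈ (P : Subgroup G) := by
      rw [show z * a * z⁻¹ * (a : G)⁻¹ = z * ((a : G) * z⁻¹ * (a : G)⁻¹) by group]
      exact (P : Subgroup G).mul_mem hz h3
    obtain ⟨k, hk⟩ := IsPGroup.iff_card.1 P.2
    have h5 : z * a * z⁻¹ * (a : G)⁻¹ ∈ (P : Subgroup G) ⊓ K := ⟨h4, h2⟩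
    rw [disjoint_iff.1 (Subgroup.disjoint_of_coprime_natCard (H := (P : Subgroup G)) (K := K)
      (hk ▸ (((Fact.out : p.Prime).coprime_iff_not_dvd).2 hK).pow_left k)), Subgroup.mem_bot,
      mul_inv_eq_one, mul_inv_eq_iff_eq_mul] at h5
    exact h5
  have hinj : Function.Injective ι := by
    rintro ⟨A, hA⟩ ⟨B, hB⟩ e
    obtain ⟨a, rfl⟩ := ConjClasses.mk_surjective A
    obtain ⟨b, rfl⟩ := ConjClasses.mk_surjective B
    have e' : IsConj (a : G) (b : G) := ConjClasses.mk_eq_mk_iff_isConj.1 (congrArg Subtype.val e)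
    obtain ⟨g, hg⟩ := isConj_iff.1 e'
    have hga : g⁻¹⁻¹ * (a : G) * g⁻¹ = b := by rw [inv_inv, hg]
    obtain ⟨n, hn, hnb⟩ := P.conj_eq_normalizer_conj_of_mem_centralizer (a : G) g⁻¹ (hmem a hA)
      (hga.symm ▸ hmem b hB)
    rw [hga] at hnb
    exact Subtype.ext (ConjClasses.mk_eq_mk_iff_isConj.2 (isConj_iff.2
      ⟨(⟨n, hn⟩ : N)⁻¹, Subtype.ext (by simpa using hnb.symm)⟩))
  have : Finite (ConjClasses G) := Finite.of_surjective _ ConjClasses.mk_surjective
  have : Finite (ConjClasses N) := Finite.of_surjective _ ConjClasses.mk_surjective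
  have hbij := hinj.bijective_of_nat_card_le hle
  obtain ⟨⟨B, hB⟩, hBx⟩ := hbij.2 ⟨ConjClasses.mk x, by
    rw [classInv_mk, ConjClasses.mk_eq_mk_iff_isConj]; exact hx.symm⟩
  obtain ⟨b, rfl⟩ := ConjClasses.mk_surjective B
  exact ⟨b, b.2, (ConjClasses.mk_eq_mk_iff_isConj.1 (congrArg Subtype.val hBx)).symm⟩


/-- Let p be a prime and G a finite group such that the subgroup generated by the p-elements of G is solvable and every real-valued irreducible complex character of G has degree prime to p. Then the normalizer of a Sylow p-subgroup of G contains an element of every real conjugacy class of G: every element conjugate to its inverse is conjugate to an element of that normalizer. -/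
theorem result {G : Type*} [Group G] [Finite G] (p : ℕ) [Fact p.Prime] (hsolv : Group.IsSolvable ↥(Subgroup.closure {g : G | ∃ k : ℕ, orderOf g = p ^ k})) (hreal : ∀ χ : Cfsg.IrrCharacter G, (∀ g : G, ((χ : G → ℂ) g).im = 0) → ¬ p ∣ Cfsg.charDegree (χ : G → ℂ)) (P : Sylow p G) (x : G) (hx : IsConj x x⁻¹) : ∃ y ∈ Subgroup.normalizer ((P : Subgroup G) : Set G), IsConj x y := by
  classical
  haveI : Fact (Nat.Prime 2) := ⟨Nat.prime_two⟩
  set K := RealPrime.gen 2 G with hK
  set Q : Subgroup G := (P : Subgroup G) ⊓ K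
  have hKodd : Odd K.index := by
    rw [Nat.odd_iff, ← Nat.two_dvd_ne_zero]
    exact RealPrime.not_dvd_index_gen (r := 2) G
  have hQp : IsPGroup p Q := P.2.to_le inf_le_left
  have hQsyl : ¬ p ∣ (Q.subgroupOf K).index := by
    show ¬ p ∣ Q.relIndex K
    rw [Subgroup.inf_relIndex_right]
    exact fun h => P.not_dvd_index (h.trans (RealPrime.relIndex_dvd_index _ _ inferInstance))
  let QK : Sylow p K := (hQp.of_injective
    (Subgroup.subgroupOfEquivOfLe (inf_le_right : Q ≤ K)).toMonoidHom (MulEquiv.injective _)).toSylow hQsyl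
  have hQKn := RealPrime.sylow_normal p _ G rfl hsolv hreal K inferInstance le_rfl
    ⟨0, by rw [pow_zero]; exact Subgroup.relIndex_self _⟩ QK
  have hQc := QK.characteristic_of_normal hQKn
  have hQn : Q.Normal := by
    have h : ((QK : Subgroup K).map K.subtype).Normal := ConjAct.normal_of_characteristic_of_normal
    rwa [IsPGroup.toSylow_coe, Subgroup.subgroupOf_map_subtype, inf_of_le_left inf_le_right] at h
  let π := QuotientGroup.mk' Q
  have hπ : Function.Surjective π := QuotientGroup.mk'_surjective Q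
  let Pb : Sylow p (G ⧸ Q) := P.mapSurjective hπ
  have hKb : ¬ p ∣ Nat.card (RealPrime.gen 2 (G ⧸ Q)) := by
    rw [← RealPrime.gen_map π hπ]
    have h1 : Nat.card (K.map π) = Q.relIndex K := by
      rw [← Subgroup.relIndex_bot_left, ← Subgroup.map_bot π, Subgroup.relIndex_map_map, bot_sup_eq,
        QuotientGroup.ker_mk', sup_of_le_left (inf_le_right : Q ≤ K)]
    rw [h1]
    exact hQsyl
  have hsol : Group.IsSolvable (RealPrime.gen p (G ⧸ Q)) := by
    rw [← RealPrime.gen_map π hπ]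
    have : Group.IsSolvable (RealPrime.gen p G) := hsolv
    exact Group.isSolvable_of_surjective (π.subgroupMap_surjective (RealPrime.gen p G))
  obtain ⟨y, hy, hxy⟩ := reduced hsol (fun χ hχ => hreal (CharNormal.inflEquiv Q χ).1
    (fun g => hχ (g : G ⧸ Q))) hKb Pb (x : G ⧸ Q) (by
      have := π.map_isConj hx
      rwa [map_inv] at this)
  obtain ⟨g, hg⟩ := isConj_iff.1 hxy
  obtain ⟨g, rfl⟩ := hπ g
  refine ⟨g * x * g⁻¹, ?_, isConj_iff.2 ⟨g, rfl⟩⟩
  have h1 : g * x * g⁻¹ ∈ (Subgroup.normalizer ((Pb : Subgroup (G ⧸ Q)) : Set (G ⧸ Q))).comap π := by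
    rw [Subgroup.mem_comap, map_mul, map_mul, map_inv]
    show π g * (x : G ⧸ Q) * (π g)⁻¹ ∈ _
    rw [hg]
    exact hy
  rw [Subgroup.comap_normalizer_eq_of_surjective _ hπ, Sylow.coe_mapSurjective,
    Subgroup.comap_map_eq, QuotientGroup.ker_mk', sup_of_le_left (inf_le_left : Q ≤ (P : Subgroup G))] at h1
  exact h1

end Cfsg.Agent.S4864
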