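import Cfsg.Statements.S4871
import Cfsg.Agent.Lib.CharBlocks.InertiaInduced
import Mathlib.GroupTheory.FiniteAbelian.Duality

set_option autoImplicit false
open Cfsg

namespace Cfsg.Agent.S4871

open CfsgLib.Char CfsgLib.CharBlocks
open scoped ComplexConjugate IsMulCommutative

section
variable {A : Type*} [Group A] [Fintype A]

/-- Linear characters trivial on a subgroup are at most its index in number. -/
theorem card_trivial_le (T : Subgroup A) [Fintype T] :
    Nat.card {f : A →* ℂˣ // ∀ t ∈ T, f t = 1} ≤ T.index := by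
  classical
  obtain ⟨m, hm, hmi⟩ := char_decomp (isCharacter_indFun T (isCharacter_of_isIrr (isIrrCharacter_one (G := T))))
  let e : {f : A →* ℂˣ // ∀ t ∈ T, f t = 1} → IrrCharacter A := fun f => ⟨_, isIrrCharacter_units_hom f.1⟩
  have he : Function.Injective e := fun f f' h =>
    Subtype.ext (MonoidHom.ext fun a => Units.ext (congrFun (congrArg Subtype.val h) a))
  have := Fintype.ofInjective e he
  have h1 := congrFun hm 1
  simp only [indFun_one, mul_one, Finset.sum_apply, Pi.smul_apply, smul_eq_mul, ← coe_charDegree_irr] at h1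
  have h1' : T.index = ∑ χ, m χ * charDegree (χ : A → ℂ) := by exact_mod_cast h1
  rw [h1', Nat.card_eq_fintype_card, ← Finset.card_univ, ← Finset.card_image_of_injective _ he,
    Finset.card_eq_sum_ones]
  refine le_trans (Finset.sum_le_sum fun χ hχ => ?_) (Finset.sum_le_sum_of_subset (Finset.subset_univ _))
  obtain ⟨f, -, rfl⟩ := Finset.mem_image.1 hχ
  have hd : charDegree (e f : A → ℂ) = 1 := charDegree_eq (by simp [e])
  rw [hd, mul_one]
  have h2 := hmi (e f)
  rw [frobenius_reciprocity T _ (isClassFunction_of_isIrr (e f).2),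
    show (fun h : T => (e f : A → ℂ) h) = fun _ => 1 from funext fun h => by simp [e, f.2 h h.2],
    classInner_irr_self isIrrCharacter_one] at h2
  exact Nat.one_le_iff_ne_zero.2 fun h => by simp [h] at h2

end

/-- Sums of the values of a nontrivial linear character vanish. -/
theorem sum_hom {A : Type*} [Group A] [Fintype A] (f : A →* ℂˣ) [Decidable (f = 1)] :
    ∑ a, (f a : ℂ) = if f = 1 then (Nat.card A : ℂ) else 0 := by
  split_ifs with h
  · simp [h, Nat.card_eq_fintype_card]
  · obtain ⟨b, hb⟩ : ∃ b, f b ≠ 1 := by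
      by_contra hc
      push Not at hc
      exact h (MonoidHom.ext hc)
    have e : (f b : ℂ) * ∑ a, (f a : ℂ) = ∑ a, (f a : ℂ) := by
      rw [Finset.mul_sum]
      exact Fintype.sum_equiv (Equiv.mulLeft b) _ _ fun a => by simp
    exact (mul_eq_zero.1 (show ((f b : ℂ) - 1) * ∑ a, (f a : ℂ) = 0 by rw [sub_mul, e, one_mul, sub_self])).resolve_left
      (sub_ne_zero.2 fun h' => hb (Units.ext h'))


/-- Let G be a finite group that is the semidirect product of a normal elementary abelian subgroup N of odd order by a non-trivial 2-subgroup P, with N the unique minimal normal subgroup of G. Consider the strongly real irreducible complex characters of G (Frobenius–Schur indicator +1) whose degree is 1 or even. Then their average degree is at least 4/3: four times their number is at most three times the sum of their degrees. -/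
theorem result {G : Type*} [Group G] [Finite G] (N P : Subgroup G) (hN : N.Normal) (q : ℕ) [Fact q.Prime] (hq : q ≠ 2) (hNel : Cfsg.IsElementaryAbelian q N) (hP : IsPGroup 2 ↥P) (hP1 : P ≠ ⊥) (hdisj : N ⊓ P = ⊥) (hprod : N ⊔ P = ⊤) (hmin : N ≠ ⊥ ∧ ∀ M : Subgroup G, M.Normal → M ≠ ⊥ → N ≤ M) : 4 * Nat.card {χ : Cfsg.IrrCharacter G // (Cfsg.charDegree (χ : G → ℂ) = 1 ∨ 2 ∣ Cfsg.charDegree (χ : G → ℂ)) ∧ (Nat.card G : ℂ)⁻¹ * ∑ᶠ g : G, (χ : G → ℂ) (g * g) = 1} ≤ 3 * (∑ᶠ χ : {χ : Cfsg.IrrCharacter G // (Cfsg.charDegree (χ : G → ℂ) = 1 ∨ 2 ∣ Cfsg.charDegree (χ : G → ℂ)) ∧ (Nat.card G : ℂ)⁻¹ * ∑ᶠ g : G, (χ : G → ℂ) (g * g) = 1}, Cfsg.charDegree (χ.1 : G → ℂ)) := by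
  classical
  have := Fintype.ofFinite G
  have := Fintype.ofFinite N
  have := Fintype.ofFinite P
  obtain ⟨hNc, hNq⟩ := hNel
  obtain ⟨hNne, hNmin⟩ := hmin
  have hNcomm : ∀ a ∈ N, ∀ b ∈ N, a * b = b * a := fun a ha b hb =>
    congrArg Subtype.val (hNc.is_comm.comm ⟨a, ha⟩ ⟨b, hb⟩)
  have hdec : ∀ x : G, ∃ n ∈ N, ∃ s ∈ P, x = n * s := fun x => by
    obtain ⟨n, hn, s, hs, e⟩ := Subgroup.mem_sup_of_normal_left.1 (hprod ▸ Subgroup.mem_top x : x ∈ N ⊔ P)
    exact ⟨n, hn, s, hs, e.symm⟩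
  have hCP : ∀ s ∈ P, (∀ n ∈ N, s * n = n * s) → s = 1 := by
    intro s hs hc
    let C : Subgroup G := P ⊓ Subgroup.centralizer (N : Set G)
    have hCn : C.Normal := ⟨fun c hc x => by
      obtain ⟨n, hn, u, hu, rfl⟩ := hdec x
      have h1 : u * c * u⁻¹ ∈ C := ⟨P.mul_mem (P.mul_mem hu hc.1) (P.inv_mem hu),
        Subgroup.mem_centralizer_iff.2 fun m hm => by
          have := Subgroup.mem_centralizer_iff.1 hc.2 (u⁻¹ * m * u) (by simpa using hN.conj_mem m hm u⁻¹)
          calc m * (u * c * u⁻¹) = u * ((u⁻¹ * m * u) * c) * u⁻¹ := by group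
            _ = u * (c * (u⁻¹ * m * u)) * u⁻¹ := by rw [this]
            _ = u * c * u⁻¹ * m := by group⟩
      have h2 := Subgroup.mem_centralizer_iff.1 h1.2 n hn
      rw [show n * u * c * (n * u)⁻¹ = n * (u * c * u⁻¹) * n⁻¹ by group, h2, mul_inv_cancel_right]
      exact h1⟩
    by_contra hne
    have hle := hNmin C hCn (fun h => hne (by
      simpa [h] using (show s ∈ C from ⟨hs, Subgroup.mem_centralizer_iff.2 fun m hm => (hc m hm).symm⟩)))
    exact hNne (eq_bot_iff.2 fun x hx => hdisj ▸ (⟨hx, (hle hx).1⟩ : x ∈ N ⊓ P))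
  obtain ⟨z, hzP, hz1, hz2, hzc⟩ : ∃ z ∈ P, z ≠ 1 ∧ z * z = 1 ∧ ∀ s ∈ P, z * s = s * z := by
    have : Nontrivial P := (Subgroup.nontrivial_iff_ne_bot P).2 hP1
    have : Nontrivial (Subgroup.center P) := hP.center_nontrivial
    obtain ⟨n, hn⟩ := IsPGroup.iff_card.1 (hP.to_subgroup (Subgroup.center P))
    have h2 : 2 ∣ Nat.card (Subgroup.center P) := by
      rw [hn]
      refine dvd_pow_self 2 fun h => ?_
      have := Finite.one_lt_card (α := Subgroup.center P)
      rw [hn, h] at this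
      simp at this
    obtain ⟨w, hw⟩ := exists_prime_orderOf_dvd_card' 2 h2
    refine ⟨((w : P) : G), (w : P).2, ?_, ?_, fun s hs => ?_⟩
    · intro e
      have : w = 1 := Subtype.ext (Subtype.ext e)
      simp [this] at hw
    · have h3 := pow_orderOf_eq_one w
      rw [hw, pow_two] at h3
      exact congrArg (fun v : Subgroup.center P => ((v : P) : G)) h3
    · exact (congrArg Subtype.val (Subgroup.mem_center_iff.1 w.2 ⟨s, hs⟩)).symm
  have hzinv : z⁻¹ = z := inv_eq_of_mul_eq_one_right hz2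
  have hfix : ∀ n ∈ N, z * n * z⁻¹ = n → n = 1 := by
    intro n hn hc
    let F : Subgroup G := N ⊓ Subgroup.centralizer ({z} : Set G)
    have hFn : F.Normal := ⟨fun f hf x => by
      obtain ⟨m, hm, u, hu, rfl⟩ := hdec x
      have h1 : u * f * u⁻¹ ∈ F := ⟨hN.conj_mem f hf.1 u, Subgroup.mem_centralizer_singleton_iff.2 (by
        have := Subgroup.mem_centralizer_singleton_iff.1 hf.2
        calc u * f * u⁻¹ * z = u * f * (z * u⁻¹) := by rw [hzc _ (inv_mem hu)]; group
          _ = u * (f * z) * u⁻¹ := by group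
          _ = u * (z * f) * u⁻¹ := by rw [this]
          _ = z * (u * f * u⁻¹) := by rw [← mul_assoc u, ← hzc u hu]; group)⟩
      rw [show m * u * f * (m * u)⁻¹ = m * (u * f * u⁻¹) * m⁻¹ by group, hNcomm m hm _ h1.1,
        mul_inv_cancel_right]
      exact h1⟩
    by_contra hne
    have hle := hNmin F hFn (fun h => hne (by
      simpa [h] using (show n ∈ F from ⟨hn, Subgroup.mem_centralizer_singleton_iff.2 (by
        rw [mul_inv_eq_iff_eq_mul] at hc; exact hc.symm)⟩)))
    exact hz1 (hCP z hzP fun m hm => (Subgroup.mem_centralizer_singleton_iff.1 (hle hm).2).symm)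
  have hinvN : ∀ n ∈ N, z * n * z⁻¹ = n⁻¹ := by
    intro n hn
    have hm : z * n * z⁻¹ ∈ N := hN.conj_mem n hn z
    have h1 := hfix (n * (z * n * z⁻¹)) (mul_mem hn hm) (by
      calc z * (n * (z * n * z⁻¹)) * z⁻¹ = (z * n * z⁻¹) * ((z * z) * n * (z * z)⁻¹) := by group
        _ = (z * n * z⁻¹) * n := by rw [hz2]; group
        _ = n * (z * n * z⁻¹) := (hNcomm n hn _ hm).symm)
    exact (inv_eq_of_mul_eq_one_right h1).symm
  obtain ⟨n₀, hn₀, hn₀1⟩ : ∃ n ∈ N, n ≠ (1 : G) := by
    by_contra h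
    push Not at h
    exact hNne (eq_bot_iff.2 fun x hx => Subgroup.mem_bot.2 (h x hx))
  obtain ⟨lam, hlam⟩ := CommGroup.exists_apply_ne_one_of_hasEnoughRootsOfUnity N ℂ
    (a := ⟨n₀, hn₀⟩) (fun h => hn₀1 (congrArg Subtype.val h))
  have hlq : ∀ n : N, lam n ^ q = 1 := fun n => by
    rw [← map_pow, show n ^ q = 1 from Subtype.ext (hNq n n.2), map_one]
  have hqodd : Odd q := (Fact.out : q.Prime).odd_of_ne_two hq
  have hlne : ∃ n : N, lam n⁻¹ ≠ lam n := by
    refine ⟨⟨n₀, hn₀⟩, fun e => hlam ?_⟩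
    obtain ⟨k, hk⟩ := hqodd
    have h3 := hlq ⟨n₀, hn₀⟩
    have h2 : lam ⟨n₀, hn₀⟩ ^ 2 = 1 := by
      rw [pow_two]; nth_rw 1 [← e]; rw [map_inv, inv_mul_cancel]
    rw [hk, pow_succ, pow_mul, h2, one_pow, one_mul] at h3
    exact h3
  set l : N → ℂ := fun n => (lam n : ℂ) with hldef
  let T : Subgroup G := P ⊓ CfsgLib.CharNormal.inertia N l
  have hzT : z ∉ T := by
    intro h
    obtain ⟨n, hn⟩ := hlne
    apply hn
    have h2 : CfsgLib.CharNormal.conjFun N z l n = l n := congrFun h.2 n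
    rw [CfsgLib.CharNormal.conjFun_apply] at h2
    rw [show (⟨z * n * z⁻¹, hN.conj_mem n n.2 z⟩ : N) = n⁻¹ from Subtype.ext (hinvN n n.2)] at h2
    exact Units.ext h2
  let H : Subgroup G := N ⊔ T
  have hNH : N ≤ H := le_sup_left
  have hTH : T ≤ H := le_sup_right
  have hHi : H = CfsgLib.CharNormal.inertia N l := by
    refine le_antisymm (sup_le (CfsgLib.CharNormal.le_inertia N
      (isClassFunction_of_isIrr (isIrrCharacter_units_hom lam))) inf_le_right) fun x hx => ?_
    obtain ⟨n, hn, s, hs, rfl⟩ := hdec x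
    have hs' : s ∈ CfsgLib.CharNormal.inertia N l := by
      simpa using mul_mem (inv_mem (CfsgLib.CharNormal.le_inertia N
        (isClassFunction_of_isIrr (isIrrCharacter_units_hom lam)) hn)) hx
    exact mul_mem (hNH hn) (hTH ⟨hs, hs'⟩)
  have := Fintype.ofFinite H
  have := Fintype.ofFinite T
  have hinj : ∀ (a b : G), a ∈ N → b ∈ N → ∀ s u, s ∈ P → u ∈ P → a * s = b * u → a = b ∧ s = u := by
    intro a b ha hb s u hs hu e
    have h1 : b⁻¹ * a = u * s⁻¹ := by
      rw [← inv_mul_eq_iff_eq_mul.2 e]; group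
    have h2 : b⁻¹ * a ∈ N ⊓ P := ⟨N.mul_mem (N.inv_mem hb) ha, h1 ▸ P.mul_mem hu (P.inv_mem hs)⟩
    rw [hdisj, Subgroup.mem_bot, inv_mul_eq_one] at h2
    exact ⟨h2.symm, by rw [h2] at e; exact mul_left_cancel e⟩
  let eH : N × T → H := fun w => ⟨w.1 * w.2, mul_mem (hNH w.1.2) (hTH w.2.2)⟩
  have heH : Function.Bijective eH := by
    refine ⟨fun w v e => ?_, ?_⟩
    · obtain ⟨e1, e2⟩ := hinj _ _ w.1.2 v.1.2 _ _ w.2.2.1 v.2.2.1 (congrArg Subtype.val e)
      exact Prod.ext (Subtype.ext e1) (Subtype.ext e2)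
    · rintro ⟨x, hx⟩
      obtain ⟨n, hn, t, ht, e⟩ := Subgroup.mem_sup_of_normal_left.1 hx
      exact ⟨(⟨n, hn⟩, ⟨t, ht⟩), Subtype.ext e⟩
  let E := Equiv.ofBijective eH heH
  have hmul : ∀ w v : N × T, E.symm (eH w * eH v) =
      (w.1 * ⟨(w.2 : G) * v.1 * (w.2 : G)⁻¹, hN.conj_mem _ v.1.2 _⟩, w.2 * v.2) := by
    intro w v
    rw [Equiv.symm_apply_eq]
    exact Subtype.ext (show (w.1 : G) * w.2 * ((v.1 : G) * v.2) = (w.1 : G) * ((w.2 : G) * v.1 * (w.2 : G)⁻¹) * ((w.2 : G) * v.2) by group)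
  let mk : (T →* ℂˣ) → (H →* ℂˣ) := fun μ => MonoidHom.mk' (fun h => lam (E.symm h).1 * μ (E.symm h).2) (by
    intro a b
    obtain ⟨w, rfl⟩ := heH.2 a
    obtain ⟨v, rfl⟩ := heH.2 b
    have h1 : ∀ u, E.symm (eH u) = u := fun u => E.symm_apply_apply u
    rw [h1, h1, hmul, map_mul, map_mul]
    have h2 : lam ⟨(w.2 : G) * v.1 * (w.2 : G)⁻¹, hN.conj_mem _ v.1.2 _⟩ = lam v.1 :=
      Units.ext (congrFun w.2.2.2 v.1)
    rw [h2]
    exact mul_mul_mul_comm _ _ _ _)
  have hmkw : ∀ (μ : T →* ℂˣ) (w : N × T), mk μ (eH w) = lam w.1 * μ w.2 := fun μ w => by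
    show lam (E.symm (E w)).1 * μ (E.symm (E w)).2 = _
    rw [E.symm_apply_apply]
  have hmkN : ∀ (μ : T →* ℂˣ) (n : N), mk μ ⟨n, hNH n.2⟩ = lam n := fun μ n => by
    have e : (⟨n, hNH n.2⟩ : H) = eH (n, 1) := Subtype.ext (by simp [eH])
    rw [e, hmkw, map_one, mul_one]
  let Ind : (T →* ℂˣ) → G → ℂ := fun μ => Cfsg.indFun H (fun h : H => (mk μ h : ℂ))
  have hirr := fun μ => InertiaInd.isIrr_indFun N H hNH lam hHi (mk μ) (hmkN μ)
  have hIinj : Function.Injective Ind := by
    intro μ μ' e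
    have h1 := (hirr μ).2 (mk μ') (hmkN μ') e.symm
    ext t
    have h2 := congrArg (fun f : H →* ℂˣ => (f (eH (1, t)) : ℂ)) h1
    simp only [hmkw, map_one, one_mul] at h2
    exact h2.symm
  -- degree
  set i := H.index with hi
  have hzH : z ∉ H := by
    intro h
    rw [hHi] at h
    exact hzT ⟨hzP, h⟩
  have hieven : 2 ∣ i := by
    have hNdvd : ∀ r : ℕ, r.Prime → r ∣ i → r = 2 := by
      intro r hr hd
      obtain ⟨a, ha⟩ := IsPGroup.iff_card.1 hP
      have hc : Nat.card G = Nat.card N * Nat.card P := by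
        rw [← Nat.card_prod]
        symm
        refine Nat.card_eq_of_bijective (fun w : N × P => (w.1 : G) * w.2) ⟨fun w v e => ?_, fun x => ?_⟩
        · obtain ⟨e1, e2⟩ := hinj _ _ w.1.2 v.1.2 _ _ w.2.2 v.2.2 e
          exact Prod.ext (Subtype.ext e1) (Subtype.ext e2)
        · obtain ⟨n, hn, s, hs, rfl⟩ := hdec x
          exact ⟨(⟨n, hn⟩, ⟨s, hs⟩), rfl⟩
      have hd' : i ∣ Nat.card P := by
        have h1 := Subgroup.index_dvd_of_le hNH
        have h2 : N.index = Nat.card P := by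
          have h3 := N.index_mul_card
          rw [hc, mul_comm (Nat.card N)] at h3
          exact Nat.eq_of_mul_eq_mul_right Nat.card_pos h3
        exact h2 ▸ h1
      exact (Nat.prime_dvd_prime_iff_eq hr Nat.prime_two).1 (hr.dvd_of_dvd_pow (ha ▸ hd.trans hd'))
    have hne : i ≠ 1 := fun h => hzH (by rw [Subgroup.index_eq_one.1 h]; exact Subgroup.mem_top z)
    obtain ⟨r, hr, hd⟩ := Nat.exists_prime_and_dvd hne
    exact hNdvd r hr hd ▸ hd
  have hdeg : ∀ μ, charDegree (Ind μ) = i := fun μ => charDegree_eq (by simp [Ind, indFun_one, hi])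
  -- indicator
  have hind : ∀ μ : T →* ℂˣ, (∀ t, μ t * μ t = 1) →
      (Nat.card G : ℂ)⁻¹ * ∑ᶠ g : G, Ind μ (g * g) = 1 := by
    intro μ hμ
    set F : G → ℂ := Cfsg.extendByZero H (fun h : H => (mk μ h : ℂ)) with hF
    have h1 : ∑ g, Ind μ (g * g) = (Nat.card H : ℂ)⁻¹ * (Nat.card G : ℂ) * ∑ g, F (g * g) := by
      simp only [Ind, indFun_apply, ← Finset.mul_sum]
      rw [Finset.sum_comm]
      have h2 : ∀ x : G, ∑ g, F (x⁻¹ * (g * g) * x) = ∑ g, F (g * g) := fun x =>
        Fintype.sum_equiv (MulAut.conj x⁻¹).toEquiv _ _ fun g => by simp [mul_assoc]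
      rw [Finset.sum_congr rfl fun x _ => h2 x, Finset.sum_const, Finset.card_univ, nsmul_eq_mul,
        ← Nat.card_eq_fintype_card, mul_assoc]
    let D : N × P → G := fun w => w.1 * w.2
    have hD : Function.Bijective D := ⟨fun w v e => by
        obtain ⟨e1, e2⟩ := hinj _ _ w.1.2 v.1.2 _ _ w.2.2 v.2.2 e
        exact Prod.ext (Subtype.ext e1) (Subtype.ext e2),
      fun x => by
        obtain ⟨n, hn, s, hs, rfl⟩ := hdec x
        exact ⟨(⟨n, hn⟩, ⟨s, hs⟩), rfl⟩⟩
    have hinner : ∀ s : P, ∑ n : N, F (D (n, s) * D (n, s)) =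
        if z * (s : G) ∈ T then (Nat.card N : ℂ) else 0 := by
      intro s
      let c : N →* N := MonoidHom.mk' (fun n => ⟨(s : G) * n * (s : G)⁻¹, hN.conj_mem n n.2 s⟩)
        (fun a b => Subtype.ext (show (s : G) * (a * b : G) * (s : G)⁻¹ = (s : G) * a * (s : G)⁻¹ * ((s : G) * b * (s : G)⁻¹) by group))
      have e : ∀ n : N, D (n, s) * D (n, s) = ((n * c n : N) : G) * ((s : G) * s) := fun n => by
        show (n : G) * s * ((n : G) * s) = (n : G) * ((s : G) * n * (s : G)⁻¹) * ((s : G) * s)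
        group
      have hzs : z * (s : G) ∈ T ↔ lam * lam.comp c = 1 := by
        constructor
        · intro h
          ext n
          have h2 := congrFun h.2 n
          simp only [CfsgLib.CharNormal.conjFun_apply, hldef] at h2
          have h3 : (⟨z * s * n * (z * s)⁻¹, hN.conj_mem n n.2 _⟩ : N) = (c n)⁻¹ := Subtype.ext (by
            show z * (s : G) * n * (z * s)⁻¹ = ((s : G) * n * (s : G)⁻¹)⁻¹
            rw [← hinvN _ (hN.conj_mem n n.2 s)]; group)
          rw [h3] at h2
          rw [MonoidHom.mul_apply, MonoidHom.comp_apply, MonoidHom.one_apply, ← Units.ext h2, map_inv,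
            inv_mul_cancel]
        · intro h
          refine ⟨mul_mem hzP s.2, funext fun n => ?_⟩
          simp only [CfsgLib.CharNormal.conjFun_apply, hldef]
          have h3 : (⟨z * s * n * (z * s)⁻¹, hN.conj_mem n n.2 _⟩ : N) = (c n)⁻¹ := Subtype.ext (by
            show z * (s : G) * n * (z * s)⁻¹ = ((s : G) * n * (s : G)⁻¹)⁻¹
            rw [← hinvN _ (hN.conj_mem n n.2 s)]; group)
          rw [h3]
          have h4 := congrArg (fun w : N →* ℂˣ => w n) h
          simp only [MonoidHom.mul_apply, MonoidHom.comp_apply, MonoidHom.one_apply] at h4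
          rw [map_inv, inv_eq_of_mul_eq_one_left h4]
      by_cases hs2 : (s : G) * s ∈ T
      · have hval : ∀ n : N, F (D (n, s) * D (n, s)) =
            ((lam * lam.comp c) n : ℂ) * (μ ⟨_, hs2⟩ : ℂ) := fun n => by
          rw [e, hF, extendByZero_of_mem _ (mul_mem (hNH (n * c n).2) (hTH hs2))]
          change ((mk μ (eH (n * c n, ⟨_, hs2⟩)) : ℂˣ) : ℂ) = _
          rw [hmkw, map_mul]
          rfl
        simp only [hval, ← Finset.sum_mul, sum_hom]
        by_cases hc : z * (s : G) ∈ T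
        · rw [if_pos hc, if_pos (hzs.1 hc)]
          have e2 : (⟨_, hs2⟩ : T) = ⟨_, hc⟩ * ⟨_, hc⟩ := Subtype.ext (by
            show (s : G) * s = z * s * (z * s)
            rw [← mul_assoc, mul_assoc z, ← hzc s s.2, ← mul_assoc, hz2, one_mul])
          rw [e2, map_mul, hμ, Units.val_one, mul_one]
        · rw [if_neg hc, if_neg (fun h => hc (hzs.2 h)), zero_mul]
      · have hc : z * (s : G) ∉ T := by
          intro hc
          apply hs2
          have := mul_mem hc hc
          rwa [← mul_assoc, mul_assoc z, ← hzc s s.2, ← mul_assoc, hz2, one_mul] at this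
        rw [if_neg hc]
        refine Finset.sum_eq_zero fun n _ => ?_
        rw [e, hF, extendByZero_of_notMem]
        intro h
        obtain ⟨m, hm, t, ht, et⟩ := Subgroup.mem_sup_of_normal_left.1 h
        obtain ⟨-, e2⟩ := hinj _ _ hm (n * c n).2 _ _ ht.1 (mul_mem s.2 s.2) et
        exact hs2 (e2 ▸ ht)
    have hcount : (Finset.univ.filter fun s : P => z * (s : G) ∈ T).card = Nat.card T := by
      rw [Nat.card_eq_fintype_card, ← Finset.card_univ]
      refine Finset.card_bij (fun s hs => ⟨z * (s : G), (Finset.mem_filter.1 hs).2⟩) (by simp)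
        (fun a _ b _ e => Subtype.ext (mul_left_cancel (congrArg Subtype.val e))) fun t _ => ?_
      refine ⟨⟨z * t, mul_mem hzP t.2.1⟩, ?_, Subtype.ext ?_⟩
      · rw [Finset.mem_filter]
        refine ⟨Finset.mem_univ _, ?_⟩
        show z * (z * t) ∈ T
        rw [← mul_assoc, hz2, one_mul]; exact t.2
      · show z * (z * t) = t
        rw [← mul_assoc, hz2, one_mul]
    have h3 : ∑ g, F (g * g) = (Nat.card H : ℂ) := by
      rw [← hD.sum_comp (fun g => F (g * g)), Fintype.sum_prod_type, Finset.sum_comm,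
        Finset.sum_congr rfl fun s _ => hinner s, ← Finset.sum_filter, Finset.sum_const, hcount,
        nsmul_eq_mul, ← Nat.card_congr E, Nat.card_prod]
      push_cast; ring
    rw [finsum_eq_sum_of_fintype, h1, h3]
    field_simp
  -- counting
  let R : (A : Subgroup G) → Type _ := fun A => {f : A →* ℂˣ // ∀ t, f t * f t = 1}
  let res : R P → R T := fun f => ⟨f.1.comp (Subgroup.inclusion inf_le_left), fun t => f.2 _⟩
  have hfinR : ∀ A : Subgroup G, Finite (A →* ℂˣ) := fun A =>
    Finite.of_injective (fun f : A →* ℂˣ => (⟨_, isIrrCharacter_units_hom f⟩ : IrrCharacter A))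
      (fun f f' h => MonoidHom.ext fun a => Units.ext (congrFun (congrArg Subtype.val h) a))
  have := hfinR P
  have := hfinR T
  let TP := T.subgroupOf P
  have := Fintype.ofFinite TP
  have hker : ∀ r : R T, Nat.card {f : R P // res f = r} ≤ i := by
    intro r
    rcases isEmpty_or_nonempty {f : R P // res f = r} with h | ⟨⟨f₀⟩⟩
    · simp
    refine le_trans ?_ (le_trans (card_trivial_le TP) ?_)
    · refine Nat.card_le_card_of_injective (fun f => ⟨f.1.1 * (f₀.1.1)⁻¹, fun t ht => ?_⟩) ?_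
      · have h1 := congrArg (fun w : R T => w.1 ⟨t, ht⟩) (f.2.trans f₀.2.symm)
        simp only [res, MonoidHom.comp_apply] at h1
        rw [MonoidHom.mul_apply, MonoidHom.inv_apply, mul_inv_eq_one]
        exact h1
      · intro a b e
        exact Subtype.ext (Subtype.ext (mul_right_cancel (congrArg Subtype.val e)))
    · refine Nat.le_of_dvd (Nat.pos_of_ne_zero Subgroup.index_ne_zero_of_finite) ?_
      have h1 : H.relIndex P ∣ H.index := by
        have hsup : H ⊔ P = ⊤ := top_le_iff.1 (hprod.symm.trans_le (sup_le_sup_right hNH P))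
        have hP2 : ∃ a, Nat.card P = 2 ^ a := IsPGroup.iff_card.1 hP
        have hmem : ∀ x : G, ∃ s ∈ P, s⁻¹ * x ∈ H := fun x => by
          obtain ⟨n, hn, s, hs, rfl⟩ := hdec x
          exact ⟨s, hs, by rw [← mul_assoc]; exact hNH (by simpa using hN.conj_mem n hn s⁻¹)⟩
        have : Function.Bijective (fun w : P ⧸ H.subgroupOf P => Quotient.liftOn' w (fun s => ((s : G) : G ⧸ H))
            (fun a b h => by
              rw [QuotientGroup.leftRel_apply, Subgroup.mem_subgroupOf] at h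
              exact QuotientGroup.eq.2 (by simpa using h))) := by
          refine ⟨?_, ?_⟩
          · intro a b
            induction a using QuotientGroup.induction_on with
            | _ a =>
              induction b using QuotientGroup.induction_on with
              | _ b =>
                intro e
                exact QuotientGroup.eq.2 (Subgroup.mem_subgroupOf.2 (by simpa using QuotientGroup.eq.1 e))
          · intro w
            induction w using QuotientGroup.induction_on with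
            | _ x =>
              obtain ⟨s, hs, h⟩ := hmem x
              exact ⟨((⟨s, hs⟩ : P) : P ⧸ H.subgroupOf P), QuotientGroup.eq.2 h⟩
        exact (Nat.card_eq_of_bijective _ this).dvd
      have h2 : TP.index = H.relIndex P := by
        show T.relIndex P = _
        rw [← Subgroup.inf_relIndex_right H]
        congr 1
        refine le_antisymm (le_inf hTH inf_le_left) fun x hx => ?_
        exact ⟨hx.2, hHi ▸ hx.1⟩
      exact h2 ▸ h1
  have hbound : Nat.card (R P) ≤ i * Nat.card (R T) := by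
    have := Fintype.ofFinite (R T)
    rw [Nat.card_congr (Equiv.sigmaFiberEquiv res).symm, Nat.card_sigma, Nat.card_eq_fintype_card,
      mul_comm, ← smul_eq_mul, ← Finset.card_univ]
    exact le_trans (Finset.sum_le_sum fun r _ => hker r) (by simp)
  set p : IrrCharacter G → Prop := fun χ => (charDegree (χ : G → ℂ) = 1 ∨ 2 ∣ charDegree (χ : G → ℂ)) ∧
    (Nat.card G : ℂ)⁻¹ * ∑ᶠ g : G, (χ : G → ℂ) (g * g) = 1 with hp
  rw [Nat.card_eq_fintype_card, finsum_eq_sum_of_fintype]
  set S := (Finset.univ : Finset {χ // p χ})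
  set L := S.filter fun χ => charDegree (χ.1 : G → ℂ) = 1 with hL
  have hLcard : L.card ≤ Nat.card (R P) := by
    have hkey : ∀ χ ∈ L, ∃ f : G →* ℂˣ, (∀ x, (χ.1 : G → ℂ) x = f x) ∧ ∀ x, f x * f x = 1 := by
      intro χ hχ
      have h1 : (χ.1 : G → ℂ) 1 = 1 := by
        rw [← coe_charDegree_irr, (Finset.mem_filter.1 hχ).2, Nat.cast_one]
      let f := linearHom (isCharacter_of_isIrr χ.1.2) h1
      refine ⟨f, fun x => (linearHom_apply _ _ x).symm, fun x => ?_⟩
      have h2 := χ.2.2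
      rw [finsum_eq_sum_of_fintype] at h2
      have h3 : ∀ g, (χ.1 : G → ℂ) (g * g) = (((f * f) g : ℂˣ) : ℂ) := fun g => by
        rw [MonoidHom.mul_apply, Units.val_mul]
        exact linear_map_mul (isCharacter_of_isIrr χ.1.2) h1 g g
      rw [Finset.sum_congr rfl fun g _ => h3 g, sum_hom] at h2
      split_ifs at h2 with hf
      · exact congrArg (fun w : G →* ℂˣ => w x) hf
      · simp at h2
    choose f hf hf2 using hkey
    rw [← Fintype.card_coe, ← Nat.card_eq_fintype_card]
    refine Nat.card_le_card_of_injective (fun χ => ⟨(f χ.1 χ.2).comp P.subtype, fun t => hf2 _ _ _⟩) ?_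
    intro a b e
    refine Subtype.ext (Subtype.ext (Subtype.ext (funext fun x => ?_)))
    obtain ⟨n, hn, s, hs, rfl⟩ := hdec x
    have hN1 : ∀ (g : G →* ℂˣ), (∀ x, g x * g x = 1) → g n = 1 := fun g hg => by
      have h3 : g n ^ q = 1 := by rw [← map_pow, hNq n hn, map_one]
      obtain ⟨k, hk⟩ := hqodd
      rw [hk, pow_succ, pow_mul, pow_two, hg, one_pow, one_mul] at h3
      exact h3
    have h1 := congrArg (fun w : R P => ((w.1 ⟨s, hs⟩ : ℂˣ) : ℂ)) e
    simp only [MonoidHom.comp_apply] at h1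
    rw [hf a.1 a.2, hf b.1 b.2, map_mul, map_mul, hN1 _ (hf2 a.1 a.2), hN1 _ (hf2 b.1 b.2), one_mul, one_mul]
    exact h1
  have := Fintype.ofFinite (R T)
  let J : R T → {χ // p χ} := fun μ => ⟨⟨Ind μ.1, (hirr μ.1).1⟩,
    Or.inr (by rw [show charDegree (Ind μ.1) = i from hdeg μ.1]; exact hieven), hind μ.1 μ.2⟩
  have hJ : Function.Injective J := fun a b e =>
    Subtype.ext (hIinj (congrArg (fun w : {χ // p χ} => (w.1 : G → ℂ)) e))
  set I := Finset.univ.image J with hI
  have hIL : Disjoint L I := Finset.disjoint_left.2 fun χ hχL hχI => by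
    obtain ⟨μ, -, rfl⟩ := Finset.mem_image.1 hχI
    have h1 := (Finset.mem_filter.1 hχL).2
    change charDegree (Ind μ.1) = 1 at h1
    rw [hdeg] at h1
    omega
  have hIsum : ∑ χ ∈ I, (3 * charDegree (χ.1 : G → ℂ) - 4) = Nat.card (R T) * (3 * i - 4) := by
    rw [Finset.sum_image fun a _ b _ h => hJ h, Nat.card_eq_fintype_card, ← Finset.card_univ,
      ← smul_eq_mul, ← Finset.sum_const]
    exact Finset.sum_congr rfl fun μ _ => by rw [show charDegree ((J μ).1 : G → ℂ) = i from hdeg μ.1]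
  have hip : 2 ≤ i := Nat.le_of_dvd (Nat.pos_of_ne_zero Subgroup.index_ne_zero_of_finite) hieven
  have hpt : ∀ χ : {χ // p χ}, 4 + (if χ ∈ I then 3 * charDegree (χ.1 : G → ℂ) - 4 else 0) ≤
      3 * charDegree (χ.1 : G → ℂ) + (if χ ∈ L then 1 else 0) := by
    intro χ
    rcases χ.2.1 with h | h
    · have hm : χ ∈ L := Finset.mem_filter.2 ⟨Finset.mem_univ _, h⟩
      rw [if_pos hm, if_neg (Finset.disjoint_left.1 hIL hm), h]
    · have := charDegree_pos χ.1.2
      have h2 : 2 ≤ charDegree (χ.1 : G → ℂ) := Nat.le_of_dvd this h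
      split_ifs <;> omega
  have hfin := Finset.sum_le_sum (s := S) fun χ _ => hpt χ
  rw [Finset.sum_add_distrib, Finset.sum_add_distrib, Finset.sum_const, Finset.sum_ite_mem,
    Finset.sum_ite_mem, Finset.univ_inter, Finset.univ_inter, hIsum, Finset.sum_const, smul_eq_mul,
    smul_eq_mul, mul_one, Finset.card_univ, ← Finset.mul_sum] at hfin
  have h5 : Nat.card (R P) ≤ Nat.card (R T) * (3 * i - 4) := by
    refine hbound.trans ?_
    rw [mul_comm i]
    exact Nat.mul_le_mul_left _ (by omega)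
  have h6 : 4 * Fintype.card {χ // p χ} ≤ 3 * ∑ χ ∈ S, charDegree (χ.1 : G → ℂ) := by omega
  convert h6

end Cfsg.Agent.S4871
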