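import Cfsg.Statements.S4872
import Cfsg.Agent.Lib.Char.FrobeniusSchur
import Cfsg.Agent.Lib.Char.DefectZero
import Cfsg.Agent.Lib.CharNormal.Clifford
import Cfsg.Agent.Lib.Char.Linear
import Cfsg.Agent.Lib.CharBlocks.Degree
import Mathlib

set_option autoImplicit false
open Cfsg

namespace Cfsg.Agent.S4872

section Mat

open CfsgLib.Char CfsgLib.CharNormal
open Matrix Module
open scoped ComplexConjugate Matrix

variable {N : Type*} [Group N]

/-- The representation with given matrices. -/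
noncomputable def repOf {n : ℕ} (f : N → Matrix (Fin n) (Fin n) ℂ) (h1 : f 1 = 1)
    (hmul : ∀ x y, f (x * y) = f x * f y) : Representation ℂ N (Fin n → ℂ) where
  toFun x := Matrix.toLin' (f x)
  map_one' := by rw [h1, Matrix.toLin'_one]; rfl
  map_mul' x y := by rw [hmul, Matrix.toLin'_mul]; rfl

theorem repMat_repOf {n : ℕ} (f : N → Matrix (Fin n) (Fin n) ℂ) (h1 : f 1 = 1)
    (hmul : ∀ x y, f (x * y) = f x * f y) (x : N) : repMat (repOf f h1 hmul) x = f x :=
  LinearMap.toMatrix'_toLin' _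

theorem exists_intertwiner [Fintype N] {a b : ℕ} (ρ₁ : Representation ℂ N (Fin a → ℂ))
    (ρ₂ : Representation ℂ N (Fin b → ℂ))
    (h : Cfsg.classInner ρ₂.character ρ₁.character ≠ 0) :
    ∃ K : Matrix (Fin b) (Fin a) ℂ, K ≠ 0 ∧ ∀ x, K * repMat ρ₁ x = repMat ρ₂ x * K := by
  rw [classInner_character] at h
  have hnt : Nontrivial (Representation.IntertwiningMap ρ₁ ρ₂) :=
    Module.nontrivial_of_finrank_pos (R := ℂ) (Nat.pos_of_ne_zero fun e => h (by rw [e, Nat.cast_zero]))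
  obtain ⟨f, hf⟩ := exists_ne (0 : Representation.IntertwiningMap ρ₁ ρ₂)
  refine ⟨LinearMap.toMatrix' f.toLinearMap, fun e => hf ?_, fun x => ?_⟩
  · exact Representation.IntertwiningMap.toLinearMap_injective ρ₁ ρ₂
      (LinearMap.toMatrix'.injective (e.trans (map_zero _).symm))
  · rw [repMat, repMat, ← LinearMap.toMatrix'_comp, ← LinearMap.toMatrix'_comp]
    exact congrArg _ (f.isIntertwining' x)

theorem mulVec_comm {a b : ℕ} {ρ₁ : Representation ℂ N (Fin a → ℂ)}
    {ρ₂ : Representation ℂ N (Fin b → ℂ)} {K : Matrix (Fin b) (Fin a) ℂ}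
    (hK : ∀ x, K * repMat ρ₁ x = repMat ρ₂ x * K) (x : N) (v : Fin a → ℂ) :
    K *ᵥ ρ₁ x v = ρ₂ x (K *ᵥ v) := by
  rw [← LinearMap.toMatrix'_mulVec (ρ₁ x), ← LinearMap.toMatrix'_mulVec (ρ₂ x),
    Matrix.mulVec_mulVec, Matrix.mulVec_mulVec]
  exact congrArg (fun M => M *ᵥ v) (hK x)

theorem mulVec_injective_of_ne_zero {a b : ℕ} {ρ₁ : Representation ℂ N (Fin a → ℂ)}
    [ρ₁.IsIrreducible] {ρ₂ : Representation ℂ N (Fin b → ℂ)} {K : Matrix (Fin b) (Fin a) ℂ}
    (hK : ∀ x, K * repMat ρ₁ x = repMat ρ₂ x * K) (hK0 : K ≠ 0) :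
    Function.Injective K.mulVec := by
  let U : Subrepresentation ρ₁ :=
    { toSubmodule := LinearMap.ker (Matrix.mulVecLin K)
      apply_mem_toSubmodule := by
        intro g v hv
        rw [LinearMap.mem_ker, Matrix.mulVecLin_apply] at hv ⊢
        rw [mulVec_comm hK, hv, map_zero] }
  rcases eq_bot_or_eq_top U with h | h
  · exact LinearMap.ker_eq_bot.mp (congrArg Subrepresentation.toSubmodule h :
      LinearMap.ker (Matrix.mulVecLin K) = ⊥)
  · refine absurd ?_ hK0
    have h' : LinearMap.ker (Matrix.mulVecLin K) = ⊤ := congrArg Subrepresentation.toSubmodule h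
    refine Matrix.ext_of_mulVec_single fun i => ?_
    rw [Matrix.zero_mulVec]
    exact LinearMap.congr_fun (LinearMap.ker_eq_top.mp h') (Pi.single i 1)

theorem schur_unit {a : ℕ} {ρ₁ ρ₂ : Representation ℂ N (Fin a → ℂ)} [ρ₁.IsIrreducible]
    {K : Matrix (Fin a) (Fin a) ℂ} (hK : ∀ x, K * repMat ρ₁ x = repMat ρ₂ x * K) (hK0 : K ≠ 0) :
    IsUnit K.det ∧ ρ₁.character = ρ₂.character := by
  have hu : IsUnit K := Matrix.mulVec_injective_iff_isUnit.mp (mulVec_injective_of_ne_zero hK hK0)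
  have hd := (Matrix.isUnit_iff_isUnit_det K).mp hu
  refine ⟨hd, funext fun x => ?_⟩
  have h : repMat ρ₂ x = K * repMat ρ₁ x * K⁻¹ := by
    rw [hK, Matrix.mul_nonsing_inv_cancel_right _ _ hd]
  rw [← trace_repMat, ← trace_repMat, h, Matrix.trace_mul_cycle, Matrix.nonsing_inv_mul _ hd,
    Matrix.one_mul]

theorem schur_scalar {a : ℕ} {ρ : Representation ℂ N (Fin a → ℂ)} [ρ.IsIrreducible]
    {K : Matrix (Fin a) (Fin a) ℂ} (hK : ∀ x, K * repMat ρ x = repMat ρ x * K) :
    ∃ c : ℂ, K = c • 1 := by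
  obtain ⟨c, hc⟩ := exists_eq_smul_id ρ (Matrix.toLin' K) fun g => LinearMap.ext fun v => by
    simp only [LinearMap.comp_apply, Matrix.toLin'_apply]
    exact mulVec_comm hK g v
  refine ⟨c, ?_⟩
  have h := congrArg LinearMap.toMatrix' hc
  rwa [LinearMap.toMatrix'_toLin', map_smul, LinearMap.toMatrix'_id] at h

/-- An idempotent matrix factors through its range. -/
theorem exists_factor {d m : ℕ} (E : Matrix (Fin d) (Fin d) ℂ) (hE : E * E = E)
    (htr : E.trace = m) :
    ∃ (J : Matrix (Fin d) (Fin m) ℂ) (L : Matrix (Fin m) (Fin d) ℂ), L * J = 1 ∧ J * L = E := by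
  let f := Matrix.toLin' E
  have hp : LinearMap.IsProj (LinearMap.range f) f :=
    ⟨fun x => LinearMap.mem_range_self f x, fun x hx => by
      obtain ⟨y, rfl⟩ := hx
      show f (f y) = f y
      simp only [f, Matrix.toLin'_apply, Matrix.mulVec_mulVec, hE]⟩
  have hfr : finrank ℂ (LinearMap.range f) = m := by
    have h := hp.trace
    rw [LinearMap.trace_eq_matrix_trace ℂ (Pi.basisFun ℂ (Fin d)), LinearMap.toMatrix_eq_toMatrix',
      LinearMap.toMatrix'_toLin', htr] at h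
    exact_mod_cast h.symm
  let e := (Module.finBasisOfFinrankEq ℂ (LinearMap.range f) hfr).equivFun
  let j : (Fin m → ℂ) →ₗ[ℂ] (Fin d → ℂ) := (LinearMap.range f).subtype ∘ₗ e.symm.toLinearMap
  let l : (Fin d → ℂ) →ₗ[ℂ] (Fin m → ℂ) := e.toLinearMap ∘ₗ f.rangeRestrict
  have hlj : l ∘ₗ j = LinearMap.id := LinearMap.ext fun v => by
    show e (f.rangeRestrict ((e.symm v : LinearMap.range f) : Fin d → ℂ)) = v
    rw [show f.rangeRestrict ((e.symm v : LinearMap.range f) : Fin d → ℂ) = e.symm v from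
      Subtype.ext (hp.map_id _ (e.symm v).2), LinearEquiv.apply_symm_apply]
  have hjl : j ∘ₗ l = f := LinearMap.ext fun v => by
    show ((e.symm (e (f.rangeRestrict v)) : LinearMap.range f) : Fin d → ℂ) = f v
    rw [LinearEquiv.symm_apply_apply]
    rfl
  exact ⟨LinearMap.toMatrix' j, LinearMap.toMatrix' l,
    by rw [← LinearMap.toMatrix'_comp, hlj, LinearMap.toMatrix'_id],
    by rw [← LinearMap.toMatrix'_comp, hjl]; exact LinearMap.toMatrix'_toLin' E⟩

theorem eq_one_of_coprime_pow {c : ℂ} {a b : ℕ} (ha : c ^ a = 1) (hb : c ^ b = 1)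
    (h : Nat.Coprime a b) : c = 1 :=
  orderOf_eq_one_iff.mp (Nat.eq_one_of_dvd_coprimes h (orderOf_dvd_of_pow_eq_one ha)
    (orderOf_dvd_of_pow_eq_one hb))

end Mat

section Ext

open CfsgLib.Char CfsgLib.CharNormal
open Matrix Module
open scoped ComplexConjugate Matrix

variable {G : Type*} [Group G] [Fintype G] {N : Subgroup G} [hN : N.Normal] [Fintype N]
  {d m : ℕ} {ρ : Representation ℂ N (Fin d → ℂ)} [hρ : ρ.IsIrreducible]
  {J : Matrix (Fin d) (Fin m) ℂ} {L : Matrix (Fin m) (Fin d) ℂ}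

/-- `E` is fixed by the intertwiners and absorbs the elements of `D = P ∩ N`. -/
structure Setup (ρ : Representation ℂ N (Fin d → ℂ)) (P : Subgroup G)
    (J : Matrix (Fin d) (Fin m) ℂ) (L : Matrix (Fin m) (Fin d) ℂ) : Prop where
  two : IsPGroup 2 P
  odd : Odd m
  lj : L * J = 1
  absorb : ∀ x : N, (x : G) ∈ P → repMat ρ x * (J * L) = J * L
  comm : ∀ (g : G), (∀ x : N, (x : G) ∈ P → g * (x : G) * g⁻¹ ∈ P) →
    ∀ A : Matrix (Fin d) (Fin d) ℂ,
      (∀ x : N, A * repMat ρ x = repMat ρ ⟨g * x * g⁻¹, hN.conj_mem _ x.2 g⟩ * A) →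
        A * (J * L) = J * L * A

/-- The intertwiners of trivial determinant on the fixed points. -/
def twist {P : Subgroup G} (hS : Setup ρ P J L) :
    Subgroup (P × (Matrix (Fin d) (Fin d) ℂ)ˣ) where
  carrier := {z | (∀ x : N, (z.2 : Matrix (Fin d) (Fin d) ℂ) * repMat ρ x =
      repMat ρ ⟨(z.1 : G) * x * (z.1 : G)⁻¹, hN.conj_mem _ x.2 _⟩ * z.2) ∧
    (L * (z.2 : Matrix (Fin d) (Fin d) ℂ) * J).det = 1}
  one_mem' := ⟨fun x => by simp, by simp [hS.lj]⟩
  mul_mem' := by
    rintro ⟨x, A⟩ ⟨y, B⟩ ⟨hA, hA'⟩ ⟨hB, hB'⟩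
    refine ⟨fun n => ?_, ?_⟩
    · show (A : Matrix (Fin d) (Fin d) ℂ) * B * repMat ρ n = _
      rw [mul_assoc, hB, ← mul_assoc, hA, mul_assoc]
      congr 2
      exact Subtype.ext (by simp [mul_assoc])
    · show (L * ((A : Matrix (Fin d) (Fin d) ℂ) * (B : Matrix (Fin d) (Fin d) ℂ)) * J).det = 1
      have hc : (B : Matrix (Fin d) (Fin d) ℂ) * (J * L) = J * L * (B : Matrix (Fin d) (Fin d) ℂ) :=
        hS.comm (y : G) (fun n hn => P.mul_mem (P.mul_mem y.2 hn) (P.inv_mem y.2)) B hB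
      have : L * ((A : Matrix (Fin d) (Fin d) ℂ) * (B : Matrix (Fin d) (Fin d) ℂ)) * J =
          (L * (A : Matrix (Fin d) (Fin d) ℂ) * J) * (L * (B : Matrix (Fin d) (Fin d) ℂ) * J) := by
        calc L * ((A : Matrix (Fin d) (Fin d) ℂ) * (B : Matrix (Fin d) (Fin d) ℂ)) * J
            = L * (A : Matrix (Fin d) (Fin d) ℂ) * ((B : Matrix (Fin d) (Fin d) ℂ) * (J * (L * J))) := by
              rw [hS.lj, Matrix.mul_one]; simp only [Matrix.mul_assoc]
          _ = L * (A : Matrix (Fin d) (Fin d) ℂ) * (((B : Matrix (Fin d) (Fin d) ℂ) * (J * L)) * J) := by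
              simp only [Matrix.mul_assoc]
          _ = _ := by rw [hc]; simp only [Matrix.mul_assoc]
      rw [this, Matrix.det_mul, hA', hB', one_mul]
  inv_mem' := by
    rintro ⟨x, A⟩ ⟨hA, hA'⟩
    have hinv : ∀ n : N, ((A⁻¹ : (Matrix (Fin d) (Fin d) ℂ)ˣ) : (Matrix (Fin d) (Fin d) ℂ)) * repMat ρ n =
        repMat ρ ⟨((x⁻¹ : P) : G) * n * ((x⁻¹ : P) : G)⁻¹, hN.conj_mem _ n.2 _⟩ * ((A⁻¹ : (Matrix (Fin d) (Fin d) ℂ)ˣ) : (Matrix (Fin d) (Fin d) ℂ)) := by
      intro n
      have h := hA ⟨((x⁻¹ : P) : G) * n * ((x⁻¹ : P) : G)⁻¹, hN.conj_mem _ n.2 _⟩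
      rw [show (⟨(x : G) * (((x⁻¹ : P) : G) * n * ((x⁻¹ : P) : G)⁻¹) * (x : G)⁻¹,
          hN.conj_mem _ (hN.conj_mem _ n.2 _) _⟩ : N) = n from Subtype.ext (by simp [mul_assoc])] at h
      rw [Units.inv_mul_eq_iff_eq_mul, ← mul_assoc, h, mul_assoc, Units.mul_inv, mul_one]
    refine ⟨hinv, ?_⟩
    have hc : ((A⁻¹ : (Matrix (Fin d) (Fin d) ℂ)ˣ) : (Matrix (Fin d) (Fin d) ℂ)) * (J * L) = J * L * ((A⁻¹ : (Matrix (Fin d) (Fin d) ℂ)ˣ) : (Matrix (Fin d) (Fin d) ℂ)) :=
      hS.comm _ (fun n hn => P.mul_mem (P.mul_mem (x⁻¹).2 hn) (P.inv_mem (x⁻¹).2)) _ hinv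
    have : (L * (A : Matrix (Fin d) (Fin d) ℂ) * J) * (L * ((A⁻¹ : (Matrix (Fin d) (Fin d) ℂ)ˣ) : (Matrix (Fin d) (Fin d) ℂ)) * J) = 1 := by
      calc (L * (A : Matrix (Fin d) (Fin d) ℂ) * J) * (L * ((A⁻¹ : (Matrix (Fin d) (Fin d) ℂ)ˣ) : (Matrix (Fin d) (Fin d) ℂ)) * J)
          = L * (A : Matrix (Fin d) (Fin d) ℂ) * ((J * L * ((A⁻¹ : (Matrix (Fin d) (Fin d) ℂ)ˣ) : (Matrix (Fin d) (Fin d) ℂ))) * J) := by simp only [Matrix.mul_assoc]
        _ = L * ((A : Matrix (Fin d) (Fin d) ℂ) * ((A⁻¹ : (Matrix (Fin d) (Fin d) ℂ)ˣ) : (Matrix (Fin d) (Fin d) ℂ))) * (J * (L * J)) := by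
            rw [← hc]; simp only [Matrix.mul_assoc]
        _ = 1 := by rw [Units.mul_inv, hS.lj, Matrix.mul_one, Matrix.mul_one, hS.lj]
    have h2 := congrArg Matrix.det this
    rw [Matrix.det_mul, hA', one_mul, Matrix.det_one] at h2
    exact h2

theorem det_sandwich_smul (hlj : L * J = 1) (c : ℂ) (A : Matrix (Fin d) (Fin d) ℂ) :
    (L * (c • A) * J).det = c ^ m * (L * A * J).det := by
  rw [Matrix.mul_smul, Matrix.smul_mul, Matrix.det_smul, Fintype.card_fin]

/-- Extension to `P` by intertwiners. -/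
theorem exists_ext_P {P : Subgroup G} (hS : Setup ρ P J L)
    (hinv : ∀ x ∈ P, conjFun N x ρ.character = ρ.character) :
    ∃ a : P → Matrix (Fin d) (Fin d) ℂ,
      (∀ x y, a (x * y) = a x * a y) ∧ a 1 = 1 ∧
      (∀ (x : P) (n : N), a x * repMat ρ n =
        repMat ρ ⟨(x : G) * n * (x : G)⁻¹, hN.conj_mem _ n.2 _⟩ * a x) ∧
      (∀ x : P, (L * a x * J).det = 1) ∧
      (∀ (x : P) (h : (x : G) ∈ N), a x = repMat ρ ⟨x, h⟩) := by
  classical
  have hm0 : m ≠ 0 := by rintro rfl; exact Nat.not_odd_zero hS.odd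
  -- surjectivity
  have hex : ∀ x : P, ∃ A : (Matrix (Fin d) (Fin d) ℂ)ˣ, (x, A) ∈ twist hS := by
    intro x
    let ρ' : Representation ℂ N (Fin d → ℂ) :=
      repOf (fun n => repMat ρ ⟨(x : G) * n * (x : G)⁻¹, hN.conj_mem _ n.2 _⟩)
        (by rw [show (⟨_, _⟩ : N) = 1 from Subtype.ext (by simp), repMat_one])
        (fun n k => by
          rw [← repMat_mul]
          exact congrArg _ (Subtype.ext (by simp [mul_assoc])))
    have hchar : ρ'.character = ρ.character := funext fun n => by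
      rw [← trace_repMat, repMat_repOf, trace_repMat]
      exact congrFun (hinv x x.2) n
    obtain ⟨K, hK0, hK⟩ := exists_intertwiner ρ ρ' (by
      rw [hchar, classInner_irr_self (isIrrCharacter_char ρ)]; exact one_ne_zero)
    have hKd := (schur_unit hK hK0).1
    simp only [ρ', repMat_repOf] at hK
    let U : (Matrix (Fin d) (Fin d) ℂ)ˣ := Matrix.nonsingInvUnit K hKd
    have hKE : K * (J * L) = J * L * K :=
      hS.comm (x : G) (fun n hn => P.mul_mem (P.mul_mem x.2 hn) (P.inv_mem x.2)) K hK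
    have hne : (L * K * J).det ≠ 0 := by
      have h1 : (L * K * J) * (L * K⁻¹ * J) = 1 := by
        calc (L * K * J) * (L * K⁻¹ * J) = L * (K * (J * L)) * (K⁻¹ * J) := by
              simp only [Matrix.mul_assoc]
          _ = L * J * (L * (K * K⁻¹) * J) := by rw [hKE]; simp only [Matrix.mul_assoc]
          _ = 1 := by rw [hS.lj, Matrix.one_mul, Matrix.mul_nonsing_inv _ hKd, Matrix.mul_one, hS.lj]
      intro h0
      have h2 := congrArg Matrix.det h1
      rw [Matrix.det_mul, h0, zero_mul, Matrix.det_one] at h2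
      exact zero_ne_one h2
    obtain ⟨c, hc⟩ := IsAlgClosed.exists_pow_nat_eq ((L * K * J).det)⁻¹ (Nat.pos_of_ne_zero hm0)
    have hc0 : c ≠ 0 := by
      rintro rfl
      rw [zero_pow hm0] at hc
      exact inv_ne_zero hne hc.symm
    refine ⟨Units.map (algebraMap ℂ (Matrix (Fin d) (Fin d) ℂ)).toMonoidHom (Units.mk0 c hc0) * U,
      fun n => ?_, ?_⟩
    · show (algebraMap ℂ _ c * K) * repMat ρ n = _ * (algebraMap ℂ _ c * K)
      rw [← Algebra.smul_def, Matrix.smul_mul, Matrix.mul_smul, hK]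
    · show (L * (algebraMap ℂ _ c * K) * J).det = 1
      rw [← Algebra.smul_def, det_sandwich_smul hS.lj, hc, inv_mul_cancel₀ hne]
  choose s hs using hex
  -- the kernel consists of scalars
  have hker : ∀ z ∈ twist hS, ∀ x : P, z.1 = x →
      ∃ c : ℂ, c ^ m = 1 ∧ (z.2 : Matrix (Fin d) (Fin d) ℂ) = c • (s x : Matrix (Fin d) (Fin d) ℂ) := by
    rintro ⟨y, A⟩ hz x (rfl : y = x)
    have hcomm : ∀ n, ((↑(s y)⁻¹ : Matrix (Fin d) (Fin d) ℂ) * A) * repMat ρ n =
        repMat ρ n * ((↑(s y)⁻¹ : Matrix (Fin d) (Fin d) ℂ) * A) := by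
      intro n
      have hz1 : (A : Matrix (Fin d) (Fin d) ℂ) * repMat ρ n =
          repMat ρ ⟨(y : G) * n * (y : G)⁻¹, hN.conj_mem _ n.2 _⟩ * A := hz.1 n
      have hsy : (s y : Matrix (Fin d) (Fin d) ℂ) * repMat ρ n =
          repMat ρ ⟨(y : G) * n * (y : G)⁻¹, hN.conj_mem _ n.2 _⟩ * s y := (hs y).1 n
      rw [mul_assoc, hz1, Units.inv_mul_eq_iff_eq_mul, ← mul_assoc (↑(s y) : Matrix (Fin d) (Fin d) ℂ),
        hsy, mul_assoc (repMat ρ _), ← mul_assoc (↑(s y) : Matrix (Fin d) (Fin d) ℂ), Units.mul_inv, one_mul]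
    obtain ⟨c, hc⟩ := schur_scalar hcomm
    have hA : (A : Matrix (Fin d) (Fin d) ℂ) = c • (s y : Matrix (Fin d) (Fin d) ℂ) := by
      rw [Units.inv_mul_eq_iff_eq_mul, Matrix.mul_smul, Matrix.mul_one] at hc
      exact hc
    refine ⟨c, ?_, hA⟩
    have h1 := hz.2
    simp only at h1
    rw [hA, det_sandwich_smul hS.lj, (hs y).2, mul_one] at h1
    exact h1
  have hfin : Finite (twist hS) := by
    have hroots : {c : ℂ | c ^ m = 1}.Finite := by
      refine Set.Finite.subset (Polynomial.nthRootsFinset m (1 : ℂ)).finite_toSet fun c hc => ?_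
      exact (Polynomial.mem_nthRootsFinset (Nat.pos_of_ne_zero hm0) _).mpr hc
    have := hroots.to_subtype
    choose cf hcf using fun z : twist hS => hker z.1 z.2 z.1.1 rfl
    refine Finite.of_injective (β := P × {c : ℂ | c ^ m = 1})
      (fun z => (z.1.1, ⟨cf z, (hcf z).1⟩)) fun z w hzw => ?_
    obtain ⟨h1, h2⟩ := Prod.mk.injEq _ _ _ _ ▸ hzw
    refine Subtype.ext (Prod.ext h1 (Units.ext ?_))
    have h2' : cf z = cf w := congrArg Subtype.val h2
    rw [(hcf z).2, (hcf w).2, h2', h1]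
  let π : twist hS →* P := (MonoidHom.fst _ _).comp (twist hS).subtype
  have hπ : Function.Surjective π := fun x => ⟨⟨(x, s x), hs x⟩, rfl⟩
  obtain ⟨k, hk⟩ := IsPGroup.iff_card.mp hS.two
  -- elements of the kernel of two-power order are trivial
  have hodd : ∀ z : twist hS, π z = 1 → (∃ j : ℕ, z ^ 2 ^ j = 1) → z = 1 := by
    rintro z hz1 ⟨j, hj⟩
    obtain ⟨c, hc, hzc⟩ := hker z.1 z.2 1 hz1
    obtain ⟨c₁, hc₁, h1c⟩ := hker 1 (Subgroup.one_mem _) 1 rfl
    have hc₁0 : c₁ ≠ 0 := by rintro rfl; simp [zero_pow hm0] at hc₁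
    set b := c * c₁⁻¹
    have hb : (z.1.2 : Matrix (Fin d) (Fin d) ℂ) = b • 1 := by
      rw [show (1 : Matrix (Fin d) (Fin d) ℂ) = ((1 : P × (Matrix (Fin d) (Fin d) ℂ)ˣ).2 :
        Matrix (Fin d) (Fin d) ℂ) from rfl, h1c, hzc, smul_smul, inv_mul_cancel_right₀ hc₁0]
    have hd0 : d ≠ 0 := by
      rintro rfl
      have := irr_one_ne_zero (isIrrCharacter_char ρ)
      rw [Representation.char_one, Module.finrank_fin_fun] at this
      exact this Nat.cast_zero
    have hne1 : (1 : Matrix (Fin d) (Fin d) ℂ) ≠ 0 := by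
      have : Nonempty (Fin d) := ⟨⟨0, Nat.pos_of_ne_zero hd0⟩⟩
      exact one_ne_zero
    have hbj : b ^ 2 ^ j = 1 := by
      have h := congrArg (fun w : twist hS => ((w.1.2 : (Matrix (Fin d) (Fin d) ℂ)ˣ) :
        Matrix (Fin d) (Fin d) ℂ)) hj
      simp only [SubmonoidClass.coe_pow, Prod.pow_snd, Units.val_pow_eq_pow_val, hb, smul_pow,
        one_pow, OneMemClass.coe_one, Prod.snd_one, Units.val_one] at h
      exact smul_left_injective ℂ hne1 (h.trans (one_smul ℂ _).symm)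
    have hbm : b ^ m = 1 := by rw [mul_pow, inv_pow, hc, hc₁, inv_one, mul_one]
    have hb1 : b = 1 := eq_one_of_coprime_pow hbj hbm
      (Nat.Coprime.pow_left _ (Nat.coprime_two_left.mpr hS.odd))
    refine Subtype.ext (Prod.ext hz1 (Units.ext ?_))
    rw [hb, hb1, one_smul]
    rfl
  have : Fact (Nat.Prime 2) := ⟨Nat.prime_two⟩
  let S : Sylow 2 (twist hS) := default
  have hinj : Function.Injective (π.comp (S : Subgroup (twist hS)).subtype) := by
    refine (injective_iff_map_eq_one _).mpr fun z hz => ?_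
    obtain ⟨j, hj⟩ := S.2 z
    exact Subtype.ext (hodd z.1 hz ⟨j, congrArg Subtype.val hj⟩)
  have hbij : Function.Bijective (π.comp (S : Subgroup (twist hS)).subtype) := by
    refine (Nat.bijective_iff_injective_and_card _).mpr ⟨hinj, le_antisymm
      (Nat.card_le_card_of_injective _ hinj) (Nat.le_of_dvd Nat.card_pos ?_)⟩
    rw [hk]
    refine S.pow_dvd_card_of_pow_dvd_card ?_
    rw [← hk]
    exact Subgroup.card_dvd_of_surjective π hπ
  let e := MulEquiv.ofBijective _ hbij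
  refine ⟨fun x => (((e.symm x).1.1.2 : (Matrix (Fin d) (Fin d) ℂ)ˣ) : Matrix (Fin d) (Fin d) ℂ),
    fun x y => by simp [map_mul], by simp [map_one], ?_, fun x => (e.symm x).1.2.2, fun x hxN => ?_⟩
  · intro x n
    have h := (e.symm x).1.2.1 n
    have hx : ((e.symm x).1.1.1 : G) = x := congrArg Subtype.val (e.apply_symm_apply x)
    rw [h]
    congr 2
    refine Subtype.ext ?_
    show ((e.symm x).1.1.1 : G) * (n : G) * ((e.symm x).1.1.1 : G)⁻¹ = (x : G) * n * (x : G)⁻¹
    rw [hx]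
  · -- the element `(x, ρ x)` of the twist
    set A := (e.symm x).1.1.2
    let R : (Matrix (Fin d) (Fin d) ℂ)ˣ :=
      ⟨repMat ρ ⟨x, hxN⟩, repMat ρ ⟨x, hxN⟩⁻¹, by rw [← repMat_mul, mul_inv_cancel, repMat_one],
        by rw [← repMat_mul, inv_mul_cancel, repMat_one]⟩
    have hR : (x, R) ∈ twist hS := by
      refine ⟨fun n => ?_, ?_⟩
      · show repMat ρ ⟨x, hxN⟩ * repMat ρ n = _ * repMat ρ ⟨x, hxN⟩
        rw [← repMat_mul, ← repMat_mul]
        exact congrArg _ (Subtype.ext (by simp [mul_assoc]))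
      · show (L * repMat ρ ⟨x, hxN⟩ * J).det = 1
        have : L * repMat ρ ⟨x, hxN⟩ * J = L * (repMat ρ ⟨x, hxN⟩ * (J * L)) * J := by
          simp only [Matrix.mul_assoc, hS.lj, Matrix.mul_one]
        rw [this, hS.absorb ⟨x, hxN⟩ x.2]
        simp only [Matrix.mul_assoc, hS.lj, Matrix.mul_one, Matrix.det_one]
    set z : twist hS := (e.symm x).1 with hz
    have hzx : π z = x := e.apply_symm_apply x
    set r : twist hS := ⟨(x, R), hR⟩
    obtain ⟨i, hi⟩ := (e.symm x).2 |> fun h => S.2 ⟨z, h⟩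
    have hzi : z ^ 2 ^ i = 1 := congrArg Subtype.val hi
    obtain ⟨j, hj⟩ := hS.two x
    have hrj : r ^ 2 ^ j = 1 := by
      refine Subtype.ext (Prod.ext hj (Units.ext ?_))
      have hp : ∀ k : ℕ, (repMat ρ ⟨(x : G), hxN⟩) ^ k = repMat ρ (⟨(x : G), hxN⟩ ^ k) := fun k => by
        induction k with
        | zero => simp [repMat_one]
        | succ k ih => rw [pow_succ, pow_succ, repMat_mul, ih]
      show ((R ^ 2 ^ j : (Matrix (Fin d) (Fin d) ℂ)ˣ) : Matrix (Fin d) (Fin d) ℂ) = 1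
      rw [Units.val_pow_eq_pow_val]
      show repMat ρ ⟨(x : G), hxN⟩ ^ 2 ^ j = 1
      rw [hp, show (⟨(x : G), hxN⟩ : N) ^ 2 ^ j = 1 from
        Subtype.ext (by simpa using congrArg Subtype.val hj), repMat_one]
    obtain ⟨c, hc, hzc⟩ := hker r.1 r.2 x rfl
    obtain ⟨c', hc', hzc'⟩ := hker z.1 z.2 x hzx
    have hcom : Commute z r := by
      refine Subtype.ext (Prod.ext ?_ (Units.ext ?_))
      · show (z.1.1 : P) * x = x * z.1.1
        rw [show z.1.1 = x from hzx]
      · show (z.1.2 : Matrix (Fin d) (Fin d) ℂ) * r.1.2 = r.1.2 * z.1.2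
        rw [hzc, hzc', Matrix.smul_mul, Matrix.mul_smul, Matrix.smul_mul, Matrix.mul_smul, smul_comm]
    have h := hodd (z * r⁻¹) (by rw [map_mul, map_inv, hzx]; exact mul_inv_cancel x)
      ⟨i + j, by
        rw [(hcom.inv_right).mul_pow, inv_pow, pow_add, pow_mul, hzi, one_pow, one_mul, inv_eq_one,
          mul_comm, pow_mul, hrj, one_pow]⟩
    have hzr := congrArg (fun w : twist hS => (w.1.2 : Matrix (Fin d) (Fin d) ℂ)) (mul_inv_eq_one.mp h)
    exact hzr

/-- Extension to `N P`. -/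
theorem exists_ext {T P : Subgroup G} (hNT : N ≤ T) (hPT : P ≤ T)
    (hT : ∀ t ∈ T, ∃ n ∈ N, ∃ x ∈ P, t = n * x) (a : P → Matrix (Fin d) (Fin d) ℂ)
    (hamul : ∀ x y, a (x * y) = a x * a y) (ha1 : a 1 = 1)
    (hacomm : ∀ (x : P) (n : N), a x * repMat ρ n =
      repMat ρ ⟨(x : G) * n * (x : G)⁻¹, hN.conj_mem _ n.2 _⟩ * a x)
    (haN : ∀ (x : P) (h : (x : G) ∈ N), a x = repMat ρ ⟨x, h⟩) :
    ∃ σ : Representation ℂ T (Fin d → ℂ),
      (∀ n : N, repMat σ ⟨n, hNT n.2⟩ = repMat ρ n) ∧ ∀ x : P, repMat σ ⟨x, hPT x.2⟩ = a x := by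
  choose nf hnf xf hxf heq using fun t : T => hT t t.2
  let η : T → Matrix (Fin d) (Fin d) ℂ := fun t => repMat ρ ⟨nf t, hnf t⟩ * a ⟨xf t, hxf t⟩
  have hwd : ∀ (t : T) (n : N) (x : P), (t : G) = n * x → η t = repMat ρ n * a x := by
    intro t n x he
    have hval : (n : G)⁻¹ * nf t = (x : G) * (xf t)⁻¹ := by
      rw [inv_mul_eq_iff_eq_mul, ← mul_assoc, eq_mul_inv_iff_mul_eq, ← he, ← heq t]
    have hmem : ((x * ⟨xf t, hxf t⟩⁻¹ : P) : G) ∈ N := by
      show (x : G) * (xf t)⁻¹ ∈ N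
      exact hval ▸ N.mul_mem (N.inv_mem n.2) (hnf t)
    calc η t = repMat ρ n * (repMat ρ ⟨_, hmem⟩ * a ⟨xf t, hxf t⟩) := by
          rw [← mul_assoc, ← repMat_mul]
          show repMat ρ _ * _ = repMat ρ _ * _
          congr 2
          refine Subtype.ext ?_
          show nf t = (n : G) * ((x : G) * (xf t)⁻¹)
          rw [← hval, mul_inv_cancel_left]
      _ = repMat ρ n * a x := by rw [← haN _ hmem, ← hamul, inv_mul_cancel_right]
  have h1 : η 1 = 1 := by
    rw [hwd 1 1 1 (by simp), repMat_one, ha1, one_mul]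
  have hmul : ∀ t u : T, η (t * u) = η t * η u := by
    intro t u
    set x : P := ⟨xf t, hxf t⟩
    set k : N := ⟨nf u, hnf u⟩
    rw [hwd (t * u) (⟨nf t, hnf t⟩ * ⟨(x : G) * k * (x : G)⁻¹, hN.conj_mem _ k.2 _⟩)
      (x * ⟨xf u, hxf u⟩) (by
        show (t : G) * u = nf t * (xf t * nf u * (xf t)⁻¹) * (xf t * xf u)
        rw [heq t, heq u]
        group), hwd t ⟨nf t, hnf t⟩ x (heq t), hwd u k ⟨xf u, hxf u⟩ (heq u), repMat_mul, hamul,
      mul_assoc, ← mul_assoc _ (a x), ← hacomm]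
    simp only [mul_assoc]
  refine ⟨repOf η h1 hmul, fun n => ?_, fun x => ?_⟩
  · rw [repMat_repOf, hwd _ n 1 (by simp), ha1, mul_one]
  · rw [repMat_repOf, hwd _ 1 x (by simp), repMat_one, one_mul]

end Ext

section Main

open CfsgLib.Char CfsgLib.CharNormal CfsgLib.CharBlocks
open Matrix Module
open scoped ComplexConjugate Matrix

variable {G : Type*} [Group G] [Fintype G] {N : Subgroup G} [hN : N.Normal] [Fintype N]

omit [Fintype G] [Fintype N] hN in
theorem repMat_inv_mul {d : ℕ} (ρ : Representation ℂ N (Fin d → ℂ)) (x : N) :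
    repMat ρ x⁻¹ * repMat ρ x = 1 := by
  rw [← repMat_mul, inv_mul_cancel, repMat_one]

/-- A symmetric invariant form gives indicator one. -/
theorem indicator_one {n : ℕ} (ρG : Representation ℂ G (Fin n → ℂ)) [ρG.IsIrreducible]
    (X : Matrix (Fin n) (Fin n) ℂ) (hX : X ≠ 0) (hsym : Xᵀ = X)
    (hinv : ∀ g, (repMat ρG g)ᵀ * X * repMat ρG g = X) :
    (Nat.card G : ℂ)⁻¹ * ∑ s : G, ρG.character (s * s) = 1 := by
  let ρd : Representation ℂ G (Fin n → ℂ) := repOf (fun g => (repMat ρG g⁻¹)ᵀ)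
    (by rw [inv_one, repMat_one, Matrix.transpose_one])
    (fun x y => by rw [_root_.mul_inv_rev, repMat_mul, Matrix.transpose_mul])
  have hchard : ∀ g, ρd.character g = conj (ρG.character g) := fun g => by
    rw [← trace_repMat, repMat_repOf, Matrix.trace_transpose, trace_repMat, character_inv]
  have hirr : IsIrrCharacter G ρd.character := by
    rw [show ρd.character = fun g => conj (ρG.character g) from funext hchard]
    exact (irrConj ⟨_, isIrrCharacter_char ρG⟩).2
  have := isIrreducible_of_isIrrCharacter ρd hirr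
  have hinvd : ∀ g, formAct ρd g X = X := fun g => by
    show repMat ρd g * X * (repMat ρd g)ᵀ = X
    rw [repMat_repOf, Matrix.transpose_transpose]
    exact hinv g⁻¹
  have havg : formAvg ρd X = X := formAvg_eq_self ρd hinvd
  have hrealc : ∀ g, conj (ρd.character g) = ρd.character g := by
    by_contra h
    have h1 := trace_formAvg ρd
    rw [classInner_irr_ne hirr
      (show IsIrrCharacter G (fun g => conj (ρd.character g)) from (irrConj ⟨_, hirr⟩).2)
      (fun e => h fun g => (congrFun e g).symm)] at h1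
    have hzero : finrank ℂ (LinearMap.range (formAvg ρd)) = 0 := by exact_mod_cast h1
    rw [Submodule.finrank_eq_zero, LinearMap.range_eq_bot] at hzero
    exact hX (havg.symm.trans (by rw [hzero]; rfl))
  obtain ⟨w, hw0, hwinv, c, -, hν, hwT⟩ := exists_form ρd hrealc
  have hone : finrank ℂ (LinearMap.range (formAvg ρd)) = 1 := by
    have h1 := trace_formAvg ρd
    rw [show (fun g => conj (ρd.character g)) = ρd.character from funext hrealc,
      classInner_irr_self hirr] at h1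
    exact_mod_cast h1
  obtain ⟨k, hk⟩ := (finrank_eq_one_iff_of_nonzero' (⟨X, ⟨X, havg⟩⟩ :
      LinearMap.range (formAvg ρd)) (fun e => hX (congrArg Subtype.val e))).mp hone
    ⟨w, ⟨w, formAvg_eq_self ρd hwinv⟩⟩
  have hwk : k • X = w := congrArg Subtype.val hk
  have hc : c = 1 := by
    rw [← hwk, Matrix.transpose_smul, hsym, hwk] at hwT
    exact (smul_left_injective ℂ hw0 (show (1 : ℂ) • w = c • w by rw [one_smul]; exact hwT)).symm
  rw [← hc, ← hν]
  congr 1
  refine Finset.sum_congr rfl fun s _ => ?_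
  rw [hchard]
  have h := hrealc (s * s)
  rw [hchard, Complex.conj_conj] at h
  exact h

/-- A two-subgroup meeting `N` in a Sylow subgroup and covering `H`. -/
theorem exists_two_cover (h2 : IsPGroup 2 (G ⧸ N)) (H : Subgroup G) (hNH : N ≤ H) :
    ∃ P : Subgroup G, P ≤ H ∧ IsPGroup 2 P ∧
      Nat.card (P.subgroupOf N) = 2 ^ (Nat.card N).factorization 2 ∧
      ∀ t ∈ H, ∃ n ∈ N, ∃ x ∈ P, t = n * x := by
  have : Fact (Nat.Prime 2) := ⟨Nat.prime_two⟩
  let S : Sylow 2 H := default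
  set M := N.subgroupOf H
  have hMidx : ∀ q : ℕ, q.Prime → q ∣ M.index → q = 2 := by
    intro q hq hd
    obtain ⟨k, hk⟩ := IsPGroup.iff_card.mp h2
    have hh : M.index ∣ N.index := by
      rw [← Subgroup.relIndex_mul_index hNH]
      exact dvd_mul_right _ _
    have hNk : N.index = 2 ^ k := hk
    exact (Nat.prime_dvd_prime_iff_eq hq Nat.prime_two).mp (hq.dvd_of_dvd_pow (hNk ▸ hd.trans hh))
  have htop : M ⊔ (S : Subgroup H) = ⊤ := by
    refine Subgroup.index_eq_one.mp (Nat.eq_one_iff_not_exists_prime_dvd.mpr fun q hq hd => ?_)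
    have h1 := hd.trans (Subgroup.index_dvd_of_le (le_sup_left : M ≤ M ⊔ (S : Subgroup H)))
    have h2' := hd.trans (Subgroup.index_dvd_of_le (le_sup_right : (S : Subgroup H) ≤ M ⊔ S))
    rw [hMidx q hq h1] at h2'
    exact S.not_dvd_index h2'
  refine ⟨(S : Subgroup H).map H.subtype, Subgroup.map_subtype_le _,
    S.2.of_equiv (Subgroup.equivMapOfInjective _ _ H.subtype_injective), ?_, fun t ht => ?_⟩
  · -- the intersection is a Sylow subgroup of `N`
    have hSM : (Nat.card ((S : Subgroup H).subgroupOf M : Subgroup M)) =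
        2 ^ (Nat.card M).factorization 2 := by
      have hrel : M.relIndex (S : Subgroup H) = M.index := by
        rw [← Subgroup.relIndex_sup_right (H := (S : Subgroup H)) (K := M),
          show (S : Subgroup H) ⊔ M = ⊤ by rw [sup_comm]; exact htop, Subgroup.relIndex_top_right]
      have hc : Nat.card ((S : Subgroup H).subgroupOf M) = Nat.card (M.subgroupOf (S : Subgroup H)) :=
        Nat.card_congr
          { toFun := fun x => ⟨⟨x.1.1, Subgroup.mem_subgroupOf.mp x.2⟩, Subgroup.mem_subgroupOf.mpr x.1.2⟩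
            invFun := fun x => ⟨⟨x.1.1, Subgroup.mem_subgroupOf.mp x.2⟩, Subgroup.mem_subgroupOf.mpr x.1.2⟩
            left_inv := fun x => rfl
            right_inv := fun x => rfl }
      have h1 : Nat.card (M.subgroupOf (S : Subgroup H)) * M.index =
          2 ^ (Nat.card H).factorization 2 := by
        rw [← S.card_eq_multiplicity, ← (M.subgroupOf (S : Subgroup H)).card_mul_index]
        exact congrArg _ hrel.symm
      have h2 := congrArg (fun k => Nat.factorization k 2) (M.card_mul_index)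
      obtain ⟨i, -, hi⟩ := (Nat.dvd_prime_pow Nat.prime_two).mp ⟨_, h1.symm⟩
      obtain ⟨c, -, hci⟩ := (Nat.dvd_prime_pow Nat.prime_two).mp (Dvd.intro_left _ h1)
      rw [hi, hci, ← pow_add] at h1
      rw [Nat.factorization_mul Nat.card_pos.ne' Subgroup.index_ne_zero_of_finite, Finsupp.add_apply,
        hci, Nat.prime_two.factorization_pow, Finsupp.single_eq_same] at h2
      have := Nat.pow_right_injective le_rfl h1
      rw [hc, hi]
      congr 1
      omega
    rw [Nat.card_congr (Subgroup.subgroupOfEquivOfLe hNH).toEquiv] at hSM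
    rw [← hSM]
    refine Nat.card_congr
      { toFun := fun x => ⟨⟨⟨x.1, hNH x.1.2⟩, Subgroup.mem_subgroupOf.mpr x.1.2⟩,
          Subgroup.mem_subgroupOf.mpr ?_⟩
        invFun := fun y => ⟨⟨(y.1.1 : G), Subgroup.mem_subgroupOf.mp y.1.2⟩,
          Subgroup.mem_subgroupOf.mpr ⟨y.1.1, Subgroup.mem_subgroupOf.mp y.2, rfl⟩⟩
        left_inv := fun x => rfl
        right_inv := fun y => rfl }
    obtain ⟨z, hz, hzx⟩ := Subgroup.mem_subgroupOf.mp x.2
    show (⟨(x.1 : G), hNH x.1.2⟩ : H) ∈ (S : Subgroup H)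
    have e : (⟨(x.1 : G), hNH x.1.2⟩ : H) = z := Subtype.ext hzx.symm
    exact e ▸ hz
  · have hm : (⟨t, ht⟩ : H) ∈ ((M ⊔ (S : Subgroup H) : Subgroup H) : Set H) := by
      rw [htop]; exact Subgroup.mem_top _
    rw [Subgroup.normal_mul] at hm
    obtain ⟨n, hn, x, hx, he⟩ := hm
    exact ⟨n, Subgroup.mem_subgroupOf.mp hn, x, ⟨x, hx, rfl⟩, (congrArg Subtype.val he).symm⟩

set_option maxHeartbeats 1000000 in
theorem exists_strongly_real (h2 : IsPGroup 2 (G ⧸ N)) (φ : IrrCharacter N)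
    (hdef : 2 ^ (Nat.card N).factorization 2 ∣ charDegree (φ : N → ℂ))
    (hconj : ∃ g : G, conjFun N g (φ : N → ℂ) = fun n => conj ((φ : N → ℂ) n)) :
    ∃ χ : IrrCharacter G, (Nat.card G : ℂ)⁻¹ * ∑ s : G, (χ : G → ℂ) (s * s) = 1 ∧
      Cfsg.classInner (fun n : N => (χ : G → ℂ) n) (φ : N → ℂ) = 1 := by
  classical
  have : Fact (Nat.Prime 2) := ⟨Nat.prime_two⟩
  obtain ⟨d, ρ, hρ, hρc⟩ := φ.2
  let T := inertia N (φ : N → ℂ)
  have hNT : N ≤ T := le_inertia N (isClassFunction_of_isIrr φ.2)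
  have := Fintype.ofFinite T
  let c₀ : (N → ℂ) → N → ℂ := fun θ n => conj (θ n)
  have hcc : ∀ θ, c₀ (c₀ θ) = θ := fun θ => funext fun n => Complex.conj_conj (θ n)
  have hck : ∀ (g : G) θ, conjFun N g (c₀ θ) = c₀ (conjFun N g θ) := fun g θ => rfl
  let Tst : Subgroup G :=
    { carrier := {g | conjFun N g (φ : N → ℂ) = φ ∨ conjFun N g (φ : N → ℂ) = c₀ φ}
      one_mem' := Or.inl (conjFun_one N _)
      mul_mem' := by
        rintro x y (hx | hx) (hy | hy)
        · left; rw [← conjFun_conjFun, hx, hy]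
        · right; rw [← conjFun_conjFun, hx, hy]
        · right; rw [← conjFun_conjFun, hx, hck, hy]
        · left; rw [← conjFun_conjFun, hx, hck, hy, hcc]
      inv_mem' := by
        rintro x (hx | hx)
        · left; conv_lhs => rw [← hx, conjFun_inv_conjFun]
        · right
          have h := congrArg c₀ hx
          rw [← hck, hcc] at h
          conv_lhs => rw [← h, conjFun_inv_conjFun] }
  obtain ⟨Q, hQle, hQ2, hQcard, hQcov⟩ := exists_two_cover h2 Tst
    (fun n hn => Or.inl (conjFun_of_mem N (isClassFunction_of_isIrr φ.2) hn))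
  obtain ⟨g₀, hg₀⟩ := hconj
  obtain ⟨n₀, hn₀, g, hgQ, he⟩ := hQcov g₀ (Or.inr hg₀)
  have hg : conjFun N g (φ : N → ℂ) = c₀ φ := by
    rw [he, ← conjFun_conjFun, conjFun_of_mem N (isClassFunction_of_isIrr φ.2) hn₀] at hg₀
    exact hg₀
  let P := Q ⊓ T
  have hPT : P ≤ T := inf_le_right
  have hTcov : ∀ t ∈ T, ∃ n ∈ N, ∃ x ∈ P, t = n * x := by
    intro t ht
    obtain ⟨n, hn, x, hx, rfl⟩ := hQcov t (Or.inl ((mem_inertia N).mp ht))
    exact ⟨n, hn, x, ⟨hx, (T.mul_mem_cancel_left (hNT hn)).mp ht⟩, rfl⟩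
  have hQg : ∀ x ∈ P, g * x * g⁻¹ ∈ Q := fun x hx =>
    Q.mul_mem (Q.mul_mem hgQ hx.1) (Q.inv_mem hgQ)
  have hgT : ∀ x ∈ T, g * x * g⁻¹ ∈ T := by
    intro x hx
    have h1 : conjFun N g⁻¹ (φ : N → ℂ) = c₀ φ := by
      have h := congrArg c₀ hg
      rw [← hck, hcc] at h
      conv_lhs => rw [← h, conjFun_inv_conjFun]
    rw [mem_inertia, ← conjFun_conjFun, ← conjFun_conjFun, hg, hck, (mem_inertia N).mp hx, hck, h1,
      hcc]
  have hg2 : g * g ∈ P := ⟨Q.mul_mem hgQ hgQ, (mem_inertia N).mpr (by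
    rw [← conjFun_conjFun, hg, hck, hg, hcc])⟩
  -- the fixed points of `D = P ∩ N`
  set D := P.subgroupOf N with hD
  have := Fintype.ofFinite D
  have hDcard : Nat.card D = 2 ^ (Nat.card N).factorization 2 := by
    rw [← hQcard, hD, show P.subgroupOf N = Q.subgroupOf N from Subgroup.ext fun x =>
      ⟨fun h => Subgroup.mem_subgroupOf.mpr (Subgroup.mem_subgroupOf.mp h).1,
        fun h => Subgroup.mem_subgroupOf.mpr ⟨Subgroup.mem_subgroupOf.mp h, hNT x.2⟩⟩]
  obtain ⟨m, hm⟩ := hdef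
  have hd : d = 2 ^ (Nat.card N).factorization 2 * m := by
    rw [← hm]
    have h : ((φ : N → ℂ) 1) = d := by rw [← hρc, Representation.char_one, Module.finrank_fin_fun]
    exact (charDegree_eq h).symm
  have hφd : (φ : N → ℂ) 1 = (d : ℂ) := by
    rw [← hρc, Representation.char_one, Module.finrank_fin_fun]
  have hmodd : Odd m := by
    rw [← Nat.not_even_iff_odd, even_iff_two_dvd]
    intro h
    refine Nat.pow_succ_factorization_not_dvd (Nat.card_pos (α := N)).ne' Nat.prime_two ?_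
    refine dvd_trans ?_ (degree_dvd_card φ.2 hφd)
    rw [hd, pow_succ]
    exact mul_dvd_mul_left _ h
  set E : Matrix (Fin d) (Fin d) ℂ := (Nat.card D : ℂ)⁻¹ • ∑ x : D, repMat ρ x.1 with hEdef
  have habs : ∀ y : D, repMat ρ y.1 * E = E := fun y => by
    rw [hEdef, Matrix.mul_smul, Matrix.mul_sum]
    congr 1
    rw [← Equiv.sum_comp (Equiv.mulLeft y) (fun x : D => repMat ρ x.1)]
    exact Finset.sum_congr rfl fun x _ => (repMat_mul ρ y.1 x.1).symm
  have hEE : E * E = E := by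
    conv_lhs => arg 1; rw [hEdef]
    rw [Matrix.smul_mul, Matrix.sum_mul, Finset.sum_congr rfl fun x _ => habs x, Finset.sum_const,
      Finset.card_univ, ← Nat.card_eq_fintype_card, ← Nat.cast_smul_eq_nsmul ℂ, smul_smul,
      inv_mul_cancel₀ (by exact_mod_cast Nat.card_pos.ne'), one_smul]
  have hEtr : E.trace = m := by
    rw [hEdef, Matrix.trace_smul, Matrix.trace_sum, smul_eq_mul,
      Finset.sum_eq_single (1 : D)]
    · rw [OneMemClass.coe_one, trace_repMat, hρc, hφd, hd, hDcard]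
      push_cast
      rw [inv_mul_cancel_left₀ (pow_ne_zero _ two_ne_zero)]
    · intro x _ hx
      rw [trace_repMat, hρc]
      refine vanish_of_defect_zero φ.2 Nat.prime_two (Nat.ordProj_dvd _ 2)
        (Nat.pow_succ_factorization_not_dvd Nat.card_pos.ne' Nat.prime_two) hφd ⟨m, hd⟩ ?_
      obtain ⟨k, hk⟩ := hQ2 ⟨((x.1 : N) : G), (Subgroup.mem_subgroupOf.mp x.2).1⟩
      have ho : orderOf (x.1 : N) ∣ 2 ^ k := orderOf_dvd_of_pow_eq_one (Subtype.ext (by
        simpa using congrArg Subtype.val hk))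
      obtain ⟨i, -, hi⟩ := (Nat.dvd_prime_pow Nat.prime_two).mp ho
      rcases i with _ | i
      · exact absurd (Subtype.ext (orderOf_eq_one_iff.mp hi)) hx
      · rw [hi]; exact dvd_pow_self 2 i.succ_ne_zero
    · exact fun h => absurd (Finset.mem_univ _) h
  obtain ⟨J, L, hLJ, hJL⟩ := exists_factor E hEE hEtr
  -- transport of `E` by a normalising element
  have hsum : ∀ h : G, (∀ x : N, (x : G) ∈ P → h * (x : G) * h⁻¹ ∈ P) →
      ∑ x : D, repMat ρ ⟨h * (x.1 : G) * h⁻¹, hN.conj_mem _ x.1.2 h⟩ = ∑ x : D, repMat ρ x.1 := by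
    intro h hh
    let f : D → D := fun x => ⟨⟨h * (x.1 : G) * h⁻¹, hN.conj_mem _ x.1.2 h⟩,
      Subgroup.mem_subgroupOf.mpr (hh x.1 (Subgroup.mem_subgroupOf.mp x.2))⟩
    have hf : Function.Injective f := fun a b hab => by
      have h' := congrArg (fun z : D => ((z.1 : N) : G)) hab
      exact Subtype.ext (Subtype.ext (mul_left_cancel (mul_right_cancel h')))
    exact Fintype.sum_bijective f (Finite.injective_iff_bijective.mp hf) _ _ fun x => rfl
  have hS : Setup ρ P J L := by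
    refine ⟨hQ2.to_le inf_le_left, hmodd, hLJ, fun x hx => ?_, fun h hh A hA => ?_⟩
    · rw [hJL]; exact habs ⟨x, Subgroup.mem_subgroupOf.mpr hx⟩
    · rw [hJL, hEdef, Matrix.mul_smul, Matrix.smul_mul, Matrix.mul_sum, Matrix.sum_mul]
      congr 1
      rw [Finset.sum_congr rfl fun x _ => hA x.1, ← Matrix.sum_mul, hsum h hh, Matrix.sum_mul]
  obtain ⟨a, hamul, ha1, hacomm, hadet, haN⟩ := exists_ext_P hS fun x hx => by
    rw [hρc]; exact (mem_inertia N).mp hx.2
  obtain ⟨σ, hσN, hσP⟩ := exists_ext hNT hPT hTcov a hamul ha1 hacomm haN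
  -- the twisted form
  let cj : N → N := fun n => ⟨g * n * g⁻¹, hN.conj_mem _ n.2 g⟩
  have hcjmul : ∀ x y, cj (x * y) = cj x * cj y := fun x y => Subtype.ext (by simp [cj, mul_assoc])
  let ρ' : Representation ℂ N (Fin d → ℂ) := repOf (fun n => (repMat ρ n⁻¹)ᵀ)
    (by rw [inv_one, repMat_one, Matrix.transpose_one])
    (fun x y => by rw [_root_.mul_inv_rev, repMat_mul, Matrix.transpose_mul])
  let ρg : Representation ℂ N (Fin d → ℂ) := repOf (fun n => repMat ρ (cj n))
    (by rw [show cj 1 = 1 from Subtype.ext (by simp [cj]), repMat_one])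
    (fun x y => by rw [hcjmul, repMat_mul])
  have hch : ∀ n, ρ'.character n = c₀ φ n := fun n => by
    rw [← trace_repMat, repMat_repOf, Matrix.trace_transpose, trace_repMat, character_inv, hρc]
  have hchg : ρg.character = ρ'.character := funext fun n => by
    rw [hch, ← trace_repMat, repMat_repOf, trace_repMat, hρc]
    exact congrFun hg n
  have hirrg : IsIrrCharacter N ρg.character := by
    rw [hchg, show ρ'.character = c₀ φ from funext hch]
    exact (irrConj φ).2
  have := isIrreducible_of_isIrrCharacter ρg hirrg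
  obtain ⟨M, hM0, hM⟩ := exists_intertwiner ρg ρ' (by
    rw [← hchg, classInner_irr_self hirrg]; exact one_ne_zero)
  have hMd := (schur_unit hM hM0).1
  simp only [ρg, ρ', repMat_repOf] at hM
  have hMrel : ∀ n : N, (repMat ρ n)ᵀ * M * repMat ρ (cj n) = M := fun n => by
    rw [mul_assoc, hM n, ← mul_assoc, ← Matrix.transpose_mul, repMat_inv_mul, Matrix.transpose_one,
      one_mul]
  have huniq : ∀ X : Matrix (Fin d) (Fin d) ℂ,
      (∀ n : N, (repMat ρ n)ᵀ * X * repMat ρ (cj n) = X) → ∃ c : ℂ, X = c • M := by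
    intro X hX
    have hX' : ∀ n : N, X * repMat ρ (cj n) = (repMat ρ n⁻¹)ᵀ * X := fun n => by
      conv_rhs => rw [← hX n, ← mul_assoc, ← mul_assoc, ← Matrix.transpose_mul, ← repMat_mul,
        mul_inv_cancel, repMat_one, Matrix.transpose_one, one_mul]
    obtain ⟨c, hc⟩ := schur_scalar (ρ := ρg) (K := M⁻¹ * X) fun n => by
      simp only [ρg, repMat_repOf]
      rw [mul_assoc, hX' n]
      have h1 : M⁻¹ * (repMat ρ n⁻¹)ᵀ = repMat ρ (cj n) * M⁻¹ := by
        have h2 : (repMat ρ n⁻¹)ᵀ = M * repMat ρ (cj n) * M⁻¹ := by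
          rw [hM n, Matrix.mul_nonsing_inv_cancel_right _ _ hMd]
        rw [h2, ← mul_assoc, ← mul_assoc, Matrix.nonsing_inv_mul _ hMd, one_mul]
      rw [← mul_assoc, h1, mul_assoc]
    refine ⟨c, ?_⟩
    have h := congrArg (M * ·) hc
    simpa only [← mul_assoc, Matrix.mul_nonsing_inv _ hMd, one_mul, Matrix.mul_smul,
      Matrix.mul_one] using h
  -- the restricted form is non-degenerate
  have hgP : ∀ x : N, (x : G) ∈ P → g * (x : G) * g⁻¹ ∈ P := fun x hx =>
    ⟨hQg _ hx, hgT _ hx.2⟩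
  have hEM : Eᵀ * M = M * E := by
    have key : ∀ x : D, M * repMat ρ ⟨g * (x.1 : G) * g⁻¹, hN.conj_mem _ x.1.2 g⟩ =
        (repMat ρ (x.1 : N)⁻¹)ᵀ * M := fun x => hM x.1
    have hinvsum : ∑ x : D, (repMat ρ (x.1 : N)⁻¹)ᵀ * M = ∑ x : D, (repMat ρ x.1)ᵀ * M := by
      rw [← Equiv.sum_comp (Equiv.inv D) (fun x : D => (repMat ρ x.1)ᵀ * M)]
      refine Finset.sum_congr rfl fun x _ => ?_
      rw [Equiv.inv_apply, InvMemClass.coe_inv]
    calc Eᵀ * M = (Nat.card D : ℂ)⁻¹ • ∑ x : D, (repMat ρ x.1)ᵀ * M := by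
          rw [hEdef, Matrix.transpose_smul, Matrix.transpose_sum, Matrix.smul_mul, Matrix.sum_mul]
      _ = (Nat.card D : ℂ)⁻¹ • (M * ∑ x : D, repMat ρ x.1) := by
          rw [← hinvsum, ← hsum g hgP, Matrix.mul_sum, Finset.sum_congr rfl fun x _ => key x]
      _ = M * E := by rw [hEdef, Matrix.mul_smul]
  set W := Jᵀ * M * J with hW
  have hW0 : W.det ≠ 0 := by
    have h1 : W * (L * M⁻¹ * Lᵀ) = 1 := by
      calc W * (L * M⁻¹ * Lᵀ) = Jᵀ * (M * (J * L)) * (M⁻¹ * Lᵀ) := by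
            simp only [hW, Matrix.mul_assoc]
        _ = Jᵀ * Eᵀ * ((M * M⁻¹) * Lᵀ) := by rw [hJL, ← hEM]; simp only [Matrix.mul_assoc]
        _ = (L * (E * J))ᵀ := by
            rw [Matrix.mul_nonsing_inv _ hMd, Matrix.one_mul, Matrix.transpose_mul,
              Matrix.transpose_mul]
        _ = 1 := by
            rw [← hJL, Matrix.mul_assoc J, hLJ, Matrix.mul_one, hLJ, Matrix.transpose_one]
    intro h0
    have h2 := congrArg Matrix.det h1
    rw [Matrix.det_mul, h0, zero_mul, Matrix.det_one] at h2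
    exact zero_ne_one h2
  have haJ : ∀ x : P, a x * J = J * (L * a x * J) := fun x => by
    have hc := hS.comm (x : G) (fun n hn => P.mul_mem (P.mul_mem x.2 hn) (P.inv_mem x.2)) (a x)
      (hacomm x)
    calc a x * J = a x * (J * L) * J := by simp only [Matrix.mul_assoc, hLJ, Matrix.mul_one]
      _ = J * (L * a x * J) := by rw [hc]; simp only [Matrix.mul_assoc]
  have hpow2 : ∀ c : ℂ, c ^ m = 1 → (∃ k : ℕ, c ^ 2 ^ k = 1) → c = 1 := fun c hc ⟨k, hk⟩ =>
    eq_one_of_coprime_pow hk hc (Nat.Coprime.pow_left _ (Nat.coprime_two_left.mpr hmodd))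
  let gT : T → T := fun t => ⟨g * t * g⁻¹, hgT _ t.2⟩
  have hgTmul : ∀ s t, gT (s * t) = gT s * gT t := fun s t => Subtype.ext (by simp [gT, mul_assoc])
  let Φ : T → Matrix (Fin d) (Fin d) ℂ → Matrix (Fin d) (Fin d) ℂ :=
    fun t X => (repMat σ t)ᵀ * X * repMat σ (gT t)
  have hΦ : ∀ t : T, ∃ c : ℂ, Φ t M = c • M := by
    intro t
    refine huniq _ fun n => ?_
    let k : N := ⟨(t : G) * n * (t : G)⁻¹, hN.conj_mem _ n.2 _⟩
    have e1 : repMat σ t * repMat ρ n = repMat ρ k * repMat σ t := by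
      rw [← hσN n, ← hσN k, ← repMat_mul, ← repMat_mul]
      exact congrArg _ (Subtype.ext (by simp [k, mul_assoc]))
    have e2 : repMat σ (gT t) * repMat ρ (cj n) = repMat ρ (cj k) * repMat σ (gT t) := by
      rw [← hσN (cj n), ← hσN (cj k), ← repMat_mul, ← repMat_mul]
      exact congrArg _ (Subtype.ext (by simp [k, cj, gT, mul_assoc]))
    calc (repMat ρ n)ᵀ * ((repMat σ t)ᵀ * M * repMat σ (gT t)) * repMat ρ (cj n)
        = (repMat σ t * repMat ρ n)ᵀ * M * (repMat σ (gT t) * repMat ρ (cj n)) := by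
          rw [Matrix.transpose_mul]; simp only [Matrix.mul_assoc]
      _ = (repMat σ t)ᵀ * ((repMat ρ k)ᵀ * M * repMat ρ (cj k)) * repMat σ (gT t) := by
          rw [e1, e2, Matrix.transpose_mul]; simp only [Matrix.mul_assoc]
      _ = (repMat σ t)ᵀ * M * repMat σ (gT t) := by rw [hMrel k]
  choose cT hcT using hΦ
  have hMne : ∀ {c c' : ℂ}, c • M = c' • M → c = c' := fun h => smul_left_injective ℂ hM0 h
  have hcmul : ∀ s t, cT (s * t) = cT s * cT t := fun s t => hMne (by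
    rw [← hcT]
    show (repMat σ (s * t))ᵀ * M * repMat σ (gT (s * t)) = _
    rw [hgTmul, repMat_mul, repMat_mul, Matrix.transpose_mul]
    calc (repMat σ t)ᵀ * (repMat σ s)ᵀ * M * (repMat σ (gT s) * repMat σ (gT t))
        = (repMat σ t)ᵀ * Φ s M * repMat σ (gT t) := by simp only [Φ, Matrix.mul_assoc]
      _ = (cT s * cT t) • M := by
          rw [hcT s, Matrix.mul_smul, Matrix.smul_mul]
          show cT s • Φ t M = _
          rw [hcT t, smul_smul])
  have hc1 : cT 1 = 1 := hMne (by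
    rw [← hcT]
    show (repMat σ 1)ᵀ * M * repMat σ (gT 1) = _
    rw [show gT 1 = 1 from Subtype.ext (by simp [gT]), repMat_one, Matrix.transpose_one, one_mul,
      mul_one, one_smul])
  have hcP : ∀ x : P, cT ⟨x, hPT x.2⟩ = 1 := by
    intro x
    set t : T := ⟨x, hPT x.2⟩
    let y : P := ⟨g * x * g⁻¹, hQg x x.2, hgT _ (hPT x.2)⟩
    refine hpow2 _ ?_ ?_
    · have h := congrArg (fun X => (Jᵀ * X * J).det) (hcT t)
      simp only [Φ] at h
      rw [hσP x, show repMat σ (gT t) = a y from hσP y,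
        show Jᵀ * ((a x)ᵀ * M * a y) * J = (L * a x * J)ᵀ * W * (L * a y * J) by
          calc Jᵀ * ((a x)ᵀ * M * a y) * J = (a x * J)ᵀ * M * (a y * J) := by
                rw [Matrix.transpose_mul]; simp only [Matrix.mul_assoc]
            _ = _ := by rw [haJ x, haJ y, Matrix.transpose_mul]; simp only [hW, Matrix.mul_assoc],
        Matrix.det_mul, Matrix.det_mul, Matrix.det_transpose, hadet, hadet, one_mul, mul_one,
        Matrix.mul_smul, Matrix.smul_mul, Matrix.det_smul, Fintype.card_fin, ← hW] at h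
      exact mul_right_cancel₀ hW0 (by rw [one_mul]; exact h.symm)
    · obtain ⟨k, hk⟩ := hS.two x
      have hp : ∀ j : ℕ, cT (t ^ j) = cT t ^ j := fun j => by
        induction j with
        | zero => simpa using hc1
        | succ j ih => rw [pow_succ, pow_succ, hcmul, ih]
      refine ⟨k, ?_⟩
      rw [← hp, show t ^ 2 ^ k = 1 from Subtype.ext (by
        simpa [t] using congrArg Subtype.val hk), hc1]
  have hcTone : ∀ t : T, cT t = 1 := by
    intro t
    obtain ⟨n, hn, x, hx, ht⟩ := hTcov t t.2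
    have hcn : cT ⟨n, hNT hn⟩ = 1 := hMne (by
      rw [← hcT, one_smul]
      show (repMat σ ⟨n, hNT hn⟩)ᵀ * M * repMat σ (gT ⟨n, hNT hn⟩) = M
      rw [hσN ⟨n, hn⟩, show gT ⟨n, hNT hn⟩ = ⟨_, hNT (cj ⟨n, hn⟩).2⟩ from rfl, hσN (cj ⟨n, hn⟩)]
      exact hMrel ⟨n, hn⟩)
    rw [show t = ⟨n, hNT hn⟩ * ⟨x, hPT hx⟩ from Subtype.ext ht, hcmul, hcn, one_mul]
    exact hcP ⟨x, hx⟩
  have hMT : ∀ t : T, (repMat σ t)ᵀ * M * repMat σ (gT t) = M := fun t =>
    (hcT t).trans (by rw [hcTone, one_smul])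
  -- symmetry
  set t₂ : T := ⟨g * g, hPT hg2⟩ with ht₂
  set R := repMat σ t₂ with hR
  have hMsym : Mᵀ = M * R := by
    have hcjcj : ∀ n : N, R * repMat ρ n = repMat ρ (cj (cj n)) * R := fun n => by
      rw [hR, ← hσN n, ← hσN (cj (cj n)), ← repMat_mul, ← repMat_mul]
      exact congrArg _ (Subtype.ext (by simp [cj, t₂, mul_assoc]))
    have hrelT : ∀ n : N, (repMat ρ (cj n))ᵀ * Mᵀ * repMat ρ n = Mᵀ := fun n => by
      have h := congrArg Matrix.transpose (hMrel n)
      simpa only [Matrix.transpose_mul, Matrix.transpose_transpose, Matrix.mul_assoc] using h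
    have hRu : IsUnit R.det := by
      refine (Matrix.isUnit_iff_isUnit_det R).mp ?_
      exact ⟨⟨R, repMat σ t₂⁻¹, by rw [hR, ← repMat_mul, mul_inv_cancel, repMat_one],
        by rw [hR, ← repMat_mul, inv_mul_cancel, repMat_one]⟩, rfl⟩
    obtain ⟨ε, hε⟩ : ∃ ε : ℂ, Mᵀ * R⁻¹ = ε • M := by
      refine huniq _ fun n => ?_
      let n' : N := ⟨g⁻¹ * n * g, by simpa using hN.conj_mem _ n.2 g⁻¹⟩
      have hn' : cj n' = n := Subtype.ext (by simp [cj, n', mul_assoc])
      have h1 : R⁻¹ * repMat ρ (cj n) = repMat ρ n' * R⁻¹ := by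
        have h2 := hcjcj n'
        rw [hn'] at h2
        calc R⁻¹ * repMat ρ (cj n) = R⁻¹ * (repMat ρ (cj n) * R) * R⁻¹ := by
              rw [Matrix.mul_assoc, Matrix.mul_nonsing_inv_cancel_right _ _ hRu]
          _ = repMat ρ n' * R⁻¹ := by rw [← h2, Matrix.nonsing_inv_mul_cancel_left _ _ hRu]
      calc (repMat ρ n)ᵀ * (Mᵀ * R⁻¹) * repMat ρ (cj n)
          = (repMat ρ (cj n'))ᵀ * Mᵀ * (R⁻¹ * repMat ρ (cj n)) := by
            rw [hn']; simp only [Matrix.mul_assoc]
        _ = Mᵀ * R⁻¹ := by rw [h1, ← Matrix.mul_assoc, hrelT n']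
    have hεM : Mᵀ = ε • (M * R) := by
      rw [← Matrix.smul_mul, ← hε, Matrix.nonsing_inv_mul_cancel_right _ _ hRu]
    have hRR : Rᵀ * M * R = M := by
      have h := hMT t₂
      rwa [show gT t₂ = t₂ from Subtype.ext (by simp [gT, t₂, mul_assoc])] at h
    have hε2 : ε * ε = 1 := hMne (by
      conv_rhs => rw [one_smul, ← Matrix.transpose_transpose M, hεM, Matrix.transpose_smul,
        Matrix.transpose_mul, hεM, Matrix.mul_smul, smul_smul, ← Matrix.mul_assoc, hRR])
    have hεm : ε ^ m = 1 := by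
      have h := congrArg (fun X => (Jᵀ * X * J).det) hεM
      rw [show Jᵀ * Mᵀ * J = Wᵀ by simp [hW, Matrix.transpose_mul, Matrix.mul_assoc],
        Matrix.det_transpose, Matrix.mul_smul, Matrix.smul_mul, Matrix.det_smul, Fintype.card_fin,
        show R = a ⟨g * g, hg2⟩ from hσP ⟨g * g, hg2⟩,
        show Jᵀ * (M * a ⟨g * g, hg2⟩) * J = W * (L * a ⟨g * g, hg2⟩ * J) by
          calc Jᵀ * (M * a ⟨g * g, hg2⟩) * J = Jᵀ * M * (a ⟨g * g, hg2⟩ * J) := by
                simp only [Matrix.mul_assoc]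
            _ = _ := by rw [haJ]; simp only [hW, Matrix.mul_assoc],
        Matrix.det_mul, hadet, mul_one] at h
      exact mul_right_cancel₀ hW0 (by rw [one_mul]; exact h.symm)
    rw [hεM, hpow2 ε hεm ⟨1, by rw [pow_one, sq, hε2]⟩, one_smul]
  -- a character above
  have hσd : (σ.character 1) = (d : ℂ) := by rw [Representation.char_one, Module.finrank_fin_fun]
  have hind := isCharacter_indFun T (isCharacter_char σ)
  have hd0 : (d : ℂ) ≠ 0 := hφd ▸ irr_one_ne_zero φ.2
  obtain ⟨χ, hχ, hχind⟩ := exists_constituent hind (fun h0 => by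
    have h := congrFun h0 1
    rw [indFun_one, hσd, Pi.zero_apply] at h
    exact hd0 ((mul_eq_zero.mp h).resolve_left (Nat.cast_ne_zero.mpr Subgroup.index_ne_zero_of_finite)))
  obtain ⟨n, ρG, hρG, hρGc⟩ := hχ
  have hrec : Cfsg.classInner σ.character (fun t : T => χ t) ≠ 0 := by
    rw [← frobenius_reciprocity T _ (isClassFunction_of_isIrr ⟨n, ρG, hρG, hρGc⟩)]
    exact hχind
  let ρT : Representation ℂ T (Fin n → ℂ) := ρG.comp T.subtype
  have hρTc : ρT.character = fun t : T => χ t := funext fun t => congrFun hρGc t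
  have hρTm : ∀ t : T, repMat ρT t = repMat ρG t := fun t => rfl
  obtain ⟨ι, hι0, hι⟩ := exists_intertwiner σ ρT (by
    rw [hρTc, ← classInner_conj_symm]; exact (map_ne_zero _).mpr hrec)
  let σN : Representation ℂ N (Fin d → ℂ) := ρ
  let ρN : Representation ℂ N (Fin n → ℂ) := ρG.comp N.subtype
  have hιN : ∀ x : N, ι * repMat ρ x = repMat ρN x * ι := fun x => by
    rw [← hσN x]; exact hι ⟨x, hNT x.2⟩
  have hιinj := mulVec_injective_of_ne_zero hιN hι0
  obtain ⟨Lf, hLf⟩ := (Matrix.mulVecLin ι).exists_leftInverse_of_injective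
    (LinearMap.ker_eq_bot.mpr hιinj)
  set L₀ := LinearMap.toMatrix' Lf with hL₀
  have hL₀ι : L₀ * ι = 1 := by
    have h := congrArg LinearMap.toMatrix' hLf
    rw [LinearMap.toMatrix'_comp, LinearMap.toMatrix'_id] at h
    rw [show ι = LinearMap.toMatrix' (Matrix.mulVecLin ι) from (LinearMap.toMatrix'_toLin' ι).symm]
    exact h
  set π : Matrix (Fin d) (Fin n) ℂ :=
    (Nat.card T : ℂ)⁻¹ • ∑ t : T, repMat σ t * L₀ * repMat ρT t⁻¹ with hπ
  have hπeq : ∀ s : T, π * repMat ρT s = repMat σ s * π := by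
    intro s
    rw [hπ, Matrix.smul_mul, Matrix.mul_smul, Matrix.sum_mul, Matrix.mul_sum]
    congr 1
    rw [← Equiv.sum_comp (Equiv.mulLeft s)
      (fun t : T => repMat σ t * L₀ * repMat ρT t⁻¹ * repMat ρT s)]
    refine Finset.sum_congr rfl fun t _ => ?_
    simp only [Equiv.coe_mulLeft, _root_.mul_inv_rev, repMat_mul, Matrix.mul_assoc]
    rw [← repMat_mul ρT s⁻¹ s, inv_mul_cancel, repMat_one, Matrix.mul_one]
  have hπι : π * ι = 1 := by
    rw [hπ, Matrix.smul_mul, Matrix.sum_mul, Finset.sum_congr rfl fun t _ => show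
      repMat σ t * L₀ * repMat ρT t⁻¹ * ι = 1 by
        rw [Matrix.mul_assoc, ← hι, Matrix.mul_assoc, ← Matrix.mul_assoc L₀, hL₀ι, Matrix.one_mul,
          ← repMat_mul, mul_inv_cancel, repMat_one],
      Finset.sum_const, Finset.card_univ, ← Nat.card_eq_fintype_card, ← Nat.cast_smul_eq_nsmul ℂ,
      smul_smul, inv_mul_cancel₀ (by exact_mod_cast Nat.card_pos.ne'), one_smul]
  obtain ⟨B, hB⟩ : ∃ B : G → Matrix (Fin d) (Fin n) ℂ, B = fun x => π * repMat ρG x := ⟨_, rfl⟩
  have hBmul : ∀ x y, B (x * y) = B x * repMat ρG y := fun x y => by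
    simp only [hB, repMat_mul, Matrix.mul_assoc]
  have hBT : ∀ (t : T) (x : G), B (t * x) = repMat σ t * B x := fun t x => by
    simp only [hB, repMat_mul, ← Matrix.mul_assoc, ← hρTm, hπeq]
  set X := ∑ x : G, (B x)ᵀ * M * B (g * x) with hX
  have hXinv : ∀ h, (repMat ρG h)ᵀ * X * repMat ρG h = X := fun h => by
    rw [hX, Matrix.mul_sum, Matrix.sum_mul]
    refine Fintype.sum_equiv (Equiv.mulRight h) _ _ fun x => ?_
    simp only [Equiv.coe_mulRight]
    rw [hBmul x h, show B (g * (x * h)) = B (g * x) * repMat ρG h by rw [← mul_assoc, hBmul],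
      Matrix.transpose_mul]
    simp only [Matrix.mul_assoc]
  have hXsym : Xᵀ = X := by
    rw [hX, Matrix.transpose_sum]
    refine Fintype.sum_equiv (Equiv.mulLeft g) _ _ fun x => ?_
    simp only [Equiv.coe_mulLeft, Matrix.transpose_mul, Matrix.transpose_transpose]
    rw [hMsym, show g * (g * x) = (t₂ : G) * x from (mul_assoc g g x).symm, hBT]
    simp only [hR, Matrix.mul_assoc]
  have hzero : ∀ x : G, x ∉ T → B x * ι = 0 := by
    intro x hx
    by_contra hne
    let ρx : Representation ℂ N (Fin d → ℂ) :=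
      repOf (fun n => repMat ρ ⟨x * n * x⁻¹, hN.conj_mem _ n.2 x⟩)
        (by rw [show (⟨_, _⟩ : N) = 1 from Subtype.ext (by simp), repMat_one])
        (fun u v => by rw [← repMat_mul]; exact congrArg _ (Subtype.ext (by simp [mul_assoc])))
    have hK : ∀ u : N, (B x * ι) * repMat ρ u = repMat ρx u * (B x * ι) := fun u => by
      rw [repMat_repOf]
      let u' : N := ⟨x * u * x⁻¹, hN.conj_mem _ u.2 x⟩
      rw [Matrix.mul_assoc, hιN, ← Matrix.mul_assoc, ← Matrix.mul_assoc,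
        show repMat ρN u = repMat ρG u from rfl, ← hBmul, ← hσN u', ← hBT]
      congr 2
      simp [u', mul_assoc]
    refine hx ((mem_inertia N).mpr ?_)
    have h := (schur_unit hK hne).2
    rw [hρc] at h
    refine Eq.trans ?_ h.symm
    funext u
    rw [← trace_repMat, repMat_repOf, trace_repMat, hρc]
    rfl
  have hX0 : X ≠ 0 := by
    intro h0
    have h : ιᵀ * X * (repMat ρG g⁻¹ * ι) = (Nat.card T : ℂ) • M := by
      rw [hX, Matrix.mul_sum, Matrix.sum_mul]
      have hterm : ∀ x : G, ιᵀ * ((B x)ᵀ * M * B (g * x)) * (repMat ρG g⁻¹ * ι) =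
          if x ∈ T then M else 0 := by
        intro x
        have e : ιᵀ * ((B x)ᵀ * M * B (g * x)) * (repMat ρG g⁻¹ * ι) =
            (B x * ι)ᵀ * M * (B (g * x * g⁻¹) * ι) := by
          rw [hBmul _ g⁻¹, Matrix.transpose_mul]; simp only [Matrix.mul_assoc]
        rw [e]
        split_ifs with hx
        · have hb : ∀ t : T, B t * ι = repMat σ t := fun t => by
            have := hBT t 1
            rw [mul_one] at this
            rw [this]
            simp only [hB, repMat_one, Matrix.mul_one, Matrix.mul_assoc, hπι]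
          rw [hb ⟨x, hx⟩, show B (g * x * g⁻¹) = B (gT ⟨x, hx⟩ : T) from rfl, hb]
          exact hMT ⟨x, hx⟩
        · rw [hzero x hx, Matrix.transpose_zero, Matrix.zero_mul, Matrix.zero_mul]
      rw [Finset.sum_congr rfl fun x _ => hterm x, ← Finset.sum_filter, Finset.sum_const,
        ← Nat.cast_smul_eq_nsmul ℂ, ← Fintype.card_subtype, ← Nat.card_eq_fintype_card]
    rw [h0, Matrix.mul_zero, Matrix.zero_mul] at h
    rcases smul_eq_zero.mp h.symm with h' | h'
    · exact Nat.card_pos.ne' (Nat.cast_eq_zero.mp h')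
    · exact hM0 h'
  refine ⟨⟨χ, n, ρG, hρG, hρGc⟩, ?_, ?_⟩
  · show (Nat.card G : ℂ)⁻¹ * ∑ s : G, χ (s * s) = 1
    rw [← hρGc]
    exact indicator_one ρG X hX0 hXsym hXinv
  · have hχirr : IsIrrCharacter G χ := ⟨n, ρG, hρG, hρGc⟩
    show Cfsg.classInner (fun u : N => χ u) (φ : N → ℂ) = 1
    obtain ⟨e, he⟩ := classInner_char_nat (isCharacter_res N (isCharacter_of_isIrr hχirr))
      (isCharacter_of_isIrr φ.2)
    have he0 : e ≠ 0 := by
      intro h0
      rw [h0, Nat.cast_zero, ← hρc,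
        show (fun u : N => χ u) = ρN.character from funext fun u => (congrFun hρGc u).symm,
        classInner_character, Nat.cast_eq_zero] at he
      let f : Representation.IntertwiningMap ρ ρN :=
        { toLinearMap := Matrix.mulVecLin ι
          isIntertwining' := fun u => LinearMap.ext fun v => mulVec_comm hιN u v }
      have hf : f ≠ 0 := fun h => hι0 (by
        have h' : Matrix.mulVecLin ι = 0 := congrArg Representation.IntertwiningMap.toLinearMap h
        refine Matrix.ext_of_mulVec_single fun i => ?_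
        rw [Matrix.zero_mulVec]
        exact LinearMap.congr_fun h' (Pi.single i 1))
      have := Module.finrank_pos_iff_exists_ne_zero (R := ℂ).mpr ⟨f, hf⟩
      omega
    have hdeg := degree_eq_mul_card_orbit N hχirr φ (by rw [he]; exact_mod_cast he0)
    rw [he, card_orbit_eq_index, hφd] at hdeg
    have hle := constituent_degree_le hind hχirr hχind
    rw [indFun_one, hσd, hdeg] at hle
    have hle' : e * T.index * d ≤ T.index * d := by
      have h2 : ((e * T.index * d : ℕ) : ℂ).re ≤ ((T.index * d : ℕ) : ℂ).re := by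
        push_cast; exact hle
      rw [Complex.natCast_re, Complex.natCast_re] at h2
      exact_mod_cast h2
    have hpos : 0 < T.index * d := Nat.mul_pos (Nat.pos_of_ne_zero Subgroup.index_ne_zero_of_finite)
      (Nat.pos_of_ne_zero fun h => hd0 (by rw [h, Nat.cast_zero]))
    rw [mul_assoc] at hle'
    have he1 : e ≤ 1 := Nat.le_of_mul_le_mul_right (by rw [one_mul]; exact hle') hpos
    rw [he, show e = 1 by omega, Nat.cast_one]

end Main

/-- Let N be a normal subgroup of the finite group G with G/N a 2-group, and let φ be an irreducible complex character of N of 2-defect zero (the 2-part of #N divides φ(1)) whose complex conjugate is G-conjugate to φ. Then some irreducible character of G with Frobenius–Schur indicator +1 contains φ with multiplicity exactly one on restriction to N. -/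
theorem result {G : Type*} [Group G] [Finite G] (N : Subgroup G) [N.Normal] (h2 : IsPGroup 2 (G ⧸ N)) (φ : Cfsg.IrrCharacter ↥N) (hdef : 2 ^ (Nat.card ↥N).factorization 2 ∣ Cfsg.charDegree (φ : ↥N → ℂ)) (hconj : ∃ g : G, ∀ n n' : ↥N, (n' : G) = g * (n : G) * g⁻¹ → (φ : ↥N → ℂ) n' = (starRingEnd ℂ) ((φ : ↥N → ℂ) n)) : ∃ χ : Cfsg.IrrCharacter G, (Nat.card G : ℂ)⁻¹ * ∑ᶠ g : G, (χ : G → ℂ) (g * g) = 1 ∧ (Nat.card ↥N : ℂ)⁻¹ * ∑ᶠ n : ↥N, (χ : G → ℂ) n * (starRingEnd ℂ) ((φ : ↥N → ℂ) n) = 1 := by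
  classical
  have := Fintype.ofFinite G
  have := Fintype.ofFinite N
  obtain ⟨χ, h1, h2'⟩ := exists_strongly_real h2 φ hdef (by
    obtain ⟨g, hg⟩ := hconj
    exact ⟨g, funext fun n => hg n _ rfl⟩)
  refine ⟨χ, ?_, ?_⟩
  · rw [finsum_eq_sum_of_fintype]; exact h1
  · rw [finsum_eq_sum_of_fintype, ← CfsgLib.Char.classInner_def]; exact h2'

end Cfsg.Agent.S4872
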