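import Cfsg.Statements.S4873
import Cfsg.Agent.Lib.CharBlocks.RealOddIndex

set_option autoImplicit false
open Cfsg

namespace Cfsg.Agent.S4873

open CfsgLib.CharBlocks CfsgLib.CharBlocks.RealOddIndex CfsgLib.Char
open scoped ComplexConjugate

/-- Let N be a normal subgroup of odd index in the finite group G. Then every irreducible complex character of N with Frobenius–Schur indicator +1 lies under exactly one irreducible character of G with Frobenius–Schur indicator +1. -/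
theorem result {G : Type*} [Group G] [Finite G] (N : Subgroup G) [N.Normal] (hodd : Odd N.index) (φ : Cfsg.IrrCharacter ↥N) (hφ : (Nat.card ↥N : ℂ)⁻¹ * ∑ᶠ g : ↥N, (φ : ↥N → ℂ) (g * g) = 1) : ∃! χ : Cfsg.IrrCharacter G, (Nat.card G : ℂ)⁻¹ * ∑ᶠ g : G, (χ : G → ℂ) (g * g) = 1 ∧ (∑ᶠ n : ↥N, (χ : G → ℂ) n * (starRingEnd ℂ) ((φ : ↥N → ℂ) n)) ≠ 0 := by
  classical
  have := Fintype.ofFinite G
  have := Fintype.ofFinite N
  simp only [finsum_eq_sum_of_fintype] at hφ ⊢
  have hφ1 : fsInd (φ : N → ℂ) = 1 := hφ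
  have hφr : irrConj φ = φ := Subtype.ext (funext ((fsInd_ne_zero_iff φ.2).mp (by rw [hφ1]; exact one_ne_zero)))
  have hmiff : ∀ χ : IrrCharacter G, (∑ n : N, (χ : G → ℂ) n * conj ((φ : N → ℂ) n)) ≠ 0 ↔
      classInner (fun n : N => (χ : G → ℂ) n) (φ : N → ℂ) ≠ 0 := fun χ => by
    rw [classInner_def, mul_ne_zero_iff]
    exact ⟨fun h => ⟨inv_ne_zero card_ne_zero', h⟩, And.right⟩
  have hreal : ∀ χ : IrrCharacter G, fsInd (χ : G → ℂ) ≠ 0 → irrConj χ = χ := fun χ h =>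
    Subtype.ext (funext ((fsInd_ne_zero_iff χ.2).mp h))
  have hsum := sum_fsInd_mul_classInner N hodd φ
  rw [hφ1] at hsum
  obtain ⟨χ₀, -, h0⟩ : ∃ χ₀ ∈ (Finset.univ : Finset (IrrCharacter G)), fsInd (χ₀ : G → ℂ) *
      classInner (fun n : N => (χ₀ : G → ℂ) n) (φ : N → ℂ) ≠ 0 :=
    Finset.exists_ne_zero_of_sum_ne_zero (by rw [hsum]; exact one_ne_zero)
  rw [Finset.sum_eq_single χ₀ (fun χ _ hne => by
    by_contra h
    exact hne (unique_real_over N hodd φ hφr (hreal χ (left_ne_zero_of_mul h))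
      (hreal χ₀ (left_ne_zero_of_mul h0)) (right_ne_zero_of_mul h) (right_ne_zero_of_mul h0))) (by simp)] at hsum
  refine ⟨χ₀, ⟨?_, (hmiff χ₀).mpr (right_ne_zero_of_mul h0)⟩, ?_⟩
  · show fsInd (χ₀ : G → ℂ) = 1
    obtain ⟨m, hm⟩ := classInner_char_nat (isCharacter_res N (isCharacter_of_isIrr χ₀.2))
      (isCharacter_of_isIrr φ.2)
    rcases fsInd_cases χ₀.2 with ⟨-, e | e⟩ | ⟨-, e⟩
    · exact e
    · rw [e, hm] at hsum
      have h := congrArg Complex.re hsum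
      simp at h
      have h' : (0 : ℝ) ≤ m := Nat.cast_nonneg m
      linarith
    · rw [e] at h0; simp at h0
  · rintro χ ⟨hν, hne⟩
    have hν' : fsInd (χ : G → ℂ) = 1 := hν
    exact unique_real_over N hodd φ hφr (hreal χ (by rw [hν']; exact one_ne_zero))
      (hreal χ₀ (left_ne_zero_of_mul h0)) ((hmiff χ).mp hne) (right_ne_zero_of_mul h0)

end Cfsg.Agent.S4873
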