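import Cfsg.Statements.S4888
import Cfsg.Agent.Lib.Blocks.Covering
import Cfsg.Agent.Lib.Blocks.PrincipalSection
import Cfsg.Agent.Lib.Blocks.Nilpotent
import Cfsg.Agent.Lib.Blocks.Orth
import Cfsg.Agent.Lib.Char.Extension
import Cfsg.Agent.Lib.Transfer.Basic
import Cfsg.Agent.Lib.CharBlocks.Degree
import Mathlib

set_option autoImplicit false
open Cfsg

namespace Cfsg.Agent.S4888

open CfsgLib.Char CfsgLib.CharNormal CfsgLib.Blocks Subgroup
open scoped ComplexConjugate

section

variable {M : Ideal AlgInt} [M.IsMaximal]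

omit [M.IsMaximal] in
theorem memLocalIdeal_int_mul {r z : ℂ} (hr : IsIntegral ℤ r) (hz : MemLocalIdeal M z) :
    MemLocalIdeal M (r * z) := by
  obtain ⟨a, b, ha, hb, rfl⟩ := hz
  exact ⟨⟨r, hr⟩ * a, b, M.mul_mem_left _ ha, hb, by push_cast; rw [mul_div_assoc]⟩

theorem memLocalIdeal_add {y z : ℂ} (hy : MemLocalIdeal M y) (hz : MemLocalIdeal M z) :
    MemLocalIdeal M (y + z) := by
  obtain ⟨a, b, ha, hb, rfl⟩ := hy
  obtain ⟨a', b', ha', hb', rfl⟩ := hz
  have hb0 : (b : ℂ) ≠ 0 := fun e => hb ((Subtype.ext e : b = 0) ▸ M.zero_mem)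
  have hb0' : (b' : ℂ) ≠ 0 := fun e => hb' ((Subtype.ext e : b' = 0) ▸ M.zero_mem)
  refine ⟨a * b' + b * a', b * b', M.add_mem (M.mul_mem_right _ ha) (M.mul_mem_left _ ha'),
    fun h => ((Ideal.IsMaximal.isPrime ‹_›).mem_or_mem h).elim hb hb', ?_⟩
  push_cast
  exact (div_add_div _ _ hb0 hb0').symm

end

variable {G : Type*} [Group G] [Fintype G] {p : ℕ} [hp : Fact p.Prime] {M : Ideal AlgInt}
  [M.IsMaximal]

omit hp [M.IsMaximal] in
theorem charDegree_irrOne : charDegree ((irrOne : IrrCharacter G) : G → ℂ) = 1 :=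
  CfsgLib.CharBlocks.charDegree_eq (by simp [irrOne_apply])

theorem blockHeight_eq_zero_iff (χ : IrrCharacter G) :
    blockHeight p (principalBlock M G) (χ : G → ℂ) = 0 ↔ ¬ p ∣ charDegree (χ : G → ℂ) := by
  have h : sInf ((fun ψ : IrrCharacter G => (charDegree (ψ : G → ℂ)).factorization p) ''
      principalBlock M G) = 0 := by
    refine Nat.sInf_eq_zero.mpr (Or.inl ⟨irrOne, irrOne_mem_principalBlock, ?_⟩)
    simp [charDegree_irrOne]
  rw [blockHeight, h, Nat.sub_zero, Nat.factorization_eq_zero_iff]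
  refine ⟨fun h => ?_, fun h => Or.inr (Or.inl h)⟩
  rcases h with h | h | h
  · exact absurd hp.out h
  · exact h
  · exact absurd h (CfsgLib.CharBlocks.charDegree_pos χ.2).ne'

theorem exists_degree_one (hM : IsPModular p M) (h : HasNormalPComplement p G) :
    ∃ d : ℕ, ∀ χ : IrrCharacter G, χ ∈ principalBlock M G →
      blockHeight p (principalBlock M G) (χ : G → ℂ) = 0 → charDegree (χ : G → ℂ) = d := by
  classical
  obtain ⟨K, hK, hc, k, hk⟩ := CfsgLib.Transfer.hasNormalPComplement_iff.mp h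
  refine ⟨1, fun χ hχ h0 => ?_⟩
  rw [blockHeight_eq_zero_iff] at h0
  have := Fintype.ofFinite K
  have := Fintype.ofFinite (G ⧸ K)
  have hcop : ¬ p ∣ Nat.card K := CfsgLib.Transfer.not_dvd_of_coprime hc
  have hker := trivialOn_of_sameBlock (N := K) hM hcop (χ := irrOne) (ψ := χ)
    (by rw [principalBlock_eq] at hχ; exact hχ) (fun n _ => by simp [irrOne_apply])
  obtain ⟨ψ, hψ, he⟩ := exists_irr_eq_comp_mk' K χ.2 hker
  have hd : ψ 1 = (charDegree (χ : G → ℂ) : ℂ) := by
    rw [CfsgLib.CharBlocks.coe_charDegree_irr, ← he]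
    rfl
  have hdvd := degree_dvd_card hψ hd
  rw [← Subgroup.index_eq_card, hk] at hdvd
  obtain ⟨i, -, hi⟩ := (Nat.dvd_prime_pow hp.out).mp hdvd
  rcases Nat.eq_zero_or_pos i with h | h
  · rw [hi, h, pow_zero]
  · exact absurd (hi ▸ dvd_pow_self p h.ne') h0

/-- A linear character of `O^p(G)` has order prime to `p`. -/
theorem not_dvd_orderOf_hom (f : ↥(pResidual p G) →* ℂˣ) : ¬ p ∣ orderOf f := by
  intro h
  have hfin : IsOfFinOrder f := isOfFinOrder_iff_pow_eq_one.mpr ⟨Nat.card ↥(pResidual p G),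
    Nat.card_pos, MonoidHom.ext fun x => by
      rw [MonoidHom.pow_apply, ← map_pow, pow_card_eq_one', map_one]; rfl⟩
  obtain ⟨m, hm⟩ := h
  have hA : IsPGroup p (f ^ m).range := by
    rintro ⟨y, x, hx⟩
    refine ⟨1, Subtype.ext ?_⟩
    show y ^ p ^ 1 = 1
    rw [← hx, pow_one, MonoidHom.pow_apply, ← pow_mul, mul_comm, ← hm, ← MonoidHom.pow_apply,
      pow_orderOf_eq_one]
    rfl
  have h1 : ∀ x, f x ^ m = 1 := fun x => by
    have h := congrArg Subtype.val (CfsgLib.Transfer.hom_pResidual_eq_one hA (f ^ m).rangeRestrict x)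
    rw [← MonoidHom.pow_apply]
    exact h
  have h2 := Nat.le_of_dvd (by
    rcases Nat.eq_zero_or_pos m with e | e
    · exact absurd (hm.trans (by rw [e, mul_zero])) hfin.orderOf_pos.ne'
    · exact e) (orderOf_dvd_of_pow_eq_one (x := f) (n := m)
      (MonoidHom.ext fun x => (MonoidHom.pow_apply f m x).trans (h1 x)))
  have h3 := hfin.orderOf_pos
  have := hp.out.two_le
  nlinarith

theorem sameBlock_mul {N : Type*} [Group N] [Fintype N] {a b : N →* ℂˣ}
    (ha : SameBlock M (fun _ => (1 : ℂ)) (linFun a)) (hb : SameBlock M (fun _ => (1 : ℂ)) (linFun b)) :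
    SameBlock M (fun _ => (1 : ℂ)) (linFun (a * b)) := by
  intro g
  have e : centralChar (fun _ : N => (1 : ℂ)) g - centralChar (linFun (a * b)) g =
      linFun a g * (centralChar (fun _ : N => (1 : ℂ)) g - centralChar (linFun b) g) +
        (centralChar (fun _ : N => (1 : ℂ)) g - centralChar (linFun a) g) := by
    simp only [centralChar, linFun_apply, MonoidHom.mul_apply, map_one, Units.val_mul, Units.val_one]
    ring
  rw [e]
  exact memLocalIdeal_add (memLocalIdeal_int_mul (char_isIntegral (isCharacter_linFun a).1 g) (hb g))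
    (ha g)

theorem index_dvd_index (N : Subgroup G) [N.Normal] (n : ↥N) :
    (centralizer ({n} : Set ↥N)).index ∣ (centralizer ({(n : G)} : Set G)).index := by
  have e : centralizer ({n} : Set ↥N) = (centralizer ({(n : G)} : Set G)).subgroupOf N := by
    ext x
    simp [mem_centralizer_singleton_iff, mem_subgroupOf, Subtype.ext_iff]
  rw [e]
  show (centralizer ({(n : G)} : Set G)).relIndex N ∣ _
  obtain ⟨C, hC⟩ : ∃ C : Subgroup G, C = centralizer ({(n : G)} : Set G) := ⟨_, rfl⟩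
  rw [← hC]
  have e0 : C.relIndex N = C.relIndex (C ⊔ N) := by
    have e1 := relIndex_mul_relIndex (C ⊓ N) N (C ⊔ N) inf_le_right le_sup_right
    have e2 := relIndex_mul_relIndex (C ⊓ N) C (C ⊔ N) inf_le_left le_sup_left
    rw [inf_relIndex_right, relIndex_sup_right] at e1
    rw [inf_relIndex_left, ← e1, mul_comm (C.relIndex N)] at e2
    exact (Nat.eq_of_mul_eq_mul_left (Nat.pos_of_ne_zero (index_ne_zero_of_finite : (N.subgroupOf C).index ≠ 0)) e2).symm
  rw [e0]
  exact Dvd.intro _ (relIndex_mul_index le_sup_left)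

theorem main (hM : IsPModular p M) (d : ℕ) (hd : ∀ χ : IrrCharacter G, χ ∈ principalBlock M G →
    blockHeight p (principalBlock M G) (χ : G → ℂ) = 0 → charDegree (χ : G → ℂ) = d) :
    HasNormalPComplement p G := by
  classical
  have hd1 : d = 1 := by
    rw [← hd irrOne irrOne_mem_principalBlock ((blockHeight_eq_zero_iff _).mpr (by
      rw [CfsgLib.CharBlocks.charDegree_eq (n := 1) (by simp [irrOne_apply])]
      exact hp.out.not_dvd_one))]
    exact CfsgLib.CharBlocks.charDegree_eq (by simp [irrOne_apply])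
  subst hd1
  by_contra hnc
  rw [CfsgLib.Transfer.hasNormalPComplement_iff_pResidual] at hnc
  obtain ⟨H, hH⟩ : ∃ H : Subgroup G, H = pResidual p G := ⟨_, rfl⟩
  have : H.Normal := hH ▸ CfsgLib.Transfer.pResidual_normal_inst
  have := Fintype.ofFinite ↥H
  have hpH : p ∣ Nat.card ↥H := by
    by_contra h
    exact hnc (hH ▸ CfsgLib.Transfer.coprime_of_not_dvd h)
  obtain ⟨k, hk⟩ : ∃ k, H.index = p ^ k := hH ▸ CfsgLib.Transfer.index_pResidual
  obtain ⟨P⟩ : Nonempty (Sylow p G) := inferInstance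
  have hHP : H ⊔ (P : Subgroup G) = ⊤ := hH ▸ CfsgLib.Transfer.pResidual_sup_sylow P
  have hlin : ∀ f : ↥H →* ℂˣ, ¬ p ∣ orderOf f := by
    subst hH
    exact not_dvd_orderOf_hom
  let B : Set (IrrCharacter ↥H) := principalBlock M ↥H
  have hB : IsPBlock M B := isPBlock_principalBlock
  have hstab : ∀ (g : G) (θ : IrrCharacter ↥H), θ ∈ B → conjIrr H g θ ∈ B := by
    intro g θ hθ
    have h := sameBlock_conjFun (N := H) hθ g
    exact h
  letI : MulAction ↥(P : Subgroup G) ↥B :=
    { smul := fun x θ => ⟨conjIrr H (x : G)⁻¹ θ.1, hstab _ _ θ.2⟩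
      one_smul := fun θ => Subtype.ext (Subtype.ext (by
        show conjFun H ((1 : ↥(P : Subgroup G)) : G)⁻¹ (θ.1 : ↥H → ℂ) = _
        rw [OneMemClass.coe_one, inv_one, conjFun_one]))
      mul_smul := fun x y θ => Subtype.ext (Subtype.ext (by
        show conjFun H ((x * y : ↥(P : Subgroup G)) : G)⁻¹ (θ.1 : ↥H → ℂ) =
          conjFun H (x : G)⁻¹ (conjFun H (y : G)⁻¹ (θ.1 : ↥H → ℂ))
        rw [conjFun_conjFun, Subgroup.coe_mul, mul_inv_rev])) }
  have hcoe : ∀ (x : ↥(P : Subgroup G)) (θ : ↥B),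
      ((x • θ : ↥B).1 : ↥H → ℂ) = conjFun H (x : G)⁻¹ (θ.1 : ↥H → ℂ) := fun _ _ => rfl
  let f : ↥B → ZMod p := fun θ => ((charDegree (θ.1 : ↥H → ℂ) : ℕ) : ZMod p) ^ 2
  have hf : ∀ (x : ↥(P : Subgroup G)) (θ : ↥B), f (x • θ) = f θ := by
    intro x θ
    simp only [f, charDegree, hcoe, conjFun_apply_one]
  -- the squared degrees of the principal block of `H` sum to zero modulo `p`
  have htot : ∑ θ : ↥B, f θ = 0 := by
    obtain ⟨R⟩ : Nonempty (Sylow p ↥H) := inferInstance
    have := Fintype.ofFinite ↥(R : Subgroup ↥H)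
    have hch : ∀ θ : IrrCharacter ↥H, ∃ m : ℕ,
        Cfsg.classInner (fun u : ↥(R : Subgroup ↥H) => (θ : ↥H → ℂ) u) (fun _ => (1 : ℂ)) = m :=
      fun θ => classInner_char_nat (isCharacter_res _ (isCharacter_of_isIrr θ.2)) isCharacter_one
    choose m hm using hch
    have h1 : ∑ θ : ↥B, ((charDegree (θ.1 : ↥H → ℂ) : ℂ)) ^ 2 =
        (Nat.card ↥(R : Subgroup ↥H) : ℂ) *
          ∑ θ : ↥B, (charDegree (θ.1 : ↥H → ℂ) : ℂ) * m θ.1 := by
      have e : ∀ θ : ↥B, (Nat.card ↥(R : Subgroup ↥H) : ℂ) *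
          ((charDegree (θ.1 : ↥H → ℂ) : ℂ) * m θ.1) =
          ∑ u : ↥(R : Subgroup ↥H), (θ.1 : ↥H → ℂ) 1 * (θ.1 : ↥H → ℂ) u := by
        intro θ
        rw [← hm, mul_left_comm, card_mul_classInner, Finset.mul_sum,
          CfsgLib.CharBlocks.coe_charDegree_irr]
        simp
      have hz : ∀ u : ↥(R : Subgroup ↥H), u ≠ 1 →
          ∑ θ : ↥B, (θ.1 : ↥H → ℂ) 1 * (θ.1 : ↥H → ℂ) u = 0 := by
        intro u hu
        have hord : p ∣ orderOf ((u : ↥H)⁻¹) := by
          obtain ⟨j, hj⟩ := IsPGroup.iff_orderOf.1 R.2 u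
          rw [orderOf_inv, Subgroup.orderOf_coe, hj]
          refine dvd_pow_self p fun e => hu ?_
          rw [e, pow_zero, orderOf_eq_one_iff] at hj
          exact hj
        have hw := weak_orthogonality hM hB (x := (1 : ↥H))
          (by rw [orderOf_one]; exact hp.out.not_dvd_one) hord
        rw [← Finset.sum_filter] at hw
        rw [← Finset.sum_subtype (Finset.univ.filter fun η => η ∈ B) (fun η => by simp)
          (fun η : IrrCharacter ↥H => (η : ↥H → ℂ) 1 * (η : ↥H → ℂ) u)]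
        rw [← hw]
        refine Finset.sum_congr rfl fun η _ => ?_
        rw [char_inv (isCharacter_of_isIrr η.2), Complex.conj_conj]
      rw [Finset.mul_sum, Finset.sum_congr rfl fun θ _ => e θ, Finset.sum_comm,
        Fintype.sum_eq_single (1 : ↥(R : Subgroup ↥H)) hz]
      refine Finset.sum_congr rfl fun θ _ => ?_
      rw [CfsgLib.CharBlocks.coe_charDegree_irr, OneMemClass.coe_one, sq]
    have h2 : ∑ θ : ↥B, charDegree (θ.1 : ↥H → ℂ) ^ 2 =
        Nat.card ↥(R : Subgroup ↥H) * ∑ θ : ↥B, charDegree (θ.1 : ↥H → ℂ) * m θ.1 := by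
      exact_mod_cast h1
    have h3 : p ∣ Nat.card ↥(R : Subgroup ↥H) := by
      rw [R.card_eq_multiplicity]
      exact dvd_pow_self p (hp.out.factorization_pos_of_dvd Nat.card_pos.ne' hpH).ne'
    have h4 := congrArg (fun n : ℕ => (n : ZMod p)) h2
    simp only [Nat.cast_sum, Nat.cast_mul, Nat.cast_pow] at h4
    rw [(ZMod.natCast_eq_zero_iff _ _).mpr h3, zero_mul] at h4
    exact h4
  rw [sum_eq_sum_fixedPoints P.2 f hf] at htot
  -- the invariant linear characters in the block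
  let Λ : Submonoid (↥H →* ℂˣ) :=
    { carrier := {a | (∀ g : G, conjFun H g (linFun a) = linFun a) ∧
        SameBlock M (fun _ => (1 : ℂ)) (linFun a)}
      one_mem' := by
        have e : linFun (1 : ↥H →* ℂˣ) = fun _ => (1 : ℂ) := funext fun _ => rfl
        exact ⟨fun g => by rw [e]; rfl, by rw [e]; exact sameBlock_refl (irrOne : IrrCharacter ↥H)⟩
      mul_mem' := fun {a b} ha hb => ⟨fun g => funext fun n => by
          show linFun a _ * linFun b _ = linFun a n * linFun b n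
          rw [← congrFun (ha.1 g) n, ← congrFun (hb.1 g) n]
          rfl, sameBlock_mul ha.2 hb.2⟩ }
  have hLinFin : Finite (↥H →* ℂˣ) :=
    Finite.of_injective (fun a => (⟨linFun a, isIrrCharacter_units_hom a⟩ : IrrCharacter ↥H))
      fun a b h => linFun_injective (congrArg Subtype.val h)
  let Γ : Subgroup (↥H →* ℂˣ) :=
    { Λ with
      inv_mem' := fun {a} ha => by
        obtain ⟨n, hn, hpow⟩ := isOfFinOrder_iff_pow_eq_one.mp (isOfFinOrder_of_finite a)
        have hx : ∀ x, a x ^ n = 1 := fun x =>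
          (MonoidHom.pow_apply a n x).symm.trans (DFunLike.congr_fun hpow x)
        have e : a⁻¹ = a ^ (n - 1) := MonoidHom.ext fun x => by
          rw [MonoidHom.inv_apply, MonoidHom.pow_apply]
          exact inv_eq_of_mul_eq_one_right (by rw [← pow_succ', Nat.sub_add_cancel hn, hx])
        show a⁻¹ ∈ Λ
        rw [e]
        exact Λ.pow_mem ha (n - 1) }
  have hΓ : ¬ p ∣ Nat.card Γ := by
    intro h
    obtain ⟨a, ha⟩ := exists_prime_orderOf_dvd_card' p h
    rw [← Subgroup.orderOf_coe] at ha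
    exact hlin a (ha.symm ▸ dvd_rfl)
  -- fixed characters of degree prime to `p` are linear
  have hinvG : ∀ θ : ↥B, θ ∈ MulAction.fixedPoints ↥(P : Subgroup G) ↥B →
      ∀ g : G, conjFun H g (θ.1 : ↥H → ℂ) = (θ.1 : ↥H → ℂ) := by
    intro θ hθ g
    have hg : g ∈ ((H ⊔ (P : Subgroup G) : Subgroup G) : Set G) := by rw [hHP]; exact mem_top g
    rw [Subgroup.normal_mul] at hg
    obtain ⟨a, ha, u, hu, rfl⟩ := hg
    rw [← conjFun_conjFun, conjFun_of_mem H (isClassFunction_of_isIrr θ.1.2) ha]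
    have h := congrArg (fun q : ↥B => (q.1 : ↥H → ℂ)) (hθ (⟨u, hu⟩⁻¹ : ↥(P : Subgroup G)))
    simp only [hcoe, Subgroup.coe_inv, inv_inv] at h
    exact h
  have hfix : ∀ θ : ↥B, θ ∈ MulAction.fixedPoints ↥(P : Subgroup G) ↥B →
      ¬ p ∣ charDegree (θ.1 : ↥H → ℂ) → charDegree (θ.1 : ↥H → ℂ) = 1 := by
    intro θ hθ hpd
    have hinv := fun g n => congrFun (hinvG θ hθ g) n
    have hθc := isCharacter_of_isIrr θ.1.2
    obtain ⟨μ, hμd, hμ1⟩ : ∃ μ : ↥H →* ℂˣ, linFun μ = Cfsg.detChar (θ.1 : ↥H → ℂ) ∧ linFun μ 1 = 1 := by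
      obtain ⟨n, ρ, -, hρ⟩ := θ.1.2
      exact ⟨detHom ρ, by rw [← hρ]; exact funext fun x => (detChar_eq ρ x).symm,
        by simp [linFun_apply]⟩
    obtain ⟨e, ⟨he, -⟩, -⟩ := canonical_linear_extension H (lam := Cfsg.detChar (θ.1 : ↥H → ℂ))
      (by rw [← hμd]; exact isCharacter_linFun μ)
      (det_invariant H hθc hinv) (by
        rw [← hμd, orderOf_linFun, hk]
        exact (hp.out.coprime_iff_not_dvd.mpr (hlin μ)).pow_left k)
    obtain ⟨χ, hχ, hχθ⟩ := (extend_iff_det H θ.1.2 hinv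
      (d := charDegree (θ.1 : ↥H → ℂ)) (CfsgLib.CharBlocks.coe_charDegree_irr θ.1).symm (by
        rw [hk]; exact (hp.out.coprime_iff_not_dvd.mpr hpd).pow_left k)).mpr
      ⟨linFun e, (isCharacter_linFun e).1, (isCharacter_linFun e).2, he⟩
    have hdeg : charDegree χ = charDegree (θ.1 : ↥H → ℂ) := by
      rw [charDegree, charDegree, ← hχθ 1, OneMemClass.coe_one]
    rw [← hdeg]
    refine hd ⟨χ, hχ⟩ ?_ ((blockHeight_eq_zero_iff _).mpr (hdeg ▸ hpd))
    rw [principalBlock_eq]
    refine sameBlock_of_congr_on_normal (N := H) hM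
      (fun g hg => mem_of_index_pow hp.out ⟨k, hk⟩ hg) fun n => ?_
    obtain ⟨r, hr⟩ := index_dvd_index H n
    have hB' := θ.2 n
    show MemLocalIdeal M (centralChar (fun _ : G => (1 : ℂ)) (n : G) - centralChar χ (n : G))
    rw [show centralChar (fun _ : G => (1 : ℂ)) (n : G) - centralChar χ (n : G) =
      (r : ℂ) * (centralChar (fun _ : ↥H => (1 : ℂ)) n - centralChar (θ.1 : ↥H → ℂ) n) by
        rw [centralChar, centralChar, centralChar, centralChar, hχθ n, hr,
          show χ 1 = (θ.1 : ↥H → ℂ) 1 by rw [← hχθ 1, OneMemClass.coe_one]]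
        push_cast
        ring]
    exact memLocalIdeal_int_mul (CfsgLib.CharBlocks.isIntegral_natCast r) hB'
  have hcount : ∑ θ ∈ Finset.univ.filter (· ∈ MulAction.fixedPoints ↥(P : Subgroup G) ↥B), f θ =
      (Nat.card Γ : ZMod p) := by
    have e : ∀ θ ∈ Finset.univ.filter (· ∈ MulAction.fixedPoints ↥(P : Subgroup G) ↥B),
        f θ = if charDegree (θ.1 : ↥H → ℂ) = 1 then 1 else 0 := by
      intro θ hθ
      split_ifs with h
      · simp [f, h]
      · have : p ∣ charDegree (θ.1 : ↥H → ℂ) := by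
          by_contra hpd
          exact h (hfix θ (Finset.mem_filter.mp hθ).2 hpd)
        simp [f, (ZMod.natCast_eq_zero_iff _ _).mpr this]
    rw [Finset.sum_congr rfl e, ← Finset.sum_filter, Finset.sum_const, nsmul_one, Finset.filter_filter,
      ← Fintype.card_subtype, ← Nat.card_eq_fintype_card]
    congr 1
    symm
    refine Nat.card_congr (Equiv.ofBijective (fun a => ⟨⟨⟨linFun a.1, isIrrCharacter_units_hom a.1⟩,
        a.2.2⟩, fun x => Subtype.ext (Subtype.ext (a.2.1 _)),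
        CfsgLib.CharBlocks.charDegree_eq (by simp [linFun_apply])⟩) ⟨?_, ?_⟩)
    · intro a b h
      exact Subtype.ext (linFun_injective
        (congrArg (fun q => ((Subtype.val q : ↥B).1 : ↥H → ℂ)) h))
    · rintro ⟨θ, hθ, h1⟩
      obtain ⟨a, ha⟩ := exists_linHom (isCharacter_of_isIrr θ.1.2) (by
        rw [← CfsgLib.CharBlocks.coe_charDegree_irr, h1, Nat.cast_one])
      exact ⟨⟨a, fun g => by rw [ha]; exact hinvG θ hθ g, by rw [ha]; exact θ.2⟩,
        Subtype.ext (Subtype.ext (Subtype.ext ha))⟩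
  rw [hcount, ZMod.natCast_eq_zero_iff] at htot
  exact hΓ htot

/-- Let G be a finite group, p a prime and M a maximal ideal of the algebraic integers containing p. Then all height-zero irreducible characters of the principal p-block of G (equivalently, all its characters of degree prime to p) have the same degree if and only if G has a normal p-complement. -/
theorem result {G : Type*} [Group G] [Finite G] (p : ℕ) [Fact p.Prime] (M : Ideal Cfsg.AlgInt) (hM : Cfsg.IsPModular p M) : (∃ d : ℕ, ∀ χ : Cfsg.IrrCharacter G, χ ∈ (Cfsg.principalBlock M G) → Cfsg.blockHeight p (Cfsg.principalBlock M G) (χ : G → ℂ) = 0 → Cfsg.charDegree (χ : G → ℂ) = d) ↔ Cfsg.HasNormalPComplement p G := by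
  classical
  have := Fintype.ofFinite G
  have := hM.2.1
  exact ⟨fun ⟨d, hd⟩ => main hM d hd, exists_degree_one hM⟩

end Cfsg.Agent.S4888
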