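import Cfsg.Statements.S4911
import Cfsg.Agent.Lib.CharNormal.InvariantCount
import Cfsg.Agent.Lib.CharNormal.ConjAut
import Cfsg.Agent.Lib.Char.PermLemma

set_option autoImplicit false
open Cfsg

namespace Cfsg.Agent.S4911

open CfsgLib.Char CfsgLib.CharNormal
open scoped ComplexConjugate

/-- Let P and K be subgroups of a finite group with P a p-group normalizing K and K of order prime to p. Then the number of P-invariant real-valued irreducible complex characters of K equals the number of conjugacy classes of K that are real (closed under inversion) and P-invariant. Moreover, if every real-valued irreducible character of K is P-invariant, then every real element of K (one conjugate in K to its inverse) is conjugate in K to an element centralized by P. -/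
theorem result {G : Type*} [Group G] [Finite G] (p : ℕ) [Fact p.Prime] (P K : Subgroup G) (hP : IsPGroup p ↥P) (hK : ¬ p ∣ Nat.card ↥K) (hPK : P ≤ Subgroup.normalizer (K : Set G)) : Nat.card {θ : Cfsg.IrrCharacter ↥K // (∀ k : ↥K, ((θ : ↥K → ℂ) k).im = 0) ∧ (∀ x ∈ P, ∀ k k' : ↥K, (k' : G) = x * (k : G) * x⁻¹ → (θ : ↥K → ℂ) k' = (θ : ↥K → ℂ) k)} = Nat.card {c : ConjClasses ↥K // (∀ k : ↥K, ConjClasses.mk k = c → IsConj k k⁻¹) ∧ ∀ k : ↥K, ConjClasses.mk k = c → ∀ x ∈ P, ∀ k' : ↥K, (k' : G) = x * (k : G) * x⁻¹ → ConjClasses.mk k' = c} ∧ ((∀ θ : Cfsg.IrrCharacter ↥K, (∀ k : ↥K, ((θ : ↥K → ℂ) k).im = 0) → (∀ x ∈ P, ∀ k k' : ↥K, (k' : G) = x * (k : G) * x⁻¹ → (θ : ↥K → ℂ) k' = (θ : ↥K → ℂ) k)) → ∀ k : ↥K, IsConj k k⁻¹ → ∃ k' : ↥K, IsConj k k' ∧ ∀ x ∈ P, x * (k' : G) * x⁻¹ = (k' : G)) := by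
  classical
  have := Fintype.ofFinite ↥K
  have hnorm : ∀ s ∈ P, ∀ g ∈ K, s * g * s⁻¹ ∈ K := fun s hs g hg =>
    (Subgroup.mem_set_normalizer_iff.mp (hPK hs) g).mp hg
  set φ := conjAut K P hnorm with hφdef
  set T : Subgroup P := ⊤ with hT
  have hTp : IsPGroup p T := hP.to_subgroup ⊤
  have := Fintype.ofFinite (fixedBy φ T)
  let ι := (fixedBy φ T).subtype
  have hι : Function.Injective ι := Subtype.val_injective
  have hfix := fixedBy_range φ T
  have hinvT : ∀ {χ : IrrCharacter K}, IsInvariant φ χ ↔ IsInvariant (φ.comp T.subtype) χ :=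
    fun {χ} => ⟨fun h t g => h t g, fun h s g => h ⟨s, Subgroup.mem_top s⟩ g⟩
  have hinv : ∀ θ : IrrCharacter K, (∀ x ∈ P, ∀ k k' : K, (k' : G) = x * (k : G) * x⁻¹ →
      (θ : K → ℂ) k' = (θ : K → ℂ) k) ↔ IsInvariant φ θ := fun θ =>
    (forall_conjAut_iff K P hnorm (θ : K → ℂ)).symm
  have hcls : ∀ c : ConjClasses K, (∀ k : K, ConjClasses.mk k = c → ∀ x ∈ P, ∀ k' : K,
      (k' : G) = x * (k : G) * x⁻¹ → ConjClasses.mk k' = c) ↔ IsInvariantClass φ c := fun c =>
    ⟨fun h s k hk => h k hk s s.2 _ rfl, fun h k hk x hx k' hk' => by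
      rw [show k' = φ ⟨x, hx⟩ k from Subtype.ext hk']; exact h ⟨x, hx⟩ k hk⟩
  have hrc : ∀ c : ConjClasses K, (∀ k : K, ConjClasses.mk k = c → IsConj k k⁻¹) ↔ classInv c = c := fun c => by
    obtain ⟨g, rfl⟩ := ConjClasses.mk_surjective c
    rw [classInv_mk, ConjClasses.mk_eq_mk_iff_isConj]
    refine ⟨fun h => (h g rfl).symm, fun h k hk => ?_⟩
    obtain ⟨a, ha⟩ := isConj_iff.mp (ConjClasses.mk_eq_mk_iff_isConj.mp hk)
    have hk' : IsConj k g := isConj_iff.mpr ⟨a, ha⟩
    refine hk'.trans (h.symm.trans ?_)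
    exact (isConj_iff.mpr ⟨a, by rw [← conj_inv, ha]⟩ : IsConj k⁻¹ g⁻¹).symm
  -- characters: to the real characters of the fixed points
  have hmult : ∀ (χ : IrrCharacter K) (β : IrrCharacter (fixedBy φ T)),
      mult ι (irrConj χ) (irrConj β) = mult ι χ β := fun χ β => by
    have h1 := classInner_eq_mult ι (irrConj χ) (irrConj β)
    have h2 := congrArg conj (classInner_eq_mult ι χ β)
    rw [map_natCast] at h2
    have h3 : (mult ι (irrConj χ) (irrConj β) : ℂ) = (mult ι χ β : ℂ) := by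
      rw [← h1, ← h2, classInner_def, classInner_def, map_mul, map_inv₀, map_natCast, map_sum]
      exact congrArg _ (Finset.sum_congr rfl fun c _ => by
        simp only [Function.comp_apply, irrConj_apply, map_mul])
    exact_mod_cast h3
  have hconjinv : ∀ {χ : IrrCharacter K}, IsInvariant φ χ → IsInvariant φ (irrConj χ) := fun h s g => by
    simp only [irrConj_apply]; rw [h s g]
  have hpick : ∀ χ : {χ : IrrCharacter K // irrConj χ = χ ∧ IsInvariant φ χ},
      ∃ β : {β : IrrCharacter (fixedBy φ T) // irrConj β = β}, ¬ p ∣ mult ι χ.1 β.1 := by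
    rintro ⟨χ, hreal, hχ⟩
    obtain ⟨β, hβ⟩ := exists_mult_of_invariant hTp hι hfix hK (hinvT.mp hχ)
    refine ⟨⟨β, mult_unique hTp hι hfix hK (hinvT.mp hχ) ?_ hβ⟩, hβ⟩
    have := hmult χ β
    rw [hreal] at this
    rwa [this]
  choose F hF using hpick
  have e1 : Nat.card {χ : IrrCharacter K // irrConj χ = χ ∧ IsInvariant φ χ} =
      Nat.card {β : IrrCharacter (fixedBy φ T) // irrConj β = β} := by
    refine Nat.card_congr (Equiv.ofBijective F ⟨fun χ χ' h => ?_, fun β => ?_⟩)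
    · exact Subtype.ext (invariant_unique hTp hι hfix hK (hinvT.mp χ.2.2) (hinvT.mp χ'.2.2) (hF χ) (h ▸ hF χ'))
    · obtain ⟨χ, hχ, hd⟩ := exists_invariant_mult hTp hι hfix hK β.1
      have hreal : irrConj χ = χ := invariant_unique hTp hι hfix hK (hinvT.mp (hconjinv (hinvT.mpr hχ))) hχ
        (by rw [← β.2, hmult]; exact hd) hd
      exact ⟨⟨χ, hreal, hinvT.mpr hχ⟩, Subtype.ext (mult_unique hTp hι hfix hK hχ (hF ⟨χ, hreal, hinvT.mpr hχ⟩) hd)⟩
  -- classes
  have hjinv : ∀ x : fixedBy φ T, IsInvariantClass φ (ConjClasses.mk (x : K)) := fun x s g hg => by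
    obtain ⟨a, ha⟩ := isConj_iff.mp (ConjClasses.mk_eq_mk_iff_isConj.mp hg)
    refine ConjClasses.mk_eq_mk_iff_isConj.mpr (isConj_iff.mpr ⟨φ s a, ?_⟩)
    rw [← map_inv, ← map_mul, ← map_mul, ha]
    exact x.2 s (Subgroup.mem_top s)
  have hinj : ∀ x y : fixedBy φ T, ConjClasses.mk (x : K) = ConjClasses.mk (y : K) →
      ConjClasses.mk x = ConjClasses.mk y := fun x y h => by
    obtain ⟨g, hg, he⟩ := fixedBy_conj φ T hTp hK x.2 y.2 (ConjClasses.mk_eq_mk_iff_isConj.mp h)
    exact ConjClasses.mk_eq_mk_iff_isConj.mpr (isConj_iff.mpr ⟨⟨g, hg⟩, Subtype.ext he⟩)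
  have e2 : Nat.card {c : ConjClasses (fixedBy φ T) // classInv c = c} =
      Nat.card {c : ConjClasses K // classInv c = c ∧ IsInvariantClass φ c} := by
    have hmem : ∀ c : ConjClasses (fixedBy φ T), classInv c = c →
        classInv (ConjClasses.map ι c) = ConjClasses.map ι c ∧ IsInvariantClass φ (ConjClasses.map ι c) := by
      intro c hc
      obtain ⟨x, rfl⟩ := ConjClasses.mk_surjective c
      refine ⟨?_, hjinv x⟩
      have h := congrArg (ConjClasses.map ι) hc
      rw [classInv_mk] at h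
      exact h
    refine Nat.card_congr (Equiv.ofBijective (fun c => ⟨_, hmem c.1 c.2⟩) ⟨fun c c' h => ?_, fun c => ?_⟩)
    · obtain ⟨x, hx⟩ := ConjClasses.mk_surjective c.1
      obtain ⟨y, hy⟩ := ConjClasses.mk_surjective c'.1
      have h' : ConjClasses.map ι c.1 = ConjClasses.map ι c'.1 := congrArg Subtype.val h
      rw [← hx, ← hy] at h'
      exact Subtype.ext (by rw [← hx, ← hy]; exact hinj x y h')
    · obtain ⟨x, hx, hxc⟩ := exists_fixed_of_invariantClass φ T hTp hK (K := c.1)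
        (fun s g hg => c.2.2 s g hg)
      refine ⟨⟨ConjClasses.mk ⟨x, hx⟩, ?_⟩, Subtype.ext hxc⟩
      refine hinj ⟨x, hx⟩⁻¹ ⟨x, hx⟩ ?_
      have := c.2.1
      rw [← hxc, classInv_mk] at this
      exact this
  have main : Nat.card {χ : IrrCharacter K // irrConj χ = χ ∧ IsInvariant φ χ} =
      Nat.card {c : ConjClasses K // classInv c = c ∧ IsInvariantClass φ c} := by
    rw [e1, card_real_irr, e2]
  refine ⟨?_, fun hall k hk => ?_⟩
  · rw [Nat.card_congr (Equiv.subtypeEquivRight fun θ => and_congr (irrConj_eq_self_iff θ).symm (hinv θ)),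
      Nat.card_congr (Equiv.subtypeEquivRight fun c => and_congr (hrc c) (hcls c))]
    exact main
  · have e3 : Nat.card {χ : IrrCharacter K // irrConj χ = χ ∧ IsInvariant φ χ} =
        Nat.card {χ : IrrCharacter K // irrConj χ = χ} :=
      Nat.card_congr (Equiv.subtypeEquivRight fun θ =>
        ⟨And.left, fun h => ⟨h, (hinv θ).mp (hall θ ((irrConj_eq_self_iff θ).mp h))⟩⟩)
    rw [main, card_real_irr] at e3
    have hbij := (Nat.bijective_iff_injective_and_card (fun c : {c : ConjClasses K // classInv c = c ∧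
        IsInvariantClass φ c} => (⟨c.1, c.2.1⟩ : {c : ConjClasses K // classInv c = c}))).mpr
      ⟨fun a b h => Subtype.ext (congrArg (fun z => z.1) h), e3⟩
    obtain ⟨⟨c, hc1, hc2⟩, hc⟩ := hbij.2 ⟨ConjClasses.mk k, by
      rw [classInv_mk, ConjClasses.mk_eq_mk_iff_isConj]; exact hk.symm⟩
    have hc' : c = ConjClasses.mk k := congrArg Subtype.val hc
    obtain ⟨x, hx, hxc⟩ := exists_fixed_of_invariantClass φ T hTp hK hc2
    refine ⟨x, (ConjClasses.mk_eq_mk_iff_isConj.mp (hxc.trans hc')).symm, fun s hs => ?_⟩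
    exact congrArg Subtype.val (hx ⟨s, hs⟩ (Subgroup.mem_top _))

end Cfsg.Agent.S4911
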