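import Cfsg.Statements.S4912
import Cfsg.Agent.S4870
import Cfsg.Agent.Lib.Char.RealForms
import Cfsg.Agent.Lib.CharBlocks.Indicator

set_option autoImplicit false
open Cfsg

namespace Cfsg.Agent.S4912

open CfsgLib.Char CfsgLib.CharNormal
open scoped ComplexConjugate Matrix

variable {G : Type*} [Group G] [Fintype G]

/-- The induced matrix representation. -/
theorem exists_induced_rep (I : Subgroup G) [Fintype ↥I] {n : ℕ}
    (R : ↥I →* Matrix (Fin n) (Fin n) ℝ) {θ : ↥I → ℂ} (hθ : IsClassFunction ↥I θ)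
    (hR : ∀ h, ((R h).trace : ℂ) = θ h) :
    ∃ (m : ℕ) (S : G →* Matrix (Fin m) (Fin m) ℝ),
      ∀ g, ((S g).trace : ℂ) = indFun I θ g := by
  classical
  have := Fintype.ofFinite (G ⧸ I)
  let M : G → Matrix (G ⧸ I) (G ⧸ I) (Matrix (Fin n) (Fin n) ℝ) := fun g a b =>
    if h : a.out⁻¹ * g * b.out ∈ I then R ⟨_, h⟩ else 0
  have hmem : ∀ (g : G) (a b : G ⧸ I), a.out⁻¹ * g * b.out ∈ I ↔ g • b = a := by
    intro g a b
    conv_rhs => rw [← QuotientGroup.out_eq' b, ← QuotientGroup.out_eq' a,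
      MulAction.Quotient.smul_mk, smul_eq_mul, eq_comm, QuotientGroup.eq]
    rw [mul_assoc]
  have hM1 : M 1 = 1 := by
    refine Matrix.ext fun a b => ?_
    by_cases hab : a = b
    · subst hab
      rw [Matrix.one_apply_eq]
      show dite _ _ _ = _
      rw [dif_pos ((hmem 1 a a).mpr (one_smul G a))]
      simp only [mul_one, inv_mul_cancel]
      exact map_one R
    · rw [Matrix.one_apply_ne hab]
      show dite _ _ _ = _
      rw [dif_neg fun h => hab (((hmem 1 a b).mp h).symm.trans (one_smul G b))]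
  have hMmul : ∀ g k, M (g * k) = M g * M k := by
    intro g k
    refine Matrix.ext fun a c => ?_
    have hz : ∀ b : G ⧸ I, b ≠ k • c → M k b c = 0 := fun b hb =>
      dif_neg fun h => hb ((hmem k b c).mp h).symm
    rw [Matrix.mul_apply, Finset.sum_eq_single (k • c)
      (fun b _ hb => by rw [hz b hb, mul_zero]) (fun h => absurd (Finset.mem_univ _) h)]
    show dite _ _ _ = dite _ _ _ * dite _ _ _
    have hk := (hmem k (k • c) c).mpr rfl
    rw [dif_pos hk]
    by_cases hg : a.out⁻¹ * g * (k • c).out ∈ I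
    · rw [dif_pos hg, dif_pos ((hmem _ a c).mpr (by rw [mul_smul]; exact (hmem g a _).mp hg)),
        ← map_mul]
      refine congrArg R (Subtype.ext ?_)
      show _ = a.out⁻¹ * g * (k • c).out * ((k • c).out⁻¹ * k * c.out)
      group
    · rw [dif_neg hg, dif_neg, zero_mul]
      intro h
      exact hg ((hmem g a _).mpr (by rw [← mul_smul]; exact (hmem _ a c).mp h))
  let e := Fintype.equivFin ((G ⧸ I) × Fin n)
  let C := Matrix.compRingEquiv (G ⧸ I) (Fin n) ℝ
  let S : G →* Matrix (Fin (Fintype.card ((G ⧸ I) × Fin n)))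
      (Fin (Fintype.card ((G ⧸ I) × Fin n))) ℝ :=
    { toFun := fun g => (Matrix.reindexAlgEquiv ℝ ℝ e) (C (M g))
      map_one' := by rw [hM1, map_one, map_one]
      map_mul' := fun g k => by rw [hMmul, map_mul, map_mul] }
  refine ⟨_, S, fun g => ?_⟩
  have htr : (S g).trace = ∑ a : G ⧸ I, (M g a a).trace := by
    show ∑ i, C (M g) (e.symm i) (e.symm i) = _
    rw [Equiv.sum_comp e.symm (fun x => C (M g) x x), Fintype.sum_prod_type]
    rfl
  have hdiag : ∀ a : G ⧸ I, (((M g a a).trace : ℝ) : ℂ) =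
      extendByZero I θ (a.out⁻¹ * g * a.out) := by
    intro a
    by_cases h : a.out⁻¹ * g * a.out ∈ I
    · rw [show M g a a = R ⟨_, h⟩ from dif_pos h, hR, extendByZero_of_mem θ h]
    · rw [show M g a a = 0 from dif_neg h, extendByZero_of_notMem θ h]
      simp
  let f : (G ⧸ I) × ↥I → G := fun x => x.1.out * x.2
  have hf : Function.Bijective f := by
    refine ⟨fun x y hxy => ?_, fun z => ⟨((z : G ⧸ I), ⟨(z : G ⧸ I).out⁻¹ * z,
      QuotientGroup.eq.mp (QuotientGroup.out_eq' _)⟩), mul_inv_cancel_left _ _⟩⟩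
    have h1 : x.1 = y.1 := by
      have := congrArg (QuotientGroup.mk (s := I)) hxy
      simpa [f, QuotientGroup.mk_mul_of_mem _ x.2.2, QuotientGroup.mk_mul_of_mem _ y.2.2] using this
    refine Prod.ext h1 (Subtype.ext (mul_left_cancel (a := x.1.out) ?_))
    exact hxy.trans (by rw [h1])
  have hsum : ∑ z : G, extendByZero I θ (z⁻¹ * g * z) =
      (Nat.card ↥I : ℂ) * ∑ a : G ⧸ I, extendByZero I θ (a.out⁻¹ * g * a.out) := by
    rw [← hf.sum_comp fun z => extendByZero I θ (z⁻¹ * g * z), Fintype.sum_prod_type,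
      Finset.mul_sum]
    refine Finset.sum_congr rfl fun a _ => ?_
    rw [Finset.sum_congr rfl fun (h : ↥I) _ => show
      extendByZero I θ ((f (a, h))⁻¹ * g * f (a, h)) = extendByZero I θ (a.out⁻¹ * g * a.out) by
        rw [show (f (a, h))⁻¹ * g * f (a, h) =
          ((h : G)⁻¹) * (a.out⁻¹ * g * a.out) * ((h : G)⁻¹)⁻¹ by simp only [f]; group]
        exact extendByZero_conj_mem θ hθ (inv_mem h.2) _,
      Finset.sum_const, Finset.card_univ, nsmul_eq_mul, Nat.card_eq_fintype_card]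
  rw [htr, indFun_apply, hsum, ← mul_assoc, inv_mul_cancel₀ (card_subgroup_ne_zero I), one_mul,
    Complex.ofReal_sum]
  exact Finset.sum_congr rfl fun a _ => hdiag a

/-- An irreducible induced character keeps indicator one. -/
theorem indicator_indFun (I : Subgroup G) [Fintype ↥I] {ψ : ↥I → ℂ} (hψ : IsIrrCharacter ↥I ψ)
    (hν : (Nat.card ↥I : ℂ)⁻¹ * ∑ h : ↥I, ψ (h * h) = 1)
    (hirr : IsIrrCharacter G (indFun I ψ)) :
    (Nat.card G : ℂ)⁻¹ * ∑ g : G, indFun I ψ (g * g) = 1 := by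
  obtain ⟨n, ρ, hρ, rfl⟩ := hψ
  obtain ⟨R, hR⟩ := exists_real_form ρ hν
  obtain ⟨m, S, hS⟩ := exists_induced_rep I R
    (isClassFunction_of_isIrr (isIrrCharacter_char ρ)) hR
  exact indicator_of_real_rep hirr S hS

/-- A linear character of indicator one is trivial on squares. -/
theorem apply_sq_eq_one {l : G → ℂ} (hl : IsCharacter G l) (h1 : l 1 = 1)
    (hν : (Nat.card G : ℂ)⁻¹ * ∑ g : G, l (g * g) = 1) (g : G) : l (g * g) = 1 := by
  have hirr := isIrr_of_linear hl h1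
  have hreal : ∀ x, conj (l x) = l x := by
    rcases CfsgLib.CharBlocks.fsInd_cases hirr with ⟨h, -⟩ | ⟨-, h⟩
    · exact h
    · exact absurd (hν.symm.trans h) one_ne_zero
  rw [linear_map_mul hl h1]
  conv_lhs => arg 2; rw [← hreal g]
  rw [← char_inv hl, ← linear_map_mul hl h1, mul_inv_cancel, h1]

/-- Let G be a finite group with a non-abelian minimal normal subgroup N, and let φ be an irreducible complex character of N with stabilizer I in G such that φ extends to an irreducible character of I with Frobenius–Schur indicator +1. Put d = φ(1)·[G : I]. Then the number of linear characters of G with Frobenius–Schur indicator +1 is at most [G : I] times the number of irreducible characters of G of degree d with Frobenius–Schur indicator +1. -/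
theorem result {G : Type*} [Group G] [Finite G] (N : Subgroup G) (hN : N.Normal) (hN1 : N ≠ ⊥) (hmin : ∀ M : Subgroup G, M.Normal → M ≤ N → M = ⊥ ∨ M = N) (hna : ¬ IsMulCommutative ↥N) (φ : Cfsg.IrrCharacter ↥N) (I : Subgroup G) (hI : ∀ g : G, g ∈ I ↔ ∀ n n' : ↥N, (n' : G) = g * (n : G) * g⁻¹ → (φ : ↥N → ℂ) n' = (φ : ↥N → ℂ) n) (hNI : N ≤ I) (hext : ∃ ψ : Cfsg.IrrCharacter ↥I, (Nat.card ↥I : ℂ)⁻¹ * ∑ᶠ g : ↥I, (ψ : ↥I → ℂ) (g * g) = 1 ∧ ∀ n : ↥N, (ψ : ↥I → ℂ) (Subgroup.inclusion hNI n) = (φ : ↥N → ℂ) n) : Nat.card {χ : Cfsg.IrrCharacter G // Cfsg.charDegree (χ : G → ℂ) = 1 ∧ (Nat.card G : ℂ)⁻¹ * ∑ᶠ g : G, (χ : G → ℂ) (g * g) = 1} ≤ I.index * Nat.card {χ : Cfsg.IrrCharacter G // Cfsg.charDegree (χ : G → ℂ) = Cfsg.charDegree (φ : ↥N → ℂ) * I.index ∧ (Nat.card G : ℂ)⁻¹ * ∑ᶠ g : G, (χ : G → ℂ) (g * g) = 1} := by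
  classical
  have := Fintype.ofFinite G
  have := Fintype.ofFinite ↥I
  obtain ⟨ψ, hν, hψ⟩ := hext
  rw [finsum_eq_sum_of_fintype] at hν
  have hψ1 : (ψ : ↥I → ℂ) 1 ≠ 0 := irr_one_ne_zero ψ.2
  refine S4870.card_linear_le N hN (S4870.le_commutator_of_minimal N hN hmin hna) φ I hI hNI ψ hψ
    _ _ (fun l hl => ?_) (fun l hl χ hχ => ?_)
  · rw [← CfsgLib.CharBlocks.coe_charDegree_irr, hl.1, Nat.cast_one]
  · have hl1 : (l : G → ℂ) 1 = 1 := by
      rw [← CfsgLib.CharBlocks.coe_charDegree_irr, hl.1, Nat.cast_one]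
    refine ⟨hχ ▸ S4870.charDegree_twist I N hNI φ ψ hψ hl1, ?_⟩
    have hν1 := hl.2
    rw [finsum_eq_sum_of_fintype] at hν1
    have hsq := apply_sq_eq_one (isCharacter_of_isIrr l.2) hl1 hν1
    have := Fintype.ofFinite ↥N
    have hT : ∀ g : G, g ∈ I ↔ conjFun N g (φ : ↥N → ℂ) = φ := fun g => by
      rw [hI g]
      refine ⟨fun h => funext fun n => h n _ rfl, fun h n n' e => ?_⟩
      rw [← congrFun h n, conjFun_apply]
      exact congrArg _ (Subtype.ext e)
    obtain ⟨hirr, -⟩ := CfsgLib.OddChar.indFun_irr_of_inertia N I φ.2 hT hNI ψ.2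
      (by rw [show (fun n : ↥N => (ψ : ↥I → ℂ) ⟨n, hNI n.2⟩) = (φ : ↥N → ℂ) from funext hψ,
        classInner_irr_self φ.2]; exact one_ne_zero)
    rw [finsum_eq_sum_of_fintype, hχ]
    rw [Finset.sum_congr rfl fun g _ => show (indFun I (ψ : ↥I → ℂ) * (l : G → ℂ)) (g * g) =
      indFun I (ψ : ↥I → ℂ) (g * g) by rw [Pi.mul_apply, hsq, mul_one]]
    exact indicator_indFun I ψ.2 hν hirr

end Cfsg.Agent.S4912
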