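import Cfsg.Statements.S4916
import Cfsg.Agent.Lib.Blocks.Orth
import Cfsg.Agent.Lib.Blocks.CharMod
import Cfsg.Agent.Lib.Blocks.Functional

set_option autoImplicit false
open Cfsg

namespace Cfsg.Agent.S4916

/-- Let G be a finite group, p a prime and M a maximal ideal of the algebraic integers containing p. Then the principal character is the only irreducible character of degree prime to p in the principal p-block of G if and only if p does not divide the order of G. -/
theorem result {G : Type*} [Group G] [Finite G] (p : ℕ) [Fact p.Prime] (M : Ideal Cfsg.AlgInt) (hM : Cfsg.IsPModular p M) : (∀ χ : Cfsg.IrrCharacter G, χ ∈ Cfsg.principalBlock M G → ¬ p ∣ Cfsg.charDegree (χ : G → ℂ) → (χ : G → ℂ) = fun _ => (1 : ℂ)) ↔ ¬ p ∣ Nat.card G := by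
  classical
  have := Fintype.ofFinite G
  have := hM.2.1
  let one : IrrCharacter G := CfsgLib.Char.irrOne
  have hB : IsPBlock M (principalBlock M G) := by
    rw [CfsgLib.Blocks.principalBlock_eq]; exact CfsgLib.Blocks.isPBlock_blockOf _
  have hone : one ∈ principalBlock M G := by
    rw [CfsgLib.Blocks.principalBlock_eq]; exact CfsgLib.Blocks.mem_blockOf_self _
  have h11 : (one : G → ℂ) = fun _ => (1 : ℂ) := rfl
  constructor
  · intro h hdvd
    obtain ⟨x, hx⟩ := exists_prime_orderOf_dvd_card' p hdvd
    have h0 := CfsgLib.Blocks.weak_orthogonality hM hB (x := (1 : G)) (y := x)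
      (by rw [orderOf_one]; exact (Fact.out : p.Prime).not_dvd_one) (by rw [hx])
    have hz : ∀ χ : IrrCharacter G, ∃ a : CfsgLib.Blocks.locRing M, (a : ℂ) =
        (if χ ∈ principalBlock M G then (χ : G → ℂ) 1 * starRingEnd ℂ ((χ : G → ℂ) x) else 0) ∧
          CfsgLib.Blocks.res M a = if χ = one then 1 else 0 := by
      intro χ
      by_cases hc : χ = one
      · refine ⟨1, ?_, by rw [if_pos hc, map_one]⟩
        subst hc
        rw [if_pos hone, h11]
        simp
      by_cases hχ : χ ∈ principalBlock M G
      · have hdvd' : p ∣ charDegree (χ : G → ℂ) := by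
          by_contra hn
          exact hc (Subtype.ext ((h χ hχ hn).trans h11.symm))
        refine ⟨(charDegree (χ : G → ℂ) : CfsgLib.Blocks.locRing M) * ⟨_, CfsgLib.Blocks.algInt_le_locRing M
          (CfsgLib.Char.char_isIntegral (CfsgLib.Char.isCharacter_of_isIrr χ.2) x⁻¹)⟩, ?_, ?_⟩
        · rw [if_pos hχ, CfsgLib.Blocks.charDegree_eq (CfsgLib.Char.isCharacter_of_isIrr χ.2),
            ← CfsgLib.Char.char_inv (CfsgLib.Char.isCharacter_of_isIrr χ.2)]
          simp
        · rw [if_neg hc, map_mul, (CfsgLib.Blocks.res_natCast_eq_zero_iff M hM _).mpr hdvd', zero_mul]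
      · exact ⟨0, by rw [if_neg hχ]; simp, by rw [if_neg hc, map_zero]⟩
    choose a ha har using hz
    have hsum : ∑ χ, a χ = 0 := Subtype.ext (by
      rw [AddSubmonoidClass.coe_finsetSum, Finset.sum_congr rfl fun χ _ => ha χ, h0]; rfl)
    have := congrArg (CfsgLib.Blocks.res M) hsum
    rw [map_sum, map_zero, Finset.sum_congr rfl fun χ _ => har χ] at this
    simp at this
  · intro hnd χ hχ _
    let A : Set (IrrCharacter G) := {one}
    have hA : ∀ g : G, blockCoeff A g ∈ CfsgLib.Blocks.locRing M := by
      intro g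
      have hmem := CfsgLib.Blocks.frac_mem_locRing (n := 1) (m := Nat.card G) hM Nat.card_pos.ne'
        (Or.inr (by rw [Nat.factorization_eq_zero_of_not_dvd hnd]; exact Nat.zero_le _))
      rw [Nat.cast_one] at hmem
      convert hmem using 1
      rw [CfsgLib.Blocks.blockCoeff_eq, Finset.sum_eq_single one]
      · rw [if_pos (Set.mem_singleton one), h11]
        simp
      · exact fun η _ hη => if_neg hη
      · simp
    rw [CfsgLib.Blocks.principalBlock_eq] at hχ
    have hmem : χ ∈ A := CfsgLib.Blocks.blockOf_subset_of_integral hA (Set.mem_singleton one) hχ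
    rw [Set.mem_singleton_iff.mp hmem]
    exact h11

end Cfsg.Agent.S4916
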