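import Cfsg.Statements.S4923
import Cfsg.Agent.Lib.Transfer.MaximalClass
import Cfsg.Agent.Lib.CharNormal.Galois
import Cfsg.Agent.Lib.Modular.GaloisFix
import Mathlib.GroupTheory.SpecificGroups.Cyclic

set_option autoImplicit false
open Cfsg

namespace Cfsg.Agent.S4923

open CfsgLib.Char
open scoped commutatorElement

/-- An automorphism fixing the generators fixes the generated field. -/
theorem fix_adjoin (σ : ℂ ≃+* ℂ) {A : Set ℂ} (h : ∀ a ∈ A, σ a = a) {x : ℂ}
    (hx : x ∈ IntermediateField.adjoin ℚ A) : σ x = x := by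
  induction hx using IntermediateField.adjoin_induction with
  | mem x hx => exact h x hx
  | algebraMap q => simp
  | add x y _ _ hx hy => rw [map_add, hx, hy]
  | inv x _ hx => rw [map_inv₀, hx]
  | mul x y _ _ hx hy => rw [map_mul, hx, hy]

/-- Fields generated by algebraic numbers are equal when the same automorphisms fix them. -/
theorem adjoin_eq_iff_fix {A B : Set ℂ} (hA : ∀ a ∈ A, IsIntegral ℚ a) (hB : ∀ b ∈ B, IsIntegral ℚ b) :
    IntermediateField.adjoin ℚ A = IntermediateField.adjoin ℚ B ↔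
      ∀ σ : ℂ ≃+* ℂ, (∀ a ∈ A, σ a = a) ↔ (∀ b ∈ B, σ b = b) := by
  constructor
  · intro h σ
    exact ⟨fun ha b hb => fix_adjoin σ ha (h ▸ IntermediateField.subset_adjoin ℚ _ hb),
      fun hb a ha => fix_adjoin σ hb (h ▸ IntermediateField.subset_adjoin ℚ _ ha)⟩
  · intro h
    refine le_antisymm (IntermediateField.adjoin_le_iff.2 fun a ha => ?_)
      (IntermediateField.adjoin_le_iff.2 fun b hb => ?_)
    · by_contra hc
      obtain ⟨σ, hfix, hne⟩ := CfsgLib.Modular.exists_ringEquiv_fix_ne _ (hA a ha) hc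
      exact hne ((h σ).2 (fun b hb => hfix b (IntermediateField.subset_adjoin ℚ _ hb)) a ha)
    · by_contra hc
      obtain ⟨σ, hfix, hne⟩ := CfsgLib.Modular.exists_ringEquiv_fix_ne _ (hB b hb) hc
      exact hne ((h σ).1 (fun a ha => hfix a (IntermediateField.subset_adjoin ℚ _ ha)) b hb)

theorem exists_exponent {N : ℕ} (hN : N ≠ 0) (σ : ℂ ≃+* ℂ) :
    ∃ k : ℕ, k.Coprime N ∧ ∀ z : ℂ, z ^ N = 1 → σ z = z ^ k := by
  have hζ := Complex.isPrimitiveRoot_exp N hN
  have : NeZero N := ⟨hN⟩
  obtain ⟨k, -, hk, hkζ⟩ := hζ.isPrimitiveRoot_iff.mp (hζ.map_of_injective σ.injective)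
  refine ⟨k, hk, fun z hz => ?_⟩
  obtain ⟨i, -, rfl⟩ := hζ.eq_pow_of_pow_eq_one hz
  rw [map_pow, ← hkζ, ← pow_mul, ← pow_mul, mul_comm k i]

theorem two_roots {x a b : ℂ} (ha : a ≠ 0) (hb : b ≠ 0) (hab : a * b = 1) (hx : x ≠ 0) :
    x + x⁻¹ = a + b ↔ (x = a ∨ x = b) := by
  have h : (x - a) * (x - b) = x * (x + x⁻¹ - (a + b)) := by
    field_simp
    linear_combination hab
  constructor
  · intro e
    rw [e, sub_self, mul_zero, mul_eq_zero, sub_eq_zero, sub_eq_zero] at h
    exact h
  · intro e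
    have h0 : x * (x + x⁻¹ - (a + b)) = 0 := by
      rw [← h]; rcases e with rfl | rfl <;> simp
    exact sub_eq_zero.1 ((mul_eq_zero.1 h0).resolve_left hx)

theorem two_roots' {x a b : ℂ} (ha : a ≠ 0) (hb : b ≠ 0) (hab : a * b = -1) (hx : x ≠ 0) :
    x - x⁻¹ = a + b ↔ (x = a ∨ x = b) := by
  have h : (x - a) * (x - b) = x * (x - x⁻¹ - (a + b)) := by
    field_simp
    linear_combination hab
  constructor
  · intro e
    rw [e, sub_self, mul_zero, mul_eq_zero, sub_eq_zero, sub_eq_zero] at h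
    exact h
  · intro e
    have h0 : x * (x - x⁻¹ - (a + b)) = 0 := by
      rw [← h]; rcases e with rfl | rfl <;> simp
    exact sub_eq_zero.1 ((mul_eq_zero.1 h0).resolve_left hx)

/-- The criterion on Galois exponents for the two fields. -/
theorem field_iff {G : Type*} [Group G] [Finite G] {n : ℕ} (hn : 3 ≤ n) {ζ : ℂ}
    (hζ : IsPrimitiveRoot ζ (2 ^ (n - 1))) (g : G) (hg : orderOf g ∣ 2 ^ n) (e : ℕ) (s : ℂ)
    (he : (e = 2 ^ (n - 1) - 1 ∧ s = ζ + ζ⁻¹) ∨ (e = 2 ^ (n - 2) - 1 ∧ s = ζ - ζ⁻¹)) :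
    IntermediateField.adjoin ℚ {z : ℂ | ∃ χ : Cfsg.IrrCharacter G, (χ : G → ℂ) g = z} =
        IntermediateField.adjoin ℚ ({s} : Set ℂ) ↔
      ∀ k : ℕ, Odd k → (IsConj g (g ^ k) ↔ (k ≡ 1 [MOD 2 ^ (n - 1)] ∨ k ≡ e [MOD 2 ^ (n - 1)])) := by
  classical
  have := Fintype.ofFinite G
  have hM : 2 ^ (n - 1) = 2 * 2 ^ (n - 2) := by rw [← pow_succ']; congr 1; omega
  have hζ0 : ζ ≠ 0 := hζ.ne_zero (Nat.two_pow_pos _).ne'
  have hζN : ζ ^ 2 ^ n = 1 := by
    rw [show 2 ^ n = 2 ^ (n - 1) * 2 by rw [← pow_succ]; congr 1; omega, pow_mul, hζ.pow_eq_one, one_pow]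
  have hneg : ζ ^ 2 ^ (n - 2) = -1 :=
    (hζ.pow (Nat.two_pow_pos _) (by rw [hM, mul_comm] : 2 ^ (n - 1) = 2 ^ (n - 2) * 2)).eq_neg_one_of_two_right
  have hmod : ∀ a b : ℕ, ζ ^ a = ζ ^ b ↔ a ≡ b [MOD 2 ^ (n - 1)] := fun a b => by
    have hord : orderOf ζ = 2 ^ (n - 1) := hζ.eq_orderOf.symm
    rw [← hord]
    let u : ℂˣ := Units.mk0 ζ hζ0
    have hu : orderOf u = orderOf ζ := orderOf_injective (Units.coeHom ℂ) Units.val_injective u ▸ rfl
    rw [← hu, ← pow_eq_pow_iff_modEq]
    constructor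
    · intro h; exact Units.ext (by rw [Units.val_pow_eq_pow_val, Units.val_pow_eq_pow_val]; exact h)
    · intro h
      have h' := congrArg Units.val h
      rw [Units.val_pow_eq_pow_val, Units.val_pow_eq_pow_val] at h'
      exact h'
  have hs : ∀ (σ : ℂ ≃+* ℂ) (k : ℕ), σ ζ = ζ ^ k →
      (σ s = s ↔ (k ≡ 1 [MOD 2 ^ (n - 1)] ∨ k ≡ e [MOD 2 ^ (n - 1)])) := by
    intro σ k hk
    rw [← hmod, ← hmod, pow_one]
    rcases he with ⟨rfl, rfl⟩ | ⟨rfl, rfl⟩
    · rw [map_add, map_inv₀, hk, two_roots hζ0 (inv_ne_zero hζ0) (mul_inv_cancel₀ hζ0) (pow_ne_zero _ hζ0),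
        show ζ⁻¹ = ζ ^ (2 ^ (n - 1) - 1) from (inv_eq_of_mul_eq_one_right (by
          rw [← pow_succ', Nat.sub_add_cancel Nat.one_le_two_pow, hζ.pow_eq_one]))]
    · rw [map_sub, map_inv₀, hk, show ζ - ζ⁻¹ = ζ + -ζ⁻¹ from sub_eq_add_neg _ _,
        two_roots' hζ0 (neg_ne_zero.2 (inv_ne_zero hζ0)) (by field_simp) (pow_ne_zero _ hζ0),
        show -ζ⁻¹ = ζ ^ (2 ^ (n - 2) - 1) from by
          rw [pow_sub₀ _ hζ0 Nat.one_le_two_pow, hneg, pow_one]; ring]
  have hA : ∀ (σ : ℂ ≃+* ℂ) (k : ℕ), (∀ z : ℂ, z ^ 2 ^ n = 1 → σ z = z ^ k) →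
      ((∀ a ∈ {z : ℂ | ∃ χ : Cfsg.IrrCharacter G, (χ : G → ℂ) g = z}, σ a = a) ↔ IsConj g (g ^ k)) := by
    intro σ k hk
    rw [isConj_iff_forall_irr]
    constructor
    · intro h χ
      rw [← CfsgLib.CharNormal.ringEquiv_char_apply hk (isCharacter_of_isIrr χ.2) hg]
      exact (h _ ⟨χ, rfl⟩).symm
    · rintro h _ ⟨χ, rfl⟩
      rw [CfsgLib.CharNormal.ringEquiv_char_apply hk (isCharacter_of_isIrr χ.2) hg]
      exact (h χ).symm
  rw [adjoin_eq_iff_fix (fun a (ha : a ∈ {z : ℂ | ∃ χ : Cfsg.IrrCharacter G, (χ : G → ℂ) g = z}) => by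
      obtain ⟨χ, rfl⟩ := ha
      exact (char_isIntegral (isCharacter_of_isIrr χ.2) g).tower_top)
    (fun b hb => by
      have hi : IsIntegral ℚ ζ := (hζ.isIntegral (Nat.two_pow_pos _)).tower_top
      rcases he with ⟨-, rfl⟩ | ⟨-, rfl⟩ <;> rw [Set.mem_singleton_iff.1 hb]
      · exact hi.add hi.inv
      · exact hi.sub hi.inv)]
  constructor
  · intro h k hk
    obtain ⟨σ, hσ⟩ := CfsgLib.CharNormal.exists_ringEquiv_root_pow (n := 2 ^ n) (k := k)
      (Nat.two_pow_pos _).ne' ((Nat.coprime_two_right.mpr hk).pow_right n)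
    rw [← hA σ k hσ, ← hs σ k (hσ ζ hζN), h σ]
    simp
  · intro h σ
    obtain ⟨k, hk, hσ⟩ := exists_exponent (Nat.two_pow_pos n).ne' σ
    rw [hA σ k hσ, h k (Nat.coprime_two_right.1 (Nat.Coprime.coprime_dvd_right (dvd_pow_self 2 (by omega)) hk)),
      ← hs σ k (hσ ζ hζN)]
    simp


/-- Let G be a finite group with Sylow 2-subgroup P of order 2^n ≥ 8, and let ζ be a primitive 2^(n−1)-th root of unity in ℂ. Then the commutator subgroup of P has index 4 in P if and only if there is an element g of P whose conjugacy class in G has even size and such that the field generated over ℚ by the values at g of all irreducible complex characters of G equals ℚ(ζ + ζ⁻¹) or ℚ(ζ − ζ⁻¹). -/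
theorem result {G : Type*} [Group G] [Finite G] (P : Sylow 2 G) (n : ℕ) (hn : 3 ≤ n) (hP : Nat.card P = 2 ^ n) (ζ : ℂ) (hζ : IsPrimitiveRoot ζ (2 ^ (n - 1))) :
    (commutator ↥P).index = 4 ↔
      ∃ g : G, g ∈ (P : Subgroup G) ∧ 2 ∣ (Subgroup.centralizer ({g} : Set G)).index ∧
        (IntermediateField.adjoin ℚ {z : ℂ | ∃ χ : Cfsg.IrrCharacter G, (χ : G → ℂ) g = z} = IntermediateField.adjoin ℚ ({ζ + ζ⁻¹} : Set ℂ) ∨
          IntermediateField.adjoin ℚ {z : ℂ | ∃ χ : Cfsg.IrrCharacter G, (χ : G → ℂ) g = z} = IntermediateField.adjoin ℚ ({ζ - ζ⁻¹} : Set ℂ)) := by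
  classical
  have := Fact.mk Nat.prime_two
  have hP2 : IsPGroup 2 (P : Subgroup G) := P.2
  have hP' : Nat.card {x // x ∈ P} = 2 ^ n := hP
  have hP4 : 2 ^ 2 ≤ Nat.card P := hP ▸ Nat.pow_le_pow_right two_pos (by omega)
  have hlow : 4 ≤ (commutator ↥P).index := CfsgLib.Transfer.prime_sq_le_index_commutator P.2 hP4
  have hcard : Nat.card (commutator ↥P) * (commutator ↥P).index = 2 ^ n := hP ▸ Subgroup.card_mul_index _
  obtain ⟨i, hi⟩ : ∃ i, (commutator ↥P).index = 2 ^ i := P.2.index _
  have hi2 : 2 ≤ i := by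
    by_contra hlt
    interval_cases i <;> omega
  have hnc : ∀ g : G, g ∈ (P : Subgroup G) → 2 ∣ (Subgroup.centralizer ({g} : Set G)).index →
      ∃ y ∈ (P : Subgroup G), y * g ≠ g * y := by
    intro g hg h2
    by_contra hcon
    push Not at hcon
    exact P.not_dvd_index (h2.trans (Subgroup.index_dvd_of_le fun y hy =>
      Subgroup.mem_centralizer_singleton_iff.2 (hcon y hy)))
  have hna : ∀ g : G, g ∈ (P : Subgroup G) → 2 ∣ (Subgroup.centralizer ({g} : Set G)).index →
      commutator ↥P ≠ ⊥ := by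
    intro g hg h2 hbot
    obtain ⟨y, hy, hne⟩ := hnc g hg h2
    apply hne
    have h := Subgroup.commutator_mem_commutator (Subgroup.mem_top (⟨y, hy⟩ : P)) (Subgroup.mem_top (⟨g, hg⟩ : P))
    rw [← commutator_def, hbot, Subgroup.mem_bot, commutatorElement_eq_one_iff_mul_comm] at h
    exact congrArg Subtype.val h
  constructor
  · intro h4
    have hsq : ∀ x : P, x ^ 2 ∈ commutator ↥P := by
      intro x
      rw [← QuotientGroup.eq_one_iff]
      by_contra hx
      have hc : Nat.card (↥P ⧸ commutator ↥P) = 4 := by rw [← Subgroup.index_eq_card]; exact h4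
      have ho : orderOf (QuotientGroup.mk x : ↥P ⧸ commutator ↥P) = 4 := by
        have h1 := orderOf_dvd_natCard (QuotientGroup.mk x : ↥P ⧸ commutator ↥P)
        rw [hc, show 4 = 2 ^ 2 from rfl] at h1
        obtain ⟨a, ha, ha'⟩ := (Nat.dvd_prime_pow Nat.prime_two).1 h1
        interval_cases a
        · exact absurd (by rw [QuotientGroup.mk_pow]; exact orderOf_dvd_iff_pow_eq_one.1 (by simp [ha'])) hx
        · exact absurd (by rw [QuotientGroup.mk_pow]; exact orderOf_dvd_iff_pow_eq_one.1 (by simp [ha'])) hx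
        · exact ha'
      have hcyc : IsCyclic (↥P ⧸ commutator ↥P) := isCyclic_of_orderOf_eq_card _ (ho.trans hc.symm)
      have hc2 : IsCyclic (↥P ⧸ frattini ↥P) :=
        isCyclic_of_surjective (QuotientGroup.map (commutator ↥P) (frattini ↥P) (MonoidHom.id _)
          (CfsgLib.PGroup.commutator_le_frattini P.2))
          (QuotientGroup.map_surjective_of_surjective _ _ _ (QuotientGroup.mk_surjective.comp Function.surjective_id) _)
      have hc3 := CfsgLib.PGroup.isCyclic_of_frattini_quotient hc2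
      have hbot : commutator ↥P = ⊥ := by
        rw [commutator_def, eq_bot_iff, Subgroup.commutator_le]
        exact fun x _ y _ => Subgroup.mem_bot.2 (commutatorElement_eq_one_iff_mul_comm.2 ((IsMulCommutative.is_comm (M := ↥P)).comm x y))
      rw [hbot, Subgroup.index_bot, hP'] at h4
      have : 2 ^ 3 ≤ 4 := h4 ▸ Nat.pow_le_pow_right two_pos hn
      omega
    obtain ⟨-, C, hC, hCi⟩ := CfsgLib.Transfer.maximalClass_two hP h4 hsq
    obtain ⟨c, rfl⟩ := (Subgroup.isCyclic_iff_exists_zpowers_eq_top C).1 hC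
    have hoc : orderOf c = 2 ^ (n - 1) := by
      have h1 := (Subgroup.zpowers c).card_mul_index
      rw [Nat.card_zpowers, hCi, hP, show 2 ^ n = 2 ^ (n - 1) * 2 by rw [← pow_succ]; congr 1; omega] at h1
      exact Nat.eq_of_mul_eq_mul_right two_pos h1
    have hCn : (Subgroup.zpowers c).Normal := Subgroup.normal_of_index_eq_two hCi
    obtain ⟨x, hx⟩ : ∃ x, x ∉ Subgroup.zpowers c := by
      by_contra hcon
      push Not at hcon
      rw [(Subgroup.eq_top_iff' _).2 hcon, Subgroup.index_top] at hCi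
      omega
    obtain ⟨r, hr⟩ : ∃ r : ℕ, c ^ r = x * c * x⁻¹ := by
      have := hCn.conj_mem c (Subgroup.mem_zpowers c) x
      exact mem_powers_iff_mem_zpowers.2 this
    -- every element is `c ^ a` or `c ^ a * x`
    have hgen : ∀ y : ↥P, ∃ a : ℕ, y = c ^ a ∨ y = c ^ a * x := by
      intro y
      by_cases hy : y ∈ Subgroup.zpowers c
      · obtain ⟨a, ha⟩ := mem_powers_iff_mem_zpowers.2 hy
        exact ⟨a, Or.inl ha.symm⟩
      · have h1 : y * x⁻¹ ∈ Subgroup.zpowers c := (Subgroup.mul_mem_iff_of_index_two hCi).2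
          (iff_of_false hy fun h => hx ((Subgroup.inv_mem_iff _).1 h))
        obtain ⟨a, ha⟩ := mem_powers_iff_mem_zpowers.2 h1
        exact ⟨a, Or.inr (by simp only at ha; rw [ha, inv_mul_cancel_right])⟩
    set M := 2 ^ (n - 1) with hMdef
    have hM4 : 4 ∣ M := by
      rw [hMdef, show (4 : ℕ) = 2 ^ 2 from rfl]; exact pow_dvd_pow 2 (by omega)
    have hcmod : ∀ a b : ℕ, c ^ a = c ^ b ↔ a ≡ b [MOD M] := fun a b => by
      rw [pow_eq_pow_iff_modEq, hoc]
    have hrr : r * r ≡ 1 [MOD M] := by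
      rw [← hcmod, pow_one, pow_mul]
      have hx2 : x * x ∈ Subgroup.zpowers c := Subgroup.mul_self_mem_of_index_two hCi x
      have hcm : Commute (x * x) c := by
        obtain ⟨j, hj⟩ := hx2
        rw [show x * x = c ^ j from hj.symm]
        exact (Commute.refl c).zpow_left j
      rw [hr, conj_pow, hr]
      calc x * (x * c * x⁻¹) * x⁻¹ = (x * x) * c * (x * x)⁻¹ := by group
        _ = c := by rw [hcm.eq, mul_inv_cancel_right]
    have hrodd : Odd r := by
      have h1 := hrr.of_dvd ((dvd_pow_self 2 (by omega : n - 1 ≠ 0)))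
      have h2 : Odd (r * r) := Nat.odd_iff.2 h1
      exact (Nat.odd_mul.1 h2).1
    have hr4 : r % 4 = 3 := by
      by_contra hne
      have hr1 : r % 4 = 1 := by rcases hrodd with ⟨a, rfl⟩; omega
      let K := Subgroup.zpowers (c ^ 4)
      have hKC : K ≤ Subgroup.zpowers c := Subgroup.zpowers_le.2 (Subgroup.npow_mem_zpowers _ _)
      have hxc : ∀ a : ℕ, x * c ^ a * x⁻¹ = c ^ (r * a) := fun a => by rw [← conj_pow, ← hr, pow_mul]
      have hKn : K.Normal := ⟨by
        intro k hk y
        obtain ⟨j, rfl⟩ := mem_powers_iff_mem_zpowers.2 hk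
        obtain ⟨a, rfl | rfl⟩ := hgen y
        · simp only
          rw [← pow_mul, ((Commute.refl c).pow_pow a (4 * j)).eq, mul_inv_cancel_right]
          rw [pow_mul]; exact Subgroup.npow_mem_zpowers _ _
        · simp only
          rw [← pow_mul, show c ^ a * x * c ^ (4 * j) * (c ^ a * x)⁻¹ = c ^ a * (x * c ^ (4 * j) * x⁻¹) * (c ^ a)⁻¹ by group,
            hxc, ← pow_add, add_comm a, pow_add, mul_inv_cancel_right, mul_left_comm, pow_mul]
          exact Subgroup.npow_mem_zpowers _ _⟩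
      have hcx : ⁅c, x⁆ ∈ K := by
        have h1 : ⁅c, x⁆ = c * (c ^ r)⁻¹ := by rw [hr, commutatorElement_def]; group
        rw [h1, show c ^ r = c ^ (4 * (r / 4)) * c by rw [← pow_succ]; congr 1; omega, mul_inv_rev,
          mul_inv_cancel_left, pow_mul]
        exact inv_mem (Subgroup.npow_mem_zpowers _ _)
      have hle : commutator ↥P ≤ K := by
        rw [commutator_def, Subgroup.commutator_le]
        intro y _ z _
        rw [← QuotientGroup.eq_one_iff]
        let π := QuotientGroup.mk' K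
        show π ⁅y, z⁆ = 1
        rw [map_commutatorElement, commutatorElement_eq_one_iff_mul_comm]
        have hcx' : Commute (π c) (π x) := by
          have h2 : π ⁅c, x⁆ = 1 := (QuotientGroup.eq_one_iff _).2 hcx
          rw [map_commutatorElement, commutatorElement_eq_one_iff_mul_comm] at h2
          exact h2
        obtain ⟨a, rfl | rfl⟩ := hgen y <;> obtain ⟨b, rfl | rfl⟩ := hgen z <;>
          simp only [map_mul, map_pow]
        · exact (Commute.refl (π c)).pow_pow a b
        · exact (((Commute.refl (π c)).pow_pow a b).mul_right (hcx'.pow_left a))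
        · exact (((Commute.refl (π c)).pow_pow a b).mul_left (hcx'.symm.pow_right b))
        · exact ((((Commute.refl (π c)).pow_pow a b).mul_right (hcx'.pow_left a)).mul_left
            ((hcx'.symm.pow_right b).mul_right (Commute.refl (π x))))
      have h2 : Nat.card K * 4 = M := by
        rw [Nat.card_zpowers, orderOf_pow, hoc, Nat.gcd_eq_right hM4, Nat.div_mul_cancel hM4]
      have h3 := Nat.le_of_dvd Nat.card_pos (Subgroup.card_dvd_of_le hle)
      rw [h4, show 2 ^ n = M * 2 by rw [hMdef, ← pow_succ]; congr 1; omega] at hcard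
      have hMpos : 0 < M := Nat.two_pow_pos _
      change Nat.card ↥(commutator ↥P) ≤ Nat.card ↥(Subgroup.zpowers (c ^ 4)) at h3
      change Nat.card ↥(Subgroup.zpowers (c ^ 4)) * 4 = M at h2
      clear_value M
      nlinarith
    -- `r` is one of the two admissible exponents
    set e := if r ≡ M - 1 [MOD M] then M - 1 else 2 ^ (n - 2) - 1 with hedef
    have hre : r ≡ e [MOD M] := by
      rw [hedef]
      split_ifs with h
      · exact h
      · obtain ⟨a, rfl⟩ : ∃ a, r = 4 * a + 3 := ⟨r / 4, by omega⟩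
        have hM2 : M = 4 * 2 ^ (n - 3) := by rw [hMdef, show (4 : ℕ) = 2 ^ 2 from rfl, ← pow_add]; congr 1; omega
        have hQ : 2 ^ (n - 2) = 2 * 2 ^ (n - 3) := by rw [← pow_succ']; congr 1; omega
        have h1 : M ∣ (4 * a + 3) * (4 * a + 3) - 1 := (Nat.modEq_iff_dvd' (by nlinarith)).1 hrr.symm
        have h2 : (4 * a + 3) * (4 * a + 3) - 1 = 4 * ((2 * a + 1) * (2 * a + 2)) :=
          Nat.sub_eq_of_eq_add (by ring)
        rw [h2, hM2, Nat.mul_dvd_mul_iff_left (by norm_num)] at h1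
        have h3 : 2 ^ (n - 3) ∣ 2 * a + 2 :=
          (Nat.Coprime.pow_left _ (Nat.coprime_two_left.2 ⟨a, rfl⟩)).dvd_of_dvd_mul_left h1
        obtain ⟨b, hb⟩ := h3
        have h4 : 4 * a + 4 = 2 * 2 ^ (n - 3) * b := by rw [mul_assoc, ← hb]; ring
        rcases Nat.even_or_odd b with ⟨b', rfl⟩ | ⟨b', rfl⟩
        · exfalso; apply h
          apply Nat.ModEq.add_right_cancel' 1
          rw [Nat.sub_add_cancel Nat.one_le_two_pow, show 4 * a + 3 + 1 = M * b' by rw [hM2]; linarith,
            Nat.modEq_iff_dvd]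
          exact ⟨1 - (b' : ℤ), by push_cast [hMdef]; ring⟩
        · apply Nat.ModEq.add_right_cancel' 1
          rw [Nat.sub_add_cancel Nat.one_le_two_pow, show 4 * a + 3 + 1 = M * b' + 2 ^ (n - 2) by rw [hM2, hQ]; linarith]
          exact (Nat.modEq_zero_iff_dvd.2 ⟨b', rfl⟩).add_right (2 ^ (n - 2)) |>.trans (by rw [zero_add])
    have hr1 : ¬ r ≡ 1 [MOD M] := fun h => by
      have := h.of_dvd hM4
      rw [Nat.ModEq, hr4] at this
      norm_num at this
    set g : G := (c : G) with hgdef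
    have hog : orderOf g = M := by rw [hgdef, Subgroup.orderOf_coe, hoc]
    have hgP : g ∈ (P : Subgroup G) := c.2
    have heven : 2 ∣ (Subgroup.centralizer ({g} : Set G)).index := by
      by_contra h2
      obtain ⟨S⟩ : Nonempty (Sylow 2 (Subgroup.centralizer ({g} : Set G))) := inferInstance
      have hS' : ¬ 2 ∣ ((S : Subgroup _).map (Subgroup.centralizer ({g} : Set G)).subtype).index := by
        rw [Subgroup.index_map_subtype]
        exact fun h => (Nat.prime_two.dvd_mul.1 h).elim S.not_dvd_index h2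
      let S' : Sylow 2 G := (S.2.map (Subgroup.centralizer ({g} : Set G)).subtype).toSylow hS'
      have hS'le : (S' : Subgroup G) ≤ Subgroup.centralizer ({g} : Set G) := Subgroup.map_subtype_le _
      have hgS : g ∈ (S' : Subgroup G) := by
        have hz : IsPGroup 2 (Subgroup.zpowers g) := IsPGroup.of_card (n := n - 1) (by rw [Nat.card_zpowers, hog])
        have hle : Subgroup.zpowers g ≤ Subgroup.normalizer ((S' : Subgroup G) : Set G) := by
          rw [Subgroup.zpowers_le, Subgroup.mem_normalizer_iff]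
          intro s
          constructor
          · intro hs
            rw [← Subgroup.mem_centralizer_singleton_iff.1 (hS'le hs), mul_inv_cancel_right]
            exact hs
          · intro hs
            have h1 := Subgroup.mem_centralizer_singleton_iff.1 (hS'le hs)
            have h2 : g * s * g⁻¹ = s := by
              calc g * s * g⁻¹ = g⁻¹ * (g * (g * s * g⁻¹)) := by group
                _ = g⁻¹ * ((g * s * g⁻¹) * g) := by rw [h1]
                _ = s := by group
            rwa [h2] at hs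
        exact (S'.is_maximal' (hz.to_sup_of_normal_right' S'.2 hle) le_sup_right).le (Subgroup.mem_sup_left (Subgroup.mem_zpowers g))
      obtain ⟨t, ht⟩ := MulAction.exists_smul_eq G S' P
      have hy : ∀ z : G, z ∈ (P : Subgroup G) ↔ t⁻¹ * z * t ∈ (S' : Subgroup G) := fun z => by
        rw [← ht, Sylow.smul_def, Sylow.pointwise_smul_def, Subgroup.mem_pointwise_smul_iff_inv_smul_mem,
          ← map_inv, MulAut.smul_def, MulAut.conj_apply, inv_inv]
      let y : ↥P := ⟨t * g * t⁻¹, (hy _).2 (by simpa [mul_assoc] using hgS)⟩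
      have hyo : orderOf y = M := by
        rw [← Subgroup.orderOf_coe, ← hog]
        exact orderOf_injective (MulAut.conj t).toMonoidHom (MulAut.conj t).injective g
      have hyc : ∀ z : ↥P, z * y = y * z := fun z => by
        apply Subtype.ext
        have h1 := Subgroup.mem_centralizer_singleton_iff.1 (hS'le ((hy _).1 z.2))
        show (z : G) * (t * g * t⁻¹) = t * g * t⁻¹ * z
        calc (z : G) * (t * g * t⁻¹) = t * ((t⁻¹ * z * t) * g) * t⁻¹ := by group
          _ = t * (g * (t⁻¹ * z * t)) * t⁻¹ := by rw [h1]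
          _ = t * g * t⁻¹ * z := by group
      obtain ⟨a, ha | ha⟩ := hgen y
      · have h1 : c ^ (r * a) = c ^ a := by
          rw [pow_mul, hr, conj_pow, ← ha, hyc x, mul_inv_cancel_right]
        rw [hcmod, mul_comm] at h1
        have h2 : M ∣ a * r - a * 1 := (Nat.modEq_iff_dvd' (Nat.mul_le_mul_left a (by omega))).1 (by rw [mul_one]; exact h1.symm)
        obtain ⟨b, hb⟩ : ∃ b, r = 4 * b + 3 := ⟨r / 4, by omega⟩
        rw [← Nat.mul_sub, hb, show 4 * b + 3 - 1 = 2 * (2 * b + 1) by omega, show a * (2 * (2 * b + 1)) = 2 * a * (2 * b + 1) by ring] at h2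
        have h3 : M ∣ 2 * a := (Nat.Coprime.pow_left _ (Nat.coprime_two_left.2 ⟨b, rfl⟩)).dvd_of_dvd_mul_right h2
        have h5 : y ^ 2 = 1 := by
          rw [ha, ← pow_mul, ← orderOf_dvd_iff_pow_eq_one, hoc, mul_comm]; exact h3
        have h6 := orderOf_dvd_of_pow_eq_one h5
        rw [hyo] at h6
        exact absurd (hM4.trans h6) (by norm_num)
      · apply hr1
        have h1 := hyc c
        rw [ha, mul_assoc (c ^ a), show x * c = c ^ r * x by rw [hr]; group, ← mul_assoc, ← mul_assoc,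
          ← pow_succ', ← pow_add] at h1
        have h2 := mul_right_cancel h1
        rw [hcmod] at h2
        exact Nat.ModEq.add_left_cancel' a h2.symm
    refine ⟨g, hgP, heven, ?_⟩
    have hgmod : ∀ a b : ℕ, g ^ a = g ^ b ↔ a ≡ b [MOD M] := fun a b => by
      rw [pow_eq_pow_iff_modEq, hog]
    have hxg : (x : G) * g * (x : G)⁻¹ = g ^ r := by
      have := congrArg Subtype.val hr
      simpa [g] using this.symm
    have hfield : ∀ k : ℕ, Odd k → (IsConj g (g ^ k) ↔ (k ≡ 1 [MOD M] ∨ k ≡ e [MOD M])) := by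
      intro k hk
      constructor
      · intro hconj
        obtain ⟨h, hh⟩ := isConj_iff.1 hconj
        set Z := Subgroup.zpowers g
        set A := Subgroup.normalizer (Z : Set G)
        set Cg := Subgroup.centralizer (Z : Set G)
        have hCgA : Cg ≤ A := Subgroup.centralizer_le_normalizer _
        have hmemA : ∀ (u : G) (j : ℕ), u * g * u⁻¹ = g ^ j → Nat.Coprime j M → u ∈ A := by
          intro u j hu hj
          have hzz : Subgroup.zpowers (g ^ j) = Z :=
            le_antisymm (Subgroup.zpowers_le.2 (Subgroup.npow_mem_zpowers _ _)) (Subgroup.zpowers_le.2 (by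
              rw [mem_zpowers_pow_iff, hog]; exact hj))
          refine Subgroup.mem_normalizer_iff.2 fun z => ?_
          have hmap : Z.map (MulAut.conj u).toMonoidHom = Z := by
            rw [MonoidHom.map_zpowers, ← hzz]
            congr 1
          constructor
          · intro hz
            exact hmap ▸ ⟨z, hz, rfl⟩
          · intro hz
            rw [← hmap] at hz
            obtain ⟨w, hw, hwz⟩ := hz
            exact (MulAut.conj u).injective hwz ▸ hw
        have hhA : h ∈ A := hmemA h k hh ((Nat.coprime_two_right.2 hk).pow_right _)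
        have hxA : (x : G) ∈ A := hmemA x r hxg ((Nat.coprime_two_right.2 hrodd).pow_right _)
        have hcen : ∀ u ∈ Cg, u * g * u⁻¹ = g := fun u hu => by
          rw [← Subgroup.mem_centralizer_iff.1 hu g (Subgroup.mem_zpowers g), mul_inv_cancel_right]
        -- the index of the centraliser in the normaliser is at most two
        let φ := Z.normalizerMonoidHom
        have hker : φ.ker.index ∣ 2 ^ (n - 2) := by
          rw [Subgroup.index_ker]
          have : IsCyclic Z := inferInstance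
          have h1 : Nat.card (MulAut Z) = 2 ^ (n - 2) := by
            rw [IsCyclic.card_mulAut, Nat.card_zpowers, hog, hMdef,
              Nat.totient_prime_pow Nat.prime_two (by omega)]
            simp [show n - 1 - 1 = n - 2 by omega]
          exact h1 ▸ Subgroup.card_subgroup_dvd_card _
        rw [Subgroup.normalizerMonoidHom_ker] at hker
        obtain ⟨b, -, hb⟩ := (Nat.dvd_prime_pow Nat.prime_two).1 hker
        have hb1 : b ≤ 1 := by
          by_contra hlt
          have h1 := (Cg.subgroupOf A).card_mul_index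
          rw [Nat.card_congr (Subgroup.subgroupOfEquivOfLe hCgA).toEquiv, hb] at h1
          have h2 : M ∣ Nat.card Cg := hog ▸ Subgroup.orderOf_dvd_natCard Cg (Subgroup.mem_centralizer_iff.2 fun z hz => by
            obtain ⟨j, rfl⟩ := hz
            exact ((Commute.refl g).zpow_left j).eq)
          have h3 : 2 ^ (n + 1) ∣ Nat.card G := by
            refine dvd_trans ?_ (Subgroup.card_subgroup_dvd_card A)
            rw [← h1, show 2 ^ (n + 1) = M * 2 ^ 2 by rw [hMdef, ← pow_add]; congr 1; omega]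
            exact Nat.mul_dvd_mul h2 (pow_dvd_pow 2 (by omega))
          have h4 := (Nat.Prime.pow_dvd_iff_le_factorization Nat.prime_two Nat.card_pos.ne').1 h3
          have h5 := P.card_eq_multiplicity
          rw [hP] at h5
          have := Nat.pow_right_injective (le_refl 2) h5
          omega
        have hxnot : (⟨x, hxA⟩ : A) ∉ Cg.subgroupOf A := fun hc => by
          have h1 := hcen _ (Subgroup.mem_subgroupOf.1 hc)
          rw [hxg] at h1
          exact hr1 ((hgmod r 1).1 (by rw [pow_one]; exact h1))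
        have hb2 : (Cg.subgroupOf A).index = 2 := by
          interval_cases b
          · exact absurd (by rw [Subgroup.index_eq_one.1 (hb.trans (pow_zero 2))]; exact Subgroup.mem_top _) hxnot
          · simpa using hb
        by_cases hhC : (⟨h, hhA⟩ : A) ∈ Cg.subgroupOf A
        · left
          have h1 := hcen _ (Subgroup.mem_subgroupOf.1 hhC)
          rw [hh] at h1
          exact (hgmod k 1).1 (by rw [pow_one]; exact h1)
        · right
          have h1 : (⟨h, hhA⟩ : A) * ⟨x, hxA⟩ ∈ Cg.subgroupOf A :=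
            (Subgroup.mul_mem_iff_of_index_two hb2).2 (iff_of_false hhC hxnot)
          have h2 : h * (x : G) * g * (h * (x : G))⁻¹ = g := hcen _ (Subgroup.mem_subgroupOf.1 h1)
          rw [show h * (x : G) * g * (h * (x : G))⁻¹ = h * ((x : G) * g * (x : G)⁻¹) * h⁻¹ by group, hxg,
            ← conj_pow, hh, ← pow_mul] at h2
          have h3 : k * r ≡ 1 [MOD M] := (hgmod _ 1).1 (by rw [pow_one]; exact h2)
          calc k ≡ k * (r * r) [MOD M] := by simpa using (hrr.mul_left k).symm
            _ = k * r * r := by ring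
            _ ≡ 1 * r [MOD M] := h3.mul_right r
            _ = r := one_mul r
            _ ≡ e [MOD M] := hre
      · rintro (h | h)
        · rw [(hgmod k 1).2 h, pow_one]
        · rw [(hgmod k r).2 (h.trans hre.symm)]
          exact isConj_iff.2 ⟨x, hxg⟩
    have hg2n : orderOf g ∣ 2 ^ n := hog ▸ pow_dvd_pow 2 (by omega)
    by_cases hc : r ≡ M - 1 [MOD M]
    · left
      rw [hedef, if_pos hc] at hfield
      exact (field_iff hn hζ g hg2n _ _ (Or.inl ⟨rfl, rfl⟩)).2 hfield
    · right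
      rw [hedef, if_neg hc] at hfield
      exact (field_iff hn hζ g hg2n _ _ (Or.inr ⟨rfl, rfl⟩)).2 hfield
  · rintro ⟨g, hgP, heven, hfld⟩
    have hne := hna g hgP heven
    have hc2 : 2 ≤ Nat.card (commutator ↥P) := (Subgroup.one_lt_card_iff_ne_bot _).2 hne
    rcases Nat.lt_or_ge n 4 with hn4 | hn4
    · obtain rfl : n = 3 := by omega
      rw [hi] at hcard ⊢
      have : i ≤ 2 := by
        by_contra hlt
        have h1 : 2 ^ 3 ≤ 2 ^ i := Nat.pow_le_pow_right two_pos (by omega)
        nlinarith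
      rw [show i = 2 by omega]
      norm_num
    set M := 2 ^ (n - 1) with hMdef
    obtain ⟨e, he, hfield⟩ : ∃ e, (e = M - 1 ∨ e = 2 ^ (n - 2) - 1) ∧
        ∀ k : ℕ, Odd k → (IsConj g (g ^ k) ↔ (k ≡ 1 [MOD M] ∨ k ≡ e [MOD M])) := by
      obtain ⟨j, hj⟩ := P.2 ⟨g, hgP⟩
      have hg2n : orderOf g ∣ 2 ^ n := by
        rw [← hP, ← Subgroup.orderOf_mk g hgP]; exact orderOf_dvd_natCard _
      rcases hfld with h | h
      · exact ⟨_, Or.inl rfl, (field_iff hn hζ g hg2n _ _ (Or.inl ⟨rfl, rfl⟩)).1 h⟩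
      · exact ⟨_, Or.inr rfl, (field_iff hn hζ g hg2n _ _ (Or.inr ⟨rfl, rfl⟩)).1 h⟩
    obtain ⟨j, hjle, hj⟩ := (Nat.dvd_prime_pow Nat.prime_two).1
      (show orderOf g ∣ 2 ^ n by rw [← hP, ← Subgroup.orderOf_mk g hgP]; exact orderOf_dvd_natCard _)
    have hjn : j < n := by
      rcases hjle.lt_or_eq with h | rfl
      · exact h
      exfalso
      have htop : Subgroup.zpowers (⟨g, hgP⟩ : P) = ⊤ := Subgroup.eq_top_of_card_eq _ (by
        rw [Nat.card_zpowers, Subgroup.orderOf_mk, hj]; exact hP.symm)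
      obtain ⟨y, hy, hne'⟩ := hnc g hgP heven
      apply hne'
      obtain ⟨a, ha⟩ := (htop ▸ Subgroup.mem_top (⟨y, hy⟩ : P) : (⟨y, hy⟩ : P) ∈ Subgroup.zpowers ⟨g, hgP⟩)
      have h1 : g ^ a = y := congrArg Subtype.val ha
      rw [← h1]; exact ((Commute.refl g).zpow_left a).eq
    have hj1 : j = n - 1 := by
      by_contra hjne
      -- a Galois exponent fixing `g` that is neither `1` nor `e`
      have key : ∀ k : ℕ, Odd k → 2 ^ j ∣ k - 1 → 1 ≤ k → k < M → k ≠ 1 → k ≠ e → False := by
        intro k hk hd hk1 hkM h1 h2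
        have hgk : g ^ k = g := by
          obtain ⟨c, hc⟩ := hd
          rw [← Nat.sub_add_cancel hk1, pow_succ, hc, pow_mul, ← hj, pow_orderOf_eq_one, one_pow, one_mul]
        have heM : e < M := by
          have : 2 ^ (n - 2) ≤ M := Nat.pow_le_pow_right two_pos (by omega)
          have := Nat.two_pow_pos (n - 2)
          rcases he with rfl | rfl <;> omega
        rcases (hfield k hk).1 (by rw [hgk]) with h | h
        · exact h1 (Nat.ModEq.eq_of_lt_of_lt h hkM (by omega))
        · exact h2 (Nat.ModEq.eq_of_lt_of_lt h hkM heM)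
      have hM8 : M = 2 * 2 ^ (n - 2) := by rw [hMdef, ← pow_succ']; congr 1; omega
      have hQ4 : 4 ≤ 2 ^ (n - 2) := le_trans (by norm_num) (Nat.pow_le_pow_right two_pos (show 2 ≤ n - 2 by omega))
      have hodd : Odd (2 ^ (n - 2) + 1) := ⟨2 ^ (n - 3), by
        rw [show 2 * 2 ^ (n - 3) = 2 ^ (n - 2) by rw [← pow_succ']; congr 1; omega]⟩
      exact key (2 ^ (n - 2) + 1) hodd (by rw [Nat.add_sub_cancel]; exact pow_dvd_pow 2 (by omega))
        (by omega) (by omega) (by omega) (by rcases he with rfl | rfl <;> omega)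
    subst hj1
    let c : P := ⟨g, hgP⟩
    have hoc : orderOf c = M := by rw [Subgroup.orderOf_mk, hj]
    have hCi : (Subgroup.zpowers c).index = 2 := by
      have h1 := (Subgroup.zpowers c).card_mul_index
      rw [Nat.card_zpowers, hoc, hP', show 2 ^ n = M * 2 by rw [hMdef, ← pow_succ]; congr 1; omega] at h1
      exact Nat.eq_of_mul_eq_mul_left (Nat.two_pow_pos _) h1
    obtain ⟨x, hx, hne'⟩ := hnc g hgP heven
    have hCn : (Subgroup.zpowers c).Normal := Subgroup.normal_of_index_eq_two hCi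
    obtain ⟨k, hk⟩ := mem_powers_iff_mem_zpowers.2 (hCn.conj_mem c (Subgroup.mem_zpowers c) ⟨x, hx⟩)
    have hxk : x * g * x⁻¹ = g ^ k := (congrArg Subtype.val hk).symm
    have hkodd : Odd k := by
      by_contra hev
      rw [Nat.not_odd_iff_even] at hev
      have h1 : orderOf (g ^ k) = M := by
        rw [← hxk]; exact (orderOf_injective (MulAut.conj x).toMonoidHom (MulAut.conj x).injective g).trans hj
      rw [orderOf_pow, hj] at h1
      have h2 : 2 ∣ Nat.gcd M k := Nat.dvd_gcd (dvd_pow_self 2 (by omega)) hev.two_dvd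
      have h3 := Nat.div_lt_self (Nat.two_pow_pos (n - 1)) (lt_of_lt_of_le one_lt_two (Nat.le_of_dvd
        (Nat.gcd_pos_of_pos_left _ (Nat.two_pow_pos _)) h2))
      exact absurd h1 h3.ne
    have hke : k ≡ e [MOD M] := by
      refine ((hfield k hkodd).1 (isConj_iff.2 ⟨x, hxk⟩)).resolve_left fun h => hne' ?_
      have h1 : g ^ k = g := by
        conv_rhs => rw [← pow_one g]
        rw [pow_eq_pow_iff_modEq, hj]; exact h
      rw [← hxk, mul_inv_eq_iff_eq_mul] at h1
      exact h1
    -- `g ^ (e - 1)` is a commutator of order at least `2 ^ (n - 2)`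
    have he1 : ∃ b, e - 1 = 2 * (2 * b + 1) ∧ 1 ≤ e := by
      have hM4 : M = 4 * 2 ^ (n - 3) := by rw [hMdef, show (4 : ℕ) = 2 ^ 2 from rfl, ← pow_add]; congr 1; omega
      have hQ : 2 ^ (n - 2) = 4 * 2 ^ (n - 4) := by rw [show (4 : ℕ) = 2 ^ 2 from rfl, ← pow_add]; congr 1; omega
      have h1 := Nat.two_pow_pos (n - 3)
      have h2 := Nat.two_pow_pos (n - 4)
      rcases he with rfl | rfl
      · exact ⟨2 ^ (n - 3) - 1, by omega, by omega⟩
      · exact ⟨2 ^ (n - 4) - 1, by omega, by omega⟩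
    obtain ⟨b, hb, heone⟩ := he1
    have hmem : c ^ (e - 1) ∈ commutator ↥P := by
      have h1 : ⁅(⟨x, hx⟩ : P), c⁆ = c ^ (e - 1) := by
        have h2 : c ^ k = c ^ (e - 1) * c := by
          rw [← pow_succ, Nat.sub_add_cancel heone, pow_eq_pow_iff_modEq, hoc]; exact hke
        rw [commutatorElement_def, ← hk]
        simp only
        rw [h2, mul_inv_cancel_right]
      rw [← h1, commutator_def]
      exact Subgroup.commutator_mem_commutator (Subgroup.mem_top _) (Subgroup.mem_top _)
    have hord : 2 ^ (n - 2) ∣ orderOf (c ^ (e - 1)) := by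
      rw [orderOf_pow, hoc, hb, show M = 2 * 2 ^ (n - 2) by rw [hMdef, ← pow_succ']; congr 1; omega,
        Nat.gcd_mul_left, (Nat.Coprime.pow_left _ (Nat.coprime_two_left.2 ⟨b, rfl⟩) :
          Nat.gcd (2 ^ (n - 2)) (2 * b + 1) = 1), mul_one, Nat.mul_div_cancel_left _ two_pos]
    have hle := Nat.le_of_dvd Nat.card_pos (hord.trans (Subgroup.orderOf_dvd_natCard _ hmem))
    rw [hi] at hcard ⊢
    have : i ≤ 2 := by
      by_contra hlt
      have h1 : 2 ^ (n - 2) * 2 ^ i ≤ 2 ^ n := hcard ▸ Nat.mul_le_mul_right _ hle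
      rw [← pow_add, Nat.pow_le_pow_iff_right (by norm_num : 1 < 2)] at h1
      omega
    rw [show i = 2 by omega]
    norm_num

end Cfsg.Agent.S4923
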