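import Cfsg.Statements.S4931
import Cfsg.Agent.Lib.Char.Ito
import Cfsg.Agent.Lib.CharNormal.Kernel
import Cfsg.Agent.Lib.CharNormal.Basic
import Cfsg.Agent.Lib.CharBlocks.Degree
import Cfsg.Agent.Lib.Transfer.Tate
import Cfsg.Agent.Lib.PGroup.Basic
import Mathlib

set_option autoImplicit false
open Cfsg

namespace Cfsg.Agent.S4931

open CfsgLib.Char CfsgLib.CharNormal CfsgLib.CharBlocks Subgroup
open scoped commutatorElement

section Backward

variable {G : Type*} [Group G] [Finite G]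

theorem exists_extension_of_complement {K N : Subgroup G} [K.Normal] (h1 : K ⊔ N = ⊤)
    (h2 : K ⊓ N = ⊥) {θ : ↥N → ℂ} (hθ : Cfsg.IsIrrCharacter ↥N θ) :
    ∃ χ : Cfsg.IrrCharacter G, ∀ x : ↥N, (χ : G → ℂ) x = θ x := by
  have := Fintype.ofFinite G
  have := Fintype.ofFinite (G ⧸ K)
  have := Fintype.ofFinite ↥N
  let f : ↥N →* G ⧸ K := (QuotientGroup.mk' K).comp N.subtype
  have hf : Function.Bijective f := by
    refine ⟨(injective_iff_map_eq_one f).mpr fun x hx => ?_, fun q => ?_⟩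
    · have hK : (x : G) ∈ K := (QuotientGroup.eq_one_iff _).mp hx
      have hb : (x : G) ∈ K ⊓ N := ⟨hK, x.2⟩
      rw [h2, Subgroup.mem_bot] at hb
      exact Subtype.ext hb
    · obtain ⟨g, rfl⟩ := QuotientGroup.mk'_surjective K q
      have hg : g ∈ ((K ⊔ N : Subgroup G) : Set G) := by rw [h1]; exact Subgroup.mem_top g
      rw [Subgroup.normal_mul] at hg
      obtain ⟨k, hk, n, hn, rfl⟩ := hg
      refine ⟨⟨n, hn⟩, ?_⟩
      show QuotientGroup.mk' K n = _
      rw [map_mul, show QuotientGroup.mk' K k = 1 from (QuotientGroup.eq_one_iff k).mpr hk, one_mul]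
  let e : ↥N ≃* G ⧸ K := MulEquiv.ofBijective f hf
  refine ⟨⟨_, isIrr_comp_mk' K (isIrr_comp_mulEquiv hθ e.symm)⟩, fun x => ?_⟩
  show θ (e.symm (e x)) = θ x
  rw [MulEquiv.symm_apply_apply]

end Backward

variable {G : Type*} [Group G] [Finite G] {p : ℕ} [hp : Fact p.Prime]

theorem mem_of_forall_irr (R : Subgroup G) [R.Normal] {x : G}
    (h : ∀ θ : Cfsg.IrrCharacter G, (∀ r ∈ R, (θ : G → ℂ) r = (θ : G → ℂ) 1) →
      (θ : G → ℂ) x = (θ : G → ℂ) 1) : x ∈ R := by
  have := Fintype.ofFinite G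
  have := Fintype.ofFinite (G ⧸ R)
  rw [← QuotientGroup.eq_one_iff]
  have hc : IsConj (x : G ⧸ R) 1 := (isConj_iff_forall_irr _ _).mpr fun ψ =>
    h ⟨_, isIrr_comp_mk' R ψ.2⟩ fun r hr => comp_mk'_const R hr
  exact isConj_one_left.mp hc

theorem not_dvd_degree (Q : Sylow p G) [(Q : Subgroup G).Normal] (θ : Cfsg.IrrCharacter G)
    (hθ : ∀ r ∈ ⁅(Q : Subgroup G), (Q : Subgroup G)⁆, (θ : G → ℂ) r = (θ : G → ℂ) 1) :
    ¬ p ∣ Cfsg.charDegree (θ : G → ℂ) := by
  obtain ⟨R, hR⟩ : ∃ R : Subgroup G, R = ⁅(Q : Subgroup G), (Q : Subgroup G)⁆ := ⟨_, rfl⟩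
  have : R.Normal := hR ▸ inferInstance
  have hRQ : R ≤ (Q : Subgroup G) := hR ▸ Subgroup.commutator_le_left _ _
  obtain ⟨ψ, hψ, he⟩ := exists_irr_eq_comp_mk' R θ.2 (fun r hr => hθ r (hR ▸ hr))
  have : ((Q : Subgroup G).map (QuotientGroup.mk' R)).Normal :=
    Subgroup.Normal.map inferInstance _ (QuotientGroup.mk'_surjective R)
  have hc : ψ 1 = (Cfsg.charDegree (θ : G → ℂ) : ℂ) := by
    rw [coe_charDegree_irr, ← he]
    rfl
  have := Fintype.ofFinite (G ⧸ R)
  have hd := degree_dvd_index_abelian_normal ((Q : Subgroup G).map (QuotientGroup.mk' R))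
    (fun a ha b hb => by
      obtain ⟨a, ha, rfl⟩ := ha
      obtain ⟨b, hb, rfl⟩ := hb
      rw [← map_mul, ← map_mul]
      refine QuotientGroup.eq_iff_div_mem.mpr ?_
      rw [show a * b / (b * a) = ⁅a, b⁆ by rw [commutatorElement_def, div_eq_mul_inv]; group, hR]
      exact Subgroup.commutator_mem_commutator ha hb) hψ hc
  rw [Subgroup.index_map_eq _ (QuotientGroup.mk'_surjective R)
    (by rw [QuotientGroup.ker_mk']; exact hRQ)] at hd
  exact fun h => Q.not_dvd_index (h.trans hd)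

/-- The intersection of the kernels of the extensions of the characters with `R` in their kernel. -/
theorem exists_kernel (N : Subgroup G) (R : Subgroup ↥N) [R.Normal]
    (hext : ∀ θ : Cfsg.IrrCharacter ↥N, (∀ r ∈ R, (θ : ↥N → ℂ) r = (θ : ↥N → ℂ) 1) →
      ∃ χ : Cfsg.IrrCharacter G, ∀ x : ↥N, (χ : G → ℂ) x = (θ : ↥N → ℂ) x) :
    ∃ L : Subgroup G, L.Normal ∧ L.subgroupOf N = R := by
  let L : Subgroup G := ⨅ χ ∈ {χ : Cfsg.IrrCharacter G | ∀ r ∈ R,
    (χ : G → ℂ) r = (χ : G → ℂ) 1}, charKer (isCharacter_of_isIrr χ.2)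
  refine ⟨L, ?_, ?_⟩
  · refine ⟨fun x hx g => ?_⟩
    simp only [L, Subgroup.mem_iInf] at hx ⊢
    exact fun χ hχ => (charKer_normal (isCharacter_of_isIrr χ.2)).conj_mem x (hx χ hχ) g
  · ext x
    simp only [Subgroup.mem_subgroupOf, L, Subgroup.mem_iInf]
    refine ⟨fun hx => mem_of_forall_irr R fun θ hθ => ?_, fun hx χ hχ => hχ x hx⟩
    obtain ⟨χ, hχ⟩ := hext θ hθ
    rw [← hχ x, ← hχ 1]
    refine hx χ fun r hr => ?_
    rw [hχ r, hθ r hr, ← hχ 1]
    rfl

theorem map_commutator_le_commutator {A B : Type*} [Group A] [Group B] (f : A →* B) :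
    (commutator A).map f ≤ commutator B := by
  rw [commutator_def, commutator_def, Subgroup.map_commutator]
  exact Subgroup.commutator_mono le_top le_top

theorem exists_complement (P : Sylow p G)
    (hext : ∀ θ : Cfsg.IrrCharacter ↥(normalizer ((P : Subgroup G) : Set G)),
      ¬ p ∣ Cfsg.charDegree (θ : ↥(normalizer ((P : Subgroup G) : Set G)) → ℂ) →
      ∃ χ : Cfsg.IrrCharacter G, ∀ x : ↥(normalizer ((P : Subgroup G) : Set G)),
        (χ : G → ℂ) x = (θ : ↥(normalizer ((P : Subgroup G) : Set G)) → ℂ) x) :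
    ∃ K : Subgroup G, K.Normal ∧ K ⊔ normalizer ((P : Subgroup G) : Set G) = ⊤ ∧
      K ⊓ normalizer ((P : Subgroup G) : Set G) = ⊥ := by
  let N : Subgroup G := normalizer ((P : Subgroup G) : Set G)
  have hPN : (P : Subgroup G) ≤ N := Subgroup.le_normalizer
  let Q : Sylow p ↥N := P.subtype hPN
  have hQ : (Q : Subgroup ↥N) = (P : Subgroup G).subgroupOf N := rfl
  have : (Q : Subgroup ↥N).Normal := by rw [hQ]; exact Subgroup.normal_in_normalizer
  obtain ⟨L, hLn, hL⟩ := exists_kernel N (Q : Subgroup ↥N) fun θ hθ => hext θ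
    (not_dvd_degree Q θ fun r hr => hθ r (Subgroup.commutator_le_left _ _ hr))
  obtain ⟨J₀, hJn, hJ⟩ := exists_kernel N ⁅(Q : Subgroup ↥N), (Q : Subgroup ↥N)⁆ fun θ hθ =>
    hext θ (not_dvd_degree Q θ hθ)
  have hPL : (P : Subgroup G) ≤ L := fun x hx => by
    have h : (⟨x, hPN hx⟩ : ↥N) ∈ (Q : Subgroup ↥N) := hx
    rw [← hL] at h
    exact h
  have hNL : ∀ x ∈ L, x ∈ N → x ∈ (P : Subgroup G) := fun x hx hN => by
    have h : (⟨x, hN⟩ : ↥N) ∈ L.subgroupOf N := hx
    rw [hL] at h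
    exact h
  let S : Sylow p ↥L := P.subtype hPL
  have hS : ∀ x : ↥L, x ∈ (S : Subgroup ↥L) ↔ (x : G) ∈ (P : Subgroup G) := fun x => Iff.rfl
  have hself : normalizer ((S : Subgroup ↥L) : Set ↥L) ≤ (S : Subgroup ↥L) := by
    intro x hx
    refine (hS x).mpr (hNL x x.2 ?_)
    refine Subgroup.mem_normalizer_iff.mpr fun n => ⟨fun hn => ?_, fun hn => ?_⟩
    · exact (Subgroup.mem_normalizer_iff.mp hx ⟨n, hPL hn⟩).mp hn
    · have hnL : n ∈ L := by
        have h := hLn.conj_mem _ (hPL hn) (x : G)⁻¹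
        simpa [mul_assoc] using h
      exact (Subgroup.mem_normalizer_iff.mp hx ⟨n, hnL⟩).mpr hn
  let J : Subgroup ↥L := J₀.subgroupOf L
  have : J.Normal := hJn.subgroupOf L
  let π := QuotientGroup.mk' J
  have hπ : Function.Surjective π := QuotientGroup.mk'_surjective J
  let S' : Sylow p (↥L ⧸ J) := S.mapSurjective hπ
  have hS' : (S' : Subgroup (↥L ⧸ J)) = (S : Subgroup ↥L).map π := rfl
  have hab : ∀ a ∈ (S : Subgroup ↥L), ∀ b ∈ (S : Subgroup ↥L), π a * π b = π b * π a := by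
    intro a ha b hb
    rw [← map_mul, ← map_mul]
    refine QuotientGroup.eq_iff_div_mem.mpr ?_
    rw [show a * b / (b * a) = ⁅a, b⁆ by rw [commutatorElement_def, div_eq_mul_inv]; group]
    have h : (⁅(⟨a, hPN ((hS a).mp ha)⟩ : ↥N), ⟨b, hPN ((hS b).mp hb)⟩⁆ : ↥N) ∈
        ⁅(Q : Subgroup ↥N), (Q : Subgroup ↥N)⁆ :=
      Subgroup.commutator_mem_commutator ((hS a).mp ha) ((hS b).mp hb)
    rw [← hJ] at h
    exact h
  have hcen : normalizer ((S' : Subgroup (↥L ⧸ J)) : Set (↥L ⧸ J)) ≤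
      centralizer ((S' : Subgroup (↥L ⧸ J)) : Set (↥L ⧸ J)) := by
    intro x hx
    obtain ⟨n, rfl⟩ := hπ x
    have hn : n ∈ normalizer ((((S : Subgroup ↥L).map π).comap π : Subgroup ↥L) : Set ↥L) := by
      rw [← comap_normalizer_eq_of_surjective _ hπ]
      exact hx
    let M : Subgroup ↥L := ((S : Subgroup ↥L).map π).comap π
    have hSM : (S : Subgroup ↥L) ≤ M := Subgroup.le_comap_map _ _
    -- Frattini argument inside `normalizer M`
    let W : Subgroup ↥L := normalizer (M : Set ↥L)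
    have hMW : M ≤ W := Subgroup.le_normalizer
    let M' : Subgroup ↥W := M.subgroupOf W
    have : M'.Normal := Subgroup.normal_in_normalizer
    let T : Sylow p ↥M' := (S.subtype (hSM.trans hMW)).subtype (fun y hy => hSM hy)
    have htop := Sylow.normalizer_sup_eq_top T
    have hmem : (⟨n, hn⟩ : ↥W) ∈ ((normalizer ((T : Subgroup ↥M').map M'.subtype : Set ↥W) ⊔ M' :
        Subgroup ↥W) : Set ↥W) := by rw [htop]; exact Subgroup.mem_top _
    rw [Subgroup.mul_normal] at hmem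
    obtain ⟨u, hu, m, hm, hum⟩ := hmem
    have hu' : (u : ↥L) ∈ normalizer ((S : Subgroup ↥L) : Set ↥L) := by
      refine Subgroup.mem_normalizer_iff.mpr fun y => ⟨fun hy => ?_, fun hy => ?_⟩
      · have := (Subgroup.mem_normalizer_iff.mp hu ⟨y, hMW (hSM hy)⟩).mp
          ⟨⟨⟨y, hMW (hSM hy)⟩, hSM hy⟩, hy, rfl⟩
        obtain ⟨z, hz, hze⟩ := this
        rw [show (u : ↥L) * y * (u : ↥L)⁻¹ = ((z : ↥W) : ↥L) from (congrArg Subtype.val hze).symm]
        exact hz
      · have hyW : y ∈ W := by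
          have h := mul_mem (mul_mem (inv_mem u.2) (hMW (hSM hy))) u.2
          simpa [mul_assoc] using h
        have := (Subgroup.mem_normalizer_iff.mp hu ⟨y, hyW⟩).mpr
          ⟨⟨⟨_, hMW (hSM hy)⟩, hSM hy⟩, hy, rfl⟩
        obtain ⟨z, hz, hze⟩ := this
        rw [show y = ((z : ↥W) : ↥L) from (congrArg Subtype.val hze).symm]
        exact hz
    obtain ⟨a, ha, hae⟩ : π n ∈ (S : Subgroup ↥L).map π := by
      have e : n = (u : ↥L) * (m : ↥L) := (congrArg Subtype.val hum).symm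
      rw [e, map_mul]
      exact mul_mem ⟨_, hself hu', rfl⟩ hm
    rw [← hae]
    refine Subgroup.mem_centralizer_iff.mpr fun y hy => ?_
    obtain ⟨b, hb, rfl⟩ := hy
    exact hab b hb a ha
  have hker : (π.comp (pResidual p ↥L).subtype).range ≤
      (MonoidHom.transferSylow S' hcen).ker := by
    rintro _ ⟨x, rfl⟩
    have h : π x ∈ pResidual p (↥L ⧸ J) :=
      CfsgLib.Transfer.map_pResidual_le π ⟨x, x.2, rfl⟩
    exact CfsgLib.Transfer.pResidual_le_ker S'.2 _ h
  have hC := MonoidHom.ker_transferSylow_isComplement' S' hcen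
  have hnc : HasNormalPComplement p ↥L := by
    refine CfsgLib.Transfer.hasNormalPComplement_of_le_frattini S fun x hx => ?_
    obtain ⟨hxS, hxR⟩ := hx
    have h1 : π x ∈ (MonoidHom.transferSylow S' hcen).ker := hker ⟨⟨x, hxR⟩, rfl⟩
    have h2 : π x ∈ (S' : Subgroup (↥L ⧸ J)) := ⟨x, hxS, rfl⟩
    have h3 : π x = 1 := Subgroup.disjoint_def.mp hC.disjoint h1 h2
    have h4 : (x : G) ∈ J₀ := (QuotientGroup.eq_one_iff x).mp h3
    have h5 : (⟨x, hPN ((hS x).mp hxS)⟩ : ↥N) ∈ J₀.subgroupOf N := h4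
    rw [hJ] at h5
    let f : ↥(Q : Subgroup ↥N) →* ↥(S : Subgroup ↥L) :=
      { toFun := fun y => ⟨⟨((y : ↥N) : G), hPL y.2⟩, y.2⟩
        map_one' := rfl
        map_mul' := fun _ _ => rfl }
    have h6 : (⟨⟨x, hPN ((hS x).mp hxS)⟩, (hS x).mp hxS⟩ : ↥(Q : Subgroup ↥N)) ∈
        commutator ↥(Q : Subgroup ↥N) := by
      rw [← Subgroup.map_subtype_commutator] at h5
      obtain ⟨y, hy, hye⟩ := h5
      rw [show (⟨⟨x, hPN ((hS x).mp hxS)⟩, (hS x).mp hxS⟩ : ↥(Q : Subgroup ↥N)) = y from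
        Subtype.ext hye.symm]
      exact hy
    have h7 := Subgroup.mem_map_of_mem f h6
    exact ⟨f ⟨⟨x, hPN ((hS x).mp hxS)⟩, (hS x).mp hxS⟩,
      CfsgLib.PGroup.commutator_le_frattini S.2 (map_commutator_le_commutator f h7), rfl⟩
  have hchar : (pResidual p ↥L).Characteristic := CfsgLib.Transfer.pResidual_characteristic
  refine ⟨(pResidual p ↥L).map L.subtype, inferInstance, ?_, ?_⟩
  · have h1 := congrArg (Subgroup.map L.subtype) (CfsgLib.Transfer.pResidual_sup_sylow S)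
    rw [Subgroup.map_sup, ← MonoidHom.range_eq_map, Subgroup.range_subtype] at h1
    have hmapS : (S : Subgroup ↥L).map L.subtype ≤ N := by
      rintro _ ⟨y, hy, rfl⟩
      exact hPN hy
    rw [eq_top_iff]
    intro g _
    have htop := Sylow.normalizer_sup_eq_top S
    have hg : g ∈ normalizer (((S : Subgroup ↥L).map L.subtype : Subgroup G) : Set G) ⊔ L := by
      rw [htop]; exact Subgroup.mem_top g
    have hmapeq : (S : Subgroup ↥L).map L.subtype = (P : Subgroup G) := by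
      ext y
      exact ⟨fun ⟨z, hz, e⟩ => e ▸ hz, fun hy => ⟨⟨y, hPL hy⟩, hy, rfl⟩⟩
    rw [hmapeq] at hg
    refine (sup_le ?_ ?_ : normalizer ((P : Subgroup G) : Set G) ⊔ L ≤ _) hg
    · exact le_sup_right
    · exact h1.symm.le.trans (sup_le le_sup_left (hmapS.trans le_sup_right))
  · rw [eq_bot_iff]
    rintro _ ⟨⟨y, hy, rfl⟩, hN⟩
    have hyS : y ∈ (S : Subgroup ↥L) := hNL y y.2 hN
    have : y ∈ (S : Subgroup ↥L) ⊓ pResidual p ↥L := ⟨hyS, hy⟩
    rw [(CfsgLib.Transfer.hasNormalPComplement_iff_inf_sylow S).mp hnc, Subgroup.mem_bot] at this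
    simp [this]

/-- Let G be a finite group, p a prime and P a Sylow p-subgroup of G with normalizer N. Then every irreducible complex character of N of degree not divisible by p is the restriction of an irreducible character of G if and only if there is a normal subgroup K of G with KN = G and K ∩ N = 1. -/
theorem result {G : Type*} [Group G] [Finite G] (p : ℕ) [Fact p.Prime] (P : Sylow p G) :
    (∀ θ : Cfsg.IrrCharacter ↥(Subgroup.normalizer ((P : Subgroup G) : Set G)), ¬ p ∣ Cfsg.charDegree (θ : ↥(Subgroup.normalizer ((P : Subgroup G) : Set G)) → ℂ) →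
        ∃ χ : Cfsg.IrrCharacter G, ∀ x : ↥(Subgroup.normalizer ((P : Subgroup G) : Set G)), (χ : G → ℂ) x = (θ : ↥(Subgroup.normalizer ((P : Subgroup G) : Set G)) → ℂ) x) ↔
      ∃ K : Subgroup G, K.Normal ∧ K ⊔ Subgroup.normalizer ((P : Subgroup G) : Set G) = ⊤ ∧ K ⊓ Subgroup.normalizer ((P : Subgroup G) : Set G) = ⊥ := by
  refine ⟨exists_complement P, ?_⟩
  rintro ⟨K, hK, h1, h2⟩ θ _
  exact exists_extension_of_complement h1 h2 θ.2

end Cfsg.Agent.S4931
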