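import Cfsg.Statements.S4937
import Cfsg.Agent.Lib.Modular.NormalBlocks
import Cfsg.Agent.Lib.Blocks.Covering
import Cfsg.Agent.Lib.CharNormal.Gallagher
import Cfsg.Agent.Lib.CharNormal.Linear
import Cfsg.Agent.Lib.Char.Restrict
import Cfsg.Agent.Lib.Invol.TransferPow

set_option autoImplicit false
open Cfsg

namespace Cfsg.Agent.S4937

open CfsgLib.Char CfsgLib.CharNormal CfsgLib.Blocks
open scoped ComplexConjugate

attribute [local instance] Ideal.Quotient.field

section residue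

variable (M : Ideal AlgInt) [M.IsMaximal]

open Classical in
/-- Residue of an algebraic integer, zero otherwise. -/
noncomputable def R (z : ℂ) : Res M :=
  if h : IsIntegral ℤ z then Ideal.Quotient.mk M (⟨z, h⟩ : AlgInt) else 0

variable {M}

theorem R_of {z : ℂ} (h : IsIntegral ℤ z) : R M z = Ideal.Quotient.mk M (⟨z, h⟩ : AlgInt) :=
  dif_pos h

theorem R_coe (a : AlgInt) : R M (a : ℂ) = Ideal.Quotient.mk M a := R_of a.2

theorem R_mul {z w : ℂ} (hz : IsIntegral ℤ z) (hw : IsIntegral ℤ w) : R M (z * w) = R M z * R M w := by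
  rw [R_of hz, R_of hw, ← map_mul, ← R_coe]; rfl

theorem R_natCast (n : ℕ) : R M (n : ℂ) = (n : Res M) := by
  rw [show (n : ℂ) = ((n : AlgInt) : ℂ) by simp, R_coe, map_natCast]

theorem R_one : R M 1 = 1 := by simpa using R_natCast (M := M) 1

theorem R_pow {z : ℂ} (hz : IsIntegral ℤ z) (n : ℕ) : R M (z ^ n) = R M z ^ n := by
  induction n with
  | zero => rw [pow_zero, pow_zero, R_one]
  | succ n ih => rw [pow_succ, pow_succ, R_mul (hz.pow n) hz, ih]

theorem R_eq_iff {z w : ℂ} (hz : IsIntegral ℤ z) (hw : IsIntegral ℤ w) :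
    MemLocalIdeal M (z - w) ↔ R M z = R M w := by
  rw [memLocalIdeal_intInt_iff M (hz.sub hw), R_of hz, R_of hw, Ideal.Quotient.eq]
  exact Iff.rfl

theorem R_root_inj {p m : ℕ} (hM : IsPModular p M) (hm : ¬ p ∣ m) {a b : ℂ} (ha : a ^ m = 1)
    (hb : b ^ m = 1) (h : R M a = R M b) : a = b := by
  have hm0 : 0 < m := Nat.pos_of_ne_zero fun h0 => hm (h0 ▸ dvd_zero p)
  have hia : IsIntegral ℤ a := IsIntegral.of_pow hm0 (ha.symm ▸ isIntegral_one)
  have hib : IsIntegral ℤ b := IsIntegral.of_pow hm0 (hb.symm ▸ isIntegral_one)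
  rw [R_of hia, R_of hib, Ideal.Quotient.eq] at h
  exact congrArg Subtype.val (rootOfUnity_eq_of_sub_mem M hM hm ha hb h)

end residue

theorem int_of_linear {A : Type*} [Group A] [Finite A] {b : A → ℂ} (hb : IsCharacter A b) (x : A) :
    IsIntegral ℤ (b x) :=
  char_isIntegral hb x

theorem centralizer_subgroupOf {G : Type*} [Group G] (J : Subgroup G) (x : J) :
    (Subgroup.centralizer ({x} : Set J)).index =
      (Subgroup.centralizer ({(x : G)} : Set G)).relIndex J := by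
  rw [Subgroup.relIndex]
  congr 1
  ext y
  simp only [Subgroup.mem_subgroupOf, Subgroup.mem_centralizer_singleton_iff, Subtype.ext_iff,
    Subgroup.coe_mul]

theorem relIndex_sup_eq {G : Type*} [Group G] [Finite G] {N H C : Subgroup G} [N.Normal] (h : H ≤ C) :
    C.relIndex (H ⊔ N) = C.relIndex N := by
  set J := H ⊔ N with hJ
  set D := C ⊓ J with hD
  have hNJ : N ≤ J := le_sup_right
  have hDJ : D ≤ J := inf_le_right
  have hsup : D ⊔ N = J := le_antisymm (sup_le hDJ hNJ) (sup_le_sup_right (le_inf h le_sup_left) N)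
  have hND : N ⊓ D = C ⊓ N := by
    rw [hD]
    exact le_antisymm (le_inf (inf_le_right.trans inf_le_left) inf_le_left)
      (le_inf inf_le_right (le_inf inf_le_left (inf_le_right.trans hNJ)))
  have h1 : (C ⊓ N).relIndex D * D.relIndex J = (C ⊓ N).relIndex N * N.relIndex J := by
    rw [Subgroup.relIndex_mul_relIndex _ _ _ (hND ▸ inf_le_right) hDJ,
      Subgroup.relIndex_mul_relIndex _ _ _ inf_le_right hNJ]
  have h2 : N.relIndex J = (C ⊓ N).relIndex D := by
    rw [← hsup, Subgroup.relIndex_sup_right, ← Subgroup.inf_relIndex_right N D, hND]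
  rw [h2, mul_comm ((C ⊓ N).relIndex N)] at h1
  have h3 := Nat.eq_of_mul_eq_mul_left (Nat.pos_of_ne_zero (Subgroup.index_ne_zero_of_finite : ((C ⊓ N).subgroupOf D).index ≠ 0)) h1
  rw [hD, Subgroup.inf_relIndex_right, Subgroup.inf_relIndex_right] at h3
  exact h3

theorem relIndex_dvd_of_normal {G : Type*} [Group G] [Finite G] {N C J : Subgroup G} [N.Normal] (hNJ : N ≤ J) :
    C.relIndex N ∣ C.relIndex J := by
  have h1 := relIndex_sup_eq (N := N) (H := C ⊓ J) (C := C) inf_le_left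
  have h2 : C.relIndex J = (C ⊓ J).relIndex J := (Subgroup.inf_relIndex_right C J).symm
  rw [h2, ← Subgroup.relIndex_mul_relIndex (C ⊓ J) (C ⊓ J ⊔ N) J le_sup_left (sup_le inf_le_right hNJ),
    ← h1, ← Subgroup.inf_relIndex_right C (C ⊓ J ⊔ N)]
  refine Dvd.dvd.mul_right (dvd_of_eq ?_) _
  congr 1
  exact le_antisymm (le_inf (inf_le_left.trans' le_rfl |>.trans le_rfl) (inf_le_right.trans (sup_le inf_le_right hNJ)))
    (le_inf inf_le_left le_sup_left)

/-- Blocks below a principal block. -/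
theorem down {A : Type*} [Group A] [Fintype A] {M : Ideal AlgInt} [M.IsMaximal] {K : Subgroup A}
    [K.Normal] [Fintype K] {h : A → ℂ} (hh : IsIrrCharacter A h)
    (hb : SameBlock M (fun _ : A => (1 : ℂ)) h) {ν : K → ℂ} (hν : IsIrrCharacter K ν)
    (hne : classInner (fun k : K => h k) ν ≠ 0) : SameBlock M (fun _ : K => (1 : ℂ)) ν := by
  have h1 : classInner (fun k : K => ((irrOne : IrrCharacter A) : A → ℂ) k)
      ((irrOne : IrrCharacter K) : K → ℂ) ≠ 0 :=
    classInner_res_one_ne_zero (irrOne : IrrCharacter A).2 fun n _ => rfl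
  obtain ⟨g, hg⟩ := exists_conj_sameBlock_of_congr (M := M) hh (θ := ⟨ν, hν⟩) hne
    (θ' := irrOne) fun n => by
      rw [← centralChar_eq_icc_of_over (irrOne : IrrCharacter A).2 h1 n.2]
      exact ((sameBlock_iff ⟨h, hh⟩ irrOne).2 ((sameBlock_iff irrOne ⟨h, hh⟩).1 hb).symm) n
  have h2 := sameBlock_conjFun hg g⁻¹
  rw [conjFun_conjFun, mul_inv_cancel, conjFun_one] at h2
  have h3 : conjFun K g⁻¹ ((irrOne : IrrCharacter K) : K → ℂ) = fun _ => 1 := rfl
  rw [h3] at h2
  exact (sameBlock_iff irrOne ⟨ν, hν⟩).2 ((sameBlock_iff ⟨ν, hν⟩ irrOne).1 h2).symm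

section main

variable {G : Type*} [Group G] [Fintype G] {M : Ideal AlgInt} [M.IsMaximal]
  {N : Subgroup G} [N.Normal] {ψ : G → ℂ}

/-- `b` is a character of `J/N` sending `ψ` into the principal block. -/
def Ext (M : Ideal AlgInt) (N : Subgroup G) [N.Normal] (ψ : G → ℂ) (J : Subgroup G) (b : J → ℂ) : Prop :=
  ∃ β : J ⧸ N.subgroupOf J → ℂ, IsIrrCharacter (J ⧸ N.subgroupOf J) β ∧ b = β ∘ QuotientGroup.mk ∧
    SameBlock M (fun _ : J => (1 : ℂ)) ((fun x : J => ψ x) * b)

theorem res_irr_mid (hψ : IsIrrCharacter G ψ) (hN : IsIrrCharacter N (fun x : N => ψ x)) {J : Subgroup G}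
    (hNJ : N ≤ J) : IsIrrCharacter J (fun x : J => ψ x) :=
  isIrr_res_mid hNJ (isCharacter_of_isIrr hψ) hN

theorem res_irr_sub (hN : IsIrrCharacter N (fun x : N => ψ x)) {J : Subgroup G} (hNJ : N ≤ J) :
    IsIrrCharacter (N.subgroupOf J) (fun x : N.subgroupOf J => ψ ((x : J) : G)) := by
  classical
  exact isIrr_comp_mulEquiv hN (Subgroup.subgroupOfEquivOfLe hNJ)

theorem exists_ext {p : ℕ} (hM : IsPModular p M) (hψ : IsIrrCharacter G ψ)
    (hN : IsIrrCharacter N (fun x : N => ψ x))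
    (hθ : SameBlock M (fun _ : N => (1 : ℂ)) (fun x : N => ψ x)) {J : Subgroup G} (hNJ : N ≤ J) :
    ∃ b, Ext M N ψ J b := by
  classical
  have hres := res_irr_sub hN hNJ
  let e := Subgroup.subgroupOfEquivOfLe hNJ
  have hθ' : (⟨_, hres⟩ : IrrCharacter (N.subgroupOf J)) ∈
      blockOf M ((irrOne : IrrCharacter (N.subgroupOf J)) : N.subgroupOf J → ℂ) :=
    sameBlock_comp_mulEquiv M e hθ
  obtain ⟨χ, hχ, hne⟩ := CfsgLib.Modular.exists_over_of_covered (N.subgroupOf J) (B := blockOf M ((irrOne : IrrCharacter J) : J → ℂ))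
    hM (⟨irrOne, rfl⟩ : IsPBlock M (blockOf M ((irrOne : IrrCharacter J) : J → ℂ))) hθ' (mem_blockOf_self irrOne)
    (classInner_res_one_ne_zero (irrOne : IrrCharacter J).2 fun n _ => rfl)
  obtain ⟨β, hβ, he⟩ := exists_eq_mul_comp_mk' (N.subgroupOf J)
    (isCharacter_of_isIrr (res_irr_mid hψ hN hNJ)) hres χ.2 hne
  exact ⟨_, β, hβ, rfl, he ▸ hχ⟩

theorem ext_isChar {J : Subgroup G} {b : J → ℂ} (hb : Ext M N ψ J b) : IsCharacter J b := by
  obtain ⟨β, hβ, rfl, -⟩ := hb
  exact isCharacter_comp_mk' _ (isCharacter_of_isIrr hβ)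

theorem ext_one_on_N {J : Subgroup G} {b : J → ℂ} (hb : Ext M N ψ J b) (x : J) (hx : (x : G) ∈ N) :
    b x = b 1 := by
  obtain ⟨β, hβ, rfl, -⟩ := hb
  simp only [Function.comp_apply]
  rw [(QuotientGroup.eq_one_iff x).2 (Subgroup.mem_subgroupOf.2 hx), QuotientGroup.mk_one]

/-- The congruence carried by a linear twist. -/
theorem ext_key (hψ : IsIrrCharacter G ψ) (hN : IsIrrCharacter N (fun x : N => ψ x)) {J : Subgroup G}
    (hNJ : N ≤ J) {b : J → ℂ} (hb : Ext M N ψ J b) (h1 : b 1 = 1) (x : J) :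
    R M (b x) * R M (centralChar (fun y : J => ψ y) x) =
      ((Subgroup.centralizer ({(x : G)} : Set G)).relIndex J : Res M) := by
  classical
  have hbc := ext_isChar hb
  have hi := res_irr_mid hψ hN hNJ
  have hirr : IsIrrCharacter J ((fun y : J => ψ y) * b) := isIrr_mul_linear hi hbc h1
  obtain ⟨β, hβ, -, hsb⟩ := hb
  have e1 : centralChar (fun _ : J => (1 : ℂ)) x =
      ((Subgroup.centralizer ({(x : G)} : Set G)).relIndex J : ℂ) := by
    rw [centralChar, centralizer_subgroupOf]; simp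
  have e2 : centralChar ((fun y : J => ψ y) * b) x = b x * centralChar (fun y : J => ψ y) x := by
    simp only [centralChar, Pi.mul_apply, h1, mul_one]; ring
  rw [← R_natCast, ← R_mul (int_of_linear hbc x) (isIntegral_centralChar hi x), ← e2, ← e1]
  refine ((R_eq_iff ?_ (isIntegral_centralChar hirr x)).1 (hsb x)).symm
  rw [e1]
  exact isIntegral_natCast _

theorem ext_res (hψ : IsIrrCharacter G ψ) (hN : IsIrrCharacter N (fun x : N => ψ x)) {K J : Subgroup G}
    (hNK : N ≤ K) (hKJ : K ≤ J) (hn : (K.subgroupOf J).Normal) {b : J → ℂ} (hb : Ext M N ψ J b) :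
    ∃ m : IrrCharacter (K ⧸ N.subgroupOf K) → ℕ,
      (∀ x : K, b (Subgroup.inclusion hKJ x) = ∑ ν, (m ν : ℂ) * (ν : K ⧸ N.subgroupOf K → ℂ) (x : K ⧸ N.subgroupOf K)) ∧
      ∀ ν, m ν ≠ 0 → Ext M N ψ K ((ν : K ⧸ N.subgroupOf K → ℂ) ∘ QuotientGroup.mk) := by
  classical
  obtain ⟨β, hβ, rfl, hsb⟩ := hb
  let π : K ⧸ N.subgroupOf K →* J ⧸ N.subgroupOf J :=
    QuotientGroup.map _ _ (Subgroup.inclusion hKJ) (fun x hx => hx)
  obtain ⟨m, hm, hmi⟩ := char_decomp (isCharacter_comp (isCharacter_of_isIrr hβ) π)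
  refine ⟨m, fun x => ?_, fun ν hν => ⟨(ν : K ⧸ N.subgroupOf K → ℂ), ν.2, rfl, ?_⟩⟩
  · have h := congrFun hm (x : K ⧸ N.subgroupOf K)
    simp only [Finset.sum_apply, Pi.smul_apply, smul_eq_mul] at h
    exact h
  have hirrK : IsIrrCharacter K ((fun x : K => ψ x) * ((ν : K ⧸ N.subgroupOf K → ℂ) ∘ QuotientGroup.mk)) :=
    isIrr_mul_comp_mk' _ (isCharacter_of_isIrr (res_irr_mid hψ hN hNK)) (res_irr_sub hN hNK) ν.2
  have hirrJ : IsIrrCharacter J ((fun x : J => ψ x) * (β ∘ QuotientGroup.mk)) :=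
    isIrr_mul_comp_mk' _ (isCharacter_of_isIrr (res_irr_mid hψ hN (hNK.trans hKJ))) (res_irr_sub hN (hNK.trans hKJ)) hβ
  let e := Subgroup.subgroupOfEquivOfLe hKJ
  have hirr' := isIrr_comp_mulEquiv hirrK e
  have hinner : classInner (fun k : K.subgroupOf J => ((fun x : J => ψ x) * (β ∘ QuotientGroup.mk)) k)
      (((fun x : K => ψ x) * ((ν : K ⧸ N.subgroupOf K → ℂ) ∘ QuotientGroup.mk)) ∘ e) = (m ν : ℂ) := by
    rw [← hmi ν, ← classInner_mul_mul_comp_mk' (N.subgroupOf K)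
      (isCharacter_of_isIrr (res_irr_mid hψ hN hNK)) (res_irr_sub hN hNK), classInner_def, classInner_def,
      Nat.card_congr e.toEquiv]
    congr 1
    exact Fintype.sum_equiv e.toEquiv _ _ fun k => rfl
  have h := down (K := K.subgroupOf J) hirrJ hsb hirr' (by rw [hinner]; exact_mod_cast hν)
  have h2 := sameBlock_comp_mulEquiv M e.symm h
  rw [Function.comp_assoc, MulEquiv.self_comp_symm, Function.comp_id] at h2
  exact h2

theorem linear_res (hψ : IsIrrCharacter G ψ) (hN : IsIrrCharacter N (fun x : N => ψ x)) {K J : Subgroup G}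
    (hNK : N ≤ K) (hKJ : K ≤ J) (hn : (K.subgroupOf J).Normal) {b : J → ℂ} (hb : Ext M N ψ J b)
    (h1 : b 1 = 1) : Ext M N ψ K (fun x => b (Subgroup.inclusion hKJ x)) := by
  classical
  obtain ⟨m, hm, hext⟩ := ext_res hψ hN hNK hKJ hn hb
  obtain ⟨β, hβ, rfl, -⟩ := hb
  let π : K ⧸ N.subgroupOf K →* J ⧸ N.subgroupOf J :=
    QuotientGroup.map _ _ (Subgroup.inclusion hKJ) (fun x hx => hx)
  have hlin : IsIrrCharacter (K ⧸ N.subgroupOf K) (β ∘ π) :=
    isIrr_of_linear (isCharacter_comp (isCharacter_of_isIrr hβ) π) (by simpa using h1)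
  have hfun : β ∘ π = ∑ ν, (m ν : ℂ) • (ν : _ → ℂ) := by
    funext q
    obtain ⟨x, rfl⟩ := QuotientGroup.mk_surjective q
    simp only [Function.comp_apply, Finset.sum_apply, Pi.smul_apply, smul_eq_mul]
    exact hm x
  have hmν : m ⟨_, hlin⟩ = 1 := by
    have h := classInner_irr_self hlin
    nth_rw 1 [hfun] at h
    rw [classInner_sum_left] at h
    simp only [classInner_smul_left] at h
    rw [Finset.sum_eq_single (⟨_, hlin⟩ : IrrCharacter _)] at h
    · rw [classInner_irr_self hlin, mul_one] at h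
      exact_mod_cast h
    · intro ν _ hne
      rw [classInner_irr_ne ν.2 hlin (fun e => hne (Subtype.ext e)), mul_zero]
    · simp
  exact hext ⟨_, hlin⟩ (by omega)

theorem comm_of_sup_zpowers (z : G) {J : Subgroup G} (hJ : J = Subgroup.zpowers z ⊔ N)
    (a b : J ⧸ N.subgroupOf J) : a * b = b * a := by
  subst hJ
  have hz : z ∈ Subgroup.zpowers z ⊔ N := Subgroup.mem_sup_left (Subgroup.mem_zpowers z)
  have key : ∀ q : (Subgroup.zpowers z ⊔ N : Subgroup G) ⧸ N.subgroupOf _,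
      q ∈ Subgroup.zpowers (QuotientGroup.mk (⟨z, hz⟩ : (Subgroup.zpowers z ⊔ N : Subgroup G))) := by
    intro q
    obtain ⟨⟨x, hx⟩, rfl⟩ := QuotientGroup.mk_surjective q
    obtain ⟨y, hy, n, hn, rfl⟩ := Subgroup.mem_sup_of_normal_right.1 hx
    obtain ⟨i, rfl⟩ := Subgroup.mem_zpowers_iff.1 hy
    refine ⟨i, ?_⟩
    simp only
    rw [← QuotientGroup.mk_zpow, QuotientGroup.eq, Subgroup.mem_subgroupOf]
    simpa using hn
  obtain ⟨i, rfl⟩ := key a
  obtain ⟨j, rfl⟩ := key b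
  exact ((Commute.refl _).zpow_zpow i j).eq

theorem cyclic_linear (z : G) {J : Subgroup G} (hJ : J = Subgroup.zpowers z ⊔ N) {b : J → ℂ}
    (hb : Ext M N ψ J b) : b 1 = 1 := by
  obtain ⟨β, hβ, rfl, -⟩ := hb
  simpa using irr_one_of_comm (comm_of_sup_zpowers z hJ) hβ

theorem normal_of_comm {K J : Subgroup G} (hNK : N ≤ K)
    (h : ∀ a b : J ⧸ N.subgroupOf J, a * b = b * a) : (K.subgroupOf J).Normal := by
  refine ⟨fun k hk x => ?_⟩
  rw [Subgroup.mem_subgroupOf] at hk ⊢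
  have h1 : (QuotientGroup.mk (x * k * x⁻¹ * k⁻¹) : J ⧸ N.subgroupOf J) = 1 := by
    simp only [QuotientGroup.mk_mul, QuotientGroup.mk_inv]
    rw [h (x : J ⧸ N.subgroupOf J) k, mul_inv_cancel_right, mul_inv_cancel]
  have h2 := hNK (Subgroup.mem_subgroupOf.1 ((QuotientGroup.eq_one_iff _).1 h1))
  have h3 := K.mul_mem h2 hk
  rw [← Subgroup.coe_mul, inv_mul_cancel_right] at h3
  exact h3

variable (M N ψ) in
/-- The residue to be interpolated. -/
noncomputable def fval (z : G) : Res M :=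
  open Classical in
  if h : ∃ b, Ext M N ψ (Subgroup.zpowers z ⊔ N) b then
    R M (h.choose ⟨z, Subgroup.mem_sup_left (Subgroup.mem_zpowers z)⟩)
  else 0

variable {p : ℕ} {C : Subgroup G}

/-- The standing hypotheses. -/
structure Hyp (M : Ideal AlgInt) (N : Subgroup G) [N.Normal] (ψ : G → ℂ) (p : ℕ) (C : Subgroup G) : Prop where
  hM : IsPModular p M
  hψ : IsIrrCharacter G ψ
  hN : IsIrrCharacter N (fun x : N => ψ x)
  hθ : SameBlock M (fun _ : N => (1 : ℂ)) (fun x : N => ψ x)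
  hsup : ∀ z : G, ∃ n ∈ N, ∃ y ∈ C, n * y = z
  hidx : ∀ y ∈ C, ¬ p ∣ (Subgroup.centralizer ({y} : Set G)).relIndex N

theorem sup_zpowers_congr {y z : G} (h : z * y⁻¹ ∈ N) :
    Subgroup.zpowers z ⊔ N = Subgroup.zpowers y ⊔ N := by
  have key : ∀ a b : G, a * b⁻¹ ∈ N → Subgroup.zpowers a ⊔ N ≤ Subgroup.zpowers b ⊔ N := by
    intro a b hab
    refine sup_le (Subgroup.zpowers_le.2 ?_) le_sup_right
    rw [← inv_mul_cancel_right a b]
    exact Subgroup.mul_mem _ (Subgroup.mem_sup_right hab) (Subgroup.mem_sup_left (Subgroup.mem_zpowers b))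
  exact le_antisymm (key z y h) (key y z (by simpa using N.inv_mem h))

theorem ext_lin_mul {J : Subgroup G} {b : J → ℂ} (hb : Ext M N ψ J b) (h1 : b 1 = 1) (x y : J) :
    b (x * y) = b x * b y :=
  linear_map_mul (ext_isChar hb) h1 x y

theorem ext_congr {J : Subgroup G} {b : J → ℂ} (hb : Ext M N ψ J b) (h1 : b 1 = 1) {x y : J}
    (h : (x : G) * (y : G)⁻¹ ∈ N) : b x = b y := by
  have h2 := ext_lin_mul hb h1 (x * y⁻¹) y
  rw [inv_mul_cancel_right, ext_one_on_N hb (x * y⁻¹) (by simpa using h), h1, one_mul] at h2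
  exact h2

/-- Twists are determined modulo `M`. -/
theorem uniq (H : Hyp M N ψ p C) (z : G) {b b' : (Subgroup.zpowers z ⊔ N : Subgroup G) → ℂ}
    (hb : Ext M N ψ _ b) (hb' : Ext M N ψ _ b') (w : (Subgroup.zpowers z ⊔ N : Subgroup G))
    (hw : (w : G) = z) : R M (b w) = R M (b' w) := by
  obtain ⟨n, hn, y, hy, hny⟩ := H.hsup z
  have hzy : z * y⁻¹ ∈ N := by rw [← hny, mul_inv_cancel_right]; exact hn
  have hJ := sup_zpowers_congr hzy
  have hyJ : y ∈ Subgroup.zpowers z ⊔ N := hJ ▸ Subgroup.mem_sup_left (Subgroup.mem_zpowers y)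
  have hne : ((Subgroup.centralizer ({y} : Set G)).relIndex (Subgroup.zpowers z ⊔ N) : Res M) ≠ 0 := by
    have : CharP (Res M) p := res_charP M H.hM
    rw [Ne, CharP.cast_eq_zero_iff (Res M) p, hJ, relIndex_sup_eq (Subgroup.zpowers_le.2
      (Subgroup.mem_centralizer_singleton_iff.2 rfl))]
    exact H.hidx y hy
  have h1 := cyclic_linear z rfl hb
  have h1' := cyclic_linear z rfl hb'
  have k := ext_key H.hψ H.hN le_sup_right hb h1 ⟨y, hyJ⟩
  have k' := ext_key H.hψ H.hN le_sup_right hb' h1' ⟨y, hyJ⟩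
  rw [ext_congr hb h1 (x := w) (y := ⟨y, hyJ⟩) (by rw [hw]; exact hzy),
    ext_congr hb' h1' (x := w) (y := ⟨y, hyJ⟩) (by rw [hw]; exact hzy)]
  refine mul_right_cancel₀ (b := R M (centralChar (fun u : (Subgroup.zpowers z ⊔ N : Subgroup G) => ψ u) ⟨y, hyJ⟩)) ?_ (k.trans k'.symm)
  intro h0
  rw [h0, mul_zero] at k
  exact hne k.symm

/-- Every linear twist takes the values `fval`. -/
theorem value_eq (H : Hyp M N ψ p C) {J : Subgroup G} (hNJ : N ≤ J) {b : J → ℂ} (hb : Ext M N ψ J b)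
    (h1 : b 1 = 1) (x : J) (hn : ((Subgroup.zpowers (x : G) ⊔ N).subgroupOf J).Normal) :
    R M (b x) = fval M N ψ (x : G) := by
  have hle : Subgroup.zpowers (x : G) ⊔ N ≤ J := sup_le (Subgroup.zpowers_le.2 x.2) hNJ
  have hex := exists_ext H.hM H.hψ H.hN H.hθ (J := Subgroup.zpowers (x : G) ⊔ N) le_sup_right
  rw [fval, dif_pos hex, uniq H (x : G) hex.choose_spec (linear_res H.hψ H.hN le_sup_right hle hn hb h1) _ rfl]
  rfl

theorem exists_cyclic (H : Hyp M N ψ p C) (z : G) :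
    ∃ b : (Subgroup.zpowers z ⊔ N : Subgroup G) → ℂ, Ext M N ψ _ b ∧ b 1 = 1 ∧
      ∀ x, R M (b x) = fval M N ψ (x : G) := by
  obtain ⟨b, hb⟩ := exists_ext H.hM H.hψ H.hN H.hθ (J := Subgroup.zpowers z ⊔ N) le_sup_right
  exact ⟨b, hb, cyclic_linear z rfl hb, fun x => value_eq H le_sup_right hb (cyclic_linear z rfl hb) x
    (normal_of_comm le_sup_right (comm_of_sup_zpowers z rfl))⟩

theorem fval_congr (H : Hyp M N ψ p C) {y z : G} (h : z * y⁻¹ ∈ N) :
    fval M N ψ z = fval M N ψ y := by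
  obtain ⟨b, hb, h1, hv⟩ := exists_cyclic H z
  have hy : y ∈ Subgroup.zpowers z ⊔ N :=
    (sup_zpowers_congr h) ▸ Subgroup.mem_sup_left (Subgroup.mem_zpowers y)
  have hz : z ∈ Subgroup.zpowers z ⊔ N := Subgroup.mem_sup_left (Subgroup.mem_zpowers z)
  rw [← hv ⟨z, hz⟩, ← hv ⟨y, hy⟩, ext_congr hb h1 (x := ⟨z, hz⟩) (y := ⟨y, hy⟩) h]

theorem fval_pow (H : Hyp M N ψ p C) (z : G) (k : ℕ) : fval M N ψ (z ^ k) = fval M N ψ z ^ k := by
  obtain ⟨b, hb, h1, hv⟩ := exists_cyclic H z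
  let w : (Subgroup.zpowers z ⊔ N : Subgroup G) := ⟨z, Subgroup.mem_sup_left (Subgroup.mem_zpowers z)⟩
  rw [show z ^ k = ((w ^ k : (Subgroup.zpowers z ⊔ N : Subgroup G)) : G) from rfl, ← hv, ← hv w]
  induction k with
  | zero => rw [pow_zero, pow_zero, h1, R_one]
  | succ k ih => rw [pow_succ, pow_succ, ext_lin_mul hb h1, R_mul (int_of_linear (ext_isChar hb) _)
      (int_of_linear (ext_isChar hb) _), ih]

theorem fval_of_mem (H : Hyp M N ψ p C) {z : G} (hz : z ∈ N) : fval M N ψ z = 1 := by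
  rw [fval_congr H (y := 1) (by simpa using hz)]
  simpa using fval_pow H (1 : G) 0

theorem fval_conj (H : Hyp M N ψ p C) (c z : G) : fval M N ψ (c * z * c⁻¹) = fval M N ψ z := by
  obtain ⟨n, hn, y, hy, rfl⟩ := H.hsup z
  obtain ⟨n', hn', d, hd, rfl⟩ := H.hsup c
  rw [fval_congr H (z := n * y) (y := y) (by rw [mul_inv_cancel_right]; exact hn),
    fval_congr H (z := n' * d * (n * y) * (n' * d)⁻¹) (y := d * y * d⁻¹) (by
      rw [← QuotientGroup.eq_one_iff]
      simp [(QuotientGroup.eq_one_iff n).2 hn, (QuotientGroup.eq_one_iff n').2 hn', mul_assoc])]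
  set y' := d * y * d⁻¹ with hy'def
  have hy' : y' ∈ C := C.mul_mem (C.mul_mem hd hy) (C.inv_mem hd)
  have key : ∀ u : G, u ∈ C → fval M N ψ u *
      R M ((((Subgroup.centralizer ({u} : Set G)).relIndex N : ℕ) : ℂ) * ψ u / ψ 1) =
        ((Subgroup.centralizer ({u} : Set G)).relIndex N : Res M) := by
    intro u hu
    obtain ⟨b, hb, h1, hv⟩ := exists_cyclic H u
    have huJ : u ∈ Subgroup.zpowers u ⊔ N := Subgroup.mem_sup_left (Subgroup.mem_zpowers u)
    have k := ext_key H.hψ H.hN le_sup_right hb h1 ⟨u, huJ⟩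
    have hr := relIndex_sup_eq (N := N) (Subgroup.zpowers_le.2
      (Subgroup.mem_centralizer_singleton_iff.2 (rfl : u * u = u * u)))
    rw [hv, centralChar, centralizer_subgroupOf, hr] at k
    exact k
  have hidxeq : (Subgroup.centralizer ({y'} : Set G)).relIndex N =
      (Subgroup.centralizer ({y} : Set G)).relIndex N := by
    have hmap : ∀ A : Subgroup G, A.map (MulAut.conj d).toMonoidHom = A.comap (MulAut.conj d⁻¹).toMonoidHom :=
      fun A => by
        ext x
        rw [Subgroup.mem_map_equiv, Subgroup.mem_comap]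
        simp
    have h1 : (Subgroup.centralizer ({y} : Set G)).map (MulAut.conj d).toMonoidHom =
        Subgroup.centralizer ({y'} : Set G) := by
      rw [hmap]
      ext x
      simp only [Subgroup.mem_comap, Subgroup.mem_centralizer_singleton_iff, MulEquiv.coe_toMonoidHom,
        MulAut.conj_apply, inv_inv, hy'def]
      constructor <;> intro h
      · have := congrArg (fun t => d * t * d⁻¹) h
        simpa [mul_assoc] using this
      · have := congrArg (fun t => d⁻¹ * t * d) h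
        simpa [mul_assoc] using this
    have h2 : N.map (MulAut.conj d).toMonoidHom = N := by
      rw [hmap]
      ext x
      simp only [Subgroup.mem_comap, MulEquiv.coe_toMonoidHom, MulAut.conj_apply, inv_inv]
      exact ⟨fun h => by simpa [mul_assoc] using ‹N.Normal›.conj_mem _ h d,
        fun h => by simpa [mul_assoc] using ‹N.Normal›.conj_mem _ h d⁻¹⟩
    rw [← h1]
    conv_lhs => rw [← h2]
    exact Subgroup.relIndex_map_map_of_injective _ _ (MulAut.conj d).injective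
  have k := key y hy
  have k' := key y' hy'
  rw [hidxeq, show ψ y' = ψ y from isClassFunction_of_isIrr H.hψ y d] at k'
  refine mul_right_cancel₀ (b := R M ((((Subgroup.centralizer ({y} : Set G)).relIndex N : ℕ) : ℂ) * ψ y / ψ 1))
    ?_ (k'.trans k.symm)
  intro h0
  rw [h0, mul_zero] at k
  have : CharP (Res M) p := res_charP M H.hM
  exact H.hidx y hy ((CharP.cast_eq_zero_iff (Res M) p _).1 k.symm)

theorem linear_pow {J : Subgroup G} {b : J → ℂ} (hb : Ext M N ψ J b) (h1 : b 1 = 1) (x : J) :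
    b x ^ N.relIndex J = 1 := by
  have h : ∀ k : ℕ, b (x ^ k) = b x ^ k := fun k => by
    induction k with
    | zero => rw [pow_zero, pow_zero, h1]
    | succ k ih => rw [pow_succ, pow_succ, ext_lin_mul hb h1, ih]
  rw [← h, ext_one_on_N hb _ ?_, h1]
  exact Subgroup.mem_subgroupOf.1 ((N.subgroupOf J).pow_index_mem x)

/-- On a `q`-group over `N` every twist is linear with the values `fval`. -/
theorem qgroup_linear (H : Hyp M N ψ p C) {q : ℕ} (hq : q.Prime) (hqp : q ≠ p) :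
    ∀ (c : ℕ) (J : Subgroup G), Nat.card J = c → N ≤ J → (∃ a, N.relIndex J = q ^ a) →
      ∀ b, Ext M N ψ J b → b 1 = 1 ∧ ∀ x : J, R M (b x) = fval M N ψ (x : G) := by
  intro c
  induction c using Nat.strong_induction_on with
  | _ c ih =>
  intro J hc hNJ hpow b hb
  classical
  have := Fact.mk hq
  by_cases hcyc : ∃ x : J, Subgroup.zpowers (x : G) ⊔ N = J
  · obtain ⟨x, hx⟩ := hcyc
    have h1 := cyclic_linear (x : G) hx.symm hb
    exact ⟨h1, fun w => value_eq H hNJ hb h1 w (normal_of_comm le_sup_right (comm_of_sup_zpowers _ hx.symm))⟩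
  push Not at hcyc
  obtain ⟨a, ha⟩ := hpow
  have hQ : IsPGroup q (J ⧸ N.subgroupOf J) := IsPGroup.of_card (n := a) ha
  have hnc : NormalizerCondition (J ⧸ N.subgroupOf J) :=
    Group.normalizerCondition_of_isNilpotent (G := J ⧸ N.subgroupOf J) (h := hQ.isNilpotent)
  have hqa : ¬ p ∣ q ^ a := fun h => hqp ((Nat.prime_dvd_prime_iff_eq H.hM.1 hq).1 (H.hM.1.dvd_of_dvd_pow h)).symm
  obtain ⟨d, hd⟩ : ∃ d : ℕ, b 1 = d := by
    obtain ⟨n, ρ, hρ⟩ := ext_isChar hb
    exact ⟨n, by rw [← hρ]; simp⟩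
  have hval : ∀ x : J, ∃ z : ℂ, b x = d * z ∧ z * conj z = 1 ∧ R M z = fval M N ψ (x : G) := by
    intro x
    have hne : Subgroup.zpowers (QuotientGroup.mk x : J ⧸ N.subgroupOf J) ≠ ⊤ := by
      intro htop
      apply hcyc x
      refine le_antisymm (sup_le (Subgroup.zpowers_le.2 x.2) hNJ) fun w hw => ?_
      obtain ⟨i, hi⟩ := Subgroup.mem_zpowers_iff.1 ((htop ▸ Subgroup.mem_top _) :
        (QuotientGroup.mk ⟨w, hw⟩ : J ⧸ N.subgroupOf J) ∈ Subgroup.zpowers (QuotientGroup.mk x))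
      rw [← QuotientGroup.mk_zpow, QuotientGroup.eq, Subgroup.mem_subgroupOf] at hi
      rw [← mul_inv_cancel_left ((x : G) ^ i) w]
      exact Subgroup.mul_mem _ (Subgroup.mem_sup_left ⟨i, rfl⟩) (Subgroup.mem_sup_right (by simpa using hi))
    obtain ⟨L, hL, hxL⟩ := (eq_top_or_exists_le_coatom _).resolve_left hne
    have hLn : L.Normal := Subgroup.NormalizerCondition.normal_of_coatom L hnc hL
    let K' : Subgroup J := L.comap (QuotientGroup.mk' (N.subgroupOf J))
    set K : Subgroup G := K'.map J.subtype with hKdef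
    have hKJ : K ≤ J := Subgroup.map_subtype_le _
    have hsub : K.subgroupOf J = K' := Subgroup.comap_map_eq_self_of_injective J.subtype_injective _
    have hn : (K.subgroupOf J).Normal := by rw [hsub]; exact hLn.comap _
    have hNK : N ≤ K := fun n hn => ⟨⟨n, hNJ hn⟩, by
      show QuotientGroup.mk _ ∈ L
      rw [(QuotientGroup.eq_one_iff _).2 (Subgroup.mem_subgroupOf.2 hn)]
      exact L.one_mem, rfl⟩
    have hxK : (x : G) ∈ K := ⟨x, hxL (Subgroup.mem_zpowers _), rfl⟩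
    have hlt : Nat.card K < c := by
      refine hc ▸ lt_of_le_of_ne (Subgroup.card_le_of_le hKJ) fun e => hL.1 ?_
      have hK' : K = J := Subgroup.eq_of_le_of_card_ge hKJ e.ge
      rw [hK', Subgroup.subgroupOf_self] at hsub
      refine Subgroup.comap_injective (QuotientGroup.mk'_surjective _) ?_
      rw [Subgroup.comap_top]; exact hsub.symm
    obtain ⟨j, hj, hj'⟩ := (Nat.dvd_prime_pow hq).1 (ha ▸ (⟨K.relIndex J,
      (Subgroup.relIndex_mul_relIndex N K J hNK hKJ).symm⟩ : N.relIndex K ∣ N.relIndex J))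
    obtain ⟨m, hm, hext⟩ := ext_res H.hψ H.hN hNK hKJ hn hb
    have hIH : ∀ ν, m ν ≠ 0 → ((ν : K ⧸ N.subgroupOf K → ℂ) 1 = 1 ∧
        (ν : K ⧸ N.subgroupOf K → ℂ) (⟨x, hxK⟩ : K) ^ q ^ a = 1 ∧
        R M ((ν : K ⧸ N.subgroupOf K → ℂ) (⟨x, hxK⟩ : K)) = fval M N ψ (x : G)) := by
      intro ν hν
      obtain ⟨h1, h2⟩ := ih _ hlt K rfl hNK ⟨j, hj'⟩ _ (hext ν hν)
      have h3 := linear_pow (hext ν hν) h1 (⟨x, hxK⟩ : K)
      rw [hj'] at h3
      refine ⟨by simpa using h1, ?_, h2 ⟨x, hxK⟩⟩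
      obtain ⟨t, ht⟩ := pow_dvd_pow q hj
      rw [ht, pow_mul, show (ν : K ⧸ N.subgroupOf K → ℂ) (⟨x, hxK⟩ : K) ^ q ^ j = 1 from h3, one_pow]
    obtain ⟨ν₀, hν₀⟩ : ∃ ν, m ν ≠ 0 := by
      by_contra hall
      push Not at hall
      have h := hm 1
      simp only [hall, Nat.cast_zero, zero_mul, Finset.sum_const_zero, map_one] at h
      obtain ⟨β, hβ, rfl, -⟩ := hb
      exact irr_one_ne_zero hβ (by simpa using h)
    set z := (ν₀ : K ⧸ N.subgroupOf K → ℂ) (⟨x, hxK⟩ : K) with hz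
    refine ⟨z, ?_, ?_, (hIH ν₀ hν₀).2.2⟩
    · have h1 := hm 1
      have h2 := hm ⟨x, hxK⟩
      simp only [map_one] at h1
      rw [show Subgroup.inclusion hKJ ⟨x, hxK⟩ = x from rfl] at h2
      rw [h2, ← hd, h1, Finset.sum_mul]
      refine Finset.sum_congr rfl fun ν _ => ?_
      by_cases hν : m ν = 0
      · simp [hν]
      · rw [QuotientGroup.mk_one, (hIH ν hν).1, mul_one]
        congr 1
        exact R_root_inj H.hM hqa (hIH ν hν).2.1 (hIH ν₀ hν₀).2.1 ((hIH ν hν).2.2.trans (hIH ν₀ hν₀).2.2.symm)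
    · rw [Complex.mul_conj', norm_eq_one_of_pow_eq_one' (pow_ne_zero a hq.ne_zero) (hIH ν₀ hν₀).2.1]
      simp
  have hd1 : d = 1 := by
    obtain ⟨β, hβ, rfl, -⟩ := hb
    have h := classInner_irr_self hβ
    rw [classInner_def, Finset.sum_congr rfl (g := fun _ => ((d : ℂ) * d)) (fun u _ => by
      obtain ⟨u, rfl⟩ := QuotientGroup.mk_surjective u
      obtain ⟨z, h1, h2, -⟩ := hval u
      simp only [Function.comp_apply] at h1
      rw [h1, map_mul, map_natCast, show (d : ℂ) * z * ((d : ℂ) * conj z) = d * d * (z * conj z) by ring,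
        h2, mul_one]), Finset.sum_const, Finset.card_univ, nsmul_eq_mul, ← Nat.card_eq_fintype_card,
      inv_mul_cancel_left₀ CfsgLib.Char.card_ne_zero'] at h
    exact Nat.eq_one_of_mul_eq_one_right (show d * d = 1 by exact_mod_cast h)
  refine ⟨by rw [hd, hd1, Nat.cast_one], fun x => ?_⟩
  obtain ⟨z, h1, -, h3⟩ := hval x
  rw [h1, hd1, Nat.cast_one, one_mul, h3]

/-- The `q`-part of the interpolating character. -/
theorem exists_part (H : Hyp M N ψ p C) {q : ℕ} (hq : q.Prime) (hqp : q ≠ p) :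
    ∃ (Λ : G →* ℂˣ) (a : ℕ), (∀ g, Λ g ^ q ^ a = 1) ∧
      ∀ g : G, (∃ k, g ^ q ^ k ∈ N) → R M (Λ g : ℂ) = fval M N ψ g := by
  classical
  have := Fact.mk hq
  obtain ⟨S⟩ : Nonempty (Sylow q (G ⧸ N)) := inferInstance
  set Q := (S : Subgroup (G ⧸ N)).comap (QuotientGroup.mk' N) with hQdef
  have hNQ : N ≤ Q := fun n hn => by
    rw [hQdef, Subgroup.mem_comap, QuotientGroup.mk'_apply, (QuotientGroup.eq_one_iff n).2 hn]
    exact Subgroup.one_mem _
  have hQidx : Q.index = (S : Subgroup (G ⧸ N)).index :=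
    Subgroup.index_comap_of_surjective _ (QuotientGroup.mk'_surjective N)
  have hrel : N.relIndex Q = Nat.card (S : Subgroup (G ⧸ N)) := by
    have h1 := Subgroup.relIndex_mul_index hNQ
    rw [hQidx, Subgroup.index_eq_card N, ← (S : Subgroup (G ⧸ N)).card_mul_index] at h1
    exact Nat.eq_of_mul_eq_mul_right (Nat.pos_of_ne_zero Subgroup.index_ne_zero_of_finite) h1
  obtain ⟨a, ha⟩ := IsPGroup.iff_card.1 S.2
  obtain ⟨b, hb⟩ := exists_ext H.hM H.hψ H.hN H.hθ hNQ
  obtain ⟨h1, hv⟩ := qgroup_linear H hq hqp _ Q rfl hNQ ⟨a, hrel.trans ha⟩ b hb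
  have hqa : ¬ p ∣ q ^ a := fun h => hqp ((Nat.prime_dvd_prime_iff_eq H.hM.1 hq).1 (H.hM.1.dvd_of_dvd_pow h)).symm
  let φ : Q →* rootsOfUnity (q ^ a) ℂ := (linearHom (ext_isChar hb) h1).codRestrict _ fun x => by
    rw [mem_rootsOfUnity]
    apply Units.ext
    rw [Units.val_pow_eq_pow_val, linearHom_apply, ← hrel.trans ha]
    exact linear_pow hb h1 x
  have hφv : ∀ x, (((φ x : rootsOfUnity (q ^ a) ℂ) : ℂˣ) : ℂ) = b x := fun x => rfl
  have hqi : ¬ q ∣ Q.index := by rw [hQidx]; exact S.not_dvd_index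
  have hφroot : ∀ x, b x ^ q ^ a = 1 := fun x => hrel.trans ha ▸ linear_pow hb h1 x
  have hint : ∀ x, IsIntegral ℤ (b x) := int_of_linear (ext_isChar hb)
  have htr : ∀ g (hg : g ∈ Q), MonoidHom.transfer φ g = φ ⟨g, hg⟩ ^ Q.index := fun g hg => by
    refine CfsgLib.Invol.transfer_eq_map_pow_index φ g hg fun k g₀ hk => ?_
    apply Subtype.ext
    apply Units.ext
    rw [hφv]
    push_cast
    rw [hφv]
    refine R_root_inj H.hM hqa (hφroot _) (by rw [← pow_mul, mul_comm, pow_mul, hφroot, one_pow]) ?_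
    rw [R_pow (hint _), hv, hv]
    have h := fval_conj H g₀⁻¹ (g ^ k)
    rw [inv_inv, fval_pow H] at h
    exact h
  obtain ⟨e, he⟩ : ∃ e, Q.index * e % q ^ a = 1 % q ^ a := by
    rcases Nat.eq_zero_or_pos a with h0 | ha0
    · exact ⟨0, by simp [h0, Nat.mod_one]⟩
    · have h1 := Nat.one_lt_pow ha0.ne' hq.one_lt
      obtain ⟨e, -, he⟩ := Nat.exists_mul_mod_eq_one_of_coprime
        (((Nat.Prime.coprime_iff_not_dvd hq).2 hqi).symm.pow_right a) h1
      exact ⟨e, he.trans (Nat.mod_eq_of_lt h1).symm⟩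
  refine ⟨((rootsOfUnity (q ^ a) ℂ).subtype.comp (MonoidHom.transfer φ)) ^ e, a, fun g => ?_, fun g hg => ?_⟩
  · have h := (MonoidHom.transfer φ g).2
    rw [mem_rootsOfUnity] at h
    rw [MonoidHom.pow_apply, MonoidHom.comp_apply, ← pow_mul, mul_comm, pow_mul, Subgroup.coe_subtype, h, one_pow]
  obtain ⟨k, hk⟩ := hg
  have hpg : IsPGroup q (Subgroup.zpowers (QuotientGroup.mk g : G ⧸ N)) := by
    obtain ⟨i, -, hi⟩ := (Nat.dvd_prime_pow hq).1 (orderOf_dvd_of_pow_eq_one
      (show (QuotientGroup.mk g : G ⧸ N) ^ q ^ k = 1 by rw [← QuotientGroup.mk_pow]; exact (QuotientGroup.eq_one_iff _).2 hk))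
    exact IsPGroup.of_card (n := i) (by rw [Nat.card_zpowers, hi])
  obtain ⟨T, hT⟩ := hpg.exists_le_sylow
  obtain ⟨c, hc⟩ := MulAction.exists_smul_eq (G ⧸ N) T S
  obtain ⟨c, rfl⟩ := QuotientGroup.mk_surjective c
  have hgQ : c * g * c⁻¹ ∈ Q := by
    rw [hQdef, Subgroup.mem_comap, ← hc, QuotientGroup.mk'_apply]
    exact Subgroup.mem_map.2 ⟨_, hT (Subgroup.mem_zpowers _), by simp [MulAut.conj_apply]⟩
  set Λ := ((rootsOfUnity (q ^ a) ℂ).subtype.comp (MonoidHom.transfer φ)) ^ e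
  have hconj : Λ g = Λ (c * g * c⁻¹) := by
    rw [map_mul, map_mul, map_inv, mul_comm (Λ c), mul_inv_cancel_right]
  rw [hconj, ← fval_conj H c g, ← hv ⟨_, hgQ⟩]
  congr 1
  show ((((MonoidHom.transfer φ (c * g * c⁻¹)) : rootsOfUnity (q ^ a) ℂ) : ℂˣ) ^ e : ℂˣ).val = _
  rw [htr _ hgQ, Units.val_pow_eq_pow_val, SubmonoidClass.coe_pow, Units.val_pow_eq_pow_val, hφv, ← pow_mul]
  conv_lhs => rw [← Nat.mod_add_div (Q.index * e) (q ^ a)]
  rw [pow_add, pow_mul, hφroot, one_pow, mul_one, ← pow_one (b _)]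
  rw [he, ← pow_mul]
  rcases Nat.eq_zero_or_pos a with rfl | ha0
  · have := hφroot ⟨_, hgQ⟩
    simp only [pow_zero, pow_one] at this
    simp [this]
  · rw [Nat.one_mod_eq_one.2 (Nat.one_lt_pow ha0.ne' hq.one_lt).ne', mul_one]

/-- The interpolating linear character. -/
theorem exists_hom (H : Hyp M N ψ p C) : ∃ (Λ : G →* ℂˣ) (m : ℕ), ¬ p ∣ m ∧ (∀ g, Λ g ^ m = 1) ∧
    ∀ g, R M (Λ g : ℂ) = fval M N ψ g := by
  classical
  choose Λ a hroot hval using fun q : {q // q ∈ (N.index.primeFactors.erase p)} =>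
    exists_part H (Nat.prime_of_mem_primeFactors (Finset.mem_of_mem_erase q.2)) (Finset.ne_of_mem_erase q.2)
  refine ⟨∏ q, Λ q, ∏ q : {q // q ∈ (N.index.primeFactors.erase p)}, q.1 ^ a q, ?_, fun g => ?_, fun g => ?_⟩
  · rw [(H.hM.1).prime.dvd_finsetProd_iff]
    rintro ⟨q, -, hd⟩
    exact Finset.ne_of_mem_erase q.2 ((Nat.prime_dvd_prime_iff_eq H.hM.1
      (Nat.prime_of_mem_primeFactors (Finset.mem_of_mem_erase q.2))).1 (H.hM.1.dvd_of_dvd_pow hd)).symm
  · rw [MonoidHom.finsetProd_apply, ← Finset.prod_pow]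
    refine Finset.prod_eq_one fun q _ => ?_
    obtain ⟨d, hd⟩ := Finset.dvd_prod_of_mem (fun q : {q // q ∈ (N.index.primeFactors.erase p)} => (q : ℕ) ^ a q) (Finset.mem_univ q)
    rw [hd, pow_mul, hroot, one_pow]
  set T := ∏ q, Λ q
  have hn0 : N.index ≠ 0 := Subgroup.index_ne_zero_of_finite
  have hfroot : fval M N ψ g ^ N.index = 1 := by rw [← fval_pow H, fval_of_mem H (N.pow_index_mem g)]
  have hTint : IsIntegral ℤ (T g : ℂ) :=
    char_isIntegral (isCharacter_of_isIrr (isIrrCharacter_units_hom T)) g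
  -- agreement on the prime power parts
  have hpart : ∀ q, q.Prime → ∀ w : G, (∃ k, w ^ q ^ k ∈ N) → R M (T w : ℂ) = fval M N ψ w := by
    intro q hq w hw
    obtain ⟨k, hk⟩ := hw
    have hone : ∀ r : {r // r ∈ (N.index.primeFactors.erase p)}, (r : ℕ) ≠ q → R M ((Λ r w : ℂˣ) : ℂ) = 1 := by
      intro r hr
      have hrp := Nat.prime_of_mem_primeFactors (Finset.mem_of_mem_erase r.2)
      have hint : IsIntegral ℤ ((Λ r w : ℂˣ) : ℂ) :=
        char_isIntegral (isCharacter_of_isIrr (isIrrCharacter_units_hom (Λ r))) w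
      have h1 : R M ((Λ r w : ℂˣ) : ℂ) ^ q ^ k = 1 := by
        rw [← R_pow hint, ← Units.val_pow_eq_pow_val, ← map_pow, hval r _ ⟨0, by simpa using hk⟩,
          fval_of_mem H hk]
      have h2 : R M ((Λ r w : ℂˣ) : ℂ) ^ (r : ℕ) ^ a r = 1 := by
        rw [← R_pow hint, ← Units.val_pow_eq_pow_val, hroot, Units.val_one, R_one]
      exact orderOf_eq_one_iff.1 (Nat.eq_one_of_dvd_coprimes
        (((Nat.coprime_primes hrp hq).2 hr).pow (a r) k) (orderOf_dvd_of_pow_eq_one h2) (orderOf_dvd_of_pow_eq_one h1))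
    have hT : R M (T w : ℂ) = ∏ r, R M ((Λ r w : ℂˣ) : ℂ) := by
      have h : ∀ s : Finset {r // r ∈ (N.index.primeFactors.erase p)}, IsIntegral ℤ (((∏ r ∈ s, Λ r w : ℂˣ)) : ℂ) ∧
          R M (((∏ r ∈ s, Λ r w : ℂˣ)) : ℂ) = ∏ r ∈ s, R M ((Λ r w : ℂˣ) : ℂ) := by
        intro s
        induction s using Finset.induction_on with
        | empty => simp [R_one, isIntegral_one]
        | insert r s hr ih =>
          have hint : IsIntegral ℤ ((Λ r w : ℂˣ) : ℂ) :=
            char_isIntegral (isCharacter_of_isIrr (isIrrCharacter_units_hom (Λ r))) w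
          rw [Finset.prod_insert hr, Finset.prod_insert hr, Units.val_mul]
          exact ⟨hint.mul ih.1, by rw [R_mul hint ih.1, ih.2]⟩
      rw [show T w = ∏ r, Λ r w from MonoidHom.finsetProd_apply _ _ _]
      exact (h Finset.univ).2
    rw [hT]
    by_cases hqm : q ∈ N.index.primeFactors.erase p
    · rw [Finset.prod_eq_single ⟨q, hqm⟩ (fun r _ hr => hone r fun e => hr (Subtype.ext e)) (by simp)]
      exact hval _ w ⟨k, hk⟩
    · rw [Finset.prod_eq_one fun r _ => hone r fun e => hqm (e ▸ r.2)]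
      have hwk : fval M N ψ w ^ q ^ k = 1 := by rw [← fval_pow H, fval_of_mem H hk]
      symm
      by_cases hqp : q = p
      · subst hqp
        have := Fact.mk hq
        have : CharP (Res M) q := res_charP M H.hM
        have : ExpChar (Res M) q := .prime hq
        apply iterateFrobenius_inj (Res M) q k
        rw [iterateFrobenius_def, iterateFrobenius_def, hwk, one_pow]
      · have hwn : fval M N ψ w ^ N.index = 1 := by rw [← fval_pow H, fval_of_mem H (N.pow_index_mem w)]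
        refine orderOf_eq_one_iff.1 (Nat.eq_one_of_dvd_coprimes
          ((Nat.Coprime.pow_left k ((Nat.Prime.coprime_iff_not_dvd hq).2 fun h => hqm
            (Finset.mem_erase.2 ⟨hqp, Nat.mem_primeFactors.2 ⟨hq, h, hn0⟩⟩))))
          (orderOf_dvd_of_pow_eq_one hwk) (orderOf_dvd_of_pow_eq_one hwn))
  have hTn : R M (T g : ℂ) ^ N.index = 1 := by
    rw [← R_pow hTint, ← Units.val_pow_eq_pow_val, ← map_pow]
    have h := hpart 2 Nat.prime_two (g ^ N.index) ⟨0, by simpa using N.pow_index_mem g⟩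
    rw [h, fval_of_mem H (N.pow_index_mem g)]
  have hT0 : R M (T g : ℂ) ≠ 0 := fun h => by rw [h, zero_pow hn0] at hTn; exact zero_ne_one hTn
  set u := fval M N ψ g / R M (T g : ℂ) with hu
  have hun : u ^ N.index = 1 := by rw [hu, div_pow, hfroot, hTn, div_one]
  have hu1 : u = 1 := by
    rw [← orderOf_eq_one_iff]
    by_contra hne
    obtain ⟨q, hq, hqd⟩ := Nat.exists_prime_and_dvd hne
    set m := N.index / q ^ N.index.factorization q
    have hqm : ¬ q ∣ m := Nat.not_dvd_ordCompl hq hn0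
    apply hqm
    refine hqd.trans (orderOf_dvd_of_pow_eq_one ?_)
    have h := hpart q hq (g ^ m) ⟨N.index.factorization q, by
      rw [← pow_mul, mul_comm, Nat.ordProj_mul_ordCompl_eq_self]
      exact N.pow_index_mem g⟩
    rw [map_pow, Units.val_pow_eq_pow_val, R_pow hTint, fval_pow H] at h
    rw [hu, div_pow, ← h, div_self (pow_ne_zero m hT0)]
  exact ((div_eq_one_iff_eq hT0).1 hu1).symm

end main

/-- Let G be a finite group, p a prime, M a maximal ideal of the algebraic integers containing p, N a normal subgroup of G and P a Sylow p-subgroup of N such that G = N·C_G(P). Let θ be an irreducible character in the principal p-block of N that is the restriction of some irreducible character of G. Then θ is the restriction of an irreducible character χ of G lying in the principal p-block of G such that, for every subgroup J of G containing N, the restriction of χ to J is an irreducible character of J lying in the principal p-block of J. -/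
theorem result {G : Type*} [Group G] [Finite G] (p : ℕ) [Fact p.Prime] (M : Ideal Cfsg.AlgInt) (hM : Cfsg.IsPModular p M) (N : Subgroup G) [N.Normal] (P : Sylow p ↥N)
    (hcov : N ⊔ Subgroup.centralizer (((P : Subgroup ↥N).map N.subtype : Subgroup G) : Set G) = ⊤)
    (θ : Cfsg.IrrCharacter ↥N) (hθ : θ ∈ Cfsg.principalBlock M ↥N)
    (hext : ∃ ψ : Cfsg.IrrCharacter G, ∀ x : ↥N, (ψ : G → ℂ) x = (θ : ↥N → ℂ) x) :
    ∃ χ : Cfsg.IrrCharacter G, χ ∈ Cfsg.principalBlock M G ∧ (∀ x : ↥N, (χ : G → ℂ) x = (θ : ↥N → ℂ) x) ∧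
      ∀ J : Subgroup G, N ≤ J → ∃ ξ : Cfsg.IrrCharacter ↥J, ξ ∈ Cfsg.principalBlock M ↥J ∧ ∀ y : ↥J, (ξ : ↥J → ℂ) y = (χ : G → ℂ) y := by
  classical
  have := hM.2.1
  have := Fintype.ofFinite G
  obtain ⟨ψ, hψ⟩ := hext
  have hres : (fun x : N => (ψ : G → ℂ) x) = (θ : N → ℂ) := funext hψ
  set C := Subgroup.centralizer (((P : Subgroup ↥N).map N.subtype : Subgroup G) : Set G) with hC
  have H : Hyp M N (ψ : G → ℂ) p C :=
    { hM := hM
      hψ := ψ.2
      hN := hres ▸ θ.2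
      hθ := hres ▸ hθ
      hsup := fun z => Subgroup.mem_sup_of_normal_left.1 (hcov ▸ Subgroup.mem_top z)
      hidx := fun y hy hdvd => P.not_dvd_index (hdvd.trans ?_) }
  rotate_left
  · rw [Subgroup.relIndex]
    refine Subgroup.index_dvd_of_le fun x hx => ?_
    rw [Subgroup.mem_subgroupOf, Subgroup.mem_centralizer_singleton_iff]
    exact Subgroup.mem_centralizer_iff.1 hy (x : G) ⟨x, hx, rfl⟩
  obtain ⟨Λ, m, hm, hroot, hΛ⟩ := exists_hom H
  set lam : G → ℂ := fun g => (Λ g : ℂ) with hlam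
  have hlc : IsCharacter G lam := isCharacter_of_isIrr (isIrrCharacter_units_hom Λ)
  have hl1 : lam 1 = 1 := by simp [hlam]
  have hirr : IsIrrCharacter G ((ψ : G → ℂ) * lam) := isIrr_mul_linear ψ.2 hlc hl1
  have hlN : ∀ x ∈ N, lam x = 1 := by
    intro x hx
    refine R_root_inj hM hm ?_ (one_pow m) ((hΛ x).trans ((fval_of_mem H hx).trans R_one.symm))
    simp only [hlam]
    rw [← Units.val_pow_eq_pow_val, hroot, Units.val_one]
  have hN' : ∀ x : N, ((ψ : G → ℂ) * lam) x = (θ : N → ℂ) x := fun x => by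
    rw [Pi.mul_apply, hlN x x.2, mul_one, hψ]
  have hNirr : IsIrrCharacter N (fun x : N => ((ψ : G → ℂ) * lam) x) := (funext hN') ▸ θ.2
  have key : ∀ J : Subgroup G, N ≤ J →
      SameBlock M (fun _ : J => (1 : ℂ)) (fun y : J => ((ψ : G → ℂ) * lam) y) := by
    intro J hNJ x
    obtain ⟨b, hb, h1, hv⟩ := exists_cyclic H (x : G)
    set K := Subgroup.zpowers (x : G) ⊔ N
    have hxK : (x : G) ∈ K := Subgroup.mem_sup_left (Subgroup.mem_zpowers _)
    set A := Subgroup.centralizer ({(x : G)} : Set G)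
    have hrel : A.relIndex K = A.relIndex N :=
      relIndex_sup_eq (Subgroup.zpowers_le.2 (Subgroup.mem_centralizer_singleton_iff.2 rfl))
    obtain ⟨d, hd⟩ := relIndex_dvd_of_normal (C := A) hNJ
    have hiK := res_irr_mid ψ.2 H.hN (J := K) le_sup_right
    have k := ext_key ψ.2 H.hN le_sup_right hb h1 ⟨(x : G), hxK⟩
    rw [hv, ← hΛ, hrel] at k
    have hiJ : IsIrrCharacter J (fun y : J => ((ψ : G → ℂ) * lam) y) := res_irr_mid hirr hNirr hNJ
    have hint : IsIntegral ℤ (lam (x : G)) := char_isIntegral hlc _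
    have e1 : centralChar (fun _ : J => (1 : ℂ)) x = (A.relIndex J : ℂ) := by
      rw [centralChar, centralizer_subgroupOf]; simp [A]
    have e2 : centralChar (fun y : J => ((ψ : G → ℂ) * lam) y) x =
        (d : ℂ) * (lam (x : G) * centralChar (fun y : K => (ψ : G → ℂ) y) ⟨(x : G), hxK⟩) := by
      rw [centralChar, centralChar, centralizer_subgroupOf, centralizer_subgroupOf]
      simp only [Pi.mul_apply, Subgroup.coe_one, hl1, mul_one]
      rw [show A.relIndex J = A.relIndex N * d from hd, show A.relIndex K = A.relIndex N from hrel]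
      push_cast
      ring
    have hci := isIntegral_centralChar hiK (⟨(x : G), hxK⟩ : K)
    refine (R_eq_iff (e1 ▸ isIntegral_natCast _) (isIntegral_centralChar hiJ x)).2 ?_
    rw [e1, e2, R_mul (isIntegral_natCast _) (hint.mul hci), R_mul hint hci, k, R_natCast, R_natCast, hd]
    push_cast
    ring
  refine ⟨⟨_, hirr⟩, ?_, hN', fun J hJ => ⟨⟨_, res_irr_mid hirr hNirr hJ⟩, key J hJ, fun y => rfl⟩⟩
  show SameBlock M (fun _ : G => (1 : ℂ)) ((ψ : G → ℂ) * lam)
  exact sameBlock_comp_mulEquiv M (Subgroup.topEquiv (G := G)).symm (key ⊤ le_top)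

end Cfsg.Agent.S4937
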