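import Cfsg.Statements.S4955
import Cfsg.Agent.Lib.CharBlocks.AMGM
import Cfsg.Agent.Lib.CharBlocks.PElementValue
import Cfsg.Agent.Lib.CharNormal.Kernel
import Cfsg.Agent.Lib.Char.Ito

set_option autoImplicit false
open Cfsg

namespace Cfsg.Agent.S4955

open CfsgLib.Char CfsgLib.CharNormal CfsgLib.CharBlocks
open scoped ComplexConjugate

/-- Let X be a finite group with an abelian normal Sylow p-subgroup V (a normal p-subgroup of index prime to p in which any two elements commute), and let G be a complement to V in X. Then for every v in V, writing C for the centralizer of v in G, the number k(X) of conjugacy classes of X satisfies k(X) ≤ (order of C)·(order of V) − ((order of G) − k(G)); the statement is written with the subtracted term moved to the left. In particular, if some v in V is centralized by no nonidentity element of G, then k(X) is at most the order of V. -/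
theorem result {X : Type*} [Group X] [Finite X] (p : ℕ) [Fact p.Prime] (V : Subgroup X) [V.Normal] (hVp : IsPGroup p V) (hidx : ¬ p ∣ V.index) (hab : ∀ a ∈ V, ∀ b ∈ V, a * b = b * a) (G : Subgroup X) (hGV : Subgroup.IsComplement' V G) (v : X) (hv : v ∈ V) : Nat.card (ConjClasses X) + Nat.card G ≤ Nat.card ↥(G ⊓ Subgroup.centralizer ({v} : Set X)) * Nat.card V + Nat.card (ConjClasses G) := by
  classical
  have := Fintype.ofFinite X
  have := Fintype.ofFinite (X ⧸ V)
  let triv : IrrCharacter X → Prop := fun χ => ∀ n ∈ V, (χ : X → ℂ) n = (χ : X → ℂ) 1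
  set S := Finset.univ.filter triv with hS
  -- the quotient is the complement
  have eG : G ≃* X ⧸ V := MulEquiv.ofBijective ((QuotientGroup.mk' V).comp G.subtype) (by
    refine ⟨fun a b h => ?_, fun q => ?_⟩
    · have hab' : (a : X)⁻¹ * b ∈ V := QuotientGroup.eq.mp h
      have hmem : (a : X)⁻¹ * b ∈ V ⊓ G := ⟨hab', G.mul_mem (G.inv_mem a.2) b.2⟩
      rw [hGV.disjoint.eq_bot, Subgroup.mem_bot, inv_mul_eq_one] at hmem
      exact Subtype.ext hmem
    · obtain ⟨x, rfl⟩ := QuotientGroup.mk_surjective q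
      obtain ⟨⟨⟨a, ha⟩, ⟨b, hb⟩⟩, hxab⟩ := hGV.2 x
      refine ⟨⟨b, hb⟩, ?_⟩
      show (b : X ⧸ V) = (x : X ⧸ V)
      rw [← hxab, QuotientGroup.mk_mul, (QuotientGroup.eq_one_iff a).mpr ha, one_mul])
  have hScard : S.card = Nat.card (ConjClasses G) := by
    rw [hS, ← Fintype.card_subtype, ← Nat.card_eq_fintype_card, ← Nat.card_congr (inflEquiv V),
      CfsgLib.Char.card_irr_eq_card_conjClasses]
    exact (Nat.card_congr (Equiv.ofBijective (ConjClasses.map eG.toMonoidHom)
      ⟨fun a b h => by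
        have := congrArg (ConjClasses.map eG.symm.toMonoidHom) h
        obtain ⟨a, rfl⟩ := ConjClasses.mk_surjective a
        obtain ⟨b, rfl⟩ := ConjClasses.mk_surjective b
        change ConjClasses.mk (eG.symm (eG a)) = ConjClasses.mk (eG.symm (eG b)) at this
        rwa [eG.symm_apply_apply, eG.symm_apply_apply] at this,
       fun c => by
        obtain ⟨x, rfl⟩ := ConjClasses.mk_surjective c
        exact ⟨ConjClasses.mk (eG.symm x), congrArg ConjClasses.mk (eG.apply_symm_apply x)⟩⟩)).symm
  have hSsum : ∑ χ ∈ S, Complex.normSq ((χ : X → ℂ) v) = (Nat.card G : ℝ) := by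
    rw [hS, Finset.sum_subtype (p := triv) (F := inferInstance) _ (fun χ => by simp)]
    rw [← (inflEquiv V).sum_comp]
    apply Complex.ofReal_injective
    rw [Complex.ofReal_sum, Complex.ofReal_natCast]
    have h := sum_degree_mul_apply (1 : X ⧸ V)
    rw [if_pos rfl] at h
    rw [Nat.card_congr eG.toEquiv, ← h]
    refine Finset.sum_congr rfl fun q _ => ?_
    have hv' : ((inflEquiv V q).1 : X → ℂ) v = (q : X ⧸ V → ℂ) 1 := by
      rw [inflEquiv_apply, (QuotientGroup.eq_one_iff v).mpr hv]
    rw [hv', Complex.normSq_eq_conj_mul_self, char_conj_one (isCharacter_of_isIrr q.2)]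
  -- the others do not vanish at `v`
  have hne : ∀ χ : IrrCharacter X, (χ : X → ℂ) v ≠ 0 := fun χ h0 => by
    obtain ⟨n, hn⟩ := exists_degree (isCharacter_of_isIrr χ.2)
    obtain ⟨k, hk⟩ := IsPGroup.iff_orderOf.mp hVp ⟨v, hv⟩
    refine hidx ((dvd_degree_of_apply_eq_zero (isCharacter_of_isIrr χ.2) (g := v) (k := k) ?_ h0 hn).trans
      (degree_dvd_index_abelian_normal V hab χ.2 hn))
    rw [← hk, Subgroup.orderOf_mk]
  have hrest : ((Finset.univ \ S).card : ℝ) ≤ ∑ χ ∈ Finset.univ \ S, Complex.normSq ((χ : X → ℂ) v) := by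
    refine card_le_sum_of_galois _ _ (fun χ _ => ?_) (fun χ _ => Complex.normSq_pos.mpr (hne χ)) fun σ => ?_
    · rw [Complex.normSq_eq_conj_mul_self, ← char_inv (isCharacter_of_isIrr χ.2)]
      exact (char_isIntegral (isCharacter_of_isIrr χ.2) _).mul (char_isIntegral (isCharacter_of_isIrr χ.2) _)
    · rw [map_prod]
      refine Finset.prod_equiv (galIrr σ) (fun χ => ?_) (fun χ _ => ?_)
      · simp only [hS, Finset.mem_sdiff, Finset.mem_univ, true_and, Finset.mem_filter, triv, galIrr_apply,
          σ.injective.eq_iff]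
      · rw [Complex.normSq_eq_conj_mul_self, Complex.normSq_eq_conj_mul_self, map_mul,
          ← char_inv (isCharacter_of_isIrr χ.2), ← char_inv (isCharacter_of_isIrr (galIrr σ χ).2),
          galIrr_apply, galIrr_apply]
  -- the column at `v`
  set C := Subgroup.centralizer ({v} : Set X)
  have hVC : V ≤ C := fun a ha => Subgroup.mem_centralizer_singleton_iff.mpr (hab a ha v hv)
  have hC : Nat.card C = Nat.card ↥(G ⊓ C) * Nat.card V := by
    rw [mul_comm, ← Nat.card_prod]
    refine (Nat.card_congr (Equiv.ofBijective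
      (fun z : V × ↥(G ⊓ C) => (⟨(z.1 : X) * z.2, C.mul_mem (hVC z.1.2) z.2.2.2⟩ : C)) ⟨?_, ?_⟩)).symm
    · rintro ⟨a, b⟩ ⟨a', b'⟩ h
      have h' := hGV.1 (a₁ := (a, ⟨(b : X), b.2.1⟩)) (a₂ := (a', ⟨(b' : X), b'.2.1⟩)) (congrArg Subtype.val h)
      rw [Prod.mk.injEq] at h'
      have hb : (b : X) = (b' : X) := congrArg (fun z : G => (z : X)) h'.2
      exact Prod.ext h'.1 (Subtype.ext hb)
    · rintro ⟨x, hx⟩
      obtain ⟨⟨⟨a, ha⟩, ⟨b, hb⟩⟩, hxab⟩ := hGV.2 x
      have hxab' : a * b = x := hxab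
      have hbC : b ∈ C := (C.mul_mem_cancel_left (hVC ha)).mp (by rwa [hxab'])
      exact ⟨(⟨a, ha⟩, ⟨b, hb, hbC⟩), Subtype.ext hxab'⟩
  have hcol : ∑ χ : IrrCharacter X, Complex.normSq ((χ : X → ℂ) v) = (Nat.card C : ℝ) := by
    apply Complex.ofReal_injective
    rw [Complex.ofReal_sum, Complex.ofReal_natCast]
    have h := second_orthogonality v v
    rw [if_pos (IsConj.refl v)] at h
    rw [← h]
    exact Finset.sum_congr rfl fun χ _ => (Complex.mul_conj _).symm
  rw [← Finset.sum_sdiff (Finset.subset_univ S), hSsum, hC] at hcol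
  rw [Finset.card_sdiff_of_subset (Finset.subset_univ S), Finset.card_univ, Nat.cast_sub (Finset.card_le_univ S),
    hScard] at hrest
  rw [← CfsgLib.Char.card_irr_eq_card_conjClasses, Nat.card_eq_fintype_card (α := IrrCharacter X)]
  have : (Fintype.card (IrrCharacter X) : ℝ) + Nat.card G ≤
      ((Nat.card ↥(G ⊓ C) * Nat.card V : ℕ) : ℝ) + Nat.card (ConjClasses G) := by linarith
  exact_mod_cast this

end Cfsg.Agent.S4955
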