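import Cfsg.Statements.S4956
import Mathlib

set_option autoImplicit false
open Cfsg

namespace Cfsg.Agent.S4956

open scoped BigOperators

/-- For commuting `g`, `h` in `G`, the number of solutions `(a, b)` of the commutator equation. -/
theorem fiber {X : Type*} [Group X] [Finite X] (V : Subgroup X) [V.Normal]
    (hab : ∀ a ∈ V, ∀ b ∈ V, a * b = b * a) (G : Subgroup X)
    (hcop : (Nat.card V).Coprime (Nat.card G)) (g h : G) (hgh : Commute g h) :
    Nat.card {ab : V × V // Commute ((ab.1 : X) * g) ((ab.2 : X) * h)} =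
      Nat.card V * Nat.card {c : V // Commute (g : X) c ∧ Commute (h : X) c} := by
  classical
  letI : CommGroup V := { (inferInstance : Group V) with
    mul_comm := fun a b => Subtype.ext (hab _ a.2 _ b.2) }
  let act : G →* MulAut V := (MulAut.conjNormal : X →* MulAut V).comp G.subtype
  have act_coe : ∀ (a : G) (v : V), ((act a v : V) : X) = a * v * (a : X)⁻¹ := fun a v => rfl
  let ψ : V × V →* V :=
    { toFun := fun ab => (ab.1 / act h ab.1) / (ab.2 / act g ab.2)
      map_one' := by simp
      map_mul' := by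
        intro x y
        show (x.1 * y.1 / act h (x.1 * y.1)) / (x.2 * y.2 / act g (x.2 * y.2)) = _
        rw [map_mul, map_mul, ← div_mul_div_comm, ← div_mul_div_comm, ← div_mul_div_comm] }
  have hker : Nat.card {ab : V × V // Commute ((ab.1 : X) * g) ((ab.2 : X) * h)} =
      Nat.card ψ.ker := by
    refine Nat.card_congr (Equiv.subtypeEquivRight ?_)
    rintro ⟨a, b⟩
    show _ ↔ ψ (a, b) = 1
    have e : ψ (a, b) = (a / act h a) / (b / act g b) := rfl
    rw [e, div_eq_one, div_eq_div_iff_mul_eq_mul, ← Subtype.coe_inj]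
    simp only [Subgroup.coe_mul, act_coe]
    rw [commute_iff_eq]
    have hgh' : (g : X) * h = h * g := congrArg Subtype.val hgh.eq
    constructor
    · intro e
      calc (a : X) * ((g : X) * b * (g : X)⁻¹) = ((a : X) * g * (b * h)) * ((g : X) * h)⁻¹ := by group
        _ = ((b : X) * h * (a * g)) * ((h : X) * g)⁻¹ := by rw [e, hgh']
        _ = (b : X) * ((h : X) * a * (h : X)⁻¹) := by group
    · intro e
      calc (a : X) * g * (b * h) = ((a : X) * ((g : X) * b * (g : X)⁻¹)) * ((g : X) * h) := by group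
        _ = ((b : X) * ((h : X) * a * (h : X)⁻¹)) * ((h : X) * g) := by rw [e, hgh']
        _ = (b : X) * h * (a * g) := by group
  let A : Subgroup G := Subgroup.closure {g, h}
  haveI := Fintype.ofFinite A
  let N : V →* V :=
    { toFun := fun x => ∏ a : A, act a x
      map_one' := by simp
      map_mul' := by intro x y; simp [Finset.prod_mul_distrib] }
  have hAcop : (Nat.card V).Coprime (Nat.card A) :=
    Nat.Coprime.coprime_dvd_right (Subgroup.card_subgroup_dvd_card A) hcop
  -- the kernel of the norm map is the range of `ψ`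
  have hI : ∀ a ∈ A, ∀ x : V, x / act a x ∈ ψ.range := by
    intro a ha
    induction ha using Subgroup.closure_induction with
    | mem y hy =>
      intro x
      rcases hy with rfl | rfl
      · exact ⟨(1, x⁻¹), by simp [ψ, div_eq_mul_inv, mul_comm]⟩
      · exact ⟨(x, 1), by simp [ψ]⟩
    | one => intro x; simp
    | mul y z _ _ hy hz =>
      intro x
      have e : act (y * z) x = act y (act z x) := by simp
      rw [e, ← div_mul_div_cancel x (act z x)]
      exact mul_mem (hz x) (hy _)
    | inv y _ hy =>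
      intro x
      have := inv_mem (hy (act y⁻¹ x))
      have e : act y (act y⁻¹ x) = x := by
        rw [← MulAut.mul_apply, ← map_mul, mul_inv_cancel, map_one, MulAut.one_apply]
      rwa [e, inv_div] at this
  have hfix : ∀ (b : A) (x : V), N (act b x) = N x ∧ act b (N x) = N x := by
    intro b x
    constructor
    · refine Fintype.prod_equiv (Equiv.mulRight b) _ _ fun a => ?_
      simp
    · show act b (∏ a : A, act a x) = _
      rw [map_prod]
      refine Fintype.prod_equiv (Equiv.mulLeft b) _ _ fun a => ?_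
      simp
  have hle : ψ.range ≤ N.ker := by
    rintro _ ⟨⟨a, b⟩, rfl⟩
    show N (ψ (a, b)) = 1
    have e : ψ (a, b) = (a / act h a) / (b / act g b) := rfl
    have hhA : h ∈ A := Subgroup.subset_closure (by simp)
    have hgA : g ∈ A := Subgroup.subset_closure (by simp)
    rw [e, map_div, map_div, map_div, (hfix ⟨h, hhA⟩ a).1, (hfix ⟨g, hgA⟩ b).1]
    simp
  have hge : N.ker ≤ ψ.range := by
    intro x hx
    have hx' : ∏ a : A, act a x = 1 := hx
    have : x ^ Nat.card A ∈ ψ.range := by
      have e : ∏ a : A, x / act a x = x ^ Nat.card A := by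
        rw [Finset.prod_div_distrib, hx', div_one, Finset.prod_const, Nat.card_eq_fintype_card,
          Finset.card_univ]
      rw [← e]
      exact Subgroup.prod_mem _ fun a _ => hI a a.2 x
    obtain ⟨n, hn⟩ := exists_pow_eq_self_of_coprime (n := Nat.card A) (x := x)
      (Nat.Coprime.coprime_dvd_right (orderOf_dvd_natCard x) hAcop.symm)
    rw [← hn]
    exact pow_mem this n
  let C : Subgroup V :=
    { carrier := {c | act g c = c ∧ act h c = c}
      one_mem' := by simp
      mul_mem' := by intro x y hx hy; simp_all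
      inv_mem' := by intro x hx; simp_all }
  have hC : N.range = C := by
    apply le_antisymm
    · rintro _ ⟨x, rfl⟩
      exact ⟨(hfix ⟨g, Subgroup.subset_closure (by simp)⟩ x).2,
        (hfix ⟨h, Subgroup.subset_closure (by simp)⟩ x).2⟩
    · intro c hc
      have hAc : ∀ a ∈ A, act a c = c := by
        intro a ha
        induction ha using Subgroup.closure_induction with
        | mem y hy => rcases hy with rfl | rfl; exacts [hc.1, hc.2]
        | one => simp
        | mul y z _ _ hy hz => simp [map_mul, hy, hz]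
        | inv y _ hy =>
          have := congrArg (act y⁻¹) hy
          rw [← MulAut.mul_apply, ← map_mul, inv_mul_cancel, map_one, MulAut.one_apply] at this
          exact this.symm
      have hNc : N c = c ^ Nat.card A := by
        show ∏ a : A, act a c = _
        rw [Finset.prod_congr rfl (fun (a : A) _ => hAc a a.2), Finset.prod_const,
          Nat.card_eq_fintype_card, Finset.card_univ]
      obtain ⟨n, hn⟩ := exists_pow_eq_self_of_coprime (n := Nat.card A) (x := c)
        (Nat.Coprime.coprime_dvd_right (orderOf_dvd_natCard c) hAcop.symm)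
      rw [← hn, ← hNc]
      exact pow_mem (show N c ∈ N.range from ⟨c, rfl⟩) n
  have hcC : Nat.card {c : V // Commute (g : X) c ∧ Commute (h : X) c} = Nat.card C := by
    refine Nat.card_congr (Equiv.subtypeEquivRight fun c => ?_)
    show _ ↔ act g c = c ∧ act h c = c
    simp only [← Subtype.coe_inj, act_coe, mul_inv_eq_iff_eq_mul, commute_iff_eq]
  rw [hker, hcC]
  have h1 : Nat.card (V × V) = Nat.card ψ.ker * Nat.card ψ.range := by
    rw [Subgroup.card_eq_card_quotient_mul_card_subgroup ψ.ker,
      Nat.card_congr (QuotientGroup.quotientKerEquivRange ψ).toEquiv, mul_comm]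
  have h2 : Nat.card V = Nat.card N.ker * Nat.card N.range := by
    rw [Subgroup.card_eq_card_quotient_mul_card_subgroup N.ker,
      Nat.card_congr (QuotientGroup.quotientKerEquivRange N).toEquiv, mul_comm]
  rw [Nat.card_prod] at h1
  rw [le_antisymm hge hle, hC] at h2
  have hpos : 0 < Nat.card ψ.range := Nat.card_pos
  apply Nat.eq_of_mul_eq_mul_right hpos
  rw [← h1, mul_assoc, mul_comm (Nat.card C), ← h2]

theorem commPairs {X : Type*} [Group X] (K : Subgroup X) :
    Nat.card {p : X × X // p.1 ∈ K ∧ p.2 ∈ K ∧ Commute p.1 p.2} =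
      Nat.card (ConjClasses K) * Nat.card K := by
  rw [← card_comm_eq_card_conjClasses_mul_card]
  refine Nat.card_congr
    { toFun := fun p => ⟨(⟨p.1.1, p.2.1⟩, ⟨p.1.2, p.2.2.1⟩), Subtype.ext p.2.2.2.eq⟩
      invFun := fun q => ⟨((q.1.1 : X), (q.1.2 : X)), q.1.1.2, q.1.2.2, congrArg Subtype.val q.2.eq⟩
      left_inv := fun p => rfl
      right_inv := fun q => rfl }

theorem conj_invariant {X : Type*} [Group X] (G : Subgroup X) (v : X) (u : G) :
    Nat.card {p : X × X // p.1 ∈ G ⊓ Subgroup.centralizer ({(u : X) * v * (u : X)⁻¹} : Set X) ∧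
        p.2 ∈ G ⊓ Subgroup.centralizer ({(u : X) * v * (u : X)⁻¹} : Set X) ∧ Commute p.1 p.2} =
      Nat.card {p : X × X // p.1 ∈ G ⊓ Subgroup.centralizer ({v} : Set X) ∧
        p.2 ∈ G ⊓ Subgroup.centralizer ({v} : Set X) ∧ Commute p.1 p.2} := by
  refine (Nat.card_congr (Equiv.subtypeEquiv
    (Equiv.prodCongr (MulAut.conj (u : X)).toEquiv (MulAut.conj (u : X)).toEquiv) ?_)).symm
  rintro ⟨a, b⟩
  have key : ∀ x : X, x ∈ G ⊓ Subgroup.centralizer ({v} : Set X) ↔
      (u : X) * x * (u : X)⁻¹ ∈ G ⊓ Subgroup.centralizer ({(u : X) * v * (u : X)⁻¹} : Set X) := by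
    intro x
    simp only [Subgroup.mem_inf, Subgroup.mem_centralizer_singleton_iff]
    rw [Subgroup.mul_mem_cancel_right _ (inv_mem u.2), Subgroup.mul_mem_cancel_left _ u.2]
    refine and_congr_right' ⟨fun e => ?_, fun e => ?_⟩
    · calc (u : X) * x * (u : X)⁻¹ * ((u : X) * v * (u : X)⁻¹) = u * (x * v) * (u : X)⁻¹ := by group
        _ = u * (v * x) * (u : X)⁻¹ := by rw [e]
        _ = _ := by group
    · exact (MulAut.conj (u : X)).injective (by simpa [MulAut.conj_apply, mul_assoc] using e)
  show _ ↔ (u : X) * a * (u : X)⁻¹ ∈ _ ∧ (u : X) * b * (u : X)⁻¹ ∈ _ ∧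
    Commute ((u : X) * a * (u : X)⁻¹) ((u : X) * b * (u : X)⁻¹)
  rw [← key, ← key]
  exact and_congr_right' (and_congr_right' (Commute.conj_iff (u : X)).symm)

/-- Let X be a finite group, V an abelian normal subgroup of X (any two elements of V commute) and G a complement to V in X whose order is coprime to that of V. Let S be a set of representatives of the orbits of G on V under conjugation: S lies in V and every element of V is conjugate under G to exactly one member of S. Then the number of conjugacy classes of X equals the sum, over s in S, of the number of conjugacy classes of the centralizer of s in G. -/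
theorem result {X : Type*} [Group X] [Finite X] (V : Subgroup X) [V.Normal] (hab : ∀ a ∈ V, ∀ b ∈ V, a * b = b * a) (G : Subgroup X) (hGV : Subgroup.IsComplement' V G) (hcop : (Nat.card V).Coprime (Nat.card G)) (S : Finset X) (hSV : ∀ s ∈ S, s ∈ V) (hrep : ∀ v ∈ V, ∃! s, s ∈ S ∧ ∃ g ∈ G, g * v * g⁻¹ = s) : Nat.card (ConjClasses X) = ∑ s ∈ S, Nat.card (ConjClasses ↥(G ⊓ Subgroup.centralizer ({s} : Set X))) := by
  classical
  haveI := Fintype.ofFinite X
  haveI := Fintype.ofFinite V
  haveI := Fintype.ofFinite G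
  have hX := card_comm_eq_card_conjClasses_mul_card X
  have hVG : Nat.card V * Nat.card G = Nat.card X := hGV.card_mul
  -- pairs in `X` as pairs in `V × G`
  have h1 : Nat.card {p : X × X // Commute p.1 p.2} =
      ∑ gh : {gh : G × G // Commute gh.1 gh.2},
        Nat.card {ab : V × V // Commute ((ab.1 : X) * gh.1.1) ((ab.2 : X) * gh.1.2)} := by
    rw [← Nat.card_sigma]
    refine (Nat.card_eq_of_bijective (fun q => ⟨((q.2.1.1 : X) * q.1.1.1, (q.2.1.2 : X) * q.1.1.2), q.2.2⟩) ⟨?_, ?_⟩).symm
    · rintro ⟨⟨⟨g, h⟩, hgh⟩, ⟨⟨a, b⟩, hab'⟩⟩ ⟨⟨⟨g', h'⟩, hgh'⟩, ⟨⟨a', b'⟩, hab''⟩⟩ e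
      simp only [Subtype.mk.injEq, Prod.mk.injEq] at e
      have i1 := hGV.1 (a₁ := (a, g)) (a₂ := (a', g')) e.1
      have i2 := hGV.1 (a₁ := (b, h)) (a₂ := (b', h')) e.2
      simp only [Prod.mk.injEq] at i1 i2
      obtain ⟨rfl, rfl⟩ := i1
      obtain ⟨rfl, rfl⟩ := i2
      rfl
    · rintro ⟨⟨x, y⟩, hxy⟩
      obtain ⟨⟨a, g⟩, rfl⟩ := hGV.2 x
      obtain ⟨⟨b, h⟩, rfl⟩ := hGV.2 y
      refine ⟨⟨⟨(g, h), ?_⟩, ⟨(a, b), hxy⟩⟩, rfl⟩
      -- the images of `g` and `h` modulo `V` commute, and `G` meets `V` trivially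
      have hq : (((g : X) * h : X) : X ⧸ V) = (((h : X) * g : X) : X ⧸ V) := by
        have e := congrArg (QuotientGroup.mk' V) hxy.eq
        have ha : QuotientGroup.mk' V (a : X) = 1 := (QuotientGroup.eq_one_iff _).mpr a.2
        have hb : QuotientGroup.mk' V (b : X) = 1 := (QuotientGroup.eq_one_iff _).mpr b.2
        simp only [map_mul, ha, hb, one_mul] at e
        exact e
      rw [QuotientGroup.eq] at hq
      have hG : ((g : X) * h)⁻¹ * ((h : X) * g) ∈ G :=
        mul_mem (inv_mem (mul_mem g.2 h.2)) (mul_mem h.2 g.2)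
      have := (Subgroup.disjoint_def.mp hGV.disjoint) hq hG
      exact Subtype.ext (inv_mul_eq_one.mp this)
  have h2 : ∑ gh : {gh : G × G // Commute gh.1 gh.2},
        Nat.card {c : V // Commute (gh.1.1 : X) c ∧ Commute (gh.1.2 : X) c} =
      ∑ v : V, Nat.card (ConjClasses ↥(G ⊓ Subgroup.centralizer ({(v : X)} : Set X))) *
        Nat.card ↥(G ⊓ Subgroup.centralizer ({(v : X)} : Set X)) := by
    simp only [← commPairs]
    rw [← Nat.card_sigma, ← Nat.card_sigma]
    refine Nat.card_congr
      { toFun := fun q => ⟨q.2.1, ⟨((q.1.1.1 : X), (q.1.1.2 : X)),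
          ⟨q.1.1.1.2, Subgroup.mem_centralizer_singleton_iff.mpr q.2.2.1.eq⟩,
          ⟨q.1.1.2.2, Subgroup.mem_centralizer_singleton_iff.mpr q.2.2.2.eq⟩,
          congrArg Subtype.val q.1.2.eq⟩⟩
        invFun := fun q => ⟨⟨(⟨q.2.1.1, q.2.2.1.1⟩, ⟨q.2.1.2, q.2.2.2.1.1⟩), Subtype.ext q.2.2.2.2.eq⟩,
          ⟨q.1, Subgroup.mem_centralizer_singleton_iff.mp q.2.2.1.2,
            Subgroup.mem_centralizer_singleton_iff.mp q.2.2.2.1.2⟩⟩
        left_inv := fun q => rfl
        right_inv := fun q => rfl }
  -- sum over orbits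
  have hmemV : ∀ v : X, v ∈ V → ∀ u : G, (u : X) * v * (u : X)⁻¹ ∈ V := fun v hv u =>
    Subgroup.Normal.conj_mem ‹V.Normal› v hv u
  choose rep hrep1 hrep2 using fun v : V => hrep v v.2
  have h3 : ∑ v : V, Nat.card (ConjClasses ↥(G ⊓ Subgroup.centralizer ({(v : X)} : Set X))) *
        Nat.card ↥(G ⊓ Subgroup.centralizer ({(v : X)} : Set X)) =
      ∑ s ∈ S, Nat.card G *
        Nat.card (ConjClasses ↥(G ⊓ Subgroup.centralizer ({s} : Set X))) := by
    rw [← Finset.sum_fiberwise_of_maps_to (g := rep) (t := S) fun v _ => (hrep1 v).1]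
    refine Finset.sum_congr rfl fun s hs => ?_
    have hval : ∀ v ∈ Finset.univ.filter (fun v : V => rep v = s),
        Nat.card (ConjClasses ↥(G ⊓ Subgroup.centralizer ({(v : X)} : Set X))) *
          Nat.card ↥(G ⊓ Subgroup.centralizer ({(v : X)} : Set X)) =
        Nat.card (ConjClasses ↥(G ⊓ Subgroup.centralizer ({s} : Set X))) *
          Nat.card ↥(G ⊓ Subgroup.centralizer ({s} : Set X)) := by
      intro v hv
      obtain ⟨u, hu, e⟩ := (hrep1 v).2
      rw [(Finset.mem_filter.mp hv).2] at e
      rw [← commPairs, ← commPairs, ← e]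
      exact (conj_invariant G v ⟨u, hu⟩).symm
    rw [Finset.sum_congr rfl hval, Finset.sum_const, smul_eq_mul]
    -- the orbit of `s`
    let f : G → V := fun u => ⟨(u : X) * s * (u : X)⁻¹, hmemV s (hSV s hs) u⟩
    have hfib : ∀ v ∈ Finset.univ.filter (fun v : V => rep v = s),
        (Finset.univ.filter (fun u : G => f u = v)).card =
          Nat.card ↥(G ⊓ Subgroup.centralizer ({s} : Set X)) := by
      intro v hv
      obtain ⟨u, hu, e⟩ := (hrep1 v).2
      rw [(Finset.mem_filter.mp hv).2] at e
      rw [← Fintype.card_subtype, ← Nat.card_eq_fintype_card]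
      have key : ∀ a : X, a * s * a⁻¹ = (v : X) ↔ u * a ∈ Subgroup.centralizer ({s} : Set X) := by
        intro a
        rw [Subgroup.mem_centralizer_singleton_iff]
        constructor
        · intro ha
          have ha' : a * s = (v : X) * a := mul_inv_eq_iff_eq_mul.mp ha
          have e' : u * (v : X) = s * u := mul_inv_eq_iff_eq_mul.mp e
          rw [mul_assoc, ha', ← mul_assoc, e', mul_assoc]
        · intro ha
          calc a * s * a⁻¹ = u⁻¹ * (u * a * s) * a⁻¹ := by group
            _ = u⁻¹ * (s * (u * a)) * a⁻¹ := by rw [ha]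
            _ = u⁻¹ * (u * (v : X) * u⁻¹) * u := by rw [e]; group
            _ = (v : X) := by group
      refine Nat.card_congr
        { toFun := fun a => ⟨u * (a.1 : X), mul_mem hu a.1.2, (key _).mp (congrArg Subtype.val a.2)⟩
          invFun := fun c => ⟨⟨u⁻¹ * (c : X), mul_mem (inv_mem hu) c.2.1⟩,
            Subtype.ext ((key _).mpr (by rw [mul_inv_cancel_left]; exact c.2.2))⟩
          left_inv := fun a => Subtype.ext (Subtype.ext (inv_mul_cancel_left _ _))
          right_inv := fun c => Subtype.ext (mul_inv_cancel_left _ _) }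
    have hG' : Nat.card G = (Finset.univ.filter (fun v : V => rep v = s)).card *
        Nat.card ↥(G ⊓ Subgroup.centralizer ({s} : Set X)) := by
      rw [Nat.card_eq_fintype_card, ← Finset.card_univ,
        Finset.card_eq_sum_card_fiberwise (f := f) (t := Finset.univ.filter (fun v : V => rep v = s)),
        Finset.sum_congr rfl hfib, Finset.sum_const, smul_eq_mul]
      intro u _
      refine Finset.mem_filter.mpr ⟨Finset.mem_univ _, (hrep2 _ s ⟨hs, (u : X)⁻¹, inv_mem u.2, ?_⟩).symm⟩
      show (u : X)⁻¹ * ((u : X) * s * (u : X)⁻¹) * ((u : X)⁻¹)⁻¹ = s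
      group
    rw [hG']
    ring
  have h4 : Nat.card {p : X × X // Commute p.1 p.2} =
      (∑ s ∈ S, Nat.card (ConjClasses ↥(G ⊓ Subgroup.centralizer ({s} : Set X)))) * Nat.card X := by
    rw [h1, Finset.sum_congr rfl (fun gh _ => fiber V hab G hcop gh.1.1 gh.1.2 gh.2), ← Finset.mul_sum,
      h2, h3, ← Finset.mul_sum, ← hVG]
    ring
  rw [hX] at h4
  exact Nat.eq_of_mul_eq_mul_right Nat.card_pos h4

end Cfsg.Agent.S4956
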