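import Cfsg.Statements.S4958
import Cfsg.Agent.Lib.CharBlocks.AMGM
import Cfsg.Agent.Lib.CharBlocks.PElementValue
import Cfsg.Agent.Lib.Char.Ito
import Cfsg.Agent.Lib.CharNormal.Linear
import Cfsg.Agent.Lib.CharNormal.Galois
import Mathlib.Algebra.Order.Chebyshev

set_option autoImplicit false
open Cfsg

namespace Cfsg.Agent.S4958

open CfsgLib.Char CfsgLib.CharNormal CfsgLib.CharBlocks
open scoped ComplexConjugate commutatorElement

universe u

/-- The lower bound for the weighted quadratic form attached to `F`. -/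
def HasWeight (B : Type u) [CommGroup B] [Fintype B] (F : B → ℕ) : Prop :=
  ∃ w : Finset (IrrCharacter B) → IrrCharacter B → ℕ,
    (∀ (σ : ℂ ≃+* ℂ) S e, w (S.map (galIrr σ).toEmbedding) (galIrr σ e) = w S e) ∧
    (∀ S, S.Nonempty → Nat.card B ≤ ∑ e ∈ S, w S e) ∧
    ∀ (S : Finset (IrrCharacter B)) (a : IrrCharacter B → ℂ), (∀ e, e ∉ S → a e = 0) →
      (Nat.card B : ℝ) * ∑ e ∈ S, (w S e : ℝ) * Complex.normSq (a e) ≤
        ∑ b, (F b : ℝ) * Complex.normSq (∑ e, a e * (e : B → ℂ) b)

theorem irr_linear {B : Type u} [CommGroup B] [Fintype B] (e : IrrCharacter B) :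
    (e : B → ℂ) 1 = 1 :=
  irr_one_eq_one_of_comm mul_comm e.2

theorem card_irr_comm {B : Type u} [CommGroup B] [Fintype B] :
    Nat.card (IrrCharacter B) = Nat.card B := by
  rw [card_irr_eq_card_conjClasses]
  exact (Nat.card_eq_of_bijective ConjClasses.mk
    ⟨fun a b h => isConj_iff_eq.mp (ConjClasses.mk_eq_mk_iff_isConj.mp h),
      ConjClasses.mk_surjective⟩).symm

theorem hasWeight_punit : HasWeight PUnit.{u + 1} fun _ => 1 := by
  classical
  refine ⟨fun _ _ => 1, fun _ _ _ => rfl, fun S hS => ?_, fun S a ha => ?_⟩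
  · rw [Finset.sum_const, smul_eq_mul, mul_one, Nat.card_eq_fintype_card, Fintype.card_punit]
    exact hS.card_pos
  · have hs : Subsingleton (IrrCharacter PUnit.{u + 1}) := by
      have : Nat.card (IrrCharacter PUnit.{u + 1}) = 1 := by
        rw [card_irr_comm, Nat.card_eq_fintype_card, Fintype.card_punit]
      exact (Nat.card_eq_one_iff_unique.mp this).1
    simp only [Nat.card_eq_fintype_card, Fintype.card_punit, Nat.cast_one, one_mul]
    rw [Fintype.sum_unique]
    rcases S.eq_empty_or_nonempty with rfl | ⟨e, he⟩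
    · rw [Finset.sum_empty]; exact Complex.normSq_nonneg _
    rw [show S = {e} from Finset.eq_singleton_iff_unique_mem.mpr
      ⟨he, fun x _ => Subsingleton.elim x e⟩, Finset.sum_singleton, Fintype.sum_subsingleton _ e,
      show (default : PUnit.{u + 1}) = 1 from rfl, irr_linear, mul_one]

section Prod

variable {A B : Type u} [CommGroup A] [Fintype A] [CommGroup B] [Fintype B]

/-- The components of a character of a product. -/
noncomputable def split (e : IrrCharacter (A × B)) : IrrCharacter A × IrrCharacter B :=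
  (⟨fun x => (e : A × B → ℂ) (x, 1),
      isIrr_of_linear (isCharacter_comp (isCharacter_of_isIrr e.2) (MonoidHom.inl A B)) (irr_linear e)⟩,
    ⟨fun y => (e : A × B → ℂ) (1, y),
      isIrr_of_linear (isCharacter_comp (isCharacter_of_isIrr e.2) (MonoidHom.inr A B)) (irr_linear e)⟩)

theorem split_apply (e : IrrCharacter (A × B)) (x : A) (y : B) :
    (e : A × B → ℂ) (x, y) = ((split e).1 : A → ℂ) x * ((split e).2 : B → ℂ) y := by
  show _ = (e : A × B → ℂ) (x, 1) * (e : A × B → ℂ) (1, y)
  rw [← linear_map_mul (isCharacter_of_isIrr e.2) (irr_linear e), Prod.mk_mul_mk, mul_one, one_mul]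

theorem split_bijective : Function.Bijective (split : IrrCharacter (A × B) → _) := by
  refine (Nat.bijective_iff_injective_and_card _).mpr ⟨fun e f h => ?_, ?_⟩
  · exact Subtype.ext (funext fun z => by rw [split_apply e z.1 z.2, split_apply f z.1 z.2, h])
  · rw [Nat.card_prod, card_irr_comm, card_irr_comm, card_irr_comm, Nat.card_prod]

theorem split_galIrr (σ : ℂ ≃+* ℂ) (e : IrrCharacter (A × B)) :
    split (galIrr σ e) = (galIrr σ (split e).1, galIrr σ (split e).2) := rfl

theorem sum_normSq_linComb (c : IrrCharacter A → ℂ) :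
    ∑ x, Complex.normSq (∑ j, c j * (j : A → ℂ) x) =
      (Nat.card A : ℝ) * ∑ j, Complex.normSq (c j) := by
  classical
  refine Complex.ofReal_injective ?_
  push_cast
  simp only [← Complex.mul_conj]
  have h1 := card_mul_classInner (∑ j, c j • (j : A → ℂ)) (∑ j, c j • (j : A → ℂ))
  rw [classInner_sum_left] at h1
  simp only [classInner_smul_left, classInner_sum_right, classInner_smul_right,
    classInner_irrCharacter, mul_ite, mul_one, mul_zero, Finset.sum_ite_eq, Finset.mem_univ,
    if_true, Finset.sum_apply, Pi.smul_apply, smul_eq_mul] at h1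
  exact h1.symm.trans (congrArg _ (Finset.sum_congr rfl fun x _ => mul_comm _ _))

/-- The weight on a product. -/
theorem hasWeight_prod {F : B → ℕ} (hF : HasWeight B F) [DecidableEq A] :
    HasWeight (A × B)
      fun z => (if z.1 = 1 then 1 else Nat.card A + 1) * F z.2 := by
  classical
  obtain ⟨w', hw1, hw2, hw3⟩ := hF
  let J : Finset (IrrCharacter (A × B)) → Finset (IrrCharacter A) :=
    fun S => S.image fun e => (split e).1
  let fib : Finset (IrrCharacter (A × B)) → IrrCharacter A → Finset (IrrCharacter B) :=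
    fun S j => (S.filter fun e => (split e).1 = j).image fun e => (split e).2
  refine ⟨fun S e => (Nat.card A + 1 - (J S).card) * w' (fib S (split e).1) (split e).2, ?_, ?_, ?_⟩
  · intro σ S e
    beta_reduce
    have hJ : J (S.map (galIrr σ).toEmbedding) = (J S).map (galIrr σ).toEmbedding := by
      simp only [J, Finset.map_eq_image, Finset.image_image]
      rfl
    have hfib : fib (S.map (galIrr σ).toEmbedding) (split (galIrr σ e)).1 =
        (fib S (split e).1).map (galIrr σ).toEmbedding := by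
      simp only [fib, Finset.map_eq_image, Finset.image_image, Finset.filter_image, split_galIrr,
        Equiv.coe_toEmbedding]
      refine Finset.ext fun k => ?_
      simp only [Finset.mem_image, Finset.mem_filter, Function.comp_apply,
        (galIrr σ).injective.eq_iff, split_galIrr]
    rw [hJ, Finset.card_map, hfib, split_galIrr, hw1]
  · intro S hS
    have hfne : ∀ j ∈ J S, (fib S j).Nonempty := fun j hj => by
      obtain ⟨e, he, rfl⟩ := Finset.mem_image.mp hj
      exact ⟨_, Finset.mem_image.mpr ⟨e, Finset.mem_filter.mpr ⟨he, rfl⟩, rfl⟩⟩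
    have hs : (J S).card ≤ Nat.card A := by
      rw [← card_irr_comm (B := A), Nat.card_eq_fintype_card]
      exact Finset.card_le_univ _
    have h1 : 1 ≤ (J S).card := (hS.image _).card_pos
    have h2 : Nat.card A ≤ (Nat.card A + 1 - (J S).card) * (J S).card := by
      obtain ⟨t, ht⟩ : ∃ t, Nat.card A = (J S).card + t := ⟨_, (Nat.add_sub_cancel' hs).symm⟩
      rw [ht, show (J S).card + t + 1 - (J S).card = t + 1 by omega]
      nlinarith
    have hsum : ∀ j ∈ J S, Nat.card B ≤
        ∑ e ∈ S.filter (fun e => (split e).1 = j), w' (fib S j) (split e).2 := fun j hj => by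
      refine (hw2 _ (hfne j hj)).trans_eq ?_
      exact Finset.sum_image fun e he f hf h => split_bijective.injective
        (Prod.ext ((Finset.mem_filter.mp he).2.trans (Finset.mem_filter.mp hf).2.symm) h)
    rw [← Finset.sum_fiberwise_of_maps_to (s := S) (t := J S) (g := fun e => (split e).1)
      fun e he => Finset.mem_image_of_mem _ he]
    calc Nat.card (A × B) = Nat.card A * Nat.card B := Nat.card_prod _ _
      _ ≤ ((Nat.card A + 1 - (J S).card) * (J S).card) * Nat.card B :=
          Nat.mul_le_mul_right _ h2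
      _ = ∑ _j ∈ J S, (Nat.card A + 1 - (J S).card) * Nat.card B := by
          rw [Finset.sum_const, smul_eq_mul]; ring
      _ ≤ _ := Finset.sum_le_sum fun j hj => by
          refine (Nat.mul_le_mul_left _ (hsum j hj)).trans_eq ?_
          rw [Finset.mul_sum]
          exact Finset.sum_congr rfl fun e he => by beta_reduce; rw [(Finset.mem_filter.mp he).2]
  · intro S a ha
    let E := Equiv.ofBijective _ (split_bijective (A := A) (B := B))
    let a' : IrrCharacter A → IrrCharacter B → ℂ := fun j k => a (E.symm (j, k))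
    let φ : IrrCharacter A → B → ℂ := fun j y => ∑ k, a' j k * (k : B → ℂ) y
    have hval : ∀ x y, ∑ e, a e * (e : A × B → ℂ) (x, y) = ∑ j, φ j y * (j : A → ℂ) x := by
      intro x y
      rw [← E.symm.sum_comp, Fintype.sum_prod_type]
      refine Finset.sum_congr rfl fun j _ => ?_
      rw [Finset.sum_mul]
      refine Finset.sum_congr rfl fun k _ => ?_
      rw [split_apply, show split (E.symm (j, k)) = (j, k) from E.apply_symm_apply (j, k)]
      ring
    have ha' : ∀ j k, k ∉ fib S j → a' j k = 0 := fun j k hk => ha _ fun he => hk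
      (Finset.mem_image.mpr ⟨_, Finset.mem_filter.mpr ⟨he,
        congrArg Prod.fst (E.apply_symm_apply (j, k))⟩, congrArg Prod.snd (E.apply_symm_apply (j, k))⟩)
    have hJ : ∀ j, j ∉ J S → ∀ y, φ j y = 0 := fun j hj y =>
      Finset.sum_eq_zero fun k _ => by
        rw [ha' j k fun hk => hj (by
          obtain ⟨e, he, -⟩ := Finset.mem_image.mp hk
          obtain ⟨h1, rfl⟩ := Finset.mem_filter.mp he
          exact Finset.mem_image_of_mem _ h1), zero_mul]
    have hstep : ∀ y, (Nat.card A : ℝ) * ((Nat.card A + 1 - (J S).card : ℕ) : ℝ) *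
        ∑ j, Complex.normSq (φ j y) ≤
        ∑ x, ((if x = 1 then 1 else Nat.card A + 1 : ℕ) : ℝ) *
          Complex.normSq (∑ j, φ j y * (j : A → ℂ) x) := by
      intro y
      set g : A → ℝ := fun x => Complex.normSq (∑ j, φ j y * (j : A → ℂ) x)
      have h1 : ∑ x, ((if x = 1 then 1 else Nat.card A + 1 : ℕ) : ℝ) * g x =
          ((Nat.card A : ℝ) + 1) * ∑ x, g x - (Nat.card A : ℝ) * g 1 := by
        rw [← Finset.add_sum_erase _ _ (Finset.mem_univ (1 : A)),
          ← Finset.add_sum_erase Finset.univ g (Finset.mem_univ (1 : A)), if_pos rfl,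
          Finset.sum_congr rfl fun x hx => by rw [if_neg (Finset.ne_of_mem_erase hx)],
          ← Finset.mul_sum]
        push_cast
        ring
      have h2 : g 1 ≤ ((J S).card : ℝ) * ∑ j, Complex.normSq (φ j y) := by
        have h3 : ∑ j, φ j y * (j : A → ℂ) 1 = ∑ j ∈ J S, φ j y := by
          rw [Finset.sum_congr rfl fun j _ => by rw [irr_linear j, mul_one]]
          exact (Finset.sum_subset (Finset.subset_univ _) fun j _ hj => hJ j hj y).symm
        show Complex.normSq _ ≤ _
        rw [h3, Complex.normSq_eq_norm_sq]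
        refine (pow_le_pow_left₀ (norm_nonneg _) (norm_sum_le _ _) 2).trans ?_
        refine (sq_sum_le_card_mul_sum_sq (s := J S) (f := fun j => ‖φ j y‖)).trans ?_
        refine mul_le_mul_of_nonneg_left ?_ (Nat.cast_nonneg _)
        simp only [← Complex.normSq_eq_norm_sq]
        exact Finset.sum_le_sum_of_subset_of_nonneg (Finset.subset_univ _)
          fun j _ _ => Complex.normSq_nonneg _
      have hs : (J S).card ≤ Nat.card A + 1 := by
        rw [← card_irr_comm (B := A), Nat.card_eq_fintype_card]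
        exact (Finset.card_le_univ _).trans (Nat.le_succ _)
      rw [h1, sum_normSq_linComb, Nat.cast_sub hs, Nat.cast_add, Nat.cast_one]
      nlinarith [Nat.cast_nonneg (α := ℝ) (Nat.card A)]
    set r : ℕ := Nat.card A + 1 - (J S).card with hr
    calc (Nat.card (A × B) : ℝ) * ∑ e ∈ S,
          ((r * w' (fib S (split e).1) (split e).2 : ℕ) : ℝ) * Complex.normSq (a e)
        ≤ (Nat.card A : ℝ) * r * ∑ j, (Nat.card B : ℝ) *
            ∑ k ∈ fib S j, (w' (fib S j) k : ℝ) * Complex.normSq (a' j k) := by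
          refine le_of_eq ?_
          rw [Nat.card_prod, ← Finset.mul_sum,
            ← Finset.sum_fiberwise_of_maps_to (s := S) (t := Finset.univ)
              (g := fun e => (split e).1) fun e _ => Finset.mem_univ _,
            Finset.mul_sum, Finset.mul_sum, Finset.mul_sum]
          refine Finset.sum_congr rfl fun j _ => ?_
          simp only [fib]
          rw [Finset.sum_image (fun e he f hf h => split_bijective.injective
              (Prod.ext ((Finset.mem_filter.mp he).2.trans (Finset.mem_filter.mp hf).2.symm) h)),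
            Finset.mul_sum, Finset.mul_sum, Finset.mul_sum]
          refine Finset.sum_congr rfl fun e he => ?_
          rw [(Finset.mem_filter.mp he).2, show a' j (split e).2 = a e from by
            show a (E.symm (j, (split e).2)) = a e
            rw [show (j, (split e).2) = E e from Prod.ext (Finset.mem_filter.mp he).2.symm rfl,
              E.symm_apply_apply]]
          push_cast
          ring
      _ ≤ (Nat.card A : ℝ) * r * ∑ j, ∑ y, (F y : ℝ) * Complex.normSq (φ j y) := by
          refine mul_le_mul_of_nonneg_left ?_ (by positivity)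
          exact Finset.sum_le_sum fun j _ => hw3 (fib S j) (a' j) (ha' j)
      _ = ∑ y, (F y : ℝ) * ((Nat.card A : ℝ) * r * ∑ j, Complex.normSq (φ j y)) := by
          rw [Finset.sum_comm, Finset.mul_sum]
          refine Finset.sum_congr rfl fun y _ => ?_
          rw [Finset.mul_sum, Finset.mul_sum, Finset.mul_sum]
          exact Finset.sum_congr rfl fun j _ => by ring
      _ ≤ ∑ y, (F y : ℝ) * ∑ x, ((if x = 1 then 1 else Nat.card A + 1 : ℕ) : ℝ) *
            Complex.normSq (∑ j, φ j y * (j : A → ℂ) x) :=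
          Finset.sum_le_sum fun y _ => mul_le_mul_of_nonneg_left (hstep y) (Nat.cast_nonneg _)
      _ = _ := by
          rw [Fintype.sum_prod_type_right]
          refine Finset.sum_congr rfl fun y _ => ?_
          rw [Finset.mul_sum]
          refine Finset.sum_congr rfl fun x _ => ?_
          rw [hval, Nat.cast_mul]
          ring

end Prod

section Cover

variable {X : Type u} [Group X] [Finite X] {p : ℕ} [hp : Fact p.Prime]

/-- `[c, x] ∈ U'` gives `[c, x] = 1` when `c` fixes `U'` and has order prime to `p`. -/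
theorem commute_of_fixed {c x z : X} (hc : ¬ p ∣ orderOf c) (hzp : z ^ p = 1)
    (hcz : Commute c z) (hxz : Commute z x) (h : c * x * c⁻¹ = z * x) : c * x = x * c := by
  have key : ∀ m : ℕ, c ^ m * x * (c ^ m)⁻¹ = z ^ m * x := by
    intro m
    induction m with
    | zero => simp
    | succ m ih =>
      calc c ^ (m + 1) * x * (c ^ (m + 1))⁻¹ = c ^ m * (c * x * c⁻¹) * (c ^ m)⁻¹ := by group
        _ = c ^ m * z * (c ^ m)⁻¹ * (c ^ m * x * (c ^ m)⁻¹) := by rw [h]; group
        _ = z ^ (m + 1) * x := by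
          rw [ih, (hcz.pow_left m).eq, mul_inv_cancel_right, pow_succ', mul_assoc]
  have h1 := key (orderOf c)
  rw [pow_orderOf_eq_one, one_mul, inv_one, mul_one] at h1
  have hz : z = 1 := orderOf_eq_one_iff.mp (Nat.eq_one_of_dvd_coprimes
    (hp.out.coprime_iff_not_dvd.mpr hc) (orderOf_dvd_of_pow_eq_one hzp)
    (orderOf_dvd_of_pow_eq_one (mul_eq_right.mp h1.symm)))
  rw [hz, one_mul] at h
  exact mul_inv_eq_iff_eq_mul.mp h

/-- The weights along a chain of invariant subgroups. -/
theorem exists_cover (V : Subgroup X) (hab : ∀ a ∈ V, ∀ b ∈ V, a * b = b * a)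
    (hexp : ∀ v ∈ V, v ^ p = 1) (C : Subgroup X) [hCc : IsMulCommutative ↥C]
    (hC : ¬ p ∣ Nat.card C) :
    ∀ n (U : Subgroup X), Nat.card U = n → U ≤ V → (∀ c ∈ C, ∀ x ∈ U, c * x * c⁻¹ ∈ U) →
      ∃ (B : Type u) (_ : CommGroup B) (_ : Fintype B) (F : B → ℕ) (ι : C →* B),
        HasWeight B F ∧ (∀ c : C, ι c = 1 → ∀ x ∈ U, (c : X) * x = x * c) ∧
        ∀ c : C, F (ι c) * Nat.card (U ⊓ Subgroup.centralizer ({(c : X)} : Set X) : Subgroup X) ≤
          Nat.card U := by
  intro n
  induction n using Nat.strong_induction_on with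
  | _ n ih =>
  intro U hn hUV hinv
  classical
  by_cases hbot : U = ⊥
  · refine ⟨PUnit.{u + 1}, inferInstance, inferInstance, fun _ => 1, 1, hasWeight_punit,
      fun c _ x hx => ?_, fun c => ?_⟩
    · rw [hbot, Subgroup.mem_bot] at hx
      subst hx
      simp
    · rw [one_mul]; exact Subgroup.card_le_of_le inf_le_left
  let S : Set (Subgroup X) := {W | W < U ∧ ∀ c ∈ C, ∀ x ∈ W, c * x * c⁻¹ ∈ W}
  have hSne : S.Nonempty := ⟨⊥, bot_lt_iff_ne_bot.mpr hbot, fun c _ x hx => by
    rw [Subgroup.mem_bot] at hx ⊢; subst hx; simp⟩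
  obtain ⟨U', ⟨hlt, hinv'⟩, hmax⟩ :=
    Set.Finite.exists_maximal (Set.toFinite S) hSne
  have hcard : Nat.card U' < n := hn ▸ lt_of_le_of_ne (Subgroup.card_le_of_le hlt.le)
    fun e => hlt.ne (Subgroup.eq_of_le_of_card_ge hlt.le e.ge)
  obtain ⟨B', _, _, F', ι', hw', hker', hb'⟩ := ih _ hcard U' rfl (hlt.le.trans hUV) hinv'
  -- the kernel of the action on `U / U'`
  let K : Subgroup C :=
    { carrier := {c | ∀ x ∈ U, ⁅(c : X), x⁆ ∈ U'}
      one_mem' := fun x _ => by simp [one_mem]
      mul_mem' := fun {c d} hc hd x hx => by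
        have h1 : (d : X) * x * (d : X)⁻¹ ∈ U := hinv _ d.2 x hx
        have h2 := mul_mem (hc _ h1) (hd x hx)
        show ⁅((c * d : C) : X), x⁆ ∈ U'
        convert h2 using 1
        rw [Subgroup.coe_mul]
        simp only [commutatorElement_def]
        group
      inv_mem' := fun {c} hc x hx => by
        have h1 : (c : X)⁻¹ * x * ((c : X)⁻¹)⁻¹ ∈ U := hinv _ (inv_mem c.2) x hx
        have h2 := inv_mem (hc _ h1)
        show ⁅((c⁻¹ : C) : X), x⁆ ∈ U'
        rw [Subgroup.coe_inv]
        convert h2 using 1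
        simp only [commutatorElement_def]
        group }
  open scoped IsMulCommutative in
  let A := C ⧸ K
  open scoped IsMulCommutative in
  letI : CommGroup A := inferInstanceAs (CommGroup (C ⧸ K))
  have : Fintype A := Fintype.ofFinite _
  let π : C →* A := QuotientGroup.mk' K
  refine ⟨A × B', inferInstance, inferInstance, _, π.prod ι', hasWeight_prod hw',
    fun c hc x hx => ?_, fun c => ?_⟩
  · obtain ⟨hc1, hc2⟩ := Prod.mk.injEq _ _ _ _ ▸ (show (π c, ι' c) = ((1 : A), (1 : B')) from hc)
    have hz : ⁅(c : X), x⁆ ∈ U' := (QuotientGroup.eq_one_iff c).mp hc1 x hx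
    have hzU : ⁅(c : X), x⁆ ∈ V := hUV (hlt.le hz)
    refine commute_of_fixed (p := p) (z := ⁅(c : X), x⁆)
      (fun h => hC (h.trans (Subgroup.orderOf_dvd_natCard C c.2))) (hexp _ hzU)
      (hker' c hc2 _ hz) (hab _ hzU _ (hUV hx)) ?_
    rw [commutatorElement_def]
    group
  show (if π c = 1 then 1 else Nat.card A + 1) * F' (ι' c) *
    Nat.card (U ⊓ Subgroup.centralizer ({(c : X)} : Set X) : Subgroup X) ≤ Nat.card U
  set Z := Subgroup.centralizer ({(c : X)} : Set X)
  have hU' : Nat.card U' * U'.relIndex U = Nat.card U := by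
    rw [← Subgroup.relIndex_bot_left, Subgroup.relIndex_mul_relIndex ⊥ U' U bot_le hlt.le,
      Subgroup.relIndex_bot_left]
  have hb := hb' c
  have hD : ∀ d : C, d ∉ K → ∀ x ∈ U, ⁅(d : X), x⁆ ∈ U' → x ∈ U' := by
    intro d hd x hx hxd
    let D : Subgroup X :=
      { carrier := {x | x ∈ U ∧ ⁅(d : X), x⁆ ∈ U'}
        one_mem' := ⟨one_mem U, by simp [one_mem]⟩
        mul_mem' := fun {a b} ha hb => ⟨mul_mem ha.1 hb.1, by
          have e : ⁅(d : X), a * b⁆ = ⁅(d : X), a⁆ * (a * ⁅(d : X), b⁆ * a⁻¹) := by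
            simp only [commutatorElement_def]; group
          rw [e, hab a (hUV ha.1) _ (hUV (hlt.le hb.2)), mul_inv_cancel_right]
          exact mul_mem ha.2 hb.2⟩
        inv_mem' := fun {a} ha => ⟨inv_mem ha.1, by
          have e : ⁅(d : X), a⁻¹⁆ = a⁻¹ * ⁅(d : X), a⁆⁻¹ * a := by
            simp only [commutatorElement_def]; group
          rw [e, hab _ (inv_mem (hUV ha.1)) _ (inv_mem (hUV (hlt.le ha.2))), inv_mul_cancel_right]
          exact inv_mem ha.2⟩ }
    have hDU : D ≤ U := fun a ha => ha.1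
    have hDinv : ∀ h ∈ C, ∀ a ∈ D, h * a * h⁻¹ ∈ D := fun h hh a ha => ⟨hinv h hh a ha.1, by
      have hhd : (d : X) = h * d * h⁻¹ := by
        rw [show h * (d : X) = d * h from congrArg Subtype.val (hCc.is_comm.comm ⟨h, hh⟩ d),
          mul_inv_cancel_right]
      rw [hhd, show ⁅h * (d : X) * h⁻¹, h * a * h⁻¹⁆ = h * ⁅(d : X), a⁆ * h⁻¹ by
        simp only [commutatorElement_def]; group]
      exact hinv' h hh _ ha.2⟩
    have hU'D : U' ≤ D := fun a ha => ⟨hlt.le ha, by
      rw [commutatorElement_def]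
      exact mul_mem (hinv' _ d.2 a ha) (inv_mem ha)⟩
    have hne : D ≠ U := fun e => hd fun a ha => (e ▸ ha : a ∈ D).2
    exact (le_antisymm (hmax ⟨lt_of_le_of_ne hDU hne, hDinv⟩ hU'D) hU'D ▸ ⟨hx, hxd⟩ : x ∈ U')
  by_cases hcK : π c = 1
  · rw [if_pos hcK, one_mul]
    have hle : Nat.card (U ⊓ Z : Subgroup X) ≤
        Nat.card (U' ⊓ Z : Subgroup X) * U'.relIndex U := by
      have h1 := Subgroup.relIndex_mul_relIndex ⊥ (U' ⊓ Z) (U ⊓ Z) bot_le
        (inf_le_inf_right _ hlt.le)
      rw [Subgroup.relIndex_bot_left, Subgroup.relIndex_bot_left] at h1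
      rw [← h1]
      refine Nat.mul_le_mul_left _ ?_
      rw [show U' ⊓ Z = U' ⊓ (U ⊓ Z) by rw [← inf_assoc, inf_eq_left.mpr hlt.le],
        Subgroup.inf_relIndex_right]
      exact Subgroup.relIndex_le_of_le_right inf_le_left
        (fun h => Subgroup.index_ne_zero_of_finite h)
    calc F' (ι' c) * Nat.card (U ⊓ Z : Subgroup X)
        ≤ F' (ι' c) * (Nat.card (U' ⊓ Z : Subgroup X) * U'.relIndex U) :=
          Nat.mul_le_mul_left _ hle
      _ ≤ Nat.card U' * U'.relIndex U := by
          rw [← mul_assoc]; exact Nat.mul_le_mul_right _ hb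
      _ = _ := hU'
  · rw [if_neg hcK]
    have hcK' : c ∉ K := fun h => hcK ((QuotientGroup.eq_one_iff c).mpr h)
    have hle : U ⊓ Z ≤ U' ⊓ Z := fun x hx => by
      obtain ⟨hxU, hxZ⟩ := Subgroup.mem_inf.mp hx
      refine Subgroup.mem_inf.mpr ⟨hD c hcK' x hxU ?_, hxZ⟩
      rw [commutatorElement_eq_one_iff_mul_comm.mpr
        (Subgroup.mem_centralizer_singleton_iff.mp hxZ).symm]
      exact one_mem _
    have hidx : Nat.card A + 1 ≤ U'.relIndex U := by
      obtain ⟨x, hxU, hxU'⟩ := SetLike.exists_of_lt hlt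
      let R := U'.subgroupOf U
      have : Finite (U ⧸ R) := inferInstance
      let f : Option A → U ⧸ R := fun o => o.elim ((1 : U) : U ⧸ R)
        fun q => ((⟨(q.out : C) * x * ((q.out : C) : X)⁻¹, hinv _ q.out.2 x hxU⟩ : U) : U ⧸ R)
      have hnone : ∀ q : A, f (some q) ≠ f none := fun q h => by
        have h0 : ((⟨(q.out : C) * x * ((q.out : C) : X)⁻¹, hinv _ q.out.2 x hxU⟩ : U) : U ⧸ R) =
            ((1 : U) : U ⧸ R) := h
        have h' : (((q.out : C) : X) * x * ((q.out : C) : X)⁻¹)⁻¹ * 1 ∈ U' :=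
          Subgroup.mem_subgroupOf.mp (QuotientGroup.eq.mp h0)
        rw [mul_one, inv_mem_iff] at h'
        exact hxU' (by
          simpa [mul_assoc] using hinv' _ (inv_mem (q.out : C).2) _ h')
      have hinj : Function.Injective f := by
        rintro (_ | q) (_ | r) h
        · rfl
        · exact absurd h.symm (hnone r)
        · exact absurd h (hnone q)
        · refine congrArg some ?_
          rw [← QuotientGroup.out_eq' q, ← QuotientGroup.out_eq' r, QuotientGroup.eq]
          by_contra hd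
          set a : C := q.out
          set b : C := r.out
          have h0 : ((⟨(a : X) * x * (a : X)⁻¹, hinv _ a.2 x hxU⟩ : U) : U ⧸ R) =
              ((⟨(b : X) * x * (b : X)⁻¹, hinv _ b.2 x hxU⟩ : U) : U ⧸ R) := h
          have h' : ((a : X) * x * (a : X)⁻¹)⁻¹ * ((b : X) * x * (b : X)⁻¹) ∈ U' :=
            Subgroup.mem_subgroupOf.mp (QuotientGroup.eq.mp h0)
          refine hxU' (hD _ hd x hxU ?_)
          have h2 := hinv' _ (inv_mem a.2) _ h'
          have e : (a : X)⁻¹ * (((a : X) * x * (a : X)⁻¹)⁻¹ * ((b : X) * x * (b : X)⁻¹)) *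
              ((a : X)⁻¹)⁻¹ = x⁻¹ * ⁅((a : X)⁻¹ * b), x⁆ * x := by
            rw [show (a : X)⁻¹ * (((a : X) * x * (a : X)⁻¹)⁻¹ * ((b : X) * x * (b : X)⁻¹)) *
                ((a : X)⁻¹)⁻¹ = x⁻¹ * ((a : X)⁻¹ * b * x * ((b : X)⁻¹ * a)) by group,
              commutatorElement_def]
            group
          rw [e] at h2
          have hxc : x⁻¹ * ⁅((a : X)⁻¹ * b), x⁆ * x = ⁅((a : X)⁻¹ * b), x⁆ := by
            have hm : ⁅((a : X)⁻¹ * b), x⁆ ∈ U := by
              rw [commutatorElement_def]
              exact mul_mem (hinv _ (mul_mem (inv_mem a.2) b.2) x hxU) (inv_mem hxU)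
            rw [mul_assoc, hab _ (hUV hm) _ (hUV hxU), inv_mul_cancel_left]
          rwa [hxc] at h2
      have h := Nat.card_le_card_of_injective f hinj
      rwa [Finite.card_option] at h
    calc (Nat.card A + 1) * F' (ι' c) * Nat.card (U ⊓ Z : Subgroup X)
        ≤ (Nat.card A + 1) * F' (ι' c) * Nat.card (U' ⊓ Z : Subgroup X) :=
          Nat.mul_le_mul_left _ (Subgroup.card_le_of_le hle)
      _ ≤ (Nat.card A + 1) * Nat.card U' := by
          rw [mul_assoc]; exact Nat.mul_le_mul_left _ hb
      _ ≤ U'.relIndex U * Nat.card U' := Nat.mul_le_mul_right _ hidx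
      _ = _ := by rw [mul_comm]; exact hU'

end Cover

/-- Let X be a finite group and V a normal subgroup of X in which every element has order dividing the prime p, whose index in X is prime to p and which is its own centralizer in X; so V is an elementary abelian normal Sylow p-subgroup, and any complement G to V in X is a group of order prime to p acting faithfully on the vector space V by conjugation (the coprime linear setting of the k(GV) problem). Let G be a complement to V in X and suppose that for some v in V the centralizer of v in G is abelian. Then the number of conjugacy classes of X is at most the order of V (the abelian-stabilizer criterion for the k(GV) problem). -/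
theorem result {X : Type*} [Group X] [Finite X] (p : ℕ) [Fact p.Prime] (V : Subgroup X) [V.Normal] (hVexp : ∀ v ∈ V, v ^ p = 1) (hidx : ¬ p ∣ V.index) (hself : Subgroup.centralizer (V : Set X) = V) (G : Subgroup X) (hGV : Subgroup.IsComplement' V G) (v : X) (hv : v ∈ V) (hab : ∀ a ∈ G ⊓ Subgroup.centralizer ({v} : Set X), ∀ b ∈ G ⊓ Subgroup.centralizer ({v} : Set X), a * b = b * a) : Nat.card (ConjClasses X) ≤ Nat.card V := by
  classical
  have := Fintype.ofFinite X
  have hab' : ∀ a ∈ V, ∀ b ∈ V, a * b = b * a := by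
    intro a ha b hb
    rw [← hself] at ha
    exact (Subgroup.mem_centralizer_iff.mp ha b hb).symm
  have hVp : IsPGroup p V := fun a => ⟨1, Subtype.ext (by rw [pow_one]; exact hVexp a a.2)⟩
  set C : Subgroup X := G ⊓ Subgroup.centralizer ({v} : Set X) with hCdef
  have hCc : IsMulCommutative ↥C := ⟨⟨fun a b => Subtype.ext (hab a a.2 b b.2)⟩⟩
  have hCp : ¬ p ∣ Nat.card C := fun h => hidx (by
    rw [hGV.symm.index_eq_card]
    exact h.trans (Subgroup.card_dvd_of_le inf_le_left))
  obtain ⟨B, _, _, F, ι, ⟨w, hw1, hw2, hw3⟩, hker, hF⟩ :=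
    exists_cover V hab' hVexp C hCp _ V rfl le_rfl
      (fun c _ x hx => (inferInstance : V.Normal).conj_mem x hx c)
  have := Fintype.ofFinite C
  have hvC : ∀ c : C, Commute v (c : X) := fun c =>
    ((Subgroup.mem_centralizer_singleton_iff.mp (Subgroup.mem_inf.mp c.2).2) : (c : X) * v = v * c).symm
  have hι : Function.Injective ι := (injective_iff_map_eq_one ι).mpr fun c hc => Subtype.ext (by
    have h1 : (c : X) ∈ V := hself ▸ Subgroup.mem_centralizer_iff.mpr fun x hx => (hker c hc x hx).symm
    exact Subgroup.mem_bot.mp (hGV.disjoint.le_bot ⟨h1, (Subgroup.mem_inf.mp c.2).1⟩))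
  -- coefficients
  let a : IrrCharacter X → IrrCharacter B → ℂ := fun χ e =>
    (Nat.card C : ℂ)⁻¹ * ∑ c : C, (χ : X → ℂ) (v * c) * (e : B → ℂ) (ι c)⁻¹
  have haconj : ∀ χ e, conj (a χ e) =
      (Nat.card C : ℂ)⁻¹ * ∑ c : C, (χ : X → ℂ) (v * c)⁻¹ * (e : B → ℂ) (ι c) := fun χ e => by
    simp only [a, map_mul, map_inv₀, Complex.conj_natCast, map_sum]
    congr 1
    refine Finset.sum_congr rfl fun c _ => ?_
    rw [← char_inv (isCharacter_of_isIrr χ.2), ← char_inv (isCharacter_of_isIrr e.2), inv_inv]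
  have haint : ∀ χ e, IsIntegral ℤ (a χ e) := by
    intro χ e
    let Z : Subgroup X := Subgroup.closure (insert v (C : Set X))
    have hZc : ∀ x y : Z, x * y = y * x := by
      have hc := Subgroup.isMulCommutative_closure (k := insert v (C : Set X)) (by
        rintro x (rfl | hx) y (rfl | hy)
        · rfl
        · exact hvC ⟨y, hy⟩
        · exact (hvC ⟨x, hx⟩).symm
        · exact congrArg Subtype.val (hCc.is_comm.comm ⟨x, hx⟩ ⟨y, hy⟩))
      exact hc.is_comm.comm
    have hvZ : v ∈ Z := Subgroup.subset_closure (Set.mem_insert _ _)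
    have hCZ : C ≤ Z := fun c hc => Subgroup.subset_closure (Set.mem_insert_of_mem _ hc)
    have := Fintype.ofFinite Z
    obtain ⟨m, hm, -, hlin⟩ := res_comm_decomp hZc (isCharacter_res Z (isCharacter_of_isIrr χ.2))
    choose k hk using fun μ : IrrCharacter Z => classInner_char_nat
      (isCharacter_comp (isCharacter_of_isIrr μ.2) (Subgroup.inclusion hCZ))
      (isCharacter_comp (isCharacter_of_isIrr e.2) ι)
    have he : a χ e = ∑ μ : IrrCharacter Z, (m μ : ℂ) * (μ : Z → ℂ) ⟨v, hvZ⟩ * k μ := by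
      simp only [a, ← hk, classInner_def, Finset.mul_sum]
      rw [Finset.sum_comm]
      refine Finset.sum_congr rfl fun c _ => ?_
      rw [show (χ : X → ℂ) (v * c) = ∑ μ : IrrCharacter Z,
          (m μ : ℂ) * (μ : Z → ℂ) (⟨v, hvZ⟩ * ⟨c, hCZ c.2⟩) from hm (⟨v, hvZ⟩ * ⟨c, hCZ c.2⟩),
        Finset.sum_mul, Finset.mul_sum]
      refine Finset.sum_congr rfl fun μ _ => ?_
      rw [hlin, char_inv (isCharacter_of_isIrr e.2)]
      simp only [Function.comp_apply]
      rw [show (Subgroup.inclusion hCZ) c = (⟨c, hCZ c.2⟩ : Z) from rfl]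
      ring
    rw [he]
    have hnat : ∀ r : ℕ, IsIntegral ℤ (r : ℂ) := fun r => by
      simpa using (isIntegral_algebraMap (R := ℤ) (A := ℂ) (x := (r : ℤ)))
    exact IsIntegral.sum _ fun μ _ =>
      ((hnat _).mul (char_isIntegral (isCharacter_of_isIrr μ.2) _)).mul (hnat _)
  have hgal : ∀ (σ : ℂ ≃+* ℂ) χ e, a (galIrr σ χ) (galIrr σ e) = σ (a χ e) ∧
      conj (a (galIrr σ χ) (galIrr σ e)) = σ (conj (a χ e)) := fun σ χ e => by
    refine ⟨?_, ?_⟩
    · simp only [a, galIrr_apply, map_mul, map_inv₀, map_natCast, map_sum]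
    · rw [haconj, haconj]
      simp only [galIrr_apply, map_mul, map_inv₀, map_natCast, map_sum]
  have hns : ∀ χ e, ((Complex.normSq (a χ e) : ℝ) : ℂ) = conj (a χ e) * a χ e := fun χ e =>
    Complex.normSq_eq_conj_mul_self
  let S : IrrCharacter X → Finset (IrrCharacter B) := fun χ => Finset.univ.filter fun e => a χ e ≠ 0
  have hSgal : ∀ (σ : ℂ ≃+* ℂ) χ, S (galIrr σ χ) = (S χ).map (galIrr σ).toEmbedding := by
    intro σ χ
    refine Finset.ext fun e => ?_
    obtain ⟨e, rfl⟩ := (galIrr σ).surjective e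
    simp [S, (hgal σ χ e).1]
  -- the values
  have hcard0 : (Nat.card C : ℂ) ≠ 0 := Nat.cast_ne_zero.mpr Nat.card_pos.ne'
  have horth : ∀ (c : C) (b : B), ∑ e : IrrCharacter B, (e : B → ℂ) (ι c)⁻¹ * (e : B → ℂ) b =
      if b = ι c then (Nat.card B : ℂ) else 0 := fun c b => by
    have h := second_orthogonality b (ι c)
    simp only [isConj_iff_eq] at h
    rw [show Nat.card (Subgroup.centralizer ({b} : Set B)) = Nat.card B from by
      rw [show Subgroup.centralizer ({b} : Set B) = ⊤ from eq_top_iff.mpr fun x _ =>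
        Subgroup.mem_centralizer_singleton_iff.mpr (mul_comm x b), Subgroup.card_top]] at h
    rw [← h]
    refine Finset.sum_congr rfl fun e _ => ?_
    rw [char_inv (isCharacter_of_isIrr e.2), mul_comm]
  have hψ : ∀ χ b, ∑ e, a χ e * (e : B → ℂ) b =
      (Nat.card B : ℂ) * (Nat.card C : ℂ)⁻¹ *
        ∑ c : C, if b = ι c then (χ : X → ℂ) (v * c) else 0 := fun χ b => by
    simp only [a, mul_assoc, ← Finset.mul_sum, Finset.sum_mul]
    rw [Finset.sum_comm, mul_left_comm]
    congr 1
    rw [Finset.mul_sum]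
    refine Finset.sum_congr rfl fun c _ => ?_
    rw [← Finset.mul_sum, horth]
    split_ifs <;> ring
  have hT : ∀ χ : IrrCharacter X, ∑ b, (F b : ℝ) * Complex.normSq (∑ e, a χ e * (e : B → ℂ) b) =
      ((Nat.card B : ℝ) / Nat.card C) ^ 2 *
        ∑ c : C, (F (ι c) : ℝ) * Complex.normSq ((χ : X → ℂ) (v * c)) := by
    intro χ
    rw [← Finset.sum_subset (Finset.subset_univ (Finset.univ.map ⟨ι, hι⟩))
      (fun b _ hb => ?_), Finset.sum_map, Finset.mul_sum]
    · refine Finset.sum_congr rfl fun c _ => ?_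
      show (F (ι c) : ℝ) * Complex.normSq (∑ e, a χ e * (e : B → ℂ) (ι c)) = _
      rw [hψ, Finset.sum_eq_single c (fun d _ hd => if_neg fun h => hd (hι h).symm)
        (fun h => absurd (Finset.mem_univ c) h), if_pos rfl, map_mul, map_mul, map_inv₀,
        Complex.normSq_natCast, Complex.normSq_natCast]
      ring
    · rw [hψ, Finset.sum_eq_zero fun c _ => if_neg fun h => hb (Finset.mem_map.mpr
        ⟨c, Finset.mem_univ c, h.symm⟩), mul_zero, map_zero, mul_zero]
  have hne : ∀ χ : IrrCharacter X, (S χ).Nonempty := fun χ => by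
    obtain ⟨n, hn⟩ := exists_degree (isCharacter_of_isIrr χ.2)
    have hv0 : (χ : X → ℂ) v ≠ 0 := fun h0 => by
      obtain ⟨k, hk⟩ := IsPGroup.iff_orderOf.mp hVp ⟨v, hv⟩
      refine hidx ((dvd_degree_of_apply_eq_zero (isCharacter_of_isIrr χ.2) (g := v) (k := k) ?_ h0
        hn).trans (degree_dvd_index_abelian_normal V hab' χ.2 hn))
      rw [← hk, Subgroup.orderOf_mk]
    by_contra hS
    have h := hψ χ (ι 1)
    rw [Finset.sum_eq_single (1 : C) (fun d _ hd => if_neg fun h => hd (hι h).symm)
        (fun h => absurd (Finset.mem_univ (1 : C)) h), if_pos rfl, Finset.sum_eq_zero fun e _ => by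
          rw [show a χ e = 0 from by
            by_contra he
            exact hS ⟨e, Finset.mem_filter.mpr ⟨Finset.mem_univ e, he⟩⟩, zero_mul]] at h
    rw [OneMemClass.coe_one, mul_one] at h
    exact mul_ne_zero (mul_ne_zero (Nat.cast_ne_zero.mpr Nat.card_pos.ne') (inv_ne_zero hcard0))
      hv0 h.symm
  -- the lower bound
  let T : Finset (Σ _ : IrrCharacter X × IrrCharacter B, ℕ) :=
    ((Finset.univ : Finset (IrrCharacter X × IrrCharacter B)).filter fun z => a z.1 z.2 ≠ 0).sigma
      fun z => Finset.range (w (S z.1) z.2)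
  have hTcard : Nat.card B * Nat.card (IrrCharacter X) ≤ T.card := by
    rw [Finset.card_sigma, Finset.sum_filter, Fintype.sum_prod_type, Nat.card_eq_fintype_card
      (α := IrrCharacter X), mul_comm, ← smul_eq_mul, ← Finset.card_univ, ← Finset.sum_const]
    refine Finset.sum_le_sum fun χ _ => ?_
    rw [← Finset.sum_filter]
    simp only [Finset.card_range]
    exact hw2 _ (hne χ)
  have hlow : (T.card : ℝ) ≤ ∑ t ∈ T, Complex.normSq (a t.1.1 t.1.2) := by
    refine card_le_sum_of_galois T _ (fun t _ => ?_) (fun t ht => ?_) fun σ => ?_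
    · rw [hns, haconj]
      have := haint t.1.1 t.1.2
      have h2 : IsIntegral ℤ (conj (a t.1.1 t.1.2)) :=
        this.map (Complex.conjAe.toAlgHom.restrictScalars ℤ)
      rw [haconj] at h2
      exact h2.mul this
    · exact Complex.normSq_pos.mpr (Finset.mem_filter.mp (Finset.mem_sigma.mp ht).1).2
    · rw [map_prod]
      refine Finset.prod_equiv
        ({ toFun := fun t => ⟨(galIrr σ t.1.1, galIrr σ t.1.2), t.2⟩
           invFun := fun t => ⟨((galIrr σ).symm t.1.1, (galIrr σ).symm t.1.2), t.2⟩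
           left_inv := fun t => by simp
           right_inv := fun t => by simp } :
          (Σ _ : IrrCharacter X × IrrCharacter B, ℕ) ≃ (Σ _ : IrrCharacter X × IrrCharacter B, ℕ))
        (fun t => ?_) (fun t _ => ?_)
      · obtain ⟨⟨χ, e⟩, i⟩ := t
        show _ ↔ (⟨(galIrr σ χ, galIrr σ e), i⟩ : Σ _ : IrrCharacter X × IrrCharacter B, ℕ) ∈ T
        simp only [T, Finset.mem_sigma, Finset.mem_filter, Finset.mem_univ, true_and,
          Finset.mem_range, (hgal σ χ e).1, hSgal, hw1, ne_eq, map_eq_zero_iff σ σ.injective]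
      · obtain ⟨⟨χ, e⟩, i⟩ := t
        show σ ((Complex.normSq (a χ e) : ℝ) : ℂ) =
          ((Complex.normSq (a (galIrr σ χ) (galIrr σ e)) : ℝ) : ℂ)
        rw [hns, hns, map_mul, (hgal σ χ e).1, ← (hgal σ χ e).2, (hgal σ χ e).1]
  have hsumT : ∑ t ∈ T, Complex.normSq (a t.1.1 t.1.2) =
      ∑ χ, ∑ e ∈ S χ, (w (S χ) e : ℝ) * Complex.normSq (a χ e) := by
    rw [Finset.sum_sigma, Finset.sum_filter, Fintype.sum_prod_type]
    refine Finset.sum_congr rfl fun χ _ => ?_
    rw [← Finset.sum_filter]
    refine Finset.sum_congr rfl fun e _ => ?_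
    show ∑ _s ∈ Finset.range (w (S χ) e), Complex.normSq (a χ e) = _
    rw [Finset.sum_const, Finset.card_range, nsmul_eq_mul]
  -- the upper bound
  have hcol : ∀ c : C, ∑ χ : IrrCharacter X, Complex.normSq ((χ : X → ℂ) (v * c)) ≤
      (Nat.card (V ⊓ Subgroup.centralizer ({(c : X)} : Set X) : Subgroup X) : ℝ) * Nat.card C := by
    intro c
    have hcol' : ∑ χ : IrrCharacter X, Complex.normSq ((χ : X → ℂ) (v * c)) =
        (Nat.card (Subgroup.centralizer ({v * (c : X)} : Set X)) : ℝ) := by
      apply Complex.ofReal_injective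
      rw [Complex.ofReal_sum, Complex.ofReal_natCast]
      have h := second_orthogonality (v * (c : X)) (v * c)
      rw [if_pos (IsConj.refl _)] at h
      rw [← h]
      exact Finset.sum_congr rfl fun χ _ => (Complex.mul_conj _).symm
    rw [hcol', ← Nat.cast_mul, Nat.cast_le, ← Nat.card_prod]
    have hdec : ∀ z : Subgroup.centralizer ({v * (c : X)} : Set X),
        ∃ q : (V ⊓ Subgroup.centralizer ({(c : X)} : Set X) : Subgroup X) × C,
          (q.1 : X) * q.2 = z := by
      rintro ⟨z, hz⟩
      obtain ⟨⟨⟨b, hb⟩, ⟨g, hg⟩⟩, hz'⟩ := hGV.2 z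
      have hz'' : b * g = z := hz'
      have hcomm := Subgroup.mem_centralizer_singleton_iff.mp hz
      rw [← hz''] at hcomm
      have hcG := (Subgroup.mem_inf.mp c.2).1
      have hconjV : ∀ (x y : X), y ∈ V → x * y * x⁻¹ ∈ V := fun x y hy =>
        (inferInstance : V.Normal).conj_mem y hy x
      -- split `b g (v c) = v c b g` along `X = V G`
      have e1 : b * g * (v * (c : X)) = (b * (g * v * g⁻¹)) * (g * c) := by group
      have e2 : v * (c : X) * (b * g) = (v * ((c : X) * b * (c : X)⁻¹)) * ((c : X) * g) := by group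
      have h3 := hGV.1 (a₁ := (⟨_, mul_mem hb (hconjV g v hv)⟩, ⟨g * c, mul_mem hg hcG⟩))
        (a₂ := (⟨_, mul_mem hv (hconjV c b hb)⟩, ⟨(c : X) * g, mul_mem hcG hg⟩))
        (show b * (g * v * g⁻¹) * (g * c) = v * ((c : X) * b * (c : X)⁻¹) * ((c : X) * g) by
          rw [← e1, ← e2, hcomm])
      simp only [Prod.mk.injEq, Subtype.mk.injEq] at h3
      obtain ⟨hV, hG⟩ := h3
      have hgc : Commute g (c : X) := hG
      -- `g` fixes `v`
      have hwV : ⁅(c : X), b⁆ ∈ V := mul_mem (hconjV c b hb) (inv_mem hb)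
      have hgv : g * v * g⁻¹ = v * ⁅(c : X), b⁆ := by
        rw [commutatorElement_def]
        have := congrArg (b⁻¹ * ·) hV
        rw [inv_mul_cancel_left] at this
        rw [this, hab' _ (inv_mem hb) _ (mul_mem hv (hconjV c b hb)), mul_assoc]
      have hcw : Commute (c : X) ⁅(c : X), b⁆ := by
        have h1 : Commute (c : X) (g * v * g⁻¹) :=
          (hgc.symm.mul_right (hvC c).symm).mul_right hgc.symm.inv_right
        rw [hgv] at h1
        have h2 := (hvC c).symm.inv_right.mul_right h1
        rwa [inv_mul_cancel_left] at h2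
      have hcb : (c : X) * b = b * c := commute_of_fixed (p := p) (z := ⁅(c : X), b⁆)
        (fun h => hCp (h.trans (Subgroup.orderOf_dvd_natCard C c.2))) (hVexp _ hwV) hcw
        (hab' _ hwV _ hb) (by rw [commutatorElement_def]; group)
      rw [commutatorElement_eq_one_iff_mul_comm.mpr hcb, mul_one] at hgv
      exact ⟨(⟨b, Subgroup.mem_inf.mpr ⟨hb, Subgroup.mem_centralizer_singleton_iff.mpr hcb.symm⟩⟩,
        ⟨g, Subgroup.mem_inf.mpr ⟨hg, Subgroup.mem_centralizer_singleton_iff.mpr
          (mul_inv_eq_iff_eq_mul.mp hgv)⟩⟩), hz''⟩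
    choose f hf using hdec
    exact Nat.card_le_card_of_injective f fun z1 z2 h => Subtype.ext (by rw [← hf z1, h, hf z2])
  have hup : (Nat.card B : ℝ) * ∑ t ∈ T, Complex.normSq (a t.1.1 t.1.2) ≤
      (Nat.card B : ℝ) ^ 2 * Nat.card V := by
    rw [hsumT, Finset.mul_sum]
    calc _ ≤ ∑ χ : IrrCharacter X, ((Nat.card B : ℝ) / Nat.card C) ^ 2 *
          ∑ c : C, (F (ι c) : ℝ) * Complex.normSq ((χ : X → ℂ) (v * c)) :=
        Finset.sum_le_sum fun χ _ => (hw3 (S χ) (a χ) fun e he => by
          simpa [S] using he).trans_eq (hT χ)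
      _ = ((Nat.card B : ℝ) / Nat.card C) ^ 2 * ∑ c : C, (F (ι c) : ℝ) *
          ∑ χ : IrrCharacter X, Complex.normSq ((χ : X → ℂ) (v * c)) := by
        rw [← Finset.mul_sum, Finset.sum_comm]
        simp only [Finset.mul_sum]
      _ ≤ ((Nat.card B : ℝ) / Nat.card C) ^ 2 * ∑ _c : C, (Nat.card V : ℝ) * Nat.card C := by
        refine mul_le_mul_of_nonneg_left (Finset.sum_le_sum fun c _ => ?_) (sq_nonneg _)
        refine (mul_le_mul_of_nonneg_left (hcol c) (Nat.cast_nonneg _)).trans ?_
        rw [← mul_assoc]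
        exact mul_le_mul_of_nonneg_right (by exact_mod_cast hF c) (Nat.cast_nonneg _)
      _ = _ := by
        rw [Finset.sum_const, Finset.card_univ, nsmul_eq_mul, ← Nat.card_eq_fintype_card]
        field_simp
  have hfin : (Nat.card B : ℝ) ^ 2 * Nat.card (IrrCharacter X) ≤ (Nat.card B : ℝ) ^ 2 * Nat.card V := by
    refine le_trans ?_ hup
    rw [pow_two, mul_assoc]
    refine mul_le_mul_of_nonneg_left (le_trans ?_ hlow) (Nat.cast_nonneg _)
    exact_mod_cast hTcard
  rw [← CfsgLib.Char.card_irr_eq_card_conjClasses]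
  have hB : (0 : ℝ) < (Nat.card B : ℝ) ^ 2 := by
    have : 0 < Nat.card B := Nat.card_pos
    positivity
  exact_mod_cast le_of_mul_le_mul_left hfin hB

end Cfsg.Agent.S4958
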