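import Cfsg.Statements.S4966
import Mathlib

set_option autoImplicit false
open Cfsg

namespace Cfsg.Agent.S4966

section Aux

open LinearMap (BilinForm)

variable {F : Type*} [Field F] {G : Type*} [Group G] {V : Type*} [AddCommGroup V] [Module F V]
  (ρ : Representation F G V)

/-- Invariance of a subspace. -/
def Inv (M : Submodule F V) : Prop := ∀ g : G, ∀ x ∈ M, ρ g x ∈ M

theorem inv_inf {M N : Submodule F V} (hM : Inv ρ M) (hN : Inv ρ N) : Inv ρ (M ⊓ N) :=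
  fun g x hx => ⟨hM g x hx.1, hN g x hx.2⟩

theorem inv_sup {M N : Submodule F V} (hM : Inv ρ M) (hN : Inv ρ N) : Inv ρ (M ⊔ N) := by
  intro g x hx
  obtain ⟨a, ha, b, hb, rfl⟩ := Submodule.mem_sup.mp hx
  rw [map_add]
  exact Submodule.add_mem_sup (hM g a ha) (hN g b hb)

/-- An invariant form on a subspace. -/
def InvOn (B : BilinForm F V) (M : Submodule F V) : Prop :=
  ∀ g : G, ∀ x ∈ M, ∀ y ∈ M, B (ρ g x) (ρ g y) = B x y

/-- The form separates `M` on the left. -/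
def SepOn (B : BilinForm F V) (M : Submodule F V) : Prop :=
  ∀ x ∈ M, (∀ y ∈ M, B x y = 0) → x = 0

variable [FiniteDimensional F V]

/-- A subspace of the dual with trivial common kernel is everything. -/
theorem eq_top_of_coann (W : Submodule F (Module.Dual F V)) (h : W.dualCoannihilator = ⊥) :
    W = ⊤ := by
  rw [← Subspace.dualCoannihilator_dualAnnihilator_eq (W := W), h, Submodule.dualAnnihilator_bot]

/-- Right separation follows from left separation. -/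
theorem sepOn_right {B : BilinForm F V} {M : Submodule F V} (h : SepOn B M) {y : V} (hy : y ∈ M)
    (h0 : ∀ x ∈ M, B x y = 0) : y = 0 := by
  let e : M →ₗ[F] Module.Dual F M := (B.compl₁₂ M.subtype M.subtype)
  have he : Function.Injective e := (injective_iff_map_eq_zero e).mpr fun x hx =>
    Subtype.ext (h x x.2 fun z hz => LinearMap.congr_fun hx ⟨z, hz⟩)
  have hs : Function.Surjective e :=
    (LinearMap.injective_iff_surjective_of_finrank_eq_finrank Subspace.dual_finrank_eq.symm).mp he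
  have : (⟨y, hy⟩ : M) = 0 := (Module.forall_dual_apply_eq_zero_iff F _).mp fun φ => by
    obtain ⟨x, rfl⟩ := hs φ
    exact h0 x x.2
  exact congrArg Subtype.val this

/-- A relative complement, invariant under the group. -/
theorem exists_invariant_compl [Finite G] (hG : (Nat.card G : F) ≠ 0) {M N : Submodule F V}
    (hM : Inv ρ M) (hN : Inv ρ N) (hNM : N ≤ M) :
    ∃ C : Submodule F V, C ≤ M ∧ Inv ρ C ∧ N ⊓ C = ⊥ ∧ N ⊔ C = M := by
  classical
  have := Fintype.ofFinite G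
  obtain ⟨C₀, hC₀⟩ := N.exists_isCompl
  let π₀ : V →ₗ[F] V := N.subtype.comp (N.projectionOnto C₀ hC₀)
  let π : V →ₗ[F] V := (Nat.card G : F)⁻¹ • ∑ g : G, (ρ g).comp (π₀.comp (ρ g⁻¹))
  have hπ₀N : ∀ x ∈ N, π₀ x = x := fun x hx => by
    show ((N.projectionOnto C₀ hC₀) x : V) = x
    rw [show x = ((⟨x, hx⟩ : N) : V) from rfl, Submodule.projectionOnto_apply_left]
  have hπmem : ∀ x, π x ∈ N := fun x => by
    simp only [π, LinearMap.smul_apply, LinearMap.sum_apply, LinearMap.comp_apply]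
    exact N.smul_mem _ (N.sum_mem fun g _ => hN g _ (N.projectionOnto C₀ hC₀ _).2)
  have hπN : ∀ x ∈ N, π x = x := fun x hx => by
    simp only [π, LinearMap.smul_apply, LinearMap.sum_apply, LinearMap.comp_apply]
    rw [Finset.sum_congr rfl fun g _ => show ρ g (π₀ (ρ g⁻¹ x)) = x by
      rw [hπ₀N _ (hN g⁻¹ x hx), ← Module.End.mul_apply, ← map_mul, mul_inv_cancel, map_one,
        Module.End.one_apply],
      Finset.sum_const, Finset.card_univ, ← Nat.card_eq_fintype_card, ← Nat.cast_smul_eq_nsmul F,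
      smul_smul, inv_mul_cancel₀ hG, one_smul]
  have hπeq : ∀ (h : G) x, π (ρ h x) = ρ h (π x) := fun h x => by
    simp only [π, LinearMap.smul_apply, LinearMap.sum_apply, LinearMap.comp_apply, map_smul, map_sum]
    congr 1
    rw [← Equiv.sum_comp (Equiv.mulLeft h)]
    refine Finset.sum_congr rfl fun g _ => ?_
    rw [Equiv.coe_mulLeft, map_mul, Module.End.mul_apply, mul_inv_rev, map_mul,
      Module.End.mul_apply, ← Module.End.mul_apply (ρ h⁻¹), ← map_mul, inv_mul_cancel, map_one,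
      Module.End.one_apply]
  refine ⟨M ⊓ LinearMap.ker π, inf_le_left, fun g x hx => ⟨hM g x hx.1, ?_⟩, ?_, ?_⟩
  · rw [SetLike.mem_coe, LinearMap.mem_ker, hπeq, LinearMap.mem_ker.mp hx.2, map_zero]
  · refine (Submodule.eq_bot_iff _).mpr fun x hx => ?_
    rw [← hπN x hx.1]
    exact LinearMap.mem_ker.mp hx.2.2
  · refine le_antisymm (sup_le hNM inf_le_left) fun x hx => ?_
    rw [← add_sub_cancel (π x) x]
    refine Submodule.add_mem_sup (hπmem x) ⟨M.sub_mem hx (hNM (hπmem x)), ?_⟩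
    rw [SetLike.mem_coe, LinearMap.mem_ker, map_sub, hπN _ (hπmem x), sub_self]

/-- The left orthogonal of a nondegenerate piece is an invariant complement. -/
theorem compl_left_orth {B : BilinForm F V} {M T : Submodule F V} (hM : Inv ρ M) (hT : Inv ρ T)
    (hTM : T ≤ M) (hinv : InvOn ρ B M) (hBM : SepOn B M) (hBT : SepOn B T) :
    ∃ R : Submodule F V, R ≤ M ∧ Inv ρ R ∧ T ⊓ R = ⊥ ∧ T ⊔ R = M ∧ SepOn B R := by
  let e : V →ₗ[F] Module.Dual F T := B.compl₁₂ LinearMap.id T.subtype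
  have hmem : ∀ x, x ∈ LinearMap.ker e ↔ ∀ t ∈ T, B x t = 0 := fun x =>
    ⟨fun h t ht => LinearMap.congr_fun (LinearMap.mem_ker.mp h) ⟨t, ht⟩,
      fun h => LinearMap.mem_ker.mpr (LinearMap.ext fun t => h t t.2)⟩
  have heT : Function.Surjective (e.comp T.subtype) :=
    (LinearMap.injective_iff_surjective_of_finrank_eq_finrank Subspace.dual_finrank_eq.symm).mp
      ((injective_iff_map_eq_zero _).mpr fun t ht =>
        Subtype.ext (hBT t t.2 fun u hu => LinearMap.congr_fun ht ⟨u, hu⟩))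
  have hsup : T ⊔ (M ⊓ LinearMap.ker e) = M := by
    refine le_antisymm (sup_le hTM inf_le_left) fun x hx => ?_
    obtain ⟨t, ht⟩ := heT (e x)
    rw [← add_sub_cancel (t : V) x]
    refine Submodule.add_mem_sup t.2 ⟨M.sub_mem hx (hTM t.2), ?_⟩
    rw [SetLike.mem_coe, LinearMap.mem_ker, map_sub, ← ht]
    exact sub_self _
  refine ⟨M ⊓ LinearMap.ker e, inf_le_left, fun g x hx => ⟨hM g x hx.1, (hmem _).mpr fun t ht => ?_⟩,
    ?_, hsup, fun x hx h0 => hBM x hx.1 fun y hy => ?_⟩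
  · rw [← hinv g⁻¹ _ (hM g x hx.1) _ (hTM ht), ← Module.End.mul_apply, ← map_mul, inv_mul_cancel,
      map_one, Module.End.one_apply]
    exact (hmem x).mp hx.2 _ (hT g⁻¹ t ht)
  · exact (Submodule.eq_bot_iff _).mpr fun x hx =>
      hBT x hx.1 fun t ht => (hmem x).mp hx.2.2 t ht
  · rw [← hsup] at hy
    obtain ⟨t, ht, r, hr, rfl⟩ := Submodule.mem_sup.mp hy
    rw [map_add, (hmem x).mp hx.2 t ht, h0 r hr, add_zero]

/-- The required decomposition of an invariant subspace. -/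
def Split (p : ℕ) (M : Submodule F V) : Prop :=
  ∃ U W : Submodule F V, U ⊓ W = ⊥ ∧ U ⊔ W = M ∧ Inv ρ U ∧ Inv ρ W ∧
    (∃ A : BilinForm F V, (∀ x, A x x = 0) ∧ InvOn ρ A U ∧ SepOn A U) ∧
    (∃ S : BilinForm F V, (∀ x y, S x y = S y x) ∧ InvOn ρ S W ∧ SepOn S W) ∧
    (p = 2 → ∀ g : G, ∀ w ∈ W, ρ g w = w)

theorem sepOn_bot (B : BilinForm F V) : SepOn B (⊥ : Submodule F V) :=
  fun _ hx _ => (Submodule.mem_bot F).mp hx

theorem invOn_bot (B : BilinForm F V) : InvOn ρ B (⊥ : Submodule F V) := by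
  intro g x hx y hy
  rw [(Submodule.mem_bot F).mp hx, (Submodule.mem_bot F).mp hy, map_zero]

theorem inv_bot : Inv ρ (⊥ : Submodule F V) := by
  intro g x hx
  rw [(Submodule.mem_bot F).mp hx, map_zero]
  exact Submodule.zero_mem _

theorem split_alt (p : ℕ) {M : Submodule F V} (hM : Inv ρ M) (A : BilinForm F V)
    (hA : ∀ x, A x x = 0) (hinv : InvOn ρ A M) (hsep : SepOn A M) : Split ρ p M :=
  ⟨M, ⊥, inf_bot_eq _, sup_bot_eq _, hM, inv_bot ρ, ⟨A, hA, hinv, hsep⟩,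
    ⟨0, fun _ _ => rfl, invOn_bot ρ 0, sepOn_bot 0⟩,
    fun _ g w hw => by rw [(Submodule.mem_bot F).mp hw, map_zero]⟩

theorem split_sym (p : ℕ) {M : Submodule F V} (hM : Inv ρ M) (S : BilinForm F V)
    (hS : ∀ x y, S x y = S y x) (hinv : InvOn ρ S M) (hsep : SepOn S M)
    (h2 : p = 2 → ∀ g : G, ∀ w ∈ M, ρ g w = w) : Split ρ p M :=
  ⟨⊥, M, bot_inf_eq _, bot_sup_eq _, inv_bot ρ, hM,
    ⟨0, fun _ => rfl, invOn_bot ρ 0, sepOn_bot 0⟩, ⟨S, hS, hinv, hsep⟩, h2⟩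

theorem exists_projections {T R : Submodule F V} (h : T ⊓ R = ⊥) :
    ∃ a b : V →ₗ[F] V, (∀ x ∈ T, a x = x ∧ b x = 0) ∧ ∀ x ∈ R, a x = 0 ∧ b x = x := by
  obtain ⟨C, hC⟩ := (T ⊔ R).exists_isCompl
  have hT : IsCompl T (R ⊔ C) := by
    refine ⟨disjoint_iff.mpr ((Submodule.eq_bot_iff _).mpr fun x hx => ?_),
      codisjoint_iff.mpr (by rw [← sup_assoc]; exact hC.sup_eq_top)⟩
    obtain ⟨r, hr, c, hc, rfl⟩ := Submodule.mem_sup.mp hx.2
    have hc0 : c = 0 := (Submodule.mem_bot F).mp (hC.inf_eq_bot ▸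
      ⟨by
        rw [show c = (r + c) - r by abel]
        exact Submodule.sub_mem _ (Submodule.mem_sup_left hx.1) (Submodule.mem_sup_right hr), hc⟩)
    rw [hc0, add_zero] at hx ⊢
    exact (Submodule.mem_bot F).mp (h ▸ ⟨hx.1, hr⟩)
  refine ⟨T.subtype.comp (T.projectionOnto _ hT),
    LinearMap.id - T.subtype.comp (T.projectionOnto _ hT), fun x hx => ?_, fun x hx => ?_⟩
  · have : T.projectionOnto _ hT x = ⟨x, hx⟩ :=
      Submodule.projectionOnto_apply_left hT ⟨x, hx⟩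
    simp [this]
  · have : T.projectionOnto _ hT x = 0 :=
      Submodule.projectionOnto_apply_of_mem_right hT (Submodule.mem_sup_left hx)
    simp [this]

theorem split_add (p : ℕ) {T R : Submodule F V} (h : T ⊓ R = ⊥) (h1 : Split ρ p T)
    (h2 : Split ρ p R) : Split ρ p (T ⊔ R) := by
  obtain ⟨U1, W1, hd1, hs1, hU1, hW1, ⟨A1, hA1, hA1i, hA1s⟩, ⟨S1, hS1, hS1i, hS1s⟩, ht1⟩ := h1
  obtain ⟨U2, W2, hd2, hs2, hU2, hW2, ⟨A2, hA2, hA2i, hA2s⟩, ⟨S2, hS2, hS2i, hS2s⟩, ht2⟩ := h2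
  obtain ⟨a, b, hT, hR⟩ := exists_projections h
  have hU1T : U1 ≤ T := hs1 ▸ le_sup_left
  have hW1T : W1 ≤ T := hs1 ▸ le_sup_right
  have hU2R : U2 ≤ R := hs2 ▸ le_sup_left
  have hW2R : W2 ≤ R := hs2 ▸ le_sup_right
  have ha : ∀ {t r : V}, t ∈ T → r ∈ R → a (t + r) = t ∧ b (t + r) = r := fun ht hr => by
    rw [map_add, map_add, (hT _ ht).1, (hT _ ht).2, (hR _ hr).1, (hR _ hr).2]
    simp
  have hkey : ∀ (P Q : BilinForm F V) (X Y : Submodule F V), X ≤ T → Y ≤ R → Inv ρ X → Inv ρ Y →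
      InvOn ρ P X → InvOn ρ Q Y → SepOn P X → SepOn Q Y →
      InvOn ρ (P.compl₁₂ a a + Q.compl₁₂ b b) (X ⊔ Y) ∧
        SepOn (P.compl₁₂ a a + Q.compl₁₂ b b) (X ⊔ Y) := by
    intro P Q X Y hXT hYR hX hY hPi hQi hPs hQs
    have hv : ∀ {x y x' y' : V}, x ∈ X → y ∈ Y → x' ∈ X → y' ∈ Y →
        (P.compl₁₂ a a + Q.compl₁₂ b b) (x + y) (x' + y') = P x x' + Q y y' :=
      fun hx hy hx' hy' => by
      rw [LinearMap.add_apply, LinearMap.add_apply, LinearMap.compl₁₂_apply,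
        LinearMap.compl₁₂_apply, (ha (hXT hx) (hYR hy)).1, (ha (hXT hx) (hYR hy)).2,
        (ha (hXT hx') (hYR hy')).1, (ha (hXT hx') (hYR hy')).2]
    refine ⟨fun g v hv' w hw' => ?_, fun v hv' h0 => ?_⟩
    · obtain ⟨x, hx, y, hy, rfl⟩ := Submodule.mem_sup.mp hv'
      obtain ⟨x', hx', y', hy', rfl⟩ := Submodule.mem_sup.mp hw'
      rw [map_add (ρ g), map_add (ρ g), hv (hX g x hx) (hY g y hy) (hX g x' hx') (hY g y' hy'),
        hv hx hy hx' hy', hPi g x hx x' hx', hQi g y hy y' hy']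
    · obtain ⟨x, hx, y, hy, rfl⟩ := Submodule.mem_sup.mp hv'
      have hx0 : x = 0 := hPs x hx fun x' hx' => by
        have := h0 (x' + 0) (Submodule.add_mem_sup hx' Y.zero_mem)
        rwa [hv hx hy hx' Y.zero_mem, map_zero, add_zero] at this
      have hy0 : y = 0 := hQs y hy fun y' hy' => by
        have := h0 (0 + y') (Submodule.add_mem_sup X.zero_mem hy')
        rwa [hv hx hy X.zero_mem hy', map_zero, zero_add] at this
      rw [hx0, hy0, add_zero]
  obtain ⟨hAi, hAs⟩ := hkey A1 A2 U1 U2 hU1T hU2R hU1 hU2 hA1i hA2i hA1s hA2s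
  obtain ⟨hSi, hSs⟩ := hkey S1 S2 W1 W2 hW1T hW2R hW1 hW2 hS1i hS2i hS1s hS2s
  refine ⟨U1 ⊔ U2, W1 ⊔ W2, (Submodule.eq_bot_iff _).mpr fun x hx => ?_,
    by rw [sup_sup_sup_comm, hs1, hs2], inv_sup ρ hU1 hU2, inv_sup ρ hW1 hW2,
    ⟨_, fun x => ?_, hAi, hAs⟩, ⟨_, fun x y => ?_, hSi, hSs⟩, fun h2' g w hw => ?_⟩
  · obtain ⟨u1, hu1, u2, hu2, rfl⟩ := Submodule.mem_sup.mp hx.1
    obtain ⟨w1, hw1, w2, hw2, e⟩ := Submodule.mem_sup.mp hx.2
    have e1 : u1 = w1 := by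
      rw [← (ha (hU1T hu1) (hU2R hu2)).1, ← e, (ha (hW1T hw1) (hW2R hw2)).1]
    have e2 : u2 = w2 := by
      rw [← (ha (hU1T hu1) (hU2R hu2)).2, ← e, (ha (hW1T hw1) (hW2R hw2)).2]
    have h1 : u1 = 0 := (Submodule.mem_bot F).mp (hd1.le ⟨hu1, e1 ▸ hw1⟩)
    have h2 : u2 = 0 := (Submodule.mem_bot F).mp (hd2.le ⟨hu2, e2 ▸ hw2⟩)
    rw [h1, h2, add_zero]
  · simp [hA1, hA2]
  · simp only [LinearMap.add_apply, LinearMap.compl₁₂_apply]
    rw [hS1, hS2]
  · obtain ⟨w1, hw1, w2, hw2, rfl⟩ := Submodule.mem_sup.mp hw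
    rw [map_add, ht1 h2' g w1 hw1, ht2 h2' g w2 hw2]

/-- Forms on an irreducible piece. -/
theorem split_irreducible (p : ℕ) [Fact p.Prime] [CharP F p] {S : Submodule F V} (hS : Inv ρ S)
    (hmin : ∀ U : Submodule F V, Inv ρ U → U ≤ S → U = ⊥ ∨ U = S) (b : BilinForm F V)
    (hinv : InvOn ρ b S) (hb : ∃ x ∈ S, ∃ y ∈ S, b x y ≠ 0) : Split ρ p S := by
  -- a nonzero invariant form on an irreducible piece separates it
  have hsep : ∀ c : BilinForm F V, InvOn ρ c S → (∃ x ∈ S, ∃ y ∈ S, c x y ≠ 0) → SepOn c S := by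
    intro c hc ⟨x, hx, y, hy, hxy⟩
    let K : Submodule F V := S ⊓ LinearMap.ker (c.compl₁₂ LinearMap.id S.subtype)
    have hK : ∀ v, v ∈ K ↔ v ∈ S ∧ ∀ w ∈ S, c v w = 0 := fun v =>
      ⟨fun h => ⟨h.1, fun w hw => LinearMap.congr_fun (LinearMap.mem_ker.mp h.2) ⟨w, hw⟩⟩,
        fun h => ⟨h.1, LinearMap.mem_ker.mpr (LinearMap.ext fun w => h.2 w w.2)⟩⟩
    rcases hmin K (fun g v hv => by
      obtain ⟨hvS, hv0⟩ := (hK v).mp hv
      refine (hK _).mpr ⟨hS g v hvS, fun w hw => ?_⟩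
      rw [← hc g⁻¹ _ (hS g v hvS) w hw, ← Module.End.mul_apply, ← map_mul, inv_mul_cancel, map_one,
        Module.End.one_apply]
      exact hv0 _ (hS g⁻¹ w hw)) inf_le_left with h | h
    · intro v hv h0
      exact (Submodule.mem_bot F).mp (h ▸ (hK v).mpr ⟨hv, h0⟩)
    · exact absurd (((hK x).mp (h.symm ▸ hx)).2 y hy) hxy
  by_cases hsum : ∃ x ∈ S, ∃ y ∈ S, b x y + b y x ≠ 0
  · let c : BilinForm F V := b + b.flip
    have hci : InvOn ρ c S := fun g x hx y hy => by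
      simp only [c, LinearMap.add_apply, LinearMap.BilinForm.flip_apply, hinv g x hx y hy, hinv g y hy x hx]
    have hcs : SepOn c S := hsep c hci hsum
    by_cases hp : p = 2
    · subst hp
      refine split_alt ρ 2 hS c (fun x => ?_) hci hcs
      show b x x + b x x = 0
      exact CharTwo.add_self_eq_zero _
    · exact split_sym ρ p hS c (fun x y => add_comm _ _) hci hcs fun h => absurd h hp
  push Not at hsum
  -- `b` is skew on `S`
  obtain ⟨C, hC⟩ := S.exists_isCompl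
  let π : V →ₗ[F] V := S.subtype.comp (S.projectionOnto C hC)
  let c : BilinForm F V := b.compl₁₂ π π
  have hπ : ∀ x ∈ S, π x = x := fun x hx => by
    show ((S.projectionOnto C hC) x : V) = x
    rw [show x = ((⟨x, hx⟩ : S) : V) from rfl, Submodule.projectionOnto_apply_left]
  have hπm : ∀ x, π x ∈ S := fun x => (S.projectionOnto C hC x).2
  have hci : InvOn ρ c S := fun g x hx y hy => by
    simp only [c, LinearMap.compl₁₂_apply, hπ x hx, hπ y hy, hπ _ (hS g x hx), hπ _ (hS g y hy),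
      hinv g x hx y hy]
  have hcs : SepOn c S := hsep c hci (by
    obtain ⟨x, hx, y, hy, h⟩ := hb
    exact ⟨x, hx, y, hy, by simpa only [c, LinearMap.compl₁₂_apply, hπ x hx, hπ y hy] using h⟩)
  by_cases hdiag : ∀ x ∈ S, b x x = 0
  · exact split_alt ρ p hS c (fun x => hdiag _ (hπm x)) hci hcs
  push Not at hdiag
  obtain ⟨x0, hx0, hx0'⟩ := hdiag
  have hp : p = 2 := by
    by_contra hne
    have h2 : (2 : F) ≠ 0 := fun h => hne (((Nat.prime_dvd_prime_iff_eq Fact.out Nat.prime_two).mp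
      ((CharP.cast_eq_zero_iff F p 2).mp (by exact_mod_cast h))))
    exact hx0' ((mul_eq_zero.mp ((two_mul (b x0 x0)).trans (hsum x0 hx0 x0 hx0))).resolve_left h2)
  subst hp
  let K : Submodule F V :=
    { carrier := {x | x ∈ S ∧ b x x = 0}
      zero_mem' := ⟨S.zero_mem, by simp⟩
      add_mem' := fun {x y} hx hy => ⟨S.add_mem hx.1 hy.1, by
        simp only [map_add, LinearMap.add_apply, hx.2, hy.2, zero_add, add_zero]
        exact hsum y hy.1 x hx.1⟩
      smul_mem' := fun r x hx => ⟨S.smul_mem r hx.1, by simp [hx.2]⟩ }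
  have hKb : K = ⊥ := by
    rcases hmin K (fun g x hx => ⟨hS g x hx.1, by rw [hinv g x hx.1 x hx.1]; exact hx.2⟩)
      (fun x hx => hx.1) with h | h
    · exact h
    · exact absurd ((h.symm ▸ hx0 : x0 ∈ K).2) hx0'
  refine split_sym ρ 2 hS c (fun x y => ?_) hci hcs fun _ g w hw => ?_
  · show b (π x) (π y) = b (π y) (π x)
    have h := hsum _ (hπm x) _ (hπm y)
    rw [add_eq_zero_iff_eq_neg, CharTwo.neg_eq] at h
    exact h
  · have hm : ρ g w - w ∈ K := ⟨S.sub_mem (hS g w hw) hw, by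
      simp only [map_sub, LinearMap.sub_apply, hinv g w hw w hw]
      have h := hsum _ (hS g w hw) w hw
      rw [add_eq_zero_iff_eq_neg, CharTwo.neg_eq] at h
      rw [h]
      linear_combination (b w w - b w (ρ g w)) * CharTwo.two_eq_zero (R := F)⟩
    rw [hKb, Submodule.mem_bot, sub_eq_zero] at hm
    exact hm

/-- A hyperbolic piece over a totally isotropic irreducible subspace. -/
theorem exists_hyperbolic [Finite G] (hG : (Nat.card G : F) ≠ 0) (p : ℕ) {B : BilinForm F V}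
    {M S : Submodule F V} (hM : Inv ρ M) (hinv : InvOn ρ B M) (hBM : SepOn B M)
    (hS : Inv ρ S) (hSM : S ≤ M) (hne : S ≠ ⊥)
    (hmin : ∀ U : Submodule F V, Inv ρ U → U ≤ S → U = ⊥ ∨ U = S)
    (h0 : ∀ x ∈ S, ∀ y ∈ S, B x y = 0) :
    ∃ T : Submodule F V, Inv ρ T ∧ T ≤ M ∧ T ≠ ⊥ ∧ SepOn B T ∧ Split ρ p T := by
  -- the orthogonals
  let eL : V →ₗ[F] Module.Dual F S := B.compl₁₂ LinearMap.id S.subtype
  let eR : V →ₗ[F] Module.Dual F S := B.flip.compl₁₂ LinearMap.id S.subtype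
  let L := M ⊓ LinearMap.ker eL
  let R := M ⊓ LinearMap.ker eR
  have hmL : ∀ x, x ∈ L ↔ x ∈ M ∧ ∀ s ∈ S, B x s = 0 := fun x =>
    ⟨fun h => ⟨h.1, fun s hs => LinearMap.congr_fun (LinearMap.mem_ker.mp h.2) ⟨s, hs⟩⟩,
      fun h => ⟨h.1, LinearMap.mem_ker.mpr (LinearMap.ext fun s => h.2 s s.2)⟩⟩
  have hmR : ∀ x, x ∈ R ↔ x ∈ M ∧ ∀ s ∈ S, B s x = 0 := fun x =>
    ⟨fun h => ⟨h.1, fun s hs => LinearMap.congr_fun (LinearMap.mem_ker.mp h.2) ⟨s, hs⟩⟩,
      fun h => ⟨h.1, LinearMap.mem_ker.mpr (LinearMap.ext fun s => h.2 s s.2)⟩⟩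
  have hadj : ∀ g : G, ∀ x ∈ M, ∀ y ∈ M, B (ρ g x) y = B x (ρ g⁻¹ y) := fun g x hx y hy => by
    conv_lhs => rw [← hinv g⁻¹ _ (hM g x hx) y hy, ← Module.End.mul_apply, ← map_mul,
      inv_mul_cancel, map_one, Module.End.one_apply]
  have hadj' : ∀ g : G, ∀ x ∈ M, ∀ y ∈ M, B x (ρ g y) = B (ρ g⁻¹ x) y := fun g x hx y hy => by
    rw [hadj g⁻¹ x hx y hy, inv_inv]
  have hL : Inv ρ L := fun g x hx => by
    obtain ⟨hxM, hx0⟩ := (hmL x).mp hx
    exact (hmL _).mpr ⟨hM g x hxM, fun s hs => by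
      rw [hadj g x hxM s (hSM hs)]; exact hx0 _ (hS g⁻¹ s hs)⟩
  have hR : Inv ρ R := fun g x hx => by
    obtain ⟨hxM, hx0⟩ := (hmR x).mp hx
    exact (hmR _).mpr ⟨hM g x hxM, fun s hs => by
      rw [hadj' g s (hSM hs) x hxM]; exact hx0 _ (hS g⁻¹ s hs)⟩
  -- images of invariant subspaces in the dual of `S` are zero or everything
  have hfull : ∀ (X : Submodule F V), X ≤ M → Inv ρ X →
      (¬ X ≤ L → ∀ m ∈ M, ∃ x ∈ X, m - x ∈ L) ∧ (¬ X ≤ R → ∀ m ∈ M, ∃ x ∈ X, m - x ∈ R) := by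
    intro X hXM hX
    let AL : Submodule F V := S ⊓ ⨅ x : X, LinearMap.ker (B (x : V))
    let AR : Submodule F V := S ⊓ ⨅ x : X, LinearMap.ker (B.flip (x : V))
    have hAL : Inv ρ AL := fun g s hs => ⟨hS g s hs.1, by
      simp only [SetLike.mem_coe, Submodule.mem_iInf, LinearMap.mem_ker]
      intro x
      rw [hadj' g x (hXM x.2) s (hSM hs.1)]
      exact LinearMap.mem_ker.mp ((Submodule.mem_iInf _).mp hs.2 ⟨_, hX g⁻¹ x x.2⟩)⟩
    have hAR : Inv ρ AR := fun g s hs => ⟨hS g s hs.1, by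
      simp only [SetLike.mem_coe, Submodule.mem_iInf, LinearMap.mem_ker, LinearMap.BilinForm.flip_apply]
      intro x
      rw [hadj g s (hSM hs.1) x (hXM x.2)]
      exact LinearMap.mem_ker.mp ((Submodule.mem_iInf _).mp hs.2 ⟨_, hX g⁻¹ x x.2⟩)⟩
    constructor
    · intro hn m hm
      have hA : AL = ⊥ := (hmin AL hAL inf_le_left).resolve_right fun h => hn fun x hx =>
        (hmL x).mpr ⟨hXM hx, fun s hs => LinearMap.mem_ker.mp
          ((Submodule.mem_iInf _).mp (h.symm ▸ hs : s ∈ AL).2 ⟨x, hx⟩)⟩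
      have htop : (Submodule.map eL X) = ⊤ := by
        refine eq_top_of_coann _ ?_
        refine (Submodule.eq_bot_iff _).mpr fun s hs => Subtype.ext ?_
        refine (Submodule.mem_bot F).mp (hA ▸ ⟨s.2, ?_⟩)
        simp only [SetLike.mem_coe, Submodule.mem_iInf, LinearMap.mem_ker]
        intro x
        exact (Submodule.mem_dualCoannihilator s).mp hs _ (Submodule.mem_map_of_mem x.2)
      obtain ⟨x, hx, he⟩ := (htop ▸ Submodule.mem_top : eL m ∈ Submodule.map eL X)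
      exact ⟨x, hx, M.sub_mem hm (hXM hx), by rw [SetLike.mem_coe, LinearMap.mem_ker, map_sub, he, sub_self]⟩
    · intro hn m hm
      have hA : AR = ⊥ := (hmin AR hAR inf_le_left).resolve_right fun h => hn fun x hx =>
        (hmR x).mpr ⟨hXM hx, fun s hs => LinearMap.mem_ker.mp
          ((Submodule.mem_iInf _).mp (h.symm ▸ hs : s ∈ AR).2 ⟨x, hx⟩)⟩
      have htop : (Submodule.map eR X) = ⊤ := by
        refine eq_top_of_coann _ ?_
        refine (Submodule.eq_bot_iff _).mpr fun s hs => Subtype.ext ?_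
        refine (Submodule.mem_bot F).mp (hA ▸ ⟨s.2, ?_⟩)
        simp only [SetLike.mem_coe, Submodule.mem_iInf, LinearMap.mem_ker]
        intro x
        exact (Submodule.mem_dualCoannihilator s).mp hs _ (Submodule.mem_map_of_mem x.2)
      obtain ⟨x, hx, he⟩ := (htop ▸ Submodule.mem_top : eR m ∈ Submodule.map eR X)
      exact ⟨x, hx, M.sub_mem hm (hXM hx), by rw [SetLike.mem_coe, LinearMap.mem_ker, map_sub, he, sub_self]⟩
  obtain ⟨s0, hs0, hs0'⟩ := Submodule.exists_mem_ne_zero_of_ne_bot hne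
  have hML : ¬ M ≤ L := fun h => hs0' (sepOn_right hBM (hSM hs0) fun x hx => ((hmL x).mp (h hx)).2 s0 hs0)
  have hMR : ¬ M ≤ R := fun h => hs0' (hBM s0 (hSM hs0) fun x hx => ((hmR x).mp (h hx)).2 s0 hs0)
  -- a common invariant complement of both orthogonals
  obtain ⟨S', hS'M, hS', hS'L, hS'R, hS'ne⟩ : ∃ S' : Submodule F V, S' ≤ M ∧ Inv ρ S' ∧
      S' ⊓ L = ⊥ ∧ S' ⊓ R = ⊥ ∧ S' ≠ ⊥ := by
    by_cases hLR : L = R
    · obtain ⟨C, hCM, hC, hd, hs⟩ := exists_invariant_compl ρ hG hM hL inf_le_left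
      refine ⟨C, hCM, hC, inf_comm C L ▸ hd, hLR ▸ inf_comm C L ▸ hd, fun h => hML ?_⟩
      rw [h, sup_bot_eq] at hs
      exact hs.ge
    have hi := inv_inf ρ hL hR
    obtain ⟨S1, hS1, hS1i, hd1, hs1⟩ := exists_invariant_compl ρ hG hR hi inf_le_right
    obtain ⟨S2, hS2, hS2i, hd2, hs2⟩ := exists_invariant_compl ρ hG hL hi inf_le_left
    have hinj1 : Function.Injective (eL.comp S1.subtype) :=
      (injective_iff_map_eq_zero _).mpr fun x hx => Subtype.ext ((Submodule.mem_bot F).mp (hd1 ▸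
        ⟨⟨⟨(hS1 x.2).1, LinearMap.mem_ker.mpr hx⟩, hS1 x.2⟩, x.2⟩))
    have hinj2 : Function.Injective (eR.comp S2.subtype) :=
      (injective_iff_map_eq_zero _).mpr fun x hx => Subtype.ext ((Submodule.mem_bot F).mp (hd2 ▸
        ⟨⟨hS2 x.2, ⟨(hS2 x.2).1, LinearMap.mem_ker.mpr hx⟩⟩, x.2⟩))
    have hsur2 : ¬ S2 ≤ R → Function.Surjective (eR.comp S2.subtype) := fun hn φ => by
      let e' : M →ₗ[F] Module.Dual F S := eR.comp M.subtype
      have : Function.Surjective e' := by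
        rw [← LinearMap.range_eq_top]
        refine eq_top_of_coann _ ?_
        refine (Submodule.eq_bot_iff _).mpr fun s hs => Subtype.ext ?_
        exact hBM s (hSM s.2) fun x hx =>
          (Submodule.mem_dualCoannihilator s).mp hs _ ⟨⟨x, hx⟩, rfl⟩
      obtain ⟨m, rfl⟩ := this φ
      obtain ⟨x, hx, hmx⟩ := ((hfull S2 (hS2.trans inf_le_left) hS2i).2 hn) m m.2
      refine ⟨⟨x, hx⟩, ?_⟩
      have := LinearMap.mem_ker.mp hmx.2
      rw [map_sub, sub_eq_zero] at this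
      exact this.symm
    have hS2R : ¬ S2 ≤ R := fun h => by
      have hLR' : L ≤ R := hs2 ▸ sup_le inf_le_right h
      refine hLR (le_antisymm hLR' fun x hx => ?_)
      by_contra hxL
      obtain ⟨s, hs, hsx⟩ : ∃ s ∈ S, B x s ≠ 0 := by
        by_contra hc
        push Not at hc
        exact hxL ((hmL x).mpr ⟨((hmR x).mp hx).1, hc⟩)
      -- otherwise `R` would be all of `M`
      refine hMR fun m hm => ?_
      obtain ⟨y, hy, hmy⟩ := (hfull R inf_le_left hR).1 (fun h' => hxL (h' hx)) m hm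
      rw [← sub_add_cancel m y]
      exact R.add_mem (hLR' hmy) hy
    have hb2 : Function.Bijective (eR.comp S2.subtype) := ⟨hinj2, hsur2 hS2R⟩
    let φ : S1 →ₗ[F] S2 :=
      (LinearEquiv.ofBijective _ hb2).symm.toLinearMap.comp (eL.comp S1.subtype)
    have hφ : ∀ x : S1, ∀ s ∈ S, B s (φ x : V) = B (x : V) s := fun x s hs =>
      LinearMap.congr_fun ((LinearEquiv.ofBijective _ hb2).apply_symm_apply (eL (x : V))) ⟨s, hs⟩
    let f : S1 →ₗ[F] V := S1.subtype + S2.subtype.comp φ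
    have hf : ∀ x : S1, f x = (x : V) + (φ x : V) := fun x => rfl
    have hS1M : ∀ x : S1, (x : V) ∈ M := fun x => (hS1 x.2).1
    have hS2M : ∀ x : S2, (x : V) ∈ M := fun x => (hS2 x.2).1
    refine ⟨LinearMap.range f, ?_, ?_, ?_, ?_, fun h => ?_⟩
    · rintro _ ⟨x, rfl⟩
      exact M.add_mem (hS1M x) (hS2M (φ x))
    · rintro g _ ⟨x, rfl⟩
      refine ⟨⟨ρ g x, hS1i g x x.2⟩, ?_⟩
      rw [hf, hf, map_add]
      congr 1
      have : φ ⟨ρ g x, hS1i g x x.2⟩ = ⟨ρ g (φ x), hS2i g _ (φ x).2⟩ := hinj2 (LinearMap.ext fun s => by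
        show B (s : V) (φ ⟨ρ g x, hS1i g x x.2⟩ : V) = B (s : V) (ρ g (φ x))
        rw [hφ _ s s.2, hadj g x (hS1M x) s (hSM s.2), hadj' g s (hSM s.2) _ (hS2M _),
          hφ x _ (hS g⁻¹ s s.2)])
      exact congrArg Subtype.val this
    · refine (Submodule.eq_bot_iff _).mpr ?_
      rintro _ ⟨⟨x, rfl⟩, hx⟩
      have hx1 : (x : V) ∈ L := by
        rw [show (x : V) = f x - φ x by rw [hf]; abel]
        exact L.sub_mem hx (hS2 (φ x).2)
      rw [show x = 0 from Subtype.ext ((Submodule.mem_bot F).mp (hd1 ▸ ⟨⟨hx1, hS1 x.2⟩, x.2⟩)),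
        map_zero]
    · refine (Submodule.eq_bot_iff _).mpr ?_
      rintro _ ⟨⟨x, rfl⟩, hx⟩
      have hx1 : (φ x : V) ∈ R := by
        rw [show (φ x : V) = f x - x by rw [hf]; abel]
        exact R.sub_mem hx (hS1 x.2)
      have h0' : φ x = 0 :=
        Subtype.ext ((Submodule.mem_bot F).mp (hd2 ▸ ⟨⟨hS2 (φ x).2, hx1⟩, (φ x).2⟩))
      rw [show x = 0 from hinj1 (by
        rw [map_zero]
        exact LinearMap.ext fun s => by
          show B (x : V) s = 0
          rw [← hφ x s s.2, h0', ZeroMemClass.coe_zero, map_zero]), map_zero]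
    · -- `S1 = 0` would give `R ≤ L`, hence `L = M`
      have hS1b : ∀ x : S1, x = 0 := fun x => hinj1 (by
        rw [map_zero]
        exact LinearMap.ext fun s => by
          have h' : f x = 0 := (Submodule.mem_bot F).mp (h ▸ ⟨x, rfl⟩)
          have hx1 : (x : V) ∈ L := by
            rw [show (x : V) = f x - φ x by rw [hf]; abel, h', zero_sub]
            exact L.neg_mem (hS2 (φ x).2)
          exact ((hmL _).mp hx1).2 s s.2)
      have hRL : R ≤ L := hs1 ▸ sup_le inf_le_left fun x hx => by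
        rw [show x = 0 from congrArg Subtype.val (hS1b ⟨x, hx⟩)]; exact L.zero_mem
      refine hML fun m hm => ?_
      obtain ⟨y, hy, hmy⟩ := (hfull L inf_le_left hL).2 (fun h' => hLR (le_antisymm h' hRL)) m hm
      rw [← sub_add_cancel m y]
      exact L.add_mem (hRL hmy) hy
  have hSL : S ≤ L := fun s hs => (hmL s).mpr ⟨hSM hs, fun t ht => h0 s hs t ht⟩
  have hSS' : S ⊓ S' = ⊥ := (Submodule.eq_bot_iff _).mpr fun x hx =>
    (Submodule.mem_bot F).mp (hS'L ▸ ⟨hx.2, hSL hx.1⟩)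
  have hS'nL : ¬ S' ≤ L := fun h => hS'ne (by rwa [inf_eq_left.mpr h] at hS'L)
  have hS'nR : ¬ S' ≤ R := fun h => hS'ne (by rwa [inf_eq_left.mpr h] at hS'R)
  have hsepS : ∀ s ∈ S, (∀ y ∈ S', B s y = 0) → s = 0 := fun s hs h => hBM s (hSM hs) fun m hm => by
    obtain ⟨y, hy, hmy⟩ := (hfull S' hS'M hS').2 hS'nR m hm
    rw [← sub_add_cancel m y, map_add, h y hy, add_zero]
    exact ((hmR _).mp hmy).2 s hs
  refine ⟨S ⊔ S', inv_sup ρ hS hS', sup_le hSM hS'M, fun h => hne (le_bot_iff.mp (h ▸ le_sup_left)),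
    fun t ht h => ?_, ?_⟩
  · obtain ⟨s, hs, y, hy, rfl⟩ := Submodule.mem_sup.mp ht
    have hy0 : y = 0 := (Submodule.mem_bot F).mp (hS'L ▸ ⟨hy, (hmL y).mpr ⟨hS'M hy, fun u hu => by
      have := h u (Submodule.mem_sup_left hu)
      rwa [map_add, LinearMap.add_apply, h0 s hs u hu, zero_add] at this⟩⟩)
    rw [hy0, add_zero] at h ⊢
    exact hsepS s hs fun u hu => h u (Submodule.mem_sup_right hu)
  · obtain ⟨a, b, ha, hb⟩ := exists_projections hSS'
    have hab : ∀ {s y : V}, s ∈ S → y ∈ S' → a (s + y) = s ∧ b (s + y) = y := fun hs hy => by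
      rw [map_add, map_add, (ha _ hs).1, (ha _ hs).2, (hb _ hy).1, (hb _ hy).2]
      simp
    let A : BilinForm F V := B.compl₁₂ a b - (B.compl₁₂ a b).flip
    have hA : ∀ {s y s' y' : V}, s ∈ S → y ∈ S' → s' ∈ S → y' ∈ S' →
        A (s + y) (s' + y') = B s y' - B s' y := fun hs hy hs' hy' => by
      simp only [A, LinearMap.sub_apply, LinearMap.flip_apply, LinearMap.compl₁₂_apply,
        (hab hs hy).1, (hab hs hy).2, (hab hs' hy').1, (hab hs' hy').2]
    refine split_alt ρ p (inv_sup ρ hS hS') A (fun x => sub_self _) (fun g v hv w hw => ?_)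
      (fun v hv h => ?_)
    · obtain ⟨s, hs, y, hy, rfl⟩ := Submodule.mem_sup.mp hv
      obtain ⟨s', hs', y', hy', rfl⟩ := Submodule.mem_sup.mp hw
      rw [map_add (ρ g), map_add (ρ g), hA (hS g s hs) (hS' g y hy) (hS g s' hs') (hS' g y' hy'),
        hA hs hy hs' hy', hinv g s (hSM hs) y' (hS'M hy'), hinv g s' (hSM hs') y (hS'M hy)]
    · obtain ⟨s, hs, y, hy, rfl⟩ := Submodule.mem_sup.mp hv
      have hy0 : y = 0 := (Submodule.mem_bot F).mp (hS'R ▸ ⟨hy, (hmR y).mpr ⟨hS'M hy, fun u hu => by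
        have := h (u + 0) (Submodule.add_mem_sup hu S'.zero_mem)
        rwa [hA hs hy hu S'.zero_mem, map_zero, zero_sub, neg_eq_zero] at this⟩⟩)
      rw [hy0, add_zero] at h ⊢
      refine hsepS s hs fun u hu => ?_
      have := h (0 + u) (Submodule.add_mem_sup S.zero_mem hu)
      rw [show s = s + 0 from (add_zero s).symm, hA hs S'.zero_mem S.zero_mem hu] at this
      simpa using this

theorem split_of_sep [Finite G] (hG : (Nat.card G : F) ≠ 0) (p : ℕ) [Fact p.Prime] [CharP F p]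
    (B : BilinForm F V) : ∀ n (M : Submodule F V), Module.finrank F M = n → Inv ρ M → InvOn ρ B M →
      SepOn B M → Split ρ p M := by
  intro n
  induction n using Nat.strong_induction_on with
  | _ n ih =>
  intro M hn hM hinv hsep
  by_cases hbot : M = ⊥
  · subst hbot
    exact split_alt ρ p hM 0 (fun _ => rfl) (invOn_bot ρ 0) (sepOn_bot 0)
  obtain ⟨S, ⟨hS, hSM, hSne⟩, hmin⟩ := (IsArtinian.set_has_minimal
    {S : Submodule F V | Inv ρ S ∧ S ≤ M ∧ S ≠ ⊥} ⟨M, hM, le_rfl, hbot⟩)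
  have hmin' : ∀ U : Submodule F V, Inv ρ U → U ≤ S → U = ⊥ ∨ U = S := fun U hU hUS => by
    by_cases h : U = ⊥
    · exact Or.inl h
    · exact Or.inr ((eq_or_lt_of_le hUS).resolve_right (hmin U ⟨hU, hUS.trans hSM, h⟩))
  obtain ⟨T, hT, hTM, hTne, hTsep, hTs⟩ : ∃ T : Submodule F V, Inv ρ T ∧ T ≤ M ∧ T ≠ ⊥ ∧
      SepOn B T ∧ Split ρ p T := by
    by_cases h0 : ∀ x ∈ S, ∀ y ∈ S, B x y = 0
    · exact exists_hyperbolic ρ hG p hM hinv hsep hS hSM hSne hmin' h0
    push Not at h0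
    have hBi : InvOn ρ B S := fun g x hx y hy => hinv g x (hSM hx) y (hSM hy)
    refine ⟨S, hS, hSM, hSne, fun v hv h => ?_, split_irreducible ρ p hS hmin' B hBi h0⟩
    let K : Submodule F V := S ⊓ LinearMap.ker (B.compl₁₂ LinearMap.id S.subtype)
    have hK : ∀ v, v ∈ K ↔ v ∈ S ∧ ∀ w ∈ S, B v w = 0 := fun v =>
      ⟨fun h => ⟨h.1, fun w hw => LinearMap.congr_fun (LinearMap.mem_ker.mp h.2) ⟨w, hw⟩⟩,
        fun h => ⟨h.1, LinearMap.mem_ker.mpr (LinearMap.ext fun w => h.2 w w.2)⟩⟩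
    rcases hmin' K (fun g v hv => by
      obtain ⟨hvS, hv0⟩ := (hK v).mp hv
      refine (hK _).mpr ⟨hS g v hvS, fun w hw => ?_⟩
      rw [← hBi g⁻¹ _ (hS g v hvS) w hw, ← Module.End.mul_apply, ← map_mul, inv_mul_cancel, map_one,
        Module.End.one_apply]
      exact hv0 _ (hS g⁻¹ w hw)) inf_le_left with h' | h'
    · exact (Submodule.mem_bot F).mp (h' ▸ (hK v).mpr ⟨hv, h⟩)
    · obtain ⟨x, hx, y, hy, hxy⟩ := h0
      exact absurd (((hK x).mp (h'.symm ▸ hx)).2 y hy) hxy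
  obtain ⟨R, hRM, hR, hd, hs, hRsep⟩ := compl_left_orth ρ hM hT hTM hinv hsep hTsep
  have hlt : R < M := lt_of_le_of_ne hRM fun h => hTne (by
    rw [h, inf_eq_left.mpr hTM] at hd
    exact hd)
  rw [← hs]
  exact split_add ρ p hd hTs (ih _ (hn ▸ Submodule.finrank_lt_finrank_of_lt hlt) R rfl hR
    (fun g x hx y hy => hinv g x (hRM hx) y (hRM hy)) hRsep)

end Aux

/-- Let F be a finite field of characteristic p, G a finite group of order prime to p, and V a finite-dimensional representation of G over F carrying a nondegenerate G-invariant bilinear form (equivalently, V is self-dual). Then V is the direct sum of two G-invariant subspaces U and W such that U carries a G-invariant alternating bilinear form that is nondegenerate on U and W carries a G-invariant symmetric bilinear form that is nondegenerate on W; moreover when p = 2 the decomposition can be chosen with G acting trivially on W. -/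
theorem result {F : Type*} [Field F] [Fintype F] (p : ℕ) [Fact p.Prime] [CharP F p] {G : Type*} [Group G] [Finite G] (hcop : ¬ p ∣ Nat.card G) {V : Type*} [AddCommGroup V] [Module F V] [FiniteDimensional F V] (ρ : Representation F G V) (B : LinearMap.BilinForm F V) (hB : B.Nondegenerate) (hBinv : ∀ g : G, ∀ x y : V, B (ρ g x) (ρ g y) = B x y) : ∃ U W : Submodule F V, IsCompl U W ∧ (∀ g : G, ∀ u ∈ U, ρ g u ∈ U) ∧ (∀ g : G, ∀ w ∈ W, ρ g w ∈ W) ∧ (∃ A : LinearMap.BilinForm F V, (∀ x : V, A x x = 0) ∧ (∀ g : G, ∀ x ∈ U, ∀ y ∈ U, A (ρ g x) (ρ g y) = A x y) ∧ (∀ x ∈ U, (∀ y ∈ U, A x y = 0) → x = 0)) ∧ (∃ S : LinearMap.BilinForm F V, (∀ x y : V, S x y = S y x) ∧ (∀ g : G, ∀ x ∈ W, ∀ y ∈ W, S (ρ g x) (ρ g y) = S x y) ∧ (∀ x ∈ W, (∀ y ∈ W, S x y = 0) → x = 0)) ∧ (p = 2 → ∀ g : G, ∀ w ∈ W, ρ g w = w) := by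
  have hG : (Nat.card G : F) ≠ 0 := by rwa [Ne, CharP.cast_eq_zero_iff F p]
  obtain ⟨U, W, hd, hs, hU, hW, ⟨A, hA, hAi, hAs⟩, ⟨S, hS, hSi, hSs⟩, h2⟩ :=
    split_of_sep ρ hG p B _ (⊤ : Submodule F V) rfl (fun _ _ _ => Submodule.mem_top)
      (fun g x _ y _ => hBinv g x y) (fun x _ h => hB.1 x fun y => h y Submodule.mem_top)
  exact ⟨U, W, ⟨disjoint_iff.mpr hd, codisjoint_iff.mpr hs⟩, hU, hW, ⟨A, hA, hAi, hAs⟩,
    ⟨S, hS, hSi, hSs⟩, h2⟩

end Cfsg.Agent.S4966
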