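import Cfsg.Statements.S4959
import Cfsg.Agent.S4966
import Cfsg.Agent.Lib.CharBlocks.SelfDualWeight
import Cfsg.Agent.Lib.CharBlocks.AMGM
import Cfsg.Agent.Lib.CharBlocks.PElementValue
import Cfsg.Agent.Lib.Char.Ito

set_option autoImplicit false
open Cfsg

namespace Cfsg.Agent.S4959

open CfsgLib.Char CfsgLib.CharBlocks CfsgLib.CharBlocks.SelfDual CfsgLib.Blocks
open scoped ComplexConjugate

section Weight

variable {p : ℕ} [hp : Fact p.Prime] {H : Type*} [Group H] [Fintype H] {U : Type*} [AddCommGroup U]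
  [Module (ZMod p) U] [Finite U]

/-- A representation restricted to an invariant subspace. -/
def resRep (ρ : Representation (ZMod p) H U) (T : Submodule (ZMod p) U)
    (hT : ∀ g, ∀ x ∈ T, ρ g x ∈ T) : Representation (ZMod p) H T where
  toFun g := (ρ g).restrict (hT g)
  map_one' := LinearMap.ext fun x => Subtype.ext (by simp)
  map_mul' a b := LinearMap.ext fun x => Subtype.ext (by simp)

theorem card_sub_pow {T : Type*} [AddCommGroup T] [Module (ZMod p) T] [Finite T] :
    ∃ k, Nat.card T = p ^ k := by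
  have := Fintype.ofFinite T
  exact ⟨_, by rw [Nat.card_eq_fintype_card, Module.card_eq_pow_finrank (K := ZMod p), ZMod.card]⟩

theorem exists_addChar : ∃ ψ : AddChar (ZMod p) ℂ, ∀ z, z ≠ 0 → ψ z ≠ 1 := by
  refine ⟨ZMod.stdAddChar, fun z hz e => hz ?_⟩
  rw [← AddChar.map_zero_eq_one (ZMod.stdAddChar (N := p))] at e
  exact ZMod.injective_stdAddChar e

/-- Functions with `|w h|² ≤ |U / C_U(h)|` and integral coefficients, closed under conjugation. -/
theorem exists_weights (ρ : Representation (ZMod p) H U) (hH : ¬ p ∣ Nat.card H)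
    (hfaith : ∀ h, (∀ x, ρ h x = x) → h = 1) (B : LinearMap.BilinForm (ZMod p) U) (hB : B.Nondegenerate)
    (hBinv : ∀ g x y, B (ρ g x) (ρ g y) = B x y) {M : Ideal AlgInt} (hM : IsPModular p M) :
    ∃ J : Finset (H → ℂ), J.Nonempty ∧ (∀ (σ : ℂ ≃+* ℂ), ∀ w ∈ J, (fun h => σ (w h)) ∈ J) ∧
      ∀ w ∈ J, IntComb w ∧ w 1 = 1 ∧
        (∀ h, h ≠ 1 → ∃ z : AlgInt, (z : ℂ) = w h ∧ Ideal.Quotient.mk M z = 0) ∧
        (∀ h, Complex.normSq (w h) * (Nat.card (fixSp ρ h) : ℝ) ≤ Nat.card U) ∧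
        ∀ (σ : ℂ ≃+* ℂ) h, conj (σ (w h)) = σ (conj (w h)) := by
  classical
  have hH' : (Nat.card H : ZMod p) ≠ 0 := fun h => hH ((CharP.cast_eq_zero_iff (ZMod p) p _).mp h)
  obtain ⟨U1, W, hc, hU1, hW, ⟨A, hA, hAi, hAs⟩, ⟨S, hS, hSi, hSs⟩, -⟩ :=
    Cfsg.Agent.S4966.result (F := ZMod p) p hH ρ B hB hBinv
  have := Fintype.ofFinite U
  have := Fintype.ofFinite U1
  have := Fintype.ofFinite W
  let ρ1 := resRep ρ U1 hU1
  let ρ2 := resRep ρ W hW
  let A1 : LinearMap.BilinForm (ZMod p) U1 := A.compl₁₂ U1.subtype U1.subtype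
  let S2 : LinearMap.BilinForm (ZMod p) W := S.compl₁₂ W.subtype W.subtype
  have hA1i : ∀ g x y, A1 (ρ1 g x) (ρ1 g y) = A1 x y := fun g x y => hAi g x x.2 y y.2
  have hA1n : ∀ x, (∀ y, A1 x y = 0) → x = 0 := fun x hx =>
    Subtype.ext (hAs x x.2 fun y hy => hx ⟨y, hy⟩)
  have hS2i : ∀ g x y, S2 (ρ2 g x) (ρ2 g y) = S2 x y := fun g x y => hSi g x x.2 y y.2
  have hS2s : ∀ x y, S2 x y = S2 y x := fun x y => hS _ _
  have hS2n : ∀ x, (∀ y, S2 x y = 0) → x = 0 := fun x hx =>
    Subtype.ext (hSs x x.2 fun y hy => hx ⟨y, hy⟩)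
  obtain ⟨c, hci, hcA⟩ := exists_cocycle ρ1 hH' (A := A1) (fun x => hA x) hA1i
  let π : H → ℕ := fun h => Nat.card (fixSp ρ1 h) * Nat.card (fixSp ρ2 h)
  have hπ : ∀ h, π h = Nat.card (fixSp ρ h) := by
    intro h
    show Nat.card (fixSp ρ1 h) * Nat.card (fixSp ρ2 h) = _
    rw [← Nat.card_prod]
    refine Nat.card_eq_of_bijective (fun x => (⟨(x.1.1 : U) + x.2.1, ?_⟩ : fixSp ρ h)) ⟨?_, ?_⟩
    · rw [mem_fixSp, map_add]
      exact congrArg₂ (· + ·) (congrArg Subtype.val ((mem_fixSp ρ1).mp x.1.2))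
        (congrArg Subtype.val ((mem_fixSp ρ2).mp x.2.2))
    · intro x y e
      have e' : (x.1.1 : U) + x.2.1 = (y.1.1 : U) + y.2.1 := congrArg Subtype.val e
      have e1 := (Submodule.prodEquivOfIsCompl U1 W hc).injective
        (a₁ := (x.1.1, x.2.1)) (a₂ := (y.1.1, y.2.1)) (by simpa using e')
      exact Prod.ext (Subtype.ext (congrArg Prod.fst e1)) (Subtype.ext (congrArg Prod.snd e1))
    · rintro ⟨x, hx⟩
      obtain ⟨⟨a, b⟩, rfl⟩ := (Submodule.prodEquivOfIsCompl U1 W hc).surjective x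
      have h2 : ρ h ((a : U) + b) = (a : U) + b := (mem_fixSp ρ).mp hx
      rw [map_add] at h2
      have e1 := (Submodule.prodEquivOfIsCompl U1 W hc).injective
        (a₁ := (ρ1 h a, ρ2 h b)) (a₂ := (a, b)) h2
      exact ⟨(⟨a, (mem_fixSp ρ1).mpr (congrArg Prod.fst e1)⟩,
        ⟨b, (mem_fixSp ρ2).mpr (congrArg Prod.snd e1)⟩), rfl⟩
  have hUcard : Nat.card U = Nat.card U1 * Nat.card W := by
    rw [← Nat.card_prod]
    exact (Nat.card_congr (Submodule.prodEquivOfIsCompl U1 W hc).toEquiv).symm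
  -- the weights
  let wf : AddChar (ZMod p) ℂ → (H → ℂ) → H → ℂ := fun ψ f h =>
    f 1 * f h * gauss ρ2 ψ S2 h / (π h : ℂ)
  have good : ∀ ψ : AddChar (ZMod p) ℂ, (∀ z, z ≠ 0 → ψ z ≠ 1) → ∀ f, IsWeil ρ1 ψ c hci f →
      IntComb (wf ψ f) ∧ wf ψ f 1 = 1 ∧
        (∀ h, h ≠ 1 → ∃ z : AlgInt, (z : ℂ) = wf ψ f h ∧ Ideal.Quotient.mk M z = 0) ∧
        (∀ h, Complex.normSq (wf ψ f h) * (Nat.card (fixSp ρ h) : ℝ) ≤ Nat.card U) := by
    intro ψ hψ f hf
    obtain ⟨n, hn, hn2⟩ := IsWeil.one ρ1 ψ c A1 hcA hA1n hψ hci hf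
    have hval : ∀ h, ∃ z : AlgInt, (z : ℂ) = wf ψ f h ∧ (h ≠ 1 → Ideal.Quotient.mk M z = 0) := by
      intro h
      obtain ⟨m, z1, hm, hz1⟩ := IsWeil.div ρ1 hH' ψ c A1 hcA hA1n hψ hci hf hA1i h
      obtain ⟨z2, hz2, hz20⟩ := gauss_div ρ2 ψ S2 hS2i hM h
      have hq := Submodule.card_eq_card_quotient_mul_card (fixSp ρ1 h)
      obtain ⟨r, rfl⟩ : m ∣ n := (Nat.pow_dvd_pow_iff two_ne_zero).mp
        ⟨_, by rw [hm, hn2]; exact hq⟩
      have hm0 : m ≠ 0 := fun h0 => by rw [h0, zero_pow two_ne_zero] at hm; exact Nat.card_pos.ne hm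
      refine ⟨(r : AlgInt) * z1 * z2, ?_, fun hh => ?_⟩
      · have hm0' : (m : ℂ) ≠ 0 := Nat.cast_ne_zero.mpr hm0
        have h20 : (Nat.card (fixSp ρ2 h) : ℂ) ≠ 0 := Nat.cast_ne_zero.mpr Nat.card_pos.ne'
        simp only [wf, π, hn, hz1, hz2, ← hm]
        push_cast
        field_simp
      · by_cases h2 : fixSp ρ2 h = ⊤
        · have h1 : fixSp ρ1 h ≠ ⊤ := fun h1 => hh (hfaith h fun x => by
            obtain ⟨⟨a, b⟩, rfl⟩ := (Submodule.prodEquivOfIsCompl U1 W hc).surjective x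
            show ρ h ((a : U) + b) = (a : U) + b
            rw [map_add]
            exact congrArg₂ (· + ·)
              (congrArg Subtype.val ((mem_fixSp ρ1).mp (h1 ▸ Submodule.mem_top : a ∈ fixSp ρ1 h)))
              (congrArg Subtype.val ((mem_fixSp ρ2).mp (h2 ▸ Submodule.mem_top : b ∈ fixSp ρ2 h))))
          have hd := dvd_card_of_ne_top ρ1 h1
          rw [← hn2, ← hm, mul_pow] at hq
          have hr : r ^ 2 = Nat.card (U1 ⧸ fixSp ρ1 h) :=
            Nat.eq_of_mul_eq_mul_left (pow_pos (Nat.pos_of_ne_zero hm0) 2) hq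
          rw [← hr] at hd
          have := hM.2.1
          have := res_charP M hM
          rw [map_mul, map_mul, map_natCast, (CharP.cast_eq_zero_iff (Res M) p r).mpr
            (hp.out.dvd_of_dvd_pow hd), zero_mul, zero_mul]
        · rw [map_mul, hz20 h2, mul_zero]
    refine ⟨?_, ?_, fun h hh => ?_, fun h => ?_⟩
    · have hπ0 : ∀ h, π h ≠ 0 := fun h => mul_ne_zero Nat.card_pos.ne' Nat.card_pos.ne'
      refine intComb_div hπ0 (fun g hg => ?_) (f := fun h => f 1 * f h * gauss ρ2 ψ S2 h) ?_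
        (q := p) (hp.out.coprime_iff_not_dvd.mpr hH) (fun h => ?_) fun h => ?_
      · let := MulAction.compHom U1 (ρ1 : H →* Module.End (ZMod p) U1)
        have h1 := intComb_fixed (X := U1) hg
        let := MulAction.compHom W (ρ2 : H →* Module.End (ZMod p) W)
        have h2 := intComb_fixed (X := W) h1
        convert h2 using 2 with h
        rw [mul_assoc, ← Nat.cast_mul]
        refine congrArg _ (congrArg _ (congrArg₂ (· * ·) ?_ ?_))
        · exact Nat.card_congr (Equiv.subtypeEquivRight fun x => mem_fixSp ρ1)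
        · exact Nat.card_congr (Equiv.subtypeEquivRight fun x => mem_fixSp ρ2)
      · have h1 := intComb_smul (intComb_mul_char (intComb_gauss ρ2 ψ S2 hS2i)
          (IsWeil.isCharacter ρ1 ψ c hci hf)) (isIntegral_natCast' n)
        convert h1 using 1
        funext h
        simp only [Pi.smul_apply, Pi.mul_apply, smul_eq_mul, hn]
        ring
      · obtain ⟨a, ha⟩ := card_sub_pow (p := p) (T := fixSp ρ1 h)
        obtain ⟨b, hb⟩ := card_sub_pow (p := p) (T := fixSp ρ2 h)
        exact ⟨a + b, by rw [pow_add, ← ha, ← hb]⟩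
      · obtain ⟨z, hz, -⟩ := hval h
        exact (hz ▸ z.2 : IsIntegral ℤ (wf ψ f h))
    · have e1 : fixSp ρ 1 = ⊤ := by ext x; simp [mem_fixSp]
      have e2 : π 1 = n * n * Nat.card W := by
        rw [hπ, e1, Nat.card_congr (Submodule.topEquiv (R := ZMod p) (M := U)).toEquiv, hUcard, ← hn2, sq]
      simp only [wf, hn, gauss_one, e2]
      push_cast
      refine div_self (mul_ne_zero (mul_self_ne_zero.mpr (Nat.cast_ne_zero.mpr fun h0 => ?_))
        (Nat.cast_ne_zero.mpr Nat.card_pos.ne'))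
      rw [h0, zero_pow two_ne_zero] at hn2
      exact Nat.card_pos.ne hn2
    · obtain ⟨z, hz, hz0⟩ := hval h
      exact ⟨z, hz, hz0 hh⟩
    · have hc1 := IsWeil.normSq_le ρ1 ψ c hci hf h
      have hG := normSq_gauss ρ2 hH' ψ S2 hS2i hψ hS2s hS2n h
      simp only [wf, map_mul, map_div₀, hn, Complex.normSq_natCast, hG]
      rw [← hπ, hUcard, ← hn2]
      simp only [π]
      push_cast
      have a1 : (0 : ℝ) < Nat.card (fixSp ρ1 h) := Nat.cast_pos.mpr Nat.card_pos
      have a2 : (0 : ℝ) < Nat.card (fixSp ρ2 h) := Nat.cast_pos.mpr Nat.card_pos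
      rw [div_mul_eq_mul_div, div_le_iff₀ (by positivity)]
      have := mul_le_mul_of_nonneg_left hc1 (show (0 : ℝ) ≤ (n : ℝ) * n * (Nat.card W *
        (Nat.card (fixSp ρ2 h)) * ((Nat.card (fixSp ρ1 h)) * (Nat.card (fixSp ρ2 h)))) by positivity)
      nlinarith [this]
  obtain ⟨ψ₀, hψ₀⟩ := exists_addChar (p := p)
  obtain ⟨f₀, hf₀⟩ := exists_weil ρ1 hH' ψ₀ c A1 hcA hA1n hψ₀ hci
  set w₀ := wf ψ₀ f₀ with hw₀
  have hint : ∀ h, IsIntegral ℤ (w₀ h) := fun h => by
    obtain ⟨-, h2, h3, -⟩ := good ψ₀ hψ₀ f₀ hf₀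
    simp only [hw₀]
    rcases eq_or_ne h 1 with rfl | hh
    · rw [h2]; exact isIntegral_one
    · obtain ⟨z, hz, -⟩ := h3 h hh
      exact hz ▸ z.2
  have hfin : (Set.range fun (σ : ℂ ≃+* ℂ) (h : H) => σ (w₀ h)).Finite := by
    refine (Set.Finite.pi fun h : H => (Polynomial.rootSet_finite (minpoly ℤ (w₀ h)) ℂ)).subset ?_
    rintro _ ⟨σ, rfl⟩ h -
    rw [Polynomial.mem_rootSet_of_ne (minpoly.ne_zero (hint h))]
    show Polynomial.aeval (σ.toRingHom.toIntAlgHom (w₀ h)) _ = 0
    rw [Polynomial.aeval_algHom_apply, minpoly.aeval, map_zero]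
  have hgauss : ∀ (ψ : AddChar (ZMod p) ℂ) h, conj (gauss ρ2 ψ S2 h) =
      ∑ x, ψ (-(S2 x (x - ρ2 h x))) := fun ψ h => by
    simp only [gauss, map_sum, ← addChar_neg]
  have hconjσ : ∀ ψ f, IsWeil ρ1 ψ c hci f → ∀ (τ : ℂ ≃+* ℂ) h,
      conj (τ (wf ψ f h)) = τ (conj (wf ψ f h)) := by
    intro ψ f hf τ h
    have hfc : ∀ k, conj (τ (f k)) = τ (conj (f k)) := fun k => by
      have h1 := IsWeil.isCharacter ρ1 ψ c hci hf
      rw [← char_inv h1]
      exact (char_inv (CfsgLib.CharNormal.isCharacter_ringEquiv τ h1) k).symm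
    have hGc : conj (τ (gauss ρ2 ψ S2 h)) = τ (conj (gauss ρ2 ψ S2 h)) := by
      rw [galois_gauss, hgauss, hgauss, map_sum]
      rfl
    simp only [wf, map_mul, map_div₀, map_natCast, Complex.conj_natCast, hfc, hGc]
  refine ⟨hfin.toFinset, ⟨w₀, by simpa using ⟨RingEquiv.refl ℂ, rfl⟩⟩, fun τ w hw => ?_, fun w hw => ?_⟩
  · obtain ⟨σ, rfl⟩ := (Set.Finite.mem_toFinset _).mp hw
    exact (Set.Finite.mem_toFinset _).mpr ⟨σ.trans τ, rfl⟩
  · obtain ⟨σ, rfl⟩ := (Set.Finite.mem_toFinset _).mp hw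
    have e : (fun h => σ (w₀ h)) = wf ((σ : ℂ →* ℂ).compAddChar ψ₀) (fun h => σ (f₀ h)) := funext fun h => by
      simp only [hw₀, wf, map_mul, map_div₀, map_natCast, galois_gauss]
    have hgal := IsWeil.galois ρ1 ψ₀ c hci hf₀ σ
    obtain ⟨a1, a2, a3, a4⟩ := good _ (fun z hz h => hψ₀ z hz (σ.injective (h.trans (map_one σ).symm))) _ hgal
    beta_reduce
    rw [e]
    exact ⟨a1, (congrFun e 1).trans a2, fun h hh => by rw [congrFun e h]; exact a3 h hh,
      fun h => by rw [congrFun e h]; exact a4 h, fun τ h => by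
      rw [congrFun e h]
      exact hconjσ _ _ hgal τ h⟩

end Weight

/-- A subgroup with commuting elements as a commutative group. -/
@[reducible] def commGroupOf {X : Type*} [Group X] (U : Subgroup X)
    (h : ∀ a b : U, (a : X) * b = b * a) : CommGroup U :=
  { U.toGroup with mul_comm := fun a b => Subtype.ext (h a b) }

/-- `[c, x] ∈ U'` gives `[c, x] = 1` when `c` fixes `U'` and has order prime to `p`. -/
theorem commute_of_fixed {X : Type*} [Group X] {p : ℕ} [hp : Fact p.Prime] {c x z : X}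
    (hc : ¬ p ∣ orderOf c) (hzp : z ^ p = 1)
    (hcz : Commute c z) (h : c * x * c⁻¹ = z * x) : c * x = x * c := by
  have key : ∀ m : ℕ, c ^ m * x * (c ^ m)⁻¹ = z ^ m * x := by
    intro m
    induction m with
    | zero => simp
    | succ m ih =>
      calc c ^ (m + 1) * x * (c ^ (m + 1))⁻¹ = c ^ m * (c * x * c⁻¹) * (c ^ m)⁻¹ := by group
        _ = c ^ m * z * (c ^ m)⁻¹ * (c ^ m * x * (c ^ m)⁻¹) := by rw [h]; group
        _ = z ^ (m + 1) * x := by
          rw [ih, (hcz.pow_left m).eq, mul_inv_cancel_right, pow_succ', mul_assoc]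
  have h1 := key (orderOf c)
  rw [pow_orderOf_eq_one, one_mul, inv_one, mul_one] at h1
  have hz : z = 1 := orderOf_eq_one_iff.mp (Nat.eq_one_of_dvd_coprimes
    (hp.out.coprime_iff_not_dvd.mpr hc) (orderOf_dvd_of_pow_eq_one hzp)
    (orderOf_dvd_of_pow_eq_one (mul_eq_right.mp h1.symm)))
  rw [hz, one_mul] at h
  exact mul_inv_eq_iff_eq_mul.mp h

theorem mk_char_eq {X : Type*} [Group X] [Finite X] {p : ℕ} [hp : Fact p.Prime] {M : Ideal AlgInt}
    (hM : IsPModular p M) {χ : X → ℂ} (hχ : IsCharacter X χ) {g : X} (hg : g ^ p = 1) :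
    Ideal.Quotient.mk M ⟨χ g, char_isIntegral hχ g⟩ =
      Ideal.Quotient.mk M ⟨χ 1, char_isIntegral hχ 1⟩ := by
  have := hM.2.1
  have := res_charP M hM
  obtain ⟨d, ρ, rfl⟩ := hχ
  obtain ⟨z, hz, hsum⟩ := exists_roots_char_pow ρ g
  have hzp : ∀ i, z i ^ p = 1 := fun i => by
    obtain ⟨k, hk⟩ := orderOf_dvd_of_pow_eq_one hg
    rw [hk, pow_mul, hz, one_pow]
  let w : Fin (Module.finrank ℂ (Fin d → ℂ)) → AlgInt := fun i =>
    ⟨z i, IsIntegral.of_pow hp.out.pos (by rw [hzp]; exact isIntegral_one)⟩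
  have hw : ∀ i, Ideal.Quotient.mk M (w i) = 1 := fun i => by
    have h1 : (Ideal.Quotient.mk M (w i)) ^ p = 1 := by
      rw [← map_pow, show w i ^ p = 1 from Subtype.ext (by
        rw [SubmonoidClass.coe_pow, OneMemClass.coe_one]; exact hzp i), map_one]
    have h2 : (Ideal.Quotient.mk M (w i) - 1) ^ p = 0 := by rw [sub_pow_char, h1, one_pow, sub_self]
    exact sub_eq_zero.mp (eq_zero_of_pow_eq_zero h2)
  rw [show (⟨ρ.character g, char_isIntegral ⟨d, ρ, rfl⟩ g⟩ : AlgInt) = ∑ i, w i from Subtype.ext (by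
      rw [AddSubmonoidClass.coe_finsetSum]; simpa using hsum 1),
    show (⟨ρ.character 1, char_isIntegral ⟨d, ρ, rfl⟩ 1⟩ : AlgInt) =
      ∑ _i : Fin (Module.finrank ℂ (Fin d → ℂ)), (1 : AlgInt) from
      Subtype.ext (by rw [AddSubmonoidClass.coe_finsetSum]; simpa using hsum 0),
    map_sum, map_sum]
  simp [hw]


/-- Let X be a finite group and V a normal subgroup of X in which every element has order dividing the prime p, whose index in X is prime to p and which is its own centralizer in X; so V is an elementary abelian normal Sylow p-subgroup, and any complement G to V in X is a group of order prime to p acting faithfully on the vector space V by conjugation (the coprime linear setting of the k(GV) problem). Let G be a complement to V in X, let v be in V and let H be the centralizer of v in G. Suppose there is a subgroup U of V normalized by H, on which H acts faithfully, and carrying an H-invariant bi-additive pairing β with values in the integers modulo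 p that is nondegenerate on U (equivalently: the restriction of the module V to H has a faithful self-dual submodule; such a v is called a real vector for G). Then the number of conjugacy classes of X is at most the order of V (the real-vector criterion for the k(GV) problem). The pairing is given as a function on X whose relevant values are those on pairs from U. -/
theorem result {X : Type*} [Group X] [Finite X] (p : ℕ) [Fact p.Prime] (V : Subgroup X) [V.Normal] (hVexp : ∀ v ∈ V, v ^ p = 1) (hidx : ¬ p ∣ V.index) (hself : Subgroup.centralizer (V : Set X) = V) (G : Subgroup X) (hGV : Subgroup.IsComplement' V G) (v : X) (hv : v ∈ V) (U : Subgroup X) (hUV : U ≤ V) (hUinv : ∀ h ∈ G, h * v * h⁻¹ = v → ∀ u ∈ U, h * u * h⁻¹ ∈ U) (hUfaith : ∀ h ∈ G, h * v * h⁻¹ = v → (∀ u ∈ U, h * u * h⁻¹ = u) → h = 1) (β : X → X → ZMod p) (hβl : ∀ u ∈ U, ∀ u' ∈ U, ∀ w ∈ U, β (u * u') w = β u w + β u' w) (hβr : ∀ u ∈ U, ∀ w ∈ U, ∀ w' ∈ U, β u (w * w') = β u w + β u w') (hβinv : ∀ h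 ∈ G, h * v * h⁻¹ = v → ∀ u ∈ U, ∀ w ∈ U, β (h * u * h⁻¹) (h * w * h⁻¹) = β u w) (hβnd : ∀ u ∈ U, (∀ w ∈ U, β u w = 0) → u = 1) : Nat.card (ConjClasses X) ≤ Nat.card V := by
  classical
  have := Fintype.ofFinite X
  have hp : p.Prime := Fact.out
  have hab : ∀ a ∈ V, ∀ b ∈ V, a * b = b * a := fun a ha b hb =>
    Subgroup.mem_centralizer_iff.mp ((hself.ge : V ≤ Subgroup.centralizer (V : Set X)) hb) a ha
  have hidxG : Nat.card G = V.index := (Subgroup.IsComplement'.index_eq_card hGV.symm).symm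
  set H : Subgroup X := G ⊓ Subgroup.centralizer ({v} : Set X) with hHdef
  have hHG : H ≤ G := inf_le_left
  have hvH : ∀ h : H, Commute (h : X) v := fun h =>
    Subgroup.mem_centralizer_singleton_iff.mp h.2.2
  have hfix : ∀ h : H, (h : X) * v * (h : X)⁻¹ = v := fun h => by
    rw [(hvH h).eq, mul_inv_cancel_right]
  have hHp : ¬ p ∣ Nat.card H := fun h => hidx (hidxG ▸ h.trans (Subgroup.card_dvd_of_le hHG))
  -- the module
  letI : CommGroup U := commGroupOf U fun a b => hab _ (hUV a.2) _ (hUV b.2)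
  have hmod : Module (ZMod p) (Additive U) := AddCommGroup.zmodModule (n := p) fun (x : Additive U) => by
    exact
    congrArg Additive.ofMul (Subtype.ext (hVexp _ (hUV x.toMul.2)) : x.toMul ^ p = 1)
  let act : H → (Additive U →+ Additive U) := fun h => AddMonoidHom.mk'
    (fun x => Additive.ofMul (⟨(h : X) * (x.toMul : U) * (h : X)⁻¹,
      hUinv h h.2.1 (hfix h) _ x.toMul.2⟩ : U))
    (fun x y => congrArg Additive.ofMul (Subtype.ext (by
      show (h : X) * ((x.toMul : X) * (y.toMul : X)) * (h : X)⁻¹ = _ * _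
      simp [mul_assoc])))
  let ρ : Representation (ZMod p) H (Additive U) :=
    (⟨⟨fun h => (act h).toZModLinearMap p, LinearMap.ext fun x =>
      congrArg Additive.ofMul (Subtype.ext (by
        show ((1 : H) : X) * _ * _ = (x.toMul : X)
        simp))⟩, fun a b => LinearMap.ext fun x => by
      rw [Module.End.mul_apply]
      exact congrArg Additive.ofMul (Subtype.ext (by
        show ((a * b : H) : X) * _ * _ = (a : X) * ((b : X) * _ * _) * _
        simp [mul_assoc]))⟩ : H →* Module.End (ZMod p) (Additive U))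
  let B₁ : Additive U →+ (Additive U →ₗ[ZMod p] ZMod p) := AddMonoidHom.mk'
    (fun x => (AddMonoidHom.mk' (fun y : Additive U => β (x.toMul : X) (y.toMul : X))
      fun y y' => hβr _ x.toMul.2 _ y.toMul.2 _ y'.toMul.2).toZModLinearMap p)
    fun x x' => LinearMap.ext fun y => by
      rw [LinearMap.add_apply]
      exact hβl _ x.toMul.2 _ x'.toMul.2 _ y.toMul.2
  let B : LinearMap.BilinForm (ZMod p) (Additive U) := B₁.toZModLinearMap p
  have hBl : LinearMap.SeparatingLeft B := fun x hx => congrArg Additive.ofMul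
    (Subtype.ext (hβnd _ x.toMul.2 fun w hw => hx (Additive.ofMul ⟨w, hw⟩)) : x.toMul = 1)
  have hB : B.Nondegenerate := ⟨hBl, fun y hy => by
    have hinj : Function.Injective B := (injective_iff_map_eq_zero B).mpr fun x hx =>
      hBl x fun w => by rw [hx, LinearMap.zero_apply]
    have hsurj := (LinearMap.injective_iff_surjective_of_finrank_eq_finrank
      (Subspace.dual_finrank_eq (K := ZMod p) (V := Additive U)).symm).mp hinj
    refine (Module.forall_dual_apply_eq_zero_iff (ZMod p) y).mp fun f => ?_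
    obtain ⟨x, rfl⟩ := hsurj f
    exact hy x⟩
  have hBinv : ∀ g x y, B (ρ g x) (ρ g y) = B x y := fun g x y =>
    hβinv g g.2.1 (hfix g) _ x.toMul.2 _ y.toMul.2
  have hfaith : ∀ h, (∀ x, ρ h x = x) → h = 1 := fun h hx => Subtype.ext
    (hUfaith h h.2.1 (hfix h) fun u hu =>
      congrArg (fun x : Additive U => (x.toMul : X)) (hx (Additive.ofMul ⟨u, hu⟩)))
  obtain ⟨M, hM⟩ := exists_isPModular hp
  have := hM.2.1
  have := res_charP M hM
  obtain ⟨J, hJne, hJgal, hJ⟩ := exists_weights ρ hHp hfaith B hB hBinv hM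
  -- the numbers
  let a : IrrCharacter X × (H → ℂ) → ℂ := fun z =>
    (Nat.card H : ℂ)⁻¹ * ∑ h : H, (z.1 : X → ℂ) (v * h) * z.2 h
  have hint : ∀ χ, ∀ w ∈ J, IsIntegral ℤ (a (χ, w)) := by
    intro χ w hw
    have hF := intComb_central_translate (isCharacter_of_isIrr χ.2) H.subtype (fun h => (hvH h).symm)
    have hFw : IntComb ((fun h : H => (χ : X → ℂ) (v * h)) * w) := by
      rw [intComb_eq_sum (hJ w hw).1, Finset.mul_sum]
      refine intComb_sum _ fun φ _ => ?_
      rw [mul_smul_comm]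
      exact intComb_smul (intComb_mul_char hF (isCharacter_of_isIrr φ.2)) ((hJ w hw).1.2 φ)
    have h1 := hFw.2 irrOne
    rw [classInner_def] at h1
    simpa only [irrOne_apply, map_one, mul_one, Pi.mul_apply] using h1
  have hne : ∀ χ, ∀ w ∈ J, a (χ, w) ≠ 0 := by
    intro χ w hw h0
    have hwi : ∀ h, IsIntegral ℤ (w h) := fun h => by
      rcases eq_or_ne h 1 with rfl | hh
      · rw [(hJ w hw).2.1]; exact isIntegral_one
      · obtain ⟨z, hz, -⟩ := (hJ w hw).2.2.1 h hh
        exact hz ▸ z.2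
    have hs : ∑ h : H, (⟨(χ : X → ℂ) (v * h), char_isIntegral (isCharacter_of_isIrr χ.2) _⟩ : AlgInt) *
        ⟨w h, hwi h⟩ = 0 := Subtype.ext (by
      rw [AddSubmonoidClass.coe_finsetSum]
      exact (mul_eq_zero.mp h0).resolve_left (inv_ne_zero (Nat.cast_ne_zero.mpr Nat.card_pos.ne')))
    have h1 := congrArg (Ideal.Quotient.mk M) hs
    rw [map_sum, map_zero, Finset.sum_eq_single (1 : H) (fun h _ hh => by
      obtain ⟨z, hz, hz0⟩ := (hJ w hw).2.2.1 h hh
      rw [map_mul, show (⟨w h, hwi h⟩ : AlgInt) = z from Subtype.ext hz.symm, hz0, mul_zero]) (by simp),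
      map_mul, show (⟨w 1, hwi 1⟩ : AlgInt) = 1 from Subtype.ext (hJ w hw).2.1, map_one, mul_one] at h1
    simp only [OneMemClass.coe_one, mul_one] at h1
    rw [mk_char_eq hM (isCharacter_of_isIrr χ.2) (hVexp v hv)] at h1
    obtain ⟨n, hn⟩ := exists_degree (isCharacter_of_isIrr χ.2)
    rw [show (⟨(χ : X → ℂ) 1, char_isIntegral (isCharacter_of_isIrr χ.2) 1⟩ : AlgInt) = (n : AlgInt) from
      Subtype.ext (by simpa using hn), map_natCast,
      CharP.cast_eq_zero_iff (Res M) p] at h1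
    exact hidx (h1.trans (degree_dvd_index_abelian_normal V hab χ.2 hn))
  -- conjugates of `v h` in `v H`
  have hconj : ∀ (h h' : H) (b g : X), b ∈ V → g ∈ G →
      b * g * (v * h) * (b * g)⁻¹ = v * h' →
      g ∈ H ∧ g * (h : X) * g⁻¹ = h' ∧ (h' : X) * b * (h' : X)⁻¹ = b := by
    intro h h' b g hb hg e
    have hconjV : ∀ (x y : X), y ∈ V → x * y * x⁻¹ ∈ V := fun x y hy =>
      (inferInstance : V.Normal).conj_mem y hy x
    set k := g * (h : X) * g⁻¹ with hk
    have hkG : k ∈ G := mul_mem (mul_mem hg (hHG h.2)) (inv_mem hg)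
    have h3 := hGV.1 (a₁ := (⟨_, mul_mem (mul_mem hb (hconjV g v hv)) (hconjV k b⁻¹ (inv_mem hb))⟩,
      ⟨k, hkG⟩)) (a₂ := (⟨v, hv⟩, ⟨(h' : X), hHG h'.2⟩))
      (show b * (g * v * g⁻¹) * (k * b⁻¹ * k⁻¹) * k = v * (h' : X) by rw [← e, hk]; group)
    simp only [Prod.mk.injEq, Subtype.mk.injEq] at h3
    obtain ⟨h1, h2⟩ := h3
    rw [h2] at h1
    set z := g * v * g⁻¹ * v⁻¹ with hz
    have hgvV := hconjV g v hv
    have hzV : z ∈ V := mul_mem hgvV (inv_mem hv)
    have hcz : Commute (h' : X) z := by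
      refine Commute.mul_right ?_ (hvH h').inv_right
      rw [← h2]
      show k * (g * v * g⁻¹) = g * v * g⁻¹ * k
      rw [hk]
      calc g * (h : X) * g⁻¹ * (g * v * g⁻¹) = g * ((h : X) * v) * g⁻¹ := by group
        _ = g * (v * (h : X)) * g⁻¹ := by rw [(hvH h).eq]
        _ = _ := by group
    have hb' : (h' : X) * b * (h' : X)⁻¹ = z * b := by
      have h4 : b * (g * v * g⁻¹) = v * ((h' : X) * b * (h' : X)⁻¹) := by
        calc b * (g * v * g⁻¹) = b * (g * v * g⁻¹) * ((h' : X) * b⁻¹ * (h' : X)⁻¹) *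
            ((h' : X) * b * (h' : X)⁻¹) := by group
          _ = _ := by rw [h1]
      calc (h' : X) * b * (h' : X)⁻¹ = v⁻¹ * (b * (g * v * g⁻¹)) := by rw [h4]; group
        _ = v⁻¹ * ((g * v * g⁻¹) * b) := by rw [hab b hb _ hgvV]
        _ = z * b := by rw [hz, hab (g * v * g⁻¹) hgvV _ (inv_mem hv)]; group
    have hcb := commute_of_fixed (p := p) (fun hd => hHp (hd.trans (Subgroup.orderOf_dvd_natCard H h'.2)))
      (hVexp z hzV) hcz hb'
    have hfb : (h' : X) * b * (h' : X)⁻¹ = b := by rw [hcb, mul_inv_cancel_right]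
    refine ⟨⟨hg, ?_⟩, h2, hfb⟩
    rw [hfb] at hb'
    have hz1 : z = 1 := mul_eq_right.mp hb'.symm
    rw [hz, mul_inv_eq_one, mul_inv_eq_iff_eq_mul] at hz1
    exact Subgroup.mem_centralizer_singleton_iff.mpr hz1
  let CV : H → Subgroup X := fun h => V ⊓ Subgroup.centralizer ({(h : X)} : Set X)
  have hcount : ∀ h : H, (∑ h' : H, if IsConj (v * (h : X)) (v * (h' : X)) then
      Nat.card (Subgroup.centralizer ({v * (h : X)} : Set X)) else 0) ≤
      Nat.card (CV h) * Nat.card H := by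
    intro h
    rw [← Finset.sum_filter, Finset.sum_const, smul_eq_mul, ← Fintype.card_subtype,
      ← Nat.card_eq_fintype_card, ← Nat.card_prod, ← Nat.card_prod]
    have hdec : ∀ y : {h' : H // IsConj (v * (h : X)) (v * (h' : X))} ×
        Subgroup.centralizer ({v * (h : X)} : Set X), ∃ q : CV h × H,
          (q.2 : X) * q.1 * (v * h) * ((q.2 : X) * q.1)⁻¹ = v * y.1.1 ∧
          ∃ x : X, x = (isConj_iff.mp y.1.2).choose * y.2 ∧ x = (q.2 : X) * q.1 := by
      rintro ⟨⟨h', hh⟩, ⟨z, hz⟩⟩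
      set x := (isConj_iff.mp hh).choose * z with hx
      have hx' : x * (v * h) * x⁻¹ = v * h' := by
        have h0 := (isConj_iff.mp hh).choose_spec
        have hz' := Subgroup.mem_centralizer_singleton_iff.mp hz
        rw [hx, mul_inv_rev]
        calc _ = (isConj_iff.mp hh).choose * (z * (v * h)) * z⁻¹ * (isConj_iff.mp hh).choose⁻¹ := by group
          _ = (isConj_iff.mp hh).choose * (v * h) * (isConj_iff.mp hh).choose⁻¹ := by rw [hz']; group
          _ = _ := h0
      obtain ⟨⟨⟨b, hb⟩, ⟨g, hg⟩⟩, hbg⟩ := hGV.2 x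
      have hbg' : b * g = x := hbg
      obtain ⟨hgH, hgh, hbf⟩ := hconj h h' b g hb hg (by rw [hbg']; exact hx')
      have hb0 : g⁻¹ * b * g ∈ CV h := by
        refine Subgroup.mem_inf.mpr ⟨by simpa using (inferInstance : V.Normal).conj_mem b hb g⁻¹, ?_⟩
        have hc : (h' : X) * b = b * h' := mul_inv_eq_iff_eq_mul.mp hbf
        rw [Subgroup.mem_centralizer_singleton_iff, show (h : X) = g⁻¹ * h' * g by rw [← hgh]; group]
        calc _ = g⁻¹ * (b * (h' : X)) * g := by group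
          _ = _ := by rw [← hc]; group
      have hxe : x = g * (g⁻¹ * b * g) := by rw [← hbg']; group
      exact ⟨(⟨_, hb0⟩, ⟨g, hgH⟩), by rw [← hxe]; exact hx', x, rfl, hxe⟩
    choose f hf1 x hx2 hx3 using hdec
    refine Nat.card_le_card_of_injective f fun y y' e => ?_
    have h1 : y.1 = y'.1 := Subtype.ext (Subtype.ext (mul_left_cancel
      ((hf1 y).symm.trans (e ▸ hf1 y'))))
    have h2 : x y = x y' := by rw [hx3, hx3, e]
    rw [hx2, hx2, h1] at h2
    exact Prod.ext h1 (Subtype.ext (mul_left_cancel h2))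
  have hUV' : ∀ h : H, Nat.card U * Nat.card (CV h) ≤ Nat.card V * Nat.card (fixSp ρ h) := by
    intro h
    rw [← Nat.card_prod, ← Nat.card_prod]
    let m : U × CV h → V := fun y => ⟨(y.1 : X) * y.2, mul_mem (hUV y.1.2) y.2.2.1⟩
    let r : U × CV h → U × CV h := fun y => Function.invFun m (m y)
    have hr : ∀ y, m (r y) = m y := fun y => Function.invFun_eq ⟨y, rfl⟩
    refine Nat.card_le_card_of_injective (fun y => (m y, ⟨Additive.ofMul ((r y).1⁻¹ * y.1), ?_⟩)) ?_
    · rw [mem_fixSp]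
      refine congrArg Additive.ofMul (Subtype.ext ?_)
      show (h : X) * (((r y).1 : X)⁻¹ * y.1) * (h : X)⁻¹ = ((r y).1 : X)⁻¹ * y.1
      have e : ((r y).1 : X) * (r y).2 = (y.1 : X) * y.2 := congrArg Subtype.val (hr y)
      have e2 : ((r y).1 : X)⁻¹ * y.1 = (r y).2 * ((y.2 : CV h) : X)⁻¹ :=
        calc ((r y).1 : X)⁻¹ * y.1 = ((r y).1 : X)⁻¹ * ((y.1 : X) * y.2) * (y.2 : X)⁻¹ := by group
          _ = _ := by rw [← e]; group
      have hm : ((r y).2 : X) * ((y.2 : CV h) : X)⁻¹ ∈ CV h := mul_mem (r y).2.2 (inv_mem y.2.2)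
      rw [e2, ← (Subgroup.mem_centralizer_singleton_iff.mp hm.2), mul_inv_cancel_right]
    · intro y y' e
      obtain ⟨e1, e2⟩ := Prod.ext_iff.mp e
      have e3 : r y = r y' := congrArg (Function.invFun m) e1
      have e4 : (r y).1⁻¹ * y.1 = (r y').1⁻¹ * y'.1 :=
        congrArg (fun z : fixSp ρ h => z.1.toMul) e2
      rw [e3] at e4
      have e5 := mul_left_cancel e4
      have e6 : (y.1 : X) * y.2 = (y'.1 : X) * y'.2 := congrArg Subtype.val e1
      rw [e5] at e6
      exact Prod.ext e5 (Subtype.ext (mul_left_cancel e6))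
  have hupper : ∀ w ∈ J, ∑ χ : IrrCharacter X, Complex.normSq (a (χ, w)) ≤ (Nat.card V : ℝ) := by
    intro w hw
    obtain ⟨hcomb, -, -, hbd, -⟩ := hJ w hw
    have hwc : ∀ h h' : H, IsConj (v * (h : X)) (v * (h' : X)) → w h' = w h := by
      intro h h' hh
      obtain ⟨x, hx⟩ := isConj_iff.mp hh
      obtain ⟨⟨⟨b, hb⟩, ⟨g, hg⟩⟩, hbg⟩ := hGV.2 x
      have hbg' : b * g = x := hbg
      obtain ⟨hgH, hgh, -⟩ := hconj h h' b g hb hg (by rw [hbg']; exact hx)
      rw [show h' = (⟨g, hgH⟩ : H) * h * (⟨g, hgH⟩ : H)⁻¹ from Subtype.ext hgh.symm]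
      exact hcomb.1 h ⟨g, hgH⟩
    have key : ((∑ χ : IrrCharacter X, Complex.normSq (a (χ, w)) : ℝ) : ℂ) =
        ((((Nat.card H : ℝ)⁻¹) ^ 2 * ∑ h : H, Complex.normSq (w h) * ((∑ h' : H,
          if IsConj (v * (h : X)) (v * (h' : X)) then
            Nat.card (Subgroup.centralizer ({v * (h : X)} : Set X)) else 0 : ℕ) : ℝ) : ℝ) : ℂ) := by
      push_cast
      simp only [a, map_mul, map_inv₀, Complex.normSq_natCast, Complex.ofReal_mul, Complex.ofReal_inv,
        Complex.ofReal_natCast, ← Complex.mul_conj, map_sum, ← Finset.mul_sum]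
      rw [inv_pow, sq]
      congr 1
      simp only [Finset.sum_mul_sum]
      rw [Finset.sum_comm]
      refine Finset.sum_congr rfl fun h _ => ?_
      rw [Finset.sum_comm, Finset.mul_sum]
      refine Finset.sum_congr rfl fun h' _ => ?_
      rw [Finset.sum_congr rfl fun χ _ => mul_mul_mul_comm _ _ _ _, ← Finset.sum_mul,
        second_orthogonality]
      split_ifs with hh
      · rw [hwc h h' hh]; push_cast; ring
      · simp
    rw [Complex.ofReal_injective key]
    have hH0 : (0 : ℝ) < Nat.card H := Nat.cast_pos.mpr Nat.card_pos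
    calc _ ≤ ((Nat.card H : ℝ)⁻¹) ^ 2 * ∑ _h : H, ((Nat.card V : ℝ) * Nat.card H) := by
          refine mul_le_mul_of_nonneg_left (Finset.sum_le_sum fun h _ => ?_) (sq_nonneg _)
          refine (mul_le_mul_of_nonneg_left (Nat.cast_le.mpr (hcount h)) (Complex.normSq_nonneg _)).trans ?_
          have hU0 : (0 : ℝ) < Nat.card U := Nat.cast_pos.mpr Nat.card_pos
          have h1 := hbd h
          rw [Nat.card_congr (Additive.toMul : Additive U ≃ U)] at h1
          have h2 : (Nat.card U : ℝ) * Nat.card (CV h) ≤ (Nat.card V : ℝ) * Nat.card (fixSp ρ h) := by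
            exact_mod_cast hUV' h
          rw [Nat.cast_mul, ← mul_assoc]
          refine mul_le_mul_of_nonneg_right ?_ hH0.le
          refine le_of_mul_le_mul_left ?_ hU0
          calc (Nat.card U : ℝ) * (Complex.normSq (w h) * Nat.card (CV h))
              = Complex.normSq (w h) * ((Nat.card U : ℝ) * Nat.card (CV h)) := by ring
            _ ≤ Complex.normSq (w h) * ((Nat.card V : ℝ) * Nat.card (fixSp ρ h)) :=
                mul_le_mul_of_nonneg_left h2 (Complex.normSq_nonneg _)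
            _ = (Nat.card V : ℝ) * (Complex.normSq (w h) * Nat.card (fixSp ρ h)) := by ring
            _ ≤ (Nat.card V : ℝ) * Nat.card U := mul_le_mul_of_nonneg_left h1 (Nat.cast_nonneg _)
            _ = _ := mul_comm _ _
      _ = _ := by
          rw [Finset.sum_const, Finset.card_univ, nsmul_eq_mul, ← Nat.card_eq_fintype_card]
          field_simp
  have hlower := card_le_sum_of_galois ((Finset.univ : Finset (IrrCharacter X)) ×ˢ J)
    (fun z => Complex.normSq (a z)) (fun z hz => ?_)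
    (fun z hz => Complex.normSq_pos.mpr (hne z.1 z.2 (Finset.mem_product.mp hz).2)) fun σ => ?_
  · rw [Finset.sum_product, Finset.sum_comm, Finset.card_product] at hlower
    have h1 := hlower.trans (Finset.sum_le_sum hupper)
    rw [Finset.sum_const, nsmul_eq_mul, Finset.card_univ, ← Nat.card_eq_fintype_card,
      card_irr_eq_card_conjClasses, Nat.cast_mul, mul_comm] at h1
    exact_mod_cast le_of_mul_le_mul_left h1 (Nat.cast_pos.mpr hJne.card_pos)
  · rw [Complex.normSq_eq_conj_mul_self]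
    have := hint z.1 z.2 (Finset.mem_product.mp hz).2
    exact (isIntegral_conj' this).mul this
  · rw [map_prod]
    let e : IrrCharacter X × (H → ℂ) ≃ IrrCharacter X × (H → ℂ) :=
      (CfsgLib.CharNormal.galIrr σ).prodCongr
        { toFun := fun w h => σ (w h)
          invFun := fun w h => σ.symm (w h)
          left_inv := fun w => funext fun h => σ.symm_apply_apply _
          right_inv := fun w => funext fun h => σ.apply_symm_apply _ }
    have hsub : ((Finset.univ : Finset (IrrCharacter X)) ×ˢ J).map e.toEmbedding =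
        (Finset.univ : Finset (IrrCharacter X)) ×ˢ J := by
      refine Finset.eq_of_subset_of_card_le (fun z hz => ?_) (Finset.card_map _).ge
      obtain ⟨y, hy, rfl⟩ := Finset.mem_map.mp hz
      exact Finset.mem_product.mpr ⟨Finset.mem_univ _, hJgal σ _ (Finset.mem_product.mp hy).2⟩
    conv_rhs => rw [← hsub, Finset.prod_map]
    refine Finset.prod_congr rfl fun z hz => ?_
    have e1 : a (e z) = σ (a z) := by
      simp only [a, e, map_mul, map_inv₀, map_natCast, map_sum]
      rfl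
    have e2 : conj (a (e z)) = σ (conj (a z)) := by
      rw [e1]
      simp only [a, map_mul, map_inv₀, Complex.conj_natCast, map_natCast, map_sum]
      refine congrArg _ (Finset.sum_congr rfl fun h _ => ?_)
      rw [(hJ z.2 (Finset.mem_product.mp hz).2).2.2.2.2 σ h, ← char_inv (isCharacter_of_isIrr z.1.2)]
      congr 1
      exact (char_inv (CfsgLib.CharNormal.isCharacter_ringEquiv σ (isCharacter_of_isIrr z.1.2)) _).symm
    rw [Complex.normSq_eq_conj_mul_self, Complex.normSq_eq_conj_mul_self, map_mul, Equiv.coe_toEmbedding,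
      e2, e1]


end Cfsg.Agent.S4959
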