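import Cfsg.Statements.S4964
import Cfsg.Agent.S4735
import Cfsg.Agent.Lib.Blocks.Brauer
import Cfsg.Agent.Lib.Blocks.Orth
import Cfsg.Agent.Lib.Blocks.PPart
import Cfsg.Agent.Lib.Solvable.CoprimeAction
import Cfsg.Agent.Lib.PGroup.Basic
import Cfsg.Agent.Lib.CharNormal.Kernel

set_option autoImplicit false
open Cfsg

namespace Cfsg.Agent.S4964

open CfsgLib.Blocks
open scoped commutatorElement

/-- A `p`-regular element centralising `D / D'` centralises `D`. -/
theorem commute_of_commutator_mem {G : Type*} [Group G] [Finite G] {p : ℕ} [Fact p.Prime]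
    {D : Subgroup G} [D.Normal] (hD : IsPGroup p D) {g : G} (hg : ¬ p ∣ orderOf g)
    (h : ∀ d ∈ D, ⁅g, d⁆ ∈ ⁅D, D⁆) : ∀ d ∈ D, Commute g d := by
  have hQD : ⁅D, D⁆ ≤ D := Subgroup.commutator_le_self D
  set A := Subgroup.zpowers g
  set S := (Subgroup.centralizer (A : Set G)).subgroupOf D with hS
  have hAc : Group.IsSolvable A := inferInstance
  have hcop : (Nat.card A).Coprime (Nat.card ↥⁅D, D⁆) := by
    obtain ⟨k, hk⟩ := IsPGroup.iff_card.mp (hD.to_le hQD)
    rw [hk, Nat.card_zpowers]
    exact ((Fact.out : p.Prime).coprime_iff_not_dvd.mpr hg).symm.pow_right k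
  have hle : (⊤ : Subgroup D) ≤ S ⊔ _root_.commutator D := by
    intro d _
    obtain ⟨n, hn, hnd⟩ := CfsgLib.Solvable.exists_mul_mem_centralizer A ⁅D, D⁆
      (by rw [Subgroup.normalizer_eq_top]; exact le_top) hcop (Or.inl hAc) (d : G) (by
        rintro _ ⟨i, rfl⟩
        rw [← QuotientGroup.eq_one_iff, ← QuotientGroup.mk'_apply, map_commutatorElement,
          commutatorElement_eq_one_iff_commute, map_zpow]
        refine Commute.zpow_left ?_ i
        rw [← commutatorElement_eq_one_iff_commute, ← map_commutatorElement, QuotientGroup.mk'_apply,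
          QuotientGroup.eq_one_iff]
        exact h d d.2)
    have h1 : (⟨n, hQD hn⟩ : D) ∈ _root_.commutator D := by
      rw [← Subgroup.map_subtype_commutator] at hn
      obtain ⟨n', hn', rfl⟩ := hn
      exact hn'
    have h2 : (⟨n, hQD hn⟩ : D) * d ∈ S := hnd
    have : d = (⟨n, hQD hn⟩ : D)⁻¹ * ((⟨n, hQD hn⟩ : D) * d) := by group
    rw [this]
    exact mul_mem (inv_mem (Subgroup.mem_sup_right h1)) (Subgroup.mem_sup_left h2)
  have htop : S = ⊤ := frattini_nongenerating (top_le_iff.mp
    (hle.trans (sup_le_sup_left (CfsgLib.PGroup.commutator_le_frattini hD) S)))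
  intro d hd
  have hmem : (⟨d, hd⟩ : D) ∈ S := htop ▸ Subgroup.mem_top _
  exact (Subgroup.mem_centralizer_iff.mp hmem g (Subgroup.mem_zpowers g))

section push

variable {M : Ideal AlgInt} [M.IsMaximal] {G : Type*} [Group G] [Fintype G] (Q : Subgroup G) [Q.Normal]
  [Fintype (G ⧸ Q)]

open Classical in
/-- Coefficient sums over the cosets of `Q`. -/
noncomputable def push (a : Zint M G) : Zint M (G ⧸ Q) :=
  ⟨ofFun (fun q : G ⧸ Q => ∑ g : G, if (g : G ⧸ Q) = q then (a : CA G).coeff g else 0),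
    mem_Zint_iff.mpr ⟨fun q => by
      rw [coeff_ofFun]
      refine Subring.sum_mem _ fun g _ => ?_
      split_ifs
      · exact (mem_Zint_iff.mp a.2).1 g
      · exact Subring.zero_mem _, fun q r => by
      obtain ⟨r, rfl⟩ := QuotientGroup.mk_surjective r
      simp only [coeff_ofFun]
      refine Fintype.sum_equiv (MulAut.conj r⁻¹).toEquiv _ _ fun g => ?_
      simp only [MulEquiv.toEquiv_eq_coe, MulEquiv.coe_toEquiv, MulAut.conj_apply, inv_inv]
      refine if_congr ?_ ((mem_Zint_iff.mp a.2).2 g r⁻¹ ▸ by rw [inv_inv]) rfl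
      rw [QuotientGroup.mk_mul, QuotientGroup.mk_mul, QuotientGroup.mk_inv]
      constructor <;> intro e
      · rw [e]; group
      · rw [← e]; group⟩⟩

theorem zomega_push (a : Zint M G) (ξ : IrrCharacter (G ⧸ Q)) (η : IrrCharacter G)
    (hη : (η : G → ℂ) = (ξ : G ⧸ Q → ℂ) ∘ QuotientGroup.mk) :
    zomega ξ (push Q a) = zomega η a := by
  classical
  refine Subtype.ext ?_
  rw [coe_zomega, coe_zomega, omega, omega, charLin_apply, charLin_apply, hη, Function.comp_apply,
    QuotientGroup.mk_one]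
  congr 1
  simp only [push, coeff_ofFun, Finset.sum_mul, ite_mul, zero_mul, Function.comp_apply]
  rw [Finset.sum_comm]
  exact Finset.sum_congr rfl fun g _ => by rw [Finset.sum_ite_eq]; simp

open Classical in
theorem coeff_push (a : Zint M G) (q : G ⧸ Q) :
    ((push Q a : Zint M (G ⧸ Q)) : CA (G ⧸ Q)).coeff q =
      ∑ g : G, if (g : G ⧸ Q) = q then (a : CA G).coeff g else 0 := by
  simp only [push, coeff_ofFun]

end push

/-- Let D be a normal p-subgroup of the finite group G, let D′ be its commutator subgroup (normal in G), and fix a maximal ideal M of the algebraic integers containing p. Then (i) two irreducible characters of G ⧸ D′ lie in the same p-block if and only if their inflations to G do, and (ii) every p-block of G contains the inflation of some irreducible character of G ⧸ D′; so inflation induces a bijection between the p-blocks of G ⧸ D′ and the p-blocks of G. -/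
theorem result {G : Type*} [Group G] [Finite G] (p : ℕ) [Fact p.Prime] (M : Ideal Cfsg.AlgInt) (hM : Cfsg.IsPModular p M) (D : Subgroup G) [D.Normal] (hD : IsPGroup p D) : (∀ χ ψ : Cfsg.IrrCharacter (G ⧸ ⁅D, D⁆), Cfsg.SameBlock M (χ : G ⧸ ⁅D, D⁆ → ℂ) (ψ : G ⧸ ⁅D, D⁆ → ℂ) ↔ Cfsg.SameBlock M ((χ : G ⧸ ⁅D, D⁆ → ℂ) ∘ QuotientGroup.mk) ((ψ : G ⧸ ⁅D, D⁆ → ℂ) ∘ QuotientGroup.mk)) ∧ ∀ B : Set (Cfsg.IrrCharacter G), Cfsg.IsPBlock M B → ∃ χ : Cfsg.IrrCharacter (G ⧸ ⁅D, D⁆), ∃ θ ∈ B, (θ : G → ℂ) = (χ : G ⧸ ⁅D, D⁆ → ℂ) ∘ QuotientGroup.mk := by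
  classical
  have := Fintype.ofFinite G
  have := hM.2.1
  have : Fact p.Prime := ⟨hM.1⟩
  set Q : Subgroup G := ⁅D, D⁆
  have := Fintype.ofFinite (G ⧸ Q)
  have := Fintype.ofFinite D
  have := Fintype.ofFinite Q
  have hQ : IsPGroup p Q := hD.to_le (Subgroup.commutator_le_self D)
  let inf : IrrCharacter (G ⧸ Q) → IrrCharacter G := fun ψ =>
    ⟨_, CfsgLib.CharNormal.isIrr_comp_mk' Q ψ.2⟩
  set Db : Subgroup (G ⧸ Q) := D.map (QuotientGroup.mk' Q) with hDb
  have hDbn : Db.Normal := Subgroup.Normal.map inferInstance _ (QuotientGroup.mk'_surjective Q)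
  have hDbp : IsPGroup p Db := hD.map _
  -- regular lifts of regular elements of `C(D/Q)` are unique
  have hlift : ∀ q ∈ Subgroup.centralizer (Db : Set (G ⧸ Q)), ¬ p ∣ orderOf q →
      ∃ g : G, (g : G ⧸ Q) = q ∧ ¬ p ∣ orderOf g ∧
        ∀ g' : G, (g' : G ⧸ Q) = q → ¬ p ∣ orderOf g' → g' = g := by
    intro q hq hreg
    obtain ⟨g₀, rfl⟩ := QuotientGroup.mk_surjective q
    obtain ⟨z, t, rfl, hzt, ⟨k, hk⟩, ht⟩ := exists_isPPart (p := p) g₀
    have hz : (z : G ⧸ Q) = 1 := by
      obtain ⟨j, -, hj⟩ := (Nat.dvd_prime_pow (Fact.out : p.Prime)).mp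
        (hk ▸ orderOf_map_dvd (QuotientGroup.mk' Q) z)
      have h1 : IsPPart p ((z * t : G) : G ⧸ Q) (z : G ⧸ Q) := by
        rw [QuotientGroup.mk_mul]
        exact isPPart_mul (hzt.map (QuotientGroup.mk' Q)) ⟨j, hj⟩
          (fun h => ht (h.trans (orderOf_map_dvd (QuotientGroup.mk' Q) t)))
      exact isPPart_unique h1 (isPPart_one_iff.mpr hreg)
    rw [QuotientGroup.mk_mul, hz, one_mul] at hq ⊢
    have hcom : ∀ d ∈ D, Commute t d := commute_of_commutator_mem hD ht fun d hd => by
      rw [← QuotientGroup.eq_one_iff, ← QuotientGroup.mk'_apply, map_commutatorElement,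
        commutatorElement_eq_one_iff_commute]
      exact (Subgroup.mem_centralizer_iff.mp hq _ (Subgroup.mem_map_of_mem _ hd)).symm
    refine ⟨t, rfl, ht, fun g' hg' hg'r => ?_⟩
    have hmem : t⁻¹ * g' ∈ Q := QuotientGroup.eq.mp hg'.symm
    have hc : Commute t (t⁻¹ * g') := hcom _ (Subgroup.commutator_le_self D hmem)
    obtain ⟨j, hj⟩ := IsPGroup.iff_orderOf.mp hQ ⟨_, hmem⟩
    rw [Subgroup.orderOf_mk] at hj
    have h1 : IsPPart p g' (t⁻¹ * g') := ⟨t, by rw [← hc.eq, mul_inv_cancel_left], hc.symm, ⟨j, hj⟩, ht⟩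
    exact (inv_mul_eq_one.mp (isPPart_unique h1 (isPPart_one_iff.mpr hg'r))).symm
  refine ⟨fun χ ψ => ⟨fun h => Cfsg.Agent.S4735.sameBlock_inflate M Q h, fun h => ?_⟩, fun B hB => ?_⟩
  · set Bd := blockOf M (χ : G ⧸ Q → ℂ)
    have hBd : IsPBlock M Bd := isPBlock_blockOf χ
    -- lift of the idempotent of `Bd`
    let a : Zint M G := ⟨ofFun (fun g : G => if p ∣ orderOf g then 0 else blockCoeff Bd (g : G ⧸ Q)),
      mem_Zint_iff.mpr ⟨fun g => by
        rw [coeff_ofFun]
        split_ifs
        · exact Subring.zero_mem _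
        · exact blockCoeff_mem_locRing hBd _, fun g r => by
        simp only [coeff_ofFun, QuotientGroup.mk_mul, QuotientGroup.mk_inv, blockCoeff_conj]
        rw [show orderOf (r * g * r⁻¹) = orderOf g from
          orderOf_injective (MulAut.conj r).toMonoidHom (MulAut.conj r).injective g]⟩⟩
    have hae : ∀ ξ : IrrCharacter (G ⧸ Q), bomega ξ (push Q a) = bomega ξ (idem hBd) := by
      intro ξ
      rw [← sub_eq_zero, ← map_sub]
      refine bomega_eq_zero_of_support hM hDbp ξ fun q hq => ?_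
      rw [rcoeff_sub, sub_eq_zero, rcoeff, rcoeff]
      refine congrArg (res M) (Subtype.ext ?_)
      show ((push Q a : Zint M (G ⧸ Q)) : CA (G ⧸ Q)).coeff q = (blockElt Bd).coeff q
      rw [coeff_push, blockElt, coeff_ofFun]
      by_cases hreg : p ∣ orderOf q
      · rw [blockCoeff_eq_zero hM hBd hreg]
        refine Finset.sum_eq_zero fun g _ => ?_
        split_ifs with hgq
        · show (ofFun _ : CA G).coeff g = 0
          rw [coeff_ofFun, if_pos]
          exact hreg.trans (hgq ▸ orderOf_map_dvd (QuotientGroup.mk' Q) g)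
        · rfl
      · obtain ⟨g, hg, hgr, huniq⟩ := hlift q hq hreg
        rw [Finset.sum_eq_single g]
        · rw [if_pos hg]
          show (ofFun _ : CA G).coeff g = _
          rw [coeff_ofFun, if_neg hgr, hg]
        · intro g' _ hne
          split_ifs with hg'
          · show (ofFun _ : CA G).coeff g' = 0
            rw [coeff_ofFun, if_pos]
            by_contra hd
            exact hne (huniq g' hg' hd)
          · rfl
        · simp
    have h1 : bomega χ (idem hBd) = 1 := by rw [bomega_idem, if_pos (mem_blockOf_self χ)]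
    have h2 : bomega (inf χ) a = bomega (inf ψ) a :=
      RingHom.congr_fun ((sameBlock_iff (inf χ) (inf ψ)).mp h) a
    rw [bomega_apply, bomega_apply, ← zomega_push Q a χ (inf χ) rfl, ← zomega_push Q a ψ (inf ψ) rfl,
      ← bomega_apply, ← bomega_apply, hae, hae, h1, bomega_idem] at h2
    by_contra hc
    rw [if_neg (show ψ ∉ Bd from hc)] at h2
    exact one_ne_zero h2
  · by_contra hno
    push Not at hno
    obtain ⟨χ, hχ⟩ := IsPBlock.nonempty hB
    have hpush : push Q (idem hB) = 0 := Zint_ext fun ξ => by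
      rw [zomega_push Q _ ξ (inf ξ) rfl, map_zero, zomega_idem, if_neg]
      exact fun h => hno ξ (inf ξ) h rfl
    have hzero : ∀ g ∈ Subgroup.centralizer (D : Set G), rcoeff (idem hB) g = 0 := by
      intro g hg
      by_cases hreg : p ∣ orderOf g
      · rw [rcoeff_eq_zero_iff]
        show MemLocalIdeal M ((blockElt B).coeff g)
        rw [blockElt, coeff_ofFun, blockCoeff_eq_zero hM hB hreg]
        exact (res_eq_zero_iff M 0).mp (map_zero _)
      · have hq : (g : G ⧸ Q) ∈ Subgroup.centralizer (Db : Set (G ⧸ Q)) := by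
          rw [Subgroup.mem_centralizer_iff]
          rintro _ ⟨d, hd, rfl⟩
          exact congrArg (QuotientGroup.mk' Q) (Subgroup.mem_centralizer_iff.mp hg d hd)
        obtain ⟨g₁, -, -, huniq⟩ := hlift _ hq
          (fun h => hreg (h.trans (orderOf_map_dvd (QuotientGroup.mk' Q) g)))
        have h0 : ((push Q (idem hB) : Zint M (G ⧸ Q)) : CA (G ⧸ Q)).coeff (g : G ⧸ Q) = 0 := by
          rw [hpush]; simp
        rw [coeff_push, Finset.sum_eq_single g, if_pos rfl] at h0
        · rw [rcoeff_eq_zero_iff, h0]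
          exact (res_eq_zero_iff M 0).mp (map_zero _)
        · intro g' _ hne
          split_ifs with hg'
          · show (blockElt B).coeff g' = 0
            rw [blockElt, coeff_ofFun]
            refine blockCoeff_eq_zero hM hB ?_
            by_contra hd
            exact hne ((huniq g' hg' hd).trans (huniq g rfl hreg).symm)
          · rfl
        · simp
    have h1 := bomega_eq_zero_of_support hM hD χ hzero
    rw [bomega_idem, if_pos hχ] at h1
    exact one_ne_zero h1

end Cfsg.Agent.S4964
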