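import Cfsg.Statements.S4965
import Mathlib

set_option autoImplicit false
open Cfsg

namespace Cfsg.Agent.S4965

theorem inj_aux {X : Type*} [Group X] (V : Subgroup X) [V.Normal]
    (hab : ∀ a ∈ V, ∀ b ∈ V, a * b = b * a) (φ : X ⧸ V →* MulAut ↥V)
    (hφ : ∀ (x : X) (v : ↥V), ((φ (QuotientGroup.mk x) v : ↥V) : X) = x * v * x⁻¹) :
    ∃ f : {p : X × X // Commute p.1 p.2} →
      {p : SemidirectProduct ↥V (X ⧸ V) φ × SemidirectProduct ↥V (X ⧸ V) φ // Commute p.1 p.2},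
      Function.Injective f := by
  classical
  have H : ∀ q : (X ⧸ V) × (X ⧸ V), ∃ r : X × X,
      (∃ p : X × X, Commute p.1 p.2 ∧ ((p.1 : X ⧸ V), (p.2 : X ⧸ V)) = q) →
        Commute r.1 r.2 ∧ ((r.1 : X ⧸ V), (r.2 : X ⧸ V)) = q := by
    intro q
    by_cases h : ∃ p : X × X, Commute p.1 p.2 ∧ ((p.1 : X ⧸ V), (p.2 : X ⧸ V)) = q
    · exact ⟨h.choose, fun _ => h.choose_spec⟩
    · exact ⟨(1, 1), fun h' => absurd h' h⟩
  choose r hr using H
  have hr' : ∀ p : {p : X × X // Commute p.1 p.2},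
      Commute (r ((p.1.1 : X ⧸ V), (p.1.2 : X ⧸ V))).1 (r ((p.1.1 : X ⧸ V), (p.1.2 : X ⧸ V))).2 ∧
        ((r ((p.1.1 : X ⧸ V), (p.1.2 : X ⧸ V))).1 : X ⧸ V) = (p.1.1 : X ⧸ V) ∧
        ((r ((p.1.1 : X ⧸ V), (p.1.2 : X ⧸ V))).2 : X ⧸ V) = (p.1.2 : X ⧸ V) := fun p =>
    ⟨(hr _ ⟨p.1, p.2, rfl⟩).1, congrArg Prod.fst (hr _ ⟨p.1, p.2, rfl⟩).2,
      congrArg Prod.snd (hr _ ⟨p.1, p.2, rfl⟩).2⟩
  have hmem : ∀ x x₀ : X, (x₀ : X ⧸ V) = (x : X ⧸ V) → x * x₀⁻¹ ∈ V := by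
    intro x x₀ h
    rw [← QuotientGroup.eq_one_iff, QuotientGroup.mk_mul, QuotientGroup.mk_inv, h, mul_inv_cancel]
  refine ⟨fun p => ⟨(⟨⟨_, hmem p.1.1 _ (hr' p).2.1⟩, (p.1.1 : X ⧸ V)⟩,
      ⟨⟨_, hmem p.1.2 _ (hr' p).2.2⟩, (p.1.2 : X ⧸ V)⟩), ?_⟩, ?_⟩
  · obtain ⟨⟨x, y⟩, hxy⟩ := p
    obtain ⟨hc, hx, hy⟩ := hr' ⟨(x, y), hxy⟩
    generalize hr0 : r ((x : X ⧸ V), (y : X ⧸ V)) = q0 at *
    obtain ⟨x₀, y₀⟩ := q0
    simp only at hxy hc hx hy
    have hwm := hmem y y₀ hy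
    have hvm := hmem x x₀ hx
    have hq : (x : X ⧸ V) * (y : X ⧸ V) = (y : X ⧸ V) * (x : X ⧸ V) := by
      rw [← QuotientGroup.mk_mul, hxy.eq, QuotientGroup.mk_mul]
    apply SemidirectProduct.ext
    · apply Subtype.ext
      simp only [SemidirectProduct.mul_left, Subgroup.coe_mul]
      rw [hφ, hφ]
      dsimp only
      have e1 : (x : X) * (y * y₀⁻¹) * x⁻¹ = x₀ * (y * y₀⁻¹) * x₀⁻¹ := by
        have := hab _ hvm _ (Subgroup.Normal.conj_mem ‹V.Normal› _ hwm x₀)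
        calc x * (y * y₀⁻¹) * x⁻¹
            = (x * x₀⁻¹) * (x₀ * (y * y₀⁻¹) * x₀⁻¹) * (x * x₀⁻¹)⁻¹ := by group
          _ = x₀ * (y * y₀⁻¹) * x₀⁻¹ := by rw [this, mul_inv_cancel_right]
      have e2 : (y : X) * (x * x₀⁻¹) * y⁻¹ = y₀ * (x * x₀⁻¹) * y₀⁻¹ := by
        have := hab _ hwm _ (Subgroup.Normal.conj_mem ‹V.Normal› _ hvm y₀)
        calc y * (x * x₀⁻¹) * y⁻¹
            = (y * y₀⁻¹) * (y₀ * (x * x₀⁻¹) * y₀⁻¹) * (y * y₀⁻¹)⁻¹ := by group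
          _ = y₀ * (x * x₀⁻¹) * y₀⁻¹ := by rw [this, mul_inv_cancel_right]
      rw [e1, e2]
      calc x * x₀⁻¹ * (x₀ * (y * y₀⁻¹) * x₀⁻¹) = (x * y) * (x₀ * y₀)⁻¹ := by group
        _ = (y * x) * (y₀ * x₀)⁻¹ := by rw [hxy.eq, hc.eq]
        _ = (y * x) * (x₀⁻¹ * y₀⁻¹) := by group
        _ = y * y₀⁻¹ * (y₀ * (x * x₀⁻¹) * y₀⁻¹) := by group
    · exact hq
  · rintro ⟨⟨a, b⟩, h1⟩ ⟨⟨c, d⟩, h2⟩ h
    simp only [Subtype.mk.injEq, Prod.mk.injEq, SemidirectProduct.ext_iff] at h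
    obtain ⟨⟨h1, hac⟩, h2, hbd⟩ := h
    rw [hac, hbd] at h1 h2
    simp only [Subtype.mk.injEq, Prod.mk.injEq]
    exact ⟨mul_right_cancel h1, mul_right_cancel h2⟩

/-- Let X be a finite group with an abelian normal subgroup V (any two elements of V commute), and let φ be the action of X ⧸ V on V induced by conjugation (well defined because V is abelian; the hypothesis hφ says that the class of x acts as conjugation by x). Then X has at most as many conjugacy classes as the semidirect product of V by X ⧸ V formed with this action: the split extension has the largest class number among extensions with the given action. -/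
theorem result {X : Type*} [Group X] [Finite X] (V : Subgroup X) [V.Normal] (hab : ∀ a ∈ V, ∀ b ∈ V, a * b = b * a) (φ : X ⧸ V →* MulAut ↥V) (hφ : ∀ (x : X) (v : ↥V), ((φ (QuotientGroup.mk x) v : ↥V) : X) = x * v * x⁻¹) : Nat.card (ConjClasses X) ≤ Nat.card (ConjClasses (SemidirectProduct ↥V (X ⧸ V) φ)) := by
  have : Finite (SemidirectProduct ↥V (X ⧸ V) φ) := .of_equiv _ SemidirectProduct.equivProd.symm
  obtain ⟨f, hf⟩ := inj_aux V hab φ hφ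
  have h1 := card_comm_eq_card_conjClasses_mul_card X
  have h2 := card_comm_eq_card_conjClasses_mul_card (SemidirectProduct ↥V (X ⧸ V) φ)
  have h3 := Nat.card_le_card_of_injective f hf
  rw [h1, h2, SemidirectProduct.card, mul_comm (Nat.card ↥V),
    ← Subgroup.card_eq_card_quotient_mul_card_subgroup] at h3
  exact Nat.le_of_mul_le_mul_right h3 Nat.card_pos

end Cfsg.Agent.S4965
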