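import Cfsg.Statements.S4967
import Mathlib

set_option autoImplicit false
open Cfsg

namespace Cfsg.Agent.S4967

section Aux

variable {F : Type*} [Field F] [Fintype F] {H : Type*} [CommGroup H] [Finite H] {V : Type*}
  [AddCommGroup V] [Module F V] [FiniteDimensional F V] (ρ : Representation F H V)

/-- The algebra generated by the operators. -/
abbrev opAlg : Subalgebra F (Module.End F V) := Algebra.adjoin F (Set.range ρ)

theorem opAlg_comm (a b : opAlg ρ) : a * b = b * a :=
  (Algebra.isMulCommutative_adjoin F (s := Set.range ρ) (by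
    rintro _ ⟨g, rfl⟩ _ ⟨h, rfl⟩
    rw [← map_mul, ← map_mul, mul_comm])).is_comm.comm a b

/-- A generator. -/
abbrev gen (h : H) : opAlg ρ := ⟨ρ h, Algebra.subset_adjoin ⟨h, rfl⟩⟩

variable {ρ} (hirr : ∀ U : Submodule F V, (∀ h : H, ∀ u ∈ U, ρ h u ∈ U) → U = ⊥ ∨ U = ⊤)

include hirr

theorem apply_injective {a : opAlg ρ} (ha : a ≠ 0) : Function.Injective (a : Module.End F V) := by
  rcases hirr (LinearMap.ker (a : Module.End F V)) (fun h u hu => by
    have hc := LinearMap.congr_fun (congrArg Subtype.val (opAlg_comm ρ a (gen ρ h))) u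
    rw [LinearMap.mem_ker] at hu ⊢
    simpa [hu] using hc) with h | h
  · exact LinearMap.ker_eq_bot.mp h
  · exact absurd (Subtype.ext (LinearMap.ker_eq_top.mp h)) ha

theorem eq_zero_or_eq_zero (a b : opAlg ρ) (h : a * b = 0) : a = 0 ∨ b = 0 := by
  by_contra hc
  push Not at hc
  obtain ⟨v, hv⟩ : ∃ v, (b : Module.End F V) v ≠ 0 := by
    by_contra hh
    push Not at hh
    exact hc.2 (Subtype.ext (LinearMap.ext hh))
  refine hv (apply_injective hirr hc.1 ?_)
  rw [map_zero]
  exact LinearMap.congr_fun (congrArg Subtype.val h) v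

theorem eval_bijective {x0 : V} (hx0 : x0 ≠ 0) :
    Function.Bijective fun a : opAlg ρ => (a : Module.End F V) x0 := by
  let e : opAlg ρ →ₗ[F] V :=
    (LinearMap.applyₗ x0).comp (opAlg ρ).val.toLinearMap
  have hinj : Function.Injective e := (injective_iff_map_eq_zero e).mpr fun a ha => by
    by_contra hne
    exact hx0 (apply_injective hirr hne (by rw [map_zero]; exact ha))
  refine ⟨hinj, ?_⟩
  rcases hirr (LinearMap.range e) (fun h u hu => by
    obtain ⟨a, rfl⟩ := hu
    exact ⟨gen ρ h * a, rfl⟩) with h | h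
  · exact absurd ((Submodule.mem_bot F).mp (h ▸ ⟨1, rfl⟩ : x0 ∈ (⊥ : Submodule F V))) hx0
  · exact LinearMap.range_eq_top.mp h

omit hirr in
/-- The adjoint of an element of the algebra for an invariant form. -/
theorem exists_adjoint {B : LinearMap.BilinForm F V}
    (hinv : ∀ h : H, ∀ x y : V, B (ρ h x) (ρ h y) = B x y) (a : opAlg ρ) :
    ∃ b : opAlg ρ, ∀ x y, B ((a : Module.End F V) x) y = B x ((b : Module.End F V) y) := by
  obtain ⟨a, ha⟩ := a
  induction ha using Algebra.adjoin_induction with
  | mem x hx =>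
    obtain ⟨h, rfl⟩ := hx
    refine ⟨gen ρ h⁻¹, fun x y => ?_⟩
    show B (ρ h x) y = B x (ρ h⁻¹ y)
    rw [← hinv h x (ρ h⁻¹ y), ← Module.End.mul_apply, ← map_mul, mul_inv_cancel, map_one,
      Module.End.one_apply]
  | algebraMap r => exact ⟨algebraMap F _ r, fun x y => by simp [Algebra.algebraMap_eq_smul_one]⟩
  | add a b _ _ iha ihb =>
    obtain ⟨a', ha'⟩ := iha
    obtain ⟨b', hb'⟩ := ihb
    exact ⟨a' + b', fun x y => by simp [ha', hb']⟩
  | mul a b _ _ iha ihb =>
    obtain ⟨a', ha'⟩ := iha
    obtain ⟨b', hb'⟩ := ihb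
    exact ⟨b' * a', fun x y => by simp [ha', hb']⟩

/-- Self-duality of an irreducible module for an abelian group. -/
theorem selfdual_iff (hfaith : Function.Injective ρ) :
    ((Module.finrank F V = 1 → (∃ B : LinearMap.BilinForm F V, B.Nondegenerate ∧
        ∀ h : H, ∀ x y : V, B (ρ h x) (ρ h y) = B x y) → Nat.card H ≤ 2) ∧
      (2 ≤ Module.finrank F V → ((∃ B : LinearMap.BilinForm F V, B.Nondegenerate ∧
        ∀ h : H, ∀ x y : V, B (ρ h x) (ρ h y) = B x y) ↔ (Even (Module.finrank F V) ∧
          Nat.card H ∣ Fintype.card F ^ (Module.finrank F V / 2) + 1)))) := by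
  classical
  rcases Nat.eq_zero_or_pos (Module.finrank F V) with h0 | hpos
  · rw [h0]; exact ⟨by omega, by omega⟩
  have : Nontrivial V := Module.finrank_pos_iff.mp hpos
  obtain ⟨x0, hx0⟩ := exists_ne (0 : V)
  have : Finite V := Module.finite_of_finite F
  have : Finite (Module.End F V) := Finite.of_injective _ DFunLike.coe_injective
  let A := opAlg ρ
  let CR : CommRing A := { (inferInstance : Ring A) with mul_comm := opAlg_comm ρ }
  letI := CR
  have : NoZeroDivisors A := ⟨fun {a b} h => eq_zero_or_eq_zero hirr a b h⟩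
  have : Nontrivial A := ⟨⟨0, 1, fun h => hx0 (LinearMap.congr_fun (congrArg Subtype.val h) x0).symm⟩⟩
  have : IsDomain A := NoZeroDivisors.to_isDomain A
  have : Fintype A := Fintype.ofFinite A
  letI : Field A := Fintype.fieldOfDomain A
  letI : Algebra F A := Subalgebra.algebra (opAlg ρ)
  have hbij := eval_bijective hirr hx0
  let e : A ≃ₗ[F] V := LinearEquiv.ofBijective
    ((LinearMap.applyₗ x0).comp (opAlg ρ).val.toLinearMap) hbij
  have hdim : Module.finrank F A = Module.finrank F V := e.finrank_eq
  let g : H →* A :=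
    { toFun := gen ρ
      map_one' := Subtype.ext (map_one ρ)
      map_mul' := fun a b => Subtype.ext (map_mul ρ a b) }
  have hg : Function.Injective g := fun a b h => hfaith (congrArg Subtype.val h)
  have hcyc : IsCyclic H := isCyclic_of_subgroup_isDomain g hg
  have hcard : ∀ k : ℕ, (∀ h : H, h ^ k = 1) → Nat.card H ∣ k := fun k hk => by
    obtain ⟨z, hz⟩ := hcyc.exists_ofOrder_eq_natCard
    exact hz ▸ orderOf_dvd_of_pow_eq_one (hk z)
  -- the adjoint is a Frobenius power
  have key : (∃ B : LinearMap.BilinForm F V, B.Nondegenerate ∧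
      ∀ h : H, ∀ x y : V, B (ρ h x) (ρ h y) = B x y) →
      ∃ i < Module.finrank F V, Module.finrank F V ∣ 2 * i ∧
        ∀ h : H, g h⁻¹ = g h ^ Fintype.card F ^ i := by
    rintro ⟨B, hB, hinv⟩
    choose f hf using exists_adjoint (ρ := ρ) hinv
    have huniq : ∀ a b : A, (∀ x y, B ((a : Module.End F V) x) y = B x ((b : Module.End F V) y)) →
        f a = b := fun a b h => Subtype.ext (LinearMap.ext fun y => sub_eq_zero.mp
          (hB.2 _ fun x => by rw [map_sub, ← hf, h, sub_self]))
    let f' : A →ₐ[F] A :=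
      { toFun := f
        map_one' := huniq 1 1 fun x y => rfl
        map_mul' := fun a b => huniq _ _ fun x y => by
          rw [show a * b = b * a from mul_comm a b]
          show B ((b : Module.End F V) ((a : Module.End F V) x)) y = _
          rw [hf b, hf a]
          rfl
        map_zero' := huniq 0 0 fun x y => by simp
        map_add' := fun a b => huniq _ _ fun x y => by simp [hf]
        commutes' := fun r => huniq _ _ fun x y => by simp [Algebra.algebraMap_eq_smul_one] }
    have hfg : ∀ h : H, f' (g h) = g h⁻¹ := fun h => huniq _ _ fun x y => by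
      show B (ρ h x) y = B x (ρ h⁻¹ y)
      rw [← hinv h x (ρ h⁻¹ y), ← Module.End.mul_apply, ← map_mul, mul_inv_cancel, map_one,
        Module.End.one_apply]
    obtain ⟨⟨i, hi⟩, hfi⟩ := (FiniteField.bijective_frobeniusAlgHom_pow F A).2 f'
    have happ : ∀ (a : A) (j : ℕ), (FiniteField.frobeniusAlgHom F A ^ j) a =
        a ^ Fintype.card F ^ j := fun a j => by
      rw [AlgHom.coe_pow, FiniteField.coe_frobeniusAlgHom, pow_iterate]
    have hf2 : f'.comp f' = AlgHom.id F A := AlgHom.adjoin_ext fun x hx => by
      obtain ⟨h, rfl⟩ := hx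
      show f' (f' (g h)) = g h
      rw [hfg, hfg, inv_inv]
    refine ⟨i, hdim ▸ hi, ?_, fun h => ?_⟩
    · rw [← hdim, ← FiniteField.orderOf_frobeniusAlgHom F A]
      refine orderOf_dvd_of_pow_eq_one ?_
      rw [two_mul, pow_add]
      simp only at hfi
      rw [hfi]
      exact hf2
    · rw [← hfg, ← hfi]
      exact happ _ _
  refine ⟨fun h1 hex => ?_, fun h2 => ⟨fun hex => ?_, fun ⟨hev, hdvd⟩ => ?_⟩⟩
  · obtain ⟨i, hi, -, hgi⟩ := key hex
    obtain rfl : i = 0 := by omega
    refine Nat.le_of_dvd two_pos (hcard 2 fun h => hg ?_)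
    have := hgi h
    rw [pow_zero, pow_one] at this
    rw [pow_two, map_mul]
    conv_lhs => arg 1; rw [← this]
    rw [← map_mul, inv_mul_cancel]
  · obtain ⟨i, hi, hdvd, hgi⟩ := key hex
    rcases Nat.eq_zero_or_pos i with hi0 | hi0
    · exfalso
      subst hi0
      have hsc : ∀ h : H, gen ρ h = 1 ∨ gen ρ h = -1 := fun h => by
        have h3 := hgi h
        rw [pow_zero, pow_one] at h3
        refine mul_self_eq_one_iff.mp ?_
        show g h * g h = 1
        conv_lhs => arg 1; rw [← h3]
        rw [← map_mul, inv_mul_cancel, map_one]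
      have htop : ∀ a : A, ∃ r : F, algebraMap F A r = a := by
        rintro ⟨a, ha⟩
        induction ha using Algebra.adjoin_induction with
        | mem x hx =>
          obtain ⟨h, rfl⟩ := hx
          rcases hsc h with e | e
          · exact ⟨1, by rw [map_one]; exact e.symm⟩
          · exact ⟨-1, by rw [map_neg, map_one]; exact e.symm⟩
        | algebraMap r => exact ⟨r, rfl⟩
        | add a b _ _ iha ihb =>
          obtain ⟨r, hr⟩ := iha
          obtain ⟨s, hs⟩ := ihb
          exact ⟨r + s, by rw [map_add, hr, hs]; rfl⟩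
        | mul a b _ _ iha ihb =>
          obtain ⟨r, hr⟩ := iha
          obtain ⟨s, hs⟩ := ihb
          exact ⟨r * s, by rw [map_mul, hr, hs]; rfl⟩
      have hle := LinearMap.finrank_le_finrank_of_injective
        (f := e.symm.toLinearMap) e.symm.injective
      have h4 : Module.finrank F A ≤ 1 := finrank_le_one (1 : A) fun a => by
        obtain ⟨r, hr⟩ := htop a
        exact ⟨r, by rw [← hr, Algebra.algebraMap_eq_smul_one]⟩
      omega
    · obtain ⟨m, hm⟩ : Even (Module.finrank F V) ∧ 2 * i = Module.finrank F V := by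
        obtain ⟨t, ht⟩ := hdvd
        rcases t with _ | _ | t
        · omega
        · exact ⟨⟨i, by omega⟩, by omega⟩
        · exfalso
          have : Module.finrank F V * 2 ≤ Module.finrank F V * (t + 1 + 1) :=
            Nat.mul_le_mul_left _ (by omega)
          omega
      refine ⟨m, ?_⟩
      rw [show Module.finrank F V / 2 = i by omega]
      refine hcard _ fun h => hg ?_
      rw [map_pow, pow_succ, ← hgi h, ← map_mul, inv_mul_cancel]
  · obtain ⟨m, hm⟩ := hev
    set q := Fintype.card F
    let τ : A →ₐ[F] A := FiniteField.frobeniusAlgHom F A ^ m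
    have hτ : ∀ a : A, τ a = a ^ q ^ m := fun a => by
      show (FiniteField.frobeniusAlgHom F A ^ m) a = _
      rw [AlgHom.coe_pow, FiniteField.coe_frobeniusAlgHom, pow_iterate]
    obtain ⟨l, hl⟩ := exists_ne (0 : Module.Dual F A)
    obtain ⟨a0, ha0⟩ : ∃ a0, l a0 ≠ 0 := by
      by_contra hh
      push Not at hh
      exact hl (LinearMap.ext hh)
    let Bf : LinearMap.BilinForm F V :=
      ((LinearMap.mul F A).compl₁₂ e.symm.toLinearMap (τ.toLinearMap.comp e.symm.toLinearMap)).compr₂ l
    have hBf : ∀ x y, Bf x y = l (e.symm x * τ (e.symm y)) := fun x y => rfl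
    refine ⟨Bf, ⟨fun x hx => ?_, fun y hy => ?_⟩, fun h x y => ?_⟩
    · by_contra hne
      have hxne : e.symm x ≠ 0 := fun h => hne (by simpa using congrArg e h)
      obtain ⟨b, hb⟩ := τ.toRingHom.injective |> fun hi =>
        (Finite.injective_iff_surjective.mp hi) ((e.symm x)⁻¹ * a0)
      have h1 := hx (e b)
      rw [hBf, e.symm_apply_apply] at h1
      refine ha0 ?_
      rwa [show τ b = (e.symm x)⁻¹ * a0 from hb, mul_inv_cancel_left₀ hxne] at h1
    · by_contra hne
      have hyne : τ (e.symm y) ≠ 0 := fun h => hne (by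
        have h' : e.symm y = 0 := τ.toRingHom.injective (h.trans (map_zero τ).symm)
        simpa using congrArg e h')
      have h1 := hy (e (a0 * (τ (e.symm y))⁻¹))
      rw [hBf, e.symm_apply_apply, inv_mul_cancel_right₀ hyne] at h1
      exact ha0 h1
    · have he : ∀ z, e.symm (ρ h z) = g h * e.symm z := fun z => by
        rw [e.symm_apply_eq]
        show ρ h z = ρ h ((e.symm z : Module.End F V) x0)
        exact congrArg _ (e.apply_symm_apply z).symm
      rw [hBf, hBf, he, he, map_mul τ, mul_mul_mul_comm, hτ (g h), ← pow_succ', ← map_pow,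
        orderOf_dvd_iff_pow_eq_one.mp ((orderOf_dvd_natCard h).trans
          (show Nat.card H ∣ q ^ m + 1 by
            rwa [show Module.finrank F V / 2 = m by omega] at hdvd)), map_one, one_mul]

end Aux

/-- Let F be a finite field with r elements and of characteristic p, H a finite abelian group of order prime to p, and V a faithful irreducible representation of H over F of dimension n (faithful: distinct elements act differently; irreducible: the only H-invariant subspaces are 0 and V). Call V self-dual when it carries a nondegenerate H-invariant bilinear form. If n = 1 and V is self-dual then H has order at most 2. If n ≥ 2 then V is self-dual if and only if n is even and the order of H divides r^(n/2) + 1. -/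
theorem result {F : Type*} [Field F] [Fintype F] (p : ℕ) [Fact p.Prime] [CharP F p] {H : Type*} [CommGroup H] [Finite H] (hcop : ¬ p ∣ Nat.card H) {V : Type*} [AddCommGroup V] [Module F V] [FiniteDimensional F V] (ρ : Representation F H V) (hfaith : Function.Injective ρ) (hirr : ∀ U : Submodule F V, (∀ h : H, ∀ u ∈ U, ρ h u ∈ U) → U = ⊥ ∨ U = ⊤) : (Module.finrank F V = 1 → (∃ B : LinearMap.BilinForm F V, B.Nondegenerate ∧ ∀ h : H, ∀ x y : V, B (ρ h x) (ρ h y) = B x y) → Nat.card H ≤ 2) ∧ (2 ≤ Module.finrank F V → ((∃ B : LinearMap.BilinForm F V, B.Nondegenerate ∧ ∀ h : H, ∀ x y : V, B (ρ h x) (ρ h y) = B x y) ↔ (Even (Module.finrank F V) ∧ Nat.card H ∣ Fintype.card F ^ (Module.finrank F V / 2) + 1))) := by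
  exact selfdual_iff hirr hfaith

end Cfsg.Agent.S4967
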