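import Cfsg.Statements.S5252
import Cfsg.Agent.Lib.Fusion.FunctorPAut
import Cfsg.Agent.Lib.Techniques.KInfControl

set_option autoImplicit false
open Cfsg Cfsg.FusionSystem CfsgLib.Fusion

namespace Cfsg.Agent.S5252

/-- Let p ≥ 5 be a prime and F a saturated fusion system over a nontrivial finite p-group S such that Aut_F(S) is a p-group. Then the focal subgroup of F is a proper subgroup of S. -/
theorem result {Ω : Type*} [Group Ω] {S : Subgroup Ω} [Finite S] (p : ℕ) [Fact p.Prime] (hS : IsPGroup p S) (F : Cfsg.FusionSystem S) (hF : F.IsSaturated p) (hp : 5 ≤ p) (hS1 : S ≠ ⊥) (haut : IsPGroup p ↥(F.autGroup S)) : F.focalSubgroup < S := by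
  obtain ⟨hW1, hW2⟩ :=
    (CfsgLib.Techniques.KInfControl.isKInf_lower.{_} (p := p)).functor
  refine CfsgLib.Fusion.focalSubgroup_lt_of_functor Cfsg.kInfLower hW1 hW2 (fun G _ _ P _ => ?_) F hS hF hS1 haut
  have hW : CfsgLib.Techniques.KInfControl.IsKInf Cfsg.kInfLower p :=
    CfsgLib.Techniques.KInfControl.isKInf_lower
  have h := CfsgLib.Techniques.KInfControl.tgtOK hW hp G G (CfsgLib.Techniques.Functor.IsSect.refl G) P
  rw [CfsgLib.Techniques.Functor.tgt_singleton] at h
  have hOP : Cfsg.pCore p G ≤ (P : Subgroup G) := CfsgLib.Cores.pCore_le_sylow P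
  rw [commutator_def, commutator_def, Subgroup.map_commutator, ← MonoidHom.range_eq_map,
    Subgroup.range_subtype]
  exact le_antisymm (le_inf inf_le_left ((inf_le_inf_right _ hOP).trans (h.trans inf_le_right)))
    (inf_le_inf_left _ (Subgroup.commutator_mono le_top le_top))

end Cfsg.Agent.S5252
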