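import Cfsg.Statements.S4978
import Cfsg.Agent.Lib.Star.Action
import Cfsg.Agent.Lib.Blocks.BlockDim
import Cfsg.Agent.Lib.BrauerPairs.Stable
import Cfsg.Agent.S5252

set_option autoImplicit false
open Cfsg

namespace Cfsg.Agent.S4978

open CfsgLib.Blocks CfsgLib.BrauerPairs in
/-- The squares of the `p'`-parts of the degrees of height zero sum to a multiple of `p ^ min d 2`. -/
theorem dvd_sum_sq_ordCompl {G : Type*} [Group G] [Fintype G] {p : ℕ} [Fact p.Prime] {M : Ideal AlgInt}
    [M.IsMaximal] (hM : IsPModular p M) {B : Set (IrrCharacter G)} (hB : IsPBlock M B) (k : ℕ)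
    (hk : k ≤ blockDefect p B) (hk2 : k ≤ 2) [Fintype {χ : IrrCharacter G // χ ∈ B ∧ blockHeight p B (χ : G → ℂ) = 0}] :
    p ^ k ∣ ∑ χ : {χ : IrrCharacter G // χ ∈ B ∧ blockHeight p B (χ : G → ℂ) = 0},
      (ordCompl[p] (charDegree (χ.1 : G → ℂ))) ^ 2 := by
  classical
  have hpp : p.Prime := Fact.out
  obtain ⟨hval, hne⟩ := exists_sum_sq hM hB
  set a := (Nat.card G).factorization p with ha
  set d := blockDefect p B with hd
  have hda : d ≤ a := Nat.sub_le _ _
  set T := ∑ᶠ χ ∈ B, p ^ (2 * blockHeight p B (χ : G → ℂ)) * (ordCompl[p] (charDegree (χ : G → ℂ))) ^ 2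
    with hT
  have hS : (∑ᶠ χ ∈ B, charDegree (χ : G → ℂ) ^ 2) = p ^ (2 * (a - d)) * T := by
    rw [hT, finsum_mem_eq_toFinset_sum, finsum_mem_eq_toFinset_sum, Finset.mul_sum]
    refine Finset.sum_congr rfl fun χ hχ => ?_
    have hdeg := degree_height hM hB (Set.mem_toFinset.1 hχ)
    conv_lhs => rw [← Nat.ordProj_mul_ordCompl_eq_self (charDegree (χ : G → ℂ)) p]
    rw [mul_pow, ← mul_assoc, ← pow_mul, ← pow_add]
    congr 2
    omega
  have hdvd : p ^ d ∣ T := by
    have h1 := Nat.ordProj_dvd (∑ᶠ χ ∈ B, charDegree (χ : G → ℂ) ^ 2) p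
    rw [hval, hS, show 2 * a - d = 2 * (a - d) + d by omega, pow_add] at h1
    exact Nat.dvd_of_mul_dvd_mul_left (pow_pos hpp.pos _) h1
  have hdvd' : p ^ k ∣ T := (pow_dvd_pow p hk).trans hdvd
  rw [hT, finsum_mem_eq_toFinset_sum, ← Finset.sum_filter_add_sum_filter_not B.toFinset
    (fun χ : IrrCharacter G => blockHeight p B (χ : G → ℂ) = 0)] at hdvd'
  have hrest : p ^ k ∣ ∑ χ ∈ B.toFinset.filter (fun χ : IrrCharacter G => ¬ blockHeight p B (χ : G → ℂ) = 0),
      p ^ (2 * blockHeight p B (χ : G → ℂ)) * (ordCompl[p] (charDegree (χ : G → ℂ))) ^ 2 := by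
    refine Finset.dvd_sum fun χ hχ => Dvd.dvd.mul_right (pow_dvd_pow p ?_) _
    have := (Finset.mem_filter.1 hχ).2
    omega
  have h0 := (Nat.dvd_add_left hrest).1 hdvd'
  refine h0.trans (dvd_of_eq ?_)
  rw [Finset.sum_subtype (p := fun χ : IrrCharacter G => χ ∈ B ∧ blockHeight p B (χ : G → ℂ) = 0)
    (B.toFinset.filter (fun χ : IrrCharacter G => blockHeight p B (χ : G → ℂ) = 0)) (fun χ => by simp)]
  refine Finset.sum_congr rfl fun χ _ => ?_
  rw [χ.2.2, Nat.mul_zero, pow_zero, one_mul]

/-- A free action of a group of order `p` and a weight constant on its orbits. -/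
theorem exists_orbit_weights {L X : Type*} [Group L] [Finite L] [MulAction L X] [Fintype X] {p : ℕ}
    (hL : Nat.card L = p) (hfree : ∀ x : X, MulAction.stabilizer L x = ⊥) (f : X → ℕ)
    (hf : ∀ (l : L) (x : X), f (l • x) = f x) :
    ∃ (m : ℕ) (w : Fin m → X), Fintype.card X = p * m ∧ ∑ x, f x = p * ∑ i, f (w i) := by
  classical
  let Q := MulAction.orbitRel.Quotient L X
  have : Fintype Q := Fintype.ofFinite Q
  let π : X → Q := Quotient.mk _
  have hfib : ∀ q : Q, (Finset.univ.filter fun x => π x = q).card = p ∧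
      ∀ x ∈ Finset.univ.filter (fun x => π x = q), f x = f q.out := by
    intro q
    have hmem : ∀ x, π x = q ↔ x ∈ MulAction.orbit L q.out := fun x => by
      rw [← MulAction.orbitRel_apply]
      constructor
      · intro h
        exact Quotient.exact (h.trans q.out_eq.symm)
      · intro h
        exact (Quotient.sound h).trans q.out_eq
    refine ⟨?_, fun x hx => ?_⟩
    · rw [← Fintype.card_subtype, ← Nat.card_eq_fintype_card,
        Nat.card_congr (Equiv.subtypeEquivRight hmem), Nat.card_congr (MulAction.orbitEquivQuotientStabilizer L q.out)]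
      show (MulAction.stabilizer L q.out).index = p
      rw [hfree, Subgroup.index_bot, hL]
    · obtain ⟨l, hl⟩ := (hmem x).1 (Finset.mem_filter.1 hx).2
      rw [← hl]
      exact hf l _
  let e := (Fintype.equivFin Q).symm
  refine ⟨Fintype.card Q, fun i => (e i).out, ?_, ?_⟩
  · rw [← Finset.card_univ, Finset.card_eq_sum_card_fiberwise (f := π) (t := Finset.univ)
      (fun x _ => Finset.mem_univ _), Finset.sum_congr rfl fun q _ => (hfib q).1, Finset.sum_const,
      smul_eq_mul, Finset.card_univ, mul_comm]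
  · rw [← Finset.sum_fiberwise Finset.univ π f, Finset.mul_sum]
    refine ((Equiv.sum_comp e fun q : Q => p * f q.out).trans (Finset.sum_congr rfl fun q _ => ?_)).symm
    rw [Finset.sum_congr rfl (hfib q).2, Finset.sum_const, (hfib q).1, smul_eq_mul]

open CfsgLib.Blocks CfsgLib.BrauerPairs CfsgLib.Star in
/-- For `p ≥ 5` a linear character of order `p` permutes the height-zero characters freely. -/
theorem exists_weights {G : Type*} [Group G] [Fintype G] {p : ℕ} [Fact p.Prime] {M : Ideal AlgInt}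
    [M.IsMaximal] (hM : IsPModular p M) {B : Set (IrrCharacter G)} (hB : IsPBlock M B) {D : Subgroup G}
    (hD : IsDefectGroup p M B D) (hD1 : D ≠ ⊥) (hAut : IsPGroup p (MulAut ↥D)) (hp : 5 ≤ p) :
    ∃ (m : ℕ) (w : Fin m → IrrCharacter G),
      Nat.card {χ : IrrCharacter G // χ ∈ B ∧ blockHeight p B (χ : G → ℂ) = 0} = p * m ∧
      p ∣ ∑ i, (ordCompl[p] (charDegree (w i : G → ℂ))) ^ 2 := by
  classical
  have hpp : p.Prime := Fact.out
  have hDp := IsDefectGroup.isPGroup hD
  obtain ⟨e, hmax⟩ := exists_maximal_at hM hB hD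
  set F := blockFusion hM hmax
  have hF := blockFusion_spec hM hmax
  have hfoc : F.focalSubgroup < D :=
    Cfsg.Agent.S5252.result p hDp F (isSaturated_block hM hF) hp hD1 (hAut.to_subgroup _)
  set K := killing (F.focalSubgroup.subgroupOf D)
  have hK : Nat.card K = (F.focalSubgroup.subgroupOf D).index := card_killing _ (commutator_le_focal F)
  obtain ⟨k, hk⟩ := hDp.index (F.focalSubgroup.subgroupOf D)
  have hk0 : k ≠ 0 := fun h => by
    rw [h, pow_zero, Subgroup.index_eq_one, Subgroup.subgroupOf_eq_top] at hk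
    exact hfoc.not_ge hk
  have : Finite K := Nat.finite_of_card_ne_zero (by rw [hK, hk]; exact (pow_pos hpp.pos k).ne')
  obtain ⟨l, hl⟩ := exists_prime_orderOf_dvd_card' (G := K) p (by rw [hK, hk]; exact dvd_pow_self p hk0)
  let L : Subgroup K := Subgroup.zpowers l
  have hLc : Nat.card L = p := by rw [← hl]; exact Nat.card_zpowers l
  have hT : ∀ v : L, Twist M p B D e ((v : K) : D →* ℂˣ) := fun v => twist_of_killing hM hF (v : K).2
  let X := {χ : IrrCharacter G // χ ∈ B ∧ blockHeight p B (χ : G → ℂ) = 0}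
  have hex : ∀ (v : L) (χ : X), ∃ η : X, star M p B D e ((v : K) : D →* ℂˣ) χ.1 = (η.1 : G → ℂ) ∧
      charDegree (η.1 : G → ℂ) = charDegree (χ.1 : G → ℂ) := by
    intro v χ
    obtain ⟨η, hη, heq⟩ := (hT v).exists_irr χ.2.1
    have hdeg : charDegree (η : G → ℂ) = charDegree (χ.1 : G → ℂ) := by
      have h1 : (charDegree (η : G → ℂ) : ℂ) = (charDegree (χ.1 : G → ℂ) : ℂ) := by
        rw [CfsgLib.CharBlocks.coe_charDegree_irr, CfsgLib.CharBlocks.coe_charDegree_irr, ← heq,
          (hT v).star_apply_one χ.2.1]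
      exact_mod_cast h1
    refine ⟨⟨η, hη, ?_⟩, heq, hdeg⟩
    rw [← χ.2.2, blockHeight, blockHeight, hdeg]
  choose f hf hfd using hex
  letI : MulAction L X :=
    { smul := f
      one_smul := fun χ => Subtype.ext (Subtype.ext ((hf 1 χ).symm.trans (star_one (hT 1) χ.2.1)))
      mul_smul := fun a b χ => Subtype.ext (Subtype.ext (((hf (a * b) χ).symm.trans
        ((hT b).star_star (hf b χ)).symm).trans (hf a (f b χ)))) }
  have : Fintype X := Fintype.ofFinite X
  have hfree : ∀ χ : X, MulAction.stabilizer L χ = ⊥ := fun χ => (Subgroup.eq_bot_iff_forall _).2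
    fun v hv => Subtype.ext (Subtype.ext ((hT v).eq_one_of_fixed χ.2.1 χ.2.2
      ((hf v χ).trans (congrArg (fun η : X => (η.1 : G → ℂ)) hv))))
  obtain ⟨m, w, hcard, hsum⟩ := exists_orbit_weights hLc hfree
    (fun χ : X => (ordCompl[p] (charDegree (χ.1 : G → ℂ))) ^ 2)
    (fun v χ => by show (ordCompl[p] (charDegree ((f v χ).1 : G → ℂ))) ^ 2 = _; rw [hfd])
  refine ⟨m, fun i => (w i).1, by rw [← hcard, Nat.card_eq_fintype_card], ?_⟩
  have hd2 : 2 ≤ blockDefect p B := by
    by_contra hlt
    have hc := card_defectGroup hM hB hD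
    interval_cases h : blockDefect p B
    · exact hD1 (Subgroup.card_eq_one.1 (by rw [hc, pow_zero]))
    · rw [pow_one] at hc
      have := isCyclic_of_prime_card hc
      obtain ⟨j, hj⟩ := IsPGroup.iff_card.1 hAut
      rw [IsCyclic.card_mulAut, hc, Nat.totient_prime hpp] at hj
      rcases Nat.eq_zero_or_pos j with rfl | hj0
      · rw [pow_zero] at hj; omega
      · have h1 : p ∣ p - 1 := hj ▸ dvd_pow_self p hj0.ne'
        have := Nat.le_of_dvd (by omega) h1
        omega
  have h2 := dvd_sum_sq_ordCompl hM hB 2 hd2 le_rfl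
  rw [hsum, pow_two] at h2
  exact Nat.dvd_of_mul_dvd_mul_left hpp.pos h2

/-- The `p'`-part of a degree is a unit modulo `p`. -/
theorem ordCompl_ne_zero {G : Type*} [Group G] [Fintype G] {p : ℕ} [Fact p.Prime] (χ : IrrCharacter G) :
    ((ordCompl[p] (charDegree (χ : G → ℂ)) : ℕ) : ZMod p) ≠ 0 := fun h => by
  rw [ZMod.natCast_eq_zero_iff] at h
  refine Nat.not_dvd_ordCompl Fact.out (fun h0 => ?_) h
  have h1 := CfsgLib.CharBlocks.coe_charDegree_irr χ
  rw [h0, Nat.cast_zero] at h1
  exact CfsgLib.Char.irr_one_ne_zero χ.2 h1.symm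

/-- Let p be a prime and B a p-block of the finite group G (relative to a maximal ideal M of the algebraic integers containing p) with a nontrivial defect group D whose automorphism group is a p-group (for a p-group D this is the same as its outer automorphism group being a p-group). Then the number of irreducible characters of height zero in B is divisible by p; if p > 3 this number is at least 2p, and if moreover p ≡ 3 (mod 4) it is at least 3p. -/
theorem result {G : Type*} [Group G] [Finite G] (p : ℕ) [Fact p.Prime] (M : Ideal Cfsg.AlgInt) (hM : Cfsg.IsPModular p M) (B : Set (Cfsg.IrrCharacter G)) (hB : Cfsg.IsPBlock M B) (D : Subgroup G) (hD : Cfsg.IsDefectGroup p M B D) (hD1 : D ≠ ⊥) (hAut : IsPGroup p (MulAut ↥D)) : p ∣ Nat.card {χ : Cfsg.IrrCharacter G // χ ∈ B ∧ Cfsg.blockHeight p B (χ : G → ℂ) = 0} ∧ (3 < p → 2 * p ≤ Nat.card {χ : Cfsg.IrrCharacter G // χ ∈ B ∧ Cfsg.blockHeight p B (χ : G → ℂ) = 0}) ∧ (3 < p → p % 4 = 3 → 3 * p ≤ Nat.card {χ : Cfsg.IrrCharacter G // χ ∈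 B ∧ Cfsg.blockHeight p B (χ : G → ℂ) = 0}) := by
  classical
  have := Fintype.ofFinite G
  have : M.IsMaximal := hM.2.1
  have hpp : p.Prime := Fact.out
  set X := {χ : Cfsg.IrrCharacter G // χ ∈ B ∧ Cfsg.blockHeight p B (χ : G → ℂ) = 0}
  by_cases hp5 : 5 ≤ p
  · obtain ⟨m, w, hcard, hdvd⟩ := exists_weights hM hB hD hD1 hAut hp5
    obtain ⟨χ₀, hχ₀, hh₀⟩ := CfsgLib.Blocks.exists_height_zero hM hB
    have hm0 : m ≠ 0 := fun h => by
      rw [h, Nat.mul_zero] at hcard
      exact (Nat.card_pos_iff.2 ⟨⟨⟨χ₀, hχ₀, hh₀⟩⟩, inferInstance⟩).ne' hcard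
    have hz : ∑ i, ((ordCompl[p] (Cfsg.charDegree (w i : G → ℂ)) : ℕ) : ZMod p) ^ 2 = 0 := by
      have := (ZMod.natCast_eq_zero_iff _ p).2 hdvd
      simpa using this
    have hm1 : m ≠ 1 := by
      rintro rfl
      rw [Fin.sum_univ_one] at hz
      exact ordCompl_ne_zero (w 0) (eq_zero_of_pow_eq_zero hz)
    refine ⟨Dvd.intro m hcard.symm, fun _ => ?_, fun _ h4 => ?_⟩
    · rw [hcard, mul_comm 2 p]
      exact Nat.mul_le_mul_left p (by omega)
    · rw [hcard, mul_comm 3 p]
      refine Nat.mul_le_mul_left p ?_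
      by_contra hlt
      obtain rfl : m = 2 := by omega
      rw [Fin.sum_univ_two] at hz
      set a : ZMod p := ((ordCompl[p] (Cfsg.charDegree (w 0 : G → ℂ)) : ℕ) : ZMod p)
      set b : ZMod p := ((ordCompl[p] (Cfsg.charDegree (w 1 : G → ℂ)) : ℕ) : ZMod p)
      have hb : b ≠ 0 := ordCompl_ne_zero (w 1)
      refine ZMod.mod_four_ne_three_of_sq_eq_neg_one (y := a / b) ?_ h4
      rw [div_pow, div_eq_iff (pow_ne_zero 2 hb)]
      linear_combination hz
  · refine ⟨?_, fun h => absurd h ?_, fun h => absurd h ?_⟩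
    · have : Fintype X := Fintype.ofFinite X
      have hd1 : 1 ≤ Cfsg.blockDefect p B := by
        by_contra hlt
        obtain h0 : Cfsg.blockDefect p B = 0 := by omega
        exact hD1 (Subgroup.card_eq_one.1 (by
          rw [CfsgLib.Blocks.card_defectGroup hM hB hD, h0, pow_zero]))
      have h := dvd_sum_sq_ordCompl hM hB 1 hd1 (by norm_num)
      rw [pow_one, ← ZMod.natCast_eq_zero_iff, Nat.cast_sum] at h
      rw [Nat.card_eq_fintype_card, ← ZMod.natCast_eq_zero_iff]
      refine Eq.trans ?_ h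
      rw [Finset.sum_congr rfl fun (χ : X) _ => show
        ((((ordCompl[p] (Cfsg.charDegree (χ.1 : G → ℂ))) ^ 2 : ℕ)) : ZMod p) = 1 from ?_]
      · rw [Finset.sum_const, Finset.card_univ, nsmul_eq_mul, mul_one]
      · have hx := ordCompl_ne_zero (p := p) χ.1
        have h1 := ZMod.pow_card_sub_one_eq_one hx
        have hp23 : p = 2 ∨ p = 3 := by
          rcases lt_or_ge p 4 with h4 | h4
          · have := hpp.two_le; omega
          · obtain rfl : p = 4 := by omega
            norm_num at hpp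
        rw [Nat.cast_pow]
        rcases hp23 with rfl | rfl
        · norm_num at h1 ⊢
          simp [h1]
        · simpa using h1
    · intro; exact hp5 (by
        rcases Nat.eq_or_lt_of_le (show 4 ≤ p by omega) with h4 | h4
        · subst h4; norm_num at hpp
        · omega)
    · intro; exact hp5 (by
        rcases Nat.eq_or_lt_of_le (show 4 ≤ p by omega) with h4 | h4
        · subst h4; norm_num at hpp
        · omega)

end Cfsg.Agent.S4978
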