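import Cfsg.Statements.S4989
import Cfsg.Agent.Lib.CharBlocks.AMGM
import Mathlib

set_option autoImplicit false
open Cfsg

namespace Cfsg.Agent.S4989

open CfsgLib.Char CfsgLib.CharBlocks

/-- Let H be a subgroup of the finite group G and χ an irreducible complex character of G. Then the inner product of the restriction of χ to H with itself, (1/#H)·Σ_{h ∈ H} |χ(h)|², is at most 1 + #(Z ∖ H)/#H, where Z is the set of zeros of χ in G. -/
theorem result {G : Type*} [Group G] [Finite G] (H : Subgroup G) (χ : Cfsg.IrrCharacter G) : (Nat.card ↥H : ℝ)⁻¹ * ∑ᶠ h : ↥H, ‖(χ : G → ℂ) h‖ ^ 2 ≤ 1 + (Set.ncard ({x : G | (χ : G → ℂ) x = 0} \ (H : Set G)) : ℝ) / (Nat.card ↥H : ℝ) := by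
  classical
  have := Fintype.ofFinite G
  have := Fintype.ofFinite H
  rw [finsum_eq_sum_of_fintype, inv_mul_le_iff₀ (Nat.cast_pos.mpr Nat.card_pos), mul_add, mul_one,
    mul_div_cancel₀ _ (by exact_mod_cast Nat.card_pos.ne')]
  have htot : ∑ g : G, Complex.normSq ((χ : G → ℂ) g) = Nat.card G := by
    have h := card_mul_classInner (χ : G → ℂ) (χ : G → ℂ)
    rw [classInner_irr_self χ.2, mul_one] at h
    simp only [Complex.mul_conj] at h
    rw [← Complex.ofReal_sum] at h
    exact_mod_cast h.symm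
  set A := Finset.univ.filter (fun g : G => g ∈ H) with hA
  set S := Finset.univ.filter (fun g : G => g ∉ H ∧ (χ : G → ℂ) g ≠ 0) with hS
  set Z := Finset.univ.filter (fun g : G => g ∉ H ∧ (χ : G → ℂ) g = 0) with hZ
  have hS1 : (S.card : ℝ) ≤ ∑ g ∈ S, Complex.normSq ((χ : G → ℂ) g) := by
    refine card_le_sum_normSq (isCharacter_of_isIrr χ.2) S (fun g hg k hk => ?_)
      (fun g hg => (Finset.mem_filter.mp hg).2.2)
    obtain ⟨-, h1, h2⟩ := Finset.mem_filter.mp hg
    exact Finset.mem_filter.mpr ⟨Finset.mem_univ _, fun h => h1 (mem_of_coprime_pow_mem hk h),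
      fun h => h2 ((char_pow_eq_zero_iff (isCharacter_of_isIrr χ.2) hk g).mp h)⟩
  have hAc : (A.card : ℝ) = Nat.card H := by
    rw [Nat.card_eq_fintype_card, Fintype.card_subtype]
  have hcard : A.card + S.card + Z.card = Nat.card G := by
    rw [Nat.card_eq_fintype_card, ← Finset.card_univ,
      ← Finset.card_filter_add_card_filter_not (s := (Finset.univ : Finset G)) (p := (· ∈ H)),
      ← Finset.card_filter_add_card_filter_not
        (s := Finset.univ.filter (fun g : G => g ∉ H)) (p := fun g => (χ : G → ℂ) g ≠ 0),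
      Finset.filter_filter, Finset.filter_filter, hA, hS, hZ]
    simp only [not_not]
    omega
  have hsum : ∑ g ∈ A, Complex.normSq ((χ : G → ℂ) g) + ∑ g ∈ S, Complex.normSq ((χ : G → ℂ) g) ≤
      ∑ g : G, Complex.normSq ((χ : G → ℂ) g) := by
    rw [← Finset.sum_union (Finset.disjoint_filter.mpr fun g _ h h' => h'.1 h)]
    exact Finset.sum_le_sum_of_subset_of_nonneg (Finset.subset_univ _)
      fun g _ _ => Complex.normSq_nonneg _
  have hAH : ∑ h : H, ‖(χ : G → ℂ) h‖ ^ 2 = ∑ g ∈ A, Complex.normSq ((χ : G → ℂ) g) := by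
    simp only [Complex.sq_norm]
    exact (Finset.sum_subtype A (by simp [A]) (fun g => Complex.normSq ((χ : G → ℂ) g))).symm
  have hZc : Set.ncard ({x : G | (χ : G → ℂ) x = 0} \ (H : Set G)) = Z.card := by
    rw [← Set.ncard_coe_finset]
    congr 1
    ext g
    simp [Z, and_comm]
  rw [hAH, hZc]
  have : ((A.card : ℝ) + S.card + Z.card) = Nat.card G := by exact_mod_cast hcard
  linarith

end Cfsg.Agent.S4989
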