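import Cfsg.Statements.S4991
import Cfsg.Agent.Lib.Transfer.PrimitiveDegree
import Cfsg.Agent.S0205

set_option autoImplicit false
open Cfsg

namespace Cfsg.Agent.S4991

/-- Let G be a group of odd order, χ an irreducible complex character of G that is primitive (not induced from a character of any proper subgroup), and p a prime dividing the order of G. Then there is an element g of G such that the p-part of χ(1) divides the p-part of the size of the conjugacy class of g. -/
theorem result {G : Type*} [Group G] [Fintype G] (hodd : Odd (Nat.card G)) (χ : Cfsg.IrrCharacter G) (hprim : ¬ ∃ (H : Subgroup G), H ≠ ⊤ ∧ ∃ θ : ↥H → ℂ, Cfsg.IsCharacter ↥H θ ∧ Cfsg.indFun H θ = (χ : G → ℂ)) (p : ℕ) [Fact p.Prime] (hp : p ∣ Nat.card G) : ∃ g : G, (Cfsg.charDegree (χ : G → ℂ)).factorization p ≤ ((Subgroup.centralizer ({g} : Set G)).index).factorization p := by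
  classical
  obtain ⟨n, -, hn⟩ := CfsgLib.Char.exists_degree_pos χ.2
  have hd : Cfsg.charDegree (χ : G → ℂ) = n := by
    rw [Cfsg.charDegree, hn]; simp
  rw [hd]
  refine CfsgLib.Transfer.PrimDeg.exists_class p (Cfsg.Agent.S0205.result hodd) χ.2 hn ?_
  intro M hM _ θ hθ h0 m
  have hne : CfsgLib.CharNormal.inertia M θ = ⊤ := by
    by_contra hT
    letI := Fintype.ofFinite ↥(CfsgLib.CharNormal.inertia M θ)
    obtain ⟨ψ, hψ, hind, -⟩ := CfsgLib.Char.clifford_correspondence M hθ (CfsgLib.CharNormal.inertia M θ)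
      (fun g => CfsgLib.CharNormal.mem_inertia M)
      (CfsgLib.CharNormal.le_inertia M (CfsgLib.Char.isClassFunction_of_isIrr hθ)) χ.2 h0
    exact hprim ⟨_, hT, ψ, CfsgLib.Char.isCharacter_of_isIrr hψ, hind⟩
  exact congrFun (CfsgLib.CharNormal.res_eq_smul_of_invariant M χ.2 hθ
    (fun g => (CfsgLib.CharNormal.mem_inertia M).1 (hne.ge (Subgroup.mem_top g))) h0) m

end Cfsg.Agent.S4991
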