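import Cfsg.Statements.S4993
import Cfsg.Agent.Lib.Cores.Fitting
import Cfsg.Agent.Lib.CharNormal.TwoDegrees
import Cfsg.Agent.Lib.Char.Restrict
import Cfsg.Agent.Lib.CharBlocks.Degree
import Cfsg.Agent.Lib.CharBlocks.Primitive

set_option autoImplicit false
open Cfsg

namespace Cfsg.Agent.S4993

open CfsgLib.Char CfsgLib.CharNormal CfsgLib.CharBlocks.Primitive
open scoped commutatorElement

/-- The `p`-part: some element of `Q` has a large orbit on `O_p(G)`. -/
theorem exists_large_orbit {G : Type*} [Group G] [Fintype G] {p q : ℕ} [Fact p.Prime] [Fact q.Prime]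
    (hpq : p ≠ q) (hpr : ∀ r, r.Prime → r ∣ Nat.card G → r = p ∨ r = q)
    {χ : G → ℂ} (hχ : Cfsg.IsIrrCharacter G χ) (hprim : IsPrim χ) (hfaith : ∀ g, χ g = χ 1 → g = 1)
    (F : Subgroup G) [F.Normal] (hF : F = Cfsg.pCore p G ⊔ Cfsg.pCore q G) (hnil : Group.IsNilpotent (G ⧸ F))
    {d : ℕ} (hd : χ 1 = d) (S : Sylow p G) (Q : Sylow q G) :
    ∃ a ∈ (Q : Subgroup G), ∀ g x : G, x ∈ Subgroup.zpowers g → (orderOf x).Coprime p → a⁻¹ * x ∈ F →
      d.factorization p ≤ ((Subgroup.centralizer {g}).index).factorization p := by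
  classical
  have hp : p.Prime := Fact.out
  set P := Cfsg.pCore p G with hP
  have hPp : IsPGroup p P := CfsgLib.Cores.isPGroup_pCore p
  set Z := P ⊓ Subgroup.center G with hZ
  have hZn : Z.Normal := ⟨fun x hx g => by
    rw [Subgroup.mem_center_iff.1 (Subgroup.mem_inf.1 hx).2 g, mul_inv_cancel_right]
    exact hx⟩
  have hZc : Z ≤ Subgroup.center G := inf_le_right
  have hA := fun (A : Subgroup G) (hAn : A.Normal) (hAc : ∀ a ∈ A, ∀ b ∈ A, a * b = b * a) =>
    le_center_of_abelian hχ hprim hfaith A hAc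
  have hPn : P.Normal := Cfsg.pCore_normal p G
  -- class two
  have hcl : ∀ x ∈ P, ∀ y ∈ P, ⁅x, y⁆ ∈ Z := by
    set D := ⁅P, P⁆ with hD
    suffices hDZ : D ≤ Z from fun x hx y hy => hDZ (Subgroup.commutator_mem_commutator hx hy)
    have hDP : D ≤ P := Subgroup.commutator_le_self P
    let Z2 : Subgroup G :=
      { carrier := {x | x ∈ P ∧ ∀ y ∈ P, ⁅x, y⁆ ∈ Z}
        one_mem' := ⟨one_mem P, fun y _ => by simp [one_mem]⟩
        mul_mem' := fun {a b} ⟨ha, ha'⟩ ⟨hb, hb'⟩ => ⟨mul_mem ha hb, fun y hy => by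
          rw [show ⁅a * b, y⁆ = a * ⁅b, y⁆ * a⁻¹ * ⁅a, y⁆ by simp [commutatorElement_def, mul_assoc]]
          exact mul_mem (hZn.conj_mem _ (hb' y hy) a) (ha' y hy)⟩
        inv_mem' := fun {a} ⟨ha, ha'⟩ => ⟨inv_mem ha, fun y hy => by
          rw [show ⁅a⁻¹, y⁆ = a⁻¹ * ⁅a, y⁆⁻¹ * a⁻¹⁻¹ by simp [commutatorElement_def, mul_assoc]]
          exact hZn.conj_mem _ (inv_mem (ha' y hy)) _⟩ }
    have hZ2n : Z2.Normal := ⟨fun x ⟨hx, hx'⟩ g => ⟨hPn.conj_mem x hx g, fun y hy => by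
      have h := hZn.conj_mem _ (hx' _ (hPn.conj_mem y hy g⁻¹)) g
      rwa [show g * ⁅x, g⁻¹ * y * g⁻¹⁻¹⁆ * g⁻¹ = ⁅g * x * g⁻¹, y⁆ by
        simp [commutatorElement_def, mul_assoc]] at h⟩⟩
    have hcen : ∀ H : Subgroup G, ⁅Z, H⁆ = ⊥ := fun H =>
      Subgroup.commutator_eq_bot_iff_le_centralizer.2 (hZc.trans (Subgroup.center_le_centralizer _))
    have hz2 : ⁅Z2, P⁆ ≤ Z := (Subgroup.commutator_le (H₁ := Z2)).2 fun x hx y hy => (show x ∈ P ∧ ∀ y ∈ P, ⁅x, y⁆ ∈ Z from hx).2 y hy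
    have hthree : ⁅⁅P, P⁆, Z2⁆ = ⊥ := Subgroup.commutator_commutator_eq_bot_of_rotate
      (le_bot_iff.1 ((Subgroup.commutator_mono (by rw [Subgroup.commutator_comm]; exact hz2) le_rfl).trans (hcen P).le))
      (le_bot_iff.1 ((Subgroup.commutator_mono hz2 le_rfl).trans (hcen P).le))
    have hDn : D.Normal := Subgroup.commutator_normal P P
    have hAB : D ⊓ Z2 ≤ Z := le_inf (inf_le_left.trans hDP) (hA _ inferInstance fun a ha b hb => by
      have := Subgroup.commutator_eq_bot_iff_le_centralizer.1 hthree (Subgroup.mem_inf.1 ha).1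
      exact (Subgroup.mem_centralizer_iff.1 this b (Subgroup.mem_inf.1 hb).2).symm)
    by_contra hne
    obtain ⟨x, hxD, hxZ, hx⟩ := exists_commutator_mem hPp hDP
      (fun s _ x hx => hDn.conj_mem x hx s) hne
    exact hxZ (hAB ⟨hxD, hDP hxD, hx⟩)
  have hPcen : ∀ x ∈ P, (∀ y ∈ P, x * y = y * x) → x ∈ Z := by
    intro x hx h
    refine ⟨hx, hA (P ⊓ Subgroup.centralizer (P : Set G)) inferInstance (fun a ha b hb => ?_)
      ⟨hx, Subgroup.mem_centralizer_iff.2 fun y hy => (h y hy).symm⟩⟩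
    exact Subgroup.mem_centralizer_iff.1 (Subgroup.mem_inf.1 hb).2 a (Subgroup.mem_inf.1 ha).1
  -- elements of `O_q` and of `P` act trivially modulo `Z`
  have hFZ : ∀ x ∈ P, ∀ f ∈ F, ⁅x, f⁆ ∈ Z := by
    intro x hx f hf
    rw [hF, Subgroup.mem_sup_of_normal_left] at hf
    obtain ⟨u, hu, w, hw, rfl⟩ := hf
    have hc : ⁅x, w⁆ = 1 := commutatorElement_eq_one_iff_mul_comm.2
      (CfsgLib.Cores.commute_pCore_of_ne hpq hx hw)
    rw [show ⁅x, u * w⁆ = ⁅x, u⁆ * (u * ⁅x, w⁆ * u⁻¹) by simp [commutatorElement_def, mul_assoc], hc,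
      mul_one, mul_inv_cancel, mul_one]
    exact hcl x hx u hu
  let M : G → Subgroup G := fun x =>
    { carrier := {g | ⁅x, g⁆ ∈ Z}
      one_mem' := by simp [one_mem]
      mul_mem' := fun {a b} (ha : ⁅x, a⁆ ∈ Z) (hb : ⁅x, b⁆ ∈ Z) => by
        show ⁅x, a * b⁆ ∈ Z
        rw [show ⁅x, a * b⁆ = ⁅x, a⁆ * (a * ⁅x, b⁆ * a⁻¹) by simp [commutatorElement_def, mul_assoc]]
        exact mul_mem ha (hZn.conj_mem _ hb a)
      inv_mem' := fun {a} (ha : ⁅x, a⁆ ∈ Z) => by
        show ⁅x, a⁻¹⁆ ∈ Z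
        rw [show ⁅x, a⁻¹⁆ = a⁻¹ * ⁅x, a⁆⁻¹ * a⁻¹⁻¹ by simp [commutatorElement_def, mul_assoc]]
        exact hZn.conj_mem _ (inv_mem ha) _ }
  -- `F Q` is normal
  set H := F ⊔ (Q : Subgroup G) with hH
  have hHn : H.Normal := by
    let π := QuotientGroup.mk' F
    have hQ' : IsPGroup q ((Q : Subgroup G).map π) := Q.2.map π
    let Q' : Sylow q (G ⧸ F) := Q.mapSurjective (QuotientGroup.mk'_surjective F)
    have h1 : (Q' : Subgroup (G ⧸ F)).Normal :=
      (Group.isNilpotent_of_finite_tfae.out 0 3 rfl rfl).1 hnil q ‹_› Q'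
    have h2 : H = (Q' : Subgroup (G ⧸ F)).comap π := by
      show H = ((Q : Subgroup G).map π).comap π
      rw [Subgroup.comap_map_eq, QuotientGroup.ker_mk', hH, sup_comm]
    rw [h2]
    exact h1.comap π
  have hfix : ∀ x ∈ P, (∀ a ∈ (Q : Subgroup G), a * x = x * a) → x ∈ Z := by
    let U : Subgroup G :=
      { carrier := {x | x ∈ P ∧ ∀ h ∈ H, ⁅x, h⁆ ∈ Z}
        one_mem' := ⟨one_mem P, fun y _ => by simp [one_mem]⟩
        mul_mem' := fun {a b} ⟨ha, ha'⟩ ⟨hb, hb'⟩ => ⟨mul_mem ha hb, fun y hy => by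
          rw [show ⁅a * b, y⁆ = a * ⁅b, y⁆ * a⁻¹ * ⁅a, y⁆ by simp [commutatorElement_def, mul_assoc]]
          exact mul_mem (hZn.conj_mem _ (hb' y hy) a) (ha' y hy)⟩
        inv_mem' := fun {a} ⟨ha, ha'⟩ => ⟨inv_mem ha, fun y hy => by
          rw [show ⁅a⁻¹, y⁆ = a⁻¹ * ⁅a, y⁆⁻¹ * a⁻¹⁻¹ by simp [commutatorElement_def, mul_assoc]]
          exact hZn.conj_mem _ (inv_mem (ha' y hy)) _⟩ }
    have hUn : U.Normal := ⟨fun x ⟨hx, hx'⟩ g => ⟨hPn.conj_mem x hx g, fun y hy => by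
      have h := hZn.conj_mem _ (hx' _ (hHn.conj_mem y hy g⁻¹)) g
      rwa [show g * ⁅x, g⁻¹ * y * g⁻¹⁻¹⁆ * g⁻¹ = ⁅g * x * g⁻¹, y⁆ by
        simp [commutatorElement_def, mul_assoc]] at h⟩⟩
    have hUZ : U ≤ Z := by
      by_contra hne
      obtain ⟨x, hxU, hxZ, hx⟩ := exists_commutator_mem (N := U) S.2
        (fun x hx => CfsgLib.Cores.pCore_le_sylow S hx.1) (fun s _ x hx => hUn.conj_mem x hx s) hne
      have hS : (S : Subgroup G) ≤ M x := fun s hs => hx s hs
      have hQM : (Q : Subgroup G) ≤ M x := fun s hs => hxU.2 s (Subgroup.mem_sup_right hs)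
      have hM : M x = ⊤ := by
        rw [← Subgroup.index_eq_one]
        by_contra h1
        obtain ⟨r, hr, hrd⟩ := Nat.exists_prime_and_dvd h1
        rcases hpr r hr (hrd.trans (Subgroup.index_dvd_card _)) with rfl | rfl
        · exact S.not_dvd_index (hrd.trans (Subgroup.index_dvd_of_le hS))
        · exact Q.not_dvd_index (hrd.trans (Subgroup.index_dvd_of_le hQM))
      let A := Z ⊔ Subgroup.zpowers x
      have hxA : x ∈ A := Subgroup.mem_sup_right (Subgroup.mem_zpowers x)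
      have hAn : A.Normal := ⟨fun y hy g => by
        rw [Subgroup.mem_sup_of_normal_left] at hy
        obtain ⟨z, hz, w, ⟨i, rfl⟩, rfl⟩ := hy
        have hxg : ⁅x, g⁆ ∈ Z := (hM ▸ Subgroup.mem_top g : g ∈ M x)
        have h1 : g * x * g⁻¹ ∈ A := by
          rw [show g * x * g⁻¹ = ⁅x, g⁆⁻¹ * x by simp [commutatorElement_def, mul_assoc]]
          exact mul_mem (Subgroup.mem_sup_left (inv_mem hxg)) hxA
        rw [show g * (z * x ^ i) * g⁻¹ = (g * z * g⁻¹) * (g * x * g⁻¹) ^ i by rw [conj_zpow]; group]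
        exact mul_mem (Subgroup.mem_sup_left (hZn.conj_mem z hz g)) (zpow_mem h1 i)⟩
      refine hxZ ⟨hxU.1, hA A hAn (fun a ha b hb => ?_) hxA⟩
      rw [Subgroup.mem_sup_of_normal_left] at ha hb
      obtain ⟨z, hz, w, ⟨i, rfl⟩, rfl⟩ := ha
      obtain ⟨z', hz', w', ⟨j, rfl⟩, rfl⟩ := hb
      have c1 : Commute z (z' * x ^ j) := (Subgroup.mem_center_iff.1 (hZc hz) _).symm
      have c2 : Commute (x ^ i) (z' * x ^ j) :=
        Commute.mul_right (Subgroup.mem_center_iff.1 (hZc hz') _) ((Commute.refl x).zpow_zpow i j)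
      exact c1.mul_left c2
    intro x hx hxQ
    refine hUZ ⟨hx, fun h hh => ?_⟩
    have hle : H ≤ M x := sup_le (fun f hf => hFZ x hx f hf) fun a ha => by
      show ⁅x, a⁆ ∈ Z
      rw [commutatorElement_eq_one_iff_mul_comm.2 (hxQ a ha).symm]
      exact one_mem Z
    exact hle hh
  obtain ⟨a, haQ, ha⟩ := exists_mul_sq_le hpq hZc Q.2 P hPp inf_le_left hcl
    (fun a _ x hx => hPn.conj_mem x hx a) hfix
  refine ⟨a, haQ, fun g x hxg hxo hax => ?_⟩
  -- the degree
  have := Fintype.ofFinite F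
  have := Fintype.ofFinite P
  have hθ : Cfsg.IsIrrCharacter F (fun n : F => χ n) := isIrr_res_of_nilpotent_quotient hχ hprim F hnil
  let PF := P.subgroupOf F
  have := Fintype.ofFinite PF
  let eP : PF ≃* P := Subgroup.subgroupOfEquivOfLe (hF ▸ le_sup_left)
  obtain ⟨φ, hφ, hφ0⟩ := exists_constituent (isCharacter_res P (isCharacter_of_isIrr hχ)) fun h =>
    irr_one_ne_zero hχ (by simpa using congrFun h 1)
  have hres := res_eq_smul_of_invariant P hχ hφ (conjFun_eq_of_primitive hχ hprim P hφ hφ0) hφ0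
  obtain ⟨e, he⟩ := classInner_char_nat (isCharacter_res P (isCharacter_of_isIrr hχ)) (isCharacter_of_isIrr hφ)
  rw [he] at hres
  obtain ⟨c, hc0, hc⟩ := exists_degree_pos hφ
  have hdec : d = e * c := by
    have := congrFun hres 1
    simp only [OneMemClass.coe_one, hd, Pi.smul_apply, hc, smul_eq_mul] at this
    exact_mod_cast this
  have hφ' : Cfsg.IsIrrCharacter PF (φ ∘ eP) := isIrr_comp_mulEquiv hφ eP
  have hedvd : e ∣ PF.index := by
    obtain ⟨m, ρ, hirr, hρ⟩ := hφ'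
    refine multiplicity_dvd_index PF ρ (fun g n => ?_) hθ ?_
    · rw [hρ]
      have h := congrFun (conjFun_eq_of_primitive hχ hprim P hφ hφ0 (g : G)) (eP n)
      rw [conjFun_apply] at h
      refine Eq.trans (congrArg φ (Subtype.ext ?_)) h
      exact congrArg Subtype.val (MulAut.conjNormal_apply g n) |>.trans rfl
    · rw [hρ]
      exact funext fun n => congrFun hres (eP n)
  have hpe : ¬ p ∣ e := fun hpe => by
    have h1 := Subgroup.card_mul_index PF
    rw [Nat.card_congr eP.toEquiv] at h1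
    have h2 : Nat.card F ∣ Nat.card P * Nat.card (Cfsg.pCore q G) := by
      rw [hF]; exact CfsgLib.Cores.card_sup_dvd_mul P (Cfsg.pCore q G)
    rw [← h1] at h2
    have h3 : PF.index ∣ Nat.card (Cfsg.pCore q G) := Nat.dvd_of_mul_dvd_mul_left Nat.card_pos h2
    obtain ⟨j, hj⟩ := IsPGroup.iff_card.1 (CfsgLib.Cores.isPGroup_pCore (G := G) q)
    rw [hj] at h3
    exact hpq ((Nat.prime_dvd_prime_iff_eq hp Fact.out).1
      (hp.dvd_of_dvd_pow (hpe.trans (hedvd.trans h3))))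
  obtain ⟨k, hk⟩ := IsPGroup.iff_card.1 hPp
  obtain ⟨i, -, hci⟩ := (Nat.dvd_prime_pow hp).1 (hk ▸ degree_dvd_card hφ hc)
  have hdp : d.factorization p = i := by
    rw [hdec, Nat.factorization_mul (fun h => hpe (by rw [h]; exact dvd_zero p)) hc0.ne', Finsupp.add_apply,
      Nat.factorization_eq_zero_of_not_dvd hpe, hci, hp.factorization_pow, Finsupp.single_eq_same, zero_add]
  rw [hdp]
  -- the orbit
  set C := P ⊓ Subgroup.centralizer ({a} : Set G) with hC
  have hax' : ∀ y ∈ P, y * x = x * y → y * a = a * y := by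
    intro y hy hyx
    have hf : ⁅y, a⁻¹ * x⁆ ∈ Z := hFZ y hy _ hax
    have hya : ⁅y, a⁆ ∈ Z := by
      have hh : a ∈ M y := by
        have h1 : x ∈ M y := by
          show ⁅y, x⁆ ∈ Z
          rw [commutatorElement_eq_one_iff_mul_comm.2 hyx]; exact one_mem Z
        have := mul_mem h1 (inv_mem (show a⁻¹ * x ∈ M y from hf))
        rwa [show x * (a⁻¹ * x)⁻¹ = a by group] at this
      exact hh
    obtain ⟨j, hj⟩ := IsPGroup.iff_orderOf.1 hPp ⟨⁅y, a⁆⁻¹, inv_mem (Subgroup.mem_inf.1 hya).1⟩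
    rw [← Subgroup.orderOf_coe] at hj
    obtain ⟨l, hl⟩ := IsPGroup.iff_orderOf.1 Q.2 ⟨a, haQ⟩
    rw [← Subgroup.orderOf_coe] at hl
    have hz : ⁅y, a⁆⁻¹ = 1 := by
      refine CfsgLib.PStab.eq_one_of_coprime_fix (p := p) (y := a) (x := y) (k := j) ?_ ?_
        (hj ▸ pow_orderOf_eq_one _) (by rw [hl]; exact ((Nat.coprime_primes Fact.out hp).2 hpq.symm).pow_left l)
      · rw [Subgroup.mem_center_iff.1 (inv_mem (hZc hya)) y]
        simp [commutatorElement_def, mul_assoc]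
      · rw [Subgroup.mem_center_iff.1 (inv_mem (hZc hya)) a, mul_inv_cancel_right]
    exact commutatorElement_eq_one_iff_mul_comm.1 (inv_eq_one.1 hz)
  set Cg := Subgroup.centralizer ({g} : Set G) with hCg
  have hsub : P ⊓ Cg ≤ C := fun y hy => by
    obtain ⟨hyP, hyg⟩ := Subgroup.mem_inf.1 hy
    refine Subgroup.mem_inf.2 ⟨hyP, Subgroup.mem_centralizer_singleton_iff.2 (hax' y hyP ?_)⟩
    obtain ⟨m, rfl⟩ := hxg
    exact (Commute.zpow_right (Subgroup.mem_centralizer_singleton_iff.1 hyg : Commute y g) m)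
  -- compare indices
  have hidx : C.relIndex P ∣ Cg.index := by
    have h0 := Subgroup.relIndex_dvd_of_le_left P hsub
    rw [inf_comm, Subgroup.inf_relIndex_right] at h0
    refine h0.trans ?_
    have e1 := Subgroup.relIndex_mul_index (inf_le_left : Cg ⊓ P ≤ Cg)
    have e2 := Subgroup.relIndex_mul_index (inf_le_right : Cg ⊓ P ≤ P)
    rw [inf_comm, Subgroup.inf_relIndex_right] at e1
    rw [Subgroup.inf_relIndex_right] at e2
    obtain ⟨t, ht⟩ := P.relIndex_dvd_index_of_normal (K := Cg)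
    refine ⟨t, Nat.eq_of_mul_eq_mul_left (Nat.pos_of_ne_zero (fun (h : P.relIndex Cg = 0) => Subgroup.index_ne_zero_of_finite (H := P) (by rw [ht, h, zero_mul]))) ?_⟩
    rw [inf_comm] at e1
    rw [e1, ← e2, ht]
    ring
  have hPZ : c * c ≤ Z.relIndex P := by
    have h := degree_sq_le_center hφ hc
    have : Subgroup.center P = Z.subgroupOf P := by
      ext y
      rw [Subgroup.mem_center_iff, Subgroup.mem_subgroupOf]
      exact ⟨fun h => hPcen y y.2 fun w hw => (congrArg Subtype.val (h ⟨w, hw⟩)).symm,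
        fun h w => Subtype.ext (Subgroup.mem_center_iff.1 (hZc h) w)⟩
    rwa [this] at h
  have h1 : Nat.card Z * Z.relIndex P = Nat.card P := by
    have := Subgroup.card_mul_index (Z.subgroupOf P)
    rwa [Nat.card_congr (Subgroup.subgroupOfEquivOfLe inf_le_left).toEquiv] at this
  have h2 : Nat.card C * C.relIndex P = Nat.card P := by
    have := Subgroup.card_mul_index (C.subgroupOf P)
    rwa [Nat.card_congr (Subgroup.subgroupOfEquivOfLe inf_le_left).toEquiv] at this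
  have hle : c * c ≤ C.relIndex P * C.relIndex P := by
    refine hPZ.trans (Nat.le_of_mul_le_mul_left ?_ (Nat.mul_pos (Nat.card_pos (α := P)) (Nat.card_pos (α := Z))))
    calc Nat.card P * Nat.card Z * Z.relIndex P = Nat.card P * (Nat.card Z * Z.relIndex P) := by ring
      _ = Nat.card C * Nat.card C * (C.relIndex P * C.relIndex P) := by rw [h1, ← h2]; ring
      _ ≤ Nat.card P * Nat.card Z * (C.relIndex P * C.relIndex P) := Nat.mul_le_mul_right _ ha
  obtain ⟨j, -, hj⟩ := (Nat.dvd_prime_pow hp).1 (hk ▸ Subgroup.relIndex_dvd_card C P)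
  rw [hci, hj, ← pow_add, ← pow_add, Nat.pow_le_pow_iff_right hp.one_lt] at hle
  have hij : i ≤ j := by omega
  refine hij.trans ((hp.pow_dvd_iff_le_factorization Subgroup.index_ne_zero_of_finite).1 (hj ▸ hidx))

/-- The faithful case. -/
theorem faithful_case {G : Type*} [Group G] [Fintype G] {p q : ℕ} [Fact p.Prime] [Fact q.Prime]
    (hpq : p ≠ q) (hpr : ∀ r, r.Prime → r ∣ Nat.card G → r = p ∨ r = q)
    {χ : G → ℂ} (hχ : Cfsg.IsIrrCharacter G χ) (hprim : IsPrim χ) (hfaith : ∀ g, χ g = χ 1 → g = 1)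
    (hnil : ∀ [(Cfsg.fittingSubgroup G).Normal], Group.IsNilpotent (G ⧸ Cfsg.fittingSubgroup G))
    {d : ℕ} (hd : χ 1 = d) : ∃ g : G, d ∣ (Subgroup.centralizer ({g} : Set G)).index := by
  classical
  have := CfsgLib.Cores.fittingSubgroup_normal (G := G)
  set F := Cfsg.fittingSubgroup G with hFdef
  have hF : F = Cfsg.pCore p G ⊔ Cfsg.pCore q G := by
    refine le_antisymm ?_ (sup_le (CfsgLib.Cores.pCore_le_fittingSubgroup p) (CfsgLib.Cores.pCore_le_fittingSubgroup q))
    refine CfsgLib.Cores.fittingSubgroup_le_iSup_pCore.trans (iSup_le fun r => ?_)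
    rcases hpr r (Nat.prime_of_mem_primeFactors r.2) (Nat.dvd_of_mem_primeFactors r.2) with h | h <;> rw [h]
    exacts [le_sup_left, le_sup_right]
  obtain ⟨S⟩ : Nonempty (Sylow p G) := inferInstance
  obtain ⟨Q⟩ : Nonempty (Sylow q G) := inferInstance
  obtain ⟨a, haQ, ha⟩ := exists_large_orbit hpq hpr hχ hprim hfaith F hF hnil hd S Q
  obtain ⟨b, hbS, hb⟩ := exists_large_orbit hpq.symm (fun r hr hrd => (hpr r hr hrd).symm) hχ hprim hfaith F
    (hF.trans (sup_comm _ _)) hnil hd Q S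
  set N := Nat.card G with hN
  set i := N.factorization p
  set j := N.factorization q
  have hNfac : N ∣ p ^ i * q ^ j := by
    refine (Nat.factorization_le_iff_dvd Nat.card_pos.ne'
      (Nat.mul_pos (pow_pos (Fact.out : p.Prime).pos i) (pow_pos (Fact.out : q.Prime).pos j)).ne').1 fun r => ?_
    by_cases hr : r.Prime ∧ r ∣ N
    · rw [Nat.factorization_mul (pow_ne_zero _ (Fact.out : p.Prime).ne_zero) (pow_ne_zero _ (Fact.out : q.Prime).ne_zero),
        Finsupp.add_apply, Nat.Prime.factorization_pow Fact.out, Nat.Prime.factorization_pow Fact.out]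
      rcases hpr r hr.1 hr.2 with rfl | rfl
      · rw [Finsupp.single_eq_same]; exact Nat.le_add_right _ _
      · rw [Finsupp.single_eq_same]; exact Nat.le_add_left _ _
    · rcases not_and_or.1 hr with h | h
      · rw [Nat.factorization_eq_zero_of_not_prime _ h]; exact Nat.zero_le _
      · rw [Nat.factorization_eq_zero_of_not_dvd h]; exact Nat.zero_le _
  have hapow : a ^ q ^ j = 1 := by
    have := pow_card_eq_one' (G := (Q : Subgroup G)) (x := ⟨a, haQ⟩)
    rw [Q.card_eq_multiplicity] at this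
    exact congrArg Subtype.val this
  have hbpow : b ^ p ^ i = 1 := by
    have := pow_card_eq_one' (G := (S : Subgroup G)) (x := ⟨b, hbS⟩)
    rw [S.card_eq_multiplicity] at this
    exact congrArg Subtype.val this
  -- commuting images
  let π := QuotientGroup.mk' F
  have hcomm : Commute (π a) (π b) := by
    have hnQ := (Group.isNilpotent_of_finite_tfae.out 0 3 rfl rfl).1 hnil q ‹_› (Q.mapSurjective (QuotientGroup.mk'_surjective F))
    have hnS := (Group.isNilpotent_of_finite_tfae.out 0 3 rfl rfl).1 hnil p ‹_› (S.mapSurjective (QuotientGroup.mk'_surjective F))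
    exact Subgroup.commute_of_normal_of_disjoint _ _ hnQ hnS
      (IsPGroup.disjoint_of_ne q p hpq.symm _ _ (Q.2.map π) (S.2.map π)) _ _
      (Subgroup.mem_map_of_mem π haQ) (Subgroup.mem_map_of_mem π hbS)
  have hco : Nat.Coprime (p ^ i) (q ^ j) := ((Nat.coprime_primes Fact.out Fact.out).2 hpq).pow i j
  obtain ⟨u, hu1, hu0⟩ := Nat.chineseRemainder hco.symm 1 0
  obtain ⟨v, hv1, hv0⟩ := Nat.chineseRemainder hco 1 0
  set g := a * b with hg
  have hgN : g ^ (p ^ i * q ^ j) = 1 := orderOf_dvd_iff_pow_eq_one.1 ((orderOf_dvd_natCard g).trans hNfac)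
  have hpowmod : ∀ {x : G ⧸ F} {m k l : ℕ}, x ^ m = 1 → k ≡ l [MOD m] → x ^ k = x ^ l := fun {x m k l} hx hkl =>
    pow_eq_pow_iff_modEq.2 (hkl.of_dvd (orderOf_dvd_of_pow_eq_one hx))
  have hπa : π a ^ q ^ j = 1 := by rw [← map_pow, hapow, map_one]
  have hπb : π b ^ p ^ i = 1 := by rw [← map_pow, hbpow, map_one]
  have hmemF : ∀ {c y : G}, π y = π c → c⁻¹ * y ∈ F := fun {c y} h =>
    (QuotientGroup.eq_one_iff _).1 (by show π (c⁻¹ * y) = 1; rw [map_mul, map_inv, h, inv_mul_cancel])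
  have hua : a⁻¹ * g ^ u ∈ F := hmemF (by
    rw [map_pow, hg, map_mul, hcomm.mul_pow, hpowmod hπa hu1, hpowmod hπb hu0, pow_one, pow_zero, mul_one])
  have hvb : b⁻¹ * g ^ v ∈ F := hmemF (by
    rw [map_pow, hg, map_mul, hcomm.mul_pow, hpowmod hπa hv0, hpowmod hπb hv1, pow_one, pow_zero, one_mul])
  obtain ⟨u', rfl⟩ := Nat.modEq_zero_iff_dvd.1 hu0
  obtain ⟨v', rfl⟩ := Nat.modEq_zero_iff_dvd.1 hv0
  have hp' := ha g (g ^ (p ^ i * u')) ⟨((p ^ i * u' : ℕ) : ℤ), zpow_natCast g _⟩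
    (Nat.Coprime.coprime_dvd_left (orderOf_dvd_of_pow_eq_one (n := q ^ j) (by
      rw [← pow_mul, show p ^ i * u' * q ^ j = p ^ i * q ^ j * u' by ring, pow_mul, hgN, one_pow]))
      (((Nat.coprime_primes Fact.out Fact.out).2 hpq.symm).pow_left j)) hua
  have hq' := hb g (g ^ (q ^ j * v')) ⟨((q ^ j * v' : ℕ) : ℤ), zpow_natCast g _⟩
    (Nat.Coprime.coprime_dvd_left (orderOf_dvd_of_pow_eq_one (n := p ^ i) (by
      rw [← pow_mul, show q ^ j * v' * p ^ i = p ^ i * q ^ j * v' by ring, pow_mul, hgN, one_pow]))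
      (((Nat.coprime_primes Fact.out Fact.out).2 hpq).pow_left i)) hvb
  refine ⟨g, ?_⟩
  obtain ⟨d', hd0', hd''⟩ := exists_degree_pos hχ
  obtain rfl : d' = d := by exact_mod_cast hd''.symm.trans hd
  refine (Nat.factorization_le_iff_dvd hd0'.ne' Subgroup.index_ne_zero_of_finite).1 fun r => ?_
  by_cases hr : r.Prime ∧ r ∣ d'
  · rcases hpr r hr.1 (hr.2.trans (degree_dvd_card hχ hd)) with rfl | rfl
    exacts [hp', hq']
  · rcases not_and_or.1 hr with h | h
    · simp [Nat.factorization_eq_zero_of_not_prime _ h]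
    · simp [Nat.factorization_eq_zero_of_not_dvd h]

/-- Let G be a group of odd order whose order has exactly two prime divisors and whose quotient by its Fitting subgroup is nilpotent (G is metanilpotent), and let χ be a primitive irreducible complex character of G (not induced from a character of any proper subgroup). Then χ(1) divides the size of some conjugacy class of G. -/
theorem result {G : Type*} [Group G] [Fintype G] (hodd : Odd (Nat.card G)) (h2 : (Nat.card G).primeFactors.card = 2) [hF : (Cfsg.fittingSubgroup G).Normal] (hmeta : Group.IsNilpotent (G ⧸ Cfsg.fittingSubgroup G)) (χ : Cfsg.IrrCharacter G) (hprim : ¬ ∃ (H : Subgroup G), H ≠ ⊤ ∧ ∃ θ : ↥H → ℂ, Cfsg.IsCharacter ↥H θ ∧ Cfsg.indFun H θ = (χ : G → ℂ)) : ∃ g : G, Cfsg.charDegree (χ : G → ℂ) ∣ (Subgroup.centralizer ({g} : Set G)).index := by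
  classical
  obtain ⟨p, q, hpq, hfac⟩ := Finset.card_eq_two.1 h2
  have hpp : p.Prime := Nat.prime_of_mem_primeFactors (by rw [hfac]; simp)
  have hqq : q.Prime := Nat.prime_of_mem_primeFactors (by rw [hfac]; simp)
  have := Fact.mk hpp
  have := Fact.mk hqq
  have hχc := isCharacter_of_isIrr χ.2
  let K := charKer hχc
  have : K.Normal := charKer_normal hχc
  have := Fintype.ofFinite (G ⧸ K)
  obtain ⟨ψ, hψ, hψe⟩ := exists_irr_eq_comp_mk' K χ.2 fun n hn => hn
  have hval : ∀ x : G, ψ (x : G ⧸ K) = (χ : G → ℂ) x := fun x => congrFun hψe x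
  have hψprim : IsPrim ψ := by
    rintro ⟨U, hU, lam, hlam, hind⟩
    have hsurj := QuotientGroup.mk'_surjective K
    refine hprim ⟨U.comap (QuotientGroup.mk' K), fun h => hU ?_,
      fun x => lam ⟨QuotientGroup.mk' K x, x.2⟩, ?_, funext fun g => ?_⟩
    · exact Subgroup.comap_injective hsurj (h.trans (Subgroup.comap_top _).symm)
    · exact isCharacter_comp hlam (((QuotientGroup.mk' K).comp
        (U.comap (QuotientGroup.mk' K)).subtype).codRestrict U fun x => x.2)
    · have := indFun_comap K U lam g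
      rw [← hval g, ← hind]
      convert this
      rfl
  have hψf : ∀ x, ψ x = ψ 1 → x = 1 := fun x hx => by
    obtain ⟨g, rfl⟩ := QuotientGroup.mk_surjective x
    rw [← QuotientGroup.mk_one, hval, hval] at hx
    exact (QuotientGroup.eq_one_iff g).2 hx
  have hpr : ∀ r, r.Prime → r ∣ Nat.card (G ⧸ K) → r = p ∨ r = q := fun r hr hrd => by
    have : r ∈ (Nat.card G).primeFactors :=
      Nat.mem_primeFactors.2 ⟨hr, hrd.trans (Subgroup.card_quotient_dvd_card K), Nat.card_pos.ne'⟩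
    rw [hfac] at this
    simpa using this
  have hnil : ∀ [(Cfsg.fittingSubgroup (G ⧸ K)).Normal],
      Group.IsNilpotent ((G ⧸ K) ⧸ Cfsg.fittingSubgroup (G ⧸ K)) := fun {_} => by
    let φ : G ⧸ Cfsg.fittingSubgroup G →* (G ⧸ K) ⧸ Cfsg.fittingSubgroup (G ⧸ K) :=
      QuotientGroup.map _ _ (QuotientGroup.mk' K)
        (Subgroup.map_le_iff_le_comap.1
          (CfsgLib.Cores.map_fittingSubgroup_le _ (QuotientGroup.mk'_surjective K)))
    refine Group.nilpotent_of_surjective φ fun x => ?_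
    obtain ⟨y, rfl⟩ := QuotientGroup.mk_surjective x
    obtain ⟨g, rfl⟩ := QuotientGroup.mk_surjective y
    exact ⟨(g : G ⧸ Cfsg.fittingSubgroup G), rfl⟩
  have hd : ψ 1 = (Cfsg.charDegree (χ : G → ℂ) : ℂ) := by
    rw [← QuotientGroup.mk_one, hval, CfsgLib.CharBlocks.coe_charDegree hχc]
  obtain ⟨x, hx⟩ := faithful_case hpq hpr hψ hψprim hψf hnil hd
  obtain ⟨g, rfl⟩ := QuotientGroup.mk_surjective x
  refine ⟨g, hx.trans ?_⟩
  refine dvd_trans (Subgroup.index_dvd_of_le ?_)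
    (Subgroup.index_map_dvd (Subgroup.centralizer ({g} : Set G)) (QuotientGroup.mk'_surjective K))
  rintro _ ⟨y, hy, rfl⟩
  rw [Subgroup.mem_centralizer_singleton_iff]
  show QuotientGroup.mk' K y * QuotientGroup.mk' K g = QuotientGroup.mk' K g * QuotientGroup.mk' K y
  rw [← map_mul, ← map_mul, Subgroup.mem_centralizer_singleton_iff.1 hy]

end Cfsg.Agent.S4993
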