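import Cfsg.Statements.S4996
import Cfsg.Agent.Lib.CharBlocks.AMGM
import Cfsg.Agent.Lib.CharBlocks.Degree
import Cfsg.Agent.Lib.CharNormal.Gallagher
import Mathlib

set_option autoImplicit false
open Cfsg

namespace Cfsg.Agent.S4996

open CfsgLib.Char CfsgLib.CharNormal CfsgLib.CharBlocks
open scoped ComplexConjugate

/-- Summing an irreducible character over a coset of a normal subgroup. -/
theorem sum_coset {G : Type*} [Group G] [Fintype G] (N : Subgroup G) [N.Normal] [Fintype N]
    (φ : Cfsg.IrrCharacter G) :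
    ∃ e : ℕ, ∀ g : G, (Nat.card N : ℂ)⁻¹ * ∑ n : N, (φ : G → ℂ) ((n : G) * g) = e * (φ : G → ℂ) g := by
  by_cases h0 : Cfsg.classInner (fun n : N => (φ : G → ℂ) n) (fun _ => (1 : ℂ)) = 0
  · refine ⟨0, fun g => ?_⟩
    obtain ⟨d, ρ, hirr, hρ⟩ := φ.2
    obtain ⟨c, hc⟩ := exists_eq_smul_id ρ (∑ n : N, ρ (n : G)) (fun a => by
      rw [← Module.End.mul_eq_comp, ← Module.End.mul_eq_comp, Finset.sum_mul, Finset.mul_sum]
      refine Fintype.sum_equiv (MulAut.conjNormal (H := N) a⁻¹).toEquiv _ _ fun n => ?_
      simp [← map_mul, mul_assoc])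
    have hc0 : c = 0 := by
      have h := congrArg (LinearMap.trace ℂ (Fin d → ℂ)) hc
      rw [map_sum, map_smul, LinearMap.trace_id, smul_eq_mul] at h
      have e := card_mul_classInner (fun n : N => (φ : G → ℂ) n) (fun _ : N => (1 : ℂ))
      rw [h0, mul_zero] at e
      simp only [map_one, mul_one] at e
      rw [← hρ] at e
      simp only [Representation.character] at e
      rw [← e] at h
      refine (mul_eq_zero.mp h.symm).resolve_right ?_
      exact_mod_cast (finrank_pos_of_irreducible ρ).ne'
    rw [Nat.cast_zero, zero_mul, ← hρ]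
    have h := congrArg (fun T => LinearMap.trace ℂ (Fin d → ℂ) (T * ρ g)) hc
    simp only [Finset.sum_mul, map_sum, hc0, zero_smul, zero_mul, map_zero, ← map_mul] at h
    simp only [Representation.character, h, mul_zero]
  · refine ⟨1, fun g => ?_⟩
    have hk := res_eq_degree_of_constituent_one N φ.2 h0
    have : ∀ n : N, (φ : G → ℂ) ((n : G) * g) = (φ : G → ℂ) g := fun n =>
      (char_mul_comm' (isCharacter_of_isIrr φ.2) _ _).trans <| apply_mul_eq_one (isCharacter_of_isIrr φ.2) (hk n n.2) g
    rw [Finset.sum_congr rfl (fun n _ => this n), Finset.sum_const, Finset.card_univ,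
      nsmul_eq_mul, ← Nat.card_eq_fintype_card, Nat.cast_one, one_mul, ← mul_assoc,
      inv_mul_cancel₀ card_ne_zero', one_mul]

/-- Let N be a normal subgroup of the finite group G and χ an irreducible complex character of G. Then the restriction of χ to N is not irreducible if and only if χ vanishes on some whole coset Nx of N in G. -/
theorem result {G : Type*} [Group G] [Finite G] (N : Subgroup G) [N.Normal] (χ : Cfsg.IrrCharacter G) : ¬ Cfsg.IsIrrCharacter ↥N (fun n : ↥N => (χ : G → ℂ) n) ↔ ∃ x : G, ∀ n : ↥N, (χ : G → ℂ) ((n : G) * x) = 0 := by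
  classical
  have := Fintype.ofFinite G
  have := Fintype.ofFinite N
  have hχ := isCharacter_of_isIrr χ.2
  constructor
  · intro hred
    by_contra hcon
    push Not at hcon
    let ψ : G → ℂ := fun g => (χ : G → ℂ) g * conj ((χ : G → ℂ) g)
    have hψ : Cfsg.IsCharacter G ψ := isCharacter_mul hχ (isCharacter_conj hχ)
    choose r hr using fun φ : Cfsg.IrrCharacter G =>
      classInner_char_nat hψ (isCharacter_of_isIrr φ.2)
    choose e he using fun φ : Cfsg.IrrCharacter G => sum_coset N φ
    let F : G → ℝ := fun g =>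
      (Nat.card N : ℝ)⁻¹ * ∑ n : N, Complex.normSq ((χ : G → ℂ) ((n : G) * g))
    have hF : ∀ g : G, (F g : ℂ) = ∑ φ : Cfsg.IrrCharacter G,
        ((r φ * e φ : ℕ) : ℂ) * (φ : G → ℂ) g := by
      intro g
      have hdec : ∀ x : G, ψ x = ∑ φ : Cfsg.IrrCharacter G, (r φ : ℂ) * (φ : G → ℂ) x := fun x => by
        conv_lhs => rw [classFun_eq_sum (isClassFunction_of_isCharacter hψ)]
        simp only [Finset.sum_apply, Pi.smul_apply, smul_eq_mul, hr]
      simp only [F, Complex.ofReal_mul, Complex.ofReal_inv, Complex.ofReal_natCast,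
        Complex.ofReal_sum, ← Complex.mul_conj]
      rw [Finset.sum_congr rfl (fun n _ => hdec _), Finset.sum_comm, Finset.mul_sum]
      refine Finset.sum_congr rfl fun φ _ => ?_
      rw [← Finset.mul_sum, mul_left_comm, he]
      push_cast
      ring
    set S := Finset.univ.filter (fun g : G => g ∉ N) with hS
    have hpos : ∀ g : G, 0 < F g := fun g => by
      obtain ⟨n, hn⟩ := hcon g
      exact mul_pos (inv_pos.mpr (Nat.cast_pos.mpr Nat.card_pos))
        (Finset.sum_pos' (fun m _ => Complex.normSq_nonneg _)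
          ⟨n, Finset.mem_univ _, Complex.normSq_pos.mpr hn⟩)
    have hle : (S.card : ℝ) ≤ ∑ g ∈ S, F g := by
      refine card_le_sum_of_galois S F (fun g _ => ?_) (fun g _ => hpos g) fun σ => ?_
      · rw [hF]
        exact IsIntegral.sum _ fun φ _ =>
          (isIntegral_natCast _).mul (char_isIntegral (isCharacter_of_isIrr φ.2) g)
      · obtain ⟨k, hk, hkσ⟩ := exists_pow_galois (G := G) σ
        have hσF : ∀ g : G, σ (F g : ℂ) = (F (g ^ k) : ℂ) := fun g => by
          simp only [hF, map_sum, map_mul, map_natCast]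
          exact Finset.sum_congr rfl fun φ _ => by rw [hkσ _ (isCharacter_of_isIrr φ.2) g]
        rw [map_prod, Finset.prod_congr rfl (fun g _ => hσF g)]
        refine Finset.prod_equiv (powCoprime (G := G) (n := k) hk.symm) (fun g => ?_) (fun g _ => rfl)
        simp only [S, Finset.mem_filter, Finset.mem_univ, true_and, powCoprime_apply]
        exact ⟨fun h h' => h (mem_of_coprime_pow_mem hk h'), fun h h' => h (pow_mem h' k)⟩
    have hnorm : ∀ {H : Type _} [Group H] [Fintype H] (f : H → ℂ),
        ((∑ h : H, Complex.normSq (f h) : ℝ) : ℂ) = (Nat.card H : ℂ) * Cfsg.classInner f f := by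
      intro H _ _ f
      rw [card_mul_classInner]
      push_cast
      exact Finset.sum_congr rfl fun h _ => (Complex.mul_conj _).symm
    have htot : ∑ g : G, F g = (Nat.card G : ℝ) := by
      have hshift : ∀ n : N, ∑ g : G, Complex.normSq ((χ : G → ℂ) ((n : G) * g)) =
          ∑ g : G, Complex.normSq ((χ : G → ℂ) g) :=
        fun n => Fintype.sum_equiv (Equiv.mulLeft (n : G)) _ _ (fun g => rfl)
      have h := hnorm (χ : G → ℂ)
      rw [classInner_irr_self χ.2, mul_one] at h
      have h' : ∑ g : G, Complex.normSq ((χ : G → ℂ) g) = (Nat.card G : ℝ) := by exact_mod_cast h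
      simp only [F, ← Finset.mul_sum]
      rw [Finset.sum_comm, Finset.sum_congr rfl (fun n _ => hshift n), Finset.sum_const,
        Finset.card_univ, nsmul_eq_mul, ← Nat.card_eq_fintype_card, h', ← mul_assoc,
        inv_mul_cancel₀ (by exact_mod_cast Nat.card_pos.ne'), one_mul]
    obtain ⟨m, hm⟩ := classInner_char_nat (isCharacter_res N hχ) (isCharacter_res N hχ)
    have hN : ∀ g ∈ N, F g = (m : ℝ) := by
      intro g hg
      have h := hnorm (fun n : N => (χ : G → ℂ) n)
      rw [hm] at h
      have h' : ∑ n : N, Complex.normSq ((χ : G → ℂ) n) = (Nat.card N : ℝ) * (m : ℝ) := by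
        exact_mod_cast h
      simp only [F]
      have e1 : ∑ n : N, Complex.normSq ((χ : G → ℂ) ((n : G) * g)) =
          ∑ n : N, Complex.normSq ((χ : G → ℂ) (n : G)) :=
        Fintype.sum_equiv (Equiv.mulRight (⟨g, hg⟩ : N)) _ _ (fun n => rfl)
      rw [e1, h', ← mul_assoc,
        inv_mul_cancel₀ (by exact_mod_cast Nat.card_pos.ne'), one_mul]
    have hm0 : m ≠ 0 := by
      intro h0
      have h1 := hpos 1
      rw [hN 1 (one_mem N), h0] at h1
      simp at h1
    have hm1 : m ≠ 1 := fun h1 => hred (irr_of_norm_one (isCharacter_res N hχ) (by rw [hm, h1, Nat.cast_one]))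
    have hsplit := Finset.sum_filter_add_sum_filter_not Finset.univ (fun g : G => g ∈ N) F
    rw [htot, Finset.sum_congr rfl (fun g hg => hN g (Finset.mem_filter.mp hg).2),
      Finset.sum_const, nsmul_eq_mul] at hsplit
    have hc := Finset.card_filter_add_card_filter_not (s := (Finset.univ : Finset G)) (p := (· ∈ N))
    rw [Finset.card_univ, ← Nat.card_eq_fintype_card, ← hS] at hc
    rw [← hS] at hsplit
    set A := (Finset.univ.filter fun g : G => g ∈ N).card
    have hA : 0 < A := Finset.card_pos.mpr ⟨1, by simp⟩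
    have hc' : (A : ℝ) + (S.card : ℝ) = (Nat.card G : ℝ) := by exact_mod_cast hc
    have h2 : (2 : ℝ) ≤ (m : ℝ) := by exact_mod_cast (show 2 ≤ m by omega)
    have : (0 : ℝ) < A := by exact_mod_cast hA
    nlinarith
  · rintro ⟨x, hx⟩ hirr
    have h := sum_normSq_coset N hχ hirr x
    rw [Finset.sum_eq_zero] at h
    · exact card_ne_zero' h.symm
    · intro n _
      rw [char_mul_comm' hχ, hx]
      simp

end Cfsg.Agent.S4996
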