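import Cfsg.Statements.S4997
import Cfsg.Agent.Lib.Cores.CoprimeGen
import Cfsg.Agent.Lib.Cores.Coprime
import Cfsg.Agent.Lib.Solvable.Fitting
import Cfsg.Agent.Lib.CharBlocks.Primitive
import Cfsg.Agent.Lib.CharNormal.TwoDegrees

set_option autoImplicit false
open Cfsg

namespace Cfsg.Agent.S4997

open CfsgLib.Char CfsgLib.CharNormal
open scoped commutatorElement

/-- An abelian `p`-group acting coprimely on an abelian group has a regular orbit modulo the kernel. -/
theorem exists_regular {A D : Type*} [CommGroup A] [CommGroup D] [Finite A] [Finite D] {p m : ℕ}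
    (hm : ∀ d : D, d ^ m = 1) (hco : Nat.Coprime p m) (hA : ∀ a : A, a ^ p = 1) (φ : A →* MulAut D) :
    ∀ W : Subgroup D, (∀ a, ∀ w ∈ W, φ a w ∈ W) →
      ∃ d ∈ W, ∀ a, φ a d = d → ∀ w ∈ W, φ a w = w := by
  classical
  intro W
  induction W using WellFoundedLT.induction with
  | _ W ih =>
  intro hW
  by_cases hsplit : ∃ a, (∃ w ∈ W, φ a w ≠ w) ∧ ∃ w ∈ W, w ≠ 1 ∧ φ a w = w
  · obtain ⟨a, ⟨u, huW, hu⟩, v, hvW, hv1, hv⟩ := hsplit
    let δ : ↥W →* D := ((φ a).toMonoidHom / MonoidHom.id D).comp W.subtype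
    have hδ : ∀ w : W, δ w = φ a w / w := fun w => rfl
    let W₁ : Subgroup D := δ.ker.map W.subtype
    let W₂ : Subgroup D := δ.range
    have hW₁ : ∀ w, w ∈ W₁ ↔ w ∈ W ∧ φ a w = w := fun w => by
      constructor
      · rintro ⟨x, hx, rfl⟩
        exact ⟨x.2, div_eq_one.1 ((hδ x).symm.trans (MonoidHom.mem_ker.1 hx))⟩
      · exact fun ⟨h1, h2⟩ => ⟨⟨w, h1⟩, MonoidHom.mem_ker.2 ((hδ _).trans (div_eq_one.2 h2)), rfl⟩
    have hW₂W : W₂ ≤ W := by
      rintro _ ⟨w, rfl⟩
      rw [hδ]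
      exact div_mem (hW a w w.2) w.2
    have hcm : ∀ b w, φ a (φ b w) = φ b (φ a w) := fun b w => by
      rw [← MulAut.mul_apply, ← map_mul, mul_comm, map_mul, MulAut.mul_apply]
    have hW₁inv : ∀ b, ∀ w ∈ W₁, φ b w ∈ W₁ := fun b w hw => by
      rw [hW₁] at hw ⊢
      exact ⟨hW b w hw.1, by rw [hcm, hw.2]⟩
    have hW₂inv : ∀ b, ∀ w ∈ W₂, φ b w ∈ W₂ := by
      rintro b _ ⟨w, rfl⟩
      exact ⟨⟨φ b w, hW b w w.2⟩, by rw [hδ, hδ]; show φ a (φ b w) / φ b w = _; rw [hcm, map_div]⟩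
    have hinf : ∀ x, x ∈ W₁ → x ∈ W₂ → x = 1 := by
      intro x h1 h2
      obtain ⟨y, rfl⟩ := h2
      have hfix := ((hW₁ _).1 h1).2
      have hy : φ a (y : D) = δ y * y := by rw [hδ, div_mul_cancel]
      have key : ∀ j : ℕ, φ (a ^ j) (y : D) = δ y ^ j * y := by
        intro j
        induction j with
        | zero => simp
        | succ j ihj =>
          rw [pow_succ', map_mul, MulAut.mul_apply, ihj, map_mul, map_pow, hfix, hy, pow_succ, mul_assoc]
      have h3 := key p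
      rw [hA, map_one, MulAut.one_apply, right_eq_mul] at h3
      exact orderOf_eq_one_iff.1 (Nat.eq_one_of_dvd_coprimes hco
        (orderOf_dvd_of_pow_eq_one h3) (orderOf_dvd_of_pow_eq_one (hm _)))
    have hW₁lt : W₁ < W := by
      refine lt_of_le_of_ne (fun w hw => ((hW₁ w).1 hw).1) fun h => hu ?_
      exact ((hW₁ u).1 (h.symm ▸ huW)).2
    have hW₂lt : W₂ < W := lt_of_le_of_ne hW₂W fun h =>
      hv1 (hinf v ((hW₁ v).2 ⟨hvW, hv⟩) (h.symm ▸ hvW))
    obtain ⟨d₁, hd₁, h₁⟩ := ih W₁ hW₁lt hW₁inv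
    obtain ⟨d₂, hd₂, h₂⟩ := ih W₂ hW₂lt hW₂inv
    let μ : ↥W₁ × ↥W₂ →* ↥W :=
      (Subgroup.inclusion hW₁lt.le).coprod (Subgroup.inclusion hW₂lt.le)
    have hμinj : Function.Injective μ := by
      rw [injective_iff_map_eq_one]
      rintro ⟨x, y⟩ h
      have h' : (x : D) * y = 1 := congrArg Subtype.val h
      have hx : (x : D) = 1 := hinf x x.2 (by rw [eq_inv_of_mul_eq_one_left h']; exact inv_mem y.2)
      rw [hx, one_mul] at h'
      exact Prod.ext (Subtype.ext hx) (Subtype.ext h')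
    have hcard : Nat.card (↥W₁ × ↥W₂) = Nat.card W := by
      have h1 := Subgroup.card_mul_index δ.ker
      rw [Subgroup.index_ker] at h1
      rw [Nat.card_prod, Subgroup.card_map_of_injective W.subtype_injective]
      exact h1
    have hμs : Function.Surjective μ := ((Nat.bijective_iff_injective_and_card μ).2 ⟨hμinj, hcard⟩).2
    refine ⟨d₁ * d₂, mul_mem (hW₁lt.le hd₁) (hW₂lt.le hd₂), fun b hb w hw => ?_⟩
    rw [map_mul] at hb
    have e1 : φ b d₁ / d₁ = d₂ / φ b d₂ := by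
      rw [div_eq_div_iff_mul_eq_mul, hb, mul_comm]
    have e2 : φ b d₁ / d₁ = 1 :=
      hinf _ (div_mem (hW₁inv b d₁ hd₁) hd₁) (e1 ▸ div_mem hd₂ (hW₂inv b d₂ hd₂))
    have f1 := h₁ b (div_eq_one.1 e2)
    have f2 := h₂ b (div_eq_one.1 (e1.symm.trans e2)).symm
    obtain ⟨⟨x, y⟩, hxy⟩ := hμs ⟨w, hw⟩
    have hw' : (x : D) * y = w := congrArg Subtype.val hxy
    rw [← hw', map_mul, f1 x x.2, f2 y y.2]
  · push Not at hsplit
    by_cases hbot : ∃ d ∈ W, d ≠ 1
    · obtain ⟨d, hd, hd1⟩ := hbot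
      exact ⟨d, hd, fun a ha => by
        by_contra! h
        obtain ⟨w, hw, hne⟩ := h
        exact hsplit a ⟨w, hw, hne⟩ d hd hd1 ha⟩
    · push Not at hbot
      exact ⟨1, one_mem W, fun a _ w hw => by rw [hbot w hw, map_one]⟩

/-- A character vanishes at `x` if no conjugate of `x` fixes a constituent below. -/
theorem eq_zero_of_no_fix {G : Type*} [Group G] [Fintype G] {U : Subgroup G} [U.Normal] [Fintype U]
    {θ : U → ℂ} (hθ : Cfsg.IsIrrCharacter U θ) {χ : G → ℂ} (hχ : Cfsg.IsIrrCharacter G χ)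
    (h0 : Cfsg.classInner (fun n : U => χ n) θ ≠ 0) {x : G}
    (hx : ∀ g : G, conjFun U (g⁻¹ * x * g) θ ≠ θ) : χ x = 0 := by
  classical
  have := Fintype.ofFinite (inertia U θ)
  obtain ⟨ψ, -, hind, -⟩ := clifford_correspondence U hθ (inertia U θ) (fun g => mem_inertia U)
    (le_inertia U (isClassFunction_of_isIrr hθ)) hχ h0
  rw [← hind]
  exact indFun_eq_zero_of_forall (inertia U θ) fun g hg => absurd ((mem_inertia U).1 hg) (hx g)

/-- The reduced case. -/
theorem core_case {G : Type*} [Group G] [Finite G] [Group.IsSolvable G] (p : ℕ) [Fact p.Prime]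
    (hO : Cfsg.pCore p G = ⊥)
    (hcl : ∀ x y : G, p ∣ orderOf x → (∃ χ : Cfsg.IrrCharacter G, (χ : G → ℂ) x = 0) →
      p ∣ orderOf y → (∃ χ : Cfsg.IrrCharacter G, (χ : G → ℂ) y = 0) → IsConj x y)
    (S : Sylow p G) : Nat.card (S : Subgroup G) ≤ p := by
  classical
  have := Fintype.ofFinite G
  have hp : p.Prime := Fact.out
  set N := Cfsg.pPrimeCore p G with hN
  have hNn : N.Normal := Subgroup.sSup_normal _ fun _ h => h.1
  have hNco : (Nat.card N).Coprime p := CfsgLib.Cores.coprime_card_pPrimeCore p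
  let π := QuotientGroup.mk' N
  have hπs : Function.Surjective π := QuotientGroup.mk'_surjective N
  set T := Cfsg.pCore p (G ⧸ N) with hTdef
  have hTn : T.Normal := Cfsg.pCore_normal p _
  have hTp : IsPGroup p T := CfsgLib.Cores.isPGroup_pCore p
  have hCT : Subgroup.centralizer (T : Set (G ⧸ N)) ≤ T :=
    CfsgLib.Solvable.centralizer_pCore_le p (CfsgLib.Cores.pPrimeCore_quotient_self p)
  have hSN : (S : Subgroup G) ⊓ N = ⊥ := by
    obtain ⟨k, hk⟩ := IsPGroup.iff_card.1 S.2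
    exact Subgroup.inf_eq_bot_of_coprime (by rw [hk]; exact hNco.symm.pow_left k)
  have hScard : Nat.card (S : Subgroup G) = Nat.card ((S : Subgroup G).map π) := by
    refine (Nat.card_congr (Equiv.ofBijective (π.subgroupMap (S : Subgroup G)) ⟨?_, π.subgroupMap_surjective _⟩))
    rw [injective_iff_map_eq_one]
    intro x hx
    have : (x : G) ∈ (S : Subgroup G) ⊓ N := ⟨x.2, (QuotientGroup.eq_one_iff _).1 (congrArg Subtype.val hx)⟩
    rw [hSN, Subgroup.mem_bot] at this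
    exact Subtype.ext this
  by_cases hT : T = ⊥
  · rw [hT] at hCT
    have htriv : ∀ x : G ⧸ N, x = 1 := fun x => Subgroup.mem_bot.1 (hCT (Subgroup.mem_centralizer_iff.2
      fun y hy => by rw [Subgroup.coe_bot, Set.mem_singleton_iff] at hy; rw [hy, one_mul, mul_one]))
    rw [hScard, Subgroup.card_eq_one.2 ((Subgroup.eq_bot_iff_forall _).2 fun x _ => htriv x)]
    exact hp.one_le
  -- elements of order `p` in the centre of `T`
  let T₀ : Subgroup (G ⧸ N) :=
    { carrier := {x | x ∈ T ∧ (∀ y ∈ T, y * x = x * y) ∧ x ^ p = 1}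
      one_mem' := ⟨one_mem T, fun y _ => by simp, one_pow p⟩
      mul_mem' := fun {x y} ⟨hx, hx', hx''⟩ ⟨hy, hy', hy''⟩ => ⟨mul_mem hx hy, fun z hz => by
          rw [← mul_assoc, hx' z hz, mul_assoc, hy' z hz, mul_assoc],
        by rw [(show Commute x y from hy' x hx).mul_pow, hx'', hy'', one_mul]⟩
      inv_mem' := fun {x} ⟨hx, hx', hx''⟩ => ⟨inv_mem hx,
        fun z hz => (Commute.inv_right (hx' z hz)), by rw [inv_pow, hx'', inv_one]⟩ }
  have hT₀ : ∀ x, x ∈ T₀ ↔ x ∈ T ∧ (∀ y ∈ T, y * x = x * y) ∧ x ^ p = 1 := fun x => Iff.rfl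
  have hT₀n : T₀.Normal := ⟨fun x hx g => by
    obtain ⟨hx, hx', hx''⟩ := (hT₀ x).1 hx
    refine (hT₀ _).2 ⟨hTn.conj_mem x hx g, fun y hy => ?_, by rw [conj_pow, hx'', mul_one, mul_inv_cancel]⟩
    have h := hx' (g⁻¹ * y * g) (by simpa using hTn.conj_mem y hy g⁻¹)
    calc y * (g * x * g⁻¹) = g * ((g⁻¹ * y * g) * x) * g⁻¹ := by group
      _ = g * (x * (g⁻¹ * y * g)) * g⁻¹ := by rw [h]
      _ = g * x * g⁻¹ * y := by group⟩
  have hT₀bot : T₀ ≠ ⊥ := by
    intro h
    have hnt : Nontrivial T := T.nontrivial_iff_ne_bot.2 hT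
    have := hTp.center_nontrivial
    obtain ⟨z, hz⟩ := exists_prime_orderOf_dvd_card' (G := Subgroup.center T) p
      (((hTp.to_subgroup _).card_eq_or_dvd).resolve_left Finite.one_lt_card.ne')
    have hz' : orderOf ((z : T) : G ⧸ N) = p := by rw [Subgroup.orderOf_coe, Subgroup.orderOf_coe, hz]
    have : ((z : T) : G ⧸ N) ∈ T₀ := ⟨(z : T).2,
      fun y hy => congrArg Subtype.val (Subgroup.mem_center_iff.1 z.2 ⟨y, hy⟩), by rw [← hz', pow_orderOf_eq_one]⟩
    rw [h, Subgroup.mem_bot] at this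
    rw [this, orderOf_one] at hz'
    exact hp.one_lt.ne hz'
  -- the elementary abelian group `A` above `T₀`
  set M := T₀.comap π with hM
  have hMn : M.Normal := hT₀n.comap π
  set A := (S : Subgroup G) ⊓ M with hA
  have hAπ : ∀ a ∈ A, π a ∈ T₀ := fun a ha => (Subgroup.mem_inf.1 ha).2
  have hAinj : ∀ a ∈ A, π a = 1 → a = 1 := fun a ha h => by
    have : a ∈ (S : Subgroup G) ⊓ N := ⟨(Subgroup.mem_inf.1 ha).1, (QuotientGroup.eq_one_iff a).1 h⟩
    rwa [hSN, Subgroup.mem_bot] at this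
  have hAel : Cfsg.IsElementaryAbelian p A :=
    ⟨⟨⟨fun a b => Subtype.ext (by
        have hab : π (⁅(a : G), (b : G)⁆) = 1 := by
          rw [map_commutatorElement, commutatorElement_eq_one_iff_mul_comm]
          exact ((hT₀ _).1 (hAπ b b.2)).2.1 _ ((hT₀ _).1 (hAπ a a.2)).1
        exact commutatorElement_eq_one_iff_mul_comm.1 (hAinj _
          (by rw [commutatorElement_def]; exact mul_mem (mul_mem (mul_mem a.2 b.2) (inv_mem a.2)) (inv_mem b.2))
          hab))⟩⟩,
      fun a ha => hAinj _ (pow_mem ha p) (by rw [map_pow, ((hT₀ _).1 (hAπ a ha)).2.2])⟩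
  have hAlift : ∀ t ∈ T₀, ∃ a ∈ A, π a = t := by
    intro t ht
    have hS' : t ∈ (S : Subgroup G).map π := by
      have := CfsgLib.Cores.pCore_le_sylow (S.mapSurjective hπs) ((hT₀ t).1 ht).1
      exact this
    obtain ⟨a, ha, rfl⟩ := hS'
    exact ⟨a, ⟨ha, ht⟩, rfl⟩
  have hfaith : ∀ a ∈ A, (∀ n ∈ N, n * a = a * n) → a = 1 := by
    intro a ha h
    have hF : Cfsg.fittingSubgroup G ≤ N := by
      refine CfsgLib.Cores.fittingSubgroup_le_iSup_pCore.trans (iSup_le fun r => ?_)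
      have : Fact (r : ℕ).Prime := ⟨Nat.prime_of_mem_primeFactors r.2⟩
      by_cases hr : (r : ℕ) = p
      · rw [hr, hO]; exact bot_le
      · have : (Cfsg.pCore (r : ℕ) G).Normal := Cfsg.pCore_normal _ _
        refine CfsgLib.Cores.le_pPrimeCore ?_
        obtain ⟨j, hj⟩ := CfsgLib.Cores.card_pCore_eq_pow (G := G) (r : ℕ)
        rw [hj]
        exact ((Nat.coprime_primes Fact.out hp).2 hr).pow_left j
    have haF := CfsgLib.Solvable.centralizer_fittingSubgroup_le
      (Subgroup.mem_centralizer_iff.2 fun x hx => h x (hF hx))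
    exact hAinj a ha ((QuotientGroup.eq_one_iff a).2 (hF haF))
  obtain ⟨a₀, ha₀, ha₀1⟩ : ∃ a ∈ A, a ≠ 1 := by
    obtain ⟨t, ht, ht1⟩ := (Subgroup.bot_or_exists_ne_one T₀).resolve_left hT₀bot  
    obtain ⟨a, ha, rfl⟩ := hAlift t ht
    exact ⟨a, ha, fun h => ht1 (by rw [h, map_one])⟩
  -- a section `U/U'` of `N` moved by `A`
  obtain ⟨U, ⟨hUn, hUN, hUc⟩, hUmin⟩ := (Set.toFinite {U : Subgroup G | U.Normal ∧ U ≤ N ∧
      ∀ n ∈ N, ∀ a ∈ A, ⁅n, a⁆ ∈ U}).exists_minimal ⟨N, hNn, le_rfl, fun n hn a _ => by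
    rw [commutatorElement_def, show n * a * n⁻¹ * a⁻¹ = n * (a * n⁻¹ * a⁻¹) by group]
    exact mul_mem hn (hNn.conj_mem _ (inv_mem hn) a)⟩
  set W := ⁅U, U⁆ with hW
  have hWn : W.Normal := Subgroup.commutator_normal U U
  have hU1 : U ≠ ⊥ := fun h => ha₀1 (hfaith a₀ ha₀ fun n hn => by
    have := hUc n hn a₀ ha₀
    rw [h, Subgroup.mem_bot, commutatorElement_eq_one_iff_mul_comm] at this
    exact this)
  have hmove : ∃ a ∈ A, ∃ u ∈ U, ⁅a, u⁆ ∉ W := by
    by_contra! hall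
    have hWlt : W < U := Group.IsSolvable.commutator_lt_of_ne_bot hU1
    refine hWlt.not_ge (hUmin ⟨hWn, hWlt.le.trans hUN, fun n hn a ha => ?_⟩ hWlt.le)
    let ρ := QuotientGroup.mk' W
    have hz := hUc n hn a ha
    have hz1 : ρ ⁅n, a⁆⁻¹ = 1 := by
      have h1 : ρ a * ρ n * (ρ a)⁻¹ = ρ n * ρ (n⁻¹ * ⁅n, a⁆⁻¹ * n) := by
        rw [← map_inv, ← map_mul, ← map_mul, ← map_mul]
        exact congrArg ρ (by simp [commutatorElement_def, mul_assoc])
      have hu : n⁻¹ * ⁅n, a⁆⁻¹ * n ∈ U := by simpa using hUn.conj_mem _ (inv_mem hz) n⁻¹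
      have h2 : ρ a * ρ (n⁻¹ * ⁅n, a⁆⁻¹ * n) * (ρ a)⁻¹ = ρ (n⁻¹ * ⁅n, a⁆⁻¹ * n) := by
        have := (QuotientGroup.eq_one_iff _).2 (hall a ha _ hu)
        change ρ ⁅a, n⁻¹ * ⁅n, a⁆⁻¹ * n⁆ = 1 at this
        rw [map_commutatorElement, commutatorElement_eq_one_iff_mul_comm] at this
        rw [this, mul_inv_cancel_right]
      have hpw : ∀ j : ℕ, ρ a ^ j * ρ n * (ρ a ^ j)⁻¹ = ρ n * ρ (n⁻¹ * ⁅n, a⁆⁻¹ * n) ^ j := by
        intro j
        induction j with
        | zero => simp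
        | succ j ihj =>
          calc ρ a ^ (j + 1) * ρ n * (ρ a ^ (j + 1))⁻¹ = ρ a * (ρ a ^ j * ρ n * (ρ a ^ j)⁻¹) * (ρ a)⁻¹ := by
                rw [pow_succ']; group
            _ = ρ a * ρ n * (ρ a)⁻¹ * (ρ a * ρ (n⁻¹ * ⁅n, a⁆⁻¹ * n) * (ρ a)⁻¹) ^ j := by rw [ihj, conj_pow]; group
            _ = _ := by rw [h1, h2, mul_assoc, ← pow_succ']
      have h3 := hpw p
      rw [← map_pow, hAel.2 a ha, map_one, one_mul, inv_one, mul_one, left_eq_mul] at h3
      have h4 : ρ (n⁻¹ * ⁅n, a⁆⁻¹ * n) ^ Nat.card N = 1 := by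
        rw [← map_pow, show (n⁻¹ * ⁅n, a⁆⁻¹ * n) ^ Nat.card N = 1 from
          congrArg Subtype.val (pow_card_eq_one' (x := (⟨_, hUN hu⟩ : N))), map_one]
      have h5 : ρ (n⁻¹ * ⁅n, a⁆⁻¹ * n) = 1 := orderOf_eq_one_iff.1 (Nat.eq_one_of_dvd_coprimes hNco
        (orderOf_dvd_of_pow_eq_one h4) (orderOf_dvd_of_pow_eq_one h3))
      rw [map_mul, map_mul, map_inv ρ n] at h5
      calc ρ ⁅n, a⁆⁻¹ = ρ n * ((ρ n)⁻¹ * ρ ⁅n, a⁆⁻¹ * ρ n) * (ρ n)⁻¹ := by group
        _ = 1 := by rw [h5]; group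
    exact inv_mem_iff.1 ((QuotientGroup.eq_one_iff _).1 hz1)
  -- the linear characters of `U`
  have := Fintype.ofFinite U
  have hUhom : Finite (U →* ℂˣ) := by
    exact Finite.of_injective
      (fun (f : U →* ℂˣ) (n : U) => (⟨f n, by
        rw [mem_rootsOfUnity, ← map_pow, pow_card_eq_one', map_one]⟩ : rootsOfUnity (Nat.card U) ℂ))
      (fun f f' h => MonoidHom.ext fun n => congrArg Subtype.val (congrFun h n))
  have hDm : ∀ f : U →* ℂˣ, f ^ Nat.card U = 1 := fun f =>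
    MonoidHom.ext fun n => by rw [MonoidHom.pow_apply, ← map_pow, pow_card_eq_one', map_one]; rfl
  let act : G →* MulAut (U →* ℂˣ) :=
    { toFun := fun g =>
        { toFun := conjHom g⁻¹
          invFun := conjHom g
          left_inv := fun l => by rw [conjHom_conjHom, inv_mul_cancel, conjHom_one]
          right_inv := fun l => by rw [conjHom_conjHom, mul_inv_cancel, conjHom_one]
          map_mul' := conjHom_mul g⁻¹ }
      map_one' := MulEquiv.ext fun l => by show conjHom (1 : G)⁻¹ l = l; rw [inv_one, conjHom_one]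
      map_mul' := fun g h => MulEquiv.ext fun l => by
        show conjHom (g * h)⁻¹ l = conjHom g⁻¹ (conjHom h⁻¹ l)
        rw [conjHom_conjHom, mul_inv_rev] }
  have hact : ∀ g l (u : U), act g l u = l ⟨g⁻¹ * u * g⁻¹⁻¹, hUn.conj_mem u u.2 g⁻¹⟩ := fun g l u =>
    conjHom_apply g⁻¹ l u
  have hactU : ∀ u ∈ U, act u = 1 := fun u hu => MulEquiv.ext fun l => MonoidHom.ext fun v => by
    rw [MulAut.one_apply, hact]
    have : (⟨u⁻¹ * v * u⁻¹⁻¹, hUn.conj_mem v v.2 u⁻¹⟩ : U) = ⟨u, hu⟩⁻¹ * v * ⟨u, hu⟩⁻¹⁻¹ := Subtype.ext (by simp)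
    rw [this]
    simp only [map_mul, map_inv, inv_inv]
    rw [mul_right_comm, inv_mul_cancel, one_mul]
  have hAact : ∀ n ∈ N, ∀ a ∈ A, Commute (act n) (act a) := fun n hn a ha => by
    refine commutatorElement_eq_one_iff_mul_comm.1 ?_
    rw [← map_commutatorElement]
    exact hactU _ (hUc n hn a ha)
  have hker : ∀ a : G, act a = 1 → ∀ u ∈ U, ⁅a, u⁆ ∈ W := by
    intro a ha u hu
    let u' : U := ⟨a * u * a⁻¹, hUn.conj_mem u hu a⟩ * ⟨u, hu⟩⁻¹
    have hsep : ∀ f : U →* ℂˣ, f u' = 1 := fun f => by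
      have h := DFunLike.congr_fun (DFunLike.congr_fun ha f) ⟨a * u * a⁻¹, hUn.conj_mem u hu a⟩
      rw [MulAut.one_apply, hact] at h
      rw [map_mul, map_inv, mul_inv_eq_one, ← h]
      exact congrArg f (Subtype.ext (by simp [mul_assoc]))
    have hu' : u' ∈ commutator U := by
      by_contra hne
      have hne' : Abelianization.of u' ≠ 1 := fun h => hne ((QuotientGroup.eq_one_iff u').1 h)
      have : NeZero (Monoid.exponent (Abelianization U) : ℂ) :=
        ⟨by exact_mod_cast Monoid.exponent_ne_zero_of_finite⟩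
      obtain ⟨φ, hφ⟩ := CommGroup.exists_apply_ne_one_of_hasEnoughRootsOfUnity (Abelianization U) ℂ hne'
      exact hφ (hsep (φ.comp Abelianization.of))
    have := Subgroup.mem_map_of_mem U.subtype hu'
    rw [Subgroup.map_subtype_commutator] at this
    simpa [u', commutatorElement_def, mul_assoc] using this
  letI : CommGroup A := { (inferInstance : Group A) with mul_comm := hAel.1.is_comm.comm }
  obtain ⟨l, -, hl⟩ := exists_regular (A := ↥A) (D := ↥U →* ℂˣ) (p := p) hDm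
    ((hNco.symm).coprime_dvd_right (Subgroup.card_dvd_of_le hUN))
    (fun a => Subtype.ext (hAel.2 a a.2)) (act.comp A.subtype) ⊤ (fun _ _ _ => Subgroup.mem_top _)
  have hlfix : ∀ a ∈ A, act a l = l → act a = 1 := fun a ha h =>
    MulEquiv.ext fun f => hl ⟨a, ha⟩ h f (Subgroup.mem_top f)
  -- elements above the part of `T₀` outside the kernel fix no conjugate of `l`
  have hnofix : ∀ x : G, ∀ a ∈ A, π x = π a → act x l = l → act a = 1 := by
    intro x a ha hxa hx
    refine hlfix a ha ?_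
    set n := a⁻¹ * x
    have hn : n ∈ N := (QuotientGroup.eq_one_iff n).1 (by
      show π (a⁻¹ * x) = 1; rw [map_mul, map_inv, hxa, inv_mul_cancel])
    have hcomm := (hAact n hn a ha).symm
    have hxpow : ∀ j : ℕ, (act x ^ j) l = l := fun j => by
      induction j with
      | zero => rfl
      | succ j ihj => rw [pow_succ, MulAut.mul_apply, hx, ihj]
    have h1 : act x ^ Nat.card N = act a ^ Nat.card N := by
      rw [show x = a * n by simp [n], map_mul, hcomm.mul_pow, ← map_pow act n,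
        show n ^ Nat.card N = 1 from congrArg Subtype.val (pow_card_eq_one' (x := (⟨n, hn⟩ : N))), map_one, mul_one]
    obtain ⟨y, -, hy⟩ := Nat.exists_mul_mod_eq_one_of_coprime hNco hp.one_lt
    have h2 : act a = (act a ^ Nat.card N) ^ y := by
      conv_lhs => rw [← pow_one a, ← hy]
      rw [← pow_mul, ← map_pow]
      refine congrArg act ?_
      conv_rhs => rw [← Nat.mod_add_div (Nat.card N * y) p, pow_add, pow_mul, hAel.2 a ha, one_pow, mul_one]
    rw [h2, ← h1, ← pow_mul]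
    exact hxpow _
  have hvan : ∀ (i : ℕ) (x : G), ∀ a ∈ A, act a ≠ 1 → π (x ^ i) = π a →
      ∃ χ : Cfsg.IrrCharacter G, (χ : G → ℂ) x = 0 := by
    intro i x a ha hane hxa
    have hθ : Cfsg.IsIrrCharacter U (fun u => (l u : ℂ)) := isIrrCharacter_units_hom l
    obtain ⟨χ, hχ⟩ := exists_irr_over U hθ
    refine ⟨χ, eq_zero_of_no_fix hθ χ.2 hχ fun g hg => hane ?_⟩
    have hfix : act (g⁻¹ * x * g) l = l := by
      have h1 : conjHom (g⁻¹ * x * g) l = l := MonoidHom.ext fun u => Units.ext (by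
        have := congrFun hg u
        rw [conjFun_apply] at this
        rw [conjHom_apply]; exact this)
      show conjHom (g⁻¹ * x * g)⁻¹ l = l
      conv_lhs => rw [← h1]
      rw [conjHom_conjHom, mul_inv_cancel, conjHom_one]
    have hfix' : act (g⁻¹ * x ^ i * g) l = l := by
      have hp' : g⁻¹ * x ^ i * g = (g⁻¹ * x * g) ^ i := by
        have := conj_pow (a := g⁻¹) (b := x) (i := i)
        rw [inv_inv] at this
        exact this.symm
      rw [hp', map_pow]
      induction i with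
      | zero => simp
      | succ j => exact (show ∀ k : ℕ, (act (g⁻¹ * x * g) ^ k) l = l from fun k => by
          induction k with
          | zero => rfl
          | succ k ihk => rw [pow_succ, MulAut.mul_apply, hfix, ihk]) _
    obtain ⟨a', ha', ha'e⟩ := hAlift _ (by simpa using hT₀n.conj_mem _ (hAπ a ha) (π g)⁻¹)
    have h2 : π (g⁻¹ * x ^ i * g) = π a' := by
      rw [ha'e, map_mul, map_mul, hxa, map_inv]
    have h3 := hnofix _ a' ha' h2 hfix'
    -- back to `a`
    have h4 : act (g * a' * g⁻¹) = 1 := by rw [map_mul, map_mul, h3, mul_one, ← map_mul, mul_inv_cancel, map_one]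
    refine hnofix (g * a' * g⁻¹) a ha ?_ (by rw [h4]; rfl)
    rw [map_mul, map_mul, ha'e, map_inv]
    group
  have hsing : ∀ (i : ℕ) (x : G), ∀ a ∈ A, a ≠ 1 → π (x ^ i) = π a → p ∣ orderOf x := by
    intro i x a ha ha1 hxa
    have h1 : orderOf (π a) = p :=
      orderOf_eq_prime ((hT₀ _).1 (hAπ a ha)).2.2 fun h => ha1 (hAinj a ha h)
    rw [← h1, ← hxa]
    exact (orderOf_map_dvd π _).trans (orderOf_pow_dvd i)
  obtain ⟨a, haA, hane⟩ : ∃ a ∈ A, act a ≠ 1 := by
    obtain ⟨a, ha, u, hu, h⟩ := hmove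
    exact ⟨a, ha, fun h' => h (hker a h' u hu)⟩
  have ha1 : a ≠ 1 := fun h => hane (by rw [h, map_one])
  have hconj : ∀ (i : ℕ) (x : G), ∀ b ∈ A, act b ≠ 1 → π (x ^ i) = π b → IsConj x a := fun i x b hb hbne hxb =>
    hcl x a (hsing i x b hb (fun h => hbne (by rw [h, map_one])) hxb) (hvan i x b hb hbne hxb)
      (hsing 1 a a haA ha1 (by rw [pow_one])) (hvan 1 a a haA hane (by rw [pow_one]))
  have hord : orderOf a = p := orderOf_eq_prime (hAel.2 a haA) ha1
  have hconjord : ∀ {x y : G}, IsConj x y → orderOf x = orderOf y := fun {x y} h => by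
    obtain ⟨c, rfl⟩ := isConj_iff.1 h
    exact (MulEquiv.orderOf_eq (MulAut.conj c) x).symm
  -- fixed point free
  have hfpf : ∀ b ∈ A, act b ≠ 1 → N ⊓ Subgroup.centralizer ({b} : Set G) = ⊥ := by
    intro b hb hbne
    refine (Subgroup.eq_bot_iff_forall _).2 fun n hn => ?_
    obtain ⟨hnN, hnb⟩ := Subgroup.mem_inf.1 hn
    rw [Subgroup.mem_centralizer_singleton_iff] at hnb
    have h1 := hconjord (hconj 1 (b * n) b hb hbne (by
      rw [pow_one, map_mul, show π n = 1 from (QuotientGroup.eq_one_iff n).2 hnN, mul_one]))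
    have hob : orderOf b = p := orderOf_eq_prime (hAel.2 b hb) fun h => hbne (by rw [h, map_one])
    have hco : (orderOf b).Coprime (orderOf n) := by
      rw [hob]
      exact hNco.symm.coprime_dvd_right (Subgroup.orderOf_dvd_natCard N hnN)
    rw [(show Commute b n from hnb.symm).orderOf_mul_eq_mul_orderOf_of_coprime hco, hord, hob] at h1
    exact orderOf_eq_one_iff.1 (mul_left_cancel₀ hp.ne_zero (h1.trans (mul_one p).symm))
  have hAN : A ≤ Subgroup.normalizer (N : Set G) := fun x _ => by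
    rw [Subgroup.normalizer_eq_top N]; exact Subgroup.mem_top x
  let K : Subgroup G := A ⊓ act.ker
  have hKA : K ≤ A := inf_le_left
  have hfree : ∀ b ∈ A, b ≠ 1 → act b ≠ 1 := by
    intro b hb hb1 hb'
    refine hb1 (hfaith b hb fun n hn => ?_)
    have hle := CfsgLib.Cores.le_of_hyperplanes (R := Subgroup.centralizer (K : Set G)) hAel hNco hAN
      fun B hBA hidx => by
        by_cases hBK : B ≤ K
        · -- `K` is then the only candidate of its size
          have hKB : K ≤ B := by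
            have h1 := Subgroup.relIndex_mul_relIndex B K A hBK hKA
            have h2 : K.relIndex A ≠ 1 := fun h => hane
              (MonoidHom.mem_ker.1 (Subgroup.mem_inf.1 (Subgroup.relIndex_eq_one.1 h haA)).2)
            have h3 : B.relIndex A ∣ Nat.card A := Subgroup.relIndex_dvd_card B A
            obtain ⟨j, hj⟩ := IsPGroup.iff_card.1 (S.2.to_le (inf_le_left : A ≤ (S : Subgroup G)))
            rw [hj] at h3
            obtain ⟨i, -, hi⟩ := (Nat.dvd_prime_pow hp).1 h3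
            have hi1 : i ≤ 1 := (Nat.pow_le_pow_iff_right hp.one_lt).1 (by rw [← hi, pow_one]; exact hidx)
            refine Subgroup.relIndex_eq_one.1 ?_
            interval_cases i
            · rw [pow_zero] at hi
              exact Nat.eq_one_of_mul_eq_one_right (h1.trans hi)
            · rw [pow_one] at hi
              rcases (Nat.dvd_prime hp).1 (Dvd.intro_left _ (h1.trans hi)) with h | h
              · exact absurd h h2
              · rw [hi, h] at h1
                exact (Nat.mul_eq_right hp.ne_zero).1 h1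
          exact le_trans inf_le_right (Subgroup.centralizer_le hKB)
        · obtain ⟨c, hcB, hcK⟩ := SetLike.not_le_iff_exists.1 hBK
          refine le_trans (le_of_le_of_eq ?_ (hfpf c (hBA hcB) fun h => hcK ⟨hBA hcB, MonoidHom.mem_ker.2 h⟩)) bot_le
          exact inf_le_inf_left _ (Subgroup.centralizer_le (Set.singleton_subset_iff.2 hcB))
    exact (Subgroup.mem_centralizer_iff.1 (hle hn) b ⟨hb, MonoidHom.mem_ker.2 hb'⟩).symm
  have hN1 : N ≠ ⊥ := fun h => ha1 (hfaith a haA fun n hn => by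
    rw [h, Subgroup.mem_bot] at hn
    rw [hn, one_mul, mul_one])
  have hAcard : Nat.card A = p := by
    by_contra hne
    refine hN1 (le_bot_iff.1 (CfsgLib.Cores.le_of_hyperplanes (R := ⊥) hAel hNco hAN fun B hBA hidx => ?_))
    obtain ⟨b, hbB, hb1⟩ : ∃ b ∈ B, b ≠ 1 := by
      refine (Subgroup.bot_or_exists_ne_one B).resolve_left fun hB => hne ?_
      rw [hB, Subgroup.relIndex_bot_left] at hidx
      obtain ⟨j, hj⟩ := IsPGroup.iff_card.1 (S.2.to_le (inf_le_left : A ≤ (S : Subgroup G)))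
      have h2 : p ∣ Nat.card A := hord ▸ Subgroup.orderOf_dvd_natCard A haA
      exact le_antisymm hidx (Nat.le_of_dvd Nat.card_pos h2)
    exact le_of_le_of_eq (inf_le_inf_left _ (Subgroup.centralizer_le (Set.singleton_subset_iff.2 hbB)))
      (hfpf b (hBA hbB) (hfree b (hBA hbB) hb1))
  have hT₀card : Nat.card T₀ = p := by
    rw [← hAcard]
    refine (Nat.card_congr (Equiv.ofBijective (fun b : A => (⟨π b, hAπ b b.2⟩ : T₀)) ⟨fun b c h => ?_, fun t => ?_⟩)).symm
    · have h' : π (b : G) = π c := congrArg Subtype.val h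
      exact Subtype.ext (mul_inv_eq_one.1 (hAinj _ (mul_mem b.2 (inv_mem c.2))
        (by rw [map_mul, map_inv, h', mul_inv_cancel])))
    · obtain ⟨b, hb, hbe⟩ := hAlift t t.2
      exact ⟨⟨b, hb⟩, Subtype.ext hbe⟩
  -- `Z(T) = T₀`
  have hcenT : ∀ z ∈ T, (∀ y ∈ T, y * z = z * y) → z ∈ T₀ := by
    intro z hz hzc
    obtain ⟨j, hj⟩ := IsPGroup.iff_orderOf.1 hTp ⟨z, hz⟩
    rw [← Subgroup.orderOf_coe] at hj
    rcases Nat.lt_or_ge j 2 with h | h
    · refine (hT₀ z).2 ⟨hz, hzc, orderOf_dvd_iff_pow_eq_one.1 (hj ▸ ?_)⟩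
      interval_cases j
      · rw [pow_zero]; exact one_dvd p
      · rw [pow_one]
    exfalso
    obtain ⟨x, hx⟩ := hπs z
    set i := p ^ (j - 1) with hi
    have hzi : z ^ i ∈ T₀ := (hT₀ _).2 ⟨pow_mem hz _, fun y hy => ((show Commute y z from hzc y hy).pow_right _).eq,
      by rw [← pow_mul, hi, ← pow_succ, show j - 1 + 1 = j by omega, ← hj, pow_orderOf_eq_one]⟩
    obtain ⟨b, hb, hbe⟩ := hAlift _ hzi
    have hb1 : b ≠ 1 := fun h => by
      rw [h, map_one] at hbe
      have := orderOf_dvd_of_pow_eq_one hbe.symm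
      rw [hj, hi, Nat.pow_dvd_pow_iff_le_right hp.one_lt] at this
      omega
    have hc := hconj i x b hb (hfree b hb hb1) (by rw [map_pow, hx, hbe])
    obtain ⟨c, hc'⟩ := isConj_iff.1 hc
    have h' : orderOf z ∣ p := by
      rw [← hx, ← (hconjord hc).trans hord]
      exact orderOf_map_dvd π x
    rw [hj] at h'
    have := Nat.le_of_dvd hp.pos h'
    have h2 : p ^ 2 ≤ p ^ j := Nat.pow_le_pow_right hp.pos h
    nlinarith [hp.one_lt]
  -- `T = T₀`
  have hTT₀ : T ≤ T₀ := by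
    by_contra hne
    obtain ⟨y, hy, hyT₀, hyc⟩ := CfsgLib.CharBlocks.Primitive.exists_commutator_mem (Z := T₀) hTp le_rfl
      (fun s _ x hx => hTn.conj_mem x hx s) hne
    obtain ⟨s, hs, hsy⟩ : ∃ s ∈ T, s * y ≠ y * s := by
      by_contra! h
      exact hyT₀ (hcenT y hy h)
    set z := ⁅s, y⁆ with hz
    have hzT : z ∈ T₀ := by
      rw [hz, ← commutatorElement_inv]
      exact inv_mem (hyc s hs)
    have hz1 : z ≠ 1 := fun h => hsy (commutatorElement_eq_one_iff_mul_comm.1 h)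
    have := Fintype.ofFinite (G ⧸ N)
    have := Fintype.ofFinite T
    have hT₀T : T₀ ≤ T := fun x hx => ((hT₀ x).1 hx).1
    let z' : T := ⟨z, hT₀T hzT⟩
    obtain ⟨ψ, hψ⟩ : ∃ ψ : Cfsg.IrrCharacter T, (ψ : T → ℂ) z' ≠ (ψ : T → ℂ) 1 := by
      by_contra! h
      exact hz1 (congrArg Subtype.val (isConj_one_left.1 ((isConj_iff_forall_irr z' 1).2 h)) : _)
    obtain ⟨χ₁, hχ₁⟩ := exists_irr_over T ψ.2
    have hz₀ : ∀ w ∈ T₀, w ≠ 1 → ∀ v ∈ T₀, v ∈ Subgroup.zpowers w := fun w hw hw1 v hv => by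
      have : Fact (Nat.card T₀).Prime := ⟨hT₀card.symm ▸ hp⟩
      have h := mem_zpowers_of_prime_card (G := T₀) hT₀card (g := (⟨w, hw⟩ : T₀)) (g' := ⟨v, hv⟩)
        (fun h => hw1 (congrArg Subtype.val h))
      obtain ⟨e, he⟩ := h
      exact ⟨e, congrArg Subtype.val he⟩
    have hzero : ∀ φ ∈ orbit T ψ, (φ : T → ℂ) ⟨y, hy⟩ = 0 := by
      intro φ hφ
      obtain ⟨g, hg⟩ := (mem_orbit T).1 hφ
      have hφz : (φ : T → ℂ) z' ≠ (φ : T → ℂ) 1 := by
        intro h
        rw [← hg, conjFun_apply, conjFun_apply_one] at h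
        refine hψ ?_
        have hc := isCharacter_of_isIrr ψ.2
        have hmem : (⟨g * z * g⁻¹, hTn.conj_mem z (hT₀T hzT) g⟩ : T) ∈ charKer hc := h
        obtain ⟨e, he⟩ := hz₀ (g * z * g⁻¹) (hT₀n.conj_mem z hzT g) (by simpa using hz1) z hzT
        have : z' = (⟨g * z * g⁻¹, hTn.conj_mem z (hT₀T hzT) g⟩ : T) ^ e := Subtype.ext (by
          rw [Subgroup.coe_zpow]; exact he.symm)
        rw [this]
        exact zpow_mem hmem e
      have hcen : z' ∈ Subgroup.center T := Subgroup.mem_center_iff.2 fun w =>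
        Subtype.ext (((hT₀ z).1 hzT).2.1 w w.2)
      have h1 := char_center_mul φ.2 hcen ⟨y, hy⟩
      have h2 : (φ : T → ℂ) (z' * ⟨y, hy⟩) = (φ : T → ℂ) ⟨y, hy⟩ := by
        rw [show z' * ⟨y, hy⟩ = ⟨s, hs⟩ * ⟨y, hy⟩ * ⟨s, hs⟩⁻¹ from Subtype.ext (by
          show ⁅s, y⁆ * y = s * y * s⁻¹
          simp [commutatorElement_def, mul_assoc])]
        exact isClassFunction_of_isIrr φ.2 _ _
      rw [h2] at h1
      have h3 : ((φ : T → ℂ) 1 - (φ : T → ℂ) z') * (φ : T → ℂ) ⟨y, hy⟩ = 0 := by linear_combination h1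
      exact (mul_eq_zero.1 h3).resolve_left (sub_ne_zero.2 (Ne.symm hφz))
    have hχy : (χ₁ : G ⧸ N → ℂ) y = 0 := by
      have h := congrFun (res_eq_smul_sum_orbit T χ₁.2 ψ hχ₁) ⟨y, hy⟩
      rw [Pi.smul_apply, Finset.sum_apply, Finset.sum_eq_zero hzero, smul_zero] at h
      exact h
    obtain ⟨x, hx⟩ := hπs y
    obtain ⟨j, hj⟩ := IsPGroup.iff_orderOf.1 hTp ⟨y, hy⟩
    rw [← Subgroup.orderOf_coe] at hj
    change orderOf y = p ^ j at hj
    have hpy : p ∣ orderOf x := by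
      have hj0 : j ≠ 0 := fun h => hyT₀ (by
        rw [h, pow_zero] at hj; rw [orderOf_eq_one_iff.1 hj]; exact one_mem T₀)
      refine ((dvd_pow_self p hj0).trans hj.symm.dvd).trans ?_
      rw [← hx]; exact orderOf_map_dvd π x
    have hxv : ∃ χ : Cfsg.IrrCharacter G, (χ : G → ℂ) x = 0 :=
      ⟨⟨(χ₁ : G ⧸ N → ℂ) ∘ QuotientGroup.mk, isIrr_comp_mk' N χ₁.2⟩, by
        show (χ₁ : G ⧸ N → ℂ) (π x) = 0
        rw [hx, hχy]⟩
    obtain ⟨c, hc⟩ := isConj_iff.1 (hcl a x (hsing 1 a a haA ha1 (by rw [pow_one]))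
      (hvan 1 a a haA hane (by rw [pow_one])) hpy hxv)
    refine hyT₀ ?_
    rw [← hx, ← hc, map_mul, map_mul, map_inv]
    exact hT₀n.conj_mem _ (hAπ a haA) _
  have hTcard : Nat.card T = p := by
    rw [le_antisymm hTT₀ (fun x hx => ((hT₀ x).1 hx).1), hT₀card]
  -- the Sylow subgroup centralises `T`
  set S' := (S : Subgroup G).map π with hS'
  have hTS : T ≤ S' := CfsgLib.Cores.pCore_le_sylow (S.mapSurjective hπs)
  have hS'T : S' ≤ T := fun x hx => hCT (Subgroup.mem_centralizer_iff.2 fun y hy => by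
    let R := T.subgroupOf S'
    have hR : R ≠ ⊥ := fun h => hT (by
      rw [Subgroup.subgroupOf_eq_bot, disjoint_iff, inf_eq_left.2 hTS] at h; exact h)
    have hRc : Nat.card R = p := by rw [Nat.card_congr (Subgroup.subgroupOfEquivOfLe hTS).toEquiv, hTcard]
    have hne := CfsgLib.PGroup.inf_center_ne_bot (S.2.map π) R hR
    have hle : R ≤ Subgroup.center S' := by
      have : Fact (Nat.card R).Prime := ⟨hRc.symm ▸ hp⟩
      rcases Subgroup.eq_bot_or_eq_top_of_prime_card ((R ⊓ Subgroup.center S').subgroupOf R) with h | h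
      · rw [Subgroup.subgroupOf_eq_bot, disjoint_iff, inf_assoc, inf_comm (Subgroup.center S'), ← inf_assoc,
          inf_idem] at h
        exact absurd h hne
      · exact fun w hw => (Subgroup.subgroupOf_eq_top.1 h hw).2
    have := Subgroup.mem_center_iff.1 (hle (show (⟨y, hTS hy⟩ : S') ∈ R from hy)) ⟨x, hx⟩
    exact (congrArg Subtype.val this).symm)
  rw [hScard, ← hTcard]
  exact Subgroup.card_le_of_le hS'T

/-- Let p be an odd prime and G a finite solvable group with exactly one conjugacy class consisting of vanishing elements (elements at which some irreducible complex character is zero) of order divisible by p. Let P be a Sylow p-subgroup of G. Then the order of P is at most p times the order of the largest normal p-subgroup of G. -/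
theorem result {G : Type*} [Group G] [Finite G] (hsolv : Group.IsSolvable G) (p : ℕ) [Fact p.Prime] (hp : p ≠ 2) (h1 : Set.ncard {C : ConjClasses G | (∀ g ∈ C.carrier, ∃ χ : Cfsg.IrrCharacter G, (χ : G → ℂ) g = 0) ∧ ∃ g ∈ C.carrier, p ∣ orderOf g} = 1) (P : Sylow p G) : Nat.card ↥(P : Subgroup G) ≤ p * Nat.card ↥(Cfsg.pCore p G) := by
  classical
  set K := Cfsg.pCore p G with hK
  have hKn : K.Normal := Cfsg.pCore_normal p G
  let π := QuotientGroup.mk' K
  have hπs : Function.Surjective π := QuotientGroup.mk'_surjective K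
  have : Group.IsSolvable G := hsolv
  obtain ⟨C₀, hC₀⟩ := Set.ncard_eq_one.1 h1
  have hmem : ∀ x : G, p ∣ orderOf x → (∃ χ : Cfsg.IrrCharacter G, (χ : G → ℂ) x = 0) →
      ConjClasses.mk x = C₀ := by
    intro x hx hv
    refine Set.eq_of_mem_singleton (hC₀ ▸ ⟨fun g hg => ?_, x, ConjClasses.mem_carrier_mk, hx⟩)
    obtain ⟨χ, hχ⟩ := hv
    exact ⟨χ, by
      rw [CfsgLib.Char.isClassFunction_iff.1 (CfsgLib.Char.isClassFunction_of_isIrr χ.2) g x
        (ConjClasses.mk_eq_mk_iff_isConj.1 (ConjClasses.mem_carrier_iff_mk_eq.1 hg)), hχ]⟩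
  have hcl : ∀ x y : G ⧸ K, p ∣ orderOf x → (∃ χ : Cfsg.IrrCharacter (G ⧸ K), (χ : G ⧸ K → ℂ) x = 0) →
      p ∣ orderOf y → (∃ χ : Cfsg.IrrCharacter (G ⧸ K), (χ : G ⧸ K → ℂ) y = 0) → IsConj x y := by
    intro x y hx hvx hy hvy
    have lift : ∀ z : G, p ∣ orderOf (π z) → (∃ χ : Cfsg.IrrCharacter (G ⧸ K), (χ : G ⧸ K → ℂ) (π z) = 0) →
        ConjClasses.mk z = C₀ := fun z hz ⟨χ, hχ⟩ =>
      hmem z (hz.trans (orderOf_map_dvd π z))
        ⟨⟨(χ : G ⧸ K → ℂ) ∘ QuotientGroup.mk, CfsgLib.CharNormal.isIrr_comp_mk' K χ.2⟩, hχ⟩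
    obtain ⟨x, rfl⟩ := hπs x
    obtain ⟨y, rfl⟩ := hπs y
    exact MonoidHom.map_isConj π (ConjClasses.mk_eq_mk_iff_isConj.1 ((lift x hx hvx).trans (lift y hy hvy).symm))
  have hcore := core_case p (CfsgLib.Cores.pCore_quotient_self p) hcl (P.mapSurjective hπs)
  rw [Sylow.coe_mapSurjective] at hcore
  have hKP : K ≤ (P : Subgroup G) := CfsgLib.Cores.pCore_le_sylow P
  have h := Subgroup.card_mul_index ((π.comp (P : Subgroup G).subtype).ker)
  rw [Subgroup.index_ker, MonoidHom.range_comp, Subgroup.range_subtype] at h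
  have hker : (π.comp (P : Subgroup G).subtype).ker = K.subgroupOf P :=
    Subgroup.ext fun x => (QuotientGroup.eq_one_iff (x : G)).trans Iff.rfl
  rw [hker, Nat.card_congr (Subgroup.subgroupOfEquivOfLe hKP).toEquiv] at h
  rw [← h, mul_comm]
  exact Nat.mul_le_mul_right _ hcore

end Cfsg.Agent.S4997
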