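import Cfsg.Statements.S5001
import Cfsg.Agent.Lib.Blocks.Heights
import Cfsg.Agent.Lib.Char.Ortho
import Cfsg.Agent.Lib.CharBlocks.Degree
import Mathlib.GroupTheory.SpecificGroups.Cyclic
import Mathlib.GroupTheory.NoncommCoprod

set_option autoImplicit false
open Cfsg

namespace Cfsg.Agent.S5001

open CfsgLib.Blocks
open scoped ComplexConjugate

section

variable {G : Type*} [Group G] [Fintype G]

/-- If `y` centralizes `D` then the coefficients of `z ↦ θ (z y)` are algebraic integers, and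
zero off the constituents of the restriction of `θ`. -/
theorem coeff_shift_integral {θ : G → ℂ} (hθ : Cfsg.IsCharacter G θ) (D : Subgroup G) [Fintype D]
    (y : G) (hy : ∀ z ∈ D, z * y = y * z) {φ : D → ℂ} (hφ : Cfsg.IsCharacter D φ) :
    IsIntegral ℤ (Cfsg.classInner (fun z : D => θ ((z : G) * y)) φ) := by
  classical
  let W := Subgroup.zpowers y
  have := Fintype.ofFinite W
  let f : (↥D × ↥W) →* G := MonoidHom.noncommCoprod D.subtype W.subtype (fun a b => by
    obtain ⟨i, hi⟩ := Subgroup.mem_zpowers_iff.mp b.2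
    show Commute (a : G) (b : G)
    rw [← hi]
    exact (show Commute (a : G) y from hy _ a.2).zpow_right i)
  have hW : ∀ a b : W, a * b = b * a := mul_comm'
  choose m hm using fun η : Cfsg.IrrCharacter W => CfsgLib.Char.classInner_char_nat
    (CfsgLib.Char.isCharacter_comp hθ f)
    (CfsgLib.Char.isCharacter_mul (CfsgLib.Char.isCharacter_comp hφ (MonoidHom.fst D W))
      (CfsgLib.Char.isCharacter_comp (CfsgLib.Char.isCharacter_of_isIrr η.2) (MonoidHom.snd D W)))
  suffices h : Cfsg.classInner (fun z : D => θ ((z : G) * y)) φ =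
      ∑ η : Cfsg.IrrCharacter W, (η : W → ℂ) ⟨y, Subgroup.mem_zpowers y⟩ * (m η : ℂ) by
    rw [h]
    exact IsIntegral.sum _ fun η _ => (CfsgLib.Char.char_isIntegral
      (CfsgLib.Char.isCharacter_of_isIrr η.2) _).mul (isIntegral_algebraMap (R := ℤ) (x := (m η : ℤ)))
  simp only [← hm, CfsgLib.Char.classInner_def, Finset.mul_sum]
  rw [Finset.sum_comm]
  simp only [Fintype.sum_prod_type, Nat.card_prod, Function.comp_apply, Pi.mul_apply, map_mul,
    MonoidHom.coe_fst, MonoidHom.coe_snd]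
  refine Finset.sum_congr rfl fun z _ => ?_
  rw [Finset.sum_eq_single (⟨y, Subgroup.mem_zpowers y⟩ : W)]
  · have h2 := CfsgLib.Char.second_orthogonality (⟨y, Subgroup.mem_zpowers y⟩ : W) ⟨y, Subgroup.mem_zpowers y⟩
    rw [if_pos (IsConj.refl _)] at h2
    have hcz : Subgroup.centralizer ({⟨y, Subgroup.mem_zpowers y⟩} : Set W) = ⊤ :=
      eq_top_iff.mpr fun a _ => Subgroup.mem_centralizer_singleton_iff.mpr (hW _ _)
    rw [hcz, Subgroup.card_top] at h2
    have hW0 : (Nat.card W : ℂ) ≠ 0 := by exact_mod_cast Nat.card_pos.ne'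
    calc (Nat.card D : ℂ)⁻¹ * (θ ((z : G) * y) * conj (φ z))
        = (((Nat.card D * Nat.card W : ℕ) : ℂ))⁻¹ * (θ (f (z, ⟨y, Subgroup.mem_zpowers y⟩)) * conj (φ z)) *
            ∑ η : Cfsg.IrrCharacter W, (η : W → ℂ) ⟨y, Subgroup.mem_zpowers y⟩ *
              conj ((η : W → ℂ) ⟨y, Subgroup.mem_zpowers y⟩) := by
          rw [h2, show f (z, ⟨y, Subgroup.mem_zpowers y⟩) = (z : G) * y from rfl]
          push_cast
          field_simp
      _ = _ := by
          rw [Finset.mul_sum]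
          exact Finset.sum_congr rfl fun η _ => by ring
  · intro w _ hw
    have h2 := CfsgLib.Char.second_orthogonality (⟨y, Subgroup.mem_zpowers y⟩ : W) w
    rw [if_neg (fun h => hw (by
      obtain ⟨c, hc⟩ := isConj_iff.mp h
      rw [← hc, hW c _, mul_inv_cancel_right]))] at h2
    calc ∑ η : Cfsg.IrrCharacter W, (η : W → ℂ) ⟨y, Subgroup.mem_zpowers y⟩ *
          (((Nat.card D * Nat.card W : ℕ) : ℂ)⁻¹ * (θ (f (z, w)) * (conj (φ z) * conj ((η : W → ℂ) w))))
        = ((Nat.card D * Nat.card W : ℕ) : ℂ)⁻¹ * (θ (f (z, w)) * conj (φ z)) *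
            ∑ η : Cfsg.IrrCharacter W, (η : W → ℂ) ⟨y, Subgroup.mem_zpowers y⟩ * conj ((η : W → ℂ) w) := by
          rw [Finset.mul_sum]
          exact Finset.sum_congr rfl fun η _ => by ring
      _ = 0 := by rw [h2, mul_zero]
  · simp

/-- A character takes `c • θ g` at `z g` when `θ z = c θ 1` with `|c| = 1`. -/
theorem apply_scalar_mul {θ : G → ℂ} (hθ : Cfsg.IsCharacter G θ) {z : G} {c : ℂ} (hc : ‖c‖ = 1)
    (hz : θ z = θ 1 * c) (g : G) : θ (z * g) = c * θ g := by
  obtain ⟨n, ρ, rfl⟩ := hθ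
  rcases Nat.eq_zero_or_pos n with rfl | hn
  · have : ∀ x, ρ.character x = 0 := fun x => by
      show LinearMap.trace ℂ _ (ρ x) = 0
      rw [Subsingleton.elim (ρ x) 0, map_zero]
    simp [this]
  obtain ⟨ω, hω⟩ := (CfsgLib.Char.norm_character_eq_iff ρ z).mp (by
    rw [hz, norm_mul, hc, mul_one, Representation.char_one, Complex.norm_natCast])
  have h1 : ρ.character z = ω * ρ.character 1 := by
    simp [Representation.character, hω]
  have h1' : ρ.character 1 ≠ 0 := by
    rw [Representation.char_one]; simpa using hn.ne'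
  rw [hz, mul_comm] at h1
  have h2 : c = ω := mul_right_cancel₀ h1' h1
  simp [Representation.character, hω, h2, ← Module.End.one_eq_id]

end

/-- Let p be a prime, G a finite group and B a p-block of G (relative to a maximal ideal M of the algebraic integers containing p) with defect group D. Let Z be a central p-subgroup of G contained in D and λ a linear character of Z (a homomorphism to the nonzero complex numbers). Say an irreducible character χ of G lies over λ when χ(z) = χ(1)λ(z) for all z ∈ Z. If some irreducible character in B lying over λ has height zero, then λ extends to a linear character of D. -/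
theorem result {G : Type*} [Group G] [Finite G] (p : ℕ) [Fact p.Prime] (M : Ideal Cfsg.AlgInt) (hM : Cfsg.IsPModular p M) (B : Set (Cfsg.IrrCharacter G)) (hB : Cfsg.IsPBlock M B) (D : Subgroup G) (hD : Cfsg.IsDefectGroup p M B D) (Z : Subgroup G) (hZc : Z ≤ Subgroup.center G) (hZp : IsPGroup p ↥Z) (hZD : Z ≤ D) (lam : ↥Z →* ℂˣ) (χ : Cfsg.IrrCharacter G) (hχ : χ ∈ B) (hover : (∀ z : ↥Z, (χ : G → ℂ) z = (χ : G → ℂ) 1 * (lam z : ℂ))) (h0 : Cfsg.blockHeight p B (χ : G → ℂ) = 0) : (∃ μ : ↥D →* ℂˣ, ∀ z : ↥Z, μ ⟨(z : G), hZD z.2⟩ = lam z) := by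
  classical
  have := Fintype.ofFinite G
  have := Fintype.ofFinite D
  have := hM.2.1
  have hp : p.Prime := Fact.out
  obtain ⟨y, hy, hyD⟩ := isDefectGroup_iff.mp hD
  have hyc : ∀ z ∈ D, z * y = y * z := fun z hz =>
    Subgroup.mem_centralizer_singleton_iff.mp (hyD.le_centralizer hz)
  have hd := (blockDefect_eq_of_defectClass hM hB hy).1
  have hval : cval M χ y ≠ 0 := by
    rw [cval_eq_kappa_mul hM hB hχ hd.le]
    refine mul_ne_zero ((kappa_ne_zero_iff hM hB hχ).mpr h0) (mul_ne_zero ?_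
      ((isDefectClass_iff hB hχ y).mp hy).2)
    rw [tauClass, dif_pos (tau_frac_mem hM hd.le)]
    intro h
    rw [res_frac_eq_zero_iff hM (pow_ne_zero _ hp.ne_zero) Subgroup.index_ne_zero_of_finite,
      hp.factorization_pow, Finsupp.single_eq_same, hd] at h
    have := index_centralizer_factorization p y
    omega
  set ψ : D → ℂ := fun z => (χ : G → ℂ) ((z : G) * y) with hψ
  have hχc := CfsgLib.Char.isCharacter_of_isIrr χ.2
  have hψc : Cfsg.IsClassFunction D ψ := by
    intro a c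
    show (χ : G → ℂ) ((c : G) * a * (c : G)⁻¹ * y) = (χ : G → ℂ) ((a : G) * y)
    rw [← CfsgLib.Char.isClassFunction_of_isCharacter hχc ((a : G) * y) c]
    apply congrArg (χ : G → ℂ)
    calc (c : G) * a * (c : G)⁻¹ * y = (c : G) * a * ((c : G)⁻¹ * y) := by group
      _ = (c : G) * a * (y * (c : G)⁻¹) := by rw [hyc _ (D.inv_mem c.2)]
      _ = _ := by group
  obtain ⟨φ, hφc, hφ1⟩ : ∃ φ : Cfsg.IrrCharacter D,
      Cfsg.classInner ψ (φ : D → ℂ) ≠ 0 ∧ (φ : D → ℂ) 1 = 1 := by
    by_contra hcon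
    push Not at hcon
    apply hval
    rw [cval, res_eq_zero_iff, coe_cvalR]
    have hy1 : (χ : G → ℂ) y = ψ 1 := by simp [hψ]
    rw [hy1, CfsgLib.Char.classFun_eq_sum hψc, Finset.sum_apply]
    have hint : ∀ φ : Cfsg.IrrCharacter D, IsIntegral ℤ (Cfsg.classInner ψ (φ : D → ℂ)) := fun φ =>
      coeff_shift_integral hχc D y hyc (CfsgLib.Char.isCharacter_of_isIrr φ.2)
    have hterm : ∀ φ : Cfsg.IrrCharacter D, ∃ a : locRing M, res M a = 0 ∧
        (a : ℂ) = (Cfsg.classInner ψ (φ : D → ℂ) • (φ : D → ℂ)) 1 := by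
      intro φ
      by_cases h0 : Cfsg.classInner ψ (φ : D → ℂ) = 0
      · exact ⟨0, map_zero _, by simp [h0]⟩
      have hdeg := hcon φ h0
      rw [← CfsgLib.CharBlocks.coe_charDegree_irr φ] at hdeg
      have hdvd := CfsgLib.CharBlocks.charDegree_dvd_card φ.2
      obtain ⟨k, hk⟩ := IsPGroup.iff_card.mp (CfsgLib.Blocks.IsDefectGroup.isPGroup hD)
      rw [hk] at hdvd
      obtain ⟨i, -, hi⟩ := (Nat.dvd_prime_pow hp).mp hdvd
      refine ⟨⟨_, algInt_le_locRing M (hint φ)⟩ * (Cfsg.charDegree (φ : D → ℂ) : locRing M), ?_, ?_⟩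
      · rw [map_mul, (res_natCast_eq_zero_iff M hM _).mpr, mul_zero]
        rcases Nat.eq_zero_or_pos i with rfl | hi0
        · exact absurd (by rw [hi, pow_zero, Nat.cast_one]) hdeg
        · exact hi ▸ dvd_pow_self p hi0.ne'
      · push_cast
        rw [CfsgLib.CharBlocks.coe_charDegree_irr]
        rfl
    choose a ha ha' using hterm
    rw [← Finset.sum_congr rfl fun φ _ => ha' φ, ← AddSubmonoidClass.coe_finsetSum, ← res_eq_zero_iff,
      map_sum, Finset.sum_eq_zero fun φ _ => ha φ]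
  have hφD := CfsgLib.Char.isCharacter_of_isIrr φ.2
  refine ⟨CfsgLib.Char.linearHom hφD hφ1, fun z => Units.ext ?_⟩
  rw [CfsgLib.Char.linearHom_apply]
  set z' : D := ⟨(z : G), hZD z.2⟩ with hz'
  have hlam : ‖(lam z : ℂ)‖ = 1 := by
    obtain ⟨k, hk⟩ := hZp z
    refine CfsgLib.Char.norm_eq_one_of_pow_eq_one' (pow_ne_zero k hp.ne_zero) ?_
    rw [← Units.val_pow_eq_pow_val, ← map_pow, hk, map_one, Units.val_one]
  have hsh : ∀ d : D, ψ (z' * d) = (lam z : ℂ) * ψ d := fun d => by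
    show (χ : G → ℂ) (((z : G) * (d : G)) * y) = _
    rw [mul_assoc]
    exact apply_scalar_mul hχc hlam (hover z) _
  have hnorm : (φ : D → ℂ) z' * conj ((φ : D → ℂ) z') = 1 := by
    rw [← CfsgLib.Char.char_inv hφD, ← CfsgLib.Char.linear_map_mul hφD hφ1, mul_inv_cancel, hφ1]
  have hkey : Cfsg.classInner ψ (φ : D → ℂ) =
      ((lam z : ℂ) * conj ((φ : D → ℂ) z')) * Cfsg.classInner ψ (φ : D → ℂ) := by
    conv_lhs => rw [CfsgLib.Char.classInner_def,
      ← Equiv.sum_comp (Equiv.mulLeft z') (fun d => ψ d * conj ((φ : D → ℂ) d))]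
    rw [CfsgLib.Char.classInner_def, Finset.mul_sum, Finset.mul_sum, Finset.mul_sum]
    refine Finset.sum_congr rfl fun d _ => ?_
    rw [Equiv.coe_mulLeft, hsh, CfsgLib.Char.linear_map_mul hφD hφ1, map_mul]
    ring
  have h1 := mul_right_cancel₀ hφc (show (1 : ℂ) * _ = _ from (one_mul _).trans hkey)
  calc (φ : D → ℂ) z' = (φ : D → ℂ) z' * ((lam z : ℂ) * conj ((φ : D → ℂ) z')) := by rw [← h1, mul_one]
    _ = (lam z : ℂ) * ((φ : D → ℂ) z' * conj ((φ : D → ℂ) z')) := by ring
    _ = (lam z : ℂ) := by rw [hnorm, mul_one]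

end Cfsg.Agent.S5001
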