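import Cfsg.Statements.S5010
import Cfsg.Agent.Lib.Char.SquarefreeDegrees
-- Template for statement S5010 (row 5010; see /opt/grader/pristine/manifest.json for weights).
-- Copy to Cfsg/Agent/S5010.lean and replace the sorry. The statement below is byte-identical to the frozen
-- statement Cfsg.CfsgFrozen.S5010 (Cfsg/Statements/S5010.lean; the theorem Cfsg.blk15_solvable_squarefree_degrees_derived_length_four);
-- the grader kernel-checks Cfsg.Agent.S5010.result against that frozen type. Keep the theorem IN THIS FILE
-- (a `result` declared elsewhere and merely imported here is not credited); helpers may live anywhere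
-- under Cfsg/Agent/.

set_option autoImplicit false
open Cfsg

namespace Cfsg.Agent.S5010

/-- Let `G` be a finite solvable group. If every irreducible complex character degree of `G` is squarefree (1 included), then the derived length of `G` is at most 4. -/
theorem result {G : Type*} [Group G] [Finite G] [Group.IsSolvable G]
    (h : ∀ χ : Cfsg.IrrCharacter G, Squarefree (Cfsg.charDegree (χ : G → ℂ))) : derivedSeries G 4 = ⊥ := by
  exact CfsgLib.SqfDeg.derived_four fun χ hχ => h ⟨χ, hχ⟩

end Cfsg.Agent.S5010
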