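import Cfsg.Statements.S5011
-- import your own Cfsg.Agent.* helpers here

set_option autoImplicit false
open Cfsg

namespace Cfsg.Agent.S5011

/-- Let G be a finite non-abelian simple group and ρ an irreducible complex representation of G on a space of dimension greater than one (irreducible in the sense that the only subspaces invariant under every ρ(x) are 0 and the whole space). Then for every non-identity element g of G, the centralizer of g does not act irreducibly: there is a non-zero proper subspace invariant under ρ(c) for every c commuting with g. -/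
theorem result {G : Type*} [Group G] [Finite G] [IsSimpleGroup G]
    (hG : ¬ IsMulCommutative G) {V : Type*} [AddCommGroup V] [Module ℂ V] [FiniteDimensional ℂ V]
    (ρ : Representation ℂ G V)
    (hirr : ∀ W : Submodule ℂ V, (∀ x : G, ∀ v ∈ W, ρ x v ∈ W) → W = ⊥ ∨ W = ⊤)
    (hdim : 1 < Module.finrank ℂ V) (g : G) (hg : g ≠ 1) :
    ∃ W : Submodule ℂ V, W ≠ ⊥ ∧ W ≠ ⊤ ∧ ∀ c ∈ Subgroup.centralizer ({g} : Set G), ∀ v ∈ W, ρ c v ∈ W := by
  classical
  by_contra hne
  push Not at hne
  haveI : Nontrivial V := Module.nontrivial_of_finrank_pos (R := ℂ) (by omega)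
  obtain ⟨μ, hμ⟩ := Module.End.exists_eigenvalue (ρ g)
  have hinv : ∀ c ∈ Subgroup.centralizer ({g} : Set G),
      ∀ v ∈ Module.End.eigenspace (ρ g) μ, ρ c v ∈ Module.End.eigenspace (ρ g) μ := by
    intro c hc v hv
    rw [Module.End.mem_eigenspace_iff] at hv ⊢
    have h1 : g * c = c * g := Subgroup.mem_centralizer_iff.mp hc g rfl
    calc ρ g (ρ c v) = (ρ g * ρ c) v := rfl
      _ = (ρ c * ρ g) v := by rw [← map_mul, h1, map_mul]
      _ = μ • ρ c v := by rw [Module.End.mul_apply, hv, map_smul]
  have htop : Module.End.eigenspace (ρ g) μ = ⊤ := by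
    by_contra h
    obtain ⟨c, hc, v, hv, hnv⟩ := hne _ hμ h
    exact hnv (hinv c hc v hv)
  have hscal : ∀ v, ρ g v = μ • v := fun v =>
    Module.End.mem_eigenspace_iff.mp (htop.symm ▸ Submodule.mem_top)
  have hker : MonoidHom.ker (ρ : G →* Module.End ℂ V) = ⊥ := by
    rcases IsSimpleGroup.eq_bot_or_eq_top_of_normal (MonoidHom.ker (ρ : G →* Module.End ℂ V))
      inferInstance with h | h
    · exact h
    · exfalso
      obtain ⟨v, hv⟩ := exists_ne (0 : V)
      have hW := hirr (Submodule.span ℂ {v}) (fun x w hw => by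
        have hx : x ∈ MonoidHom.ker (ρ : G →* Module.End ℂ V) := h ▸ Subgroup.mem_top x
        rw [MonoidHom.mem_ker] at hx
        rw [hx]; simpa using hw)
      rcases hW with h' | h'
      · exact hv (Submodule.span_singleton_eq_bot.mp h')
      · have := finrank_span_singleton (K := ℂ) hv
        rw [h', finrank_top] at this
        omega
  have hcentral : g ∈ Subgroup.center G := by
    rw [Subgroup.mem_center_iff]
    intro x
    have h1 : (x * g) * (g * x)⁻¹ ∈ MonoidHom.ker (ρ : G →* Module.End ℂ V) := by
      have he : ρ (x * g) = ρ (g * x) := by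
        apply LinearMap.ext
        intro v
        simp [map_mul, hscal]
      rw [MonoidHom.mem_ker, map_mul, he, ← map_mul, mul_inv_cancel, map_one]
    rw [hker, Subgroup.mem_bot, mul_inv_eq_one] at h1
    exact h1
  rcases IsSimpleGroup.eq_bot_or_eq_top_of_normal (Subgroup.center G) inferInstance with h | h
  · rw [h, Subgroup.mem_bot] at hcentral; exact hg hcentral
  · exact hG ⟨⟨fun a b => ((Subgroup.mem_center_iff.mp (h ▸ Subgroup.mem_top a : a ∈ Subgroup.center G)) b).symm⟩⟩

end Cfsg.Agent.S5011
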