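import Cfsg.Statements.S5012
import Cfsg.Agent.Lib.SplitBlocks.Block
import Cfsg.Agent.Lib.SplitBN.LieType
import Cfsg.Agent.Lib.SplitBN.Simple

set_option autoImplicit false
open Cfsg

namespace Cfsg.Agent.S5012

/-- Let G be a finite simple group of Lie type in characteristic p. Then every p-block of G has defect zero or full defect: its defect is 0 or the exponent of p in the order of G (its defect groups are trivial or Sylow p-subgroups). -/
theorem result {G : Type*} [Group G] [Finite G] (p : ℕ) [Fact p.Prime] (hG : Cfsg.IsLieTypeChar p G) (M : Ideal Cfsg.AlgInt) (hM : Cfsg.IsPModular p M) (B : Set (Cfsg.IrrCharacter G)) (hB : Cfsg.IsPBlock M B) : Cfsg.blockDefect p B = 0 ∨ Cfsg.blockDefect p B = (Nat.card G).factorization p := by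
  classical
  haveI := CfsgLib.SplitBN.isSimple_lieType hG
  obtain ⟨P, U, hs, -⟩ := CfsgLib.SplitBN.hasSplit_lieType hG
  let _ := Fintype.ofFinite G
  haveI : M.IsMaximal := hM.2.1
  obtain ⟨D, hD⟩ := CfsgLib.Blocks.exists_isDefectGroup (p := p) hB
  have hc := CfsgLib.Blocks.card_defectGroup hM hB hD
  have h2 := (Fact.out : p.Prime).two_le
  rcases CfsgLib.SplitBlocks.card_defect hs hM hB hD with h | h
  · left
    rw [hc] at h
    exact Nat.pow_right_injective h2 (h.trans (pow_zero p).symm)
  · right
    rw [hc] at h
    exact Nat.pow_right_injective h2 h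

end Cfsg.Agent.S5012
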