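import Cfsg.Statements.S5014
import Cfsg.Agent.Lib.RootSubgroups.RankOne
-- import your own Cfsg.Agent.* helpers here

set_option autoImplicit false
open Cfsg

namespace Cfsg.Agent.S5014

/-- Let X = ⟨A, B⟩ be a rank one group with unipotent subgroups A and B and let Ω be the set of conjugates of A under X. Then Ω has at least three members, X acts doubly transitively on Ω by conjugation (any two ordered pairs of distinct members are carried to one another by a single element of X), and A acts regularly on Ω with A removed: for C, D in Ω different from A there is exactly one element of A conjugating C to D. -/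
theorem result {G : Type*} [Group G] {A B : Subgroup G} (h : Cfsg.IsRankOnePair A B) :
    (∃ C₁ ∈ Cfsg.unipotentSubgroups A B, ∃ C₂ ∈ Cfsg.unipotentSubgroups A B, ∃ C₃ ∈ Cfsg.unipotentSubgroups A B,
      C₁ ≠ C₂ ∧ C₁ ≠ C₃ ∧ C₂ ≠ C₃) ∧
    (∀ C₁ ∈ Cfsg.unipotentSubgroups A B, ∀ C₂ ∈ Cfsg.unipotentSubgroups A B, ∀ D₁ ∈ Cfsg.unipotentSubgroups A B,
      ∀ D₂ ∈ Cfsg.unipotentSubgroups A B, C₁ ≠ C₂ → D₁ ≠ D₂ →
        ∃ x ∈ A ⊔ B, Cfsg.conjBy C₁ x = D₁ ∧ Cfsg.conjBy C₂ x = D₂) ∧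
    (∀ C ∈ Cfsg.unipotentSubgroups A B, ∀ D ∈ Cfsg.unipotentSubgroups A B, C ≠ A → D ≠ A →
      ∃! a : G, a ∈ A ∧ Cfsg.conjBy C a = D) := by
  refine ⟨?_, fun C₁ h1 C₂ h2 D₁ h3 D₂ h4 hC hD => CfsgLib.RankOne.two_transitive h h1 h2 h3 h4 hC hD,
    fun C hC D hD hCA hDA => CfsgLib.RankOne.existsUnique_conjBy h hC hD hCA hDA⟩
  obtain ⟨⟨a, ha⟩, ha1⟩ := (nontrivial_iff_exists_ne (1 : ↥A)).1 ((Subgroup.nontrivial_iff_ne_bot A).2 (CfsgLib.RankOne.left_ne_bot h))
  refine ⟨A, CfsgLib.RankOne.self_mem_unipotentSubgroups, B, CfsgLib.RankOne.right_mem_unipotentSubgroups h, Cfsg.conjBy B a,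
    (CfsgLib.RankOne.mem_unipotentSubgroups_iff h).2 (Or.inr ⟨a, ha, rfl⟩), h.ne, (CfsgLib.RankOne.conjBy_ne_left h ha).symm, fun he => ha1 ?_⟩
  exact Subtype.ext (CfsgLib.RankOne.eq_of_conjBy_eq_right h ha (one_mem A) (he.symm.trans (CfsgLib.RankOne.conjBy_one B).symm))

end Cfsg.Agent.S5014
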