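import Cfsg.Statements.S5015
import Cfsg.Agent.Lib.RootSubgroups.RankOne
-- import your own Cfsg.Agent.* helpers here

set_option autoImplicit false
open Cfsg

namespace Cfsg.Agent.S5015

/-- Let a group Y act doubly transitively on a set Ω with at least three points, and suppose that the stabilizer of a point α contains a nilpotent subgroup A, normalized by that stabilizer, which acts regularly on the points other than α. Then for any y in Y moving α, the subgroups A and y A y⁻¹ are the unipotent subgroups of a rank one group, and the normal closure of A in Y (the subgroup generated by all conjugates of A) is generated by A and y A y⁻¹ alone. -/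
theorem result {Y Ω : Type*} [Group Y] [MulAction Y Ω]
    (h2 : MulAction.IsMultiplyPretransitive Y Ω 2) (hΩ : 3 ≤ ENat.card Ω) (α : Ω) (A : Subgroup Y)
    (hA : A ≤ MulAction.stabilizer Y α) (hAn : ∀ y ∈ MulAction.stabilizer Y α, Cfsg.conjBy A y = A)
    (hnil : Group.IsNilpotent A) (hreg : ∀ β γ : Ω, β ≠ α → γ ≠ α → ∃! a : Y, a ∈ A ∧ a • β = γ)
    (y : Y) (hy : y ∉ MulAction.stabilizer Y α) :
    Cfsg.IsRankOnePair A (Cfsg.conjBy A y) ∧ Subgroup.normalClosure (A : Set Y) = A ⊔ Cfsg.conjBy A y := by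
  have htrans : MulAction.IsPretransitive Y Ω := MulAction.isPretransitive_of_is_two_pretransitive
  have hwd : ∀ g h : Y, g • α = h • α → Cfsg.conjBy A g = Cfsg.conjBy A h := by
    intro g h he
    have hm : h⁻¹ * g ∈ MulAction.stabilizer Y α := by
      rw [MulAction.mem_stabilizer_iff, mul_smul, he, inv_smul_smul]
    calc Cfsg.conjBy A g = Cfsg.conjBy A (h * (h⁻¹ * g)) := by rw [mul_inv_cancel_left]
      _ = Cfsg.conjBy A h := by rw [CfsgLib.RankOne.conjBy_mul, hAn _ hm]
  have hne : y • α ≠ α := fun he => hy (MulAction.mem_stabilizer_iff.2 he)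
  have hfix : ∀ a ∈ A, a • α = α := fun a ha => MulAction.mem_stabilizer_iff.1 (hA ha)
  have hthird : ∃ γ : Ω, γ ≠ α ∧ γ ≠ y • α := by
    by_contra hcon
    push Not at hcon
    have hsub : (Set.univ : Set Ω) ⊆ {α, y • α} := fun γ _ => by
      by_cases h : γ = α
      · exact Or.inl h
      · exact Or.inr (hcon γ h)
    have := Set.encard_le_encard hsub
    rw [Set.encard_univ, Set.encard_pair hne.symm] at this
    have h3 := le_trans hΩ this
    exact absurd h3 (by decide)
  have hregB : ∀ β γ : Ω, β ≠ y • α → γ ≠ y • α → ∃ b ∈ Cfsg.conjBy A y, b • β = γ := by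
    intro β γ hβ hγ
    obtain ⟨a, ⟨ha, hae⟩, -⟩ := hreg (y⁻¹ • β) (y⁻¹ • γ) (fun e => hβ (inv_smul_eq_iff.1 e)) (fun e => hγ (inv_smul_eq_iff.1 e))
    refine ⟨y * a * y⁻¹, ⟨a, ha, rfl⟩, ?_⟩
    rw [mul_smul, mul_smul, hae, smul_inv_smul]
  have hfixB : ∀ b ∈ Cfsg.conjBy A y, b • (y • α) = y • α := by
    rintro _ ⟨a, ha, rfl⟩
    show (y * a * y⁻¹) • (y • α) = y • α
    rw [mul_smul, mul_smul, inv_smul_smul, hfix a ha]
  have hAfree : ∀ a ∈ A, ∀ β : Ω, β ≠ α → a • β = β → a = 1 := fun a ha β hβ he =>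
    (hreg β β hβ hβ).unique ⟨ha, he⟩ ⟨one_mem A, one_smul _ _⟩
  refine ⟨⟨?_, hnil, ?_, ?_, ?_⟩, ?_⟩
  · intro he
    obtain ⟨γ, hγα, hγ⟩ := hthird
    obtain ⟨a, ⟨ha, hae⟩, -⟩ := hreg (y • α) γ hne hγα
    exact hγ (hae.symm.trans (hfixB a (he ▸ ha)))
  · exact Group.nilpotent_of_mulEquiv (Subgroup.equivMapOfInjective A (MulAut.conj y).toMonoidHom (MulAut.conj y).injective)
  · intro a ha ha1
    have h1 : a⁻¹ • (y • α) ≠ y • α := fun e => ha1 (inv_eq_one.1 (hAfree _ (inv_mem ha) _ hne e))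
    obtain ⟨b, hb, hbe⟩ := hregB α (a⁻¹ • (y • α)) hne.symm h1
    refine ⟨b⁻¹, inv_mem hb, fun e => ?_, ?_⟩
    · rw [inv_eq_one] at e
      rw [e, one_smul, eq_inv_smul_iff, hfix a ha] at hbe
      exact hne hbe.symm
    · rw [inv_inv, ← CfsgLib.RankOne.conjBy_mul]
      exact hwd _ _ (by rw [hbe, mul_smul])
  · intro b hb hb1
    have h1 : b⁻¹ • α ≠ α := by
      intro e
      obtain ⟨a, ha, rfl⟩ := hb
      apply hb1
      have e' : a⁻¹ • (y⁻¹ • α) = y⁻¹ • α := by
        have e2 : (y * a⁻¹ * y⁻¹) • α = α := by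
          have : (MulAut.conj y a)⁻¹ = y * a⁻¹ * y⁻¹ := by simp [mul_assoc]
          rw [← this]; exact e
        rw [mul_smul, mul_smul, ← eq_inv_smul_iff] at e2
        exact e2
      have hya : y⁻¹ • α ≠ α := fun e3 => hne (by rw [← e3, smul_inv_smul]; exact e3.symm)
      have : a = 1 := inv_eq_one.1 (hAfree _ (inv_mem ha) _ hya e')
      simp [this]
    obtain ⟨a, ⟨ha, hae⟩, -⟩ := hreg (y • α) (b⁻¹ • α) hne h1
    refine ⟨a⁻¹, inv_mem ha, fun e => ?_, ?_⟩
    · rw [inv_eq_one] at e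
      rw [e, one_smul, eq_inv_smul_iff, hfixB b hb] at hae
      exact hne hae
    · rw [inv_inv, ← CfsgLib.RankOne.conjBy_mul]
      exact hwd _ _ (by rw [mul_smul, hae])
  · refine le_antisymm ?_ (sup_le Subgroup.le_normalClosure ?_)
    · rw [Subgroup.normalClosure, Subgroup.closure_le]
      intro g hg
      rw [Group.mem_conjugatesOfSet_iff] at hg
      obtain ⟨a, ha, hconj⟩ := hg
      obtain ⟨c, rfl⟩ := isConj_iff.1 hconj
      have hm : c * a * c⁻¹ ∈ Cfsg.conjBy A c := ⟨a, ha, rfl⟩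
      by_cases hc : c • α = α
      · rw [hwd c 1 (by rw [hc, one_smul]), CfsgLib.RankOne.conjBy_one] at hm
        exact Subgroup.mem_sup_left hm
      · obtain ⟨a', ⟨ha', hae⟩, -⟩ := hreg (y • α) (c • α) hne hc
        rw [hwd c (a' * y) (by rw [mul_smul, hae]), CfsgLib.RankOne.conjBy_mul] at hm
        obtain ⟨w, hw, hwe⟩ := hm
        rw [← hwe]
        exact mul_mem (mul_mem (Subgroup.mem_sup_left ha') (Subgroup.mem_sup_right hw)) (inv_mem (Subgroup.mem_sup_left ha'))
    · rintro _ ⟨a, ha, rfl⟩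
      exact Subgroup.normalClosure_normal.conj_mem a (Subgroup.le_normalClosure ha) y

end Cfsg.Agent.S5015
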