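import Cfsg.Statements.S5016
-- import your own Cfsg.Agent.* helpers here

set_option autoImplicit false
open Cfsg

namespace Cfsg.Agent.S5016

open Matrix MatrixGroups

variable {k : Type*} [Field k]

/-- Upper unitriangular. -/
def up (y : k) : SL(2, k) := ⟨!![1, y; 0, 1], by simp [Matrix.det_fin_two_of]⟩

/-- Lower unitriangular. -/
def lo (x : k) : SL(2, k) := ⟨!![1, 0; x, 1], by simp [Matrix.det_fin_two_of]⟩

@[simp] theorem up_coe (y : k) : (up y : Matrix (Fin 2) (Fin 2) k) = !![1, y; 0, 1] := rfl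

@[simp] theorem lo_coe (x : k) : (lo x : Matrix (Fin 2) (Fin 2) k) = !![1, 0; x, 1] := rfl

theorem up_mul (y z : k) : up y * up z = up (y + z) := by
  apply Subtype.ext; rw [Matrix.SpecialLinearGroup.coe_mul]; simp [Matrix.mul_fin_two, add_comm]

theorem lo_mul (x z : k) : lo x * lo z = lo (x + z) := by
  apply Subtype.ext; rw [Matrix.SpecialLinearGroup.coe_mul]; simp [Matrix.mul_fin_two]

theorem up_inv (y : k) : (up y)⁻¹ = up (-y) := by
  apply inv_eq_of_mul_eq_one_right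
  rw [up_mul, add_neg_cancel]; apply Subtype.ext; simp [Matrix.one_fin_two]

theorem lo_inv (x : k) : (lo x)⁻¹ = lo (-x) := by
  apply inv_eq_of_mul_eq_one_right
  rw [lo_mul, add_neg_cancel]; apply Subtype.ext; simp [Matrix.one_fin_two]

/-- The upper unitriangular subgroup. -/
def upSub (k : Type*) [Field k] : Subgroup SL(2, k) where
  carrier := Set.range up
  one_mem' := ⟨0, by apply Subtype.ext; simp [Matrix.one_fin_two]⟩
  mul_mem' := by rintro _ _ ⟨y, rfl⟩ ⟨z, rfl⟩; exact ⟨y + z, (up_mul y z).symm⟩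
  inv_mem' := by rintro _ ⟨y, rfl⟩; exact ⟨-y, (up_inv y).symm⟩

/-- The lower unitriangular subgroup. -/
def loSub (k : Type*) [Field k] : Subgroup SL(2, k) where
  carrier := Set.range lo
  one_mem' := ⟨0, by apply Subtype.ext; simp [Matrix.one_fin_two]⟩
  mul_mem' := by rintro _ _ ⟨y, rfl⟩ ⟨z, rfl⟩; exact ⟨y + z, (lo_mul y z).symm⟩
  inv_mem' := by rintro _ ⟨y, rfl⟩; exact ⟨-y, (lo_inv y).symm⟩

theorem upper_eq (k : Type*) [Field k] : Cfsg.upperUnipotentSL2 k = upSub k := by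
  refine le_antisymm ((Subgroup.closure_le _).2 ?_) ?_
  · rintro g ⟨h1, h2, h3⟩
    refine ⟨(g : Matrix (Fin 2) (Fin 2) k) 0 1, Subtype.ext ?_⟩
    ext i j; fin_cases i <;> fin_cases j <;> simp [h1, h2, h3]
  · rintro _ ⟨y, rfl⟩
    exact Subgroup.subset_closure ⟨by simp, by simp, by simp⟩

theorem lower_eq (k : Type*) [Field k] : Cfsg.lowerUnipotentSL2 k = loSub k := by
  refine le_antisymm ((Subgroup.closure_le _).2 ?_) ?_
  · rintro g ⟨h1, h2, h3⟩
    refine ⟨(g : Matrix (Fin 2) (Fin 2) k) 1 0, Subtype.ext ?_⟩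
    ext i j; fin_cases i <;> fin_cases j <;> simp [h1, h2, h3]
  · rintro _ ⟨y, rfl⟩
    exact Subgroup.subset_closure ⟨by simp, by simp, by simp⟩

theorem key {x y : k} (hxy : x * y = 1) (t : k) :
    up (-y) * lo t * up y = lo (-x) * up (-(y * y) * t) * lo x := by
  apply Subtype.ext
  simp only [up_coe, lo_coe, Matrix.SpecialLinearGroup.coe_mul, Matrix.mul_fin_two]
  ext i j
  fin_cases i <;> fin_cases j <;> simp <;> grind

theorem key2 {x y : k} (hxy : x * y = 1) : up (-y) * lo x * up y = lo (-x) * up (-y) * lo x := by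
  rw [key hxy x]
  congr 3
  linear_combination (-y) * hxy

theorem conj_eq {x y : k} (hxy : x * y = 1) :
    Cfsg.conjBy (loSub k) (up y)⁻¹ = Cfsg.conjBy (upSub k) (lo x)⁻¹ := by
  apply le_antisymm
  · rintro _ ⟨_, ⟨t, rfl⟩, rfl⟩
    refine ⟨up (-(y * y) * t), ⟨_, rfl⟩, ?_⟩
    simpa [MulAut.conj_apply, up_inv, lo_inv] using (key hxy t).symm
  · rintro _ ⟨_, ⟨s, rfl⟩, rfl⟩
    refine ⟨lo (-(x * x) * s), ⟨_, rfl⟩, ?_⟩
    have h := key hxy (-(x * x) * s)
    rw [show -(y * y) * (-(x * x) * s) = s by linear_combination (x * y + 1) * s * hxy] at h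
    simpa [MulAut.conj_apply, up_inv, lo_inv] using h

theorem of_conj_eq {x y : k}
    (h : Cfsg.conjBy (loSub k) (up y)⁻¹ = Cfsg.conjBy (upSub k) (lo x)⁻¹) : x * y = 1 := by
  obtain ⟨_, ⟨t, rfl⟩, ht⟩ := h.ge (Subgroup.mem_map_of_mem _ (⟨1, rfl⟩ : up (1 : k) ∈ upSub k))
  simp only [MulEquiv.coe_toMonoidHom, MulAut.conj_apply, up_inv, lo_inv, neg_neg] at ht
  have h00 := congrArg (fun g : SL(2, k) => (g : Matrix (Fin 2) (Fin 2) k) 0 0) ht
  have h01 := congrArg (fun g : SL(2, k) => (g : Matrix (Fin 2) (Fin 2) k) 0 1) ht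
  simp [Matrix.mul_fin_two] at h00 h01
  grind

theorem up_ne_one {y : k} : up y ≠ 1 ↔ y ≠ 0 := by
  refine not_congr ⟨fun h => ?_, fun h => ?_⟩
  · simpa using congrArg (fun g : SL(2, k) => (g : Matrix (Fin 2) (Fin 2) k) 0 1) h
  · subst h; apply Subtype.ext; simp [Matrix.one_fin_two]

theorem lo_ne_one {x : k} : lo x ≠ 1 ↔ x ≠ 0 := by
  refine not_congr ⟨fun h => ?_, fun h => ?_⟩
  · simpa using congrArg (fun g : SL(2, k) => (g : Matrix (Fin 2) (Fin 2) k) 1 0) h
  · subst h; apply Subtype.ext; simp [Matrix.one_fin_two]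

theorem mem_sup_of_ne {g : SL(2, k)} (hc : (g : Matrix (Fin 2) (Fin 2) k) 1 0 ≠ 0) :
    g ∈ loSub k ⊔ upSub k := by
  set a := (g : Matrix (Fin 2) (Fin 2) k) 0 0 with ha
  set c := (g : Matrix (Fin 2) (Fin 2) k) 1 0 with hc'
  set d := (g : Matrix (Fin 2) (Fin 2) k) 1 1 with hd
  have e : g = up ((a - 1) / c) * lo c * up ((d - 1) / c) := by
    have hdet := g.det_coe
    rw [Matrix.det_fin_two] at hdet
    apply Subtype.ext
    simp only [up_coe, lo_coe, Matrix.SpecialLinearGroup.coe_mul, Matrix.mul_fin_two]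
    ext i j
    fin_cases i <;> fin_cases j <;> simp <;> grind
  rw [e]
  exact mul_mem (mul_mem (Subgroup.mem_sup_right ⟨_, rfl⟩) (Subgroup.mem_sup_left ⟨_, rfl⟩))
    (Subgroup.mem_sup_right ⟨_, rfl⟩)

theorem sup_eq_top (k : Type*) [Field k] : loSub k ⊔ upSub k = ⊤ := by
  refine eq_top_iff.2 fun g _ => ?_
  by_cases hc : (g : Matrix (Fin 2) (Fin 2) k) 1 0 = 0
  · have hdet := g.det_coe
    rw [Matrix.det_fin_two, hc, mul_zero, sub_zero] at hdet
    have h1 : lo (1 : k) * g ∈ loSub k ⊔ upSub k := mem_sup_of_ne (by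
      simp [Matrix.mul_apply, Fin.sum_univ_two, hc]
      exact left_ne_zero_of_mul_eq_one hdet)
    have := mul_mem (inv_mem (Subgroup.mem_sup_left (T := upSub k) (⟨1, rfl⟩ : lo (1 : k) ∈ loSub k))) h1
    simpa using this
  · exact mem_sup_of_ne hc

theorem comm_up (k : Type*) [Field k] : IsMulCommutative (upSub k) := by
  refine ⟨⟨?_⟩⟩
  rintro ⟨_, y, rfl⟩ ⟨_, z, rfl⟩
  exact Subtype.ext (by simp [up_mul, add_comm])

theorem comm_lo (k : Type*) [Field k] : IsMulCommutative (loSub k) := by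
  refine ⟨⟨?_⟩⟩
  rintro ⟨_, y, rfl⟩ ⟨_, z, rfl⟩
  exact Subtype.ext (by simp [lo_mul, add_comm])

theorem nilpotent_of_comm {H : Type*} [Group H] (A : Subgroup H) (h : IsMulCommutative A) :
    Group.IsNilpotent A := by
  letI : CommGroup A := { (inferInstance : Group A) with mul_comm := fun a b => h.is_comm.comm a b }
  infer_instance

theorem pair (k : Type*) [Field k] : Cfsg.IsRankOnePair (loSub k) (upSub k) := by
  refine ⟨fun h => ?_, nilpotent_of_comm _ (comm_lo k), nilpotent_of_comm _ (comm_up k), ?_, ?_⟩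
  · obtain ⟨y, hy⟩ := h.le (⟨1, rfl⟩ : lo (1 : k) ∈ loSub k)
    simpa using congrArg (fun g : SL(2, k) => (g : Matrix (Fin 2) (Fin 2) k) 1 0) hy
  · rintro _ ⟨x, rfl⟩ hx
    exact ⟨up x⁻¹, ⟨_, rfl⟩, up_ne_one.2 (inv_ne_zero (lo_ne_one.1 hx)),
      conj_eq (mul_inv_cancel₀ (lo_ne_one.1 hx))⟩
  · rintro _ ⟨y, rfl⟩ hy
    exact ⟨lo y⁻¹, ⟨_, rfl⟩, lo_ne_one.2 (inv_ne_zero (up_ne_one.1 hy)),
      (conj_eq (inv_mul_cancel₀ (up_ne_one.1 hy))).symm⟩

theorem special (k : Type*) [Field k] : Cfsg.IsSpecialRankOnePair (loSub k) (upSub k) := by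
  refine ⟨pair k, ?_⟩
  rintro _ ⟨x, rfl⟩ - _ ⟨y, rfl⟩ - h
  rw [up_inv, lo_inv]
  exact key2 (of_conj_eq h)

/-- For any field k, the special linear group SL₂(k) is a special rank one group with abelian unipotent subgroups, the unipotent subgroups being the group of lower unitriangular matrices and the group of upper unitriangular matrices. -/
theorem result (k : Type*) [Field k] :
    Cfsg.IsRankOneGroup (Matrix.SpecialLinearGroup (Fin 2) k) (Cfsg.lowerUnipotentSL2 k) (Cfsg.upperUnipotentSL2 k) ∧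
    Cfsg.IsSpecialRankOnePair (Cfsg.lowerUnipotentSL2 k) (Cfsg.upperUnipotentSL2 k) ∧
    Cfsg.HasAbelianUnipotents (Cfsg.lowerUnipotentSL2 k) (Cfsg.upperUnipotentSL2 k) := by
  rw [lower_eq, upper_eq]
  exact ⟨⟨sup_eq_top k, pair k⟩, special k, comm_lo k, comm_up k⟩

end Cfsg.Agent.S5016
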