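import Cfsg.Statements.S5017
import Cfsg.Agent.Lib.RootSubgroups.RankOne
-- import your own Cfsg.Agent.* helpers here

set_option autoImplicit false
open Cfsg

namespace Cfsg.Agent.S5017

/-- Let X be a rank one group with unipotent subgroups A and B and N a normal subgroup of X. Then either X = N A or N lies in the centre of X. Consequently a perfect rank one group is quasisimple. -/
theorem result {X : Type*} [Group X] {A B : Subgroup X} (h : Cfsg.IsRankOneGroup X A B) :
    (∀ N : Subgroup X, N.Normal → N ⊔ A = ⊤ ∨ N ≤ Subgroup.center X) ∧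
    (Group.IsPerfect X → Cfsg.IsQuasisimple X) := by
  refine ⟨fun N hN => have := hN; CfsgLib.RankOne.normal_sup_eq_top_or_le_center h N, fun hp => ⟨hp, ?_⟩⟩
  have hnt : Subgroup.center X ≠ ⊤ := fun hc => CfsgLib.RankOne.not_isNilpotent h ⟨⟨1, by rw [Subgroup.upperCentralSeries_one, hc]⟩⟩
  have : Nontrivial (X ⧸ Subgroup.center X) :=
    not_subsingleton_iff_nontrivial.1 fun hs => hnt (QuotientGroup.subsingleton_iff.1 hs)
  refine ⟨fun M hM => ?_⟩
  set π := QuotientGroup.mk' (Subgroup.center X)
  rcases CfsgLib.RankOne.normal_sup_eq_top_or_le_center h (M.comap π) with ht | hz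
  · right
    have hnil : Group.IsNilpotent (X ⧸ M.comap π) := by
      have hA := h.2.nilpotent_left
      have hsur : Function.Surjective ((QuotientGroup.mk' (M.comap π)).comp A.subtype) := by
        intro q
        obtain ⟨x, rfl⟩ := QuotientGroup.mk'_surjective (M.comap π) q
        have hx : x ∈ M.comap π ⊔ A := ht ▸ Subgroup.mem_top x
        obtain ⟨n, hn, a, ha, rfl⟩ := Subgroup.mem_sup_of_normal_left.1 hx
        refine ⟨⟨a, ha⟩, ?_⟩
        show QuotientGroup.mk' (M.comap π) a = QuotientGroup.mk' (M.comap π) (n * a)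
        rw [map_mul, show QuotientGroup.mk' (M.comap π) n = 1 from (QuotientGroup.eq_one_iff n).2 hn, one_mul]
      exact Group.nilpotent_of_surjective _ hsur
    have hMtop : M.comap π = ⊤ := by
      rcases subsingleton_or_nontrivial (X ⧸ M.comap π) with hs | hs
      · exact QuotientGroup.subsingleton_iff.1 hs
      · exact absurd hnil (Group.IsPerfect.not_isNilpotent (X ⧸ M.comap π))
    rw [← Subgroup.map_comap_eq_self_of_surjective (QuotientGroup.mk'_surjective (Subgroup.center X)) M]
    rw [show M.comap (QuotientGroup.mk' (Subgroup.center X)) = ⊤ from hMtop, Subgroup.map_top_of_surjective _ (QuotientGroup.mk'_surjective _)]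
  · left
    rw [eq_bot_iff, ← Subgroup.map_comap_eq_self_of_surjective (QuotientGroup.mk'_surjective (Subgroup.center X)) M]
    rintro _ ⟨x, hx, rfl⟩
    exact Subgroup.mem_bot.2 ((QuotientGroup.eq_one_iff x).2 (hz hx))

end Cfsg.Agent.S5017
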