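import Cfsg.Statements.S5018
import Cfsg.Agent.Lib.RootSubgroups.RankOne
-- import your own Cfsg.Agent.* helpers here

set_option autoImplicit false
open Cfsg
open scoped commutatorElement

namespace Cfsg.Agent.S5018

/-- A rank one group is not nilpotent, and its second centre equals its centre. -/
theorem result {X : Type*} [Group X] {A B : Subgroup X} (h : Cfsg.IsRankOneGroup X A B) :
    Subgroup.upperCentralSeries X 2 = Subgroup.center X ∧ ¬ Group.IsNilpotent X := by
  refine ⟨?_, CfsgLib.RankOne.not_isNilpotent h⟩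
  refine le_antisymm ?_ (by rw [← Subgroup.upperCentralSeries_one]; exact Subgroup.upperCentralSeries_mono X one_le_two)
  refine (CfsgLib.RankOne.normal_sup_eq_top_or_le_center h (Subgroup.upperCentralSeries X 2)).resolve_left fun ht => ?_
  have hA := h.2.nilpotent_left
  set q₁ := QuotientGroup.mk' (Subgroup.center X)
  set q₂ := QuotientGroup.mk' (Subgroup.center (X ⧸ Subgroup.center X))
  have hker : ∀ n ∈ Subgroup.upperCentralSeries X 2, q₂ (q₁ n) = 1 := by
    intro n hn
    refine (QuotientGroup.eq_one_iff _).2 (Subgroup.mem_center_iff.2 fun g => ?_)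
    obtain ⟨g, rfl⟩ := QuotientGroup.mk'_surjective _ g
    have h1 := Subgroup.mem_upperCentralSeries_succ_iff.1 hn g
    rw [Subgroup.upperCentralSeries_one, ← QuotientGroup.eq_one_iff, ← QuotientGroup.mk'_apply,
      map_commutatorElement, commutatorElement_eq_one_iff_mul_comm] at h1
    exact h1.symm
  have hsur : Function.Surjective ((q₂.comp q₁).comp A.subtype) := by
    intro z
    obtain ⟨w, rfl⟩ := QuotientGroup.mk'_surjective _ z
    obtain ⟨x, rfl⟩ := QuotientGroup.mk'_surjective _ w
    have hx : x ∈ Subgroup.upperCentralSeries X 2 ⊔ A := ht ▸ Subgroup.mem_top x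
    obtain ⟨n, hn, a, ha, rfl⟩ := Subgroup.mem_sup_of_normal_left.1 hx
    refine ⟨⟨a, ha⟩, ?_⟩
    show q₂ (q₁ a) = q₂ (q₁ (n * a))
    rw [map_mul, map_mul, hker n hn, one_mul]
  have h2 := Group.nilpotent_of_surjective _ hsur
  exact CfsgLib.RankOne.not_isNilpotent h (Group.of_quotient_center_nilpotent (Group.of_quotient_center_nilpotent h2))

end Cfsg.Agent.S5018
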