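import Cfsg.Statements.S5021
-- import your own Cfsg.Agent.* helpers here

set_option autoImplicit false
open Cfsg

namespace Cfsg.Agent.S5021

section
variable {X : Type*} [Group X]

/-- The image of a subgroup under the right action `C ↦ g⁻¹ C g`. -/
def act (C : Subgroup X) (g : X) : Subgroup X := Cfsg.conjBy C g⁻¹

theorem mem_act {C : Subgroup X} {g x : X} : x ∈ act C g ↔ g * x * g⁻¹ ∈ C := by
  rw [act, Cfsg.conjBy, Subgroup.mem_map_equiv]
  simp [MulAut.conj_symm_apply]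

theorem act_act (C : Subgroup X) (g h : X) : act (act C g) h = act C (g * h) := by
  ext x; simp only [mem_act]; simp [mul_assoc]

theorem conj_inv_pow (m x : X) (n : ℕ) : (m⁻¹ * x * m) ^ n = m⁻¹ * x ^ n * m := by
  simpa using conj_pow (i := n) (a := m⁻¹) (b := x)

theorem act_one (C : Subgroup X) : act C 1 = C := by ext x; simp [mem_act]

/-- `A` and `B` form a special pair with abelian members, in both orders. -/
structure SP (A B : Subgroup X) : Prop where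
  ne : A ≠ B
  exl : ∀ a ∈ A, a ≠ 1 → ∃ b ∈ B, b ≠ 1 ∧ act A b = act B a
  exr : ∀ b ∈ B, b ≠ 1 → ∃ a ∈ A, a ≠ 1 ∧ act B a = act A b
  special : ∀ a ∈ A, a ≠ 1 → ∀ b ∈ B, b ≠ 1 → act A b = act B a →
    b⁻¹ * a * b = a⁻¹ * b⁻¹ * a
  commA : ∀ x ∈ A, ∀ y ∈ A, x * y = y * x
  commB : ∀ x ∈ B, ∀ y ∈ B, x * y = y * x

theorem SP.symm {A B : Subgroup X} (h : SP A B) : SP B A where
  ne := h.ne.symm
  exl := h.exr
  exr := h.exl
  commA := h.commB
  commB := h.commA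
  special b hb hb1 a ha ha1 e := by
    have h1 := congrArg (·⁻¹) (h.special a ha ha1 b hb hb1 e.symm)
    simpa [mul_assoc] using h1.symm

/-- `b` is the partner of `a`. -/
structure P (A B : Subgroup X) (a b : X) : Prop where
  ha : a ∈ A
  ha1 : a ≠ 1
  hb : b ∈ B
  hb1 : b ≠ 1
  eq : act A b = act B a

theorem P.symm {A B : Subgroup X} {a b : X} (h : P A B a b) : P B A b a :=
  ⟨h.hb, h.hb1, h.ha, h.ha1, h.eq.symm⟩

variable {A B : Subgroup X} (h : SP A B)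
include h

theorem SP.act_self {x : X} (hx : x ∈ A) : act A x = A := by
  ext y
  rw [mem_act]
  constructor
  · intro hy
    have := mul_mem (mul_mem (inv_mem hx) hy) hx
    simpa [mul_assoc] using this
  · intro hy
    exact mul_mem (mul_mem hx hy) (inv_mem hx)

theorem SP.partner {a : X} (ha : a ∈ A) (ha1 : a ≠ 1) : ∃ b, P A B a b := by
  obtain ⟨b, hb, hb1, e⟩ := h.exl a ha ha1
  exact ⟨b, ha, ha1, hb, hb1, e⟩

/-- A point is fixed by no non-identity element of the opposite group. -/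
theorem SP.eq_one_of_fix {y : X} (hy : y ∈ B) (e : act A y = A) : y = 1 := by
  by_contra hy1
  obtain ⟨x, p⟩ := h.symm.partner hy hy1
  refine h.ne ?_
  have e2 : act B x = A := p.eq.trans e
  calc A = act A x⁻¹ := (h.act_self (inv_mem p.hb)).symm
    _ = act (act B x) x⁻¹ := by rw [e2]
    _ = B := by rw [act_act, mul_inv_cancel, act_one]

theorem SP.act_inj {x x' : X} (hx : x ∈ A) (hx' : x' ∈ A) (e : act B x = act B x') : x = x' := by
  have e2 : act B (x * x'⁻¹) = B := by rw [← act_act, e, act_act, mul_inv_cancel, act_one]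
  exact mul_inv_eq_one.1 (h.symm.eq_one_of_fix (mul_mem hx (inv_mem hx')) e2)

theorem SP.unique {a b b' : X} (p : P A B a b) (p' : P A B a b') : b = b' :=
  h.symm.act_inj p.hb p'.hb (p.eq.trans p'.eq.symm)

theorem SP.inf_eq {z : X} (hzA : z ∈ A) (hzB : z ∈ B) : z = 1 := by
  by_contra hz
  obtain ⟨y, p⟩ := h.partner hzA hz
  exact p.hb1 (h.eq_one_of_fix p.hb (by
    rw [p.eq, h.symm.act_self hzB]
    by_contra hne
    exact hz (h.symm.eq_one_of_fix hzA (h.symm.act_self hzB))))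

theorem SP.braid {a b : X} (p : P A B a b) : a * b⁻¹ * a = b⁻¹ * a * b⁻¹ := by
  calc a * b⁻¹ * a = a * (b⁻¹ * a * b) * b⁻¹ := by group
    _ = a * (a⁻¹ * b⁻¹ * a) * b⁻¹ := by rw [h.special a p.ha p.ha1 b p.hb p.hb1 p.eq]
    _ = b⁻¹ * a * b⁻¹ := by group

theorem SP.inv {a b : X} (p : P A B a b) : P A B a⁻¹ b⁻¹ := by
  obtain ⟨x, q⟩ := h.symm.partner (inv_mem p.hb) (inv_ne_one.2 p.hb1)
  refine ⟨inv_mem p.ha, inv_ne_one.2 p.ha1, inv_mem p.hb, inv_ne_one.2 p.hb1, ?_⟩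
  rw [← q.eq]
  refine congrArg (act B) ?_
  -- the element `b a⁻¹ b⁻¹ = a b a⁻¹` lies in both points
  have hs : b * a⁻¹ * b⁻¹ = a * b * a⁻¹ := by
    calc b * a⁻¹ * b⁻¹ = a * (a * b⁻¹ * a)⁻¹ * b⁻¹ := by group
      _ = a * (b⁻¹ * a * b⁻¹)⁻¹ * b⁻¹ := by rw [h.braid p]
      _ = a * b * a⁻¹ := by group
  have hz1 : b * a⁻¹ * b⁻¹ ∈ act B x := by
    rw [q.eq, mem_act]
    simpa [mul_assoc] using inv_mem p.ha
  have hz2 : b * a⁻¹ * b⁻¹ ∈ act B a⁻¹ := by
    rw [hs, mem_act]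
    simpa [mul_assoc] using p.hb
  by_contra hne
  have hd : x * (a⁻¹)⁻¹ ≠ 1 := fun e => hne (mul_inv_eq_one.1 e)
  obtain ⟨y, r⟩ := h.partner (mul_mem q.hb (inv_mem (inv_mem p.ha))) hd
  rw [hs] at hz1
  have hb2 : b ∈ act B (x * (a⁻¹)⁻¹) := by
    rw [mem_act] at hz1 ⊢
    simpa [mul_assoc] using hz1
  rw [← r.eq, mem_act] at hb2
  have hby : y * b * y⁻¹ = b := by
    rw [h.commB y r.hb b p.hb, mul_inv_cancel_right]
  exact p.hb1 (h.inf_eq (hby ▸ hb2) p.hb)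

/-- The element interchanging the two points. -/
theorem SP.mu_eq {a b : X} (p : P A B a b) :
    act A (a * b⁻¹ * a) = B ∧ act B (a * b⁻¹ * a) = A ∧ (a * b⁻¹ * a)⁻¹ * a * (a * b⁻¹ * a) = b⁻¹ := by
  refine ⟨?_, ?_, ?_⟩
  · rw [← act_act, ← act_act, h.act_self p.ha, (h.inv p).eq, act_act, inv_mul_cancel, act_one]
  · rw [← act_act, ← act_act, ← p.eq, act_act A b b⁻¹, mul_inv_cancel, act_one, h.act_self p.ha]
  · calc (a * b⁻¹ * a)⁻¹ * a * (a * b⁻¹ * a) = a⁻¹ * b * (a * b⁻¹ * a) := by group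
      _ = a⁻¹ * b * (b⁻¹ * a * b⁻¹) := by rw [h.braid p]
      _ = b⁻¹ := by group

theorem SP.pow_eq_one_iff {a b : X} (p : P A B a b) (n : ℕ) : a ^ n = 1 ↔ b ^ n = 1 := by
  have e := (h.mu_eq p).2.2
  rw [← inv_eq_one (a := b ^ n), ← inv_pow, ← e, conj_inv_pow]
  constructor
  · intro ha; rw [ha]; group
  · intro hb
    calc a ^ n = (a * b⁻¹ * a) * ((a * b⁻¹ * a)⁻¹ * a ^ n * (a * b⁻¹ * a)) * (a * b⁻¹ * a)⁻¹ := by group
      _ = 1 := by rw [hb]; group

omit h in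
theorem pow_partner (n : ℕ) : ∀ {A B : Subgroup X}, SP A B → ∀ {a b f : X},
    P A B a b → P A B (a ^ n) f → f ^ n = b := by
  induction n with
  | zero => intro A B _ a b f _ p'; exact absurd (pow_zero a) p'.ha1
  | succ k ih =>
    intro A B h a b f p p'
    by_cases hk : a ^ k = 1
    · rw [pow_succ, hk, one_mul] at p'
      rw [← h.unique p p', pow_succ, (h.pow_eq_one_iff p k).1 hk, one_mul]
    obtain ⟨hA, hB, hμ⟩ := h.mu_eq p
    have hbk : b ^ k ≠ 1 := fun e => hk ((h.pow_eq_one_iff p k).2 e)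
    have hg : f * b⁻¹ ≠ 1 := fun e => hk (by
      have e2 : act B (a ^ (k + 1)) = act B a := by
        rw [← p'.eq, ← p.eq, mul_inv_eq_one.1 e]
      have := h.act_inj p'.ha p.ha e2
      rwa [pow_succ, mul_eq_right] at this)
    obtain ⟨u, q⟩ := h.symm.partner (mul_mem p'.hb (inv_mem p.hb)) hg
    obtain ⟨z, r⟩ := h.symm.partner (pow_mem p.hb k) hbk
    have r' := h.symm.inv r
    have e1 : act (act B (a ^ k)) (a * b⁻¹ * a) = act A ((b⁻¹) ^ k) := by
      rw [act_act, show a ^ k * (a * b⁻¹ * a) = (a * b⁻¹ * a) * ((b⁻¹) ^ k) by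
        rw [show (b⁻¹) ^ k = (a * b⁻¹ * a)⁻¹ * a ^ k * (a * b⁻¹ * a) by rw [← conj_inv_pow, hμ]]
        group, ← act_act, hB]
    have e2 : act (act B (a ^ k)) (a * b⁻¹ * a) = act B (u * a) := by
      rw [act_act, show a ^ k * (a * b⁻¹ * a) = a ^ (k + 1) * (b⁻¹ * a) by rw [pow_succ]; group,
        ← act_act, ← p'.eq, act_act, ← mul_assoc, ← act_act, ← q.eq, act_act]
    rw [e1, inv_pow, ← r'.eq] at e2
    have hu : z⁻¹ = u * a := h.act_inj (inv_mem r.hb) (mul_mem q.hb p.ha) e2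
    have hz : z ^ k = a := ih h.symm p.symm r
    have hw : u⁻¹ = z * a := by
      calc u⁻¹ = a * (u * a)⁻¹ := by group
        _ = a * z := by rw [← hu, inv_inv]
        _ = z * a := h.commA a p.ha z r.hb
    have q' := (h.symm.inv q).symm
    rw [hw] at q'
    have hwk : (z * a) ^ k = a ^ (k + 1) := by
      rw [(show Commute z a from h.commA z r.hb a p.ha).mul_pow, hz, pow_succ']
    have := ih h q' (f := f) (by rw [hwk]; exact p')
    rw [pow_succ, this, mul_inv_rev, inv_inv, mul_assoc, inv_mul_cancel, mul_one]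

theorem SP.dichotomy {p : ℕ} {a : X} (ha : a ∈ A) (ha1 : a ≠ 1) (hap : a ^ p = 1) :
    ∀ c ∈ A, c ^ p = 1 := by
  intro c hc
  by_contra hcp
  have root : ∀ x ∈ A, x ^ p ≠ 1 → ∃ d ∈ A, d ^ p = x := by
    intro x hx hxp
    have hx1 : x ≠ 1 := fun e => hxp (by rw [e, one_pow])
    obtain ⟨y, q⟩ := h.partner hx hx1
    obtain ⟨d, r⟩ := h.symm.partner (pow_mem q.hb p) fun e => hxp ((h.pow_eq_one_iff q p).2 e)
    exact ⟨d, r.hb, pow_partner p h.symm q.symm r⟩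
  have hac : (a * c) ^ p ≠ 1 := by
    rw [(show Commute a c from h.commA a ha c hc).mul_pow, hap, one_mul]; exact hcp
  obtain ⟨r, hr, hrp⟩ := root _ (mul_mem ha hc) hac
  obtain ⟨s, hs, hsp⟩ := root c hc hcp
  have hd : (r * s⁻¹) ^ p = a := by
    rw [(show Commute r s⁻¹ from h.commA r hr s⁻¹ (inv_mem hs)).mul_pow, inv_pow, hrp, hsp,
      mul_inv_cancel_right]
  have hd1 : r * s⁻¹ ≠ 1 := fun e => ha1 (by rw [← hd, e, one_pow])
  obtain ⟨y, q⟩ := h.partner (mul_mem hr (inv_mem hs)) hd1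
  obtain ⟨f, p'⟩ := h.partner ha ha1
  have := pow_partner p h q (f := f) (by rw [hd]; exact p')
  exact q.hb1 (this ▸ (h.pow_eq_one_iff p' p).1 hap)

theorem SP.root {p : ℕ} (hfree : ∀ a ∈ A, a ≠ 1 → a ^ p ≠ 1) {x : X} (hx : x ∈ A) :
    ∃ d ∈ A, d ^ p = x := by
  rcases eq_or_ne x 1 with rfl | hx1
  · exact ⟨1, one_mem _, one_pow _⟩
  obtain ⟨y, q⟩ := h.partner hx hx1
  obtain ⟨d, r⟩ := h.symm.partner (pow_mem q.hb p) fun e => hfree x hx hx1 ((h.pow_eq_one_iff q p).2 e)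
  exact ⟨d, r.hb, pow_partner p h.symm q.symm r⟩

end

/-- In a special rank one group with abelian unipotent subgroups A and B, either A is an elementary abelian p-group for some prime p, or A is torsion-free and divisible (every element of A has an n-th root in A for every positive n). -/
theorem result {X : Type*} [Group X] {A B : Subgroup X} (h : Cfsg.IsRankOneGroup X A B)
    (hs : Cfsg.IsSpecialRankOnePair A B) (hab : Cfsg.HasAbelianUnipotents A B) :
    (∃ p : ℕ, p.Prime ∧ Cfsg.IsElementaryAbelian p A) ∨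
    ((∀ a ∈ A, a ≠ 1 → ¬ IsOfFinOrder a) ∧ ∀ a ∈ A, ∀ n : ℕ, 0 < n → ∃ c ∈ A, c ^ n = a) := by
  obtain ⟨-, hp⟩ := h
  have hcA : ∀ x ∈ A, ∀ y ∈ A, x * y = y * x := fun x hx y hy =>
    congrArg Subtype.val (hab.1.is_comm.comm ⟨x, hx⟩ ⟨y, hy⟩)
  have hcB : ∀ x ∈ B, ∀ y ∈ B, x * y = y * x := fun x hx y hy =>
    congrArg Subtype.val (hab.2.is_comm.comm ⟨x, hx⟩ ⟨y, hy⟩)
  have hS : SP A B := ⟨hp.ne, hp.cond_left, hp.cond_right, hs.2, hcA, hcB⟩
  by_cases ht : ∃ p : ℕ, p.Prime ∧ ∃ a ∈ A, a ≠ 1 ∧ a ^ p = 1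
  · obtain ⟨p, hp', a, ha, ha1, hap⟩ := ht
    exact Or.inl ⟨p, hp', hab.1, hS.dichotomy ha ha1 hap⟩
  push Not at ht
  refine Or.inr ⟨fun a ha ha1 hfin => ?_, fun a ha n hn => ?_⟩
  · obtain ⟨p, hp', hd⟩ := Nat.exists_prime_and_dvd
      (show orderOf a ≠ 1 from fun e => ha1 (orderOf_eq_one_iff.1 e))
    have ho : orderOf (a ^ (orderOf a / p)) = p := orderOf_pow_orderOf_div hfin.orderOf_pos.ne' hd
    have hne : a ^ (orderOf a / p) ≠ 1 := fun e => hp'.ne_one (by rw [← ho, e, orderOf_one])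
    refine ht p hp' _ (pow_mem ha _) hne ?_
    have := pow_orderOf_eq_one (a ^ (orderOf a / p))
    rwa [ho] at this
  · induction n using Nat.recOnMul generalizing a with
    | zero => exact absurd hn (lt_irrefl 0)
    | one => exact ⟨a, ha, pow_one a⟩
    | prime p hp' => exact hS.root (ht p hp') ha
    | mul m k ihm ihk =>
      obtain ⟨c, hc, hce⟩ := ihm a ha (Nat.pos_of_mul_pos_right hn)
      obtain ⟨d, hd, hde⟩ := ihk c hc (Nat.pos_of_mul_pos_left hn)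
      exact ⟨d, hd, by rw [mul_comm, pow_mul, hde, hce]⟩

end Cfsg.Agent.S5021
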