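import Cfsg.Statements.S5022
import Cfsg.Agent.S5021
import Cfsg.Agent.S5017
import Cfsg.Agent.S5016
import Cfsg.Agent.S2426
import Cfsg.Agent.Lib.RootSubgroups.LineLemmas

set_option autoImplicit false
open Cfsg

namespace Cfsg.Agent.S5022

open Subgroup Cfsg.Agent.S5021 CfsgLib.SL2Pres CfsgLib.RankOne

variable {X : Type*} [Group X] {A B : Subgroup X}

/-- `g ^ t` for a residue `t` modulo `p`. -/
def zp (p : ℕ) (g : X) (t : ZMod p) : X := g ^ t.val

theorem zp_add {p : ℕ} [NeZero p] {g : X} (hg : g ^ p = 1) (s t : ZMod p) : zp p g (s + t) = zp p g s * zp p g t := by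
  rw [zp, zp, zp, ← pow_add, ZMod.val_add]
  conv_rhs => rw [← Nat.mod_add_div (s.val + t.val) p, pow_add, pow_mul, hg, one_pow, mul_one]

theorem zp_mul {p : ℕ} [NeZero p] {g : X} (hg : g ^ p = 1) (s t : ZMod p) : zp p g (s * t) = zp p (zp p g s) t := by
  rw [zp, zp, zp, ← pow_mul, ZMod.val_mul]
  conv_rhs => rw [← Nat.mod_add_div (s.val * t.val) p, pow_add, pow_mul, hg, one_pow, mul_one]

theorem zp_neg {p : ℕ} [NeZero p] {g : X} (hg : g ^ p = 1) (t : ZMod p) : zp p g (-t) = (zp p g t)⁻¹ := by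
  refine eq_inv_of_mul_eq_one_left ?_
  rw [← zp_add hg, neg_add_cancel, zp, ZMod.val_zero, pow_zero]

theorem conj_zp (p : ℕ) (m g : X) (t : ZMod p) : m * zp p g t * m⁻¹ = zp p (m * g * m⁻¹) t := by
  rw [zp, zp, conj_pow]

theorem zp_ne_one {p : ℕ} [Fact p.Prime] {g : X} (hg : g ^ p = 1) (hg1 : g ≠ 1) {t : ZMod p} (ht : t ≠ 0) :
    zp p g t ≠ 1 := by
  intro h
  have ho : orderOf g = p := orderOf_eq_prime hg hg1
  have := orderOf_dvd_of_pow_eq_one h
  rw [ho] at this
  have h2 : t.val = 0 := Nat.eq_zero_of_dvd_of_lt this (ZMod.val_lt t)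
  exact ht ((ZMod.val_eq_zero t).1 h2)

theorem left_braid (h : SP A B) {a b : X} (p : P A B a b) : (a * b⁻¹ * a) * a * (a * b⁻¹ * a)⁻¹ = b⁻¹ := by
  have e := h.braid p
  calc (a * b⁻¹ * a) * a * (a * b⁻¹ * a)⁻¹ = (a * b⁻¹ * a) * b * a⁻¹ := by group
    _ = (b⁻¹ * a * b⁻¹) * b * a⁻¹ := by rw [e]
    _ = b⁻¹ := by group

theorem right_braid (h : SP A B) {a b : X} (p : P A B a b) : (a * b⁻¹ * a)⁻¹ * b * (a * b⁻¹ * a) = a⁻¹ := by
  have e := h.braid p
  calc (a * b⁻¹ * a)⁻¹ * b * (a * b⁻¹ * a) = a⁻¹ * b * (a⁻¹ * b * (a * b⁻¹ * a)) := by group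
    _ = a⁻¹ * b * (a⁻¹ * b * (b⁻¹ * a * b⁻¹)) := by rw [e]
    _ = a⁻¹ := by group

theorem partner_zp {p : ℕ} [Fact p.Prime] (h : SP A B) {a b : X} (hp : P A B a b) (hA : ∀ x ∈ A, x ^ p = 1)
    (hB : ∀ x ∈ B, x ^ p = 1) {t : ZMod p} (ht : t ≠ 0) : P A B (zp p a t) (zp p b t⁻¹) := by
  obtain ⟨f, hf⟩ := h.partner (pow_mem hp.ha t.val) (zp_ne_one (hA a hp.ha) hp.ha1 ht)
  have hft : zp p f t = b := pow_partner t.val h hp hf
  have : zp p b t⁻¹ = f := by
    rw [← hft, ← zp_mul (hB f hf.hb), mul_inv_cancel₀ ht, zp, ZMod.val_one, pow_one]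
  rw [this]
  exact hf

end Cfsg.Agent.S5022

namespace Cfsg.Agent.S5022

open Subgroup Cfsg.Agent.S5021 CfsgLib.SL2Pres CfsgLib.RankOne

/-- Let X be a special rank one group with abelian unipotent subgroups A and B, where A is an elementary abelian p-group for the prime p. Then for every non-identity a in A and the non-identity b in B with b⁻¹ A b = a⁻¹ B a, the subgroup generated by a and b is isomorphic to SL₂(p) or to PSL₂(p). -/
theorem result {X : Type*} [Group X] {A B : Subgroup X} (h : Cfsg.IsRankOneGroup X A B)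
    (hs : Cfsg.IsSpecialRankOnePair A B) (hab : Cfsg.HasAbelianUnipotents A B)
    {p : ℕ} [Fact p.Prime] (hA : Cfsg.IsElementaryAbelian p A)
    {a b : X} (ha : a ∈ A) (ha1 : a ≠ 1) (hb : b ∈ B) (hb1 : b ≠ 1) (hab' : Cfsg.conjBy A b⁻¹ = Cfsg.conjBy B a⁻¹) :
    Nonempty (↥(Subgroup.closure ({a, b} : Set X)) ≃* Matrix.SpecialLinearGroup (Fin 2) (ZMod p)) ∨
    Nonempty (↥(Subgroup.closure ({a, b} : Set X)) ≃* Matrix.ProjectiveSpecialLinearGroup (Fin 2) (ZMod p)) := by
  classical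
  obtain ⟨htop, hpair⟩ := h
  have hA1 : ∀ x ∈ A, x ^ p = 1 := hA.2
  have hB1 : ∀ x ∈ B, x ^ p = 1 := by
    obtain ⟨g, -, hg⟩ := right_mem_unipotentSubgroups hpair
    intro x hx
    obtain ⟨u, hu, rfl⟩ := hg.le hx
    rw [← map_pow, hA1 u hu, map_one]
  have hS : SP A B := ⟨hpair.ne, hpair.cond_left, hpair.cond_right, hs.2,
    fun x hx y hy => congrArg Subtype.val (hab.1.is_comm.comm ⟨x, hx⟩ ⟨y, hy⟩),
    fun x hx y hy => congrArg Subtype.val (hab.2.is_comm.comm ⟨x, hx⟩ ⟨y, hy⟩)⟩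
  have hP : P A B a b := ⟨ha, ha1, hb, hb1, hab'⟩
  let e : Bool → ZMod p → X := fun β t => zp p (if β then a else b) t
  have he : St2 e := by
    refine ⟨fun β s t => ?_, fun β t u ht => ?_⟩
    · cases β
      · exact zp_add (hB1 b hb) s t
      · exact zp_add (hA1 a ha) s t
    cases β
    · have q := partner_zp hS hP hA1 hB1 (inv_ne_zero ht)
      rw [inv_inv] at q
      show zp p b t * zp p a (-t⁻¹) * zp p b t * zp p b u * (zp p b t * zp p a (-t⁻¹) * zp p b t)⁻¹
        = zp p a (-(t⁻¹ ^ 2 * u))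
      have hm : zp p b t * zp p a (-t⁻¹) * zp p b t = (zp p a t⁻¹ * (zp p b t)⁻¹ * zp p a t⁻¹)⁻¹ := by
        rw [hS.braid q, zp_neg (hA1 a ha)]; group
      rw [hm, inv_inv, show zp p b u = zp p (zp p b t) (u * t⁻¹) by
        rw [← zp_mul (hB1 b hb), mul_left_comm, mul_inv_cancel₀ ht, mul_one]]
      have := conj_zp p (zp p a t⁻¹ * (zp p b t)⁻¹ * zp p a t⁻¹)⁻¹ (zp p b t) (u * t⁻¹)
      rw [inv_inv] at this
      rw [this, right_braid hS q, ← zp_neg (hA1 a ha), ← zp_mul (hA1 a ha)]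
      congr 1
      ring
    · have q := partner_zp hS hP hA1 hB1 ht
      show zp p a t * zp p b (-t⁻¹) * zp p a t * zp p a u * (zp p a t * zp p b (-t⁻¹) * zp p a t)⁻¹
        = zp p b (-(t⁻¹ ^ 2 * u))
      rw [zp_neg (hB1 b hb) t⁻¹, show zp p a u = zp p (zp p a t) (u * t⁻¹) by
        rw [← zp_mul (hA1 a ha), mul_left_comm, mul_inv_cancel₀ ht, mul_one],
        conj_zp, left_braid hS q, ← zp_neg (hB1 b hb), ← zp_mul (hB1 b hb)]
      congr 1
      ring
  obtain ⟨f, hf, hf'⟩ := Cfsg.Agent.S2426.result (K := ZMod p)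
  have hrel : ∀ r ∈ ({g : FreeGroup (Bool × ZMod p) | ∃ (b : Bool) (t u : ZMod p), g = FreeGroup.of (b, t) * FreeGroup.of (b, u) * (FreeGroup.of (b, t + u))⁻¹} ∪
          {g | ∃ (b : Bool) (t u : ZMod p), t ≠ 0 ∧
            g = (FreeGroup.of (b, t) * FreeGroup.of (!b, -t⁻¹) * FreeGroup.of (b, t)) * FreeGroup.of (b, u) *
                  (FreeGroup.of (b, t) * FreeGroup.of (!b, -t⁻¹) * FreeGroup.of (b, t))⁻¹ * (FreeGroup.of (!b, -(t⁻¹ ^ 2 * u)))⁻¹}),
      FreeGroup.lift (fun q : Bool × ZMod p => e q.1 q.2) r = 1 := by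
    rintro r (⟨β, t, u, rfl⟩ | ⟨β, t, u, ht, rfl⟩)
    · simp only [map_mul, map_inv, FreeGroup.lift_apply_of]
      rw [mul_inv_eq_one]
      exact (he.add β t u).symm
    · simp only [map_mul, map_inv, FreeGroup.lift_apply_of]
      rw [mul_inv_eq_one]
      exact he.rel β t u ht
  let ψ : Matrix.SpecialLinearGroup (Fin 2) (ZMod p) →* X := (PresentedGroup.toGroup hrel).comp f.symm.toMonoidHom
  have hψ : ∀ β t, ψ (f (PresentedGroup.of (β, t))) = e β t := fun β t => by
    show PresentedGroup.toGroup hrel (f.symm (f (PresentedGroup.of (β, t)))) = _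
    rw [MulEquiv.symm_apply_apply, PresentedGroup.toGroup.of]
  set H := Subgroup.closure ({a, b} : Set X) with hH
  have haH : a ∈ H := subset_closure (Or.inl rfl)
  have hbH : b ∈ H := subset_closure (Or.inr rfl)
  have hrange : ψ.range = H := by
    refine le_antisymm ?_ ?_
    · rintro _ ⟨g, rfl⟩
      obtain ⟨x, rfl⟩ := f.surjective g
      show PresentedGroup.toGroup hrel (f.symm (f x)) ∈ H
      rw [MulEquiv.symm_apply_apply]
      have hle : Subgroup.closure (Set.range (PresentedGroup.of)) ≤ H.comap (PresentedGroup.toGroup hrel) := by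
        rw [Subgroup.closure_le]
        rintro _ ⟨⟨β, t⟩, rfl⟩
        rw [SetLike.mem_coe, Subgroup.mem_comap, PresentedGroup.toGroup.of]
        cases β
        · exact pow_mem hbH _
        · exact pow_mem haH _
      rw [PresentedGroup.closure_range_of] at hle
      exact hle (mem_top x)
    · rw [hH, closure_le]
      rintro _ (rfl | rfl)
      · exact ⟨f (PresentedGroup.of (true, 1)), by rw [hψ]; simp [e, zp, ZMod.val_one]⟩
      · exact ⟨f (PresentedGroup.of (false, 1)), by rw [hψ]; simp [e, zp, ZMod.val_one]⟩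
  have hker : ψ.ker ≤ Subgroup.center _ := by
    refine ((Cfsg.Agent.S5017.result (Cfsg.Agent.S5016.result (ZMod p)).1).1 ψ.ker inferInstance).resolve_left ?_
    intro htop'
    have hsub : H ≤ Subgroup.zpowers b := by
      rw [← hrange, MonoidHom.range_eq_map, ← htop', Subgroup.map_sup,
        (Subgroup.map_eq_bot_iff _).2 le_rfl, bot_sup_eq]
      rw [Cfsg.lowerUnipotentSL2, MonoidHom.map_closure, closure_le]
      rintro _ ⟨g, ⟨hg1, hg2, hg3⟩, rfl⟩
      have : g = f (PresentedGroup.of (false, (g : Matrix (Fin 2) (Fin 2) (ZMod p)) 1 0)) := by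
        refine Subtype.ext ?_
        rw [hf']
        ext i j
        fin_cases i <;> fin_cases j <;> simp [hg1, hg2, hg3]
      rw [this, hψ]
      exact pow_mem (mem_zpowers b) _
    have : a ∈ B := (Subgroup.zpowers_le.2 hb) (hsub haH)
    exact ha1 ((Subgroup.eq_bot_iff_forall _).1 (normalizer_inf_eq_bot hpair) a
      (mem_inf.2 ⟨ha, Subgroup.le_normalizer this⟩))
  let e₀ : Matrix.SpecialLinearGroup (Fin 2) (ZMod p) ⧸ ψ.ker ≃* H :=
    (QuotientGroup.quotientKerEquivRange ψ).trans (MulEquiv.subgroupCongr hrange)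
  by_cases hk : ψ.ker = ⊥
  · exact Or.inl ⟨(((QuotientGroup.quotientMulEquivOfEq hk).trans QuotientGroup.quotientBot).symm.trans e₀).symm⟩
  · refine Or.inr ⟨((QuotientGroup.quotientMulEquivOfEq ?_).symm.trans e₀).symm⟩
    refine le_antisymm hker fun z hz => ?_
    obtain ⟨w, hw, hw1⟩ := (Subgroup.bot_or_exists_ne_one _).resolve_left hk
    have key : ∀ g ∈ Subgroup.center (Matrix.SpecialLinearGroup (Fin 2) (ZMod p)), g = 1 ∨ g = -1 := by
      intro g hg
      obtain ⟨r, hr, hrg⟩ := Matrix.SpecialLinearGroup.mem_center_iff.1 hg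
      rw [Fintype.card_fin, pow_two, mul_self_eq_one_iff] at hr
      rcases hr with rfl | rfl
      · left; refine Subtype.ext ?_; rw [← hrg]; simp
      · right; refine Subtype.ext ?_; rw [← hrg]; simp [← Matrix.diagonal_one, ← Matrix.diagonal_neg]
    rcases key z hz with rfl | rfl
    · exact one_mem _
    · rcases key w (hker hw) with rfl | rfl
      · exact absurd rfl hw1
      · exact hw

end Cfsg.Agent.S5022
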