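import Cfsg.Statements.S5020
import Cfsg.Agent.S5022
import Cfsg.Agent.Lib.Cores.Components

set_option autoImplicit false
open Cfsg

namespace Cfsg.Agent.S5020

open Subgroup Cfsg.Agent.S5021 CfsgLib.RankOne

variable {X : Type*} [Group X] {A B : Subgroup X} {a b c r : X}

theorem act_eq (C : Subgroup X) (g : X) : act C g⁻¹ = Cfsg.conjBy C g := by rw [act, inv_inv]

theorem eq_conj (h : SP A B) (p : P A B a b) : Cfsg.conjBy A b = Cfsg.conjBy B a := by
  rw [← act_eq, ← act_eq, (h.inv p).eq]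

theorem mu_swap (h : SP A B) (p : P A B a b) :
    Cfsg.conjBy A (a * b⁻¹ * a) = B ∧ Cfsg.conjBy B (a * b⁻¹ * a) = A := by
  obtain ⟨h1, h2, -⟩ := h.mu_eq p
  constructor
  · conv_lhs => rw [← h2]
    rw [act, conjBy_conjBy_inv]
  · conv_lhs => rw [← h1]
    rw [act, conjBy_conjBy_inv]

theorem mem_diag {g : X} (hg : g ∈ A ⊔ B) (h1 : Cfsg.conjBy A g = A) (h2 : Cfsg.conjBy B g = B) :
    g ∈ Cfsg.rankOneDiagonal A B :=
  ⟨⟨hg, conjBy_eq_self_iff.1 h1⟩, conjBy_eq_self_iff.1 h2⟩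

theorem diag_fix {g : X} (hg : g ∈ Cfsg.rankOneDiagonal A B) : Cfsg.conjBy A g = A ∧ Cfsg.conjBy B g = B :=
  ⟨conjBy_eq_self_iff.2 hg.1.2, conjBy_eq_self_iff.2 hg.2⟩

theorem mu_mem (p : P A B a b) : a * b⁻¹ * a ∈ A ⊔ B :=
  mul_mem (mul_mem (mem_sup_left p.ha) (mem_sup_right (inv_mem p.hb))) (mem_sup_left p.ha)

theorem mu_swap_inv (h : SP A B) (p : P A B a b) :
    Cfsg.conjBy A (a * b⁻¹ * a)⁻¹ = B ∧ Cfsg.conjBy B (a * b⁻¹ * a)⁻¹ = A := by
  constructor
  · calc _ = Cfsg.conjBy (Cfsg.conjBy B (a * b⁻¹ * a)) (a * b⁻¹ * a)⁻¹ := by rw [(mu_swap h p).2]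
      _ = B := by rw [conjBy_inv_conjBy]
  · calc _ = Cfsg.conjBy (Cfsg.conjBy A (a * b⁻¹ * a)) (a * b⁻¹ * a)⁻¹ := by rw [(mu_swap h p).1]
      _ = A := by rw [conjBy_inv_conjBy]

/-- The quotient of two interchanging elements is diagonal. -/
theorem mu_quot (h : SP A B) (p : P A B a b) (q : P A B c r) :
    (a * b⁻¹ * a) * (c * r⁻¹ * c)⁻¹ ∈ Cfsg.rankOneDiagonal A B := by
  refine mem_diag (mul_mem (mu_mem p) (inv_mem (mu_mem q))) ?_ ?_
  · rw [conjBy_mul]
    rw [(mu_swap_inv h q).1, (mu_swap h p).2]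
  · rw [conjBy_mul]
    rw [(mu_swap_inv h q).2, (mu_swap h p).1]

theorem mu_conj_diag (h : SP A B) (p : P A B a b) {g : X} (hg : g ∈ Cfsg.rankOneDiagonal A B) :
    (a * b⁻¹ * a)⁻¹ * g * (a * b⁻¹ * a) ∈ Cfsg.rankOneDiagonal A B := by
  refine mem_diag (mul_mem (mul_mem (inv_mem (mu_mem p)) hg.1.1) (mu_mem p)) ?_ ?_
  · rw [conjBy_mul, conjBy_mul, (mu_swap h p).1, (diag_fix hg).2]
    conv_lhs => rw [← (mu_swap h p).1]
    rw [conjBy_inv_conjBy]
  · rw [conjBy_mul, conjBy_mul, (mu_swap h p).2, (diag_fix hg).1]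
    conv_lhs => rw [← (mu_swap h p).2]
    rw [conjBy_inv_conjBy]

theorem partner_conj (p : P A B a b) {g : X} (hg : g ∈ Cfsg.rankOneDiagonal A B) :
    P A B (g * a * g⁻¹) (g * b * g⁻¹) := by
  obtain ⟨h1, h2⟩ := diag_fix hg
  refine ⟨h1.le ⟨a, p.ha, rfl⟩, fun e => p.ha1 (conj_eq_one_iff.1 e), h2.le ⟨b, p.hb, rfl⟩,
    fun e => p.hb1 (conj_eq_one_iff.1 e), ?_⟩
  have e := congrArg (fun C => Cfsg.conjBy C g) p.eq
  simp only [act, ← conjBy_mul] at e ⊢
  rw [show (g * b * g⁻¹)⁻¹ = g * b⁻¹ * g⁻¹ by group, show (g * a * g⁻¹)⁻¹ = g * a⁻¹ * g⁻¹ by group,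
    conjBy_mul _ (g * b⁻¹) g⁻¹, conjBy_mul _ (g * a⁻¹) g⁻¹]
  conv_lhs => rw [← h1]
  conv_rhs => rw [← h2]
  rw [conjBy_inv_conjBy, conjBy_inv_conjBy]
  exact e

theorem mu_apply (h : SP A B) (p : P A B a b) : (a * b⁻¹ * a) * a * (a * b⁻¹ * a)⁻¹ = b⁻¹ :=
  Cfsg.Agent.S5022.left_braid h p

/-- No proper non-trivial subgroup of `A` contains all commutators with the diagonal subgroup. -/
theorem no_proper (h : SP A B) {A0 : Subgroup X} (hA0 : A0 ≤ A)
    (hcom : ∀ g ∈ Cfsg.rankOneDiagonal A B, ∀ x ∈ A, g * x * g⁻¹ * x⁻¹ ∈ A0)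
    {u : X} (hu : u ∈ A0) (hu1 : u ≠ 1) {c : X} (hc : c ∈ A) (hcA0 : c ∉ A0) : False := by
  have hc1 : c ≠ 1 := fun e => hcA0 (e ▸ one_mem A0)
  obtain ⟨r, pc⟩ := h.partner hc hc1
  set n := c * r⁻¹ * c with hn
  obtain ⟨hnA, hnB⟩ := mu_swap h pc
  have hinv : ∀ g ∈ Cfsg.rankOneDiagonal A B, ∀ x ∈ A0, g * x * g⁻¹ ∈ A0 := fun g hg x hx => by
    have := mul_mem (hcom g hg x (hA0 hx)) hx
    rwa [inv_mul_cancel_right] at this
  set B0 := Cfsg.conjBy A0 n with hB0
  have hmove : ∀ {x y : X}, P A B x y → ∃ g ∈ Cfsg.rankOneDiagonal A B, n * x * n⁻¹ = g * y⁻¹ * g⁻¹ := by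
    intro x y q
    refine ⟨n * (x * y⁻¹ * x)⁻¹, mu_quot h pc q, ?_⟩
    calc n * x * n⁻¹ = n * (x * y⁻¹ * x)⁻¹ * ((x * y⁻¹ * x) * x * (x * y⁻¹ * x)⁻¹) *
          (n * (x * y⁻¹ * x)⁻¹)⁻¹ := by group
      _ = _ := by rw [mu_apply h q]
  have hroot : ∀ β ∈ B0, β ≠ 1 → ∃ w ∈ A0, P A B w β := by
    intro β hβ hβ1
    obtain ⟨α, hα, hαe⟩ := hβ
    have hαe' : n * α * n⁻¹ = β := hαe
    have hα1 : α ≠ 1 := fun e => hβ1 (by rw [← hαe', e]; group)
    obtain ⟨y, q⟩ := h.partner (hA0 hα) hα1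
    obtain ⟨g, hg, hge⟩ := hmove q
    refine ⟨g * α⁻¹ * g⁻¹, hinv g hg _ (inv_mem hα), ?_⟩
    rw [← hαe', hge]
    exact partner_conj (h.inv q) hg
  set v := c * u with hv
  have hvA : v ∈ A := mul_mem hc (hA0 hu)
  have hv1 : v ≠ 1 := fun e => hcA0 (by rw [eq_inv_of_mul_eq_one_left e]; exact inv_mem hu)
  obtain ⟨rv, pv⟩ := h.partner hvA hv1
  set β1 := n * u * n⁻¹ with hβ1def
  have hβ1 : β1 ∈ B0 := ⟨u, hu, rfl⟩
  have hβ1B : β1 ∈ B := hnA.le ⟨u, hA0 hu, rfl⟩
  set β := r⁻¹ * rv with hβ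
  have hβ0 : β ∈ B0 := by
    obtain ⟨g, hg, hge⟩ := hmove pv
    have hm := mu_conj_diag h pc hg
    rw [← hn] at hm
    have hα : n⁻¹ * rv⁻¹ * n ∈ A := by
      obtain ⟨α, hα, e⟩ := hnA.ge (inv_mem pv.hb)
      have e' : n * α * n⁻¹ = rv⁻¹ := e
      rw [← e']; simpa [mul_assoc] using hα
    have h1 : g * rv⁻¹ * g⁻¹ * rv ∈ B0 := by
      refine ⟨_, hcom _ hm _ hα, ?_⟩
      show n * _ * n⁻¹ = _
      group
    have h2 : g * rv⁻¹ * g⁻¹ = r⁻¹ * β1 := by
      rw [← hge, hv, hβ1def, ← mu_apply h pc, ← hn]; group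
    rw [h2, mul_assoc, h.commB β1 hβ1B rv pv.hb, ← mul_assoc] at h1
    exact (Subgroup.mul_mem_cancel_right _ hβ1).1 h1
  have hβne : β ≠ 1 := fun e => hu1 (by
    have hrv : rv = r := (inv_mul_eq_one.1 e).symm
    subst hrv
    exact mul_eq_left.1 (h.symm.unique pv.symm pc.symm))
  obtain ⟨u2, hu2, pu2⟩ := hroot β hβ0 hβne
  obtain ⟨u3, hu3, pu3⟩ := hroot β1 hβ1 fun e => hu1 (conj_eq_one_iff.1 e)
  have hr1 : Cfsg.conjBy B (c * u2) = Cfsg.conjBy B u3 := by
    calc Cfsg.conjBy B (c * u2) = Cfsg.conjBy (Cfsg.conjBy A β) c := by rw [conjBy_mul, eq_conj h pu2]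
      _ = Cfsg.conjBy (Cfsg.conjBy (Cfsg.conjBy A rv) r⁻¹) c := by rw [hβ, conjBy_mul]
      _ = Cfsg.conjBy B (n * u) := by
        rw [eq_conj h pv, ← conjBy_mul, ← conjBy_mul]
        congr 1
        rw [hv, hn]; group
      _ = Cfsg.conjBy (Cfsg.conjBy B n) β1 := by
        rw [← conjBy_mul, hβ1def]
        congr 1
        group
      _ = Cfsg.conjBy B u3 := by rw [hnB, eq_conj h pu3]
  have hce : c * u2 = u3 :=
    inv_injective (h.act_inj (inv_mem (mul_mem hc (hA0 hu2))) (inv_mem (hA0 hu3)) (by rw [act_eq, act_eq]; exact hr1))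
  exact hcA0 (by rw [eq_mul_inv_of_mul_eq hce]; exact mul_mem hu3 (inv_mem hu2))

theorem zmod_two_key : ∀ s : ZMod 2, s ^ 2 = 1 → s = 1 := by decide

theorem commutator_diag_le (g : X) (hg : g ∈ Cfsg.rankOneDiagonal A B) {x : X} (hx : x ∈ A) :
    g * x * g⁻¹ * x⁻¹ ∈ A :=
  mul_mem ((diag_fix hg).1.le ⟨x, hx, rfl⟩) (inv_mem hx)

theorem commutator_diag_eq (h : SP A B) (h3 : 3 < ENat.card A) : ⁅A, Cfsg.rankOneDiagonal A B⁆ = A := by
  classical
  set H := Cfsg.rankOneDiagonal A B with hH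
  have hle : ⁅A, H⁆ ≤ A := by
    rw [Subgroup.commutator_comm, Subgroup.commutator_le]
    exact fun g hg x hx => commutator_diag_le g hg hx
  have hcom : ∀ g ∈ H, ∀ x ∈ A, g * x * g⁻¹ * x⁻¹ ∈ ⁅A, H⁆ := fun g hg x hx => by
    rw [Subgroup.commutator_comm]; exact Subgroup.commutator_mem_commutator hg hx
  by_contra hne
  obtain ⟨c, hc, hcA0⟩ := SetLike.exists_of_lt (lt_of_le_of_ne hle hne)
  by_cases hbot : ⁅A, H⁆ = ⊥
  swap
  · obtain ⟨u, hu, hu1⟩ := (Subgroup.bot_or_exists_ne_one _).resolve_left hbot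
    exact no_proper h hle hcom hu hu1 hc hcA0
  have hcentr : ∀ g ∈ H, ∀ x ∈ A, g * x * g⁻¹ = x := fun g hg x hx => by
    have := hcom g hg x hx
    rwa [hbot, Subgroup.mem_bot, mul_inv_eq_one] at this
  have hc1 : c ≠ 1 := fun e => hcA0 (e ▸ one_mem _)
  by_cases hgen : A ≤ Subgroup.zpowers c
  swap
  · obtain ⟨c', hc', hc''⟩ := SetLike.not_le_iff_exists.1 hgen
    exact no_proper h ((Subgroup.zpowers_le).2 hc)
      (fun g hg x hx => by rw [hcentr g hg x hx, mul_inv_cancel]; exact one_mem _)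
      (Subgroup.mem_zpowers c) hc1 hc' hc''
  have hcard : ENat.card A ≤ 3 := by
    have hfin : ∀ k : ℕ, 0 < k → k ≤ 3 → c ^ k = 1 → ENat.card A ≤ 3 := by
      intro k hk hk3 hck
      have hf : IsOfFinOrder c := isOfFinOrder_iff_pow_eq_one.2 ⟨k, hk, hck⟩
      have hAz : A = Subgroup.zpowers c := le_antisymm hgen (Subgroup.zpowers_le.2 hc)
      haveI : Finite (Subgroup.zpowers c) := Nat.finite_of_card_ne_zero (by rw [Nat.card_zpowers]; exact hf.orderOf_pos.ne')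
      rw [hAz, ENat.card_eq_coe_natCard, Nat.card_zpowers]
      exact_mod_cast (Nat.le_of_dvd hk (orderOf_dvd_of_pow_eq_one hck)).trans hk3
    obtain ⟨b, pc⟩ := h.partner hc hc1
    by_cases h2 : c ^ 2 = 1
    · exact hfin 2 two_pos (by norm_num) h2
    refine hfin 3 (by norm_num) le_rfl ?_
    obtain ⟨r', pr⟩ := h.partner (pow_mem hc 2) h2
    have hr'2 : r' ^ 2 = b := pow_partner 2 h pc pr
    set n := c * b⁻¹ * c with hn
    set m := c ^ 2 * r'⁻¹ * c ^ 2 with hm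
    have hg : n * m⁻¹ ∈ H := mu_quot h pc pr
    have hg' := mu_conj_diag h pc hg
    rw [← hn] at hg'
    have hα : n⁻¹ * r'⁻¹ * n ∈ A := by
      obtain ⟨α, hα, e⟩ := (mu_swap h pc).1.ge (inv_mem pr.hb)
      have e' : n * α * n⁻¹ = r'⁻¹ := e
      rw [← e']; simpa [mul_assoc] using hα
    have e1 : (n * m⁻¹) * r'⁻¹ * (n * m⁻¹)⁻¹ = r'⁻¹ := by
      have := congrArg (MulAut.conj n) (hcentr _ hg' _ hα)
      simpa [mul_assoc] using this
    have e2 : n * c ^ 2 * n⁻¹ = r'⁻¹ := by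
      conv_rhs => rw [← e1, ← mu_apply h pr, ← hm]
      group
    have e3 : (b ^ 2)⁻¹ = r'⁻¹ := by
      rw [← e2, ← inv_pow, ← mu_apply h pc, ← hn, conj_pow]
    have e4 : b ^ 3 = 1 := by
      have : b ^ 4 = b := by rw [show 4 = 2 * 2 from rfl, pow_mul, inv_injective e3, hr'2]
      rw [pow_succ] at this
      exact mul_eq_right.1 this
    exact (h.pow_eq_one_iff pc 3).2 e4
  exact absurd hcard (not_le.2 h3)

end Cfsg.Agent.S5020

namespace Cfsg.Agent.S5020

open Subgroup Cfsg.Agent.S5021 CfsgLib.RankOne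

/-- Let X be a special rank one group with abelian unipotent subgroups A and B, and H = N(A) ∩ N(B) its diagonal subgroup. Then either A has at most three elements and X is isomorphic to SL₂(2), SL₂(3) or PSL₂(3); or X = X' A with the commutator subgroup X' quasisimple and the commutator subgroup ⁅A, H⁆ having more than three elements. -/
theorem result {X : Type*} [Group X] {A B : Subgroup X} (h : Cfsg.IsRankOneGroup X A B)
    (hs : Cfsg.IsSpecialRankOnePair A B) (hab : Cfsg.HasAbelianUnipotents A B) :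
    (ENat.card A ≤ 3 ∧ (Nonempty (X ≃* Matrix.SpecialLinearGroup (Fin 2) (ZMod 2)) ∨
        Nonempty (X ≃* Matrix.SpecialLinearGroup (Fin 2) (ZMod 3)) ∨
        Nonempty (X ≃* Matrix.ProjectiveSpecialLinearGroup (Fin 2) (ZMod 3)))) ∨
    (commutator X ⊔ A = ⊤ ∧ Cfsg.IsQuasisimple (commutator X) ∧
      3 < ENat.card ↥(⁅A, Cfsg.rankOneDiagonal A B⁆ : Subgroup X)) := by
  classical
  have hcA : ∀ x ∈ A, ∀ y ∈ A, x * y = y * x := fun x hx y hy =>
    congrArg Subtype.val (hab.1.is_comm.comm ⟨x, hx⟩ ⟨y, hy⟩)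
  have hcB : ∀ x ∈ B, ∀ y ∈ B, x * y = y * x := fun x hx y hy =>
    congrArg Subtype.val (hab.2.is_comm.comm ⟨x, hx⟩ ⟨y, hy⟩)
  have hS : SP A B := ⟨h.2.ne, h.2.cond_left, h.2.cond_right, hs.2, hcA, hcB⟩
  rcases le_or_gt (ENat.card A) 3 with h3 | h3
  · refine Or.inl ⟨h3, ?_⟩
    haveI : Finite A := by
      rw [← ENat.card_lt_top]; exact lt_of_le_of_lt h3 (by decide)
    have hn3 : Nat.card A ≤ 3 := by rw [ENat.card_eq_coe_natCard] at h3; exact_mod_cast h3
    haveI : Nontrivial A := (Subgroup.nontrivial_iff_ne_bot A).2 (left_ne_bot h.2)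
    have hn1 : 1 < Nat.card A := Finite.one_lt_card
    obtain ⟨a, ha, ha1⟩ := (Subgroup.bot_or_exists_ne_one A).resolve_left (left_ne_bot h.2)
    obtain ⟨b, hb, hb1, hab'⟩ := h.2.cond_left a ha ha1
    obtain ⟨g, -, hg⟩ := right_mem_unipotentSubgroups h.2
    have hcardB : Nat.card B = Nat.card A := by
      rw [hg]; exact Subgroup.card_map_of_injective (MulAut.conj g).injective
    haveI : Finite B := Nat.finite_of_card_ne_zero (by omega)
    have gen : ∀ (p : ℕ) [Fact p.Prime], Nat.card A = p →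
        Cfsg.IsElementaryAbelian p A ∧ Subgroup.closure ({a, b} : Set X) = ⊤ := by
      intro p _ hp
      refine ⟨⟨hab.1, fun x hx => ?_⟩, ?_⟩
      · have := congrArg Subtype.val (pow_card_eq_one' (G := A) (x := ⟨x, hx⟩))
        rw [hp] at this
        simpa using this
      · rw [eq_top_iff, ← h.1]
        refine sup_le ?_ ?_
        · have : A = Subgroup.zpowers a := by
            refine (Subgroup.eq_of_le_of_card_ge (Subgroup.zpowers_le.2 ha) ?_).symm
            rw [Nat.card_zpowers, hp, orderOf_eq_prime (p := p) ?_ ha1]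
            have := congrArg Subtype.val (pow_card_eq_one' (G := A) (x := ⟨a, ha⟩))
            rw [hp] at this
            simpa using this
          rw [this, Subgroup.zpowers_le]
          exact Subgroup.subset_closure (Or.inl rfl)
        · have : B = Subgroup.zpowers b := by
            refine (Subgroup.eq_of_le_of_card_ge (Subgroup.zpowers_le.2 hb) ?_).symm
            rw [Nat.card_zpowers, hcardB, hp, orderOf_eq_prime (p := p) ?_ hb1]
            have := congrArg Subtype.val (pow_card_eq_one' (G := B) (x := ⟨b, hb⟩))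
            rw [hcardB, hp] at this
            simpa using this
          rw [this, Subgroup.zpowers_le]
          exact Subgroup.subset_closure (Or.inr rfl)
    rcases (show Nat.card A = 2 ∨ Nat.card A = 3 by omega) with hp | hp
    · obtain ⟨he, htop⟩ := gen 2 hp
      let e0 := (MulEquiv.subgroupCongr htop).trans Subgroup.topEquiv
      rcases Cfsg.Agent.S5022.result h hs hab he ha ha1 hb hb1 hab' with e | e
      · exact Or.inl (e.map fun f => e0.symm.trans f)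
      · have hc : Subgroup.center (Matrix.SpecialLinearGroup (Fin 2) (ZMod 2)) = ⊥ := by
          rw [eq_bot_iff]
          intro z hz
          obtain ⟨t, ht, hzt⟩ := Matrix.SpecialLinearGroup.mem_center_iff.1 hz
          have : t = 1 := by
            exact zmod_two_key t (by simpa using ht)
          subst this
          refine Subgroup.mem_bot.2 (Subtype.ext ?_)
          rw [← hzt]; simp
        exact Or.inl (e.map fun f => (e0.symm.trans f).trans ((QuotientGroup.quotientMulEquivOfEq hc).trans QuotientGroup.quotientBot))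
    · obtain ⟨he, htop⟩ := gen 3 hp
      let e0 := (MulEquiv.subgroupCongr htop).trans Subgroup.topEquiv
      rcases Cfsg.Agent.S5022.result h hs hab he ha ha1 hb hb1 hab' with e | e
      · exact Or.inr (Or.inl (e.map fun f => e0.symm.trans f))
      · exact Or.inr (Or.inr (e.map fun f => e0.symm.trans f))
  · have hAH := commutator_diag_eq hS h3
    have hAX : A ≤ commutator X := by
      rw [← hAH, _root_.commutator_def]
      exact Subgroup.commutator_mono le_top le_top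
    have hperf : commutator X = ⊤ := by
      rw [eq_top_iff, ← h.1]
      refine sup_le hAX ?_
      obtain ⟨g, -, hg⟩ := right_mem_unipotentSubgroups h.2
      rw [hg]
      rintro _ ⟨a, ha, rfl⟩
      exact (inferInstance : (commutator X).Normal).conj_mem a (hAX ha) g
    refine Or.inr ⟨by rw [hperf, top_sup_eq], ?_, by rw [hAH]; exact h3⟩
    have hq : Cfsg.IsQuasisimple X := (Cfsg.Agent.S5017.result h).2 ⟨hperf⟩
    exact CfsgLib.Cores.isQuasisimple_of_equiv ((MulEquiv.subgroupCongr hperf).trans Subgroup.topEquiv).symm hq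

end Cfsg.Agent.S5020
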