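import Cfsg.Statements.S5024
import Cfsg.Agent.Lib.RootSubgroups.RootSet
-- import your own Cfsg.Agent.* helpers here

set_option autoImplicit false
open Cfsg
open CfsgLib.RankOne

namespace Cfsg.Agent.S5024

/-- Let S be a set of abstract root subgroups of G, A and C members of S, B a rank one partner of A in S and D a rank one partner of C in S. If the rank one group ⟨A, B⟩ is contained in ⟨C, D⟩ then the two coincide, and C and D are conjugates of A inside ⟨A, B⟩. -/
theorem result {G : Type*} [Group G] {S : Set (Subgroup G)} (hS : Cfsg.IsRootSubgroupSet S)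
    {A B C D : Subgroup G} (hA : A ∈ S) (hC : C ∈ S) (hB : B ∈ Cfsg.rankOnePartners S A) (hD : D ∈ Cfsg.rankOnePartners S C)
    (hle : A ⊔ B ≤ C ⊔ D) : A ⊔ B = C ⊔ D ∧ C ∈ Cfsg.unipotentSubgroups A B ∧ D ∈ Cfsg.unipotentSubgroups A B := by
  have hAu := mem_unipotentSubgroups_of_le hS hA hC hD.1 hD.2 ⟨B, le_sup_right.trans hle, hB.2⟩ (le_sup_left.trans hle)
  have hBu := mem_unipotentSubgroups_of_le hS hB.1 hC hD.1 hD.2
    ⟨A, le_sup_left.trans hle, RankOnePair_symm hB.2⟩ (le_sup_right.trans hle)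
  obtain ⟨x, hx, hxC, hxD⟩ := two_transitive hD.2 self_mem_unipotentSubgroups (right_mem_unipotentSubgroups hD.2)
    hAu hBu hD.2.ne hB.2.ne
  have heq : A ⊔ B = C ⊔ D := by
    rw [← hxC, ← hxD, ← conjBy_of_mem hx]
    exact (Subgroup.map_sup _ _ _).symm
  have hx' : x⁻¹ ∈ A ⊔ B := by rw [heq]; exact inv_mem hx
  refine ⟨heq, ⟨x⁻¹, hx', ?_⟩, ?_⟩
  · rw [← hxC, conjBy_inv_conjBy]
  · rw [show D = conjBy B x⁻¹ by rw [← hxD, conjBy_inv_conjBy]]
    exact conjBy_mem_unipotentSubgroups (right_mem_unipotentSubgroups hB.2) hx'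

end Cfsg.Agent.S5024
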