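import Cfsg.Statements.S5026
import Cfsg.Agent.Lib.RootSubgroups.RootSet
-- import your own Cfsg.Agent.* helpers here

set_option autoImplicit false
open Cfsg
open CfsgLib.RankOne

namespace Cfsg.Agent.S5026

/-- Let S be a degenerate set of abstract root subgroups of G (a set of abstract transvection groups) and let a, b be commuting non-identity elements of members of S with a b ≠ 1. Then the members of S centralizing a b are exactly those centralizing both a and b. -/
theorem result {G : Type*} [Group G] {S : Set (Subgroup G)} (hS : Cfsg.IsRootSubgroupSet S) (hdeg : Cfsg.IsDegenerateRootSet S)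
    {a b : G} (ha : a ∈ Cfsg.rootElements S) (hb : b ∈ Cfsg.rootElements S) (hab : a * b = b * a) (hab1 : a * b ≠ 1) :
    Cfsg.centralizingMembers S (Subgroup.zpowers (a * b)) =
      Cfsg.centralizingMembers S (Subgroup.zpowers a) ∩ Cfsg.centralizingMembers S (Subgroup.zpowers b) := by
  obtain ⟨ha1, A, hA, haA⟩ := ha
  obtain ⟨hb1, B, hB, hbB⟩ := hb
  simp only [centralizingMembers_zpowers]
  ext C
  constructor
  swap
  · rintro ⟨⟨hC, h1⟩, -, h2⟩
    exact ⟨hC, fun c hc => ((show Commute c a from h1 c hc).mul_right (h2 c hc)).eq⟩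
  rintro ⟨hC, h⟩
  suffices key : ∀ c ∈ C, c * a = a * c by
    refine ⟨⟨hC, key⟩, hC, fun c hc => ?_⟩
    have := (show Commute c a from key c hc).inv_right.mul_right (h c hc)
    simpa using this.eq
  have hna : ¬ ⁅C, A⁆ = ⊥ → IsRankOnePair C A := fun hne =>
    ((hS.pair C hC A hA).resolve_left hne).resolve_right (hdeg C hC A hA)
  by_cases hCA : ⁅C, A⁆ = ⊥
  · exact fun c hc => commute_of_commutator_eq_bot hCA hc haA
  by_cases hCB : ⁅C, B⁆ = ⊥
  · intro c hc
    have := (show Commute c (a * b) from h c hc).mul_right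
      (show Commute c b from commute_of_commutator_eq_bot hCB hc hbB).inv_right
    simpa using this.eq
  exfalso
  have hrA := hna hCA
  have hrB : IsRankOnePair C B := ((hS.pair C hC B hB).resolve_left hCB).resolve_right (hdeg C hC B hB)
  have hfix : conjBy C (a * b) = C := conjBy_eq_self_iff.2 (Subgroup.centralizer_le_normalizer _
    (Subgroup.mem_centralizer_iff.2 h))
  obtain ⟨c, hc, -, hcA⟩ := hrA.cond_right a haA ha1
  obtain ⟨c', hc', -, hcB⟩ := hrB.cond_right b⁻¹ (inv_mem hbB) (inv_ne_one.2 hb1)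
  have hCb : conjBy C b = conjBy C a⁻¹ := by
    conv_rhs => rw [← hfix, ← conjBy_mul, inv_mul_cancel_left]
  rw [inv_inv, hCb, ← hcA] at hcB
  have hBu : B ∈ unipotentSubgroups C A := by
    rw [← conjBy_conjBy_inv B c', hcB, ← conjBy_mul]
    exact conjBy_mem_unipotentSubgroups (right_mem_unipotentSubgroups hrA)
      (Subgroup.mem_sup_left (mul_mem hc' (inv_mem hc)))
  have hAB : A = B := by
    by_contra hne
    obtain ⟨x, -, hx1, hx2⟩ := two_transitive hrA self_mem_unipotentSubgroups (right_mem_unipotentSubgroups hrA)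
      (right_mem_unipotentSubgroups hrA) hBu hrA.ne hne
    have hr : IsRankOnePair A B := hx1 ▸ hx2 ▸ isRankOnePair_conjBy hrA x
    apply hb1
    refine eq_of_conjBy_eq_left hr hbB (one_mem B) ?_
    rw [conjBy_one]
    refine ((inf_eq_bot_or_eq hS hA (fun hi => (hi.2 B).1 ⟨hA, hB, hr⟩) (hS.conj_mem A hA b)).resolve_left
      fun hbot => ha1 ((Subgroup.eq_bot_iff_forall _).1 hbot a (Subgroup.mem_inf.2 ⟨haA, ?_⟩))).symm
    rw [mem_conjBy, mul_assoc, hab, inv_mul_cancel_left]
    exact haA
  apply hab1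
  refine (Subgroup.eq_bot_iff_forall _).1 (normalizer_inf_eq_bot' hrA) _ (Subgroup.mem_inf.2 ⟨?_, conjBy_eq_self_iff.1 hfix⟩)
  exact mul_mem haA (hAB ▸ hbB)

end Cfsg.Agent.S5026
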