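import Cfsg.Statements.S5027
import Cfsg.Agent.Lib.RootSubgroups.RootSet
-- import your own Cfsg.Agent.* helpers here

set_option autoImplicit false
open Cfsg
open CfsgLib.RankOne

namespace Cfsg.Agent.S5027

/-- Let S be a set of abstract root subgroups of G such that every member of S has a rank one partner in S (the graph of rank one pairs on S has no isolated vertex). Then the second centre of G equals its centre. -/
theorem result {G : Type*} [Group G] {S : Set (Subgroup G)} (hS : Cfsg.IsRootSubgroupSet S)
    (hF : ∀ A ∈ S, ¬ Cfsg.IsIsolatedIn (Cfsg.FAdj S) S A) : Subgroup.upperCentralSeries G 2 = Subgroup.center G := by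
  refine le_antisymm (fun z hz => ?_) ?_
  swap
  · rw [← Subgroup.upperCentralSeries_one (G := G)]
    exact Subgroup.upperCentralSeries_mono G (by norm_num)
  have hle : ∀ A ∈ S, A ≤ Subgroup.centralizer ({z} : Set G) := by
    intro A hA a ha
    rw [Subgroup.mem_centralizer_singleton_iff]
    have hc : z * a * z⁻¹ * a⁻¹ ∈ Subgroup.center G := by
      rw [← Subgroup.upperCentralSeries_one (G := G)]
      exact (Subgroup.mem_upperCentralSeries_succ_iff.1 hz) a
    by_contra hne
    have hc1 : z * a * z⁻¹ * a⁻¹ ≠ 1 := by
      intro e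
      rw [mul_inv_eq_one, mul_inv_eq_iff_eq_mul] at e
      exact hne e.symm
    have ha1 : a ≠ 1 := by
      rintro rfl
      exact hne (by simp)
    obtain ⟨C, hC, hAC⟩ := exists_partner_of_not_isolated hA (hF A hA)
    refine not_mem_rootElements hS hA hC hAC (Subgroup.center_le_centralizer _ hc) hc1 ha ha1 ?_
    rw [inv_mul_cancel_right]
    exact ⟨fun e => ha1 (conj_eq_one_iff.1 e), conjBy A z, hS.conj_mem A hA z, ⟨a, ha, rfl⟩⟩
  have htop : (⊤ : Subgroup G) ≤ Subgroup.centralizer ({z} : Set G) := hS.generates ▸ iSup₂_le hle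
  rw [Subgroup.mem_center_iff]
  exact fun g => Subgroup.mem_centralizer_singleton_iff.1 (htop (Subgroup.mem_top g))

end Cfsg.Agent.S5027
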