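import Cfsg.Statements.S5030
import Cfsg.Agent.Lib.RootSubgroups.LineLemmas

set_option autoImplicit false
open Cfsg

namespace Cfsg.Agent.S5030

open scoped commutatorElement
open Subgroup CfsgLib.RankOne CfsgLib.RootLine CfsgLib.RootSubgroups.SL2Pair

variable {G : Type*} [Group G] {S : Set (Subgroup G)}

/-- Commutators of two generated subgroups lie in a normalised subgroup as soon as those of generators do. -/
theorem commutator_closure_le {K L : Set G} {W : Subgroup G}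
    (hK : ∀ k ∈ K, k ∈ normalizer (W : Set G)) (hL : ∀ l ∈ L, l ∈ normalizer (W : Set G))
    (h : ∀ k ∈ K, ∀ l ∈ L, ⁅k, l⁆ ∈ W) : ⁅closure K, closure L⁆ ≤ W := by
  have hnK : closure K ≤ normalizer (W : Set G) := (closure_le _).2 hK
  have hnL : closure L ≤ normalizer (W : Set G) := (closure_le _).2 hL
  have hcj : ∀ {x w : G}, x ∈ normalizer (W : Set G) → w ∈ W → x * w * x⁻¹ ∈ W := fun hx hw =>
    (mem_normalizer_iff.1 hx _).1 hw
  have h1 : ∀ k ∈ K, ∀ y ∈ closure L, ⁅k, y⁆ ∈ W := by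
    intro k hk y hy
    induction hy using closure_induction with
    | mem l hl => exact h k hk l hl
    | one => simp
    | mul y z hy _ ihy ihz =>
      rw [show ⁅k, y * z⁆ = ⁅k, y⁆ * (y * ⁅k, z⁆ * y⁻¹) by simp only [commutatorElement_def]; group]
      exact W.mul_mem ihy (hcj (hnL hy) ihz)
    | inv y hy ihy =>
      rw [show ⁅k, y⁻¹⁆ = y⁻¹ * ⁅k, y⁆⁻¹ * y⁻¹⁻¹ by simp only [commutatorElement_def]; group]
      exact hcj (inv_mem (hnL hy)) (W.inv_mem ihy)
  rw [commutator_le]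
  intro x hx y hy
  induction hx using closure_induction with
  | mem k hk => exact h1 k hk y hy
  | one => simp
  | mul x z hx _ ihx ihz =>
    rw [show ⁅x * z, y⁆ = (x * ⁅z, y⁆ * x⁻¹) * ⁅x, y⁆ by simp only [commutatorElement_def]; group]
    exact W.mul_mem (hcj (hnK hx) ihz) ihx
  | inv x hx ihx =>
    rw [show ⁅x⁻¹, y⁆ = x⁻¹ * ⁅x, y⁆⁻¹ * x⁻¹⁻¹ by simp only [commutatorElement_def]; group]
    exact hcj (inv_mem (hnK hx)) (W.inv_mem ihx)

theorem commute_closure {K L : Set G} (h : ∀ k ∈ K, ∀ l ∈ L, k * l = l * k) :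
    ∀ x ∈ closure K, ∀ y ∈ closure L, x * y = y * x := by
  have := commutator_closure_le (W := (⊥ : Subgroup G)) (K := K) (L := L)
    (fun k _ => mem_normalizer_iff.2 fun h => by simp [Subgroup.mem_bot]) (fun l _ => mem_normalizer_iff.2 fun h => by simp [Subgroup.mem_bot])
    fun k hk l hl => mem_bot.2 (commutatorElement_eq_one_iff_mul_comm.2 (h k hk l hl))
  intro x hx y hy
  exact commutatorElement_eq_one_iff_mul_comm.1 (mem_bot.1 (this (commutator_mem_commutator hx hy)))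

/-- Two members commuting or in the commutator case generate a group of class at most two. -/
theorem class_two (hS : Cfsg.IsRootSubgroupSet S) {U V : Subgroup G} (hU : U ∈ S) (hV : V ∈ S)
    (h : ¬ Cfsg.IsRankOnePair U V) :
    ⁅U ⊔ V, U ⊔ V⁆ ≤ ⁅U, V⁆ ∧ ⁅⁅U ⊔ V, U ⊔ V⁆, U ⊔ V⁆ = ⊥ := by
  have hc : ∀ w ∈ ⁅U, V⁆, ∀ x ∈ U ⊔ V, w * x = x * w := by
    rcases hS.pair U hU V hV with h' | h' | h'
    · intro w hw x _
      rw [h', mem_bot] at hw
      simp [hw]
    · exact absurd h' h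
    · exact h'.2.1
  have hle : ⁅U ⊔ V, U ⊔ V⁆ ≤ ⁅U, V⁆ := by
    have hn : ∀ k ∈ (U : Set G) ∪ V, k ∈ normalizer ((⁅U, V⁆ : Subgroup G) : Set G) := fun k hk =>
      centralizer_le_normalizer _ (mem_centralizer_iff.2 fun w hw => hc w hw k
        (hk.elim (fun h => mem_sup_left h) (fun h => mem_sup_right h)))
    rw [Subgroup.sup_eq_closure]
    refine commutator_closure_le hn hn ?_
    rintro k (hk | hk) l (hl | hl)
    · rw [commutatorElement_eq_one_iff_mul_comm.2 (member_comm hS hU hk hl)]; exact one_mem _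
    · exact commutator_mem_commutator hk hl
    · rw [← commutatorElement_inv]; exact inv_mem (commutator_mem_commutator hl hk)
    · rw [commutatorElement_eq_one_iff_mul_comm.2 (member_comm hS hV hk hl)]; exact one_mem _
  refine ⟨hle, commutator_eq_bot_iff_le_centralizer.2 fun w hw => mem_centralizer_iff.2 fun x hx => ?_⟩
  exact (hc w (hle hw) x hx).symm

theorem isMulCommutative_sup (hS : Cfsg.IsRootSubgroupSet S) {U V : Subgroup G} (hU : U ∈ S) (hV : V ∈ S)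
    (h : ⁅U, V⁆ = ⊥) : IsMulCommutative ↥(U ⊔ V) := by
  have hk : ∀ x ∈ U ⊔ V, ∀ y ∈ U ⊔ V, x * y = y * x := by
    rw [Subgroup.sup_eq_closure]
    refine commute_closure ?_
    rintro k (hk | hk) l (hl | hl)
    · exact member_comm hS hU hk hl
    · exact commute_of_commutator_eq_bot h hk hl
    · exact (commute_of_commutator_eq_bot h hl hk).symm
    · exact member_comm hS hV hk hl
  exact ⟨⟨fun x y => Subtype.ext (hk x x.2 y y.2)⟩⟩

theorem commutator_eq_bot_of_comm {U V : Subgroup G} (h : IsMulCommutative ↥(U ⊔ V)) : ⁅U, V⁆ = ⊥ :=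
  commutator_eq_bot_iff_le_centralizer.2 fun u hu => mem_centralizer_iff.2 fun v hv =>
    congrArg Subtype.val (h.is_comm.comm ⟨v, mem_sup_right hv⟩ ⟨u, mem_sup_left hu⟩)

/-- Let S be a set of abstract root subgroups of G and A, B, C ∈ S with ⁅A, B⁆ ∈ S and ⁅B, C⁆ ∈ S, where A and C are different and commute. For a non-identity b ∈ B put X = ⟨A, b⁻¹ C b⟩ and Y = ⟨b⁻¹ A b, C⟩ and R = ⟨A, B, C⟩. Then X and Y are either both abelian or both nilpotent of class exactly two; X and Y commute elementwise; XY is normal in R with R = (XY) B; and R is nilpotent. -/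
theorem result {G : Type*} [Group G] {S : Set (Subgroup G)} (hS : Cfsg.IsRootSubgroupSet S)
    {A B C : Subgroup G} (hA : A ∈ S) (hB : B ∈ S) (hC : C ∈ S) (hAB : ⁅A, B⁆ ∈ S) (hBC : ⁅B, C⁆ ∈ S)
    (hAC : C ∈ Cfsg.commutingPartners S A)
    {b : G} (hb : b ∈ B) (hb1 : b ≠ 1) :
    ((IsMulCommutative ↥(A ⊔ Cfsg.conjBy C b⁻¹) ∧ IsMulCommutative ↥(Cfsg.conjBy A b⁻¹ ⊔ C)) ∨
      ((¬ IsMulCommutative ↥(A ⊔ Cfsg.conjBy C b⁻¹) ∧
          ⁅⁅A ⊔ Cfsg.conjBy C b⁻¹, A ⊔ Cfsg.conjBy C b⁻¹⁆, A ⊔ Cfsg.conjBy C b⁻¹⁆ = ⊥) ∧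
        (¬ IsMulCommutative ↥(Cfsg.conjBy A b⁻¹ ⊔ C) ∧
          ⁅⁅Cfsg.conjBy A b⁻¹ ⊔ C, Cfsg.conjBy A b⁻¹ ⊔ C⁆, Cfsg.conjBy A b⁻¹ ⊔ C⁆ = ⊥))) ∧
    ⁅A ⊔ Cfsg.conjBy C b⁻¹, Cfsg.conjBy A b⁻¹ ⊔ C⁆ = ⊥ ∧
    (∀ r ∈ A ⊔ B ⊔ C, Cfsg.conjBy ((A ⊔ Cfsg.conjBy C b⁻¹) ⊔ (Cfsg.conjBy A b⁻¹ ⊔ C)) r =
      (A ⊔ Cfsg.conjBy C b⁻¹) ⊔ (Cfsg.conjBy A b⁻¹ ⊔ C)) ∧
    ((A ⊔ Cfsg.conjBy C b⁻¹) ⊔ (Cfsg.conjBy A b⁻¹ ⊔ C)) ⊔ B = A ⊔ B ⊔ C ∧
    Group.IsNilpotent ↥(A ⊔ B ⊔ C) := by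
  classical
  obtain ⟨-, hCA, hcomm⟩ := hAC
  have hac : ∀ a ∈ A, ∀ c ∈ C, a * c = c * a := fun a ha c hc => commute_of_commutator_eq_bot hcomm ha hc
  have h1 := commCase hS hA hB hAB
  have h2 := commCase hS hB hC hBC
  have h2s := commutatorCase_symm h2
  set P := ⁅A, B⁆ with hP
  set Q := ⁅B, C⁆ with hQ
  have hQ' : ⁅C, B⁆ = Q := Subgroup.commutator_comm C B
  set A' := Cfsg.conjBy A b⁻¹ with hA'def
  set C' := Cfsg.conjBy C b⁻¹ with hC'def
  have hA'S : A' ∈ S := hS.conj_mem A hA _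
  have hC'S : C' ∈ S := hS.conj_mem C hC _
  have hA'le : A' ≤ A ⊔ P := conjBy_le_sup h1 (inv_mem hb)
  have hC'le : C' ≤ C ⊔ Q := hQ' ▸ conjBy_le_sup h2s (inv_mem hb)
  -- every element of `Q` is a quotient of an element of `C` and an element of a conjugate of it
  have hsurjQ : ∀ β ∈ B, β ≠ 1 → ∀ q ∈ Q, ∃ c ∈ C, ∃ c'' ∈ Cfsg.conjBy C β, q = c'' * c⁻¹ := by
    intro β hβ hβ1 q hq
    obtain ⟨c, hc, he⟩ := exists_commutator h2 hβ hβ1 hq
    exact ⟨c, hc, β * c * β⁻¹, ⟨c, hc, rfl⟩, he.symm⟩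
  have hsurjP : ∀ β ∈ B, β ≠ 1 → ∀ p ∈ P, ∃ a ∈ A, ∃ a'' ∈ Cfsg.conjBy A β, p = a'' * a⁻¹ := by
    intro β hβ hβ1 p hp
    obtain ⟨a, ha, he⟩ := exists_commutator (commutatorCase_symm h1) hβ hβ1 (by rwa [commutator_comm B A])
    exact ⟨a, ha, β * a * β⁻¹, ⟨a, ha, rfl⟩, he.symm⟩
  have hAQ : ∀ β ∈ B, β ≠ 1 → ⁅A, Cfsg.conjBy C β⁆ = ⊥ → ∀ γ ∈ B, ⁅A, Cfsg.conjBy C γ⁆ = ⊥ := by
    intro β hβ hβ1 h γ hγ
    refine commutator_eq_bot_iff_le_centralizer.2 fun a ha => mem_centralizer_iff.2 fun y hy => ?_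
    have hle : C ⊔ Q ≤ centralizer ({a} : Set G) := by
      refine sup_le (fun c hc => mem_centralizer_singleton_iff.2 (hac a ha c hc).symm) fun q hq => ?_
      obtain ⟨c, hc, c'', hc'', rfl⟩ := hsurjQ β hβ hβ1 q hq
      exact mem_centralizer_singleton_iff.2 ((show Commute c'' a from (commute_of_commutator_eq_bot h ha hc'').symm).mul_left
        ((show Commute c a from (hac a ha c hc).symm).inv_left)).eq
    exact mem_centralizer_singleton_iff.1 (hle ((hQ' ▸ conjBy_le_sup h2s hγ : Cfsg.conjBy C γ ≤ C ⊔ Q) hy))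
  have heqv : ⁅A, C'⁆ = ⊥ ↔ ⁅A', C⁆ = ⊥ := by
    have e : ⁅A', C⁆ = Cfsg.conjBy ⁅A, Cfsg.conjBy C b⁆ b⁻¹ := by
      rw [map_commutator_conj, conjBy_inv_conjBy]
    constructor
    · intro h
      rw [e, hAQ b⁻¹ (inv_mem hb) (inv_ne_one.2 hb1) h b hb]
      exact Subgroup.map_bot _
    · intro h
      rw [e] at h
      refine hAQ b hb hb1 ?_ b⁻¹ (inv_mem hb)
      rw [← conjBy_conjBy_inv ⁅A, Cfsg.conjBy C b⁆ b, h]
      exact Subgroup.map_bot _
  -- the generating pairs are not rank one pairs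
  have hnr : ∀ β ∈ B, β ≠ 1 → ¬ Cfsg.IsRankOnePair A (Cfsg.conjBy C β) := by
    intro β hβ hβ1 hr
    obtain ⟨c, hc, hc1⟩ := exists_ne_one (hS.ne_bot C hC)
    set w := c * β * c⁻¹ * β⁻¹ with hw
    have hwQ : w ∈ Q := hQ' ▸ commutator_mem_commutator hc hβ
    have hd : w⁻¹ * c ∈ Cfsg.conjBy C β := ⟨c, hc, by simp [hw, mul_assoc]⟩
    have hcd : ∀ y ∈ Cfsg.conjBy C β, c * y = y * c := fun y hy =>
      (commute_sup hS hC h2s (conjBy_le_sup h2s hβ hy) hc).symm
    have hle : A ⊔ Cfsg.conjBy C β ≤ centralizer ({c⁻¹} : Set G) :=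
      sup_le (fun a ha => mem_centralizer_singleton_iff.2 ((show Commute a c from hac a ha c hc).inv_right).eq)
        (fun y hy => mem_centralizer_singleton_iff.2 ((show Commute c y from hcd y hy).symm.inv_right).eq)
    have hd1 : w⁻¹ * c ≠ 1 := fun e => hc1 (by
      have : β * c * β⁻¹ = 1 := by rw [show β * c * β⁻¹ = w⁻¹ * c by rw [hw]; group, e]
      exact conj_eq_one_iff.1 this)
    have hcw : c⁻¹ * (w⁻¹ * c) = w⁻¹ := by
      have hwc : w * c = c * w := h2s.2.1 w (commutator_mem_commutator hc hβ) c (mem_sup_left hc)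
      rw [((show Commute w c from hwc).inv_left).eq, inv_mul_cancel_left]
    refine not_mem_rootElements hS (hS.conj_mem C hC β) hA (Cfsg.RankOnePair_symm hr)
      (sup_comm A (Cfsg.conjBy C β) ▸ mem_centralizer_iff.2 fun y hy => mem_centralizer_singleton_iff.1 (hle hy))
      (inv_ne_one.2 hc1) hd hd1 ⟨?_, Q, hBC, ?_⟩
    · rw [hcw]
      intro e
      refine hd1 ?_
      have hc' : c ∈ Cfsg.conjBy C β := by rwa [e, one_mul] at hd
      rw [e, one_mul]
      exfalso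
      have hfix : c⁻¹ ∈ normalizer (A : Set G) :=
        centralizer_le_normalizer _ (mem_centralizer_iff.2 fun a ha => ((show Commute a c from hac a ha c hc).inv_right).eq)
      exact hc1 (inv_eq_one.1 ((Subgroup.eq_bot_iff_forall _).1 (normalizer_inf_eq_bot' hr) c⁻¹
        ⟨(Cfsg.conjBy C β).inv_mem hc', hfix⟩))
    · rw [hcw]; exact inv_mem hwQ
  have hnrX : ¬ Cfsg.IsRankOnePair A C' := hnr b⁻¹ (inv_mem hb) (inv_ne_one.2 hb1)
  have hnrY : ¬ Cfsg.IsRankOnePair A' C := fun hr => by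
    refine hnr b hb hb1 ?_
    have := isRankOnePair_conjBy hr b
    rwa [hA'def, conjBy_conjBy_inv] at this
  set X := A ⊔ C' with hX
  set Y := A' ⊔ C with hY
  have hXY : ∀ x ∈ X, ∀ y ∈ Y, x * y = y * x := by
    rw [hX, hY, Subgroup.sup_eq_closure, Subgroup.sup_eq_closure]
    refine commute_closure ?_
    have hA'A : ∀ a' ∈ A', ∀ a ∈ A, a' * a = a * a' := fun a' ha' a ha => commute_sup hS hA h1 (hA'le ha') ha
    have hC'C : ∀ c' ∈ C', ∀ c ∈ C, c' * c = c * c' := fun c' hc' c hc =>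
      commute_sup hS hC h2s (hQ'.symm ▸ hC'le hc') hc
    rintro k (hk | hk) l (hl | hl)
    · exact (hA'A l hl k hk).symm
    · exact hac k hk l hl
    · obtain ⟨c, hc, rfl⟩ := hk
      obtain ⟨a, ha, rfl⟩ := hl
      rw [← map_mul, ← map_mul, hac a ha c hc]
    · exact hC'C k hk l hl
  set M := X ⊔ Y with hM
  have hAM : A ≤ M := le_sup_of_le_left le_sup_left
  have hCM : C ≤ M := le_sup_of_le_right le_sup_right
  have hPM : P ≤ M := by
    intro p hp
    obtain ⟨a, ha, a'', ha'', rfl⟩ := hsurjP b⁻¹ (inv_mem hb) (inv_ne_one.2 hb1) p hp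
    exact mul_mem (le_sup_of_le_right (le_sup_left : A' ≤ Y) ha'') (inv_mem (hAM ha))
  have hQM : Q ≤ M := by
    intro q hq
    obtain ⟨c, hc, c'', hc'', rfl⟩ := hsurjQ b⁻¹ (inv_mem hb) (inv_ne_one.2 hb1) q hq
    exact mul_mem (le_sup_of_le_left (le_sup_right : C' ≤ X) hc'') (inv_mem (hCM hc))
  set R := A ⊔ B ⊔ C with hR
  have hAR : A ≤ R := le_sup_of_le_left le_sup_left
  have hBR : B ≤ R := le_sup_of_le_left le_sup_right
  have hCR : C ≤ R := le_sup_right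
  have hMR : M ≤ R := by
    have hconjR : ∀ U : Subgroup G, U ≤ R → Cfsg.conjBy U b⁻¹ ≤ R := fun U hU => by
      rintro _ ⟨u, hu, rfl⟩
      exact mul_mem (mul_mem (inv_mem (hBR hb)) (hU hu)) (inv_mem (inv_mem (hBR hb)))
    exact sup_le (sup_le hAR (hconjR C hCR)) (sup_le (hconjR A hAR) hCR)
  have hMgen : M ≤ closure ((A : Set G) ∪ C ∪ (P ∪ Q)) := by
    set K := closure ((A : Set G) ∪ C ∪ (P ∪ Q)) with hK
    have hA1 : A ≤ K := fun x hx => subset_closure (Or.inl (Or.inl hx))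
    have hC1 : C ≤ K := fun x hx => subset_closure (Or.inl (Or.inr hx))
    have hP1 : P ≤ K := fun x hx => subset_closure (Or.inr (Or.inl hx))
    have hQ1 : Q ≤ K := fun x hx => subset_closure (Or.inr (Or.inr hx))
    exact sup_le (sup_le hA1 (hC'le.trans (sup_le hC1 hQ1))) (sup_le (hA'le.trans (sup_le hA1 hP1)) hC1)
  have hBM : ∀ β ∈ B, Cfsg.conjBy M β = M := by
    have key : ∀ β ∈ B, Cfsg.conjBy M β ≤ M := by
      intro β hβ
      refine (Subgroup.map_mono hMgen).trans ?_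
      rw [MonoidHom.map_closure, closure_le]
      rintro _ ⟨x, (hx | hx) | (hx | hx), rfl⟩
      · exact (conjBy_le_sup h1 hβ).trans (sup_le hAM hPM) ⟨x, hx, rfl⟩
      · exact (hQ' ▸ conjBy_le_sup h2s hβ : Cfsg.conjBy C β ≤ C ⊔ Q).trans (sup_le hCM hQM) ⟨x, hx, rfl⟩
      · show β * x * β⁻¹ ∈ M
        rw [← h1.2.1 x hx β (mem_sup_right hβ), mul_inv_cancel_right]
        exact hPM hx
      · show β * x * β⁻¹ ∈ M
        rw [← h2.2.1 x hx β (mem_sup_left hβ), mul_inv_cancel_right]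
        exact hQM hx
    intro β hβ
    refine le_antisymm (key β hβ) fun y hy => mem_conjBy.2 ?_
    simpa [mul_assoc] using key β⁻¹ (inv_mem hβ) ⟨y, hy, rfl⟩
  have hRnormM : R ≤ normalizer (M : Set G) :=
    sup_le (sup_le (hAM.trans Subgroup.le_normalizer) fun β hβ => conjBy_eq_self_iff.1 (hBM β hβ))
      (hCM.trans Subgroup.le_normalizer)
  have hMBR : M ⊔ B = R :=
    le_antisymm (sup_le hMR hBR) (sup_le (sup_le (le_sup_of_le_left hAM) le_sup_right) (le_sup_of_le_left hCM))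
  refine ⟨?_, commutator_eq_bot_iff_le_centralizer.2 fun x hx => mem_centralizer_iff.2 fun y hy => (hXY x hx y hy).symm,
    fun r hr => conjBy_eq_self_iff.2 (hRnormM hr), hMBR, ?_⟩
  · by_cases h0 : ⁅A, C'⁆ = ⊥
    · exact Or.inl ⟨isMulCommutative_sup hS hA hC'S h0, isMulCommutative_sup hS hA'S hC (heqv.1 h0)⟩
    · exact Or.inr ⟨⟨fun h => h0 (commutator_eq_bot_of_comm h), (class_two hS hA hC'S hnrX).2⟩,
        fun h => h0 (heqv.2 (commutator_eq_bot_of_comm h)), (class_two hS hA'S hC hnrY).2⟩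
  -- nilpotency
  set Z := ⁅M, M⁆ with hZ
  have hX2 := class_two hS hA hC'S hnrX
  have hY2 := class_two hS hA'S hC hnrY
  rw [← hX] at hX2
  rw [← hY] at hY2
  have hZc : ∀ z ∈ Z, ∀ m ∈ M, z * m = m * z := by
    have hZle : Z ≤ ⁅X, X⁆ ⊔ ⁅Y, Y⁆ := by
      have hn : ∀ k ∈ (X : Set G) ∪ Y, k ∈ normalizer ((⁅X, X⁆ ⊔ ⁅Y, Y⁆ : Subgroup G) : Set G) := by
        intro k hk
        refine centralizer_le_normalizer _ (mem_centralizer_iff.2 fun w hw => ?_)
        have hle : ⁅X, X⁆ ⊔ ⁅Y, Y⁆ ≤ centralizer ({k} : Set G) := by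
          refine sup_le (fun w hw => ?_) (fun w hw => ?_) <;> rw [mem_centralizer_singleton_iff]
          · rcases hk with hk | hk
            · exact commute_of_commutator_eq_bot hX2.2 hw hk
            · exact hXY w (Subgroup.commutator_le.2 (fun p hp q hq =>
                mul_mem (mul_mem (mul_mem hp hq) (inv_mem hp)) (inv_mem hq)) hw) k hk
          · rcases hk with hk | hk
            · exact (hXY k hk w (Subgroup.commutator_le.2 (fun p hp q hq =>
                mul_mem (mul_mem (mul_mem hp hq) (inv_mem hp)) (inv_mem hq)) hw)).symm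
            · exact commute_of_commutator_eq_bot hY2.2 hw hk
        exact mem_centralizer_singleton_iff.1 (hle hw)
      rw [hZ, hM, Subgroup.sup_eq_closure]
      refine commutator_closure_le hn hn ?_
      rintro k (hk | hk) l (hl | hl)
      · exact mem_sup_left (commutator_mem_commutator hk hl)
      · rw [commutatorElement_eq_one_iff_mul_comm.2 (hXY k hk l hl)]; exact one_mem _
      · rw [commutatorElement_eq_one_iff_mul_comm.2 (hXY l hl k hk).symm]; exact one_mem _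
      · exact mem_sup_right (commutator_mem_commutator hk hl)
    have hXX : ⁅X, X⁆ ≤ X := Subgroup.commutator_le.2 fun p hp q hq =>
      mul_mem (mul_mem (mul_mem hp hq) (inv_mem hp)) (inv_mem hq)
    have hYY : ⁅Y, Y⁆ ≤ Y := Subgroup.commutator_le.2 fun p hp q hq =>
      mul_mem (mul_mem (mul_mem hp hq) (inv_mem hp)) (inv_mem hq)
    intro z hz m hm
    have h := commute_closure (K := ((⁅X, X⁆ : Subgroup G) : Set G) ∪ (⁅Y, Y⁆ : Subgroup G)) (L := (X : Set G) ∪ Y) ?_ z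
      (by rw [← Subgroup.sup_eq_closure]; exact hZle hz) m (by rw [← Subgroup.sup_eq_closure]; exact hm)
    · exact h
    rintro k (hk | hk) l (hl | hl)
    · exact commute_of_commutator_eq_bot hX2.2 hk hl
    · exact hXY k (hXX hk) l hl
    · exact (hXY l hl k (hYY hk)).symm
    · exact commute_of_commutator_eq_bot hY2.2 hk hl
  have hmul_left : ∀ x ∈ M, ∀ y ∈ M, ∀ w ∈ M, ⁅x * y, w⁆ = ⁅x, w⁆ * ⁅y, w⁆ := by
    intro x hx y hy w hw
    calc ⁅x * y, w⁆ = x * ⁅y, w⁆ * x⁻¹ * ⁅x, w⁆ := by simp only [commutatorElement_def]; group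
      _ = ⁅y, w⁆ * ⁅x, w⁆ := by rw [← hZc _ (commutator_mem_commutator hy hw) x hx, mul_inv_cancel_right]
      _ = _ := hZc _ (commutator_mem_commutator hy hw) _ (mul_mem (mul_mem (mul_mem hx hw) (inv_mem hx)) (inv_mem hw))
  have hmul_right : ∀ x ∈ M, ∀ y ∈ M, ∀ w ∈ M, ⁅w, x * y⁆ = ⁅w, x⁆ * ⁅w, y⁆ := by
    intro x hx y hy w hw
    calc ⁅w, x * y⁆ = ⁅w, x⁆ * (x * ⁅w, y⁆ * x⁻¹) := by simp only [commutatorElement_def]; group
      _ = _ := by rw [← hZc _ (commutator_mem_commutator hw hy) x hx, mul_inv_cancel_right]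
  have hzero : ∀ z ∈ Z, ∀ w ∈ M, ⁅z, w⁆ = 1 ∧ ⁅w, z⁆ = 1 := fun z hz w hw =>
    ⟨commutatorElement_eq_one_iff_mul_comm.2 (hZc z hz w hw),
      commutatorElement_eq_one_iff_mul_comm.2 (hZc z hz w hw).symm⟩
  set V := P ⊔ Q with hV
  have hVM : V ≤ M := sup_le hPM hQM
  have hZM : Z ≤ M := Subgroup.commutator_le.2 fun p hp q hq =>
    mul_mem (mul_mem (mul_mem hp hq) (inv_mem hp)) (inv_mem hq)
  have hVB : ∀ v ∈ V, ∀ β ∈ B, v * β = β * v := by
    intro v hv β hβ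
    have hle : V ≤ centralizer ({β} : Set G) :=
      sup_le (fun x hx => mem_centralizer_singleton_iff.2 (h1.2.1 x hx β (mem_sup_right hβ)))
        (fun x hx => mem_centralizer_singleton_iff.2 (h2.2.1 x hx β (mem_sup_left hβ)))
    exact mem_centralizer_singleton_iff.1 (hle hv)
  set Z1 := ⁅V, M⁆ with hZ1
  set Z0 := ⁅V, V⁆ with hZ0
  set W3 := V ⊔ Z with hW3
  have hZ1Z : Z1 ≤ Z := Subgroup.commutator_mono hVM le_rfl
  have hZ01 : Z0 ≤ Z1 := Subgroup.commutator_mono le_rfl hVM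
  have hW3M : W3 ≤ M := sup_le hVM hZM
  set K : Set G := (A : Set G) ∪ B ∪ C with hK
  have hRcl : R = closure K := by
    rw [hR, hK, Subgroup.closure_union, Subgroup.closure_union, Subgroup.closure_eq, Subgroup.closure_eq, Subgroup.closure_eq]
  -- elements of `A` and `C` centralise `Z`, so only `B` matters below `Z`
  have hnormM : ∀ W : Subgroup G, W ≤ Z → ∀ m ∈ M, m ∈ normalizer (W : Set G) := fun W hW m hm =>
    centralizer_le_normalizer _ (mem_centralizer_iff.2 fun w hw => hZc w (hW hw) m hm)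
  have hstable : ∀ W : Subgroup G, (∀ β ∈ B, ∀ w ∈ W, ⁅w, β⁆ ∈ W) → ∀ β ∈ B, β ∈ normalizer (W : Set G) := by
    intro W hW β hβ
    refine conjBy_eq_self_iff.1 (le_antisymm ?_ ?_)
    · rintro _ ⟨w, hw, rfl⟩
      show β * w * β⁻¹ ∈ W
      rw [show β * w * β⁻¹ = ⁅w, β⁆⁻¹ * w by simp only [commutatorElement_def]; group]
      exact W.mul_mem (W.inv_mem (hW β hβ w hw)) hw
    · intro w hw
      refine mem_conjBy.2 ?_
      rw [show β⁻¹ * w * β = ⁅w, β⁻¹⁆⁻¹ * w by simp only [commutatorElement_def]; group]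
      exact W.mul_mem (W.inv_mem (hW β⁻¹ (inv_mem hβ) w hw)) hw
  have hVconj : ∀ v ∈ V, ∀ β ∈ B, β * v * β⁻¹ = v := fun v hv β hβ => by
    rw [← hVB v hv β hβ, mul_inv_cancel_right]
  have hZmem : ∀ {v w : G}, v ∈ M → w ∈ M → ⁅v, w⁆ ∈ Z := fun hv hw => commutator_mem_commutator hv hw
  have hW3A : ∀ m ∈ M, m ∈ normalizer (W3 : Set G) := by
    intro m hm
    have key : ∀ m ∈ M, Cfsg.conjBy W3 m ≤ W3 := by
      intro m hm
      rintro _ ⟨w, hw, rfl⟩
      show m * w * m⁻¹ ∈ W3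
      rw [show m * w * m⁻¹ = ⁅m, w⁆ * w by simp only [commutatorElement_def]; group]
      exact mul_mem (mem_sup_right (hZmem hm (hW3M hw))) hw
    exact conjBy_eq_self_iff.1 (le_antisymm (key m hm) fun w hw => mem_conjBy.2
      (by simpa [mul_assoc] using key m⁻¹ (inv_mem hm) ⟨w, hw, rfl⟩))
  have hBZ : ∀ β ∈ B, β ∈ normalizer (Z : Set G) := by
    intro β hβ
    refine conjBy_eq_self_iff.1 ?_
    rw [hZ, map_commutator_conj, hBM β hβ]
  have hBW3 : ∀ β ∈ B, β ∈ normalizer (W3 : Set G) := by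
    intro β hβ
    refine conjBy_eq_self_iff.1 ?_
    have hV' : Cfsg.conjBy V β = V := conjBy_eq_self_iff.2 (centralizer_le_normalizer _
      (mem_centralizer_iff.2 fun v hv => hVB v hv β hβ))
    rw [hW3, Cfsg.conjBy, Subgroup.map_sup, ← Cfsg.conjBy, ← Cfsg.conjBy, hV', conjBy_eq_self_iff.2 (hBZ β hβ)]
  -- `⁅M, R⁆ ≤ W3`
  have s2 : ⁅M, R⁆ ≤ W3 := by
    refine (Subgroup.commutator_mono hMgen le_rfl).trans ?_
    rw [hRcl]
    refine commutator_closure_le ?_ ?_ ?_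
    · rintro k ((hk | hk) | (hk | hk))
      exacts [hW3A k (hAM hk), hW3A k (hCM hk), hW3A k (hPM hk), hW3A k (hQM hk)]
    · rintro k ((hk | hk) | hk)
      exacts [hW3A k (hAM hk), hBW3 k hk, hW3A k (hCM hk)]
    · intro k hk l hl
      have hkM : k ∈ M := by
        rcases hk with (hk | hk) | (hk | hk)
        exacts [hAM hk, hCM hk, hPM hk, hQM hk]
      rcases hl with (hl | hl) | hl
      · exact mem_sup_right (hZmem hkM (hAM hl))
      · rcases hk with (hk | hk) | hk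
        · exact mem_sup_left (mem_sup_left (commutator_mem_commutator hk hl))
        · exact mem_sup_left (mem_sup_right (by rw [← hQ']; exact commutator_mem_commutator hk hl))
        · have hkV : k ∈ V := hk.elim (fun h => mem_sup_left h) (fun h => mem_sup_right h)
          rw [commutatorElement_eq_one_iff_mul_comm.2 (hVB k hkV l hl)]
          exact one_mem _
      · exact mem_sup_right (hZmem hkM (hCM hl))
  have hdec : ∀ m ∈ M, ∀ β ∈ B, ∃ v ∈ V, ∃ z ∈ Z, β * m * β⁻¹ = v * z * m := by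
    intro m hm β hβ
    have h := inv_mem (s2 (commutator_mem_commutator hm (hBR hβ)))
    have hn : V ≤ normalizer (Z : Set G) := fun v hv => hnormM Z le_rfl v (hVM hv)
    rw [← SetLike.mem_coe, hW3, coe_mul_of_left_le_normalizer_right V Z hn] at h
    obtain ⟨v, hv, z, hz, he⟩ := h
    refine ⟨v, hv, z, hz, ?_⟩
    rw [show v * z = ⁅m, β⁆⁻¹ from he]
    simp only [commutatorElement_def]; group
  have hZ1B : ∀ β ∈ B, ∀ w ∈ Z1, ⁅w, β⁆ ∈ Z0 := by
    intro β hβ w hw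
    induction hw using closure_induction with
    | mem x hx =>
      obtain ⟨v, hv, m, hm, rfl⟩ := hx
      obtain ⟨u, hu, z, hz, he⟩ := hdec m hm β hβ
      have hcj : β * ⁅v, m⁆ * β⁻¹ = ⁅v, u⁆ * ⁅v, m⁆ := by
        calc β * ⁅v, m⁆ * β⁻¹ = ⁅β * v * β⁻¹, β * m * β⁻¹⁆ := by simp only [commutatorElement_def]; group
          _ = ⁅v, u * z * m⁆ := by rw [hVconj v hv β hβ, he]
          _ = _ := by rw [hmul_right _ (mul_mem (hVM hu) (hZM hz)) _ hm _ (hVM hv),
                hmul_right _ (hVM hu) _ (hZM hz) _ (hVM hv), (hzero z hz v (hVM hv)).2, mul_one]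
      rw [show ⁅⁅v, m⁆, β⁆ = ⁅v, m⁆ * (β * ⁅v, m⁆ * β⁻¹)⁻¹ by simp only [commutatorElement_def]; group,
        hcj, mul_inv_rev, mul_inv_cancel_left]
      exact inv_mem (commutator_mem_commutator hv hu)
    | one => simp
    | mul x y hx hy ihx ihy =>
      rw [show ⁅x * y, β⁆ = x * ⁅y, β⁆ * x⁻¹ * ⁅x, β⁆ by simp only [commutatorElement_def]; group,
        ← hZc _ (hZ1Z (hZ01 ihy)) x (hZM (hZ1Z hx)), mul_inv_cancel_right]
      exact mul_mem ihy ihx
    | inv x hx ihx =>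
      rw [show ⁅x⁻¹, β⁆ = x⁻¹ * ⁅x, β⁆⁻¹ * x⁻¹⁻¹ by simp only [commutatorElement_def]; group,
        ← hZc _ (hZ1Z (hZ01 (inv_mem ihx))) x⁻¹ (hZM (hZ1Z (inv_mem hx))), mul_inv_cancel_right]
      exact inv_mem ihx
  have hZB : ∀ β ∈ B, ∀ w ∈ Z, ⁅w, β⁆ ∈ Z1 := by
    intro β hβ w hw
    induction hw using closure_induction with
    | mem x hx =>
      obtain ⟨m, hm, n, hn, rfl⟩ := hx
      obtain ⟨u, hu, z, hz, he⟩ := hdec m hm β hβ
      obtain ⟨u', hu', z', hz', he'⟩ := hdec n hn β hβ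
      have hcj : β * ⁅m, n⁆ * β⁻¹ = ⁅u, u'⁆ * ⁅u, n⁆ * ⁅m, u'⁆ * ⁅m, n⁆ := by
        calc β * ⁅m, n⁆ * β⁻¹ = ⁅β * m * β⁻¹, β * n * β⁻¹⁆ := by simp only [commutatorElement_def]; group
          _ = ⁅u * z * m, u' * z' * n⁆ := by rw [he, he']
          _ = _ := by
            rw [hmul_left _ (mul_mem (hVM hu) (hZM hz)) _ hm _ (mul_mem (mul_mem (hVM hu') (hZM hz')) hn),
              hmul_left _ (hVM hu) _ (hZM hz) _ (mul_mem (mul_mem (hVM hu') (hZM hz')) hn),
              (hzero z hz _ (mul_mem (mul_mem (hVM hu') (hZM hz')) hn)).1, mul_one,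
              hmul_right _ (mul_mem (hVM hu') (hZM hz')) _ hn _ (hVM hu),
              hmul_right _ (hVM hu') _ (hZM hz') _ (hVM hu), (hzero z' hz' u (hVM hu)).2, mul_one,
              hmul_right _ (mul_mem (hVM hu') (hZM hz')) _ hn _ hm,
              hmul_right _ (hVM hu') _ (hZM hz') _ hm, (hzero z' hz' m hm).2, mul_one]
            simp only [mul_assoc]
      rw [show ⁅⁅m, n⁆, β⁆ = ⁅m, n⁆ * (β * ⁅m, n⁆ * β⁻¹)⁻¹ by simp only [commutatorElement_def]; group,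
        hcj, mul_inv_rev, mul_inv_cancel_left]
      refine inv_mem (mul_mem (mul_mem (hZ01 (commutator_mem_commutator hu hu')) (commutator_mem_commutator hu hn)) ?_)
      rw [← commutatorElement_inv]
      exact inv_mem (commutator_mem_commutator hu' hm)
    | one => simp
    | mul x y hx hy ihx ihy =>
      rw [show ⁅x * y, β⁆ = x * ⁅y, β⁆ * x⁻¹ * ⁅x, β⁆ by simp only [commutatorElement_def]; group,
        ← hZc _ (hZ1Z ihy) x (hZM hx), mul_inv_cancel_right]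
      exact mul_mem ihy ihx
    | inv x hx ihx =>
      rw [show ⁅x⁻¹, β⁆ = x⁻¹ * ⁅x, β⁆⁻¹ * x⁻¹⁻¹ by simp only [commutatorElement_def]; group,
        ← hZc _ (hZ1Z (inv_mem ihx)) x⁻¹ (hZM (inv_mem hx)), mul_inv_cancel_right]
      exact inv_mem ihx
  have hZ0B : ∀ β ∈ B, ∀ w ∈ Z0, w * β = β * w := fun β hβ w hw =>
    hVB w (Subgroup.commutator_le.2 (fun p hp q hq => mul_mem (mul_mem (mul_mem hp hq) (inv_mem hp)) (inv_mem hq)) hw) β hβ
  -- a step of the series inside `Z`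
  have step : ∀ W W' : Subgroup G, W ≤ Z → W' ≤ Z → (∀ β ∈ B, ∀ w ∈ W, ⁅w, β⁆ ∈ W') →
      (∀ β ∈ B, ∀ w ∈ W', ⁅w, β⁆ ∈ W') → ⁅W, R⁆ ≤ W' := by
    intro W W' hW hW' h h'
    rw [hRcl, ← Subgroup.closure_eq W]
    refine commutator_closure_le (fun k hk => hnormM W' hW' k (hZM (hW hk))) ?_ ?_
    · rintro k ((hk | hk) | hk)
      exacts [hnormM W' hW' k (hAM hk), hstable W' h' k hk, hnormM W' hW' k (hCM hk)]
    · rintro k hk l ((hl | hl) | hl)
      · rw [(hzero k (hW hk) l (hAM hl)).1]; exact one_mem _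
      · exact h l hl k hk
      · rw [(hzero k (hW hk) l (hCM hl)).1]; exact one_mem _
  have s5 : ⁅Z1, R⁆ ≤ Z0 := step Z1 Z0 hZ1Z (hZ01.trans hZ1Z) hZ1B fun β hβ w hw => by
    rw [commutatorElement_eq_one_iff_mul_comm.2 (hZ0B β hβ w hw)]; exact one_mem _
  have s4 : ⁅Z, R⁆ ≤ Z1 := step Z Z1 le_rfl hZ1Z hZB fun β hβ w hw => hZ01 (hZ1B β hβ w hw)
  have s6 : ⁅Z0, R⁆ ≤ ⊥ := by
    refine (commutator_eq_bot_iff_le_centralizer.2 fun w hw => mem_centralizer_iff.2 fun r hr => ?_).le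
    have hle : R ≤ centralizer ({w} : Set G) := by
      refine sup_le (sup_le ?_ ?_) ?_ <;> intro x hx <;> rw [mem_centralizer_singleton_iff]
      · exact (hZc w (hZ1Z (hZ01 hw)) x (hAM hx)).symm
      · exact (hZ0B x hx w hw).symm
      · exact (hZc w (hZ1Z (hZ01 hw)) x (hCM hx)).symm
    exact mem_centralizer_singleton_iff.1 (hle hr)
  have s3 : ⁅W3, R⁆ ≤ Z := by
    rw [hRcl, hW3, Subgroup.sup_eq_closure]
    refine commutator_closure_le (fun k hk => hnormM Z le_rfl k (hk.elim (fun h => hVM h) (fun h => hZM h))) ?_ ?_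
    · rintro k ((hk | hk) | hk)
      exacts [hnormM Z le_rfl k (hAM hk), hBZ k hk, hnormM Z le_rfl k (hCM hk)]
    · intro k hk l hl
      have hkM : k ∈ M := hk.elim (fun h => hVM h) (fun h => hZM h)
      rcases hl with (hl | hl) | hl
      · exact hZmem hkM (hAM hl)
      · rcases hk with hk | hk
        · rw [commutatorElement_eq_one_iff_mul_comm.2 (hVB k hk l hl)]; exact one_mem _
        · exact hZ1Z (hZB l hl k hk)
      · exact hZmem hkM (hCM hl)
  have s1 : ⁅R, R⁆ ≤ M := by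
    conv_lhs => rw [hRcl]
    refine commutator_closure_le ?_ ?_ ?_
    · intro k hk; exact hRnormM (hRcl.symm ▸ subset_closure hk)
    · intro k hk; exact hRnormM (hRcl.symm ▸ subset_closure hk)
    · intro k hk l hl
      have hk' : k ∈ R := hRcl.symm ▸ subset_closure hk
      have hl' : l ∈ R := hRcl.symm ▸ subset_closure hl
      by_cases hkM : k ∈ M
      · rw [commutatorElement_def, mul_assoc k l, mul_assoc k]
        exact mul_mem hkM ((mem_normalizer_iff.1 (hRnormM hl') _).1 (inv_mem hkM))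
      by_cases hlM : l ∈ M
      · exact mul_mem ((mem_normalizer_iff.1 (hRnormM hk') _).1 hlM) (inv_mem hlM)
      have hkB : k ∈ B := by
        rcases hk with (hk | hk) | hk
        exacts [absurd (hAM hk) hkM, hk, absurd (hCM hk) hkM]
      have hlB : l ∈ B := by
        rcases hl with (hl | hl) | hl
        exacts [absurd (hAM hl) hlM, hl, absurd (hCM hl) hlM]
      rw [commutatorElement_eq_one_iff_mul_comm.2 (member_comm hS hB hkB hlB)]
      exact one_mem _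
  rw [Subgroup.isNilpotent_iff_lowerCentralSeries]
  refine ⟨6, le_bot_iff.1 ?_⟩
  simp only [Subgroup.lowerCentralSeries_succ, Subgroup.lowerCentralSeries_zero]
  exact (commutator_mono ((commutator_mono ((commutator_mono ((commutator_mono ((commutator_mono s1 le_rfl).trans s2)
    le_rfl).trans s3) le_rfl).trans s4) le_rfl).trans s5) le_rfl).trans s6

end Cfsg.Agent.S5030
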