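import Cfsg.Statements.S5038
import Cfsg.Agent.Lib.RootSubgroups.LineMoves

set_option autoImplicit false
open Cfsg

namespace Cfsg.Agent.S5038

open scoped commutatorElement
open Subgroup CfsgLib.RankOne CfsgLib.RootLine

variable {G : Type*} [Group G] {S : Set (Subgroup G)}

theorem eq_one_of_fix (hS : Cfsg.IsRootSubgroupSet S) {A E : Subgroup G} (hA : A ∈ S)
    (hn : ¬ Cfsg.IsIsolatedIn (Cfsg.FAdj S) S A) (h : Cfsg.RootCommutatorCase S A E) {e : G} (he : e ∈ E)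
    (hfix : Cfsg.conjBy A e = A) : e = 1 := by
  obtain ⟨a, ha, ha1⟩ := exists_ne_one (hS.ne_bot A hA)
  refine eq_one_of_commute hS hA hn h ha ha1 he ?_
  have h1 : a * e * a⁻¹ * e⁻¹ ∈ A := by
    rw [mul_assoc a e, mul_assoc a]
    exact A.mul_mem ha (hfix.le ⟨a⁻¹, A.inv_mem ha, rfl⟩)
  have h2 := (Subgroup.eq_bot_iff_forall _).1 (inf_commutator hS hA hn h) (a * e * a⁻¹ * e⁻¹)
    ⟨h1, commutator_mem_commutator ha he⟩
  rw [mul_inv_eq_one, mul_inv_eq_iff_eq_mul] at h2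
  exact h2

theorem fix_commutator {A E : Subgroup G} (h : Cfsg.RootCommutatorCase S A E) {e : G} (he : e ∈ E) :
    Cfsg.conjBy ⁅A, E⁆ e = ⁅A, E⁆ :=
  conjBy_eq_self_iff.2 (centralizer_le_normalizer _
    (mem_centralizer_iff.2 fun y hy => h.2.1 y hy e (mem_sup_right he)))

theorem fix_sup {A E : Subgroup G} (h : Cfsg.RootCommutatorCase S A E) {e : G} (he : e ∈ E) :
    Cfsg.conjBy (A ⊔ ⁅A, E⁆) e = A ⊔ ⁅A, E⁆ := by
  have key : ∀ e ∈ E, Cfsg.conjBy (A ⊔ ⁅A, E⁆) e ≤ A ⊔ ⁅A, E⁆ := fun e he => by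
    refine (Subgroup.map_sup _ _ _).le.trans (sup_le (conjBy_le_sup h he) ?_)
    exact (fix_commutator h he).le.trans le_sup_right
  refine le_antisymm (key e he) fun y hy => mem_conjBy.2 ?_
  simpa [mul_assoc] using key e⁻¹ (inv_mem he) ⟨y, hy, rfl⟩

/-- Let S be a set of abstract root subgroups of G in which every member has a rank one partner, A ∈ S and B a line partner of A. Then the subgroup generated by the members of S normalizing AB permutes the members of S inside AB doubly transitively by conjugation. -/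
theorem result {G : Type*} [Group G] {S : Set (Subgroup G)} (hS : Cfsg.IsRootSubgroupSet S)
    (hF : ∀ A ∈ S, ¬ Cfsg.IsIsolatedIn (Cfsg.FAdj S) S A) {A B : Subgroup G} (hA : A ∈ S) (hB : B ∈ Cfsg.linePartners S A) :
    ∀ C₁ ∈ Cfsg.membersIn S (A ⊔ B), ∀ C₂ ∈ Cfsg.membersIn S (A ⊔ B), ∀ D₁ ∈ Cfsg.membersIn S (A ⊔ B),
      ∀ D₂ ∈ Cfsg.membersIn S (A ⊔ B), C₁ ≠ C₂ → D₁ ≠ D₂ →
        ∃ x ∈ ⨆ E ∈ Cfsg.normalizingMembers S (A ⊔ B), E, Cfsg.conjBy C₁ x = D₁ ∧ Cfsg.conjBy C₂ x = D₂ := by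
  classical
  obtain ⟨⟨hBS, hne, hcomm⟩, hpart⟩ := hB
  set N := A ⊔ B with hN
  have hab : ∀ x ∈ N, ∀ y ∈ N, x * y = y * x := by
    have hgen : ∀ u : G, (∀ a ∈ A, Commute u a) → (∀ b ∈ B, Commute u b) → ∀ y ∈ N, Commute u y := by
      intro u h1 h2 y hy
      have hle : N ≤ centralizer ({u} : Set G) :=
        sup_le (fun a ha => mem_centralizer_singleton_iff.2 (h1 a ha).eq.symm)
          (fun b hb => mem_centralizer_singleton_iff.2 (h2 b hb).eq.symm)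
      exact (mem_centralizer_singleton_iff.1 (hle hy)).symm
    intro x hx y hy
    refine hgen x (fun a ha => ?_) (fun b hb => ?_) y hy
    · exact (hgen a (fun a' ha' => member_comm hS hA ha ha')
        (fun b hb => commute_of_commutator_eq_bot hcomm ha hb) x hx).symm
    · exact (hgen b (fun a ha => (commute_of_commutator_eq_bot hcomm ha hb).symm)
        (fun b' hb' => member_comm hS hBS hb hb') x hx).symm
  have hcov : ∀ x ∈ N, x ≠ 1 → ∃ C ∈ S, C ≤ N ∧ x ∈ C := fun x hx h1 => by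
    obtain ⟨C, hC, hxC⟩ := hpart.2.1 x hx h1
    exact ⟨C, hC.1, hC.2, hxC⟩
  obtain ⟨E, hE, hAE, hAQN⟩ := CfsgLib.RootLineMoves.exists_move hS hF hab hcov hA hBS hne.symm rfl
  set Q := ⁅A, E⁆ with hQ
  have hQS : Q ∈ S := hAE.1
  set H := ⨆ E ∈ Cfsg.normalizingMembers S N, E with hH
  have hEnorm : ∀ P F : Subgroup G, F ∈ S → Cfsg.RootCommutatorCase S P F → P ⊔ ⁅P, F⁆ = N → ∀ f ∈ F, f ∈ H := by
    intro P F hF' h heq f hf
    refine Subgroup.mem_iSup_of_mem F (Subgroup.mem_iSup_of_mem ⟨hF', fun y hy => ?_⟩ hf)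
    exact conjBy_eq_self_iff.1 (by rw [← heq]; exact fix_sup h hy)
  have hHmem : ∀ h ∈ H, ∀ P ∈ Cfsg.membersIn S N, Cfsg.conjBy P h ∈ Cfsg.membersIn S N := by
    intro h hh P hP
    refine ⟨hS.conj_mem P hP.1 h, ?_⟩
    have hle : H ≤ normalizer (N : Set G) := iSup₂_le fun F hF' => hF'.2
    exact (Subgroup.map_mono hP.2).trans (conjBy_eq_self_iff.2 (hle hh)).le
  have hmem : ∀ P ∈ Cfsg.membersIn S N, P ≠ Q → ∃ e ∈ E, P = Cfsg.conjBy A e := by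
    rintro P ⟨hP, hPN⟩ hPQ
    obtain ⟨x, hx, hx1⟩ := exists_ne_one (hS.ne_bot P hP)
    have hQN : Q ≤ N := hAQN ▸ le_sup_right
    have hxQ : x ∉ Q := fun h => hx1 ((Subgroup.eq_bot_iff_forall _).1
      ((inf_eq_bot_or_eq hS hP (hF P hP) hQS).resolve_right hPQ) x ⟨hx, h⟩)
    obtain ⟨e, he, hxe⟩ := exists_conj_mem hS hA hAE (hAQN.symm ▸ hPN hx) hxQ
    exact ⟨e, he, (inf_eq_bot_or_eq hS hP (hF P hP) (hS.conj_mem A hA e)).resolve_left fun h0 =>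
      hx1 ((Subgroup.eq_bot_iff_forall _).1 h0 x ⟨hx, hxe⟩)⟩
  have hQfix : ∀ e ∈ E, Cfsg.conjBy Q e = Q := fun e he => fix_commutator hAE he
  have hAQne : A ≠ Q := fun h0 => hS.ne_bot A hA (by
    have := inf_commutator hS hA (hF A hA) hAE
    rwa [← hQ, ← h0, inf_idem] at this)
  have hQN : Q ≤ N := hAQN ▸ le_sup_right
  -- a second move, with base `Q`
  obtain ⟨F, hFS, hQF, hQFN⟩ := CfsgLib.RootLineMoves.exists_move hS hF hab hcov hQS hA hAQne.symm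
    (by rw [sup_comm, hAQN])
  obtain ⟨f, hf, hf1⟩ := exists_ne_one (hS.ne_bot F hFS)
  have hfH : f ∈ H := hEnorm Q F hFS hQF hQFN f hf
  have hQf : Cfsg.conjBy Q f ≠ Q := fun h0 => hf1 (eq_one_of_fix hS hQS (hF Q hQS) hQF hf h0)
  obtain ⟨e₀, he₀, hfe⟩ := hmem _ (hHmem f hfH Q ⟨hQS, hQN⟩) hQf
  have htoQ : ∀ P ∈ Cfsg.membersIn S N, ∃ h ∈ H, Cfsg.conjBy P h = Q := by
    intro P hP
    by_cases hPQ : P = Q
    · exact ⟨1, one_mem H, by rw [conjBy_one, hPQ]⟩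
    obtain ⟨e, he, rfl⟩ := hmem P hP hPQ
    refine ⟨f⁻¹ * e₀ * e⁻¹, mul_mem (mul_mem (inv_mem hfH) (hEnorm A E hE hAE hAQN e₀ he₀))
      (inv_mem (hEnorm A E hE hAE hAQN e he)), ?_⟩
    rw [conjBy_mul, conjBy_inv_conjBy, conjBy_mul, ← hfe, conjBy_inv_conjBy]
  intro C₁ hC₁ C₂ hC₂ D₁ hD₁ D₂ hD₂ hC hD
  obtain ⟨g, hg, hgC⟩ := htoQ C₁ hC₁
  obtain ⟨g', hg', hgD⟩ := htoQ D₁ hD₁
  obtain ⟨e, he, hCe⟩ := hmem _ (hHmem g hg C₂ hC₂) fun h0 => hC (conjBy_injective (hgC.trans h0.symm))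
  obtain ⟨e', he', hDe⟩ := hmem _ (hHmem g' hg' D₂ hD₂) fun h0 => hD (conjBy_injective (hgD.trans h0.symm))
  refine ⟨g'⁻¹ * (e' * e⁻¹) * g, mul_mem (mul_mem (inv_mem hg') (mul_mem (hEnorm A E hE hAE hAQN e' he')
    (inv_mem (hEnorm A E hE hAE hAQN e he)))) hg, ?_, ?_⟩
  · rw [conjBy_mul, hgC, conjBy_mul, conjBy_mul, hQfix _ (inv_mem he), hQfix e' he', ← hgD, conjBy_inv_conjBy]
  · rw [conjBy_mul, hCe, conjBy_mul, conjBy_mul, conjBy_inv_conjBy, ← hDe, conjBy_inv_conjBy]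

end Cfsg.Agent.S5038
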