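import Cfsg.Statements.S5034
import Cfsg.Agent.Lib.RootSubgroups.LineMoves
import Cfsg.Agent.Lib.RootSubgroups.Restrict
import Cfsg.Agent.Lib.RootSubgroups.Quadratic
import Cfsg.Agent.S5029
import Cfsg.Agent.S5038

set_option autoImplicit false
open Cfsg

namespace Cfsg.Agent.S5034

open Subgroup CfsgLib.RankOne CfsgLib.RootLine
open scoped commutatorElement

variable {G : Type*} [Group G] {S : Set (Subgroup G)}

theorem all_nonisolated (hS : Cfsg.IsRootSubgroupClass S) (hnd : Cfsg.IsNondegenerateRootSet S) :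
    ∀ A ∈ S, ¬ Cfsg.IsIsolatedIn (Cfsg.FAdj S) S A := by
  intro A hA hi
  obtain ⟨-, ⟨X, hX, Y, hY, hXY⟩, -⟩ := hnd
  obtain ⟨g, rfl⟩ := hS.2.2 X hX A hA
  exact (hi.2 (Cfsg.conjBy Y g)).1 ⟨hA, hS.1.conj_mem Y hY g, isRankOnePair_conjBy hXY g⟩

theorem exists_line (hS : Cfsg.IsRootSubgroupClass S) (hnd : Cfsg.IsNondegenerateRootSet S) {A : Subgroup G}
    (hA : A ∈ S) : ∃ L, L ∈ Cfsg.linePartners S A := by
  obtain ⟨-, -, X, hX, Y, hY, hXY⟩ := id hnd
  obtain ⟨g, rfl⟩ := hS.2.2 X hX A hA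
  have hY' : Cfsg.conjBy Y g ∈ S := hS.1.conj_mem Y hY g
  have hC : ⁅Cfsg.conjBy X g, Cfsg.conjBy Y g⁆ ∈ S := by
    rw [← map_commutator_conj]; exact hS.1.conj_mem _ hXY.1 g
  obtain ⟨-, hpart, hline, -⟩ := Cfsg.Agent.S5029.result hS.1 (all_nonisolated hS hnd _ hA) hA hY' hC
  exact ⟨_, ⟨hC, hline.1.2.1.symm, by rw [Subgroup.commutator_comm]; exact hline.1.2.2⟩, hpart⟩

/-- Let S be a non-degenerate class of abstract root subgroups of G, A ∈ S and B a rank one partner of A. Then some line partner C of A has ⁅B, C⁆ ∈ S, and the rank one pair A, B is special. -/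
theorem result {G : Type*} [Group G] {S : Set (Subgroup G)} (hS : Cfsg.IsRootSubgroupClass S) (hnd : Cfsg.IsNondegenerateRootSet S)
    {A B : Subgroup G} (hA : A ∈ S) (hB : B ∈ Cfsg.rankOnePartners S A) :
    (∃ C ∈ Cfsg.linePartners S A, C ∈ Cfsg.commutatorPartners S B) ∧ Cfsg.IsSpecialRankOnePair A B := by
  classical
  obtain ⟨hBS, hAB⟩ := hB
  have hF := all_nonisolated hS hnd
  obtain ⟨L, ⟨hLS, hLA, hcomm⟩, hpart⟩ := exists_line hS hnd hA
  have hN : ∀ x ∈ A ⊔ L, ∀ y ∈ A ⊔ L, x * y = y * x := by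
    have hgen : ∀ u : G, (∀ a ∈ A, Commute u a) → (∀ b ∈ L, Commute u b) → ∀ y ∈ A ⊔ L, Commute u y := by
      intro u h1 h2 y hy
      have hle : A ⊔ L ≤ centralizer ({u} : Set G) :=
        sup_le (fun a ha => mem_centralizer_singleton_iff.2 (h1 a ha).eq.symm)
          (fun b hb => mem_centralizer_singleton_iff.2 (h2 b hb).eq.symm)
      exact (mem_centralizer_singleton_iff.1 (hle hy)).symm
    intro x hx y hy
    refine hgen x (fun a ha => ?_) (fun b hb => ?_) y hy
    · exact (hgen a (fun a' ha' => member_comm hS.1 hA ha ha')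
        (fun b hb => commute_of_commutator_eq_bot hcomm ha hb) x hx).symm
    · exact (hgen b (fun a ha => (commute_of_commutator_eq_bot hcomm ha hb).symm)
        (fun b' hb' => member_comm hS.1 hLS hb hb') x hx).symm
  have hcov : ∀ x ∈ A ⊔ L, x ≠ 1 → ∃ C ∈ S, C ≤ A ⊔ L ∧ x ∈ C := fun x hx h1 => by
    obtain ⟨C, hC, hxC⟩ := hpart.2.1 x hx h1
    exact ⟨C, hC.1, hC.2, hxC⟩
  obtain ⟨C, hC, hAC, hCB, hAE, hAEC, hACN⟩ :=
    CfsgLib.RootLineMoves.exists_move_at hS.1 hF hN hcov hA hLS hLA.symm rfl hBS hAB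
  have hCcomm : ∀ a ∈ A, ∀ c ∈ C, a * c = c * a := fun a ha c hc =>
    hN a (mem_sup_left ha) c (hACN.le (mem_sup_right hc))
  refine ⟨⟨C, ⟨⟨hC, hAC.symm, commutator_eq_bot_iff_le_centralizer.2 fun a ha => mem_centralizer_iff.2 fun c hc =>
    (hCcomm a ha c hc).symm⟩, by rw [hACN]; exact hpart⟩, hC, by rw [Subgroup.commutator_comm]; exact hCB.1⟩, hAB, ?_⟩
  intro a ha ha1 b hb hb1 hab
  set E := ⁅C, B⁆ with hE
  set X := A ⊔ B with hX
  set M := C ⊔ E with hM
  have hEA : Cfsg.RootCommutatorCase S E A := CfsgLib.RootSubgroups.SL2Pair.commutatorCase_symm hAE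
  have hEA' : ⁅E, A⁆ = C := by rw [Subgroup.commutator_comm, hAEC]
  have hXM : ∀ x ∈ X, Cfsg.conjBy M x = M := by
    have hle : X ≤ normalizer (M : Set G) := by
      refine sup_le (fun y hy => conjBy_eq_self_iff.1 ?_) (fun y hy => conjBy_eq_self_iff.1 ?_)
      · have := Cfsg.Agent.S5038.fix_sup hEA hy
        rwa [hEA', sup_comm, ← hM] at this
      · exact Cfsg.Agent.S5038.fix_sup hCB hy
    exact fun x hx => conjBy_eq_self_iff.2 (hle hx)
  have hMab : ∀ m ∈ M, ∀ n ∈ M, m * n = n * m := by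
    intro m hm n hn
    have h1 : ∀ c ∈ C, ∀ y ∈ M, y * c = c * y := fun c hc y hy => commute_sup hS.1 hC hCB hy hc
    have hle : M ≤ centralizer ({n} : Set G) := by
      refine sup_le (fun c hc => mem_centralizer_singleton_iff.2 (h1 c hc n hn).symm) fun e he => ?_
      refine mem_centralizer_singleton_iff.2 ?_
      have hle' : M ≤ centralizer ({e} : Set G) :=
        sup_le (fun c hc => mem_centralizer_singleton_iff.2 (hCB.2.1 e he c (mem_sup_left hc)).symm)
          (fun e' he' => mem_centralizer_singleton_iff.2 (member_comm hS.1 hCB.1 he' he))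
      exact (mem_centralizer_singleton_iff.1 (hle' hn)).symm
    exact mem_centralizer_singleton_iff.1 (hle hm)
  let cM : CommGroup M := { (inferInstance : Group M) with mul_comm := fun m n => Subtype.ext (hMab m m.2 n n.2) }
  let act : ↥X → M → M := fun x m => ⟨x * m * (x : G)⁻¹, (hXM x x.2).le ⟨m, m.2, rfl⟩⟩
  letI : DistribMulAction ↥X (Additive M) :=
    { smul := fun x m => Additive.ofMul (act x m.toMul)
      one_smul := fun m => congrArg Additive.ofMul (Subtype.ext (by show ((1 : ↥X) : G) * (m.toMul : G) * ((1 : ↥X) : G)⁻¹ = (m.toMul : G); simp))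
      mul_smul := fun x y m => congrArg Additive.ofMul (Subtype.ext (by
        show ((x * y : ↥X) : G) * (m.toMul : G) * ((x * y : ↥X) : G)⁻¹ = (x : G) * ((y : G) * (m.toMul : G) * (y : G)⁻¹) * (x : G)⁻¹
        push_cast; group))
      smul_zero := fun x => congrArg Additive.ofMul (Subtype.ext (by show (x : G) * 1 * (x : G)⁻¹ = 1; group))
      smul_add := fun x m n => congrArg Additive.ofMul (Subtype.ext (by
        show (x : G) * ((m.toMul : G) * (n.toMul : G)) * (x : G)⁻¹ =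
          ((x : G) * (m.toMul : G) * (x : G)⁻¹) * ((x : G) * (n.toMul : G) * (x : G)⁻¹)
        group)) }
  have hval : ∀ (x : ↥X) (m : Additive M), (((x • m).toMul : M) : G) = x * (m.toMul : G) * (x : G)⁻¹ := fun _ _ => rfl
  have hsub : ∀ m n : Additive M, (((m - n).toMul : M) : G) = (m.toMul : G) * (n.toMul : G)⁻¹ := fun m n => by
    rw [toMul_sub, div_eq_mul_inv]; rfl
  have hext : ∀ m n : Additive M, ((m.toMul : M) : G) = (n.toMul : G) → m = n := fun m n h =>
    Additive.toMul.injective (Subtype.ext h)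
  have hq : ∀ x ∈ A.subgroupOf X, ∀ y ∈ A.subgroupOf X, ∀ m : Additive M, y • (x • m - m) = x • m - m := by
    intro x hx y hy m
    have hxA : (x : G) ∈ A := hx
    have hyA : (y : G) ∈ A := hy
    refine hext _ _ ?_
    rw [hval, hsub, hval]
    have hn : C ≤ normalizer (E : Set G) := fun c hc => centralizer_le_normalizer _
      (mem_centralizer_iff.2 fun e he => hCB.2.1 e he c (mem_sup_left hc))
    have hm : ((m.toMul : M) : G) ∈ C ⊔ E := (m.toMul : M).2
    rw [← SetLike.mem_coe, coe_mul_of_left_le_normalizer_right C E hn] at hm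
    obtain ⟨c, hc, e, he, hce⟩ := hm
    rw [← show c * e = ((m.toMul : M) : G) from hce]
    have hf : (x : G) * e * (x : G)⁻¹ * e⁻¹ ∈ C := hAEC ▸ commutator_mem_commutator hx he
    have hval' : (x : G) * (c * e) * (x : G)⁻¹ * (c * e)⁻¹ = (x : G) * e * (x : G)⁻¹ * e⁻¹ := by
      calc (x : G) * (c * e) * (x : G)⁻¹ * (c * e)⁻¹ = ((x : G) * c) * e * (x : G)⁻¹ * e⁻¹ * c⁻¹ := by group
        _ = c * ((x : G) * e * (x : G)⁻¹ * e⁻¹) * c⁻¹ := by rw [hCcomm (x : G) hxA c hc]; group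
        _ = _ := by rw [member_comm hS.1 hC hc hf, mul_inv_cancel_right]
    rw [hval', hCcomm (y : G) hyA _ hf, mul_inv_cancel_right]
  have hXfix : ∃ x y : ↥X, ∃ n : Additive M, y • (x • n - n) ≠ x • n - n := by
    obtain ⟨e, he, he1⟩ := exists_ne_one (hS.1.ne_bot E hCB.1)
    refine ⟨⟨a, mem_sup_left ha⟩, ⟨b, mem_sup_right hb⟩, Additive.ofMul ⟨e, mem_sup_right he⟩, fun h => ?_⟩
    have h' := congrArg (fun m : Additive M => ((m.toMul : M) : G)) h
    simp only [hval, hsub, toMul_ofMul] at h'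
    have hf : a * e * a⁻¹ * e⁻¹ ∈ C := hAEC ▸ commutator_mem_commutator ha he
    by_cases hf1 : a * e * a⁻¹ * e⁻¹ = 1
    · refine he1 (eq_one_of_commute hS.1 hA (hF A hA) hAE ha ha1 he ?_)
      rwa [mul_inv_eq_one, mul_inv_eq_iff_eq_mul] at hf1
    · refine hb1 (eq_one_of_commute hS.1 hC (hF C hC) hCB hf hf1 hb ?_)
      rw [mul_inv_eq_iff_eq_mul] at h'
      exact h'.symm
  have hsp := CfsgLib.RankOne.isSpecial_of_quadratic (M := Additive M) (CfsgLib.RankOneRestrict.isRankOneGroup_sup hAB)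
    ⟨⟨⟨fun u v => Subtype.ext (Subtype.ext (member_comm hS.1 hA u.2 v.2))⟩⟩,
      ⟨⟨fun u v => Subtype.ext (Subtype.ext (member_comm hS.1 hBS u.2 v.2))⟩⟩⟩ hq hXfix
  have h := hsp.2 ⟨a, mem_sup_left ha⟩ ha (fun e => ha1 (congrArg Subtype.val e)) ⟨b, mem_sup_right hb⟩ hb
    (fun e => hb1 (congrArg Subtype.val e)) (by
      apply Subgroup.map_injective X.subtype_injective
      rw [CfsgLib.RankOneRestrict.map_conjBy_subtype, CfsgLib.RankOneRestrict.map_conjBy_subtype,
        Subgroup.map_subgroupOf_eq_of_le le_sup_left, Subgroup.map_subgroupOf_eq_of_le le_sup_right]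
      simpa using hab)
  exact congrArg Subtype.val h

end Cfsg.Agent.S5034
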