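import Cfsg.Statements.S5035
import Cfsg.Agent.Lib.RootSubgroups.RootSet
-- import your own Cfsg.Agent.* helpers here

set_option autoImplicit false
open Cfsg
open CfsgLib.RankOne

namespace Cfsg.Agent.S5035

/-- Let S be a set of abstract root subgroups of G whose graph of rank one pairs is connected, and f a homomorphism from G onto a group H. Then either the images of the members of S form a set of abstract root subgroups of H whose graph of rank one pairs is again connected, or H equals the image of a member of S. -/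
theorem result {G H : Type*} [Group G] [Group H] {S : Set (Subgroup G)} (hS : Cfsg.IsRootSubgroupSet S)
    (hc : Cfsg.IsConnectedFamily (Cfsg.FAdj S) S) (f : G →* H) (hf : Function.Surjective f) :
    (Cfsg.IsRootSubgroupSet ((fun A : Subgroup G => A.map f) '' S) ∧
      Cfsg.IsConnectedFamily (Cfsg.FAdj ((fun A : Subgroup G => A.map f) '' S)) ((fun A : Subgroup G => A.map f) '' S)) ∨
    ∃ A ∈ S, A.map f = ⊤ := by
  by_cases hbot : ∃ A ∈ S, A.map f = ⊥
  · obtain ⟨A, hA, h0⟩ := hbot
    refine Or.inr ⟨A, hA, ?_⟩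
    have hall : ∀ B ∈ S, B.map f = ⊥ := by
      intro B hB
      obtain ⟨g, rfl⟩ := (isConjClass_of_connected hS ⟨A, hA⟩ hc).2 A hA B hB
      rw [Subgroup.map_eq_bot_iff] at h0 ⊢
      rintro _ ⟨a, ha, rfl⟩
      exact (MonoidHom.normal_ker f).conj_mem a (h0 ha) g
    rw [h0, ← Subgroup.map_top_of_surjective f hf, ← hS.generates, Subgroup.map_iSup]
    simp only [Subgroup.map_iSup, eq_comm (a := (⊥ : Subgroup H)), iSup_eq_bot]
    exact hall
  push Not at hbot
  refine Or.inl ?_
  have hconj : ∀ (A : Subgroup G) (g : G), conjBy (A.map f) (f g) = (conjBy A g).map f := by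
    intro A g
    show (A.map f).map _ = (A.map _).map f
    rw [Subgroup.map_map, Subgroup.map_map]
    congr 1
    ext x
    simp
  have hr : ∀ A B : Subgroup G, IsRankOnePair A B → A.map f ≠ B.map f → IsRankOnePair (A.map f) (B.map f) := by
    intro A B h hne
    have key : ∀ A B : Subgroup G, RankOneCondition A B → A.map f ≠ B.map f → RankOneCondition (A.map f) (B.map f) := by
      intro A B hcd hne
      rintro _ ⟨a, ha, rfl⟩ ha1
      obtain ⟨b, hb, -, hab⟩ := hcd a ha (fun e => ha1 (by rw [e, map_one]))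
      have he : conjBy (A.map f) (f b)⁻¹ = conjBy (B.map f) (f a)⁻¹ := by
        rw [← map_inv, ← map_inv, hconj, hconj, hab]
      refine ⟨f b, ⟨b, hb, rfl⟩, fun e => hne ?_, he⟩
      rw [e, inv_one, conjBy_one] at he
      conv_lhs => rw [← conjBy_of_mem (show f a ∈ A.map f from ⟨a, ha, rfl⟩), he]
      rw [conjBy_conjBy_inv]
    exact ⟨hne, (haveI := h.nilpotent_left; Group.nilpotent_of_surjective (f.subgroupMap A) (f.subgroupMap_surjective A)),
      (haveI := h.nilpotent_right; Group.nilpotent_of_surjective (f.subgroupMap B) (f.subgroupMap_surjective B)),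
      key A B h.cond_left hne, key B A h.cond_right hne.symm⟩
  constructor
  · constructor
    · rintro _ ⟨A, hA, rfl⟩
      haveI := hS.commutative A hA
      infer_instance
    · rintro _ ⟨A, hA, rfl⟩
      exact hbot A hA
    · rw [iSup_image, ← Subgroup.map_top_of_surjective f hf, ← hS.generates]
      simp only [Subgroup.map_iSup]
    · rintro _ ⟨A, hA, rfl⟩ h
      obtain ⟨g, rfl⟩ := hf h
      exact ⟨conjBy A g, hS.conj_mem A hA g, (hconj A g).symm⟩
    · rintro _ ⟨A, hA, rfl⟩ _ ⟨B, hB, rfl⟩
      rcases hS.pair A hA B hB with h | h | ⟨hmem, hcen, hcl, hcr⟩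
      · left; rw [← Subgroup.map_commutator, h, Subgroup.map_bot]
      · by_cases he : A.map f = B.map f
        · left
          show ⁅A.map f, B.map f⁆ = ⊥
          rw [← he, ← Subgroup.map_commutator, Subgroup.commutator_eq_bot_iff_le_centralizer.2, Subgroup.map_bot]
          exact fun x hx => Subgroup.mem_centralizer_iff.2 fun y hy => member_comm hS hA hy hx
        · exact Or.inr (Or.inl (hr A B h he))
      · refine Or.inr (Or.inr ⟨⟨_, hmem, Subgroup.map_commutator _ _ _⟩, ?_, ?_, ?_⟩)
        · show ∀ c ∈ ⁅A.map f, B.map f⁆, ∀ x ∈ A.map f ⊔ B.map f, c * x = x * c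
          rw [← Subgroup.map_commutator, ← Subgroup.map_sup]
          rintro _ ⟨c, hc', rfl⟩ _ ⟨x, hx, rfl⟩
          rw [← map_mul, hcen c hc' x hx, map_mul]
        · rintro _ ⟨a, ha, rfl⟩ ha1
          rw [← Subgroup.map_commutator, ← hcl a ha (fun e => ha1 (by rw [e, map_one])), MonoidHom.map_closure]
          simp [Set.image_image]
        · rintro _ ⟨b, hb, rfl⟩ hb1
          rw [← Subgroup.map_commutator, ← hcr b hb (fun e => hb1 (by rw [e, map_one])), MonoidHom.map_closure]
          simp [Set.image_image]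
  · rintro _ ⟨A, hA, rfl⟩ _ ⟨B, hB, rfl⟩
    induction hc A hA B hB with
    | refl => exact .refl
    | @tail X Y _ hXY ih =>
      by_cases he : X.map f = Y.map f
      · show Relation.ReflTransGen _ (A.map f) (Y.map f)
        rw [← he]
        exact ih hXY.1
      · exact (ih hXY.1).tail ⟨⟨X, hXY.1, rfl⟩, ⟨Y, hXY.2.1, rfl⟩, hr X Y hXY.2.2 he⟩

end Cfsg.Agent.S5035
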