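import Cfsg.Statements.S5041
import Cfsg.Agent.S5034

set_option autoImplicit false
open Cfsg

namespace Cfsg.Agent.S5041

open Subgroup CfsgLib.RankOne

variable {G : Type*} [Group G] {S : Set (Subgroup G)}

theorem eAdj_of_line {A B : Subgroup G} (hA : A ∈ S) (h : B ∈ Cfsg.linePartners S A) :
    Cfsg.EAdj S S A B ∧ Cfsg.EAdj S S B A := by
  refine ⟨⟨hA, h.1.1, h⟩, h.1.1, hA, ⟨hA, h.1.2.1.symm, ?_⟩, ?_⟩
  · rw [Subgroup.commutator_comm]; exact h.1.2.2
  · rw [sup_comm]; exact h.2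

theorem reach_of_rankOne (hS : Cfsg.IsRootSubgroupClass S) (hnd : Cfsg.IsNondegenerateRootSet S) {A B : Subgroup G}
    (h : Cfsg.FAdj S A B) : Relation.ReflTransGen (Cfsg.EAdj S S) A B := by
  obtain ⟨hA, hB, hAB⟩ := h
  obtain ⟨⟨C, hC, hCB⟩, -⟩ := Cfsg.Agent.S5034.result hS hnd hA ⟨hB, hAB⟩
  have hF := Cfsg.Agent.S5034.all_nonisolated hS hnd
  obtain ⟨hCS, hBC⟩ := hCB
  obtain ⟨-, -, h1, -⟩ := Cfsg.Agent.S5029.result hS.1 (hF B hB) hB hCS hBC
  obtain ⟨-, -, h2, -⟩ := Cfsg.Agent.S5029.result hS.1 (hF C hCS) hCS hB (by rwa [Subgroup.commutator_comm])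
  rw [Subgroup.commutator_comm] at h2
  exact (((Relation.ReflTransGen.single (eAdj_of_line hA hC).1).tail (eAdj_of_line hBC h2).2).tail
    (eAdj_of_line hBC h1).1)

/-- Let S be a non-degenerate class of abstract root subgroups of G. Then the graph on S joining A to its line partners, and the commuting graph on S, are both connected. -/
theorem result {G : Type*} [Group G] {S : Set (Subgroup G)} (hS : Cfsg.IsRootSubgroupClass S) (hnd : Cfsg.IsNondegenerateRootSet S) :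
    Cfsg.IsConnectedFamily (Cfsg.EAdj S S) S ∧ Cfsg.IsConnectedFamily (Cfsg.DAdj S) S := by
  classical
  obtain ⟨-, ⟨X, hX, Y, hY, hXY⟩, -⟩ := id hnd
  have hcon := connected_of_class hS.1 hS.2 ⟨X, hX, fun hi => (hi.2 Y).1 ⟨hX, hY, hXY⟩⟩
  have hE : Cfsg.IsConnectedFamily (Cfsg.EAdj S S) S := by
    intro A hA B hB
    induction hcon A hA B hB with
    | refl => rfl
    | tail _ h ih => exact (ih h.1).trans (reach_of_rankOne hS hnd h)
  refine ⟨hE, fun A hA B hB => ?_⟩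
  have h := hE A hA B hB
  clear hB
  induction h with
  | refl => rfl
  | tail _ h ih => exact ih.tail ⟨h.1, h.2.1, h.2.2.1.2.1.symm, h.2.2.1.2.2⟩

end Cfsg.Agent.S5041
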