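import Cfsg.Statements.S5042
import Cfsg.Agent.S5041

set_option autoImplicit false
open Cfsg

namespace Cfsg.Agent.S5042

open Subgroup CfsgLib.RankOne CfsgLib.RootLine CfsgLib.RootSubgroups.SL2Pair

variable {G : Type*} [Group G] {S : Set (Subgroup G)}

theorem line_symm {A L : Subgroup G} (hA : A ∈ S) (h : L ∈ Cfsg.linePartners S A) : A ∈ Cfsg.linePartners S L :=
  (Cfsg.Agent.S5041.eAdj_of_line hA h).2.2.2

theorem line_of_case (hS : Cfsg.IsRootSubgroupSet S) {A E : Subgroup G} (hn : ¬ Cfsg.IsIsolatedIn (Cfsg.FAdj S) S A)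
    (hA : A ∈ S) (hE : E ∈ S) (h : Cfsg.RootCommutatorCase S A E) :
    ⁅A, E⁆ ∈ Cfsg.linePartners S A ∧ A ∈ Cfsg.linePartners S ⁅A, E⁆ := by
  obtain ⟨-, -, h1, -⟩ := Cfsg.Agent.S5029.result hS hn hA hE h.1
  exact ⟨line_symm h.1 h1, h1⟩

theorem line_conj (hS : Cfsg.IsRootSubgroupSet S) {A L : Subgroup G} (hA : A ∈ S)
    (h : L ∈ Cfsg.linePartners S A) (g : G) :
    Cfsg.conjBy L g ∈ Cfsg.linePartners S (Cfsg.conjBy A g) := by
  obtain ⟨⟨hL, hne, hc⟩, hp1, hp2, hp3⟩ := h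
  have hsup : Cfsg.conjBy A g ⊔ Cfsg.conjBy L g = Cfsg.conjBy (A ⊔ L) g := (Subgroup.map_sup _ _ _).symm
  have hmem : ∀ D, D ∈ Cfsg.membersIn S (Cfsg.conjBy A g ⊔ Cfsg.conjBy L g) ↔
      Cfsg.conjBy D g⁻¹ ∈ Cfsg.membersIn S (A ⊔ L) := by
    intro D
    rw [hsup]
    constructor
    · rintro ⟨hD, hDle⟩
      exact ⟨hS.conj_mem D hD _, (Subgroup.map_mono hDle).trans (conjBy_inv_conjBy _ g).le⟩
    · rintro ⟨hD, hDle⟩
      rw [← conjBy_conjBy_inv D g]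
      exact ⟨hS.conj_mem _ hD _, Subgroup.map_mono hDle⟩
  refine ⟨⟨hS.conj_mem L hL g, fun e => hne (conjBy_injective e), ?_⟩, fun D hD => hD.2, fun x hx hx1 => ?_, fun C hC D hD hCD => ?_⟩
  · rw [← map_commutator_conj, hc]; exact Subgroup.map_bot _
  · rw [hsup] at hx
    obtain ⟨y, hy, rfl⟩ := hx
    obtain ⟨C, hC, hyC⟩ := hp2 y hy (fun e => hx1 (by rw [e, map_one]))
    exact ⟨Cfsg.conjBy C g, (hmem _).2 (by rw [conjBy_inv_conjBy]; exact hC), ⟨y, hyC, rfl⟩⟩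
  · have h' := hp3 _ ((hmem C).1 hC) _ ((hmem D).1 hD) fun e => hCD (conjBy_injective e)
    rw [← Subgroup.map_inf _ _ _ (MulAut.conj g⁻¹).injective, Subgroup.map_eq_bot_iff_of_injective _ (MulAut.conj g⁻¹).injective] at h'
    exact h'

/-- `P` and all its line partners lie in `H`. -/
def Good (S : Set (Subgroup G)) (H P : Subgroup G) : Prop := P ≤ H ∧ ∀ L ∈ Cfsg.linePartners S P, L ≤ H

theorem good_conj (hS : Cfsg.IsRootSubgroupSet S) {H P : Subgroup G} (hP : P ∈ S) (h : Good S H P) {x : G}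
    (hx : x ∈ H) : Good S H (Cfsg.conjBy P x) := by
  have hH : Cfsg.conjBy H x = H := conjBy_of_mem hx
  refine ⟨(Subgroup.map_mono h.1).trans hH.le, fun L hL => ?_⟩
  have h1 := line_conj hS (hS.conj_mem P hP x) hL x⁻¹
  rw [conjBy_inv_conjBy] at h1
  rw [← conjBy_conjBy_inv L x]
  exact (Subgroup.map_mono (h.2 _ h1)).trans hH.le

theorem good_partner (hS : Cfsg.IsRootSubgroupSet S) {H P B : Subgroup G} (hP : P ∈ S) (h : Good S H P)
    (hr : Cfsg.IsRankOnePair P B) (hB : B ≤ H) : Good S H B := by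
  obtain ⟨x, hx, hBx⟩ := right_mem_unipotentSubgroups hr
  rw [hBx]
  exact good_conj hS hP h ((sup_le h.1 hB : P ⊔ B ≤ H) hx)

theorem line_abelian (hS : Cfsg.IsRootSubgroupSet S) {A L : Subgroup G} (hA : A ∈ S)
    (h : L ∈ Cfsg.linePartners S A) : ∀ x ∈ A ⊔ L, ∀ y ∈ A ⊔ L, x * y = y * x := by
  have hgen : ∀ u : G, (∀ a ∈ A, Commute u a) → (∀ b ∈ L, Commute u b) → ∀ y ∈ A ⊔ L, Commute u y := by
    intro u h1 h2 y hy
    have hle : A ⊔ L ≤ centralizer ({u} : Set G) :=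
      sup_le (fun a ha => mem_centralizer_singleton_iff.2 (h1 a ha).eq.symm)
        (fun b hb => mem_centralizer_singleton_iff.2 (h2 b hb).eq.symm)
    exact (mem_centralizer_singleton_iff.1 (hle hy)).symm
  intro x hx y hy
  refine hgen x (fun a ha => ?_) (fun b hb => ?_) y hy
  · exact (hgen a (fun a' ha' => member_comm hS hA ha ha')
      (fun b hb => commute_of_commutator_eq_bot h.1.2.2 ha hb) x hx).symm
  · exact (hgen b (fun a ha => (commute_of_commutator_eq_bot h.1.2.2 ha hb).symm)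
      (fun b' hb' => member_comm hS h.1.1 hb hb') x hx).symm

theorem line_cover {A L : Subgroup G} (h : L ∈ Cfsg.linePartners S A) :
    ∀ x ∈ A ⊔ L, x ≠ 1 → ∃ C ∈ S, C ≤ A ⊔ L ∧ x ∈ C := fun x hx h1 => by
  obtain ⟨C, hC, hxC⟩ := h.2.2.1 x hx h1
  exact ⟨C, hC.1, hC.2, hxC⟩

theorem line_commutatorCase (hS : Cfsg.IsRootSubgroupSet S) (hF : ∀ A ∈ S, ¬ Cfsg.IsIsolatedIn (Cfsg.FAdj S) S A)
    {A Q R : Subgroup G} (hA : A ∈ S) (hQ : Q ∈ Cfsg.linePartners S A) (hR : R ∈ S)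
    (hAR : Cfsg.IsRankOnePair A R) (hQR : ¬ Cfsg.IsRankOnePair Q R) :
    Cfsg.RootCommutatorCase S Q R ∧ Cfsg.RootCommutatorCase S A ⁅Q, R⁆ ∧ ⁅A, ⁅Q, R⁆⁆ = Q :=
  CfsgLib.RootLineMoves.commutator_eq hS (hF A hA) (hF Q hQ.1.1) hA hQ.1.1 hQ.1.2.1.symm hR hAR hQR
    (fun a ha q hq => line_abelian hS hA hQ a (mem_sup_left ha) q (mem_sup_right hq)) fun a ha q hq h1 => by
      obtain ⟨C, hC, hCN, hx⟩ := line_cover hQ _ (mul_mem (mem_sup_left ha) (mem_sup_right hq)) h1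
      exact ⟨C, hC, hx, fun c hc a' ha' => line_abelian hS hA hQ c (hCN hc) a' (mem_sup_left ha')⟩

theorem member_cases (hS : Cfsg.IsRootSubgroupSet S) (hF : ∀ A ∈ S, ¬ Cfsg.IsIsolatedIn (Cfsg.FAdj S) S A)
    {A E D : Subgroup G} (hA : A ∈ S) (h : Cfsg.RootCommutatorCase S A E) (hD : D ∈ S) (hle : D ≤ A ⊔ ⁅A, E⁆) :
    D = ⁅A, E⁆ ∨ ∃ e ∈ E, D = Cfsg.conjBy A e := by
  refine or_iff_not_imp_left.2 fun hne => ?_
  obtain ⟨x, hx, hx1⟩ := exists_ne_one (hS.ne_bot D hD)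
  have hxQ : x ∉ ⁅A, E⁆ := fun h0 => hx1 ((Subgroup.eq_bot_iff_forall _).1
    ((inf_eq_bot_or_eq hS hD (hF D hD) h.1).resolve_right hne) x ⟨hx, h0⟩)
  obtain ⟨e, he, hxe⟩ := exists_conj_mem hS hA h (hle hx) hxQ
  exact ⟨e, he, (inf_eq_bot_or_eq hS hD (hF D hD) (hS.conj_mem A hA e)).resolve_left fun h0 =>
    hx1 ((Subgroup.eq_bot_iff_forall _).1 h0 x ⟨hx, hxe⟩)⟩

theorem psi_good_aux (hS : Cfsg.IsRootSubgroupSet S) (hF : ∀ A ∈ S, ¬ Cfsg.IsIsolatedIn (Cfsg.FAdj S) S A)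
    {H A B E : Subgroup G} (hA : A ∈ S) (hgA : Good S H A) (hBS : B ∈ S) (hAB : Cfsg.IsRankOnePair A B)
    (hBH : B ≤ H) (hE : E ∈ S) (h : Cfsg.RootCommutatorCase S A E) (hCB : Cfsg.IsRankOnePair ⁅A, E⁆ B) :
    E ≤ H ∧ Good S H E := by
  set C := ⁅A, E⁆ with hC
  have hgB := good_partner hS hA hgA hAB hBH
  have hCS : C ∈ S := h.1
  have hCH : C ≤ H := hgA.2 C (line_of_case hS (hF A hA) hA hE h).1
  have hgC := good_partner hS hBS hgB (Cfsg.RankOnePair_symm hCB) hCH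
  have hEA := commutatorCase_symm h
  have hEC : E ∈ Cfsg.linePartners S C := by
    have := (line_of_case hS (hF E hE) hE hA hEA).2
    rwa [Subgroup.commutator_comm, ← hC] at this
  obtain ⟨Q, hQ, hCQ, hQB, hCL, hCLQ, hN⟩ := CfsgLib.RootLineMoves.exists_move_at hS hF (line_abelian hS hCS hEC)
    (line_cover hEC) hCS hE hEC.1.2.1.symm rfl hBS hCB
  set L := ⁅Q, B⁆ with hL
  have hLH : L ≤ H := by
    refine hgB.2 L ?_
    rw [hL, Subgroup.commutator_comm]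
    exact (line_of_case hS (hF B hBS) hBS hQ (commutatorCase_symm hQB)).1
  have hQH : Q ≤ H := hCLQ ▸ Subgroup.commutator_le.2 fun p hp q hq =>
    mul_mem (mul_mem (mul_mem (hCH hp) (hLH hq)) (inv_mem (hCH hp))) (inv_mem (hLH hq))
  have hEH : E ≤ H := le_sup_right.trans (hN.symm.le.trans (sup_le hCH hQH))
  have hgood : ∀ D ∈ S, D ≤ C ⊔ E → D ≠ Q → Good S H D := by
    intro D hD hle hne
    rw [← hN, ← hCLQ] at hle
    rcases member_cases hS hF hCS hCL hD hle with e | ⟨l, hl, rfl⟩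
    · exact absurd (e.trans hCLQ) hne
    · exact good_conj hS hCS hgC (hLH hl)
  refine ⟨hEH, ?_⟩
  by_cases hEQ : E = Q
  · obtain ⟨a, ha, ha1⟩ := exists_ne_one (hS.ne_bot A hA)
    have hne : Cfsg.conjBy E a ≠ E := fun e0 => ha1 (Cfsg.Agent.S5038.eq_one_of_fix hS hE (hF E hE) hEA ha e0)
    have hle : Cfsg.conjBy E a ≤ C ⊔ E := by
      refine (conjBy_le_sup hEA ha).trans ?_
      rw [Subgroup.commutator_comm E A, ← hC, sup_comm]
    have := good_conj hS (hS.conj_mem E hE a) (hgood _ (hS.conj_mem E hE a) hle (hEQ ▸ hne)) (inv_mem (hgA.1 ha))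
    rwa [conjBy_inv_conjBy] at this
  · exact hgood E hE le_sup_right hEQ

theorem psi_good (hS : Cfsg.IsRootSubgroupSet S) (hF : ∀ A ∈ S, ¬ Cfsg.IsIsolatedIn (Cfsg.FAdj S) S A)
    {H A B E : Subgroup G} (hA : A ∈ S) (hgA : Good S H A) (hBS : B ∈ S) (hAB : Cfsg.IsRankOnePair A B)
    (hBH : B ≤ H) (hE : E ∈ S) (h : Cfsg.RootCommutatorCase S A E) : E ≤ H ∧ Good S H E := by
  by_cases hCB : Cfsg.IsRankOnePair ⁅A, E⁆ B
  · exact psi_good_aux hS hF hA hgA hBS hAB hBH hE h hCB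
  set C := ⁅A, E⁆ with hC
  have hCS : C ∈ S := h.1
  have hline : C ∈ Cfsg.linePartners S A := (line_of_case hS (hF A hA) hA hE h).1
  obtain ⟨hCB', hAE0, hAE0C⟩ := line_commutatorCase hS hF hA hline hBS hAB hCB
  set E0 := ⁅C, B⁆ with hE0
  have hCN : C ∈ Cfsg.membersIn S (A ⊔ C) := ⟨hCS, le_sup_right⟩
  have hAN : A ∈ Cfsg.membersIn S (A ⊔ C) := ⟨hA, le_sup_left⟩
  obtain ⟨x, -, hxA, hxC⟩ := Cfsg.Agent.S5038.result hS hF hA hline A hAN C hCN C hCN A hAN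
    hline.1.2.1.symm hline.1.2.1
  set F0 := Cfsg.conjBy E0 x with hF0
  have hF0S : F0 ∈ S := hS.conj_mem _ hCB'.1 x
  have hCF : ⁅C, F0⁆ = A := by conv_rhs => rw [← hxC, ← hAE0C, map_commutator_conj, hxA]
  have hCFcase := commCase hS hCS hF0S (by rw [hCF]; exact hA)
  have hF0line : F0 ∈ Cfsg.linePartners S A := by
    rw [← hxC]
    exact line_conj hS hCS (line_of_case hS (hF C hCS) hCS hBS hCB').1 x
  obtain ⟨l, hl, hl1⟩ := exists_ne_one (hS.ne_bot F0 hF0S)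
  have hlH : l ∈ H := hgA.2 F0 hF0line hl
  have hAl : Cfsg.conjBy A l = A := conjBy_eq_self_iff.2 (centralizer_le_normalizer _
    (mem_centralizer_iff.2 fun y hy => commute_of_commutator_eq_bot hF0line.1.2.2 hy hl))
  have hAB' : Cfsg.IsRankOnePair A (Cfsg.conjBy B l) := by
    have := isRankOnePair_conjBy hAB l
    rwa [hAl] at this
  have hne : Cfsg.conjBy C l⁻¹ ≠ C := fun e0 => hl1 (inv_eq_one.1
    (Cfsg.Agent.S5038.eq_one_of_fix hS hCS (hF C hCS) hCFcase (inv_mem hl) e0))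
  have hle : Cfsg.conjBy C l⁻¹ ≤ A ⊔ ⁅A, E0⁆ := by
    refine (conjBy_le_sup hCFcase (inv_mem hl)).trans ?_
    rw [hCF, hAE0C, sup_comm]
  have hr : Cfsg.IsRankOnePair (Cfsg.conjBy C l⁻¹) B := by
    rcases member_cases hS hF hA hAE0 (hS.conj_mem C hCS _) hle with e | ⟨e, he, heq⟩
    · exact absurd (e.trans hAE0C) hne
    · have hBe : Cfsg.conjBy B e = B := conjBy_eq_self_iff.2 (centralizer_le_normalizer _
        (mem_centralizer_iff.2 fun y hy => (hCB'.2.1 e he y (mem_sup_right hy)).symm))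
      rw [heq, ← hBe]
      exact isRankOnePair_conjBy hAB e
  refine psi_good_aux hS hF hA hgA (hS.conj_mem B hBS l) hAB' ((Subgroup.map_mono hBH).trans (conjBy_of_mem hlH).le) hE h ?_
  have := isRankOnePair_conjBy hr l
  rwa [conjBy_conjBy_inv] at this

/-- Let S be a non-degenerate class of abstract root subgroups of G, A ∈ S and B a rank one partner of A. Then G is generated by the line partners of A together with B. -/
theorem result {G : Type*} [Group G] {S : Set (Subgroup G)} (hS : Cfsg.IsRootSubgroupClass S) (hnd : Cfsg.IsNondegenerateRootSet S)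
    {A B : Subgroup G} (hA : A ∈ S) (hB : B ∈ Cfsg.rankOnePartners S A) :
    (⨆ C ∈ Cfsg.linePartners S A, C) ⊔ B = ⊤ := by
  classical
  obtain ⟨hBS, hAB⟩ := hB
  have hF := Cfsg.Agent.S5034.all_nonisolated hS hnd
  set H := (⨆ C ∈ Cfsg.linePartners S A, C) ⊔ B with hH
  have hLH : ∀ L ∈ Cfsg.linePartners S A, L ≤ H := fun L hL =>
    le_sup_of_le_left (le_iSup₂_of_le L hL le_rfl)
  have hBH : B ≤ H := le_sup_right
  have hAH : A ≤ H := by
    obtain ⟨C, hC, hCB⟩ := (Cfsg.Agent.S5034.result hS hnd hA ⟨hBS, hAB⟩).1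
    have hCBr : ¬ Cfsg.IsRankOnePair C B := not_rankOne_of_commutatorCase hS.1 hBS
      (commCase hS.1 hC.1.1 hBS (by rw [Subgroup.commutator_comm]; exact hCB.2))
    obtain ⟨h1, hAE, hAEC⟩ := line_commutatorCase hS.1 hF hA hC hBS hAB hCBr
    obtain ⟨e, he, he1⟩ := exists_ne_one (hS.1.ne_bot _ h1.1)
    have hne : Cfsg.conjBy A e ≠ A := fun e0 => he1 (Cfsg.Agent.S5038.eq_one_of_fix hS.1 hA (hF A hA) hAE he e0)
    obtain ⟨-, hpart, -, -⟩ := Cfsg.Agent.S5029.result hS.1 (hF A hA) hA h1.1 hAE.1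
    have hle : Cfsg.conjBy A e ≤ A ⊔ C := hAEC ▸ conjBy_le_sup hAE he
    have hsup : A ⊔ Cfsg.conjBy A e = A ⊔ C := by
      refine le_antisymm (sup_le le_sup_left hle) (sup_le le_sup_left ?_)
      intro c hc
      rw [← hAEC] at hc
      obtain ⟨a, ha, hae⟩ := exists_commutator (commutatorCase_symm hAE) he he1 (by rwa [Subgroup.commutator_comm])
      rw [← hae]
      exact mul_mem (mem_sup_right ⟨a, ha, rfl⟩) (mem_sup_left (inv_mem ha))
    have hA'line : Cfsg.conjBy A e ∈ Cfsg.linePartners S A := by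
      refine ⟨⟨hS.1.conj_mem A hA e, hne, commutator_eq_bot_iff_le_centralizer.2 fun a ha => mem_centralizer_iff.2
        fun y hy => line_abelian hS.1 hA hC y (hle hy) a (mem_sup_left ha)⟩, ?_⟩
      rw [hsup]
      exact hC.2
    obtain ⟨a, ha, ha1⟩ := exists_ne_one (hS.1.ne_bot A hA)
    intro x hx
    have hx' : x ∈ Cfsg.conjBy A e ⊔ C := by
      have hxe : e * x * e⁻¹ ∈ Cfsg.conjBy A e := ⟨x, hx, rfl⟩
      have hw : x * e * x⁻¹ * e⁻¹ ∈ C := hAEC ▸ Subgroup.commutator_mem_commutator hx he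
      have : (x * e * x⁻¹ * e⁻¹) * (e * x * e⁻¹) ∈ Cfsg.conjBy A e ⊔ C :=
        mul_mem (mem_sup_right hw) (mem_sup_left hxe)
      simpa [mul_assoc] using this
    exact (sup_le (hLH _ hA'line) (hLH C hC) : Cfsg.conjBy A e ⊔ C ≤ H) hx'
  have hgA : Good S H A := ⟨hAH, hLH⟩
  have hcon := connected_of_class hS.1 hS.2 ⟨A, hA, hF A hA⟩
  have hall : ∀ P ∈ S, Good S H P ∧ ∃ P' ∈ S, P' ≤ H ∧ Cfsg.IsRankOnePair P P' := by
    intro P hP
    induction hcon A hA P hP with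
    | refl => exact ⟨hgA, B, hBS, hBH, hAB⟩
    | @tail P R _ hPR ih =>
      obtain ⟨hP', hR, hPR⟩ := hPR
      obtain ⟨hgP, P', hP'S, hP'H, hPP'⟩ := ih hP'
      obtain ⟨C, hC, hCR⟩ := (Cfsg.Agent.S5034.result hS hnd hP' ⟨hR, hPR⟩).1
      have hcase := commCase hS.1 hC.1.1 hR (by rw [Subgroup.commutator_comm]; exact hCR.2)
      obtain ⟨h1, hPE, -⟩ := line_commutatorCase hS.1 hF hP' hC hR hPR (not_rankOne_of_commutatorCase hS.1 hR hcase)
      obtain ⟨-, hgE⟩ := psi_good hS.1 hF hP' hgP hP'S hPP' hP'H h1.1 hPE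
      have hRH : R ≤ H := by
        refine hgE.2 R ?_
        have := (line_of_case hS.1 (hF R hR) hR hC.1.1 (commutatorCase_symm h1)).2
        rwa [Subgroup.commutator_comm R C] at this
      exact ⟨good_partner hS.1 hP' hgP hPR hRH, P, hP', hgP.1, Cfsg.RankOnePair_symm hPR⟩
  rw [eq_top_iff, ← hS.1.generates]
  exact iSup₂_le fun P hP => (hall P hP).1.1

end Cfsg.Agent.S5042
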