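import Cfsg.Statements.S5037
import Cfsg.Agent.S5042
import Cfsg.Agent.S5036
import Cfsg.Agent.Lib.RootSubgroups.Triple

set_option autoImplicit false
open Cfsg

namespace Cfsg.Agent.S5037

open Subgroup CfsgLib.RankOne CfsgLib.RootTriple CfsgLib.RootLine CfsgLib.RootSubgroups.SL2Pair

variable {G : Type*} [Group G] {S : Set (Subgroup G)} {A B C P R : Subgroup G}

theorem mem_centralizing : P ∈ Cfsg.centralizingMembers S A ↔ P ∈ S ∧ Cm P A :=
  ⟨fun h => ⟨h.1, fun p hp a ha => (mem_centralizer_iff.1 (h.2 hp) a ha).symm⟩,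
    fun h => ⟨h.1, fun p hp => mem_centralizer_iff.2 fun a ha => (h.2 p hp a ha).eq.symm⟩⟩

/-- Everything commuting with `A` commutes with `C`. -/
def Dom (S : Set (Subgroup G)) (A C : Subgroup G) : Prop := ∀ P ∈ S, Cm P A → Cm P C

theorem dom_iff : Cfsg.centralizingMembers S A ⊆ Cfsg.centralizingMembers S C ↔ Dom S A C :=
  ⟨fun h _ hP hc => (mem_centralizing.1 (h (mem_centralizing.2 ⟨hP, hc⟩))).2,
    fun h _ hP => mem_centralizing.2 ⟨hP.1, h _ hP.1 (mem_centralizing.1 hP).2⟩⟩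

theorem dom_conj (hS : Cfsg.IsRootSubgroupSet S) (h : Dom S A C) (g : G) :
    Dom S (Cfsg.conjBy A g) (Cfsg.conjBy C g) := by
  intro P hP hc
  have h1 := h _ (hS.conj_mem P hP g⁻¹) (by have := hc.conj g⁻¹; rwa [conjBy_inv_conjBy] at this)
  have h2 := h1.conj g
  rwa [conjBy_conjBy_inv] at h2

/-- If `p` commutes with `C` and its commutators with the partner `R` of `C` commute with `C` and `R`,
then it commutes with `R`. -/
theorem three (hCR : Cfsg.IsRankOnePair C R) (hPC : Cm P C)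
    (hF : ∀ p ∈ P, ∀ r ∈ R, (∀ c ∈ C, Commute c (p * r * p⁻¹ * r⁻¹)) ∧ Commute r (p * r * p⁻¹ * r⁻¹)) :
    Cm P R := by
  obtain ⟨r, hr, hr1⟩ := exists_ne_one (right_ne_bot hCR)
  have hne : Cfsg.conjBy C r ≠ C := fun e =>
    hr1 (eq_of_conjBy_eq_left hCR hr (one_mem R) (e.trans (conjBy_one C).symm))
  refine cm_of_two (Cfsg.RankOnePair_symm hCR)
    (conjBy_mem_unipotentSubgroups (right_mem_unipotentSubgroups (Cfsg.RankOnePair_symm hCR)) (mem_sup_left hr))
    (right_mem_unipotentSubgroups (Cfsg.RankOnePair_symm hCR)) hne ?_ hPC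
  rintro p hp _ ⟨c, hc, rfl⟩
  show p * (r * c * r⁻¹) = r * c * r⁻¹ * p
  have hpc : p * c = c * p := hPC p hp c hc
  obtain ⟨hfc, hfr⟩ := hF p hp r hr
  set f := p * r * p⁻¹ * r⁻¹ with hf
  have hfc' : f * c = c * f := (hfc c hc).eq.symm
  have hfr' : f * r = r * f := hfr.eq.symm
  have hpr : p * r = f * r * p := by rw [hf]; group
  calc p * (r * c * r⁻¹) = (p * r) * c * r⁻¹ := by group
    _ = f * r * (p * c) * r⁻¹ := by rw [hpr]; group
    _ = r * (f * c) * p * r⁻¹ := by rw [hpc, hfr']; group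
    _ = r * c * (r⁻¹ * (r * f)) * p * r⁻¹ := by rw [hfc']; group
    _ = r * c * r⁻¹ * (f * r * p) * r⁻¹ := by rw [hfr']; group
    _ = r * c * r⁻¹ * p := by rw [← hpr]; group

theorem omega_sub (hS : Cfsg.IsRootSubgroupSet S) (hA : A ∈ S) (hR : R ∈ S) (hdom : Dom S A C)
    (hCR : Cfsg.IsRankOnePair C R) : Cfsg.IsRankOnePair A R := by
  rcases hS.pair A hA R hR with h | h | h
  · exact absurd (hdom R hR (cm_of_commutator h).symm).symm (not_cm hCR)
  · exact h
  · exfalso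
    have hFA : Cm ⁅A, R⁆ A := fun f hf a ha => h.2.1 f hf a (mem_sup_left ha)
    have hc : Cm A R := three hCR (hdom A hA (cm_self hS hA)) fun p hp r hr =>
      ⟨fun c hc => (hdom _ h.1 hFA _ (commutator_mem_commutator hp hr) c hc).symm,
        (show Commute (p * r * p⁻¹ * r⁻¹) r from
          h.2.1 _ (commutator_mem_commutator hp hr) r (mem_sup_right hr)).symm⟩
    exact hS.ne_bot _ h.1 hc.commutator_eq

theorem exists_opposite (hS : Cfsg.IsRootSubgroupSet S)
    (hF : ∀ A ∈ S, ¬ Cfsg.IsIsolatedIn (Cfsg.FAdj S) S A) (hA : A ∈ S) (hB : B ∈ S)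
    (h : Cfsg.RootCommutatorCase S A B) :
    ∃ E ∈ S, ⁅E, ⁅A, B⁆⁆ = A ∧ Cfsg.IsRankOnePair B E ∧ Cm A E := by
  have hline := (Cfsg.Agent.S5042.line_of_case hS (hF A hA) hA hB h).1
  obtain ⟨x, -, hxA, hxD⟩ := Cfsg.Agent.S5038.result hS hF hA hline A ⟨hA, le_sup_left⟩ ⁅A, B⁆ ⟨h.1, le_sup_right⟩
    ⁅A, B⁆ ⟨h.1, le_sup_right⟩ A ⟨hA, le_sup_left⟩ hline.1.2.1.symm hline.1.2.1
  have hE : Cfsg.conjBy B x ∈ S := hS.conj_mem B hB x
  have hED : ⁅Cfsg.conjBy B x, ⁅A, B⁆⁆ = A := by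
    conv_rhs => rw [← hxD]
    rw [map_commutator_conj A B x, hxA]
    exact Subgroup.commutator_comm _ _
  have hcase := commCase hS hE h.1 (by rw [hED]; exact hA)
  exact ⟨_, hE, hED, (Cfsg.Agent.S5036.result hS hA hB h.1 hE hED).1,
    fun a ha e he => hcase.2.1 a (hED.ge ha) e (mem_sup_left he)⟩

theorem dom_symm_deg (hS : Cfsg.IsRootSubgroupSet S) (hdeg : Cfsg.IsDegenerateRootSet S)
    (hF : ∀ A ∈ S, ¬ Cfsg.IsIsolatedIn (Cfsg.FAdj S) S A) (hA : A ∈ S) (hC : C ∈ S) (hAC : A ≠ C)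
    (h : Dom S A C) : Dom S C A := by
  obtain ⟨R, hR, hCR⟩ := exists_partner_of_not_isolated hC (hF C hC)
  have hcomm : Cm A C := h A hA (cm_self hS hA)
  have T : Triple S A C R := ⟨hS, hA, hC, hR, hAC, hcomm, omega_sub hS hA hR h hCR, hCR⟩
  obtain ⟨a, ha, ha1⟩ := exists_ne_one (hS.ne_bot A hA)
  obtain ⟨r, c, hc⟩ := T.exists_corr ha ha1
  have h1 := dom_conj hS h r⁻¹⁻¹
  have hi := hc.inv T
  rw [hi.eqA, hi.eqC, inv_inv, inv_inv] at h1
  have h2 := dom_conj hS h1 (a⁻¹ * c⁻¹)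
  rw [← conjBy_mul, ← conjBy_mul, inv_mul_cancel_right,
    show a⁻¹ * c⁻¹ * a = c⁻¹ from by
      rw [mul_assoc, ← (hcomm a hc.memA c hc.memC).inv_right.eq, inv_mul_cancel_left],
    ← hc.eqA, ← hc.eqC] at h2
  have h3 := dom_conj hS h2 r
  rwa [conjBy_conjBy_inv, conjBy_conjBy_inv] at h3

theorem dom_symm_nondeg (hS : Cfsg.IsRootSubgroupClass S) (hnd : Cfsg.IsNondegenerateRootSet S)
    (hA : A ∈ S) (hC : C ∈ S) (h : Dom S A C) : Dom S C A := by
  have hF := Cfsg.Agent.S5034.all_nonisolated hS hnd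
  have hcomm : Cm A C := h A hA (cm_self hS.1 hA)
  obtain ⟨R, hR, hCR⟩ := exists_partner_of_not_isolated hC (hF C hC)
  intro B hB hBC
  rcases hS.1.pair A hA B hB with hc | hc | hc
  · exact (cm_of_commutator hc).symm
  · exfalso
    have hle : (⊤ : Subgroup G) ≤ centralizer (C : Set G) := by
      rw [← Cfsg.Agent.S5042.result hS hnd hA ⟨hB, hc⟩]
      exact sup_le (iSup₂_le fun L hL => (mem_centralizing.2 ⟨hL.1.1, h L hL.1.1 (cm_of_commutator hL.1.2.2).symm⟩).2)
        (mem_centralizing.2 ⟨hB, hBC⟩).2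
    exact not_cm hCR fun c hc' r hr => mem_centralizer_iff.1 (hle (mem_top r)) c hc'
  exfalso
  obtain ⟨E, hE, hED, -, hAE⟩ := exists_opposite hS.1 hF hA hB hc
  have hX : B ⊔ E ≤ centralizer (C : Set G) :=
    sup_le (mem_centralizing.2 ⟨hB, hBC⟩).2 (mem_centralizing.2 ⟨hE, h E hE hAE.symm⟩).2
  have hline := (Cfsg.Agent.S5042.line_of_case hS.1 (hF A hA) hA hB hc).1
  have hdomP : ∀ x ∈ B ⊔ E, Dom S (Cfsg.conjBy A x) C := fun x hx => by
    have h1 := dom_conj hS.1 h x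
    rwa [conjBy_eq_self_iff.2 (centralizer_le_normalizer _ (hX hx))] at h1
  obtain ⟨Q, hQ, -, hQR, -, -, hN⟩ := CfsgLib.RootLineMoves.exists_move_at hS.1 hF
    (Cfsg.Agent.S5042.line_abelian hS.1 hA hline) (Cfsg.Agent.S5042.line_cover hline) hA hline.1.1
    hline.1.2.1.symm rfl hR (omega_sub hS.1 hA hR h hCR)
  have hQle : Q ≤ A ⊔ ⁅A, B⁆ := hN ▸ le_sup_right
  have hQdom : Dom S Q C := by
    rcases Cfsg.Agent.S5042.member_cases hS.1 hF hA hc hQ hQle with e | ⟨b, hb, e⟩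
    · obtain ⟨x, hx, hxe⟩ : ⁅A, B⁆ ∈ {F | ∃ x ∈ B ⊔ E, F = Cfsg.conjBy A x} := by
        rw [(Cfsg.Agent.S5036.result hS.1 hA hB hc.1 hE hED).2.1]
        exact ⟨1, one_mem _, (conjBy_one _).symm⟩
      rw [e, hxe]; exact hdomP x hx
    · rw [e]; exact hdomP b (mem_sup_left hb)
  exact CfsgLib.RankOne.reachable_conj.commutator_case_not_rankOne hS.1 hR hQR (omega_sub hS.1 hQ hR hQdom hCR)

end Cfsg.Agent.S5037

namespace Cfsg.Agent.S5037

open Subgroup CfsgLib.RankOne CfsgLib.RootTriple CfsgLib.RootLine CfsgLib.RootSubgroups.SL2Pair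

/-- Let S be a class of abstract root subgroups of G that is either degenerate or non-degenerate (so either the commutator case never occurs, or all three cases occur), and A ≠ C members of S. If every member of S commuting with A commutes with C, then A and C have the same commuting members of S; and if every rank one partner of A is a rank one partner of C, then A and C commute and have the same rank one partners. -/
theorem result {G : Type*} [Group G] {S : Set (Subgroup G)} (hS : Cfsg.IsRootSubgroupClass S)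
    (hdn : Cfsg.IsDegenerateRootSet S ∨ Cfsg.IsNondegenerateRootSet S)
    {A C : Subgroup G} (hA : A ∈ S) (hC : C ∈ S) (hAC : A ≠ C) :
    (Cfsg.centralizingMembers S A ⊆ Cfsg.centralizingMembers S C →
      Cfsg.centralizingMembers S A = Cfsg.centralizingMembers S C) ∧
    (Cfsg.rankOnePartners S A ⊆ Cfsg.rankOnePartners S C →
      ⁅A, C⁆ = ⊥ ∧ Cfsg.rankOnePartners S A = Cfsg.rankOnePartners S C) := by
  classical
  by_cases hro : ∃ P ∈ S, ∃ Q ∈ S, Cfsg.IsRankOnePair P Q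
  swap
  · push Not at hro
    have hdeg : Cfsg.IsDegenerateRootSet S :=
      hdn.resolve_right fun hnd => by obtain ⟨-, ⟨P, hP, Q, hQ, h⟩, -⟩ := hnd; exact hro P hP Q hQ h
    have hcm : ∀ P ∈ S, ∀ Q ∈ S, Cm P Q := fun P hP Q hQ => by
      rcases hS.1.pair P hP Q hQ with h | h | h
      · exact cm_of_commutator h
      · exact absurd h (hro P hP Q hQ)
      · exact absurd h (hdeg P hP Q hQ)
    refine ⟨fun _ => Set.ext fun P => ?_, fun _ => ⟨(hcm A hA C hC).commutator_eq, Set.ext fun P => ?_⟩⟩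
    · exact ⟨fun h => mem_centralizing.2 ⟨h.1, hcm P h.1 C hC⟩, fun h => mem_centralizing.2 ⟨h.1, hcm P h.1 A hA⟩⟩
    · exact ⟨fun h => absurd h.2 (hro A hA P h.1), fun h => absurd h.2 (hro C hC P h.1)⟩
  obtain ⟨P₀, hP₀, Q₀, hQ₀, hPQ⟩ := hro
  have hF : ∀ P ∈ S, ¬ Cfsg.IsIsolatedIn (Cfsg.FAdj S) S P := by
    intro P hP hi
    obtain ⟨g, rfl⟩ := hS.2.2 P₀ hP₀ P hP
    exact (hi.2 (Cfsg.conjBy Q₀ g)).1 ⟨hP, hS.1.conj_mem Q₀ hQ₀ g, isRankOnePair_conjBy hPQ g⟩
  have heq : ∀ A C : Subgroup G, A ∈ S → C ∈ S → A ≠ C → Dom S A C →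
      Cfsg.centralizingMembers S A = Cfsg.centralizingMembers S C := fun A C hA hC hne h =>
    Set.Subset.antisymm (dom_iff.2 h) (dom_iff.2 <| hdn.elim
      (fun hdeg => dom_symm_deg hS.1 hdeg hF hA hC hne h) fun hnd => dom_symm_nondeg hS hnd hA hC h)
  refine ⟨fun h => heq A C hA hC hAC (dom_iff.1 h), fun h => ?_⟩
  have hsub : ∀ P ∈ S, Cfsg.IsRankOnePair A P → Cfsg.IsRankOnePair C P := fun P hP hr => (h ⟨hP, hr⟩).2
  have hcomm : Cm A C := by
    rcases hS.1.pair A hA C hC with hc | hc | hc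
    · exact cm_of_commutator hc
    · exact absurd rfl (hsub C hC hc).ne
    · obtain ⟨E, hE, -, hAE, hCE⟩ := exists_opposite hS.1 hF hC hA (commutatorCase_symm hc)
      exact absurd hCE (not_cm (hsub E hE hAE))
  have hdom : Dom S C A := by
    intro P hP hPC
    rcases hS.1.pair A hA P hP with hc | hc | hc
    · exact (cm_of_commutator hc).symm
    · exact absurd hPC.symm (not_cm (hsub P hP hc))
    exfalso
    obtain ⟨E, hE, hED, hAE, hPE⟩ := exists_opposite hS.1 hF hP hA (commutatorCase_symm hc)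
    set D := ⁅P, A⁆ with hD
    have hDC : Cm D C := by
      have hle : D ≤ centralizer (C : Set G) :=
        Subgroup.commutator_le.2 fun p hp a ha => by
          have h1 := (mem_centralizing.2 ⟨hP, hPC⟩).2 hp
          have h2 := (mem_centralizing.2 ⟨hA, hcomm⟩).2 ha
          exact mul_mem (mul_mem (mul_mem h1 h2) (inv_mem h1)) (inv_mem h2)
      exact fun d hd c hc => (mem_centralizer_iff.1 (hle hd) c hc).symm
    have hDE : Cm D E := three (hsub E hE hAE) hDC fun d hd e he => by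
      have hm : d * e * d⁻¹ * e⁻¹ ∈ P := by
        have := commutator_mem_commutator hd he
        rw [Subgroup.commutator_comm, hED] at this
        exact this
      exact ⟨fun c hc => (hPC _ hm c hc).symm, (hPE _ hm e he).symm⟩
    exact hS.1.ne_bot P hP (by rw [← hED, Subgroup.commutator_comm]; exact hDE.commutator_eq)
  refine ⟨hcomm.commutator_eq, Set.Subset.antisymm h fun R hR => ⟨hR.1, ?_⟩⟩
  exact omega_sub hS.1 hA hR.1 (dom_iff.1 (heq C A hC hA hAC.symm hdom).ge) hR.2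

end Cfsg.Agent.S5037
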