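import Cfsg.Statements.S5039
import Cfsg.Agent.S5034
import Cfsg.Agent.Lib.RootSubgroups.Triple

set_option autoImplicit false
universe u
open Cfsg

namespace Cfsg.Agent.S5039

open Subgroup CfsgLib.RankOne CfsgLib.RootTriple

variable {G : Type*} [Group G] {S : Set (Subgroup G)}

theorem mem_rel (hS : Cfsg.IsRootSubgroupSet S) (hdeg : Cfsg.IsDegenerateRootSet S) {A B : Subgroup G} (hA : A ∈ S)
    (hB : B ∈ S) : Cm A B ∨ Cfsg.IsRankOnePair A B := by
  rcases hS.pair A hA B hB with h | h | h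
  · exact Or.inl (cm_of_commutator h)
  · exact Or.inr h
  · exact absurd h (hdeg A hA B hB)

/-- Some rank one partner of `A` does not commute with some member commuting with `A`. -/
theorem exists_triple (hS : Cfsg.IsRootSubgroupClass S) (hdeg : Cfsg.IsDegenerateRootSet S)
    (hn : ∀ A ∈ S, ¬ Cfsg.IsIsolatedIn (Cfsg.FAdj S) S A) {A C₀ : Subgroup G} (hA : A ∈ S) (hC₀ : C₀ ∈ S)
    (hne : A ≠ C₀) (hc : Cm A C₀) : ∃ C R, Triple S A C R := by
  by_contra hno
  push Not at hno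
  have hsplit : ∀ C ∈ S, Cm A C → A ≠ C → ∀ R ∈ S, Cfsg.IsRankOnePair A R → Cm R C := by
    intro C hC hAC hne R hR hAR
    rcases mem_rel hS.1 hdeg hR hC with h | h
    · exact h
    · exact absurd ⟨hS.1, hA, hC, hR, hne, hAC, hAR, Cfsg.RankOnePair_symm h⟩ (hno C R)
  have hcon : ∀ P, Relation.ReflTransGen (Cfsg.FAdj S) A P → P = A ∨ Cfsg.IsRankOnePair A P := by
    intro P hP
    induction hP with
    | refl => exact Or.inl rfl
    | @tail P Q _ hPQ ih =>
      obtain ⟨hP, hQ, hr⟩ := hPQ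
      rcases ih with rfl | hAP
      · exact Or.inr hr
      rcases mem_rel hS.1 hdeg hA hQ with h | h
      · by_contra hcase
        push Not at hcase
        exact not_cm hr (hsplit Q hQ h hcase.1.symm P hP hAP)
      · exact Or.inr h
  rcases hcon C₀ (connected_of_class hS.1 hS.2 ⟨A, hA, hn A hA⟩ A hA C₀ hC₀) with h | h
  · exact hne h.symm
  · exact not_cm h hc

/-- Let S be a class of abstract root subgroups of G containing two different commuting members. Suppose that, in case S is degenerate and every element of every member of S has order at most 3, the following holds: for every A ∈ S and every rank one partner B of A there are subgroups A₀ ≤ A and B₀ ≤ B generating an image of SL₂(k) with central kernel, k a field with at least four elements, A₀ and B₀ being the images of the unitriangular subgroups. Then every rank one pair A, B in S is special. -/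
theorem result {G : Type u} [Group G] {S : Set (Subgroup G)} (hS : Cfsg.IsRootSubgroupClass S)
    (hcomm : ∃ A ∈ S, ∃ C ∈ S, A ≠ C ∧ ⁅A, C⁆ = ⊥)
    (hH : Cfsg.IsDegenerateRootSet S → (∀ A ∈ S, ∀ a ∈ A, 0 < orderOf a ∧ orderOf a ≤ 3) →
      ∀ A ∈ S, ∀ B ∈ Cfsg.rankOnePartners S A, ∃ A₀ B₀ : Subgroup G, A₀ ≤ A ∧ B₀ ≤ B ∧
        ∃ (k : Type u) (_ : Field k), 3 < ENat.card k ∧ Cfsg.IsPSL2PairOver k A₀ B₀)
    {A B : Subgroup G} (hA : A ∈ S) (hB : B ∈ Cfsg.rankOnePartners S A) : Cfsg.IsSpecialRankOnePair A B := by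
  classical
  obtain ⟨hBS, hAB⟩ := hB
  by_cases hdeg : Cfsg.IsDegenerateRootSet S
  swap
  · refine (Cfsg.Agent.S5034.result hS ⟨hcomm, ⟨A, hA, B, hBS, hAB⟩, ?_⟩ hA ⟨hBS, hAB⟩).2
    simp only [Cfsg.IsDegenerateRootSet] at hdeg
    push Not at hdeg
    exact hdeg
  have hn : ∀ P ∈ S, ¬ Cfsg.IsIsolatedIn (Cfsg.FAdj S) S P := by
    intro P hP hi
    obtain ⟨g, rfl⟩ := hS.2.2 A hA P hP
    exact (hi.2 (Cfsg.conjBy B g)).1 ⟨hP, hS.1.conj_mem B hBS g, isRankOnePair_conjBy hAB g⟩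
  by_cases h1 : ∀ C ∈ S, Cm C A → C ≠ A → Cm C B
  swap
  · push Not at h1
    obtain ⟨C, hC, hCA, hne, hCB⟩ := h1
    exact Triple.special ⟨hS.1, hA, hC, hBS, hne.symm, hCA.symm, hAB, (mem_rel hS.1 hdeg hC hBS).resolve_left hCB⟩
  obtain ⟨X₀, hX₀, Y₀, hY₀, hne₀, hc₀⟩ := hcomm
  obtain ⟨g, hg⟩ := hS.2.2 X₀ hX₀ A hA
  have hC₀ : Cfsg.conjBy Y₀ g ∈ S := hS.1.conj_mem Y₀ hY₀ g
  obtain ⟨C, R, T⟩ := exists_triple hS hdeg hn hA hC₀ (fun e => hne₀ (conjBy_injective (hg.symm.trans e)))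
    (hg ▸ (cm_of_commutator hc₀).conj g)
  by_cases h2 : ∀ u ∈ A, u * u = 1
  · exact special_of_involutions hAB (cm_self hS.1 hA) h2
  push Not at h2
  obtain ⟨a, ha, ha2⟩ := h2
  exfalso
  apply ha2
  have ha1 : a ≠ 1 := fun e => ha2 (by rw [e, one_mul])
  obtain ⟨r, c, h⟩ := T.exists_corr ha ha1
  suffices hsuff : ∃ s ∈ R, s ≠ 1 ∧ s ≠ r ∧ s ≠ r⁻¹ by
    obtain ⟨s, hs, hs1, hsr, hsri⟩ := hsuff
    exact T.sq_eq_one hAB h1 h hs hs1 hsr hsri
  by_contra hsmall
  push Not at hsmall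
  have horder : ∀ v ∈ R, 0 < orderOf v ∧ orderOf v ≤ 3 := by
    intro v hv
    rcases eq_or_ne v 1 with rfl | hv1
    · simp
    have hr3 : ∀ u : G, (u = r ∨ u = r⁻¹) → u ^ 3 = 1 := by
      have hr2 : r * r ≠ 1 := by
        intro hr2
        apply ha2
        have hinv := (h.inv T).eqA
        rw [inv_inv, inv_inv] at hinv
        have := h.eqA
        rw [show r⁻¹ = r from inv_eq_of_mul_eq_one_right hr2] at this
        have := eq_of_conjBy_eq_right T.pairA ha (inv_mem ha) (hinv.symm.trans this)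
        calc a * a = a * a⁻¹ := by rw [← this]
          _ = 1 := mul_inv_cancel a
      have hrr : r * r = r⁻¹ := by
        by_contra hc
        exact hc (hsmall _ (mul_mem h.memR h.memR) hr2 fun e => h.neR (mul_eq_left.1 e))
      have h3 : r ^ 3 = 1 := by rw [pow_succ, pow_two, hrr, inv_mul_cancel]
      rintro u (rfl | rfl)
      · exact h3
      · rw [inv_pow, h3, inv_one]
    have hv3 : v ^ 3 = 1 := by
      refine hr3 v ?_
      by_cases hvr : v = r
      · exact Or.inl hvr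
      · exact Or.inr (hsmall v hv hv1 hvr)
    exact ⟨orderOf_pos_iff.2 (isOfFinOrder_iff_pow_eq_one.2 ⟨3, by norm_num, hv3⟩),
      Nat.le_of_dvd (by norm_num) (orderOf_dvd_of_pow_eq_one hv3)⟩
  have hall : ∀ P ∈ S, ∀ p ∈ P, 0 < orderOf p ∧ orderOf p ≤ 3 := by
    intro P hP p hp
    obtain ⟨g', rfl⟩ := hS.2.2 R T.memR P hP
    obtain ⟨v, hv, rfl⟩ := hp
    rw [orderOf_injective (MulAut.conj g').toMonoidHom (MulAut.conj g').injective]
    exact horder v hv
  obtain ⟨R₀, A₀, hR₀, -, k, hk, hcard, φ, -, hker, hup, -⟩ :=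
    hH hdeg hall R T.memR A ⟨T.memA, Cfsg.RankOnePair_symm T.pairA⟩
  let u : k → Matrix.SpecialLinearGroup (Fin 2) k := fun t => ⟨!![1, t; 0, 1], by simp [Matrix.det_fin_two]⟩
  have hu : ∀ t, u t ∈ Cfsg.upperUnipotentSL2 k := fun t => Subgroup.subset_closure ⟨rfl, rfl, rfl⟩
  have hinj : Function.Injective fun t => φ (u t) := by
    intro s t e
    have hmem : (u s)⁻¹ * u t ∈ φ.ker := by
      rw [MonoidHom.mem_ker, map_mul, map_inv, show φ (u s) = φ (u t) from e, inv_mul_cancel]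
    have hc := Subgroup.mem_center_iff.1 (hker hmem) ⟨!![1, 0; 1, 1], by simp [Matrix.det_fin_two]⟩
    have hM : (((u s)⁻¹ * u t : Matrix.SpecialLinearGroup (Fin 2) k) : Matrix (Fin 2) (Fin 2) k) = !![1, t - s; 0, 1] := by
      rw [Matrix.SpecialLinearGroup.coe_mul, Matrix.SpecialLinearGroup.coe_inv, Matrix.adjugate_fin_two]
      simp [u, Matrix.mul_fin_two, sub_eq_neg_add, add_comm]
    generalize (u s)⁻¹ * u t = w at hc hM
    have hc' : !![(1 : k), 0; 1, 1] * (w : Matrix (Fin 2) (Fin 2) k) = (w : Matrix (Fin 2) (Fin 2) k) * !![1, 0; 1, 1] :=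
      congrArg Subtype.val hc
    rw [hM] at hc'
    have h00 := congrArg (fun M : Matrix (Fin 2) (Fin 2) k => M 0 0) hc'
    simp [Matrix.mul_fin_two] at h00
    linear_combination -h00
  have hmemR : ∀ t, φ (u t) ∈ R := fun t => hR₀ (hup.le ⟨u t, hu t, rfl⟩)
  have hsub : Set.range (fun t => φ (u t)) ⊆ {1, r, r⁻¹} := by
    rintro _ ⟨t, rfl⟩
    simp only [Set.mem_insert_iff, Set.mem_singleton_iff]
    by_cases h1' : φ (u t) = 1
    · exact Or.inl h1'
    by_cases h2' : φ (u t) = r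
    · exact Or.inr (Or.inl h2')
    exact Or.inr (Or.inr (hsmall _ (hmemR t) h1' h2'))
  have h3 : (3 : ℕ∞) < (Set.range fun t => φ (u t)).encard := by
    rw [← Set.image_univ, hinj.encard_image, Set.encard_univ]
    exact hcard
  refine absurd ((Set.encard_le_encard hsub).trans ?_) (not_le.2 h3)
  refine (Set.encard_insert_le _ _).trans ((add_le_add_left (Set.encard_insert_le _ _) 1).trans ?_)
  rw [Set.encard_singleton]
  norm_num

end Cfsg.Agent.S5039
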