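import Cfsg.Statements.S5040
import Cfsg.Agent.S5042
import Cfsg.Agent.S5036

set_option autoImplicit false
open Cfsg

namespace Cfsg.Agent.S5040

open Subgroup CfsgLib.RankOne CfsgLib.RootLine

variable {G : Type*} [Group G] {S Δ : Set (Subgroup G)}

/-- The elements mapping `Δ` onto itself by conjugation. -/
def stab (Δ : Set (Subgroup G)) : Subgroup G where
  carrier := {g | (fun A => Cfsg.conjBy A g) '' Δ = Δ}
  one_mem' := by simp [conjBy_one]
  mul_mem' := fun {x y} hx hy => by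
    show (fun A => Cfsg.conjBy A (x * y)) '' Δ = Δ
    have : (fun A => Cfsg.conjBy A (x * y)) = (fun A => Cfsg.conjBy A x) ∘ (fun A => Cfsg.conjBy A y) := by
      funext A; exact conjBy_mul A x y
    rw [this, Set.image_comp, hy, hx]
  inv_mem' := fun {x} hx => by
    show (fun A => Cfsg.conjBy A x⁻¹) '' Δ = Δ
    conv_lhs => rw [← hx]
    rw [Set.image_image]
    simp [conjBy_inv_conjBy]

theorem le_stab (hS : Cfsg.IsRootSubgroupSet S) (hΔ : Cfsg.IsWeakTISubset S Δ) {A E : Subgroup G} (hA : A ∈ Δ)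
    (hE : E ∈ S) (hc : ∀ a ∈ A, ∀ e ∈ E, a * e = e * a) : E ≤ stab Δ := by
  intro e he
  by_cases he1 : e = 1
  · rw [he1]; exact one_mem _
  refine (hΔ.2.2.2 e ⟨he1, E, hE, he⟩).resolve_right fun hd => Set.disjoint_left.1 hd ?_ hA
  exact ⟨A, hA, conjBy_eq_self_iff.2 (centralizer_le_normalizer _
    (mem_centralizer_iff.2 fun a ha => hc a ha e he))⟩

theorem no_rankOne (hS : Cfsg.IsRootSubgroupClass S) (hnd : Cfsg.IsNondegenerateRootSet S)
    (hΔ : Cfsg.IsWeakTISubset S Δ) {A B : Subgroup G} (hA : A ∈ Δ) (hB : B ∈ Δ) :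
    ¬ Cfsg.IsRankOnePair A B := by
  intro hAB
  have hAS := hΔ.1 hA
  have hBS := hΔ.1 hB
  have htop : stab Δ = ⊤ := by
    rw [eq_top_iff, ← Cfsg.Agent.S5042.result hS hnd hAS ⟨hBS, hAB⟩]
    refine sup_le (iSup₂_le fun C hC => le_stab hS.1 hΔ hA hC.1.1 fun a ha e he =>
      commute_of_commutator_eq_bot hC.1.2.2 ha he) ?_
    exact le_stab hS.1 hΔ hB hBS fun b hb e he => member_comm hS.1 hBS hb he
  apply hΔ.2.2.1
  refine Set.Subset.antisymm hΔ.1 fun D hD => ?_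
  obtain ⟨g, rfl⟩ := hS.2.2 A hAS D hD
  have hg : g ∈ stab Δ := htop ▸ mem_top g
  exact hg ▸ ⟨A, hA, rfl⟩

/-- Let S be a non-degenerate class of abstract root subgroups of G and Δ a weak TI-subset of S. Then the members of Δ commute with one another elementwise. -/
theorem result {G : Type*} [Group G] {S : Set (Subgroup G)} (hS : Cfsg.IsRootSubgroupClass S) (hnd : Cfsg.IsNondegenerateRootSet S)
    {Δ : Set (Subgroup G)} (hΔ : Cfsg.IsWeakTISubset S Δ) : Cfsg.IsAbelianFamily Δ := by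
  have hF := Cfsg.Agent.S5034.all_nonisolated hS hnd
  intro A hA B hB
  have hAS := hΔ.1 hA
  have hBS := hΔ.1 hB
  rcases hS.1.pair A hAS B hBS with h | h | h
  · exact fun a ha b hb => commute_of_commutator_eq_bot h ha hb
  · exact absurd h (no_rankOne hS hnd hΔ hA hB)
  exfalso
  have hline := (Cfsg.Agent.S5042.line_of_case hS.1 (hF A hAS) hAS hBS h).1
  set C := ⁅A, B⁆ with hC
  have hAN : A ∈ Cfsg.membersIn S (A ⊔ C) := ⟨hAS, le_sup_left⟩
  have hCN : C ∈ Cfsg.membersIn S (A ⊔ C) := ⟨h.1, le_sup_right⟩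
  obtain ⟨x, -, hxA, hxC⟩ := Cfsg.Agent.S5038.result hS.1 hF hAS hline A hAN C hCN C hCN A hAN
    hline.1.2.1.symm hline.1.2.1
  set D := Cfsg.conjBy B x with hD
  have hDS : D ∈ S := hS.1.conj_mem B hBS x
  have hCD : Cfsg.conjBy ⁅A, B⁆ x = ⁅C, D⁆ := by rw [map_commutator_conj, hxA]
  have hDC : ⁅D, ⁅A, B⁆⁆ = A := by
    rw [← hC, Subgroup.commutator_comm, ← hCD]
    exact hxC
  have hr := (Cfsg.Agent.S5036.result hS.1 hAS hBS h.1 hDS hDC).1
  have hcase := commCase hS.1 hDS h.1 (by rw [← hC] at hDC; rw [hDC]; exact hAS)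
  rw [← hC] at hDC
  have hAD : ∀ a ∈ A, ∀ d ∈ D, a * d = d * a := fun a ha d hd =>
    hcase.2.1 a (hDC.ge ha) d (mem_sup_left hd)
  obtain ⟨d, hd, hd1⟩ := exists_ne_one (hS.1.ne_bot D hDS)
  have hdst : d ∈ stab Δ := le_stab hS.1 hΔ hA hDS hAD hd
  have hB' : Cfsg.conjBy B d ∈ Δ := hdst ▸ ⟨B, hB, rfl⟩
  refine no_rankOne hS hnd hΔ hB' hB ?_
  refine CfsgLib.RootLineMoves.not_rankOne_mem
    (conjBy_mem_unipotentSubgroups self_mem_unipotentSubgroups (mem_sup_right hd)) self_mem_unipotentSubgroups hr ?_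
  intro e
  exact hd1 (eq_of_conjBy_eq_left hr hd (one_mem D) (e.trans (conjBy_one B).symm))

end Cfsg.Agent.S5040
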