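import Cfsg.Statements.S5043
import Cfsg.Agent.Lib.RootSubgroups.SLRootGroups

set_option autoImplicit false
open Matrix
open Cfsg

namespace Cfsg.Agent.S5043

open Matrix CfsgLib.Known.PSLMinIndex CfsgLib.RootSubgroups.SLTransv CfsgLib.RootSubgroups.SLRoot in
theorem elementary_eq (k : Type*) [Field k] (n : ℕ) :
    Subgroup.closure {t : Matrix.SpecialLinearGroup (Fin (n + 3)) k |
      ∃ c : k, (t : Matrix (Fin (n + 3)) (Fin (n + 3)) k) = Matrix.transvection 0 1 c} =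
      rootGp (Pi.single 0 1) (Pi.single 1 1) := by
  have h01 : (0 : Fin (n + 3)) ≠ 1 := by simp [Fin.ext_iff]
  have h : (Pi.single (1 : Fin (n + 3)) (1 : k) : Fin (n + 3) → k) ⬝ᵥ Pi.single 0 1 = 0 := by
    simp [dotProduct_single, h01]
  have e : ∀ c : k, (tv (Pi.single (0 : Fin (n + 3)) (1 : k)) (c • Pi.single 1 1) :
      Matrix (Fin (n + 3)) (Fin (n + 3)) k) = Matrix.transvection 0 1 c := fun c => by
    rw [coe_tv (dot_smul_zero h c), Matrix.transvection]
    congr 1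
    ext a b
    simp only [Matrix.single_apply, vecMulVec_apply, Pi.smul_apply, Pi.single_apply, smul_eq_mul]
    rcases eq_or_ne a 0 with ha | ha <;> rcases eq_or_ne b 1 with hb | hb <;> simp [ha, hb, Ne.symm]
  unfold rootGp
  congr 1
  ext t
  exact ⟨fun ⟨c, hc⟩ => ⟨c, Subtype.ext ((e c).trans hc.symm)⟩, fun ⟨c, hc⟩ => ⟨c, hc ▸ e c⟩⟩

open Matrix CfsgLib.Known.PSLMinIndex CfsgLib.RootSubgroups.SLTransv CfsgLib.RootSubgroups.SLRoot in
theorem set_eq_rootSet (k : Type*) [Field k] (n : ℕ) :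
    {A : Subgroup (Matrix.SpecialLinearGroup (Fin (n + 3)) k) |
        ∃ g : Matrix.SpecialLinearGroup (Fin (n + 3)) k,
          A = Cfsg.conjBy (Subgroup.closure {t : Matrix.SpecialLinearGroup (Fin (n + 3)) k |
            ∃ c : k, (t : Matrix (Fin (n + 3)) (Fin (n + 3)) k) = Matrix.transvection 0 1 c}) g} =
      rootSet k (n + 3) := by
  have h : (Pi.single (1 : Fin (n + 3)) (1 : k) : Fin (n + 3) → k) ⬝ᵥ Pi.single 0 1 = 0 := by
    simp [dotProduct_single, Fin.ext_iff]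
  rw [elementary_eq]
  ext A
  constructor
  · rintro ⟨g, rfl⟩
    exact (isRootSubgroupSet (F := k) (n := n + 3)).conj_mem _ ⟨_, _, by simp, by simp, h, rfl⟩ g
  · rintro ⟨v, φ, hv, hφ, hd, rfl⟩
    obtain ⟨g, hgv, hφg⟩ := exists_std (show 3 ≤ n + 3 by omega) hv hφ hd
    refine ⟨g, ?_⟩
    rw [conj_rootGp g h]
    have e0 : (⟨0, by omega⟩ : Fin (n + 3)) = 0 := rfl
    have e1 : (⟨1, by omega⟩ : Fin (n + 3)) = 1 := Fin.ext (by simp)
    rw [e0] at hgv
    rw [e1] at hφg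
    rw [hgv, ← hφg, vecMul_vecMul, coe_mul_inv, vecMul_one]

/-- Let k be a field and n a natural number. In SL_{n+3}(k) (so in every dimension at least 3) the conjugates of the root subgroup of elementary transvections 1 + c E₁₂ (c ∈ k) — that is, the groups of transvections attached to an incident point–hyperplane pair — form a non-degenerate class of abstract k-root subgroups of SL_{n+3}(k) whose graph of rank one pairs is connected. -/
theorem result (k : Type*) [Field k] (n : ℕ) :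
    Cfsg.IsRootSubgroupClass {A : Subgroup (Matrix.SpecialLinearGroup (Fin (n + 3)) k) |
        ∃ g : Matrix.SpecialLinearGroup (Fin (n + 3)) k,
          A = Cfsg.conjBy (Subgroup.closure {t : Matrix.SpecialLinearGroup (Fin (n + 3)) k |
            ∃ c : k, (t : Matrix (Fin (n + 3)) (Fin (n + 3)) k) = Matrix.transvection 0 1 c}) g} ∧
    Cfsg.IsNondegenerateRootSet {A : Subgroup (Matrix.SpecialLinearGroup (Fin (n + 3)) k) |
        ∃ g : Matrix.SpecialLinearGroup (Fin (n + 3)) k,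
          A = Cfsg.conjBy (Subgroup.closure {t : Matrix.SpecialLinearGroup (Fin (n + 3)) k |
            ∃ c : k, (t : Matrix (Fin (n + 3)) (Fin (n + 3)) k) = Matrix.transvection 0 1 c}) g} ∧
    Cfsg.IsKRootSubgroupSet k {A : Subgroup (Matrix.SpecialLinearGroup (Fin (n + 3)) k) |
        ∃ g : Matrix.SpecialLinearGroup (Fin (n + 3)) k,
          A = Cfsg.conjBy (Subgroup.closure {t : Matrix.SpecialLinearGroup (Fin (n + 3)) k |
            ∃ c : k, (t : Matrix (Fin (n + 3)) (Fin (n + 3)) k) = Matrix.transvection 0 1 c}) g} ∧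
    Cfsg.IsConnectedFamily (Cfsg.FAdj {A : Subgroup (Matrix.SpecialLinearGroup (Fin (n + 3)) k) |
        ∃ g : Matrix.SpecialLinearGroup (Fin (n + 3)) k,
          A = Cfsg.conjBy (Subgroup.closure {t : Matrix.SpecialLinearGroup (Fin (n + 3)) k |
            ∃ c : k, (t : Matrix (Fin (n + 3)) (Fin (n + 3)) k) = Matrix.transvection 0 1 c}) g})
      {A : Subgroup (Matrix.SpecialLinearGroup (Fin (n + 3)) k) |
        ∃ g : Matrix.SpecialLinearGroup (Fin (n + 3)) k,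
          A = Cfsg.conjBy (Subgroup.closure {t : Matrix.SpecialLinearGroup (Fin (n + 3)) k |
            ∃ c : k, (t : Matrix (Fin (n + 3)) (Fin (n + 3)) k) = Matrix.transvection 0 1 c}) g} := by
  classical
  rw [set_eq_rootSet]
  open Matrix CfsgLib.RootSubgroups.SLRoot CfsgLib.RootSubgroups.SLTransv in
  have hS := isRootSubgroupSet (F := k) (n := n + 3)
  let i0 : Fin (n + 3) := ⟨0, by omega⟩
  let i1 : Fin (n + 3) := ⟨1, by omega⟩
  let i2 : Fin (n + 3) := ⟨2, by omega⟩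
  let e : Fin (n + 3) → (Fin (n + 3) → k) := fun i => Pi.single i 1
  have hdot : ∀ i j, i ≠ j → e j ⬝ᵥ e i = 0 := fun i j hij => by simp [e, dotProduct_single, hij]
  have hone : ∀ i, e i ⬝ᵥ e i = 1 := fun i => by simp [e, dotProduct_single]
  have hne : ∀ i, e i ≠ 0 := fun i => by simp [e]
  have h01 : i0 ≠ i1 := by simp [i0, i1, Fin.ext_iff]
  have h02 : i0 ≠ i2 := by simp [i0, i2, Fin.ext_iff]
  have h12 : i1 ≠ i2 := by simp [i1, i2, Fin.ext_iff]
  open CfsgLib.RootSubgroups.SLRoot in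
  have hmem : ∀ i j, i ≠ j → rootGp (e i) (e j) ∈ rootSet k (n + 3) := fun i j hij =>
    ⟨_, _, hne i, hne j, hdot i j hij, rfl⟩
  have hcl : Cfsg.IsConjClassOfSubgroups (CfsgLib.RootSubgroups.SLRoot.rootSet k (n + 3)) := by
    refine ⟨⟨_, hmem i0 i1 h01⟩, ?_⟩
    rw [← set_eq_rootSet]
    rintro _ ⟨g, rfl⟩ _ ⟨g', rfl⟩
    refine ⟨g' * g⁻¹, ?_⟩
    rw [CfsgLib.RankOne.conjBy_mul, CfsgLib.RankOne.conjBy_inv_conjBy]
  have hpair := (CfsgLib.RootSubgroups.SLRoot.rankOne (hdot i0 i1 h01) (hdot i1 i0 h01.symm)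
    (by rw [hone]; exact one_ne_zero) (by rw [hone]; exact one_ne_zero)).1
  refine ⟨⟨hS, hcl⟩, ⟨⟨_, hmem i0 i1 h01, _, hmem i0 i2 h02, ?_, ?_⟩,
    ⟨_, hmem i0 i1 h01, _, hmem i1 i0 h01.symm, hpair⟩,
    ⟨_, hmem i0 i1 h01, _, hmem i1 i2 h12, CfsgLib.RootSubgroups.SLRoot.commutatorCase (hne i0) (hne i2)
      (hdot i0 i1 h01) (hdot i1 i2 h12) (by rw [hone]; exact one_ne_zero) (hdot i0 i2 h02)⟩⟩,
    CfsgLib.RootSubgroups.SLRoot.isKRootSubgroupSet,
    CfsgLib.RankOne.connected_of_class hS hcl ⟨_, hmem i0 i1 h01,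
      fun hi => (hi.2 _).1 ⟨hmem i0 i1 h01, hmem i1 i0 h01.symm, hpair⟩⟩⟩
  · intro heq
    obtain ⟨c, hc⟩ := (CfsgLib.RootSubgroups.SLRoot.mem_rootGp (hdot i0 i2 h02)).1
      (heq ▸ CfsgLib.RootSubgroups.SLRoot.tv_mem_rootGp (e i0) (e i1) 1)
    have h' := congrFun (congrFun (congrArg Subtype.val hc) i0) i1
    rw [CfsgLib.Known.PSLMinIndex.coe_tv (CfsgLib.RootSubgroups.SLRoot.dot_smul_zero (hdot i0 i1 h01) 1),
      CfsgLib.Known.PSLMinIndex.coe_tv (CfsgLib.RootSubgroups.SLRoot.dot_smul_zero (hdot i0 i2 h02) c)] at h'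
    simp [e, Matrix.vecMulVec_apply, Pi.single_apply, h12] at h'
  · refine Subgroup.commutator_eq_bot_iff_le_centralizer.2 fun p hp => ?_
    obtain ⟨a, rfl⟩ := (CfsgLib.RootSubgroups.SLRoot.mem_rootGp (hdot i0 i1 h01)).1 hp
    refine Subgroup.mem_centralizer_iff.2 fun q hq => ?_
    obtain ⟨b, rfl⟩ := (CfsgLib.RootSubgroups.SLRoot.mem_rootGp (hdot i0 i2 h02)).1 hq
    exact (CfsgLib.RootSubgroups.SLRoot.commute_tv
      (CfsgLib.RootSubgroups.SLRoot.dot_smul_zero (hdot i0 i1 h01) a)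
      (CfsgLib.RootSubgroups.SLRoot.dot_smul_zero (hdot i0 i2 h02) b)
      (CfsgLib.RootSubgroups.SLRoot.dot_smul_zero (hdot i0 i1 h01) a)
      (CfsgLib.RootSubgroups.SLRoot.dot_smul_zero (hdot i0 i2 h02) b)).symm

end Cfsg.Agent.S5043
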