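import Cfsg.Statements.S5045
import Cfsg.Agent.Lib.RootSubgroups.RootInvol

set_option autoImplicit false
open Cfsg

namespace Cfsg.Agent.S5045

/-- Let G be a finite group generated by a set D of root involutions, and W the set of members of D whose product with every other member of D has even order or is trivial (the isolated vertices of the odd-order-product graph on D). Then W is conjugation-invariant and generates a normal 2-subgroup of G meeting D in exactly W; the commutator of two members of D lying in different connected components of that graph, each with more than one member, lies in the subgroup generated by W; and for a in such a component, every member of D commuting with a, different from a and with product with a in D, lies in that component or in W. -/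
theorem result {G : Type*} [Group G] [Finite G] {D : Set G} (hD : Cfsg.IsRootInvolutionSet D) :
    (∀ w ∈ {w | Cfsg.IsIsolatedElem (Cfsg.OddAdj D) D w}, ∀ g : G, g * w * g⁻¹ ∈ {w | Cfsg.IsIsolatedElem (Cfsg.OddAdj D) D w}) ∧
    (Subgroup.closure {w | Cfsg.IsIsolatedElem (Cfsg.OddAdj D) D w}).Normal ∧
    IsPGroup 2 ↥(Subgroup.closure {w | Cfsg.IsIsolatedElem (Cfsg.OddAdj D) D w}) ∧
    (Subgroup.closure {w | Cfsg.IsIsolatedElem (Cfsg.OddAdj D) D w} : Set G) ∩ D = {w | Cfsg.IsIsolatedElem (Cfsg.OddAdj D) D w} ∧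
    (∀ a ∈ D, ∀ b ∈ D, (∃ a' ∈ Cfsg.elemComponentOf (Cfsg.OddAdj D) D a, a' ≠ a) →
      (∃ b' ∈ Cfsg.elemComponentOf (Cfsg.OddAdj D) D b, b' ≠ b) →
      Cfsg.elemComponentOf (Cfsg.OddAdj D) D a ≠ Cfsg.elemComponentOf (Cfsg.OddAdj D) D b →
        a * b * a⁻¹ * b⁻¹ ∈ Subgroup.closure {w | Cfsg.IsIsolatedElem (Cfsg.OddAdj D) D w}) ∧
    (∀ a ∈ D, (∃ a' ∈ Cfsg.elemComponentOf (Cfsg.OddAdj D) D a, a' ≠ a) →
      Cfsg.productPartners D a ⊆ Cfsg.elemComponentOf (Cfsg.OddAdj D) D a ∪ {w | Cfsg.IsIsolatedElem (Cfsg.OddAdj D) D w}) := by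
  classical
  open CfsgLib.RootInvol CfsgLib.Invol in
  set W := {w | Cfsg.IsIsolatedElem (Cfsg.OddAdj D) D w} with hW
  have hWD : ∀ w ∈ W, w ∈ D := fun w hw => hw.1
  open CfsgLib.RootInvol in
  have hmapAdj : ∀ (g x y : G), Cfsg.OddAdj D x y → Cfsg.OddAdj D (g * x * g⁻¹) (g * y * g⁻¹) := fun g x y h =>
    ⟨hD.conj_mem x h.1 g, hD.conj_mem y h.2.1 g,
      fun e => h.2.2.1 (mul_left_cancel (mul_right_cancel e)),
      by rw [show g * x * g⁻¹ * (g * y * g⁻¹) = g * (x * y) * g⁻¹ by group,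
        CfsgLib.Invol.orderOf_conj_eq]; exact h.2.2.2⟩
  have h1 : ∀ w ∈ W, ∀ g : G, g * w * g⁻¹ ∈ W := by
    intro w hw g
    refine ⟨hD.conj_mem w hw.1 g, fun b => ⟨fun h => (hw.2 (g⁻¹ * b * g)).1 ?_, fun h => (hw.2 (g⁻¹ * b * g)).2 ?_⟩⟩ <;>
      simpa [mul_assoc] using hmapAdj g⁻¹ _ _ h
  have hnorm : (Subgroup.closure W).Normal := by
    refine ⟨fun x hx g => ?_⟩
    have hle : (Subgroup.closure W).map (MulAut.conj g).toMonoidHom ≤ Subgroup.closure W := by
      rw [MonoidHom.map_closure, Subgroup.closure_le]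
      rintro _ ⟨w, hw, rfl⟩
      exact Subgroup.subset_closure (h1 w hw g)
    exact hle (Subgroup.mem_map_of_mem _ hx)
  haveI : Fact (Nat.Prime 2) := ⟨Nat.prime_two⟩
  have hQ : IsPGroup 2 (Cfsg.pCore 2 G) := CfsgLib.Cores.isPGroup_pCore 2
  have hWQ : ∀ w ∈ W, w ∈ Cfsg.pCore 2 G := by
    intro w hw
    have hX : IsPGroup 2 (Subgroup.zpowers w) :=
      IsPGroup.of_card (n := 1) (by rw [Nat.card_zpowers, hD.orderOf_eq w hw.1, pow_one])
    obtain ⟨N, hN, hN2, hle⟩ := CfsgLib.Invol.baer_suzuki (p := 2) (Subgroup.zpowers w) hX (fun g => by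
      set y := g * w * g⁻¹ with hy
      have hyD : y ∈ D := hD.conj_mem w hw.1 g
      have hox := hD.orderOf_eq w hw.1
      have hoy := hD.orderOf_eq y hyD
      have hfour : (w * y) ^ 4 = 1 := by
        rcases hD.pair w hw.1 y hyD with h | h | h
        · rw [(show Commute w y from h).mul_pow, show (4 : ℕ) = 2 * 2 from rfl, pow_mul, pow_mul, pow_two w,
            pow_two y, CfsgLib.RootInvol.sq hD hw.1, CfsgLib.RootInvol.sq hD hyD, one_pow, one_mul]
        · by_cases hne : w = y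
          · rw [← hne, CfsgLib.RootInvol.sq hD hw.1, one_pow]
          · exact absurd ⟨hw.1, hyD, hne, h⟩ (hw.2 y).1
        · have := pow_orderOf_eq_one (w * y)
          rwa [h.1] at this
      intro z
      have hz : (z : G) ∈ Subgroup.closure ({w, y} : Set G) := by
        refine (sup_le ?_ ?_ : Subgroup.zpowers w ⊔ (Subgroup.zpowers w).map (MulAut.conj g).toMonoidHom ≤ _) z.2
        · exact Subgroup.zpowers_le.2 (Subgroup.subset_closure (Or.inl rfl))
        · rw [MonoidHom.map_zpowers]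
          exact Subgroup.zpowers_le.2 (Subgroup.subset_closure (Or.inr rfl))
      obtain ⟨i, hi⟩ := (CfsgLib.Invol.mem_closure_pair_invol hox hoy).1 hz
      have hr4 : ((w * y) ^ i) ^ 4 = 1 := by
        rw [← zpow_natCast, ← zpow_mul, mul_comm, zpow_mul, zpow_natCast, hfour, one_zpow]
      refine ⟨3, Subtype.ext ?_⟩
      rw [SubmonoidClass.coe_pow, OneMemClass.coe_one]
      rcases hi with hi | hi <;> rw [hi]
      · rw [show 2 ^ 3 = 4 * 2 from rfl, pow_mul, hr4, one_pow]
      · have h2 : (w * (w * y) ^ i) ^ 2 = 1 := by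
          rw [pow_two, ← mul_assoc, mul_assoc w, CfsgLib.Invol.inv_zpow_comm (CfsgLib.Invol.conj_mul_eq_inv hox hoy) i,
            ← mul_assoc w w, CfsgLib.RootInvol.sq hD hw.1, one_mul, ← zpow_add, neg_add_cancel, zpow_zero]
        rw [show 2 ^ 3 = 2 * 4 from rfl, pow_mul, h2, one_pow])
    haveI := hN
    exact CfsgLib.Cores.le_pCore hN2 (hle (Subgroup.mem_zpowers w))
  have hcl : Subgroup.closure W ≤ Cfsg.pCore 2 G := (Subgroup.closure_le _).2 hWQ
  have hDQ : ∀ d ∈ D, d ∈ Cfsg.pCore 2 G → d ∈ W := by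
    intro d hd hdQ
    refine ⟨hd, fun b => ⟨fun h => ?_, fun h => ?_⟩⟩
    all_goals
      have h' : Cfsg.OddAdj D d b := by first | exact h | exact CfsgLib.RootInvol.oddAdj_symm h
      obtain ⟨k, hk⟩ := hQ ⟨(d * b) * (d * b), by
        have hb := CfsgLib.RootInvol.inv_eq hD h'.2.1
        have := mul_mem hdQ ((inferInstance : (Cfsg.pCore 2 G).Normal).conj_mem d hdQ b)
        rw [hb] at this
        simpa [mul_assoc] using this⟩
      have hk' := congrArg Subtype.val hk
      simp only [SubmonoidClass.coe_pow, OneMemClass.coe_one] at hk'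
      rw [← pow_two, ← pow_mul, ← pow_succ'] at hk'
      have h1 : orderOf (d * b) = 1 := Nat.eq_one_of_dvd_coprimes
        (Nat.Coprime.pow_left (k + 1) h'.2.2.2.coprime_two_left).symm dvd_rfl (orderOf_dvd_of_pow_eq_one hk')
      exact h'.2.2.1 (by rw [eq_inv_of_mul_eq_one_left (orderOf_eq_one_iff.1 h1),
        CfsgLib.RootInvol.inv_eq hD h'.2.1])
  have hnotW : ∀ a ∈ D, (∃ a' ∈ Cfsg.elemComponentOf (Cfsg.OddAdj D) D a, a' ≠ a) → ¬ CfsgLib.RootInvol.IsIso D a := by
    rintro a - ⟨a', ha', hne⟩ hiso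
    rcases Relation.ReflTransGen.cases_head ha'.2 with h | ⟨y, h, -⟩
    · exact hne h.symm
    · exact (hiso.2 y).1 h
  refine ⟨h1, hnorm, hQ.to_le hcl, ?_, ?_, ?_⟩
  · exact Set.Subset.antisymm (fun d hd => hDQ d hd.2 (hcl hd.1)) fun w hw => ⟨Subgroup.subset_closure hw, hw.1⟩
  · intro a ha b hb hA hB hne
    have hnr : ¬ Relation.ReflTransGen (Cfsg.OddAdj D) a b := fun h => hne (Set.ext fun z =>
      ⟨fun hz => ⟨hz.1, (CfsgLib.RootInvol.reach_symm h).trans hz.2⟩, fun hz => ⟨hz.1, h.trans hz.2⟩⟩)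
    have hinv : a * b * a⁻¹ * b⁻¹ = (a * b) ^ 2 := by
      rw [CfsgLib.RootInvol.inv_eq hD ha, CfsgLib.RootInvol.inv_eq hD hb, pow_two, ← mul_assoc]
    rcases hD.pair a ha b hb with h | h | h
    · rw [h]
      simp [mul_assoc]
    · refine absurd ?_ hnr
      by_cases hab : a = b
      · rw [hab]
      · exact .single ⟨ha, hb, hab, h⟩
    · rw [hinv]
      refine Subgroup.subset_closure ?_
      by_contra hcW
      obtain ⟨hcD, hac, hbc, -, hacD, -⟩ := CfsgLib.RootInvol.four_sq hD ha hb h.1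
      have hba : orderOf (b * a) = 4 := by rw [CfsgLib.Invol.orderOf_mul_comm_invol]; exact h.1
      obtain ⟨-, -, -, -, hbcD, -⟩ := CfsgLib.RootInvol.four_sq hD hb ha hba
      have hrev : (b * a) ^ 2 = (a * b) ^ 2 := by
        have h4 : (a * b) ^ 2 * (a * b) ^ 2 = 1 := by
          rw [← pow_add, show 2 + 2 = orderOf (a * b) from h.1.symm, pow_orderOf_eq_one]
        rw [eq_inv_of_mul_eq_one_left h4, ← inv_pow, mul_inv_rev, CfsgLib.RootInvol.inv_eq hD ha,
          CfsgLib.RootInvol.inv_eq hD hb]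
      exact hnr ((CfsgLib.RootInvol.triple_reach hD ha hcD hac hacD (hnotW a ha hA) hcW).trans
        (CfsgLib.RootInvol.reach_symm (CfsgLib.RootInvol.triple_reach hD hb hcD hbc
          (hrev ▸ hbcD) (hnotW b hb hB) hcW)))
  · rintro a ha hA e ⟨⟨he, hea, -⟩, heD⟩
    by_cases heW : e ∈ W
    · exact Or.inr heW
    · exact Or.inl ⟨he, CfsgLib.RootInvol.triple_reach hD ha he hea.symm (hea ▸ heD) (hnotW a ha hA) heW⟩

end Cfsg.Agent.S5045
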