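import Cfsg.Statements.S5046
import Cfsg.Agent.Lib.RootSubgroups.RootInvolLines

set_option autoImplicit false
open Cfsg

namespace Cfsg.Agent.S5046

open CfsgLib.RootInvol CfsgLib.Invol

variable {G : Type*} [Group G] {D : Set G}

theorem class_of_connected (hD : Cfsg.IsRootInvolutionSet D) (hc : Cfsg.IsConnectedSet (Cfsg.OddAdj D) D) :
    ∀ u ∈ D, ∀ v ∈ D, ∃ h : G, v = h * u * h⁻¹ := by
  intro u hu v hv
  induction hc u hu v hv with
  | refl => exact ⟨1, by simp⟩
  | @tail a b _ hab ih =>
    obtain ⟨k, rfl⟩ := ih hab.1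
    obtain ⟨c, -, rfl⟩ := exists_conj_of_odd (hD.orderOf_eq _ hab.1) (hD.orderOf_eq _ hab.2.1) hab.2.2.2
    exact ⟨c * k, by group⟩

theorem mem_union_iff (hD : Cfsg.IsRootInvolutionSet D) {d y : G} (hd : d ∈ D) :
    y ∈ Cfsg.commutingMembers D d ∪ Cfsg.fourPartners D d ↔ y ∈ D ∧ y ∉ Cfsg.oddPartners D d := by
  constructor
  · rintro (⟨hy, hc⟩ | h)
    · exact ⟨hy, fun h => odd_not_comm hD hd h hc.symm⟩
    · exact ⟨h.1, four_not_odd h.2⟩
  · rintro ⟨hy, hn⟩
    rcases tri hD hd hy with h | h | h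
    · exact Or.inl ⟨hy, h.symm⟩
    · exact absurd h hn
    · exact Or.inr h

theorem union_eq_iff (hD : Cfsg.IsRootInvolutionSet D) {d e : G} (hd : d ∈ D) (he : e ∈ D) :
    Cfsg.commutingMembers D d ∪ Cfsg.fourPartners D d = Cfsg.commutingMembers D e ∪ Cfsg.fourPartners D e ↔
      Cfsg.oddPartners D d = Cfsg.oddPartners D e := by
  constructor
  · intro h
    ext y
    constructor <;> intro hy <;> by_contra hn
    · exact ((mem_union_iff hD hd).1 (h.symm ▸ (mem_union_iff hD he).2 ⟨hy.1, hn⟩)).2 hy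
    · exact ((mem_union_iff hD he).1 (h ▸ (mem_union_iff hD hd).2 ⟨hy.1, hn⟩)).2 hy
  · intro h
    ext y
    rw [mem_union_iff hD hd, mem_union_iff hD he, h]

theorem same_odd (hD : Cfsg.IsRootInvolutionSet D) {d e x : G} (hd : d ∈ D) (he : e ∈ D)
    (h : Cfsg.commutingMembers D d = Cfsg.commutingMembers D e) (hx : x ∈ Cfsg.oddPartners D d) :
    x ∈ Cfsg.oddPartners D e := by
  have hC : ∀ y ∈ D, (y * d = d * y ↔ y * e = e * y) := fun y hy =>
    ⟨fun hc => (Set.ext_iff.1 h y |>.1 ⟨hy, hc⟩).2, fun hc => (Set.ext_iff.1 h y |>.2 ⟨hy, hc⟩).2⟩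
  have hne := odd_not_comm hD hd hx
  rcases tri hD he hx.1 with h' | h' | h'
  · exact absurd ((hC x hx.1).2 h'.symm) (Ne.symm hne)
  · exact h'
  · exfalso
    have hx2 := sq hD hx.1
    have hcon : x * e * x ∈ D := conj_mem' hD he hx.1
    have h1 : (x * e * x) * e = e * (x * e * x) := by
      rw [four_conj hD he hx.1 h'.2]
      have := (four_sq hD he hx.1 h'.2).2.1
      exact ((Commute.refl e).mul_left this.symm).eq
    have h2 : x * e * x * d = d * (x * e * x) := (hC _ hcon).2 h1
    have h3 : (x * d * x) * e = e * (x * d * x) := by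
      have := congrArg (fun t => x * t * x) h2
      simp only [mul_assoc] at this ⊢
      rw [← mul_assoc x x, hx2, one_mul] at this
      simpa [mul_assoc, hx2] using this.symm
    have h4 := (hC _ (conj_mem' hD hd hx.1)).2 h3
    have h5 : (d * x) ^ 4 = 1 := by
      have e1 : (d * x) * (d * x) = d * (x * d * x) := by simp only [mul_assoc]
      rw [show (4 : ℕ) = 2 * 2 from rfl, pow_mul, pow_two (d * x), e1,
        (show Commute d (x * d * x) from h4.symm).mul_pow, pow_two, pow_two, sq hD hd, sq hD (conj_mem' hD hd hx.1),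
        one_mul]
    have h6 : orderOf (d * x) ∣ 2 ^ 2 := orderOf_dvd_of_pow_eq_one h5
    have h7 : orderOf (d * x) = 1 :=
      Nat.eq_one_of_dvd_coprimes (Nat.Coprime.pow_left 2 hx.2.2.coprime_two_left).symm dvd_rfl h6
    exact hx.2.1 (by
      rw [eq_inv_of_mul_eq_one_right (orderOf_eq_one_iff.1 h7), inv_eq hD hd])

theorem commute_of_same_odd [Finite G] (hD : Cfsg.IsRootInvolutionSet D)
    (hcl : ∀ u ∈ D, ∀ v ∈ D, ∃ h : G, v = h * u * h⁻¹) {d e w : G} (hd : d ∈ D) (he : e ∈ D)
    (hA : Cfsg.oddPartners D d = Cfsg.oddPartners D e) (hde : d * e = e * d) (hw : w ∈ D) (hwe : w * e = e * w) :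
    w * d = d * w := by
  rcases tri hD hd hw with h | h | h
  · exact h.symm
  · rw [hA] at h
    exact absurd hwe.symm (odd_not_comm hD he h)
  exfalso
  obtain ⟨φ, hφ, hφ4, hφw, hφc, hφd⟩ := exists_opposite_root hD hcl hd hw h.2
  set g := (d * w) ^ 2 with hg
  have hgD : g ∈ D := (four_sq hD hd hw h.2).1
  rw [hA] at hφd
  have heg : Commute e g := ((show Commute e d from hde.symm).mul_right (show Commute e w from hwe.symm)).pow_right 2
  have h1 : Commute (φ * e * φ) g := by
    have h2 : φ * g * φ = g * w := by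
      conv_rhs => arg 2; rw [← hφw]
      exact four_conj' hD hφ hgD hφ4
    have h3 : φ * (g * w) * φ = g := by
      rw [← h2]
      calc φ * (φ * g * φ) * φ = (φ * φ) * g * (φ * φ) := by simp only [mul_assoc]
        _ = g := by rw [sq hD hφ, one_mul, mul_one]
    have h4 : Commute e (g * w) := heg.mul_right (show Commute e w from hwe.symm)
    have h5 := h4.map (MulAut.conj φ).toMonoidHom
    simp only [MulEquiv.coe_toMonoidHom, MulAut.conj_apply, inv_eq hD hφ, h3] at h5
    exact h5
  have h6 : Commute ((e * φ) * (e * φ)) g := by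
    have := heg.mul_left h1
    simpa [mul_assoc] using this
  obtain ⟨k, hk⟩ := eq_sq_pow hφd.2.2
  have h7 : Commute (e * φ) g := hk ▸ h6.pow_left k
  have h8 : Commute φ g := by
    have := heg.mul_left h7
    rwa [← mul_assoc, sq hD he, one_mul] at this
  exact four_ne_comm hD hφ hgD hφ4 h8.eq

end Cfsg.Agent.S5046

namespace Cfsg.Agent.S5046

open CfsgLib.RootInvol CfsgLib.Invol

/-- Let G be a finite group generated by a set D of root involutions whose odd-order-product graph is connected, and d ∈ D. Then the members e of D with the same commuting members as d are exactly those for which the union of the commuting members of d and the members whose product with d has order 4 equals the corresponding union for e. -/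
theorem result {G : Type*} [Group G] [Finite G] {D : Set G} (hD : Cfsg.IsRootInvolutionSet D)
    (hc : Cfsg.IsConnectedSet (Cfsg.OddAdj D) D) {d : G} (hd : d ∈ D) :
    Cfsg.sameCommutingClass D d =
      {e | e ∈ D ∧ Cfsg.commutingMembers D d ∪ Cfsg.fourPartners D d = Cfsg.commutingMembers D e ∪ Cfsg.fourPartners D e} := by
  have hcl := class_of_connected hD hc
  ext e
  refine ⟨fun ⟨he, h⟩ => ⟨he, (union_eq_iff hD hd he).2 (Set.ext fun x =>
    ⟨fun hx => same_odd hD hd he h hx, fun hx => same_odd hD he hd h.symm hx⟩)⟩, fun ⟨he, h⟩ => ⟨he, ?_⟩⟩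
  have hA := (union_eq_iff hD hd he).1 h
  have hde : d * e = e * d := by
    rcases tri hD hd he with h' | h' | h'
    · exact h'
    · rw [hA] at h'; exact absurd rfl h'.2.1
    · exfalso
      obtain ⟨φ, hφ, -, -, hφc, hφd⟩ := exists_opposite_root hD hcl hd he h'.2
      rw [hA] at hφd
      exact odd_not_comm hD he hφd hφc.symm
  refine Set.ext fun w => ⟨fun hw => ⟨hw.1, ?_⟩, fun hw => ⟨hw.1, ?_⟩⟩
  · exact commute_of_same_odd hD hcl he hd hA.symm hde.symm hw.1 hw.2
  · exact commute_of_same_odd hD hcl hd he hA hde hw.1 hw.2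

end Cfsg.Agent.S5046
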