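import Cfsg.Statements.S5047
import Cfsg.Agent.S5046

set_option autoImplicit false
open Cfsg

namespace Cfsg.Agent.S5047

open CfsgLib.RootInvol CfsgLib.Invol

/-- Let G be a finite group generated by a set D of root involutions whose odd-order-product graph is connected, a ∈ D, and b a member of D different from a, commuting with a, with ab ∈ D, but not having the same commuting members as a. Then some member x of D with bx of order 4 has ax of order 3. -/
theorem result {G : Type*} [Group G] [Finite G] {D : Set G} (hD : Cfsg.IsRootInvolutionSet D)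
    (hc : Cfsg.IsConnectedSet (Cfsg.OddAdj D) D) {a b : G} (ha : a ∈ D) (hb : b ∈ Cfsg.productPartners D a)
    (hbE : b ∉ Cfsg.sameCommutingClass D a) : ∃ x ∈ Cfsg.fourPartners D b, orderOf (a * x) = 3 := by
  have hcl := Cfsg.Agent.S5046.class_of_connected hD hc
  obtain ⟨⟨hbD, hba, hne⟩, hbaD⟩ := hb
  have hX : b ∈ Cfsg.productPartners D a := ⟨⟨hbD, hba, hne⟩, hbaD⟩
  have hA : Cfsg.oddPartners D a ≠ Cfsg.oddPartners D b := by
    intro h
    refine hbE ?_
    rw [Cfsg.Agent.S5046.result hD hc ha]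
    exact ⟨hbD, (Cfsg.Agent.S5046.union_eq_iff hD ha hbD).2 h⟩
  obtain ⟨y, hy, hy'⟩ := exists_odd_diff hD hcl ha hbD hA
  obtain ⟨φ, hφ, hφ4, hφb⟩ := exists_root' hD ha hX hy hy'
  have hg : (a * φ) ^ 2 = b := by rw [sq_symm hD hφ ha hφ4]; exact hφb
  obtain ⟨ψ, hψ, hψ4, hψφ, hψc, hψa⟩ := exists_opposite_root hD hcl ha hφ (four_symm hφ4)
  rw [hg] at hψ4 hψφ
  refine ⟨ψ, ⟨hψ, four_symm hψ4⟩, ?_⟩
  set r := a * ψ with hr
  have hφbc : φ * b = b * φ := by
    have := (four_sq hD hφ ha hφ4).2.1.eq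
    rwa [hφb] at this
  have hψb : ψ * b * ψ = b * φ := by
    rw [four_conj' hD hψ hbD hψ4, hψφ]
  have haφ : a * φ * a = φ * b := by
    rw [four_conj hD hφ ha hφ4, hφb]
  have hrinv : r⁻¹ = ψ * a := by rw [hr, mul_inv_rev, inv_eq hD ha, inv_eq hD hψ]
  have haa := sq hD ha
  have happ : ∀ u, MulAut.conj r u = a * (ψ * u * ψ) * a := fun u => by
    rw [MulAut.conj_apply, hrinv, hr]; simp only [mul_assoc]
  have t1 : MulAut.conj r b = φ := by
    rw [happ, hψb, show a * (b * φ) * a = (a * b * a) * (a * φ * a) by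
      simp only [mul_assoc]; rw [← mul_assoc a a, haa, one_mul], haφ, ← hba, mul_assoc b a a, haa, mul_one,
      ← mul_assoc, ← hφbc, mul_assoc, sq hD hbD, mul_one]
  have t2 : MulAut.conj r φ = φ * b := by
    rw [happ, hψc, mul_assoc φ ψ ψ, sq hD hψ, mul_one, haφ]
  have hz : MulAut.conj (r ^ 3) b = b := by
    rw [pow_succ, pow_two, map_mul, map_mul, MulAut.mul_apply, MulAut.mul_apply, t1, t2, map_mul, t2, t1,
      hφbc, mul_assoc, sq hD hφ, mul_one]
  set z := r ^ 3 with hzdef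
  have hzb : z * b = b * z := mul_inv_eq_iff_eq_mul.1 (by simpa using hz)
  have hinv : a * r * a⁻¹ = r⁻¹ := conj_mul_eq_inv (hD.orderOf_eq a ha) (hD.orderOf_eq ψ hψ)
  have hza : a * z * a⁻¹ = z⁻¹ := by rw [hzdef, ← conj_pow, hinv, inv_pow]
  have hodd : Odd (orderOf r) := hψa.2.2
  have hat : a * (z * a * z⁻¹) = z⁻¹ * z⁻¹ := by
    calc a * (z * a * z⁻¹) = (a * z * a⁻¹) * z⁻¹ := by rw [inv_eq hD ha]; simp only [mul_assoc]
      _ = z⁻¹ * z⁻¹ := by rw [hza]
  have hzeq : z * a * z⁻¹ = a := by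
    by_contra hne'
    have ht : z * a * z⁻¹ ∈ D := hD.conj_mem a ha z
    refine triple_not_comm hD hbD ha hba hbaD ht (Ne.symm hne') ?_ ?_
    · rw [hat, ← mul_inv_rev, orderOf_inv, hzdef, ← pow_add]
      exact hodd.of_dvd_nat (orderOf_pow_dvd _)
    · have := (show Commute z b from hzb)
      exact ((this.symm.mul_right (show Commute b a from hba)).mul_right this.symm.inv_right).eq
  rw [hzeq, haa] at hat
  have h6 : r ^ 6 = 1 := by
    rw [show (6 : ℕ) = 3 + 3 from rfl, pow_add, ← hzdef, ← inv_eq_one, mul_inv_rev]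
    exact hat.symm
  have hd6 : orderOf r ∣ 3 * 2 := orderOf_dvd_of_pow_eq_one h6
  have hd3 : orderOf r ∣ 3 := (Nat.Coprime.dvd_of_dvd_mul_right hodd.coprime_two_right hd6)
  rcases (Nat.dvd_prime Nat.prime_three).1 hd3 with h1 | h3
  · exact absurd (by rw [eq_inv_of_mul_eq_one_right (orderOf_eq_one_iff.1 h1), inv_eq hD ha] : ψ = a) hψa.2.1
  · exact h3

end Cfsg.Agent.S5047
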