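import Cfsg.Statements.S5048
import Cfsg.Agent.Lib.RootSubgroups.RootInvol

set_option autoImplicit false
open Cfsg

namespace Cfsg.Agent.S5048

open CfsgLib.RootInvol CfsgLib.Invol

variable {G : Type*} [Group G] {D : Set G}

theorem conj_of_odd [Finite G] (hD : Cfsg.IsRootInvolutionSet D) {a b : G} (ha : a ∈ D) (hb : b ∈ D)
    (h : Odd (orderOf (a * b))) : ∃ g : G, b = g * a * g⁻¹ := by
  obtain ⟨c, -, hc⟩ := exists_conj_of_odd (hD.orderOf_eq a ha) (hD.orderOf_eq b hb) h
  exact ⟨c, hc.symm⟩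

theorem isConj_of_connected [Finite G] (hD : Cfsg.IsRootInvolutionSet D)
    (hc : Cfsg.IsConnectedSet (Cfsg.OddAdj D) D) {a b : G} (ha : a ∈ D) (hb : b ∈ D) :
    ∃ g : G, b = g * a * g⁻¹ := by
  induction hc a ha b hb with
  | refl => exact ⟨1, by simp⟩
  | @tail u v _ huv ih =>
    obtain ⟨g, rfl⟩ := ih huv.1
    obtain ⟨c, rfl⟩ := conj_of_odd hD huv.1 huv.2.1 huv.2.2.2
    exact ⟨c * g, by group⟩

/-- A normal subgroup without members of `D` is central modulo the 2-core. -/
theorem commutator_mem_core [Finite G] (hD : Cfsg.IsRootInvolutionSet D) {d b : G} (hd : d ∈ D) (hb : b ∈ D)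
    (hdb : d * b = b * d) (he : d * b ∈ D) (N : Subgroup G) [N.Normal] (hN : ∀ x ∈ D, x ∉ N) {m : G}
    (hm : m ∈ N) : d * (m * d * m⁻¹) ∈ Cfsg.pCore 2 G := by
  haveI : Fact (Nat.Prime 2) := ⟨Nat.prime_two⟩
  let f := QuotientGroup.mk' N
  have hf : ∀ z : G, f z = 1 ↔ z ∈ N := fun z => QuotientGroup.eq_one_iff z
  have hcomm0 : ∀ p ∈ N, (p * d * p⁻¹) * d = d * (p * d * p⁻¹) := by
    intro p hp
    obtain ⟨x, hx⟩ : ∃ x, x = p * d * p⁻¹ := ⟨_, rfl⟩
    rw [← hx]
    have hxD : x ∈ D := hx ▸ hD.conj_mem d hd p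
    have hfx : f x = f d := by
      rw [hx, map_mul, map_mul, map_inv, (hf p).2 hp, one_mul, inv_one, mul_one]
    rcases hD.pair d hd x hxD with h | h | h
    · exact h.symm
    · by_contra hne'
      have hdx : d ≠ x := fun e => hne' (by rw [← e])
      have hnc : b * x ≠ x * b := triple_not_comm hD hb hd hdb.symm (hdb ▸ he) hxD hdx h
      have hfb : f (b * x) = f (b * d) := by rw [map_mul, map_mul, hfx]
      have hbd : f (b * d) * f (b * d) = 1 := by
        rw [← map_mul, ← hdb, sq hD he, map_one]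
      rcases hD.pair b hb x hxD with h' | h' | h'
      · exact hnc h'
      · obtain ⟨k, hk⟩ := eq_sq_pow h'
        refine hN _ he ((hf _).1 ?_)
        rw [hdb, ← hfb, ← hk, map_pow, map_mul, hfb, hbd, one_pow]
      · refine hN _ h'.2 ((hf _).1 ?_)
        rw [pow_two, map_mul, hfb, hbd]
    · exfalso
      refine hN _ h.2 ((hf _).1 ?_)
      rw [pow_two, map_mul, map_mul, hfx, ← map_mul f d d, sq hD hd, map_one, one_mul]
  have hcomm : ∀ p ∈ N, ∀ q ∈ N, (p * d * p⁻¹) * (q * d * q⁻¹) = (q * d * q⁻¹) * (p * d * p⁻¹) := by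
    intro p hp q hq
    have := congrArg (MulAut.conj q) (hcomm0 (q⁻¹ * p) (mul_mem (inv_mem hq) hp))
    simpa [mul_assoc] using this
  set c : G → G := fun p => d * (p * d * p⁻¹) with hc
  have hcd : ∀ p ∈ N, Commute d (p * d * p⁻¹) := fun p hp => (hcomm0 p hp).symm
  have hcc : ∀ p ∈ N, ∀ q ∈ N, Commute (c p) (c q) := fun p hp q hq =>
    Commute.mul_left ((Commute.refl d).mul_right (hcd q hq)) ((hcd p hp).symm.mul_right (hcomm p hp q hq))
  have hcN : ∀ p ∈ N, c p ∈ N := by
    intro p hp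
    have h2 := mul_mem ((inferInstance : N.Normal).conj_mem p hp d) (inv_mem hp)
    rw [inv_eq hD hd] at h2
    simpa [hc, mul_assoc] using h2
  have hcsq : ∀ p ∈ N, c p * c p = 1 := fun p hp => by
    rw [← pow_two, hc, (hcd p hp).mul_pow, pow_two, pow_two, sq hD hd, one_mul, sq hD (hD.conj_mem d hd p)]
  set P : Subgroup N := Subgroup.closure {y : N | ∃ p ∈ N, (y : G) = c p} with hP
  haveI hPn : P.Normal := by
    refine ⟨fun y hy n => ?_⟩
    have hle : P.map (MulAut.conj n).toMonoidHom ≤ P := by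
      rw [hP, MonoidHom.map_closure, Subgroup.closure_le]
      rintro _ ⟨y, ⟨p, hp, hy⟩, rfl⟩
      have e1 : ((MulAut.conj n).toMonoidHom y : G) = c n * c (n * p) := by
        show (n : G) * (y : G) * (n : G)⁻¹ = _
        rw [hy, hc]
        calc (n : G) * (d * (p * d * p⁻¹)) * (n : G)⁻¹
            = ((n : G) * d * (n : G)⁻¹) * ((n * p) * d * (n * p)⁻¹) := by group
          _ = ((n : G) * d * (n : G)⁻¹) * (d * d) * ((n * p) * d * (n * p)⁻¹) := by rw [sq hD hd, mul_one]
          _ = ((n : G) * d * (n : G)⁻¹ * d) * d * ((n * p) * d * (n * p)⁻¹) := by group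
          _ = d * ((n : G) * d * (n : G)⁻¹) * d * ((n * p) * d * (n * p)⁻¹) := by rw [hcomm0 n n.2]
          _ = _ := by group
      have hnp : (n : G) * p ∈ N := mul_mem n.2 hp
      have e2 : (MulAut.conj n).toMonoidHom y = ⟨c n, hcN n n.2⟩ * ⟨c (n * p), hcN _ hnp⟩ := Subtype.ext e1
      rw [e2]
      exact mul_mem (Subgroup.subset_closure ⟨n, n.2, rfl⟩) (Subgroup.subset_closure ⟨_, hnp, rfl⟩)
    exact hle (Subgroup.mem_map_of_mem _ hy)
  have hP2 : IsPGroup 2 P := by
    haveI : IsMulCommutative (Subgroup.closure {y : N | ∃ p ∈ N, (y : G) = c p}) := by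
      refine Subgroup.isMulCommutative_closure ?_
      rintro y ⟨p, hp, hy⟩ z ⟨q, hq, hz⟩
      refine Subtype.ext ?_
      simp only [Subgroup.coe_mul, hy, hz]
      exact hcc p hp q hq
    intro z
    refine ⟨1, Subtype.ext ?_⟩
    rw [pow_one]
    have hz := z.2
    show (z : N) ^ 2 = 1
    revert hz
    generalize (z : N) = w
    intro hw
    rw [hP] at hw
    induction hw using Subgroup.closure_induction with
    | mem y hy =>
      obtain ⟨p, hp, hy⟩ := hy
      refine Subtype.ext ?_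
      rw [SubmonoidClass.coe_pow, hy, pow_two, hcsq p hp, OneMemClass.coe_one]
    | one => exact one_pow 2
    | mul y z hy hz iy iz =>
      have : Commute y z := congrArg Subtype.val ((IsMulCommutative.is_comm (M := Subgroup.closure {y : N | ∃ p ∈ N, (y : G) = c p})).comm ⟨y, hy⟩ ⟨z, hz⟩)
      rw [this.mul_pow, iy, iz, one_mul]
    | inv y _ iy => rw [inv_pow, iy, inv_one]
  have hPQ : P ≤ Cfsg.pCore 2 N := CfsgLib.Cores.le_pCore hP2
  exact CfsgLib.Cores.map_subtype_pCore_le_of_normal 2 N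
    ⟨⟨c m, hcN m hm⟩, hPQ (Subgroup.subset_closure ⟨m, hm, rfl⟩), rfl⟩

/-- A normal subgroup is everything or central modulo the 2-core. -/
theorem normal_cases [Finite G] (hD : Cfsg.IsRootInvolutionSet D) (hc : Cfsg.IsConnectedSet (Cfsg.OddAdj D) D)
    (hDD : (D ∩ Cfsg.commutingProducts D).Nonempty) (N : Subgroup G) [hNn : N.Normal] :
    N = ⊤ ∨ N ≤ Cfsg.twoZCore G := by
  by_cases hN : ∃ x ∈ D, x ∈ N
  · obtain ⟨x, hx, hxN⟩ := hN
    left
    rw [eq_top_iff, ← hD.generates, Subgroup.closure_le]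
    intro y hy
    obtain ⟨g, rfl⟩ := isConj_of_connected hD hc hx hy
    exact hNn.conj_mem x hxN g
  push Not at hN
  obtain ⟨x, hx, a, ha, b, hb, hab, -, rfl⟩ := hDD
  refine Or.inr fun m hm => ?_
  show QuotientGroup.mk' (Cfsg.pCore 2 G) m ∈ Subgroup.center _
  refine Subgroup.mem_center_iff.2 fun z => ?_
  obtain ⟨w, rfl⟩ := QuotientGroup.mk'_surjective _ z
  have hw : w ∈ Subgroup.closure D := hD.generates ▸ Subgroup.mem_top w
  have hle : Subgroup.closure D ≤ (Subgroup.centralizer {QuotientGroup.mk' (Cfsg.pCore 2 G) m}).comap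
      (QuotientGroup.mk' (Cfsg.pCore 2 G)) := by
    rw [Subgroup.closure_le]
    intro d hd
    obtain ⟨g, rfl⟩ := isConj_of_connected hD hc ha hd
    have hb' := hD.conj_mem b hb g
    have h1 := commutator_mem_core hD (b := g * b * g⁻¹) hd hb' (by
      have := congrArg (MulAut.conj g) hab
      simpa using this) (by
      have := hD.conj_mem _ hx g
      simpa [mul_assoc] using this) N hN hm
    rw [SetLike.mem_coe, Subgroup.mem_comap, Subgroup.mem_centralizer_singleton_iff]
    have h2 : QuotientGroup.mk' (Cfsg.pCore 2 G) (g * a * g⁻¹) *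
        (QuotientGroup.mk' (Cfsg.pCore 2 G) m * QuotientGroup.mk' (Cfsg.pCore 2 G) (g * a * g⁻¹) *
          (QuotientGroup.mk' (Cfsg.pCore 2 G) m)⁻¹) = 1 := by
      simp only [← map_mul, ← map_inv]
      exact (QuotientGroup.eq_one_iff _).2 h1
    have h3 : QuotientGroup.mk' (Cfsg.pCore 2 G) (g * a * g⁻¹) * QuotientGroup.mk' (Cfsg.pCore 2 G) (g * a * g⁻¹) = 1 := by
      rw [← map_mul, sq hD hd, map_one]
    generalize QuotientGroup.mk' (Cfsg.pCore 2 G) (g * a * g⁻¹) = u at h2 h3 ⊢
    generalize QuotientGroup.mk' (Cfsg.pCore 2 G) m = v at h2 ⊢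
    have h4 : v * u * v⁻¹ = u := mul_left_cancel (h2.trans h3.symm)
    exact (mul_inv_eq_iff_eq_mul.1 h4).symm
  exact Subgroup.mem_centralizer_singleton_iff.1 (hle hw)

end Cfsg.Agent.S5048

namespace Cfsg.Agent.S5048

open CfsgLib.RootInvol CfsgLib.Invol

/-- Let G be a finite group generated by a set D of root involutions whose odd-order-product graph is connected, with some product of two different commuting members of D again in D. Then the largest solvable normal subgroup of G is the preimage of the centre of G/O₂(G), and the quotient of G by it is a simple group. -/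
theorem result {G : Type*} [Group G] [Finite G] {D : Set G} (hD : Cfsg.IsRootInvolutionSet D)
    (hc : Cfsg.IsConnectedSet (Cfsg.OddAdj D) D) (hDD : (D ∩ Cfsg.commutingProducts D).Nonempty) :
    Cfsg.solvableRadical G = Cfsg.twoZCore G ∧ IsSimpleGroup (G ⧸ Cfsg.twoZCore G) := by
  classical
  haveI : Fact (Nat.Prime 2) := ⟨Nat.prime_two⟩
  set Z := Cfsg.twoZCore G with hZ
  set q := QuotientGroup.mk' (Cfsg.pCore 2 G) with hq
  obtain ⟨x, hx, a, ha, b, hb, hab, hab1, rfl⟩ := id hDD
  have hanotb : a ≠ b := fun e => hab1 (by rw [e]; exact sq hD hb)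
  obtain ⟨y, hay⟩ : ∃ y, Cfsg.OddAdj D a y := by
    rcases Relation.ReflTransGen.cases_head (hc a ha b hb) with h | ⟨y, h, -⟩
    · exact absurd h hanotb
    · exact ⟨y, h⟩
  -- images of an odd pair do not commute modulo the 2-core
  have hnc : q (a * y) * q (a * y) ≠ 1 := by
    intro h
    have h2 : q (a * y) = 1 := by
      obtain ⟨k, hk⟩ := eq_sq_pow hay.2.2.2
      rw [← hk, map_pow, map_mul, h, one_pow]
    obtain ⟨j, hj⟩ := CfsgLib.Cores.isPGroup_pCore 2 ⟨a * y, (QuotientGroup.eq_one_iff _).1 h2⟩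
    have hj' : (a * y) ^ 2 ^ j = 1 := congrArg Subtype.val hj
    have h1 : orderOf (a * y) = 1 := Nat.eq_one_of_dvd_coprimes
      (Nat.Coprime.pow_left j hay.2.2.2.coprime_two_left).symm dvd_rfl (orderOf_dvd_of_pow_eq_one hj')
    exact hay.2.2.1 (by rw [eq_inv_of_mul_eq_one_left (orderOf_eq_one_iff.1 h1), inv_eq hD hay.2.1])
  have haya : a * (a * y) * a⁻¹ = (a * y)⁻¹ := by
    rw [mul_inv_rev, inv_eq hD ha, inv_eq hD hay.2.1, ← mul_assoc, sq hD ha, one_mul]
  have hay_nZ : a * y ∉ Z := by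
    intro h
    apply hnc
    have h1 := Subgroup.mem_center_iff.1 (show q (a * y) ∈ Subgroup.center _ from h) (q a)
    have h2 := congrArg q haya
    rw [map_mul, map_mul, map_inv, map_inv, h1, mul_inv_cancel_right] at h2
    exact eq_inv_iff_mul_eq_one.1 h2
  have hne : Z ≠ ⊤ := fun e => hay_nZ (e ▸ Subgroup.mem_top _)
  have hnt : Nontrivial (G ⧸ Z) := not_subsingleton_iff_nontrivial.1 fun hs =>
    hne (QuotientGroup.subsingleton_iff.1 hs)
  have hsimple : IsSimpleGroup (G ⧸ Z) := by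
    refine ⟨fun M hM => ?_⟩
    haveI := hM
    rcases normal_cases hD hc hDD (M.comap (QuotientGroup.mk' Z)) with h | h
    · right
      rw [← Subgroup.map_comap_eq_self_of_surjective (QuotientGroup.mk'_surjective Z) M, h,
        Subgroup.map_top_of_surjective _ (QuotientGroup.mk'_surjective Z)]
    · left
      rw [← Subgroup.map_comap_eq_self_of_surjective (QuotientGroup.mk'_surjective Z) M, eq_bot_iff]
      refine (Subgroup.map_mono h).trans ?_
      rw [QuotientGroup.map_mk'_self]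
  refine ⟨le_antisymm ?_ ?_, hsimple⟩
  · refine sSup_le ?_
    rintro N ⟨hN, hsol⟩
    haveI := hN
    refine (normal_cases hD hc hDD N).resolve_left fun e => hay_nZ ?_
    subst e
    haveI : Group.IsSolvable G :=
      Group.isSolvable_of_surjective (G := (⊤ : Subgroup G)) (f := (⊤ : Subgroup G).subtype)
        fun g => ⟨⟨g, Subgroup.mem_top g⟩, rfl⟩
    haveI : Group.IsSolvable (G ⧸ Z) := Group.isSolvable_of_surjective (QuotientGroup.mk'_surjective Z)
    have hcomm : ∀ u v : G ⧸ Z, u * v = v * u := IsSimpleGroup.comm_iff_isSolvable.2 inferInstance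
    obtain ⟨c, rfl⟩ := conj_of_odd hD ha hay.2.1 hay.2.2.2
    rw [← QuotientGroup.eq_one_iff]
    have hm := fun u v : G => hcomm (QuotientGroup.mk' Z u) (QuotientGroup.mk' Z v)
    show QuotientGroup.mk' Z (a * (c * a * c⁻¹)) = 1
    rw [map_mul, map_mul, map_mul, map_inv, hm c a, mul_inv_cancel_right, ← map_mul, sq hD ha, map_one]
  · refine le_sSup ⟨inferInstance, ?_⟩
    haveI : Finite G := inferInstance
    haveI hQ : Group.IsNilpotent (Cfsg.pCore 2 G) := (CfsgLib.Cores.isPGroup_pCore 2).isNilpotent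
    haveI : Group.IsSolvable (Subgroup.center (G ⧸ Cfsg.pCore 2 G)) :=
      Group.isSolvable_of_comm fun u v => Subtype.ext (Subgroup.mem_center_iff.1 v.2 u)
    let φ : Z →* Subgroup.center (G ⧸ Cfsg.pCore 2 G) := (q.comp Z.subtype).codRestrict _ fun z => z.2
    have hk : φ.ker ≤ (Cfsg.pCore 2 G).subgroupOf Z := fun z hz =>
      (QuotientGroup.eq_one_iff (z : G)).1 (congrArg Subtype.val hz)
    exact Group.isSolvable_of_ker_le_range ((Subgroup.inclusion (show Cfsg.pCore 2 G ≤ Z from fun g hg => by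
      show q g ∈ Subgroup.center _
      rw [show q g = 1 from (QuotientGroup.eq_one_iff g).2 hg]; exact one_mem _))) φ fun z hz =>
        ⟨⟨(z : G), hk hz⟩, Subtype.ext rfl⟩

end Cfsg.Agent.S5048
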