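import Cfsg.Statements.S5049
import Cfsg.Agent.Lib.Cores.Basic
-- import your own Cfsg.Agent.* helpers here

set_option autoImplicit false
open Cfsg

namespace Cfsg.Agent.S5049

/-- Let G be a finite group generated by a set D of odd transpositions (root involutions with no product of order 4), Q = O₂(G), and for a ∈ D let Q_a be the commutator subgroup of Q with a. Then every member of D commuting with a centralizes Q_a; and for b ∈ D with ab of odd order greater than 1, the centralizer of ab in Q is the intersection of the centralizers of a and b in Q. -/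
theorem result {G : Type*} [Group G] [Finite G] {D : Set G} (hD : Cfsg.IsOddTranspositionSet D) {a : G} (ha : a ∈ D) :
    (∀ e ∈ Cfsg.commutingMembers D a, ∀ q ∈ ⁅Cfsg.pCore 2 G, Subgroup.zpowers a⁆, e * q = q * e) ∧
    (∀ b ∈ Cfsg.oddPartners D a,
      Cfsg.pCore 2 G ⊓ Subgroup.centralizer {a * b} = Cfsg.pCore 2 G ⊓ Subgroup.centralizer {a} ⊓ Subgroup.centralizer {b}) := by
  obtain ⟨⟨hord, hgen, hconj, hpair⟩, h4⟩ := hD
  set Q := pCore 2 G with hQ
  have hQ2 : IsPGroup 2 Q := CfsgLib.Cores.isPGroup_pCore 2
  have hQn : Q.Normal := inferInstance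
  have sq : ∀ d ∈ D, d * d = 1 := by
    intro d hd
    have := pow_orderOf_eq_one d
    rwa [hord d hd, pow_two] at this
  have pr : ∀ x ∈ D, ∀ y ∈ D, x * y = y * x ∨ Odd (orderOf (x * y)) := by
    intro x hx y hy
    rcases hpair x hx y hy with h | h | ⟨h, -⟩
    · exact Or.inl h
    · exact Or.inr h
    · exact absurd h (h4 x hx y hy)
  -- an element whose square lies in `Q` and which has odd order is trivial
  have odd_one : ∀ z : G, z * z ∈ Q → Odd (orderOf z) → z = 1 := by
    intro z hz hz'
    obtain ⟨k, hk⟩ := hQ2 ⟨z * z, hz⟩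
    have hk' : z ^ (2 ^ (k + 1)) = 1 := by
      have := congrArg Subtype.val hk
      simpa [pow_succ', pow_mul, pow_two] using this
    rw [← orderOf_eq_one_iff]
    obtain ⟨j, -, hj⟩ := (Nat.dvd_prime_pow Nat.prime_two).1 (orderOf_dvd_of_pow_eq_one hk')
    rcases Nat.eq_zero_or_pos j with rfl | hj0
    · simpa using hj
    · exfalso
      rw [hj] at hz'
      exact (Nat.not_even_iff_odd.2 hz') ((Nat.even_pow' (by omega)).2 even_two)
  have hcomm : ∀ e ∈ D, e * a = a * e → ∀ q ∈ Q, e * (q * a * q⁻¹) = (q * a * q⁻¹) * e := by
    intro e he hea q hq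
    rcases pr e he _ (hconj a ha q) with h | h
    · exact h
    · have h1 : e * (q * a * q⁻¹) = 1 := by
        refine odd_one _ ?_ h
        have hw : q * a * q⁻¹ * a ∈ Q := by
          have h2 := mul_mem hq (hQn.conj_mem _ (inv_mem hq) a)
          have ea : a⁻¹ = a := inv_eq_of_mul_eq_one_right (sq a ha)
          rw [ea] at h2
          simpa [mul_assoc] using h2
        set w := q * a * q⁻¹ * a with hw'
        have e2 : q * a * q⁻¹ = w * a := by
          rw [hw', mul_assoc _ a a, sq a ha, mul_one]
        rw [e2]
        have e3 : e * (w * a) * (e * (w * a)) = (e * w * e⁻¹) * (e * a) * (e * w * e⁻¹) * (e * a) := by group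
        have e4 : (e * a) * (e * a) = 1 := by
          rw [mul_assoc e a, ← mul_assoc a e a, ← hea, mul_assoc e a a, sq a ha, mul_one, sq e he]
        rw [e3]
        have hu : e * w * e⁻¹ ∈ Q := hQn.conj_mem _ hw e
        have h5 := mul_mem hu (hQn.conj_mem _ hu (e * a))
        have ei : (e * a)⁻¹ = e * a := inv_eq_of_mul_eq_one_right e4
        rw [ei] at h5
        simpa [mul_assoc] using h5
      rw [h1]
      have h2 : e⁻¹ = q * a * q⁻¹ := inv_eq_of_mul_eq_one_right h1
      rw [← h2, inv_mul_cancel]
  have hcomma : ∀ q ∈ Q, a * (q * a * q⁻¹) = (q * a * q⁻¹) * a := hcomm a ha rfl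
  refine ⟨fun e he q hq => ?_, fun b hb => ?_⟩
  · obtain ⟨he, hea⟩ := he
    have hle : ⁅Q, Subgroup.zpowers a⁆ ≤ Subgroup.centralizer {e} := by
      rw [Subgroup.commutator_le]
      intro q hq x hx
      rw [Subgroup.mem_centralizer_singleton_iff]
      have hc : Commute e (q * a * q⁻¹ * a⁻¹) := (show Commute e _ from hcomm e he hea q hq).mul_right
        ((show Commute e a from hea).inv_right)
      obtain ⟨i, rfl⟩ := hx
      have ha2 : a ^ (2 : ℤ) = 1 := by rw [zpow_two, sq a ha]
      rcases Int.even_or_odd i with ⟨j, rfl⟩ | ⟨j, rfl⟩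
      · have : a ^ (j + j) = 1 := by rw [← two_mul, zpow_mul, ha2, one_zpow]
        simp [commutatorElement_def, this]
      · have : a ^ (2 * j + 1) = a := by rw [zpow_add, zpow_mul, ha2, one_zpow, one_mul, zpow_one]
        simp only [this, commutatorElement_def]
        exact hc.eq.symm
    exact (Subgroup.mem_centralizer_singleton_iff.1 (hle hq)).symm
  · obtain ⟨hb, hne, hodd⟩ := hb
    refine le_antisymm ?_ ?_
    · rintro q ⟨hq, hqc⟩
      have hqc' : Commute q (a * b) := Subgroup.mem_centralizer_singleton_iff.1 hqc
      have ea : a⁻¹ = a := inv_eq_of_mul_eq_one_right (sq a ha)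
      have eb : b⁻¹ = b := inv_eq_of_mul_eq_one_right (sq b hb)
      set w := q * a * q⁻¹ * a with hw
      have hwQ : w ∈ Q := by
        have h2 := mul_mem hq (hQn.conj_mem _ (inv_mem hq) a)
        rw [ea] at h2
        simpa [hw, mul_assoc] using h2
      -- `w` commutes with `a` and with `a * b`
      have hwa : Commute w a := (show Commute (q * a * q⁻¹) a from (hcomma q hq).symm).mul_left (Commute.refl a)
      have hinv : a * (a * b) * a = (a * b)⁻¹ := by
        rw [mul_inv_rev, ea, eb, ← mul_assoc a a b, sq a ha, one_mul]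
      have hwab : Commute w (a * b) := by
        have h1 : Commute (a * q⁻¹ * a) (a * b) := by
          have h2 : Commute (a * q⁻¹ * a) (a * (a * b)⁻¹ * a) := by
            have h3 := (hqc'.inv_left.inv_right).map (MulAut.conj a).toMonoidHom
            simpa [ea] using h3
          have h4 : a * (a * b)⁻¹ * a = a * b := by
            rw [← hinv]
            calc a * (a * (a * b) * a) * a = (a * a) * (a * b) * (a * a) := by group
              _ = a * b := by rw [sq a ha, one_mul, mul_one]
          rwa [h4] at h2
        have h5 : w = q * (a * q⁻¹ * a) := by rw [hw]; group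
        rw [h5]
        exact hqc'.mul_left h1
      have hwb : Commute w b := by
        have := hwa.mul_right hwab
        rwa [← mul_assoc, sq a ha, one_mul] at this
      have hw1 : w = 1 := by
        rcases pr b hb _ (hconj a ha q) with h | h
        · exfalso
          have e2 : q * a * q⁻¹ = w * a := by rw [hw, mul_assoc _ a a, sq a ha, mul_one]
          rw [e2] at h
          have h6 : b * a = a * b := by
            refine mul_left_cancel (a := w) ?_
            rw [← mul_assoc, ← mul_assoc, hwb.eq, mul_assoc b w a]
            exact h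
          have h7 : (a * b) ^ 2 = 1 := by
            rw [pow_two, mul_assoc a b, ← mul_assoc b a b, h6, mul_assoc a b b, sq b hb, mul_one, sq a ha]
          have h8 : orderOf (a * b) ∣ 2 := orderOf_dvd_of_pow_eq_one h7
          rcases (Nat.dvd_prime Nat.prime_two).1 h8 with h9 | h9
          · rw [orderOf_eq_one_iff] at h9
            exact hne (by rw [← eb]; exact (inv_eq_of_mul_eq_one_left h9))
          · rw [h9] at hodd
            exact absurd hodd (by decide)
        · have e2 : q * a * q⁻¹ = w * a := by rw [hw, mul_assoc _ a a, sq a ha, mul_one]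
          rw [e2, ← mul_assoc, hwb.symm.eq, mul_assoc] at h
          set n := orderOf (w * (b * a))
          have hc : Commute w (b * a) := hwb.mul_right hwa
          have h1 : (w * (b * a)) ^ (n * orderOf (b * a)) = 1 := by rw [pow_mul, pow_orderOf_eq_one, one_pow]
          rw [hc.mul_pow, mul_comm n, pow_mul (b * a), pow_orderOf_eq_one, one_pow, mul_one] at h1
          have hba : orderOf (b * a) = orderOf (a * b) := by
            rw [← orderOf_inv, mul_inv_rev, ea, eb]
          have h2 : Odd (orderOf w) := by
            refine Odd.of_dvd_nat ?_ (orderOf_dvd_of_pow_eq_one h1)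
            rw [hba]
            exact hodd.mul h
          exact odd_one w (mul_mem hwQ hwQ) h2
      have hqa : Commute q a := by
        rw [hw, mul_eq_one_iff_eq_inv, ea] at hw1
        exact mul_inv_eq_iff_eq_mul.1 hw1
      refine ⟨⟨hq, Subgroup.mem_centralizer_singleton_iff.2 hqa⟩, Subgroup.mem_centralizer_singleton_iff.2 ?_⟩
      have := hqa.mul_right hqc'
      rwa [← mul_assoc, sq a ha, one_mul] at this
    · rintro q ⟨⟨hq, hqa⟩, hqb⟩
      refine ⟨hq, Subgroup.mem_centralizer_singleton_iff.2 ?_⟩
      exact ((show Commute q a from Subgroup.mem_centralizer_singleton_iff.1 hqa).mul_right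
        (show Commute q b from Subgroup.mem_centralizer_singleton_iff.1 hqb))

end Cfsg.Agent.S5049
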