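import Cfsg.Statements.S5057
-- import your own Cfsg.Agent.* helpers here

set_option autoImplicit false
open Cfsg

namespace Cfsg.Agent.S5057

/-- The involutions of the alternating group of degree 6 form a class of root involutions (a single conjugacy class of involutions generating the group, any two of which commute, have product of odd order, or have product of order 4 whose square is again an involution of the class), and the product of any two of them has order at most 5. -/
theorem result :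
    Cfsg.IsRootInvolutionClass {g : ↥(alternatingGroup (Fin 6)) | orderOf g = 2} ∧
    ∀ d ∈ {g : ↥(alternatingGroup (Fin 6)) | orderOf g = 2}, ∀ e ∈ {g : ↥(alternatingGroup (Fin 6)) | orderOf g = 2},
      orderOf (d * e) ≤ 5 := by
  classical
  let x : Equiv.Perm (Fin 6) := Equiv.swap 0 1 * Equiv.swap 2 3
  have key : ∀ b : Equiv.Perm (Fin 6), b * b = 1 → b ≠ 1 → Equiv.Perm.sign b = 1 →
      (Equiv.swap 0 1 * Equiv.swap 2 3) * b = b * (Equiv.swap 0 1 * Equiv.swap 2 3) ∨
      ((Equiv.swap 0 1 * Equiv.swap 2 3) * b)^3 = 1 ∨ ((Equiv.swap 0 1 * Equiv.swap 2 3) * b)^5 = 1 ∨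
      (((Equiv.swap 0 1 * Equiv.swap 2 3) * b)^4 = 1 ∧ ((Equiv.swap 0 1 * Equiv.swap 2 3) * b)^2 ≠ 1) := by
    decide +kernel
  have hx : x ∈ alternatingGroup (Fin 6) := by
    rw [Equiv.Perm.mem_alternatingGroup]; decide
  let X : alternatingGroup (Fin 6) := ⟨x, hx⟩
  have hX2 : orderOf X = 2 := by
    rw [← orderOf_submonoid]
    exact orderOf_eq_prime (p := 2) (show x ^ 2 = 1 by decide) (show x ≠ 1 by decide)
  have hct : ∀ g : alternatingGroup (Fin 6), orderOf g = 2 → (g : Equiv.Perm (Fin 6)).cycleType = Multiset.replicate 2 2 := by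
    intro g hg
    have hg' : orderOf (g : Equiv.Perm (Fin 6)) = 2 := by
      rw [← hg]; exact orderOf_submonoid g
    obtain ⟨n, hn⟩ := Equiv.Perm.cycleType_prime_order (σ := (g : Equiv.Perm (Fin 6))) (hg'.symm ▸ Nat.prime_two)
    rw [hg'] at hn
    have h1 := Equiv.Perm.sum_cycleType_le (g : Equiv.Perm (Fin 6))
    have h2 : Equiv.Perm.sign (g : Equiv.Perm (Fin 6)) = 1 := Equiv.Perm.mem_alternatingGroup.1 g.2
    rw [Equiv.Perm.sign_of_cycleType, hn, Multiset.sum_replicate, Multiset.card_replicate] at h2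
    rw [hn, Multiset.sum_replicate, Fintype.card_fin, smul_eq_mul] at h1
    have h3 : n ≤ 2 := by omega
    interval_cases n
    · exact absurd h2 (by decide)
    · exact hn
    · exact absurd h2 (by decide)
  have hconj : ∀ g : alternatingGroup (Fin 6), orderOf g = 2 → ∃ h : alternatingGroup (Fin 6), g = h * X * h⁻¹ := by
    intro g hg
    have h1 : IsConj x (g : Equiv.Perm (Fin 6)) := by
      rw [Equiv.Perm.isConj_iff_cycleType_eq, hct g hg]
      exact hct X hX2
    obtain ⟨s, hs⟩ := isConj_iff.1 h1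
    rcases Int.units_eq_one_or (Equiv.Perm.sign s) with h | h
    · exact ⟨⟨s, Equiv.Perm.mem_alternatingGroup.2 h⟩, Subtype.ext hs.symm⟩
    · refine ⟨⟨s * Equiv.swap 0 1, Equiv.Perm.mem_alternatingGroup.2 ?_⟩, Subtype.ext ?_⟩
      · rw [map_mul, h, Equiv.Perm.sign_swap (by decide)]; decide
      · show _ = s * Equiv.swap 0 1 * x * (s * Equiv.swap 0 1)⁻¹
        rw [← hs, show s * Equiv.swap 0 1 * x * (s * Equiv.swap 0 1)⁻¹
          = s * (Equiv.swap 0 1 * x * (Equiv.swap 0 1)⁻¹) * s⁻¹ by group,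
          show Equiv.swap 0 1 * x * (Equiv.swap (0 : Fin 6) 1)⁻¹ = x by decide]
  have hco : ∀ h g : alternatingGroup (Fin 6), orderOf g = 2 → orderOf (h * g * h⁻¹) = 2 := by
    intro h g hg
    rw [← hg]
    exact (MulAut.conj h).orderOf_eq g
  -- every pair, after moving the first one to `X`
  have hpair : ∀ a b : alternatingGroup (Fin 6), orderOf a = 2 → orderOf b = 2 →
      a * b = b * a ∨ (a * b) ^ 3 = 1 ∨ (a * b) ^ 5 = 1 ∨ ((a * b) ^ 4 = 1 ∧ (a * b) ^ 2 ≠ 1) := by
    intro a b ha hb
    obtain ⟨h, rfl⟩ := hconj a ha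
    obtain ⟨c, rfl⟩ : ∃ c, b = h * c * h⁻¹ := ⟨h⁻¹ * b * h, by group⟩
    have hc : orderOf c = 2 := by rwa [show h * c * h⁻¹ = (MulAut.conj h) c from rfl, MulEquiv.orderOf_eq] at hb
    have hc2 : (c : Equiv.Perm (Fin 6)) * c = 1 := by
      have := pow_orderOf_eq_one c
      rw [hc, pow_two] at this
      exact congrArg Subtype.val this
    have hc1 : (c : Equiv.Perm (Fin 6)) ≠ 1 := fun h => by
      rw [show c = 1 from Subtype.ext h, orderOf_one] at hc; omega
    have e : h * X * h⁻¹ * (h * c * h⁻¹) = h * (X * c) * h⁻¹ := by group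
    have e' : h * c * h⁻¹ * (h * X * h⁻¹) = h * (c * X) * h⁻¹ := by group
    simp only [e, e', conj_pow, mul_inv_eq_one, mul_eq_left, mul_left_inj, mul_right_inj, ne_eq]
    rcases key c hc2 hc1 (Equiv.Perm.mem_alternatingGroup.1 c.2) with h | h | h | ⟨h, h'⟩
    · exact Or.inl (Subtype.ext h)
    · exact Or.inr (Or.inl (Subtype.ext (by simpa using h)))
    · exact Or.inr (Or.inr (Or.inl (Subtype.ext (by simpa using h))))
    · exact Or.inr (Or.inr (Or.inr ⟨Subtype.ext (by simpa using h), fun h'' => h' (by simpa using congrArg Subtype.val h'')⟩))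
  have hcomm2 : ∀ a b : alternatingGroup (Fin 6), orderOf a = 2 → orderOf b = 2 → a * b = b * a → (a * b) ^ 2 = 1 := by
    intro a b ha hb h
    rw [(show Commute a b from h).mul_pow]
    have h1 := pow_orderOf_eq_one a
    have h2 := pow_orderOf_eq_one b
    rw [ha] at h1
    rw [hb] at h2
    rw [h1, h2, one_mul]
  refine ⟨⟨⟨fun d hd => hd, ?_, fun d hd g => hco g d hd, ?_⟩, ⟨X, hX2⟩, ?_⟩, ?_⟩
  · rw [eq_top_iff]
    have hle : alternatingGroup (Fin 6) ≤ (Subgroup.closure {g : alternatingGroup (Fin 6) | orderOf g = 2}).map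
        (alternatingGroup (Fin 6)).subtype := by
      conv_lhs => rw [← Equiv.Perm.closure_three_cycles_eq_alternating]
      rw [Subgroup.closure_le]
      intro s hs
      obtain ⟨t, ht⟩ := isConj_iff.1 ((Equiv.Perm.isConj_iff_cycleType_eq (σ := Equiv.swap (0 : Fin 6) 1 * Equiv.swap 1 2)).2
        (show _ = s.cycleType by
          rw [hs.cycleType]
          rw [show Equiv.swap (0 : Fin 6) 1 * Equiv.swap 1 2 = Equiv.swap 1 0 * Equiv.swap 1 2 by decide]
          exact (Equiv.Perm.isThreeCycle_swap_mul_swap_same (a := (1 : Fin 6)) (b := 0) (c := 2) (by decide) (by decide) (by decide)).cycleType))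
      let u : Equiv.Perm (Fin 6) := Equiv.swap 0 1 * Equiv.swap 3 4
      let v : Equiv.Perm (Fin 6) := Equiv.swap 1 2 * Equiv.swap 3 4
      have huA : t * u * t⁻¹ ∈ alternatingGroup (Fin 6) := by
        rw [Equiv.Perm.mem_alternatingGroup]
        simp [u, Equiv.Perm.sign_swap]
      have hvA : t * v * t⁻¹ ∈ alternatingGroup (Fin 6) := by
        rw [Equiv.Perm.mem_alternatingGroup]
        simp [v, Equiv.Perm.sign_swap]
      refine ⟨⟨t * u * t⁻¹, huA⟩ * ⟨t * v * t⁻¹, hvA⟩, Subgroup.mul_mem _ (Subgroup.subset_closure ?_)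
        (Subgroup.subset_closure ?_), ?_⟩
      · show orderOf _ = 2
        rw [← orderOf_submonoid]
        show orderOf ((MulAut.conj t) u) = 2
        rw [MulEquiv.orderOf_eq]
        exact orderOf_eq_prime (p := 2) (by decide) (by decide)
      · show orderOf _ = 2
        rw [← orderOf_submonoid]
        show orderOf ((MulAut.conj t) v) = 2
        rw [MulEquiv.orderOf_eq]
        exact orderOf_eq_prime (p := 2) (by decide) (by decide)
      · show t * u * t⁻¹ * (t * v * t⁻¹) = s
        rw [← ht, show t * u * t⁻¹ * (t * v * t⁻¹) = t * (u * v) * t⁻¹ by group,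
          show u * v = Equiv.swap (0 : Fin 6) 1 * Equiv.swap 1 2 by decide]
    intro g _
    obtain ⟨g', hg', he⟩ := hle g.2
    rwa [← Subtype.ext he]
  · intro a ha b hb
    rcases hpair a b ha hb with h | h | h | ⟨h, h'⟩
    · exact Or.inl h
    · exact Or.inr (Or.inl ((by decide : Odd 3).of_dvd_nat (orderOf_dvd_of_pow_eq_one h)))
    · exact Or.inr (Or.inl ((by decide : Odd 5).of_dvd_nat (orderOf_dvd_of_pow_eq_one h)))
    · refine Or.inr (Or.inr ⟨?_, ?_⟩)
      · exact orderOf_eq_prime_pow (p := 2) (n := 1) (by simpa using h') (by simpa using h)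
      · exact orderOf_eq_prime (p := 2) (by rw [← pow_mul]; exact h) h'
  · intro a ha b hb
    obtain ⟨h, rfl⟩ := hconj a ha
    obtain ⟨h', rfl⟩ := hconj b hb
    exact ⟨h' * h⁻¹, by group⟩
  · intro a ha b hb
    rcases hpair a b ha hb with h | h | h | ⟨h, -⟩
    · exact (Nat.le_of_dvd (by norm_num) (orderOf_dvd_of_pow_eq_one (hcomm2 a b ha hb h))).trans (by norm_num)
    · exact (Nat.le_of_dvd (by norm_num) (orderOf_dvd_of_pow_eq_one h)).trans (by norm_num)
    · exact Nat.le_of_dvd (by norm_num) (orderOf_dvd_of_pow_eq_one h)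
    · exact (Nat.le_of_dvd (by norm_num) (orderOf_dvd_of_pow_eq_one h)).trans (by norm_num)

end Cfsg.Agent.S5057
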