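import Cfsg.Statements.S5058
import Cfsg.Agent.Lib.RootSubgroups.SLTransvTwo

set_option autoImplicit false
open Matrix
open Cfsg

namespace Cfsg.Agent.S5058

open Matrix CfsgLib.Known.PSLMinIndex CfsgLib.RootSubgroups.SLTransv CfsgLib.RootSubgroups.SLTransvTwo in
theorem transvection_set_eq (F : Type*) [Field F] (n : ℕ) :
    {t : Matrix.SpecialLinearGroup (Fin (n + 3)) F | ∃ c : F, c ≠ 0 ∧
        ∃ g : Matrix.SpecialLinearGroup (Fin (n + 3)) F, ((g⁻¹ * t * g : Matrix.SpecialLinearGroup (Fin (n + 3)) F) :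
          Matrix (Fin (n + 3)) (Fin (n + 3)) F) = Matrix.transvection 0 1 c} = {t | IsTv t} := by
  have h01 : (0 : Fin (n + 3)) ≠ 1 := by simp [Fin.ext_iff]
  ext t
  constructor
  · rintro ⟨c, hc, g, hg⟩
    have e : g⁻¹ * t * g = Matrix.SpecialLinearGroup.transvection h01 c := Subtype.ext hg
    have := isTv_conj (isTv_transvection h01 hc) g
    rwa [← e, show g * (g⁻¹ * t * g) * g⁻¹ = t by group] at this
  · rintro ⟨v, φ, hv, hφ, h, rfl⟩
    obtain ⟨g, hg⟩ := exists_conj_std (show 3 ≤ n + 3 by omega) hv hφ h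
    refine ⟨1, one_ne_zero, g, ?_⟩
    rw [← hg, show ∀ x : Matrix.SpecialLinearGroup (Fin (n + 3)) F, g⁻¹ * (g * x * g⁻¹) * g = x from
      fun x => by group]
    rw [coe_tv (by simp [dotProduct_single])]
    rw [Matrix.transvection]
    congr 1
    ext a b
    simp only [Matrix.single_apply, vecMulVec_apply, Pi.single_apply]
    rcases eq_or_ne a 0 with ha | ha <;> rcases eq_or_ne b 1 with hb | hb <;>
      simp [ha, hb, Fin.ext_iff, Ne.symm] <;> simp_all [Fin.ext_iff, eq_comm]

/-- Let F be a finite field of characteristic 2 and n a natural number. Then the transvections of SL_{n+3}(F) (so in every dimension at least 3) (the conjugates of the elementary matrices 1 + c E₁₂, c ≠ 0) form a class of root involutions of SL_{n+3}(F); when F has two elements they form a class of {3,4}⁺-transpositions (every product of odd order has order 1 or 3). -/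
theorem result (F : Type*) [Field F] [Fintype F] [CharP F 2] (n : ℕ) :
    Cfsg.IsRootInvolutionClass {t : Matrix.SpecialLinearGroup (Fin (n + 3)) F | ∃ c : F, c ≠ 0 ∧
        ∃ g : Matrix.SpecialLinearGroup (Fin (n + 3)) F, ((g⁻¹ * t * g : Matrix.SpecialLinearGroup (Fin (n + 3)) F) :
          Matrix (Fin (n + 3)) (Fin (n + 3)) F) = Matrix.transvection 0 1 c} ∧
    (Fintype.card F = 2 → Cfsg.IsThreeFourPlusTranspositionSet {t : Matrix.SpecialLinearGroup (Fin (n + 3)) F | ∃ c : F, c ≠ 0 ∧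
        ∃ g : Matrix.SpecialLinearGroup (Fin (n + 3)) F, ((g⁻¹ * t * g : Matrix.SpecialLinearGroup (Fin (n + 3)) F) :
          Matrix (Fin (n + 3)) (Fin (n + 3)) F) = Matrix.transvection 0 1 c}) := by
  classical
  rw [transvection_set_eq]
  have hn : 3 ≤ n + 3 := by omega
  have hroot : Cfsg.IsRootInvolutionSet {t : Matrix.SpecialLinearGroup (Fin (n + 3)) F |
      CfsgLib.RootSubgroups.SLTransv.IsTv t} :=
    ⟨fun t ht => CfsgLib.RootSubgroups.SLTransvTwo.orderOf_isTv ht,
      CfsgLib.Classical.SL_le_of_transvections _ fun i j hij c => by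
        rcases eq_or_ne c 0 with rfl | hc
        · have h1 : Matrix.SpecialLinearGroup.transvection hij (0 : F) = 1 :=
            Subtype.ext (Matrix.transvection_zero i j)
          rw [h1]
          exact one_mem _
        · exact Subgroup.subset_closure (CfsgLib.RootSubgroups.SLTransv.isTv_transvection hij hc),
      fun t ht g => CfsgLib.RootSubgroups.SLTransv.isTv_conj ht g,
      fun a ha b hb => CfsgLib.RootSubgroups.SLTransvTwo.pair_cases ha hb⟩
  refine ⟨⟨hroot, ⟨_, CfsgLib.RootSubgroups.SLTransv.isTv_transvection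
      (show (0 : Fin (n + 3)) ≠ 1 by simp [Fin.ext_iff]) (one_ne_zero (α := F))⟩, ?_⟩,
    fun h2 => ⟨hroot, fun a ha b hb ho =>
      CfsgLib.RootSubgroups.SLTransvTwo.orderOf_dvd_three h2 ha hb ho⟩⟩
  rintro _ ⟨v, φ, hv, hφ, h, rfl⟩ _ ⟨w, ψ, hw, hψ, h', rfl⟩
  obtain ⟨g, hg⟩ := CfsgLib.RootSubgroups.SLTransv.exists_conj_std hn hv hφ h
  obtain ⟨g', hg'⟩ := CfsgLib.RootSubgroups.SLTransv.exists_conj_std hn hw hψ h'
  refine ⟨g' * g⁻¹, ?_⟩
  rw [← hg, ← hg']
  group

end Cfsg.Agent.S5058
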