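import Cfsg.Statements.S5059
-- import your own Cfsg.Agent.* helpers here

set_option autoImplicit false
universe u
open Cfsg

namespace Cfsg.Agent.S5059

/-- Let k be a field of characteristic not 2 with k not of order 3, M a finite-dimensional k-vector space and G ≤ GL(M) such that (G, M) is a quadratic pair (M irreducible for G, and G generated by its quadratically acting elements σ whose scalar family 1 + c(σ − 1), c ∈ k, lies in G). Write 𝒬_d for the quadratic elements of G of minimal commutator rank, E(σ) for the subgroup generated by the members of 𝒬_d with the same fixed space and commutator space as σ, and Σ for the set of these subgroups. Then for σ ∈ 𝒬_d the subgroup E(σ) consists exactly of those members together with the identity, it is abelian, and if k has prime characteristic p every element of E(σ) has order dividing p. -/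
theorem result {k : Type u} [Field k] (hk2 : ringChar k ≠ 2) (hk3 : Nat.card k ≠ 3)
    {M : Type u} [AddCommGroup M] [Module k M] [FiniteDimensional k M]
    {G : Subgroup (LinearMap.GeneralLinearGroup k M)} (hG : Cfsg.IsQuadraticPair G)
    {σ : LinearMap.GeneralLinearGroup k M} (hσ : σ ∈ Cfsg.minimalQuadraticElements G) :
    (Cfsg.sameActionSubgroup G σ : Set (LinearMap.GeneralLinearGroup k M)) = Cfsg.sameActionClass G σ ∪ {1} ∧
    IsMulCommutative ↥(Cfsg.sameActionSubgroup G σ) ∧
    (∀ p : ℕ, p.Prime → ringChar k = p → ∀ x ∈ Cfsg.sameActionSubgroup G σ, x ^ p = 1) := by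
  classical
  have key : ∀ τ ∈ Cfsg.sameActionClass G σ, ∀ v, ((τ : M →ₗ[k] M) - 1) v ∈ LinearMap.ker ((σ : M →ₗ[k] M) - 1) := by
    intro τ hτ v
    have h1 : ((τ : M →ₗ[k] M) - 1) v ∈ LinearMap.range ((σ : M →ₗ[k] M) - 1) := hτ.2.2 ▸ LinearMap.mem_range_self _ v
    obtain ⟨w, hw⟩ := h1
    rw [← hw, LinearMap.mem_ker, ← Module.End.mul_apply, hσ.1.2.1.1, LinearMap.zero_apply]
  have mulzero : ∀ τ ∈ Cfsg.sameActionClass G σ, ∀ υ ∈ Cfsg.sameActionClass G σ,
      ((τ : M →ₗ[k] M) - 1) * ((υ : M →ₗ[k] M) - 1) = 0 := by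
    intro τ hτ υ hυ
    refine LinearMap.ext fun v => ?_
    have := key υ hυ v
    rw [← hτ.2.1, LinearMap.mem_ker] at this
    rw [Module.End.mul_apply, this, LinearMap.zero_apply]
  have hprod : ∀ τ ∈ Cfsg.sameActionClass G σ, ∀ υ ∈ Cfsg.sameActionClass G σ,
      ((τ * υ : LinearMap.GeneralLinearGroup k M) : M →ₗ[k] M) =
        1 + (((τ : M →ₗ[k] M) - 1) + ((υ : M →ₗ[k] M) - 1)) := by
    intro τ hτ υ hυ
    have h := mulzero τ hτ υ hυ
    rw [Units.val_mul]
    calc (τ : M →ₗ[k] M) * (υ : M →ₗ[k] M)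
        = 1 + (((τ : M →ₗ[k] M) - 1) + ((υ : M →ₗ[k] M) - 1)) + ((τ : M →ₗ[k] M) - 1) * ((υ : M →ₗ[k] M) - 1) := by
          noncomm_ring
      _ = _ := by rw [h, add_zero]
  have hcomm : ∀ τ ∈ Cfsg.sameActionClass G σ, ∀ υ ∈ Cfsg.sameActionClass G σ, τ * υ = υ * τ := by
    intro τ hτ υ hυ
    refine Units.ext ?_
    rw [hprod τ hτ υ hυ, hprod υ hυ τ hτ, add_comm ((τ : M →ₗ[k] M) - 1)]
  -- a non-trivial element of `G` whose scalar family is in `G` and which acts inside the class data is in the class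
  have inclass : ∀ x : LinearMap.GeneralLinearGroup k M, x ∈ G → x ≠ 1 →
      Cfsg.scalarFamily x ⊆ (G : Set (LinearMap.GeneralLinearGroup k M)) →
      LinearMap.range ((x : M →ₗ[k] M) - 1) ≤ LinearMap.range ((σ : M →ₗ[k] M) - 1) →
      LinearMap.ker ((σ : M →ₗ[k] M) - 1) ≤ LinearMap.ker ((x : M →ₗ[k] M) - 1) →
      x ∈ Cfsg.sameActionClass G σ := by
    intro x hx hx1 hfam hrg hkr
    have hq : Cfsg.IsQuadraticOn x := by
      refine ⟨LinearMap.ext fun v => ?_, fun h => hx1 (Units.ext (sub_eq_zero.1 h))⟩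
      obtain ⟨w, hw⟩ := hrg (LinearMap.mem_range_self _ v)
      have : ((x : M →ₗ[k] M) - 1) v ∈ LinearMap.ker ((x : M →ₗ[k] M) - 1) := hkr (by
        rw [← hw, LinearMap.mem_ker, ← Module.End.mul_apply, hσ.1.2.1.1, LinearMap.zero_apply])
      rw [Module.End.mul_apply, LinearMap.mem_ker.1 this, LinearMap.zero_apply]
    have hQ : x ∈ Cfsg.quadraticElements G := ⟨hx, hq, hfam⟩
    have hrg' : LinearMap.range ((x : M →ₗ[k] M) - 1) = LinearMap.range ((σ : M →ₗ[k] M) - 1) :=
      Submodule.eq_of_le_of_finrank_le hrg (hσ.2 x hQ)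
    refine ⟨⟨hQ, fun τ hτ => ?_⟩, ?_, hrg'⟩
    · have h := hσ.2 τ hτ
      unfold Cfsg.commutatorRank at h ⊢
      rwa [hrg']
    · refine (Submodule.eq_of_le_of_finrank_le hkr ?_).symm
      have h1 := LinearMap.finrank_range_add_finrank_ker ((x : M →ₗ[k] M) - 1)
      have h2 := LinearMap.finrank_range_add_finrank_ker ((σ : M →ₗ[k] M) - 1)
      rw [hrg'] at h1
      omega
  have hinv : ∀ (X : M →ₗ[k] M) (c : k), X * X = 0 → (1 + c • X) * (1 - c • X) = 1 := by
    intro X c h
    rw [mul_sub, mul_one, add_mul, one_mul, smul_mul_assoc, mul_smul_comm, h, smul_zero, smul_zero, add_zero,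
      add_sub_cancel_right]
  have hinv' : ∀ (X : M →ₗ[k] M) (c : k), X * X = 0 → (1 - c • X) * (1 + c • X) = 1 := by
    intro X c h
    rw [mul_add, mul_one, sub_mul, one_mul, smul_mul_assoc, mul_smul_comm, h, smul_zero, smul_zero, sub_zero,
      sub_add_cancel]
  let H : Subgroup (LinearMap.GeneralLinearGroup k M) :=
    { carrier := Cfsg.sameActionClass G σ ∪ {1}
      one_mem' := Or.inr rfl
      mul_mem' := by
        rintro τ υ (hτ | hτ) hυ'
        · rcases hυ' with hυ | hυ
          · by_cases h1 : τ * υ = 1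
            · exact Or.inr h1
            refine Or.inl (inclass _ (G.mul_mem hτ.1.1.1 hυ.1.1.1) h1 ?_ ?_ ?_)
            · rintro z ⟨c, hc⟩
              obtain ⟨i, hi⟩ : ∃ i : LinearMap.GeneralLinearGroup k M,
                  (i : M →ₗ[k] M) = 1 + c • ((τ : M →ₗ[k] M) - 1) := by
                refine ⟨⟨1 + c • ((τ : M →ₗ[k] M) - 1), 1 - c • ((τ : M →ₗ[k] M) - 1), ?_, ?_⟩, rfl⟩
                · exact hinv _ c hτ.1.1.2.1.1
                · exact hinv' _ c hτ.1.1.2.1.1
              obtain ⟨j, hj⟩ : ∃ j : LinearMap.GeneralLinearGroup k M,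
                  (j : M →ₗ[k] M) = 1 + c • ((υ : M →ₗ[k] M) - 1) := by
                refine ⟨⟨1 + c • ((υ : M →ₗ[k] M) - 1), 1 - c • ((υ : M →ₗ[k] M) - 1), ?_, ?_⟩, rfl⟩
                · exact hinv _ c hυ.1.1.2.1.1
                · exact hinv' _ c hυ.1.1.2.1.1
              have e : z = i * j := by
                refine Units.ext ?_
                rw [Units.val_mul, hi, hj, hc, hprod τ hτ υ hυ, add_sub_cancel_left, smul_add, add_mul, one_mul,
                  mul_add, mul_one, smul_mul_assoc, mul_smul_comm, mulzero τ hτ υ hυ, smul_zero, smul_zero, add_zero]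
                abel
              rw [e]
              exact G.mul_mem (hτ.1.1.2.2 ⟨c, hi⟩) (hυ.1.1.2.2 ⟨c, hj⟩)
            · rw [hprod τ hτ υ hυ, add_sub_cancel_left]
              rintro _ ⟨v, rfl⟩
              rw [LinearMap.add_apply]
              exact Submodule.add_mem _ (hτ.2.2 ▸ LinearMap.mem_range_self _ v) (hυ.2.2 ▸ LinearMap.mem_range_self _ v)
            · intro v hv
              rw [hprod τ hτ υ hυ, add_sub_cancel_left, LinearMap.mem_ker, LinearMap.add_apply,
                LinearMap.mem_ker.1 (hτ.2.1.symm ▸ hv : v ∈ LinearMap.ker ((τ : M →ₗ[k] M) - 1)),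
                LinearMap.mem_ker.1 (hυ.2.1.symm ▸ hv : v ∈ LinearMap.ker ((υ : M →ₗ[k] M) - 1)), add_zero]
          · rw [Set.mem_singleton_iff.1 hυ, mul_one]
            exact Or.inl hτ
        · rw [Set.mem_singleton_iff.1 hτ, one_mul]
          exact hυ'
      inv_mem' := by
        rintro τ (hτ | hτ)
        · have hv : ((τ⁻¹ : LinearMap.GeneralLinearGroup k M) : M →ₗ[k] M) = 1 - ((τ : M →ₗ[k] M) - 1) := by
            refine Units.inv_eq_of_mul_eq_one_right ?_
            have h := mulzero τ hτ τ hτ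
            calc (τ : M →ₗ[k] M) * (1 - ((τ : M →ₗ[k] M) - 1))
                = 1 - ((τ : M →ₗ[k] M) - 1) * ((τ : M →ₗ[k] M) - 1) := by noncomm_ring
              _ = 1 := by rw [h, sub_zero]
          refine Or.inl (inclass _ (G.inv_mem hτ.1.1.1) (fun h => hτ.1.1.2.1.2 ?_) ?_ ?_ ?_)
          · rw [inv_eq_one.1 h, Units.val_one, sub_self]
          · rintro z ⟨c, hc⟩
            refine hτ.1.1.2.2 ⟨-c, ?_⟩
            rw [hc, hv, sub_sub_cancel_left, neg_smul, smul_neg]
          · rw [hv, sub_sub_cancel_left, LinearMap.range_neg]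
            exact hτ.2.2.le
          · intro v hv'
            rw [hv, sub_sub_cancel_left, LinearMap.mem_ker, LinearMap.neg_apply,
              LinearMap.mem_ker.1 (hτ.2.1.symm ▸ hv' : v ∈ LinearMap.ker ((τ : M →ₗ[k] M) - 1)), neg_zero]
        · rw [Set.mem_singleton_iff.1 hτ, inv_one]
          exact Or.inr rfl }
  have heq : (Cfsg.sameActionSubgroup G σ : Set (LinearMap.GeneralLinearGroup k M)) = Cfsg.sameActionClass G σ ∪ {1} := by
    refine Set.Subset.antisymm ?_ (Set.union_subset Subgroup.subset_closure ?_)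
    · exact (Subgroup.closure_le H).2 (fun x hx => Or.inl hx)
    · intro x hx
      rw [Set.mem_singleton_iff.1 hx]
      exact Subgroup.one_mem _
  refine ⟨heq, ⟨⟨?_⟩⟩, fun p hp hpk x hx => ?_⟩
  · rintro ⟨x, hx⟩ ⟨y, hy⟩
    refine Subtype.ext ?_
    show x * y = y * x
    have hx' := heq.le hx
    have hy' := heq.le hy
    rcases hx' with hx' | hx'
    · rcases hy' with hy' | hy'
      · exact hcomm x hx' y hy'
      · rw [Set.mem_singleton_iff.1 hy', mul_one, one_mul]
    · rw [Set.mem_singleton_iff.1 hx', one_mul, mul_one]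
  · haveI : CharP k p := hpk ▸ ringChar.charP k
    rcases heq.le hx with hx' | hx'
    · refine Units.ext ?_
      have h : ∀ n : ℕ, ((x ^ n : LinearMap.GeneralLinearGroup k M) : M →ₗ[k] M) = 1 + n • ((x : M →ₗ[k] M) - 1) := by
        intro n
        induction n with
        | zero => simp
        | succ n ih =>
          rw [pow_succ, Units.val_mul, ih]
          conv_lhs => arg 2; rw [show (x : M →ₗ[k] M) = 1 + ((x : M →ₗ[k] M) - 1) from (add_sub_cancel _ _).symm]
          rw [mul_add, mul_one, add_mul, one_mul, smul_mul_assoc, mulzero x hx' x hx', smul_zero, add_zero, succ_nsmul,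
            add_assoc]
      rw [h p, ← Nat.cast_smul_eq_nsmul k, CharP.cast_eq_zero, zero_smul, add_zero, Units.val_one]
    · rw [Set.mem_singleton_iff.1 hx', one_pow]

end Cfsg.Agent.S5059
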