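import Cfsg.Statements.S5060
import Cfsg.Agent.Lib.QuadPair.SL2Gen

set_option autoImplicit false
open Cfsg

namespace Cfsg.Agent.S5060

open CfsgLib.SL2Ring

/-- Let k ⊆ K be fields with the characteristic of k not 2 and k not of order 3, and let α ∈ K be a non-zero element algebraic over k. Then the subgroup of SL₂(K) generated by the upper unitriangular matrices with entry c and the lower unitriangular matrices with entry cα, c ranging over k, is exactly the group of matrices of SL₂(K) with all entries in k(α). -/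
theorem result {k K : Type*} [Field k] [Field K] [Algebra k K] (hk2 : ringChar k ≠ 2) (hk3 : Nat.card k ≠ 3)
    (α : K) (hα : IsAlgebraic k α) (hα0 : α ≠ 0) :
    (Subgroup.closure ({g : Matrix.SpecialLinearGroup (Fin 2) K | ∃ c : k, (g : Matrix (Fin 2) (Fin 2) K) = !![1, algebraMap k K c; 0, 1]} ∪
        {g : Matrix.SpecialLinearGroup (Fin 2) K | ∃ c : k, (g : Matrix (Fin 2) (Fin 2) K) = !![1, 0; algebraMap k K c * α, 1]}) :
      Set (Matrix.SpecialLinearGroup (Fin 2) K)) =
    {g : Matrix.SpecialLinearGroup (Fin 2) K | ∀ i j : Fin 2, (g : Matrix (Fin 2) (Fin 2) K) i j ∈ IntermediateField.adjoin k ({α} : Set K)} := by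
  set E := IntermediateField.adjoin k ({α} : Set K) with hE
  have hint : IsIntegral k α := hα.isIntegral
  haveI : FiniteDimensional k E := IntermediateField.adjoin.finiteDimensional hint
  set a : E := IntermediateField.AdjoinSimple.gen k α with ha
  have hgen : Algebra.adjoin k ({a} : Set E) = ⊤ :=
    PowerBasis.adjoin_gen_eq_top (IntermediateField.adjoin.powerBasis hint)
  have htop : pairGp k a = ⊤ := pairGp_eq_top (two_ne_zero_of_ringChar hk2) hk3
    (fun e => hα0 (by simpa [ha] using congrArg Subtype.val e)) hgen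
  set φ := Matrix.SpecialLinearGroup.map (n := Fin 2) ((E.val : E →ₐ[k] K) : E →+* K) with hφ
  have hmap : (pairGp k a).map φ = pairGp k α := map_pairGp E.val a
  have hgens : Subgroup.closure
      ({g : Matrix.SpecialLinearGroup (Fin 2) K | ∃ c : k, (g : Matrix (Fin 2) (Fin 2) K) = !![1, algebraMap k K c; 0, 1]} ∪
        {g : Matrix.SpecialLinearGroup (Fin 2) K | ∃ c : k, (g : Matrix (Fin 2) (Fin 2) K) = !![1, 0; algebraMap k K c * α, 1]}) =
      pairGp k α := by
    unfold pairGp
    congr 1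
    ext g
    simp only [Set.mem_union, Set.mem_ofPred_eq]
    exact or_congr ⟨fun ⟨c, h⟩ => ⟨c, Subtype.ext h⟩, fun ⟨c, h⟩ => ⟨c, by rw [h]; rfl⟩⟩
      ⟨fun ⟨c, h⟩ => ⟨c, Subtype.ext h⟩, fun ⟨c, h⟩ => ⟨c, by rw [h]; rfl⟩⟩
  rw [hgens, ← hmap, htop, ← MonoidHom.range_eq_map]
  ext g
  simp only [SetLike.mem_coe, MonoidHom.mem_range, Set.mem_ofPred_eq]
  constructor
  · rintro ⟨h, rfl⟩ i j
    exact (h.1 i j).2
  · intro hg
    let A : Matrix (Fin 2) (Fin 2) E := Matrix.of fun i j => ⟨g.1 i j, hg i j⟩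
    have hA : A.det = 1 := by
      apply Subtype.ext
      show ((A.det : E) : K) = 1
      rw [← g.2, Matrix.det_fin_two, Matrix.det_fin_two]
      simp [A]
    exact ⟨⟨A, hA⟩, Subtype.ext (Matrix.ext fun i j => rfl)⟩

end Cfsg.Agent.S5060
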