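import Cfsg.Statements.S5061
-- import your own Cfsg.Agent.* helpers here

set_option autoImplicit false
open Cfsg

namespace Cfsg.Agent.S5061

variable {k : Type*} [Field k] {M : Type*} [AddCommGroup M] [Module k M]

local notation "GLM" => LinearMap.GeneralLinearGroup k M

/-- The span of the endomorphisms `g - 1`, `g ∈ H`. -/
def aug (H : Subgroup GLM) : Submodule k (M →ₗ[k] M) :=
  Submodule.span k ((fun g : GLM => (g : M →ₗ[k] M) - 1) '' (H : Set GLM))

theorem mem_aug {H : Subgroup GLM} {g : GLM} (hg : g ∈ H) : (g : M →ₗ[k] M) - 1 ∈ aug H :=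
  Submodule.subset_span ⟨g, hg, rfl⟩

theorem sub_one_mul (g h : GLM) : ((g : M →ₗ[k] M) - 1) * ((h : M →ₗ[k] M) - 1) =
    (((g * h : GLM) : M →ₗ[k] M) - 1) - ((g : M →ₗ[k] M) - 1) - ((h : M →ₗ[k] M) - 1) := by
  rw [Units.val_mul, mul_sub, sub_mul, sub_mul, mul_one, one_mul, one_mul]
  abel

theorem aug_mul_self (H : Subgroup GLM) : aug H * aug H ≤ aug H := by
  unfold aug
  rw [Submodule.span_mul_span, Submodule.span_le]
  rintro _ ⟨_, ⟨g, hg, rfl⟩, _, ⟨h, hh, rfl⟩, rfl⟩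
  simp only [SetLike.mem_coe]
  rw [sub_one_mul]
  exact sub_mem (sub_mem (mem_aug (mul_mem hg hh)) (mem_aug hg)) (mem_aug hh)

theorem aug_mono {H H' : Subgroup GLM} (h : H ≤ H') : aug H ≤ aug H' :=
  Submodule.span_mono (Set.image_mono h)

theorem isUnipotentOn_def (H : Subgroup GLM) : Cfsg.IsUnipotentOn H ↔ ∃ n : ℕ,
    ∀ l : List GLM, (∀ g ∈ l, g ∈ H) → l.length = n →
      (l.map (fun g : GLM => (g : M →ₗ[k] M) - 1)).prod = 0 := by
  unfold Cfsg.IsUnipotentOn
  refine exists_congr fun n => forall_congr' fun l => ?_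
  simp only [List.bind_eq_flatMap, List.pure_def, ← List.map_eq_flatMap, List.map_map,
    Function.comp_def]

theorem isUnipotentOn_iff {H : Subgroup GLM} :
    Cfsg.IsUnipotentOn H ↔ ∃ n : ℕ, aug H ^ n = ⊥ := by
  rw [isUnipotentOn_def]
  constructor
  · rintro ⟨n, hn⟩
    refine ⟨n, ?_⟩
    rw [aug, Submodule.span_pow, Submodule.span_eq_bot]
    intro x hx
    obtain ⟨f, rfl⟩ := Set.mem_pow.1 hx
    choose g hg hge using fun i => (f i).2
    have := hn (List.ofFn g) (fun y hy => by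
      obtain ⟨i, rfl⟩ := (List.mem_ofFn' g y).1 hy
      exact hg i) (List.length_ofFn)
    rw [List.map_ofFn] at this
    rw [← this]
    congr 1
    exact List.ofFn_inj.2 (funext fun i => (hge i).symm)
  · rintro ⟨n, hn⟩
    refine ⟨n, fun l hl hlen => ?_⟩
    have key : ∀ l : List GLM, (∀ g ∈ l, g ∈ H) →
        (l.map fun g : GLM => (g : M →ₗ[k] M) - 1).prod ∈ aug H ^ l.length := by
      intro l
      induction l with
      | nil => intro _; simp [Submodule.one_eq_span, Submodule.mem_span_singleton_self]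
      | cons a l ih =>
        intro hl
        rw [List.map_cons, List.prod_cons, List.length_cons, pow_succ']
        exact Submodule.mul_mem_mul (mem_aug (hl a (by simp))) (ih fun g hg => hl g (by simp [hg]))
    have := key l hl
    rw [hlen, hn, Submodule.mem_bot] at this
    exact this

/-- The invertible endomorphisms congruent to one modulo `J`. -/
def congrGroup (J : Submodule k (M →ₗ[k] M)) (hJ : J * J ≤ J) : Subgroup GLM where
  carrier := {g | (g : M →ₗ[k] M) - 1 ∈ J ∧ ((g⁻¹ : GLM) : M →ₗ[k] M) - 1 ∈ J}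
  one_mem' := by simp
  inv_mem' := fun {g} hg => ⟨hg.2, by rw [inv_inv]; exact hg.1⟩
  mul_mem' := by
    have key : ∀ g h : GLM, (g : M →ₗ[k] M) - 1 ∈ J → (h : M →ₗ[k] M) - 1 ∈ J →
        ((g * h : GLM) : M →ₗ[k] M) - 1 ∈ J := fun g h hg hh => by
      have h1 := add_mem (add_mem (hJ (Submodule.mul_mem_mul hg hh)) hg) hh
      rw [sub_one_mul] at h1
      convert h1 using 1
      abel
    rintro g h ⟨hg, hg'⟩ ⟨hh, hh'⟩
    exact ⟨key g h hg hh, by rw [mul_inv_rev]; exact key _ _ hh' hg'⟩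

theorem mem_congrGroup {J : Submodule k (M →ₗ[k] M)} {hJ : J * J ≤ J} {A : Subgroup GLM} :
    A ≤ congrGroup J hJ ↔ ∀ a ∈ A, (a : M →ₗ[k] M) - 1 ∈ J :=
  ⟨fun h a ha => (h ha).1, fun h a ha => ⟨h a ha, h _ (inv_mem ha)⟩⟩

theorem aug_congrGroup_le (J : Submodule k (M →ₗ[k] M)) (hJ : J * J ≤ J) :
    aug (congrGroup J hJ) ≤ J := by
  rw [aug, Submodule.span_le]
  rintro _ ⟨g, hg, rfl⟩
  exact hg.1

/-- The subgroup generated by a family. -/
def gen (T : Set (Subgroup GLM)) : Subgroup GLM := ⨆ A ∈ T, A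

theorem le_gen {T : Set (Subgroup GLM)} {A : Subgroup GLM} (hA : A ∈ T) : A ≤ gen T :=
  le_iSup₂_of_le A hA le_rfl

theorem gen_mono {T T' : Set (Subgroup GLM)} (h : T ⊆ T') : gen T ≤ gen T' :=
  iSup₂_le fun _ hA => le_gen (h hA)

/-- The members of `W` congruent to one modulo the algebra of `T`. -/
def sat (W T : Set (Subgroup GLM)) : Set (Subgroup GLM) :=
  {A | A ∈ W ∧ ∀ a ∈ A, (a : M →ₗ[k] M) - 1 ∈ aug (gen T)}

theorem subset_sat {W T : Set (Subgroup GLM)} (hT : T ⊆ W) : T ⊆ sat W T := fun _ hA =>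
  ⟨hT hA, fun _ ha => mem_aug (le_gen hA ha)⟩

theorem aug_sat_le (W T : Set (Subgroup GLM)) : aug (gen (sat W T)) ≤ aug (gen T) :=
  (aug_mono (iSup₂_le fun _ hA => (mem_congrGroup (hJ := aug_mul_self _)).2 hA.2)).trans
    (aug_congrGroup_le _ _)

theorem pow_le_bot {J J' : Submodule k (M →ₗ[k] M)} (h : J ≤ J') {n : ℕ} (hn : J' ^ n = ⊥) :
    J ^ n = ⊥ := by
  rw [eq_bot_iff, ← hn]
  exact pow_le_pow_left' h n

/-- A unipotent family. -/
def Good (W T : Set (Subgroup GLM)) : Prop := T ⊆ W ∧ Cfsg.IsUnipotentOn (gen T)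

theorem good_mono {W T T' : Set (Subgroup GLM)} (h : Good W T) (hT' : T' ⊆ W)
    (hle : aug (gen T') ≤ aug (gen T)) : Good W T' := by
  obtain ⟨n, hn⟩ := isUnipotentOn_iff.1 h.2
  exact ⟨hT', isUnipotentOn_iff.2 ⟨n, pow_le_bot hle hn⟩⟩

theorem good_subset {W T T' : Set (Subgroup GLM)} (h : Good W T) (hsub : T' ⊆ T) : Good W T' :=
  good_mono h (hsub.trans h.1) (aug_mono (gen_mono hsub))

/-- A maximal unipotent family. -/
def Top (W T : Set (Subgroup GLM)) : Prop := Good W T ∧ ∀ T', Good W T' → T ⊆ T' → T' ⊆ T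

theorem Top.sat_subset {W T D : Set (Subgroup GLM)} (h : Top W T) (hD : D ⊆ T) :
    sat W D ⊆ T := by
  have hsub : sat W D ⊆ sat W T := fun A hA =>
    ⟨hA.1, fun a ha => aug_mono (gen_mono hD) (hA.2 a ha)⟩
  exact hsub.trans (h.2 _ (good_mono h.1 (fun _ hA => hA.1) (aug_sat_le W T)) (subset_sat h.1.1))

/-- An element outside a saturated subfamily normalising it. -/
theorem exists_normalizing {W T D : Set (Subgroup GLM)}
    (hconj : ∀ A ∈ T, ∀ B ∈ T, ∀ a ∈ A, Cfsg.conjBy B a ∈ T) (hT : Good W T) (hD : D ⊆ T)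
    (hsat : sat W D ⊆ D) (hne : ¬ T ⊆ D) :
    ∃ A ∈ T, A ∉ D ∧ ∀ B ∈ D, ∀ a ∈ A, Cfsg.conjBy B a ∈ D := by
  by_contra hno
  push Not at hno
  obtain ⟨n, hn⟩ := isUnipotentOn_iff.1 hT.2
  set J := aug (gen T) with hJdef
  set P := aug (gen D) with hPdef
  have hP : P ≤ J := aug_mono (gen_mono hD)
  have hJJ : J * J ≤ J := aug_mul_self _
  have hPP : P * P ≤ P := aug_mul_self _
  have hstep : ∀ i : ℕ, J * J ^ i ≤ J ^ (i + 1) ∧ J ^ i * J ≤ J ^ (i + 1) :=
    fun i => ⟨(pow_succ' J i).ge, (pow_succ J i).ge⟩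
  have key : ∀ i : ℕ, ∃ A ∈ T, A ∉ D ∧ ∀ a ∈ A, (a : M →ₗ[k] M) - 1 ∈ P ⊔ J ^ (i + 1) := by
    intro i
    induction i with
    | zero =>
      obtain ⟨A, hA, hAD⟩ := Set.not_subset.1 hne
      exact ⟨A, hA, hAD, fun a ha => le_sup_right (a := P) (by rw [pow_one]; exact mem_aug (le_gen hA ha))⟩
    | succ i ih =>
      obtain ⟨A, hA, hAD, hlev⟩ := ih
      obtain ⟨B, hB, a, ha, hBa⟩ := hno A hA hAD
      refine ⟨_, hconj A hA B (hD hB) a ha, hBa, ?_⟩
      rintro _ ⟨b, hb, rfl⟩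
      set p := (a : M →ₗ[k] M) - 1 with hp
      set q := ((a⁻¹ : GLM) : M →ₗ[k] M) - 1 with hq
      set c := (b : M →ₗ[k] M) - 1 with hc
      have hcP : c ∈ P := mem_aug (le_gen hB hb)
      have h1 : p * c - c * p ∈ P ⊔ J ^ (i + 1 + 1) := by
        have hsp : ∀ {x y : M →ₗ[k] M}, x ∈ P ⊔ J ^ (i + 1) → y ∈ P →
            x * y ∈ P ⊔ J ^ (i + 1 + 1) ∧ y * x ∈ P ⊔ J ^ (i + 1 + 1) := by
          intro x y hx hy
          refine ⟨?_, ?_⟩
          · have : (P ⊔ J ^ (i + 1)) * P ≤ P ⊔ J ^ (i + 1 + 1) := by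
              rw [Submodule.sup_mul]
              exact sup_le_sup hPP (((mul_le_mul' le_rfl hP)).trans (hstep _).2)
            exact this (Submodule.mul_mem_mul hx hy)
          · have : P * (P ⊔ J ^ (i + 1)) ≤ P ⊔ J ^ (i + 1 + 1) := by
              rw [Submodule.mul_sup]
              exact sup_le_sup hPP (((mul_le_mul' hP le_rfl)).trans (hstep _).1)
            exact this (Submodule.mul_mem_mul hy hx)
        exact sub_mem (hsp (hlev a ha) hcP).1 (hsp (hlev a ha) hcP).2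
      have h2 : (p * c - c * p) * q ∈ P ⊔ J ^ (i + 1 + 1) := by
        have : (P ⊔ J ^ (i + 1 + 1)) * (P ⊔ J ^ (i + 1)) ≤ P ⊔ J ^ (i + 1 + 1) := by
          rw [Submodule.sup_mul, Submodule.mul_sup, Submodule.mul_sup]
          refine sup_le (sup_le (hPP.trans le_sup_left) ?_) (sup_le ?_ ?_)
          · exact (((mul_le_mul' hP le_rfl)).trans (hstep _).1).trans le_sup_right
          · refine (((mul_le_mul' le_rfl hP)).trans ?_).trans le_sup_right
            calc J ^ (i + 1 + 1) * J ≤ J ^ (i + 1) * (J * J) := by rw [pow_succ, mul_assoc]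
              _ ≤ J ^ (i + 1) * J := (mul_le_mul' le_rfl hJJ)
              _ = J ^ (i + 1 + 1) := (pow_succ _ _).symm
          · refine le_trans ?_ le_sup_right
            calc J ^ (i + 1 + 1) * J ^ (i + 1) ≤ J ^ (i + 1 + 1) * J := by
                  refine (mul_le_mul' le_rfl ?_)
                  clear h1 hlev
                  induction i with
                  | zero => rw [pow_one]
                  | succ i ih => rw [pow_succ]; exact ((mul_le_mul' ih le_rfl)).trans hJJ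
              _ ≤ J ^ (i + 1) * (J * J) := by rw [pow_succ, mul_assoc]
              _ ≤ J ^ (i + 1) * J := (mul_le_mul' le_rfl hJJ)
              _ = J ^ (i + 1 + 1) := (pow_succ _ _).symm
        exact this (Submodule.mul_mem_mul h1 (hlev _ (inv_mem ha)))
      have e : (((MulAut.conj a).toMonoidHom b : GLM) : M →ₗ[k] M) - 1 =
          c + ((p * c - c * p) + (p * c - c * p) * q) := by
        have hinv : (a : M →ₗ[k] M) * ((a⁻¹ : GLM) : M →ₗ[k] M) = 1 := by
          rw [← Units.val_mul, mul_inv_cancel, Units.val_one]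
        show ((a * b * a⁻¹ : GLM) : M →ₗ[k] M) - 1 = _
        have e1 : ((a * b * a⁻¹ : GLM) : M →ₗ[k] M) - 1 =
            (a : M →ₗ[k] M) * c * ((a⁻¹ : GLM) : M →ₗ[k] M) := by
          rw [hc, Units.val_mul, Units.val_mul, mul_sub, sub_mul, mul_one, hinv]
        rw [e1, show (a : M →ₗ[k] M) * c = c * (a : M →ₗ[k] M) + (p * c - c * p) by rw [hp]; noncomm_ring,
          add_mul, mul_assoc, hinv, mul_one,
          show ((a⁻¹ : GLM) : M →ₗ[k] M) = 1 + q by rw [hq]; abel, mul_add, mul_one]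
      rw [e]
      exact add_mem (le_sup_left (b := J ^ (i + 1 + 1)) hcP) (add_mem h1 h2)
  obtain ⟨A, hA, hAD, hlev⟩ := key n
  refine hAD (hsat ⟨hT.1 hA, fun a ha => ?_⟩)
  have := hlev a ha
  rwa [pow_succ, hn, Submodule.bot_mul, sup_bot_eq] at this

/-- A unipotent family extended by a unipotent subgroup normalising it. -/
theorem unipotent_extend {D : Set (Subgroup GLM)} (hD : Cfsg.IsUnipotentOn (gen D))
    {U : Subgroup GLM} (hU : Cfsg.IsUnipotentOn U) (hn : ∀ B ∈ D, ∀ u ∈ U, Cfsg.conjBy B u ∈ D) :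
    Cfsg.IsUnipotentOn (gen D ⊔ U) := by
  obtain ⟨n, hn1⟩ := isUnipotentOn_iff.1 hD
  obtain ⟨m, hm⟩ := isUnipotentOn_iff.1 hU
  set P := aug (gen D) with hPdef
  set Q := aug U with hQdef
  have hQP : Q * P ≤ P * (1 ⊔ Q) := by
    rw [hPdef, hQdef, aug, aug, Submodule.span_mul_span, Submodule.span_le]
    rintro _ ⟨_, ⟨u, hu, rfl⟩, _, ⟨d, hd, rfl⟩, rfl⟩
    have hd' : u * d * u⁻¹ ∈ gen D := by
      have : (gen D).map (MulAut.conj u).toMonoidHom ≤ gen D := by
        simp only [gen, Subgroup.map_iSup]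
        exact iSup₂_le fun B hB => le_gen (hn B hB u hu)
      exact this ⟨d, hd, rfl⟩
    have hinv : ((u⁻¹ : GLM) : M →ₗ[k] M) * (u : M →ₗ[k] M) = 1 := by
      rw [← Units.val_mul, inv_mul_cancel, Units.val_one]
    have e : ((u : M →ₗ[k] M) - 1) * ((d : M →ₗ[k] M) - 1) =
        ((((u * d * u⁻¹ : GLM) : M →ₗ[k] M) - 1) - ((d : M →ₗ[k] M) - 1)) * 1 +
          (((u * d * u⁻¹ : GLM) : M →ₗ[k] M) - 1) * ((u : M →ₗ[k] M) - 1) := by
      rw [Units.val_mul, Units.val_mul, mul_one]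
      simp only [sub_mul, mul_sub, mul_one, one_mul, mul_assoc, hinv]
      abel
    simp only [SetLike.mem_coe]
    rw [e]
    exact add_mem (Submodule.mul_mem_mul (sub_mem (mem_aug hd') (mem_aug hd))
        (le_sup_left (b := Submodule.span k ((fun g : GLM => (g : M →ₗ[k] M) - 1) '' (U : Set GLM)))
          (Submodule.one_le.1 le_rfl)))
      (Submodule.mul_mem_mul (mem_aug hd') (le_sup_right (a := (1 : Submodule k (M →ₗ[k] M))) (mem_aug hu)))
  have hQQ : (1 ⊔ Q) * (1 ⊔ Q) ≤ 1 ⊔ Q := by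
    rw [Submodule.sup_mul, Submodule.mul_sup, Submodule.mul_sup, one_mul, one_mul, mul_one]
    exact sup_le le_rfl (sup_le le_sup_right ((aug_mul_self U).trans le_sup_right))
  set R := P * (1 ⊔ Q) with hR
  have hQR : Q * R ≤ R := by
    calc Q * R = Q * P * (1 ⊔ Q) := (mul_assoc _ _ _).symm
      _ ≤ P * (1 ⊔ Q) * (1 ⊔ Q) := (mul_le_mul' hQP le_rfl)
      _ = P * ((1 ⊔ Q) * (1 ⊔ Q)) := mul_assoc _ _ _
      _ ≤ R := (mul_le_mul' le_rfl hQQ)
  have hRQ : R * Q ≤ R := by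
    calc R * Q ≤ R * (1 ⊔ Q) := (mul_le_mul' le_rfl le_sup_right)
      _ = P * ((1 ⊔ Q) * (1 ⊔ Q)) := mul_assoc _ _ _
      _ ≤ R := (mul_le_mul' le_rfl hQQ)
  have hRR : R * R ≤ P * R := by
    rw [hR, mul_assoc P (1 ⊔ Q)]
    refine (mul_le_mul' le_rfl ?_)
    rw [Submodule.sup_mul, one_mul]
    exact sup_le le_rfl hQR
  have hPR : P * R ≤ R := by
    rw [hR, ← mul_assoc]; exact (mul_le_mul' (aug_mul_self _) le_rfl)
  have hRn : ∀ j : ℕ, R ^ (j + 1) ≤ P ^ (j + 1) * (1 ⊔ Q) := by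
    intro j
    induction j with
    | zero => rw [pow_one, pow_one]
    | succ j ih =>
      calc R ^ (j + 1 + 1) = R ^ (j + 1) * R := pow_succ _ _
        _ ≤ P ^ (j + 1) * (1 ⊔ Q) * R := (mul_le_mul' ih le_rfl)
        _ = P ^ (j + 1) * ((1 ⊔ Q) * R) := mul_assoc _ _ _
        _ ≤ P ^ (j + 1) * R := (mul_le_mul' le_rfl (by
            rw [Submodule.sup_mul, one_mul]; exact sup_le le_rfl hQR))
        _ = P ^ (j + 1 + 1) * (1 ⊔ Q) := by rw [hR, ← mul_assoc, ← pow_succ]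
  have hS : (R ⊔ Q) * (R ⊔ Q) ≤ R ⊔ Q := by
    rw [Submodule.sup_mul, Submodule.mul_sup, Submodule.mul_sup]
    exact sup_le (sup_le ((hRR.trans hPR).trans le_sup_left) (hRQ.trans le_sup_left))
      (sup_le (hQR.trans le_sup_left) ((aug_mul_self U).trans le_sup_right))
  have hle : aug (gen D ⊔ U) ≤ R ⊔ Q := by
    refine (aug_mono (sup_le ?_ ?_)).trans (aug_congrGroup_le _ hS)
    · refine mem_congrGroup.2 fun a ha => le_sup_left (b := Q) ?_
      have := Submodule.mul_mem_mul (mem_aug ha)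
        (le_sup_left (b := Q) (Submodule.one_le.1 le_rfl) : (1 : M →ₗ[k] M) ∈ 1 ⊔ Q)
      rwa [mul_one] at this
    · exact mem_congrGroup.2 fun a ha => le_sup_right (a := R) (mem_aug ha)
  have hpow : ∀ j : ℕ, (R ⊔ Q) ^ (j + 1) ≤ R ⊔ Q ^ (j + 1) := by
    intro j
    induction j with
    | zero => rw [pow_one, pow_one]
    | succ j ih =>
      calc (R ⊔ Q) ^ (j + 1 + 1) = (R ⊔ Q) ^ (j + 1) * (R ⊔ Q) := pow_succ _ _
        _ ≤ (R ⊔ Q ^ (j + 1)) * (R ⊔ Q) := (mul_le_mul' ih le_rfl)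
        _ ≤ R ⊔ Q ^ (j + 1 + 1) := by
          rw [Submodule.sup_mul, Submodule.mul_sup, Submodule.mul_sup, ← pow_succ]
          refine sup_le (sup_le ((hRR.trans hPR).trans le_sup_left) (hRQ.trans le_sup_left))
            (sup_le (le_trans ?_ le_sup_left) le_sup_right)
          clear ih
          induction j with
          | zero => rw [pow_one]; exact hQR
          | succ j ih =>
            calc Q ^ (j + 1 + 1) * R = Q ^ (j + 1) * (Q * R) := by rw [pow_succ, mul_assoc]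
              _ ≤ Q ^ (j + 1) * R := (mul_le_mul' le_rfl hQR)
              _ ≤ R := ih
  refine isUnipotentOn_iff.2 ⟨(m + 1) * (n + 1), pow_le_bot hle ?_⟩
  rw [eq_bot_iff, pow_mul]
  refine (pow_le_pow_left' ((hpow m).trans ?_) _).trans ((hRn n).trans ?_)
  · rw [pow_succ Q, hm, Submodule.bot_mul, sup_bot_eq]
  · rw [pow_succ, hn1, Submodule.bot_mul, Submodule.bot_mul]

/-- Let M be a finite-dimensional vector space over a field k, G ≤ GL(M), and 𝒲 a set of subgroups of G, invariant under conjugation by G, such that any two members of 𝒲 generate a subgroup acting unipotently on M (for some n all products of n endomorphisms g − 1 from it vanish). Then the subgroup generated by all members of 𝒲 acts unipotently on M and is normal in G. -/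
theorem result {k : Type*} [Field k] {M : Type*} [AddCommGroup M] [Module k M] [FiniteDimensional k M]
    {G : Subgroup (LinearMap.GeneralLinearGroup k M)} {W : Set (Subgroup (LinearMap.GeneralLinearGroup k M))} (hWG : ∀ A ∈ W, A ≤ G)
    (hWW : ∀ A ∈ W, ∀ B ∈ W, Cfsg.IsUnipotentOn (A ⊔ B)) (hWconj : ∀ A ∈ W, ∀ g ∈ G, Cfsg.conjBy A g ∈ W) :
    Cfsg.IsUnipotentOn (⨆ A ∈ W, A) ∧ ∀ g ∈ G, Cfsg.conjBy (⨆ A ∈ W, A) g = ⨆ A ∈ W, A := by
  classical
  have hconj : ∀ T, Top W T → ∀ A ∈ T, ∀ B ∈ T, ∀ a ∈ A, Cfsg.conjBy B a ∈ T := by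
    intro T hT A hA B hB a ha
    refine hT.sat_subset subset_rfl ⟨hWconj B (hT.1.1 hB) a (hWG A (hT.1.1 hA) ha), ?_⟩
    rintro _ ⟨b, hb, rfl⟩
    exact mem_aug (mul_mem (mul_mem (le_gen hA ha) (le_gen hB hb)) (inv_mem (le_gen hA ha)))
  have hbound : ∀ D : Set (Subgroup (LinearMap.GeneralLinearGroup k M)),
      Module.finrank k (aug (gen D)) ≤ Module.finrank k (M →ₗ[k] M) := fun D =>
    Submodule.finrank_le _
  have hext : ∀ T₀, Good W T₀ → ∃ T, Top W T ∧ T₀ ⊆ T := by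
    intro T₀ hT₀
    obtain ⟨T, ⟨hT, hT0⟩, hmax⟩ : ∃ T, (Good W T ∧ T₀ ⊆ T) ∧ ∀ T', Good W T' → T₀ ⊆ T' →
        Module.finrank k (aug (gen T')) ≤ Module.finrank k (aug (gen T)) := by
      let P : ℕ → Prop := fun d => ∃ T, (Good W T ∧ T₀ ⊆ T) ∧
        Module.finrank k (aug (gen T)) = d
      obtain ⟨T, hT, hTd⟩ := Nat.findGreatest_spec (P := P) (hbound T₀) ⟨T₀, ⟨hT₀, subset_rfl⟩, rfl⟩
      exact ⟨T, hT, fun T' h1 h2 =>
        hTd ▸ Nat.le_findGreatest (P := P) (hbound T') ⟨T', ⟨h1, h2⟩, rfl⟩⟩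
    have hsat : Good W (sat W T) := good_mono hT (fun _ hA => hA.1) (aug_sat_le W T)
    refine ⟨sat W T, ⟨hsat, fun T' hT' hsub A hA => ?_⟩, hT0.trans (subset_sat hT.1)⟩
    have hle : aug (gen T) ≤ aug (gen T') := aug_mono (gen_mono ((subset_sat hT.1).trans hsub))
    have e := Submodule.eq_of_le_of_finrank_le hle
      (hmax T' hT' (hT0.trans ((subset_sat hT.1).trans hsub)))
    exact ⟨hT'.1 hA, fun a ha => e ▸ mem_aug (le_gen hA ha)⟩
  have hgood : Good W W := by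
    by_contra hno
    obtain ⟨T₀, hT₀, -⟩ := hext ∅ ⟨Set.empty_subset W, 1, fun l hl hlen => by
      obtain ⟨g, rfl⟩ := List.length_eq_one_iff.1 hlen
      have hg := hl g (by simp)
      simp [gen] at hg
      simp [hg]⟩
    obtain ⟨T₁, hT₁, hne⟩ : ∃ T₁, Top W T₁ ∧ T₁ ≠ T₀ := by
      by_contra hone
      push Not at hone
      refine hno (good_subset hT₀.1 fun A hA => ?_)
      obtain ⟨T, hT, hAT⟩ := hext {A} ⟨by simpa using hA, by simpa [gen] using hWW A hA A hA⟩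
      exact hone T hT ▸ hAT rfl
    let P : ℕ → Prop := fun d => ∃ T T', (Top W T ∧ Top W T' ∧ T ≠ T') ∧
      Module.finrank k (aug (gen (T ∩ T'))) = d
    obtain ⟨T, T', ⟨hT, hT', hTT⟩, hTd⟩ := Nat.findGreatest_spec (P := P) (hbound (T₁ ∩ T₀))
      ⟨T₁, T₀, ⟨hT₁, hT₀, hne⟩, rfl⟩
    set D := T ∩ T' with hD
    have hDT : D ⊆ T := Set.inter_subset_left
    have hDT' : D ⊆ T' := Set.inter_subset_right
    have hsatD : sat W D ⊆ D := fun A hA => ⟨hT.sat_subset hDT hA, hT'.sat_subset hDT' hA⟩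
    obtain ⟨A, hA, hAD, hAn⟩ := exists_normalizing (hconj T hT) hT.1 hDT hsatD fun hle =>
      hTT ((hle.trans hDT').antisymm (hT.2 T' hT'.1 (hle.trans hDT')))
    obtain ⟨A', hA', hA'D, hA'n⟩ := exists_normalizing (hconj T' hT') hT'.1 hDT' hsatD fun hle =>
      hTT ((hT'.2 T hT.1 (hle.trans hDT)).antisymm (hle.trans hDT))
    have hDgood : Good W D := good_subset hT.1 hDT
    have hnorm : A ⊔ A' ≤
        { carrier := {g | (∀ B ∈ D, Cfsg.conjBy B g ∈ D) ∧ ∀ B ∈ D, Cfsg.conjBy B g⁻¹ ∈ D}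
          one_mem' := by
            have : ∀ B : Subgroup (LinearMap.GeneralLinearGroup k M), Cfsg.conjBy B 1 = B :=
              fun B => by ext x; simp [Cfsg.conjBy]
            simp [this]
          inv_mem' := fun {g} hg => ⟨hg.2, by rw [inv_inv]; exact hg.1⟩
          mul_mem' := by
            have e : ∀ (B : Subgroup (LinearMap.GeneralLinearGroup k M)) g h,
                Cfsg.conjBy B (g * h) = Cfsg.conjBy (Cfsg.conjBy B h) g := fun B g h => by
              simp only [Cfsg.conjBy, Subgroup.map_map]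
              congr 1
            rintro g h ⟨hg, hg'⟩ ⟨hh, hh'⟩
            refine ⟨fun B hB => ?_, fun B hB => ?_⟩
            · rw [e]; exact hg _ (hh B hB)
            · rw [mul_inv_rev, e]; exact hh' _ (hg' B hB) : Subgroup _ } :=
      sup_le (fun a ha => ⟨fun B hB => hAn B hB a ha, fun B hB => hAn B hB _ (inv_mem ha)⟩)
        fun a ha => ⟨fun B hB => hA'n B hB a ha, fun B hB => hA'n B hB _ (inv_mem ha)⟩
    have hU := unipotent_extend hDgood.2 (hWW A (hT.1.1 hA) A' (hT'.1.1 hA'))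
      fun B hB u hu => (hnorm hu).1 B hB
    obtain ⟨T₂, hT₂, hsub⟩ := hext (D ∪ {A, A'}) ⟨Set.union_subset hDgood.1
      (Set.insert_subset (hT.1.1 hA) (Set.singleton_subset_iff.2 (hT'.1.1 hA'))), by
      rwa [gen, iSup_union, iSup_pair]⟩
    have key : ∀ S, Top W S → D ⊆ S → ∀ C ∈ S, C ∈ T₂ → C ∉ D → T₂ = S := by
      intro S hS hDS C hC hC₂ hCD
      by_contra hne'
      have h1 : Module.finrank k (aug (gen (T₂ ∩ S))) ≤ Module.finrank k (aug (gen D)) :=
        hTd ▸ Nat.le_findGreatest (P := P) (hbound _) ⟨T₂, S, ⟨hT₂, hS, hne'⟩, rfl⟩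
      have e := Submodule.eq_of_le_of_finrank_le
        (aug_mono (gen_mono (fun B hB => ⟨hsub (Or.inl hB), hDS hB⟩ : D ⊆ T₂ ∩ S))) h1
      exact hCD (hsatD ⟨hS.1.1 hC, fun c hc =>
        e ▸ mem_aug (le_gen (show C ∈ T₂ ∩ S from ⟨hC₂, hC⟩) hc)⟩)
    exact hTT ((key T hT hDT A hA (hsub (Or.inr (Or.inl rfl))) hAD).symm.trans
      (key T' hT' hDT' A' hA' (hsub (Or.inr (Or.inr rfl))) hA'D))
  refine ⟨hgood.2, fun g hg => ?_⟩
  have hle : ∀ g ∈ G, Cfsg.conjBy (⨆ A ∈ W, A) g ≤ ⨆ A ∈ W, A := by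
    intro g hg
    simp only [Cfsg.conjBy, Subgroup.map_iSup]
    exact iSup₂_le fun A hA => le_gen (hWconj A hA g hg)
  refine le_antisymm (hle g hg) fun x hx => ⟨g⁻¹ * x * g, ?_, by simp [mul_assoc]⟩
  have := hle g⁻¹ (inv_mem hg) (Subgroup.mem_map_of_mem _ hx)
  simpa using this

end Cfsg.Agent.S5061
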