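import Cfsg.Statements.S5064
import Cfsg.Agent.Lib.QuadPair.Cases

set_option autoImplicit false
universe u
open Cfsg

namespace Cfsg.Agent.S5064

open CfsgLib.QuadPair

/-- Let k be a field of characteristic not 2 with k not of order 3, M a finite-dimensional k-vector space and G ≤ GL(M) such that (G, M) is a quadratic pair (M irreducible for G, and G generated by its quadratically acting elements σ whose scalar family 1 + c(σ − 1), c ∈ k, lies in G). Write 𝒬_d for the quadratic elements of G of minimal commutator rank, E(σ) for the subgroup generated by the members of 𝒬_d with the same fixed space and commutator space as σ, and Σ for the set of these subgroups. If σ, τ ∈ 𝒬_d and the subgroup H generated by their two scalar families does not act unipotently on M, then H is isomorphic to SL₂ over a simple algebraic extension k(λ) of k. -/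
theorem result {k : Type u} [Field k] (hk2 : ringChar k ≠ 2) (hk3 : Nat.card k ≠ 3)
    {M : Type u} [AddCommGroup M] [Module k M] [FiniteDimensional k M]
    {G : Subgroup (LinearMap.GeneralLinearGroup k M)} (hG : Cfsg.IsQuadraticPair G)
    {σ τ : LinearMap.GeneralLinearGroup k M} (hσ : σ ∈ Cfsg.minimalQuadraticElements G) (hτ : τ ∈ Cfsg.minimalQuadraticElements G)
    (hH : ¬ Cfsg.IsUnipotentOn (Subgroup.closure (Cfsg.scalarFamily σ ∪ Cfsg.scalarFamily τ))) :
    ∃ (K : Type u) (_ : Field K) (_ : Algebra k K) (lam : K), IsAlgebraic k lam ∧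
      IntermediateField.adjoin k ({lam} : Set K) = ⊤ ∧
      Nonempty (↥(Subgroup.closure (Cfsg.scalarFamily σ ∪ Cfsg.scalarFamily τ)) ≃* Matrix.SpecialLinearGroup (Fin 2) K) := by
  have h2 := Ring.two_ne_zero hk2
  have hA := isMinOp_of_mem hσ
  have hB := isMinOp_of_mem hτ
  have eσ := scalarFamily_eq (σ := σ) hA.1.1
  have eτ := scalarFamily_eq (σ := τ) hB.1.1
  generalize hgA : (σ : Module.End k M) - 1 = A at hA eσ
  generalize hgB : (τ : Module.End k M) - 1 = B at hB eτ
  have hn : ¬ IsNilpotent (pairSum A B) := by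
    intro hn
    apply hH
    obtain ⟨t1, t2⟩ := triple_zero hA hB h2 hn
    refine isUnipotentOn_of_le (pairSpan_cube_eq_bot hA.1.1 hB.1.1 t1 t2) ?_
    rw [Subgroup.closure_le, eσ, eτ]
    rintro _ (⟨c, rfl⟩ | ⟨c, rfl⟩)
    · exact unip_mem_congrSub (Submodule.smul_mem _ c left_mem_pairSpan) (smul_sq hA.1.1 c)
    · exact unip_mem_congrSub (Submodule.smul_mem _ c right_mem_pairSpan) (smul_sq hB.1.1 c)
  obtain ⟨K, iK, iA, iF, lam, hlam, hgen, Φ, hinj, hup, hlo, -⟩ := exists_model hA hB h2 hk3 hn
  refine ⟨K, iK, iA, lam, Algebra.IsAlgebraic.isAlgebraic lam, ?_, ?_⟩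
  · apply IntermediateField.toSubalgebra_injective
    rw [IntermediateField.top_toSubalgebra, eq_top_iff, ← hgen]
    exact IntermediateField.algebra_adjoin_le_adjoin k _
  have hrange : Φ.range = Subgroup.closure (Cfsg.scalarFamily σ ∪ Cfsg.scalarFamily τ) := by
    rw [MonoidHom.range_eq_map, ← CfsgLib.SL2Ring.pairGp_eq_top h2 hk3 hlam hgen, CfsgLib.SL2Ring.pairGp,
      MonoidHom.map_closure, eσ, eτ]
    congr 1
    rw [Set.image_union]
    congr 1
    · ext g
      constructor
      · rintro ⟨_, ⟨c, rfl⟩, rfl⟩; exact ⟨c, (hup c).symm⟩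
      · rintro ⟨c, rfl⟩; exact ⟨_, ⟨c, rfl⟩, hup c⟩
    · ext g
      constructor
      · rintro ⟨_, ⟨c, rfl⟩, rfl⟩; exact ⟨c, (hlo c).symm⟩
      · rintro ⟨c, rfl⟩; exact ⟨_, ⟨c, rfl⟩, hlo c⟩
  exact ⟨((MonoidHom.ofInjective hinj).trans (MulEquiv.subgroupCongr hrange)).symm⟩

end Cfsg.Agent.S5064
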