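import Cfsg.Statements.S5067
import Mathlib.GroupTheory.Nilpotent
-- import your own Cfsg.Agent.* helpers here

set_option autoImplicit false
open Cfsg
open scoped commutatorElement

namespace Cfsg.Agent.S5067

/-- Let P be a non-abelian nilpotent p-group (every element of p-power order; P possibly infinite) generated by two abelian subgroups E and F. Then the normal closure of E in P, and likewise that of F, has nilpotency class strictly smaller than that of P. -/
theorem result {P : Type*} [Group P] {p : ℕ} [Fact p.Prime] (hP : IsPGroup p P) [Group.IsNilpotent P]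
    (hna : ¬ IsMulCommutative P) {E F : Subgroup P} (hE : IsMulCommutative ↥E) (hF : IsMulCommutative ↥F) (hgen : E ⊔ F = ⊤) :
    Group.nilpotencyClass ↥(Subgroup.normalClosure (E : Set P)) < Group.nilpotencyClass P ∧
    Group.nilpotencyClass ↥(Subgroup.normalClosure (F : Set P)) < Group.nilpotencyClass P := by
  have hc : 2 ≤ Group.nilpotencyClass P := by
    by_contra hlt
    refine hna ⟨⟨fun a b => ?_⟩⟩
    have h1 : (⊤ : Subgroup P).lowerCentralSeries 1 = ⊥ :=
      Subgroup.lowerCentralSeries_eq_bot_iff_nilpotencyClass_le.2 (by omega)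
    have h2 : ⁅a, b⁆ ∈ (⊥ : Subgroup P) := by
      rw [← h1, Subgroup.lowerCentralSeries_succ, Subgroup.lowerCentralSeries_zero]
      exact Subgroup.commutator_mem_commutator (Subgroup.mem_top a) (Subgroup.mem_top b)
    rwa [Subgroup.mem_bot, commutatorElement_eq_one_iff_mul_comm] at h2
  have key : ∀ E : Subgroup P, IsMulCommutative ↥E →
      Group.nilpotencyClass ↥(Subgroup.normalClosure (E : Set P)) < Group.nilpotencyClass P := by
    intro E hE
    set γ : ℕ → Subgroup P := fun n => (⊤ : Subgroup P).lowerCentralSeries n with hγ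
    have hs : ∀ n, γ (n + 1) = ⁅γ n, ⊤⁆ := fun n => Subgroup.lowerCentralSeries_succ _ n
    have hγ0 : γ 0 = ⊤ := Subgroup.lowerCentralSeries_zero _
    have hn2 : (γ 2).Normal := inferInstanceAs ((⊤ : Subgroup P).lowerCentralSeries 2).Normal
    have hn1 : (γ 1).Normal := inferInstanceAs ((⊤ : Subgroup P).lowerCentralSeries 1).Normal
    set H := Subgroup.normalClosure (E : Set P) with hH
    have hHn : H.Normal := Subgroup.normalClosure_normal
    have hHE : H ≤ γ 1 ⊔ E := by
      have hn : (γ 1 ⊔ E).Normal := by
        refine ⟨fun x hx g => ?_⟩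
        have h1 : ⁅g, x⁆ ∈ γ 1 := by
          rw [hs, hγ0]
          exact Subgroup.commutator_mem_commutator (Subgroup.mem_top _) (Subgroup.mem_top _)
        have h2 : g * x * g⁻¹ = ⁅g, x⁆ * x := by rw [commutatorElement_def]; group
        rw [h2]
        exact mul_mem (Subgroup.mem_sup_left h1) hx
      exact Subgroup.normalClosure_le_normal fun x hx => Subgroup.mem_sup_right hx
    have hab : ∀ x ∈ γ 1 ⊔ E, ∀ y ∈ γ 1 ⊔ E, ⁅x, y⁆ ∈ γ 2 := by
      intro x hx y hy
      set π := QuotientGroup.mk' (γ 2)
      rw [← QuotientGroup.eq_one_iff, ← QuotientGroup.mk'_apply (γ 2), map_commutatorElement,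
        commutatorElement_eq_one_iff_mul_comm]
      have hg1 : ∀ z ∈ γ 1, ∀ g : P, π z * π g = π g * π z := by
        intro z hz g
        rw [← commutatorElement_eq_one_iff_mul_comm, ← map_commutatorElement]
        refine (QuotientGroup.eq_one_iff _).2 ?_
        rw [hs]
        exact Subgroup.commutator_mem_commutator hz (Subgroup.mem_top g)
      obtain ⟨u, hu, e, he, rfl⟩ := Subgroup.mem_sup_of_normal_left.1 hx
      obtain ⟨v, hv, f, hf, rfl⟩ := Subgroup.mem_sup_of_normal_left.1 hy
      have hef : e * f = f * e := congrArg Subtype.val (hE.is_comm.comm ⟨e, he⟩ ⟨f, hf⟩)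
      calc π (u * e) * π (v * f) = π u * (π (v * f) * π e) := by
            rw [map_mul π u e, mul_assoc, map_mul π v f, ← mul_assoc (π e), ← hg1 v hv e, mul_assoc (π v), ← map_mul π e f, hef, map_mul π f e, mul_assoc]
        _ = π (v * f) * π (u * e) := by rw [← mul_assoc, hg1 u hu (v * f), mul_assoc, ← map_mul π u e]
    have hlow : ∀ n, H.lowerCentralSeries (n + 1) ≤ γ (n + 2) := by
      intro n
      induction n with
      | zero =>
        rw [Subgroup.lowerCentralSeries_succ, Subgroup.lowerCentralSeries_zero, Subgroup.commutator_le]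
        exact fun x hx y hy => hab x (hHE hx) y (hHE hy)
      | succ n ih =>
        rw [Subgroup.lowerCentralSeries_succ, hs (n + 2)]
        exact Subgroup.commutator_mono ih le_top
    obtain ⟨m, hm⟩ : ∃ m, Group.nilpotencyClass P = m + 2 := ⟨Group.nilpotencyClass P - 2, by omega⟩
    have hbot : γ (m + 2) = ⊥ := Subgroup.lowerCentralSeries_eq_bot_iff_nilpotencyClass_le.2 hm.le
    have h3 : (⊤ : Subgroup ↥H).lowerCentralSeries (m + 1) = ⊥ := by
      rw [← Subgroup.map_subtype_inj, Subgroup.map_bot, Subgroup.top_subtype_lowerCentralSeries, eq_bot_iff, ← hbot]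
      exact hlow m
    have h4 := Subgroup.lowerCentralSeries_eq_bot_iff_nilpotencyClass_le.1 h3
    omega
  exact ⟨key E hE, key F hF⟩

end Cfsg.Agent.S5067
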