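import Cfsg.Statements.S5071
import Cfsg.Agent.Lib.RootSubgroups.SURootGroups

set_option autoImplicit false
open Matrix
open Cfsg

namespace Cfsg.Agent.S5071

open Matrix CfsgLib.RootSubgroups CfsgLib.RootSubgroups.SURoot CfsgLib.Classical

/-- The transvection subgroups. -/
def rootSet (F : Type*) [Field F] (q N : ℕ) : Set (Subgroup ↥(Cfsg.SU N F q)) :=
  {A | ∃ p : Fin N → F, p ≠ 0 ∧ Cfsg.hermForm N F q p p = 0 ∧ A = rootGp q p}

theorem exists_iso {F : Type*} [Field F] [Fintype F] {q : ℕ} (hF : Fintype.card F = q ^ 2) (n : ℕ) :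
    ∃ p : Fin (n + 2) → F, p ≠ 0 ∧ Cfsg.hermForm (n + 2) F q p p = 0 := by
  obtain ⟨σ, hσ, -, -⟩ := exists_qPow hF
  have hq := two_le_q hF
  obtain ⟨ω, hω⟩ := exists_norm_eq hF (μ := (-1 : F)) (by rw [← hσ, map_neg, map_one])
  refine ⟨Pi.single 0 1 + ω • Pi.single 1 1, fun h => ?_, ?_⟩
  · simpa using congrFun h 0
  · rw [hermForm_add_left, herm_add_right hσ, herm_add_right hσ, hermForm_smul_left, hermForm_smul_left,
      herm_smul_right hσ, herm_smul_right hσ, hσ, hermForm_single_one (by omega), hermForm_single_one (by omega),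
      hermForm_single_one (by omega), hermForm_single_one (by omega)]
    simp [← pow_succ', hω]

/-- Let F be a finite field with q² elements, n a natural number, and h the Hermitian form Σ uᵢ vᵢ^q on F^{n+2}. For a non-zero isotropic vector p let T(p) be the group of unitary transvections with centre ⟨p⟩: the elements of SU_{n+2}(q) moving every vector by a multiple of p and fixing every vector perpendicular to p. Let Σ be the set of these T(p) and G₀ the subgroup they generate. Then, viewed inside G₀, the members of Σ form a degenerate class of abstract k-root subgroups of G₀ for some field k with q elements (any two commute or are the unipotent subgroups of a rank one group that is an image of SL₂(k) with central kernel, never the commutator case), and their graph of rank one pairs is connected. -/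
theorem result (F : Type*) [Field F] [Fintype F] (q n : ℕ) (hF : Fintype.card F = q ^ 2) :
    Cfsg.IsRootSubgroupClass ((fun A : Subgroup ↥(Cfsg.SU (n + 2) F q) => A.subgroupOf (⨆ B ∈ {A : Subgroup ↥(Cfsg.SU (n + 2) F q) | ∃ p : Fin (n + 2) → F, p ≠ 0 ∧ Cfsg.hermForm (n + 2) F q p p = 0 ∧
          A = Subgroup.closure {g : ↥(Cfsg.SU (n + 2) F q) |
            (∀ v : Fin (n + 2) → F, ∃ c : F, ((g : Matrix.SpecialLinearGroup (Fin (n + 2)) F) : Matrix (Fin (n + 2)) (Fin (n + 2)) F) *ᵥ v = v + c • p) ∧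
            ∀ v : Fin (n + 2) → F, Cfsg.hermForm (n + 2) F q v p = 0 →
              ((g : Matrix.SpecialLinearGroup (Fin (n + 2)) F) : Matrix (Fin (n + 2)) (Fin (n + 2)) F) *ᵥ v = v}}, B)) ''
      {A : Subgroup ↥(Cfsg.SU (n + 2) F q) | ∃ p : Fin (n + 2) → F, p ≠ 0 ∧ Cfsg.hermForm (n + 2) F q p p = 0 ∧
          A = Subgroup.closure {g : ↥(Cfsg.SU (n + 2) F q) |
            (∀ v : Fin (n + 2) → F, ∃ c : F, ((g : Matrix.SpecialLinearGroup (Fin (n + 2)) F) : Matrix (Fin (n + 2)) (Fin (n + 2)) F) *ᵥ v = v + c • p) ∧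
            ∀ v : Fin (n + 2) → F, Cfsg.hermForm (n + 2) F q v p = 0 →
              ((g : Matrix.SpecialLinearGroup (Fin (n + 2)) F) : Matrix (Fin (n + 2)) (Fin (n + 2)) F) *ᵥ v = v}}) ∧
    Cfsg.IsDegenerateRootSet ((fun A : Subgroup ↥(Cfsg.SU (n + 2) F q) => A.subgroupOf (⨆ B ∈ {A : Subgroup ↥(Cfsg.SU (n + 2) F q) | ∃ p : Fin (n + 2) → F, p ≠ 0 ∧ Cfsg.hermForm (n + 2) F q p p = 0 ∧
          A = Subgroup.closure {g : ↥(Cfsg.SU (n + 2) F q) |
            (∀ v : Fin (n + 2) → F, ∃ c : F, ((g : Matrix.SpecialLinearGroup (Fin (n + 2)) F) : Matrix (Fin (n + 2)) (Fin (n + 2)) F) *ᵥ v = v + c • p) ∧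
            ∀ v : Fin (n + 2) → F, Cfsg.hermForm (n + 2) F q v p = 0 →
              ((g : Matrix.SpecialLinearGroup (Fin (n + 2)) F) : Matrix (Fin (n + 2)) (Fin (n + 2)) F) *ᵥ v = v}}, B)) ''
      {A : Subgroup ↥(Cfsg.SU (n + 2) F q) | ∃ p : Fin (n + 2) → F, p ≠ 0 ∧ Cfsg.hermForm (n + 2) F q p p = 0 ∧
          A = Subgroup.closure {g : ↥(Cfsg.SU (n + 2) F q) |
            (∀ v : Fin (n + 2) → F, ∃ c : F, ((g : Matrix.SpecialLinearGroup (Fin (n + 2)) F) : Matrix (Fin (n + 2)) (Fin (n + 2)) F) *ᵥ v = v + c • p) ∧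
            ∀ v : Fin (n + 2) → F, Cfsg.hermForm (n + 2) F q v p = 0 →
              ((g : Matrix.SpecialLinearGroup (Fin (n + 2)) F) : Matrix (Fin (n + 2)) (Fin (n + 2)) F) *ᵥ v = v}}) ∧
    (∃ (L : Type) (_ : Field L) (_ : Fintype L), Fintype.card L = q ∧ Cfsg.IsKRootSubgroupSet L ((fun A : Subgroup ↥(Cfsg.SU (n + 2) F q) => A.subgroupOf (⨆ B ∈ {A : Subgroup ↥(Cfsg.SU (n + 2) F q) | ∃ p : Fin (n + 2) → F, p ≠ 0 ∧ Cfsg.hermForm (n + 2) F q p p = 0 ∧
          A = Subgroup.closure {g : ↥(Cfsg.SU (n + 2) F q) |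
            (∀ v : Fin (n + 2) → F, ∃ c : F, ((g : Matrix.SpecialLinearGroup (Fin (n + 2)) F) : Matrix (Fin (n + 2)) (Fin (n + 2)) F) *ᵥ v = v + c • p) ∧
            ∀ v : Fin (n + 2) → F, Cfsg.hermForm (n + 2) F q v p = 0 →
              ((g : Matrix.SpecialLinearGroup (Fin (n + 2)) F) : Matrix (Fin (n + 2)) (Fin (n + 2)) F) *ᵥ v = v}}, B)) ''
      {A : Subgroup ↥(Cfsg.SU (n + 2) F q) | ∃ p : Fin (n + 2) → F, p ≠ 0 ∧ Cfsg.hermForm (n + 2) F q p p = 0 ∧
          A = Subgroup.closure {g : ↥(Cfsg.SU (n + 2) F q) |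
            (∀ v : Fin (n + 2) → F, ∃ c : F, ((g : Matrix.SpecialLinearGroup (Fin (n + 2)) F) : Matrix (Fin (n + 2)) (Fin (n + 2)) F) *ᵥ v = v + c • p) ∧
            ∀ v : Fin (n + 2) → F, Cfsg.hermForm (n + 2) F q v p = 0 →
              ((g : Matrix.SpecialLinearGroup (Fin (n + 2)) F) : Matrix (Fin (n + 2)) (Fin (n + 2)) F) *ᵥ v = v}})) ∧
    Cfsg.IsConnectedFamily (Cfsg.FAdj ((fun A : Subgroup ↥(Cfsg.SU (n + 2) F q) => A.subgroupOf (⨆ B ∈ {A : Subgroup ↥(Cfsg.SU (n + 2) F q) | ∃ p : Fin (n + 2) → F, p ≠ 0 ∧ Cfsg.hermForm (n + 2) F q p p = 0 ∧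
          A = Subgroup.closure {g : ↥(Cfsg.SU (n + 2) F q) |
            (∀ v : Fin (n + 2) → F, ∃ c : F, ((g : Matrix.SpecialLinearGroup (Fin (n + 2)) F) : Matrix (Fin (n + 2)) (Fin (n + 2)) F) *ᵥ v = v + c • p) ∧
            ∀ v : Fin (n + 2) → F, Cfsg.hermForm (n + 2) F q v p = 0 →
              ((g : Matrix.SpecialLinearGroup (Fin (n + 2)) F) : Matrix (Fin (n + 2)) (Fin (n + 2)) F) *ᵥ v = v}}, B)) ''
      {A : Subgroup ↥(Cfsg.SU (n + 2) F q) | ∃ p : Fin (n + 2) → F, p ≠ 0 ∧ Cfsg.hermForm (n + 2) F q p p = 0 ∧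
          A = Subgroup.closure {g : ↥(Cfsg.SU (n + 2) F q) |
            (∀ v : Fin (n + 2) → F, ∃ c : F, ((g : Matrix.SpecialLinearGroup (Fin (n + 2)) F) : Matrix (Fin (n + 2)) (Fin (n + 2)) F) *ᵥ v = v + c • p) ∧
            ∀ v : Fin (n + 2) → F, Cfsg.hermForm (n + 2) F q v p = 0 →
              ((g : Matrix.SpecialLinearGroup (Fin (n + 2)) F) : Matrix (Fin (n + 2)) (Fin (n + 2)) F) *ᵥ v = v}})) ((fun A : Subgroup ↥(Cfsg.SU (n + 2) F q) => A.subgroupOf (⨆ B ∈ {A : Subgroup ↥(Cfsg.SU (n + 2) F q) | ∃ p : Fin (n + 2) → F, p ≠ 0 ∧ Cfsg.hermForm (n + 2) F q p p = 0 ∧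
          A = Subgroup.closure {g : ↥(Cfsg.SU (n + 2) F q) |
            (∀ v : Fin (n + 2) → F, ∃ c : F, ((g : Matrix.SpecialLinearGroup (Fin (n + 2)) F) : Matrix (Fin (n + 2)) (Fin (n + 2)) F) *ᵥ v = v + c • p) ∧
            ∀ v : Fin (n + 2) → F, Cfsg.hermForm (n + 2) F q v p = 0 →
              ((g : Matrix.SpecialLinearGroup (Fin (n + 2)) F) : Matrix (Fin (n + 2)) (Fin (n + 2)) F) *ᵥ v = v}}, B)) ''
      {A : Subgroup ↥(Cfsg.SU (n + 2) F q) | ∃ p : Fin (n + 2) → F, p ≠ 0 ∧ Cfsg.hermForm (n + 2) F q p p = 0 ∧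
          A = Subgroup.closure {g : ↥(Cfsg.SU (n + 2) F q) |
            (∀ v : Fin (n + 2) → F, ∃ c : F, ((g : Matrix.SpecialLinearGroup (Fin (n + 2)) F) : Matrix (Fin (n + 2)) (Fin (n + 2)) F) *ᵥ v = v + c • p) ∧
            ∀ v : Fin (n + 2) → F, Cfsg.hermForm (n + 2) F q v p = 0 →
              ((g : Matrix.SpecialLinearGroup (Fin (n + 2)) F) : Matrix (Fin (n + 2)) (Fin (n + 2)) F) *ᵥ v = v}}) := by
  classical
  show Cfsg.IsRootSubgroupClass (Ambient.inSpan (rootSet F q (n + 2))) ∧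
    Cfsg.IsDegenerateRootSet (Ambient.inSpan (rootSet F q (n + 2))) ∧
    (∃ (L : Type) (_ : Field L) (_ : Fintype L), Fintype.card L = q ∧
      Cfsg.IsKRootSubgroupSet L (Ambient.inSpan (rootSet F q (n + 2)))) ∧
    Cfsg.IsConnectedFamily (Cfsg.FAdj (Ambient.inSpan (rootSet F q (n + 2)))) (Ambient.inSpan (rootSet F q (n + 2)))
  have hq := two_le_q hF
  obtain ⟨σ, hσ, hinv, -⟩ := exists_qPow hF
  have hqp : IsPrimePow q := by
    have h := Fintype.isPrimePow_card_of_field (α := F)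
    rwa [hF, isPrimePow_pow_iff two_ne_zero] at h
  obtain ⟨ℓ, k, hℓ, hk, rfl⟩ := (isPrimePow_nat_iff q).1 hqp
  haveI : Fact ℓ.Prime := ⟨hℓ⟩
  haveI : Fintype (GaloisField ℓ k) := Fintype.ofFinite _
  have hL : Fintype.card (GaloisField ℓ k) = ℓ ^ k := by
    rw [← Nat.card_eq_fintype_card, GaloisField.card ℓ k hk.ne']
  set S := rootSet F (ℓ ^ k) (n + 2) with hSdef
  have hpair : ∀ A ∈ S, ∀ B ∈ S, ⁅A, B⁆ = ⊥ ∨
      (Cfsg.IsRankOnePair A B ∧ Cfsg.IsPSL2PairOver (GaloisField ℓ k) A B) := by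
    rintro _ ⟨p, hp, hpp, rfl⟩ _ ⟨r, hr, hrr, rfl⟩
    by_cases h : Cfsg.hermForm (n + 2) F (ℓ ^ k) p r = 0
    · exact Or.inl (commute_of_perp hF hp hpp hr hrr h)
    · exact Or.inr (rankOne hF hL hpp hrr h)
  have hS : Cfsg.IsRootSubgroupSet (Ambient.inSpan S) := by
    refine Ambient.isRootSubgroupSet ?_ ?_ ?_ fun A hA B hB => (hpair A hA B hB).imp id fun h => Or.inl h.1
    · rintro _ ⟨p, hp, hpp, rfl⟩
      refine ⟨⟨fun x y => Subtype.ext ?_⟩⟩
      have h := Subgroup.commutator_eq_bot_iff_le_centralizer.1 (commute_of_perp hF hp hpp hp hpp hpp)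
      exact (Subgroup.mem_centralizer_iff.1 (h x.2) y.1 y.2).symm
    · rintro _ ⟨p, hp, hpp, rfl⟩
      exact rootGp_ne_bot hF hp hpp
    · rintro _ ⟨p, hp, hpp, rfl⟩ g
      refine ⟨act g p, fun h0 => hp ?_, by rw [act_form, hpp], conj_rootGp g p⟩
      rw [← act_inv_act g p, h0, act, Matrix.mulVec_zero]
  have hconS : ∀ A ∈ S, ∀ B ∈ S, Relation.ReflTransGen (Cfsg.FAdj S) A B := by
    rintro _ ⟨p, hp, hpp, rfl⟩ _ ⟨r, hr, hrr, rfl⟩
    by_cases hpr : Cfsg.hermForm (n + 2) F (ℓ ^ k) p r = 0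
    · by_cases hli : LinearIndependent F ![p, r]
      · obtain ⟨s, hs, hss, hps, hrs⟩ := exists_common hF hpp hli hpr
        refine (Relation.ReflTransGen.single (b := rootGp (ℓ ^ k) s) ?_).tail ?_
        · exact ⟨⟨p, hp, hpp, rfl⟩, ⟨s, hs, hss, rfl⟩, (rankOne hF hL hpp hss hps).1⟩
        · exact ⟨⟨s, hs, hss, rfl⟩, ⟨r, hr, hrr, rfl⟩,
            Cfsg.RankOnePair_symm (rankOne hF hL hrr hss hrs).1⟩
      · rw [LinearIndependent.pair_iff' hp] at hli
        push Not at hli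
        obtain ⟨a, ha⟩ := hli
        rw [← ha, rootGp_smul hF fun h => hr (by rw [← ha, h, zero_smul])]
    · exact Relation.ReflTransGen.single ⟨⟨p, hp, hpp, rfl⟩, ⟨r, hr, hrr, rfl⟩, (rankOne hF hL hpp hrr hpr).1⟩
  obtain ⟨p, hp, hpp⟩ := exists_iso hF n
  have hcon := Ambient.connected hconS
  refine ⟨⟨hS, CfsgLib.RankOne.isConjClass_of_connected hS ⟨_, _, ⟨p, hp, hpp, rfl⟩, rfl⟩ hcon⟩,
    Ambient.isDegenerate hS fun A hA B hB => (hpair A hA B hB).imp id And.left,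
    ⟨GaloisField ℓ k, inferInstance, inferInstance, hL, Ambient.isKRootSubgroupSet hS fun A hA B hB h => ?_⟩, hcon⟩
  rcases hpair A hA B hB with h0 | h1
  · exact absurd h0 (CfsgLib.RankOne.commutator_ne_bot_of_isRankOnePair h)
  · exact h1.2

end Cfsg.Agent.S5071
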