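import Cfsg.Statements.S5073
import Cfsg.Agent.Lib.QuadPair.Cases

set_option autoImplicit false
universe u
open Cfsg

namespace Cfsg.Agent.S5073

open CfsgLib.QuadPair

/-- Let k be a field of characteristic not 2 with k not of order 3, M a finite-dimensional k-vector space and G ≤ GL(M) such that (G, M) is a quadratic pair (M irreducible for G, and G generated by its quadratically acting elements σ whose scalar family 1 + c(σ − 1), c ∈ k, lies in G). Write 𝒬_d for the quadratic elements of G of minimal commutator rank, E(σ) for the subgroup generated by the members of 𝒬_d with the same fixed space and commutator space as σ, and Σ for the set of these subgroups. Let E, F ∈ Σ. If some non-identity element of E commutes with some non-identity element of F, or some non-identity element of E normalizes F, then E and F commute elementwise. -/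
theorem result {k : Type u} [Field k] (hk2 : ringChar k ≠ 2) (hk3 : Nat.card k ≠ 3)
    {M : Type u} [AddCommGroup M] [Module k M] [FiniteDimensional k M]
    {G : Subgroup (LinearMap.GeneralLinearGroup k M)} (hG : Cfsg.IsQuadraticPair G)
    {E F : Subgroup (LinearMap.GeneralLinearGroup k M)} (hE : E ∈ Cfsg.quadraticRootSubgroups G) (hF : F ∈ Cfsg.quadraticRootSubgroups G)
    (h : (∃ e ∈ E, e ≠ 1 ∧ ∃ f ∈ F, f ≠ 1 ∧ e * f = f * e) ∨ E ⊓ Subgroup.normalizer (F : Set (LinearMap.GeneralLinearGroup k M)) ≠ ⊥) :
    ⁅E, F⁆ = ⊥ := by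
  have h2 := Ring.two_ne_zero hk2
  obtain ⟨A, hA, rfl⟩ := exists_of_mem_root hE
  obtain ⟨B, hB, rfl⟩ := exists_of_mem_root hF
  by_cases hn : IsNilpotent (pairSum A B)
  · refine sameAction_pair_commute h2 hk3 hA hB hn ?_
    by_contra h0
    obtain ⟨t1, t2⟩ := triple_mem h2 hk3 hA hB hn (self_mem_opSpace hA.1) (self_mem_opSpace hB.1)
    obtain ⟨hC, -⟩ := rank_split hA hB t1 t2 h0
    rcases h with ⟨e, he, he1, f, hf, hf1, hef⟩ | hnorm
    · obtain ⟨X, hX, rfl⟩ := mem_opGroup.1 he
      obtain ⟨Y, hY, rfl⟩ := mem_opGroup.1 hf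
      obtain ⟨u1, u2⟩ := triple_mem h2 hk3 hA hB hn hX hY
      have hz : bracket X Y = 0 := by
        rw [← unip_eq_one_iff (bracket_sq hX.1.1 hY.1.1 u1 u2), ← commutator_unip hX.1.1 hY.1.1 u1 u2, hef,
          mul_inv_cancel_right, mul_inv_cancel]
      rcases (bracket_mem h2 hk3 hA hB hn h0 hC hX hY).2 hz with rfl | rfl
      · exact he1 unip_zero
      · exact hf1 unip_zero
    · obtain ⟨⟨e, he⟩, he1'⟩ := Subgroup.ne_bot_iff_exists_ne_one.1 hnorm
      have he1 : e ≠ 1 := fun h' => he1' (Subtype.ext h')
      obtain ⟨X, hX, rfl⟩ := mem_opGroup.1 he.1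
      obtain ⟨u1, u2⟩ := triple_mem h2 hk3 hA hB hn hX (self_mem_opSpace hB.1)
      obtain ⟨D, hD, hDe⟩ := mem_opGroup.1 ((Subgroup.mem_normalizer_iff.1 he.2 _).1
        (unip_mem_opGroup (self_mem_opSpace hB.1)))
      have hD' : bracket X B ∈ opSpace hB.1 := by
        have hc : conjOp (unip X) B = D := by
          rw [conjOp_unip _ hB.1.1] at hDe
          refine unip_injective ?_ hD.1.1 hDe
          rw [← conjOp_mul, hB.1.1, map_zero]
        rw [conjOp_apply, unip_val hX.1.1, unip_inv_val hX.1.1] at hc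
        have e : bracket X B = D - B := by
          rw [← hc]
          simp only [bracket, add_mul, mul_sub, one_mul, mul_one, u1]
          abel
        rw [e]
        exact sub_mem hD (self_mem_opSpace hB.1)
      obtain ⟨hm, hmz⟩ := bracket_mem h2 hk3 hA hB hn h0 hC hX (self_mem_opSpace hB.1)
      have hne : bracket X B ≠ 0 := fun h' => by
        rcases hmz h' with rfl | hB0
        · exact he1 unip_zero
        · exact hB.2.1 hB0
      obtain ⟨z1, z2⟩ := annihilate h2 hk3 hA hB hn h0 hC hm (Or.inl (self_mem_opSpace hA.1))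
      obtain ⟨rB, kB, -⟩ := geometry_of_mem hB hD' hne
      have a1 : A * B = 0 := LinearMap.range_le_ker_iff.1 (rB ▸ LinearMap.range_le_ker_iff.2 z1)
      have a2 : B * A = 0 := LinearMap.range_le_ker_iff.1 (kB ▸ LinearMap.range_le_ker_iff.2 z2)
      exact h0 (by rw [bracket, a1, a2, sub_zero])
  · exfalso
    rcases h with ⟨e, he, he1, f, hf, hf1, hef⟩ | hnorm
    · obtain ⟨X, hX, rfl⟩ := mem_opGroup.1 he
      obtain ⟨Y, hY, rfl⟩ := mem_opGroup.1 hf
      have hX0 : X ≠ 0 := fun h' => he1 (by rw [h', unip_zero])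
      have hY0 : Y ≠ 0 := fun h' => hf1 (by rw [h', unip_zero])
      apply hn
      rw [← nilpotent_congr h2 hk3 hA hB hX hX0 hY hY0, isNilpotent_pairSum_iff hX.1.1 hY.1.1]
      have hc : X * Y = Y * X := by
        have := congrArg Units.val hef
        rw [Units.val_mul, Units.val_mul, unip_val hX.1.1, unip_val hY.1.1] at this
        simp only [add_mul, mul_add, one_mul, mul_one, add_assoc, add_right_inj] at this
        rw [add_left_comm] at this
        exact add_left_cancel (add_left_cancel this)
      refine ⟨2, ?_⟩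
      rw [pow_two]
      nth_rw 1 [hc]
      rw [mul_assoc, ← mul_assoc X X, hX.1.1, zero_mul, mul_zero]
    · exact hnorm (CfsgLib.RankOne.normalizer_inf_eq_bot (exists_special h2 hk3 hA hB hn).1)

end Cfsg.Agent.S5073
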