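import Cfsg.Statements.S5075
import Cfsg.Agent.Lib.RootSubgroups.McLaughlin.Decompose

set_option autoImplicit false
open Cfsg

namespace Cfsg.Agent.S5075

open CfsgLib.RootSubgroups.McLaughlin

variable {p : ℕ} [Fact p.Prime] {V : Type*} [AddCommGroup V] [Module (ZMod p) V] [Finite V]

theorem exists_tv_form {t : V ≃ₗ[ZMod p] V} (h1 : orderOf t = p)
    (h2 : Module.finrank (ZMod p) ↥(LinearMap.ker ((t : V →ₗ[ZMod p] V) - LinearMap.id)) + 1 =
      Module.finrank (ZMod p) V) :
    ∃ (v : V) (φ : Module.Dual (ZMod p) V), v ≠ 0 ∧ φ ≠ 0 ∧ φ v = 0 ∧ ∀ x, t x = x + φ x • v := by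
  set n : V →ₗ[ZMod p] V := (t : V →ₗ[ZMod p] V) - LinearMap.id with hn
  have hr : Module.finrank (ZMod p) ↥(LinearMap.range n) = 1 := by
    have := LinearMap.finrank_range_add_finrank_ker n
    omega
  obtain ⟨⟨v, hv⟩, hv0, hall⟩ := finrank_eq_one_iff'.1 hr
  have hv0' : v ≠ 0 := fun e => hv0 (Subtype.ext e)
  obtain ⟨ψ, hψ⟩ := Submodule.exists_le_ker_of_lt_top (⊥ : Submodule (ZMod p) V)
    (lt_top_iff_ne_top.2 fun e => hv0' (by simpa using (e ▸ Submodule.mem_top : v ∈ (⊥ : Submodule (ZMod p) V))))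
  have hex : ∀ x, ∃ a : ZMod p, a • v = n x := fun x => by
    obtain ⟨a, ha⟩ := hall ⟨n x, ⟨x, rfl⟩⟩
    exact ⟨a, congrArg Subtype.val ha⟩
  choose φ hφ using hex
  let φl : Module.Dual (ZMod p) V :=
    { toFun := φ
      map_add' := fun x y => smul_left_injective _ hv0' (by
        show φ (x + y) • v = (φ x + φ y) • v
        rw [add_smul, hφ, hφ, hφ, map_add])
      map_smul' := fun k x => smul_left_injective _ hv0' (by
        show φ (k • x) • v = (k * φ x) • v
        rw [mul_smul, hφ, hφ, map_smul]) }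
  have htx : ∀ x, t x = x + φl x • v := fun x => by
    show t x = x + φ x • v
    rw [hφ, hn]
    simp
  have hφ0 : φl ≠ 0 := fun e => by
    obtain ⟨x, hx⟩ := hv
    apply hv0'
    rw [← hx, ← hφ x, show φ x = 0 from LinearMap.congr_fun e x, zero_smul]
  refine ⟨v, φl, hv0', hφ0, ?_, htx⟩
  by_contra ha
  set a := φl v with ha'
  have hpow : ∀ (k : ℕ) x, ∃ c : ZMod p, c * a = (1 + a) ^ k - 1 ∧ (t ^ k) x = x + (c * φl x) • v := by
    intro k
    induction k with
    | zero => exact fun x => ⟨0, by simp, by simp⟩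
    | succ k ih =>
      intro x
      obtain ⟨c, hc, hx⟩ := ih x
      refine ⟨c * (1 + a) + 1, ?_, ?_⟩
      · rw [pow_succ]
        linear_combination (1 + a) * hc
      · rw [pow_succ', LinearEquiv.mul_apply, hx, map_add, map_smul, htx v, htx x, ← ha']
        module
  obtain ⟨x, hx⟩ : ∃ x, φl x ≠ 0 := by
    by_contra hcon
    push Not at hcon
    exact hφ0 (LinearMap.ext hcon)
  obtain ⟨c, hc, hcx⟩ := hpow p x
  rw [ZMod.pow_card, add_sub_cancel_left] at hc
  have hc1 : c = 1 := mul_right_cancel₀ ha (by rw [hc, one_mul])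
  have htp : t ^ p = 1 := orderOf_dvd_iff_pow_eq_one.1 (dvd_of_eq h1)
  rw [htp, LinearEquiv.coe_one, id, left_eq_add, hc1, one_mul, smul_eq_zero] at hcx
  exact hcx.elim hx hv0'

/-- Let p be an odd prime, V a finite-dimensional vector space over the field with p elements, and H a group of linear automorphisms of V generated by transvections (elements of order p fixing a hyperplane pointwise) and having no nontrivial normal p-subgroup. Then for some n ≥ 1 there are a decomposition V = V₀ ⊕ V₁ ⊕ ⋯ ⊕ Vₙ into H-invariant subspaces and a decomposition of H as the internal direct product of normal subgroups H₁, …, Hₙ such that Hⱼ acts trivially on every Vᵢ with i ≠ j, and Hⱼ induces on Vⱼ exactly the special linear group of Vⱼ or exactly the isometry group of a non-degenerate alternating form on Vⱼ. -/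
theorem result {p : ℕ} [Fact p.Prime] (hp : Odd p) {V : Type*} [AddCommGroup V] [Module (ZMod p) V] [Finite V]
    (H : Subgroup (V ≃ₗ[ZMod p] V)) (T : Set (V ≃ₗ[ZMod p] V)) (hHT : H = Subgroup.closure T)
    (hT : ∀ t ∈ T, orderOf t = p ∧
      Module.finrank (ZMod p) ↥(LinearMap.ker ((t : V →ₗ[ZMod p] V) - LinearMap.id)) + 1 =
        Module.finrank (ZMod p) V)
    (hOp : Cfsg.pCore p ↥H = ⊥) :
    ∃ (n : ℕ) (W : Fin (n + 1) → Submodule (ZMod p) V) (K : Fin n → Subgroup (V ≃ₗ[ZMod p] V)),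
      1 ≤ n ∧ DirectSum.IsInternal W ∧
      (∀ h ∈ H, ∀ i, (W i).map (h : V →ₗ[ZMod p] V) = W i) ∧
      (∀ j, K j ≤ H ∧ ((K j).subgroupOf H).Normal) ∧ ⨆ j, K j = H ∧
      (∀ j, K j ⊓ (⨆ j' ∈ {j' : Fin n | j' ≠ j}, K j') = ⊥) ∧
      (∀ j j', j ≠ j' → ∀ a ∈ K j, ∀ b ∈ K j', a * b = b * a) ∧
      (∀ j, ∀ h ∈ K j, ∀ i : Fin (n + 1), i ≠ j.succ → ∀ v ∈ W i, h v = v) ∧
      (∀ j, ∃ ρ : ↥(K j) →* (↥(W j.succ) ≃ₗ[ZMod p] ↥(W j.succ)),
        (∀ (h : ↥(K j)) (v : ↥(W j.succ)), ((ρ h v : ↥(W j.succ)) : V) = (h : V ≃ₗ[ZMod p] V) (v : V)) ∧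
        ((ρ.range : Set (↥(W j.succ) ≃ₗ[ZMod p] ↥(W j.succ))) =
            {f : ↥(W j.succ) ≃ₗ[ZMod p] ↥(W j.succ) | LinearMap.det (f : ↥(W j.succ) →ₗ[ZMod p] ↥(W j.succ)) = 1} ∨
          ∃ B : LinearMap.BilinForm (ZMod p) ↥(W j.succ), B.IsAlt ∧ B.Nondegenerate ∧
            (ρ.range : Set (↥(W j.succ) ≃ₗ[ZMod p] ↥(W j.succ))) = {f : ↥(W j.succ) ≃ₗ[ZMod p] ↥(W j.succ) | ∀ x y, B (f x) (f y) = B x y})) := by
  classical
  have hgen : GenByTv H := by
    show H ≤ _
    refine hHT.le.trans (Subgroup.closure_mono fun t ht => ?_)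
    obtain ⟨v, φ, hv, hφ, hφv, htx⟩ := exists_tv_form (hT t ht).1 (hT t ht).2
    have htH : t ∈ H := hHT ▸ Subgroup.subset_closure ht
    exact ⟨htH, v, φ, ⟨hv, hφ, hφv, t, htH, htx⟩, htx⟩
  obtain ⟨r, c, hsep, hcov⟩ := exists_representatives (H := H)
  set W : Fin (r + 2) → Submodule (ZMod p) V :=
    Fin.cons (α := fun _ => Submodule (ZMod p) V) (fixedPart H) (fun j => compW H (c j)) with hW
  set K : Fin (r + 1) → Subgroup (V ≃ₗ[ZMod p] V) := fun j => compGroup H (c j) with hK
  have hW0 : W 0 = fixedPart H := rfl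
  have hWs : ∀ j, W j.succ = compW H (c j) := fun j => rfl
  have hother : ∀ i j, i ≠ j → ∀ v φ, compRel H (c i) v φ → ¬ Linked (Tv H) (c j) v :=
    fun i j hij v φ hv hl => hij (hsep i j v φ hv.1 hv.2 hl)
  have hkillA : ∀ j, ∀ χ ∈ compA H (c j), ∀ i, i ≠ j.succ → ∀ x ∈ W i, χ x = 0 := by
    intro j χ hχ i hi x hx
    induction i using Fin.cases with
    | zero =>
      have hle : compA H (c j) ≤ LinearMap.ker ((Module.Dual.eval (ZMod p) V) x) :=
        Submodule.span_le.2 fun φ ⟨v, hv⟩ => (hx : x ∈ fixedPart H) v φ hv.1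
      exact hle hχ
    | succ i =>
      have hle : compW H (c i) ≤ LinearMap.ker χ := Submodule.span_le.2 fun v ⟨φ, hv⟩ =>
        (perp_of_not_linked hp hOp hv.1 (hother i j (fun e => hi (by rw [e])) v φ hv)).2 χ hχ
      exact hle hx
  have hfix : ∀ j, ∀ g ∈ K j, ∀ i, i ≠ j.succ → ∀ x ∈ W i, g x = x := by
    intro j g hg i hi x hx
    induction i using Fin.cases with
    | zero => exact (fix_of_gen hp hOp hg).1 x hx
    | succ i => exact (fix_of_gen hp hOp hg).2 (c i) (hother j i fun e => hi (by rw [e])) x hx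
  have hUfix : ∀ h ∈ H, ∀ x ∈ fixedPart H, h x = x := fun h hh =>
    stable_of_gens hgen (fun h => ∀ x ∈ fixedPart H, h x = x) (fun x _ => by simp)
      (fun a b ha hb x hx => by rw [LinearEquiv.mul_apply, hb x hx, ha x hx])
      (fun g ⟨_, v, φ, hv, hgx⟩ x hx => by rw [hgx, hx v φ hv, zero_smul, add_zero]) hh
  have hdis : ∀ i, Disjoint (W i) (⨆ k ∈ {k | k ≠ i}, W k) := by
    intro i
    induction i using Fin.cases with
    | succ j =>
      rw [Submodule.disjoint_def]
      intro x hx hx'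
      refine (component_structure hp hOp hgen (c j)).1 x hx fun χ hχ => ?_
      have hle : (⨆ k ∈ {k | k ≠ j.succ}, W k) ≤ LinearMap.ker χ :=
        iSup₂_le fun k hk y hy => hkillA j χ hχ k hk y hy
      exact hle hx'
    | zero =>
      rw [Submodule.disjoint_def]
      intro x hx hx'
      have hle : (⨆ k ∈ {k : Fin (r + 2) | k ≠ 0}, W k) ≤ ⨆ j : Fin (r + 1), W j.succ := by
        refine iSup₂_le fun k hk => ?_
        obtain ⟨j, rfl⟩ := Fin.exists_succ_eq.2 hk
        exact le_iSup (fun j : Fin (r + 1) => W j.succ) j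
      obtain ⟨f, hf, hsum⟩ := (Submodule.mem_iSup_iff_exists_finsupp _ _).1 (hle hx')
      have hz : ∀ j, f j = 0 := by
        intro j
        refine (component_structure hp hOp hgen (c j)).1 _ (hf j) fun χ hχ => ?_
        have e := hkillA j χ hχ 0 (Fin.succ_ne_zero j).symm x hx
        rw [← hsum, map_finsuppSum, Finsupp.sum, Finset.sum_eq_single j
          (fun k _ hk => hkillA j χ hχ k.succ (fun e => hk (Fin.succ_injective _ e)) _ (hf k))
          (fun h => by rw [Finsupp.notMem_support_iff.1 h, map_zero])] at e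
        exact e
      rw [← hsum]
      exact Finset.sum_eq_zero fun j _ => hz j
  have htop : ∀ x : V, x ∈ ⨆ i, W i := by
    intro x
    choose w hw hwχ using fun j => (exists_restrict hp hOp hgen (c j)).2 x
    have hres : x - ∑ j, w j ∈ fixedPart H := by
      intro v φ hv
      obtain ⟨j, hj⟩ := hcov v φ hv
      have hφ : φ ∈ compA H (c j) := mem_axesSpan (R := compRel H (c j)) ⟨hv, hj⟩
      rw [map_sub, map_sum, Finset.sum_eq_single j
        (fun i _ hij => hkillA j φ hφ i.succ (fun e => hij (Fin.succ_injective _ e)) _ (hw i))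
        (fun h => absurd (Finset.mem_univ j) h), hwχ j φ hφ, sub_self]
    rw [← sub_add_cancel x (∑ j, w j)]
    exact add_mem (le_iSup W 0 hres) (sum_mem fun j _ => le_iSup W j.succ (hw j))
  have hsupK : ⨆ j, K j = H := by
    refine le_antisymm (iSup_le fun j => compGroup_le _) (hgen.trans ((Subgroup.closure_le _).2 ?_))
    rintro g ⟨-, v, φ, hv, hgx⟩
    obtain ⟨j, hj⟩ := hcov v φ hv
    exact le_iSup K j (mem_compGroup ⟨hv, hj⟩ hgx)
  have hcomm : ∀ j j', j ≠ j' → ∀ a ∈ K j, ∀ b ∈ K j', a * b = b * a := by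
    intro j j' hjj' a ha b hb
    refine LinearEquiv.ext fun x => ?_
    have hx := htop x
    induction hx using Submodule.iSup_induction' with
    | mem i x hx =>
      rw [LinearEquiv.mul_apply, LinearEquiv.mul_apply]
      by_cases hi : i = j.succ
      · subst hi
        have hne : j.succ ≠ j'.succ := fun e => hjj' (Fin.succ_injective _ e)
        have hax : a x ∈ W j.succ := (move_compW hp hOp hgen (c j) (compGroup_le _ ha)).1 x hx
        rw [hfix j' b hb _ hne x hx, hfix j' b hb _ hne _ hax]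
      · rw [hfix j a ha i hi x hx]
        refine hfix j a ha i hi (b x) ?_
        induction i using Fin.cases with
        | zero => rw [hUfix b (compGroup_le _ hb) x hx]; exact hx
        | succ i => exact (move_compW hp hOp hgen (c i) (compGroup_le _ hb)).1 x hx
    | zero => simp
    | add x y _ _ hx hy => rw [map_add, map_add, hx, hy]
  refine ⟨r + 1, W, K, by omega, ?_, ?_, fun j => ⟨compGroup_le _, ?_⟩, hsupK, ?_, hcomm, hfix, fun j => ?_⟩
  · rw [DirectSum.isInternal_submodule_iff_iSupIndep_and_iSup_eq_top]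
    exact ⟨fun i => hdis i, eq_top_iff.2 fun x _ => htop x⟩
  · intro h hh i
    have hle : ∀ g ∈ H, ∀ x ∈ W i, g x ∈ W i := by
      intro g hg x hx
      induction i using Fin.cases with
      | zero => rw [hUfix g hg x hx]; exact hx
      | succ i => exact (move_compW hp hOp hgen (c i) hg).1 x hx
    refine le_antisymm ?_ fun x hx => ⟨h⁻¹ x, hle _ (inv_mem hh) x hx, by simp [LinearEquiv.coe_inv]⟩
    rintro _ ⟨x, hx, rfl⟩
    exact hle h hh x hx
  · have hnorm : H ≤ Subgroup.normalizer (K j : Set (V ≃ₗ[ZMod p] V)) := by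
      rw [← hsupK]
      refine iSup_le fun i => ?_
      by_cases hij : i = j
      · rw [hij]
        exact Subgroup.le_normalizer
      · exact le_trans (fun a ha => Subgroup.mem_centralizer_iff.2 fun b hb => (hcomm i j hij a ha b hb).symm)
          (Subgroup.centralizer_le_normalizer _)
    exact (Subgroup.normal_subgroupOf_iff_le_normalizer (compGroup_le _)).2 hnorm
  · intro j
    rw [eq_bot_iff]
    rintro g ⟨hg, hg'⟩
    rw [Subgroup.mem_bot]
    have hfix' : ∀ x ∈ W j.succ, g x = x := by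
      let F : Subgroup (V ≃ₗ[ZMod p] V) :=
        { carrier := {g | ∀ x ∈ W j.succ, g x = x}
          one_mem' := fun x _ => by simp
          mul_mem' := fun ha hb x hx => by rw [LinearEquiv.mul_apply, hb x hx, ha x hx]
          inv_mem' := fun {a} ha x hx => by
            conv_lhs => rw [← ha x hx]
            simp [LinearEquiv.coe_inv] }
      have hle : (⨆ j' ∈ {j' : Fin (r + 1) | j' ≠ j}, K j') ≤ F :=
        iSup₂_le fun i hi b hb x hx => hfix i b hb _ (fun e => hi (Fin.succ_injective _ e).symm) x hx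
      exact hle hg'
    refine LinearEquiv.ext fun x => ?_
    have hx := htop x
    induction hx using Submodule.iSup_induction' with
    | mem i x hx =>
      by_cases hi : i = j.succ
      · subst hi; simpa using hfix' x hx
      · simpa using hfix j g hg i hi x hx
    | zero => simp
    | add x y _ _ hx hy => simp only [map_add, hx, hy]
  · exact ⟨compRestrict hp hOp hgen (c j), fun h v => rfl, compRestrict_range hp hOp hgen (c j)⟩

end Cfsg.Agent.S5075
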