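import Cfsg.Statements.S5079
import Cfsg.Agent.Lib.Fusion.Extender

set_option autoImplicit false
open Cfsg Cfsg.FusionSystem CfsgLib.Fusion

namespace Cfsg.Agent.S5079

/-- In any fusion system over a finite p-group S: if P is fully automized and receptive and Q is conjugate to P in the system, then there is a map of the system with source N_S(Q) and values in N_S(P) carrying Q onto P. -/
theorem result {Ω : Type*} [Group Ω] {S : Subgroup Ω} [Finite S] (p : ℕ) [Fact p.Prime] (hS : IsPGroup p S) (F : Cfsg.FusionSystem S) (P Q : Subgroup Ω) (h₁ : F.IsFullyAutomized p P) (h₂ : F.IsReceptive P) (hQ : F.IsConj Q P) : ∃ φ ∈ F.Hom (Cfsg.FusionSystem.normalizerIn S Q), (∀ x, φ x ∈ Cfsg.FusionSystem.normalizerIn S P) ∧ (Q.subgroupOf (Cfsg.FusionSystem.normalizerIn S Q)).map φ = P := by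
  obtain ⟨e, h, -, ψ, hψ, hψe, hψN⟩ := exists_hom_normalizerIn hS hQ h₁ h₂
  refine ⟨ψ, hψ, hψN, ?_⟩
  show img ψ Q = P
  ext y
  rw [mem_img]
  constructor
  · rintro ⟨x, hx, rfl⟩
    exact (show ψ x = (e ⟨x, hx⟩ : Ω) from hψe ⟨x, hx⟩) ▸ (e _).2
  · intro hy
    exact ⟨Subgroup.inclusion h (e.symm ⟨y, hy⟩), (e.symm ⟨y, hy⟩).2, by
      rw [hψe, MulEquiv.apply_symm_apply]⟩

end Cfsg.Agent.S5079
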