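import Cfsg.Statements.S5084
import Cfsg.Agent.Lib.Fusion.Normal

set_option autoImplicit false
open Cfsg Cfsg.FusionSystem CfsgLib.Fusion

namespace Cfsg.Agent.S5084

/-- In a saturated fusion system over a finite p-group S, a subgroup Q is central in the system if and only if Q ≤ S and no element of Q is conjugate in the system to any element other than itself. -/
theorem result {Ω : Type*} [Group Ω] {S : Subgroup Ω} [Finite S] (p : ℕ) [Fact p.Prime] (hS : IsPGroup p S) (F : Cfsg.FusionSystem S) (hF : F.IsSaturated p) (Q : Subgroup Ω) : F.IsCentral Q ↔ (Q ≤ S ∧ ∀ x ∈ Q, ∀ y : Ω, F.IsConjElt x y → y = x) := by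
  constructor
  · intro h
    refine ⟨h.1, fun x hx y hy => ?_⟩
    obtain ⟨φ, hφ, rfl⟩ := hy
    obtain ⟨ψ, -, hψe, hψQ⟩ := h.2 _ φ hφ
    rw [← hψe]
    exact hψQ ⟨x, hx⟩
  · rintro ⟨hQS, h⟩
    have hfix : ∀ (P : Subgroup Ω) (φ : P →* Ω), φ ∈ F.Hom P → ∀ x : P, (x : Ω) ∈ Q → φ x = x := by
      intro P φ hφ x hx
      refine h x hx _ ⟨_, res_mem F hφ (Subgroup.zpowers_le.2 x.2), rfl⟩
    have hsc : F.StronglyClosed Q := ⟨hQS, fun R hR φ hφ x => by
      rw [hfix R φ hφ x (hR x.2)]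
      exact hR x.2⟩
    have hab : ⁅Q, Q⁆ = ⊥ := by
      rw [Subgroup.commutator_eq_bot_iff_le_centralizer]
      intro a ha
      refine Subgroup.mem_centralizer_iff.2 fun b hb => ?_
      have h1 : a * b * a⁻¹ = b := hfix Q _ (F.conj_mem hQS (hQS ha)) ⟨b, hb⟩ hb
      calc b * a = a * b * a⁻¹ * a := by rw [h1]
        _ = a * b := by group
    refine ⟨hQS, fun P φ hφ => ?_⟩
    obtain ⟨ψ, hψ, hψe, -⟩ := (isNormal_of_commutative hS hF hsc hab).2 P φ hφ
    exact ⟨ψ, hψ, hψe, fun x => hfix _ ψ hψ _ x.2⟩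

end Cfsg.Agent.S5084
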