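import Cfsg.Statements.S5087
import Cfsg.Agent.Lib.Fusion.Normal

set_option autoImplicit false
open Cfsg Cfsg.FusionSystem CfsgLib.Fusion

namespace Cfsg.Agent.S5087

/-- In a saturated fusion system over a finite p-group S, a subgroup Q is normal in the system if and only if every subgroup P that equals S or is essential contains Q and every element of Aut_F(P) maps Q onto itself. -/
theorem result {Ω : Type*} [Group Ω] {S : Subgroup Ω} [Finite S] (p : ℕ) [Fact p.Prime] (hS : IsPGroup p S) (F : Cfsg.FusionSystem S) (hF : F.IsSaturated p) (Q : Subgroup Ω) : F.IsNormal Q ↔ ∀ P : Subgroup Ω, (P = S ∨ F.IsEssential p P) → (Q ≤ P ∧ ∀ α ∈ F.autGroup P, (Q.subgroupOf P).map α.toMonoidHom = Q.subgroupOf P) := by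
  constructor
  · intro h P hP
    have hQP : Q ≤ P := by
      rcases hP with rfl | hP
      · exact h.1
      · exact le_of_isNormal hS h hP.1 (isRadical_of_isEssential hS hP)
    refine ⟨hQP, fun α hα => ?_⟩
    have hinv : ∀ β ∈ F.autGroup P, ∀ x : P, (x : Ω) ∈ Q → ((β x : P) : Ω) ∈ Q := fun β hβ x hx =>
      autGroup_apply_mem (stronglyClosed_of_isNormal h) hβ hx
    ext x
    refine ⟨?_, fun hx => ⟨α⁻¹ x, hinv _ (inv_mem hα) x hx, MulAut.apply_inv_self _ α x⟩⟩
    rintro ⟨y, hy, rfl⟩
    exact hinv α hα y hy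
  · intro h
    refine isNormal_of_autGroup_invariant hS hF fun P hP => ⟨(h P hP).1, fun α hα x hx => ?_⟩
    exact ((h P hP).2 α hα).le ⟨x, hx, rfl⟩

end Cfsg.Agent.S5087
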