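import Cfsg.Statements.S5088
import Cfsg.Agent.Lib.Fusion.Normal

set_option autoImplicit false
open Cfsg Cfsg.FusionSystem CfsgLib.Fusion

namespace Cfsg.Agent.S5088

/-- In a saturated fusion system over a finite p-group, a subgroup Q is normal in the system if and only if there is a chain of subgroups 1 = Q₀ ≤ Q₁ ≤ ⋯ ≤ Qₙ = Q such that each Qᵢ with i ≥ 1 is strongly closed in the system and [Q, Qᵢ] ≤ Qᵢ₋₁. -/
theorem result {Ω : Type*} [Group Ω] {S : Subgroup Ω} [Finite S] (p : ℕ) [Fact p.Prime] (hS : IsPGroup p S) (F : Cfsg.FusionSystem S) (hF : F.IsSaturated p) (Q : Subgroup Ω) : F.IsNormal Q ↔ ∃ (n : ℕ) (Qs : Fin (n + 1) → Subgroup Ω), Qs 0 = ⊥ ∧ Qs (Fin.last n) = Q ∧ Monotone Qs ∧ ∀ i : Fin n, F.StronglyClosed (Qs i.succ) ∧ ⁅Q, Qs i.succ⁆ ≤ Qs (Fin.castSucc i) := by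
  constructor
  · intro h
    obtain ⟨n, hn, hN⟩ := exists_series_of_isNormal hS h
    refine ⟨n, fun i => Q.lowerCentralSeries (n - i), ?_, ?_, ?_, fun i => ?_⟩
    · simpa using hn
    · simp
    · intro i j hij
      exact Q.lowerCentralSeries_antitone (Nat.sub_le_sub_left hij n)
    · refine ⟨stronglyClosed_of_isNormal (hN _), ?_⟩
      simp only [Fin.val_succ, Fin.val_castSucc]
      rw [Subgroup.commutator_comm, show n - (i : ℕ) = n - ((i : ℕ) + 1) + 1 by omega]
      exact le_rfl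
  · rintro ⟨n, Qs, h0, hlast, hmono, h⟩
    let C : ℕ → Subgroup Ω := fun i => if hi : i ≤ n then Qs ⟨i, by omega⟩ else ⊥
    have hC : ∀ i (hi : i ≤ n), C i = Qs ⟨i, by omega⟩ := fun i hi => dif_pos hi
    have hsc : ∀ i ≤ n, F.StronglyClosed (C i) := by
      intro i hi
      rw [hC i hi]
      rcases Nat.eq_zero_or_pos i with rfl | hpos
      · rw [show (⟨0, by omega⟩ : Fin (n + 1)) = 0 from rfl, h0]
        exact stronglyClosed_of_isNormal isNormal_bot
      · obtain ⟨j, rfl⟩ : ∃ j, i = j + 1 := ⟨i - 1, by omega⟩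
        exact (h ⟨j, by omega⟩).1
    have hQ : F.StronglyClosed Q := by
      have h' := hsc n le_rfl
      rw [hC n le_rfl] at h'
      exact hlast ▸ h'
    refine isNormal_of_series hS hF hQ C n ?_ ?_ (fun i hi => ?_) hsc fun i hi => ?_
    · rw [hC 0 (Nat.zero_le _)]
      exact h0
    · rw [hC n le_rfl]
      exact hlast
    · rw [hC i hi, ← hlast]
      exact hmono (Fin.le_last _)
    · rw [hC i hi.le, hC (i + 1) hi]
      exact (h ⟨i, hi⟩).2

end Cfsg.Agent.S5088
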