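import Cfsg.Statements.S5089
import Cfsg.Agent.Lib.Fusion.Normal

set_option autoImplicit false
open Cfsg Cfsg.FusionSystem CfsgLib.Fusion

namespace Cfsg.Agent.S5089

/-- A saturated fusion system over a finite p-group has a nontrivial subgroup that is normal in the system (O_p(F) ≠ 1) if and only if some nontrivial abelian subgroup is strongly closed in the system. -/
theorem result {Ω : Type*} [Group Ω] {S : Subgroup Ω} [Finite S] (p : ℕ) [Fact p.Prime] (hS : IsPGroup p S) (F : Cfsg.FusionSystem S) (hF : F.IsSaturated p) : F.core ≠ ⊥ ↔ ∃ Q : Subgroup Ω, Q ≠ ⊥ ∧ IsMulCommutative Q ∧ F.StronglyClosed Q := by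
  constructor
  · intro h
    have hN := isNormal_core (F := F)
    have := finite_of_le hN.1
    have hne : Nontrivial F.core := (Subgroup.nontrivial_iff_ne_bot _).2 h
    let Z : Subgroup Ω := (Subgroup.center F.core).map F.core.subtype
    have hsub : Z.subgroupOf F.core = Subgroup.center F.core :=
      Subgroup.comap_map_eq_self_of_injective F.core.subtype_injective _
    refine ⟨Z, ?_, Subgroup.map_isMulCommutative _ _, stronglyClosed_of_isNormal
      (isNormal_of_characteristic hN (Subgroup.map_subtype_le _) (by rw [hsub]; infer_instance))⟩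
    rw [Ne, Subgroup.map_eq_bot_iff_of_injective _ F.core.subtype_injective]
    exact (Subgroup.nontrivial_iff_ne_bot _).1 (hS.to_le hN.1).center_nontrivial
  · rintro ⟨Q, hne, hab, hQ⟩ hbot
    have h := isNormal_of_commutative hS hF hQ
      (Subgroup.commutator_eq_bot_iff_le_centralizer.2 (Subgroup.le_centralizer Q))
    exact hne (le_bot_iff.1 (hbot ▸ le_sSup h))

end Cfsg.Agent.S5089
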