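import Cfsg.Statements.S5102
import Cfsg.Agent.Lib.Fusion.GroupSystem

set_option autoImplicit false
open Cfsg Cfsg.FusionSystem CfsgLib.Fusion

namespace Cfsg.Agent.S5102

/-- A normal p-subgroup of a finite group G is normal in the fusion system of G on a Sylow p-subgroup. -/
theorem result {G : Type*} [Group G] [Finite G] (p : ℕ) [Fact p.Prime] (S : Sylow p G) (R : Subgroup G) [R.Normal] (hR : IsPGroup p R) : (Cfsg.groupFusionSystem (S : Subgroup G)).IsNormal R := by
  have hRS : R ≤ (S : Subgroup G) := by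
    have h := eq_of_le_of_not_dvd (T := (S : Subgroup G)) (R := (S : Subgroup G) ⊔ R) (N := ⊤)
      (S.2.to_sup_of_normal_right hR) le_sup_left le_top
      (by rw [Subgroup.relIndex_top_right]; exact S.not_dvd_index)
    exact h ▸ le_sup_right
  refine ⟨hRS, ?_⟩
  rintro P φ ⟨hP, hφS, g, hg⟩
  have hR' : conjSub g R = R :=
    conjSub_eq_iff_mem_normalizer.2 (Subgroup.le_normalizer_of_normal (K := ⊤) trivial)
  refine ⟨conjHom (P ⊔ R) g, ⟨sup_le hP hRS, fun x => ?_, g, fun x => rfl⟩, fun x => ?_, ?_⟩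
  · have h1 : conjSub g (P ⊔ R) ≤ (S : Subgroup G) := by
      rw [conjSub, Subgroup.map_sup]
      refine sup_le ?_ (hR'.le.trans hRS)
      rintro _ ⟨y, hy, rfl⟩
      exact (show g * y * g⁻¹ ∈ (S : Subgroup G) from hg ⟨y, hy⟩ ▸ hφS ⟨y, hy⟩)
    exact h1 (conj_mem_conjSub x.2)
  · rw [conjHom_apply, hg]
    rfl
  · conv_rhs => rw [← hR']
    ext y
    constructor
    · rintro ⟨x, hx, rfl⟩
      exact conj_mem_conjSub hx
    · rintro ⟨x, hx, rfl⟩
      exact ⟨⟨x, le_sup_right (a := P) hx⟩, hx, rfl⟩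

end Cfsg.Agent.S5102
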