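import Cfsg.Statements.S5106
import Cfsg.Agent.Lib.Fusion.Normal

set_option autoImplicit false
open Cfsg Cfsg.FusionSystem CfsgLib.Fusion

namespace Cfsg.Agent.S5106

/-- In a saturated fusion system over a finite p-group S, a subgroup R ≤ S is normal in the system if and only if every map of the system whose source is a subgroup of R is the restriction of an element of Aut_F(R). -/
theorem result {Ω : Type*} [Group Ω] {S : Subgroup Ω} [Finite S] (p : ℕ) [Fact p.Prime] (hS : IsPGroup p S) (F : Cfsg.FusionSystem S) (hF : F.IsSaturated p) (R : Subgroup Ω) (hRS : R ≤ S) : F.IsNormal R ↔ ∀ (P : Subgroup Ω) (hPR : P ≤ R) (φ : P →* Ω), φ ∈ F.Hom P → ∃ α ∈ F.autGroup R, ∀ x : P, ((α (Subgroup.inclusion hPR x) : R) : Ω) = φ x := by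
  constructor
  · intro h P hPR φ hφ
    obtain ⟨ψ, hψ, hψe, hψR⟩ := h.2 P φ hφ
    obtain ⟨ψ', hψ', hψ'e⟩ := mem_of_eq_sup (sup_eq_right.2 hPR) hψ
    have hr : ψ'.range = R := by
      have h1 : img ψ R = ψ'.range := img_congr le_sup_right fun x => (hψ'e x).symm
      exact h1.symm.trans hψR
    obtain ⟨α, hα, hαe⟩ := exists_iso_of_range hψ' hr
    refine ⟨α, (mem_autGroup_iff F hRS).2 hα, fun x => ?_⟩
    rw [hαe, hψ'e, ← hψe]
    rfl
  · intro h
    have hsc : ∀ U : Subgroup Ω, U ≤ R → (U.subgroupOf R).Characteristic →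
        F.StronglyClosed U := by
      intro U hU hchar
      refine ⟨hU.trans hRS, fun P hP φ hφ x => ?_⟩
      obtain ⟨α, -, hαe⟩ := h P (hP.trans hU) φ hφ
      rw [← hαe]
      exact (Subgroup.characteristic_iff_map_eq.1 hchar α).le ⟨_, hP x.2, rfl⟩
    have := finite_of_le hRS
    obtain ⟨n, hn⟩ :=
      (Subgroup.isNilpotent_iff_lowerCentralSeries R).1 (hS.to_le hRS).isNilpotent
    have hR : F.StronglyClosed R := hsc R le_rfl (by rw [Subgroup.subgroupOf_self]; infer_instance)
    refine isNormal_of_series hS hF hR (fun i => R.lowerCentralSeries (n - i)) n (by simpa using hn)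
      (by simp) (fun i _ => R.lowerCentralSeries_le_self _)
      (fun i _ => hsc _ (R.lowerCentralSeries_le_self _) ?_) fun i hi => ?_
    · rw [← Subgroup.top_subtype_lowerCentralSeries, Subgroup.subgroupOf,
        Subgroup.comap_map_eq_self_of_injective R.subtype_injective]
      infer_instance
    · rw [Subgroup.commutator_comm, show n - i = n - (i + 1) + 1 by omega]
      exact le_rfl

end Cfsg.Agent.S5106
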