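import Cfsg.Statements.S5107
import Cfsg.Agent.Lib.Fusion.Normal
import Cfsg.Agent.Lib.Fusion.GroupSystem

set_option autoImplicit false
open Cfsg Cfsg.FusionSystem CfsgLib.Fusion

namespace Cfsg.Agent.S5107

/-- If a Sylow p-subgroup S of a finite group G has nilpotency class at most two and its centre is strongly closed in S with respect to G, then every map of the fusion system of G on S is conjugation by an element of N_G(S), and S is the largest subgroup normal in that fusion system. -/
theorem result {G : Type*} [Group G] [Finite G] (p : ℕ) [Fact p.Prime] (S : Sylow p G) (hcl : ⁅(S : Subgroup G), (S : Subgroup G)⁆ ≤ (S : Subgroup G) ⊓ Subgroup.centralizer ((S : Subgroup G) : Set G)) (hZ : Cfsg.IsStronglyClosed ((S : Subgroup G) ⊓ Subgroup.centralizer ((S : Subgroup G) : Set G)) (S : Subgroup G)) : (∀ (P : Subgroup G) (φ : P →* G), φ ∈ (Cfsg.groupFusionSystem (S : Subgroup G)).Hom P → ∃ g ∈ Subgroup.normalizer ((S : Subgroup G) : Set G), ∀ x : P, φ x = g * (x : G) * g⁻¹) ∧ (Cfsg.groupFusionSystem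 (S : Subgroup G)).core = S := by
  set T : Subgroup G := (S : Subgroup G)
  set Z : Subgroup G := T ⊓ Subgroup.centralizer (T : Set G)
  have hF : (groupFusionSystem T).IsSaturated p := isSaturated_groupFusion S
  have hZsc : (groupFusionSystem T).StronglyClosed Z := by
    refine ⟨inf_le_left, ?_⟩
    rintro R hR φ ⟨-, hφS, g, hg⟩ x
    rw [hg]
    exact hZ.2 x (hR x.2) g (hg x ▸ hφS x)
  have hT : (groupFusionSystem T).StronglyClosed T :=
    ⟨le_rfl, fun R _ φ hφ x => hφ.2.1 x⟩
  have hZT : ⁅T, Z⁆ = ⊥ := by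
    rw [Subgroup.commutator_eq_bot_iff_le_centralizer]
    exact Subgroup.le_centralizer_iff.1 inf_le_right
  have hN : (groupFusionSystem T).IsNormal T := by
    refine isNormal_of_series S.2 hF hT
      (fun i => if i = 0 then ⊥ else if i = 1 then Z else T) 2 rfl rfl
      (fun i _ => by split_ifs <;> simp [Z]) (fun i _ => ?_) fun i hi => ?_
    · split_ifs
      · exact stronglyClosed_of_isNormal isNormal_bot
      · exact hZsc
      · exact hT
    · interval_cases i
      · simpa using hZT.le
      · simpa using hcl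
  refine ⟨fun P φ hφ => ?_, le_antisymm (sSup_le fun Q hQ => hQ.1) (le_sSup hN)⟩
  obtain ⟨ψ, ⟨-, -, g, hg⟩, hψe, hψT⟩ := hN.2 P φ hφ
  have h2 : ∀ x : ↥(P ⊔ T), (x : G) ∈ T → g * (x : G) * g⁻¹ ∈ T := fun x hx => by
    rw [← hg]
    exact (show img ψ T = T from hψT).le (apply_mem_img ψ hx)
  refine ⟨g, mem_normalizer_of_forall fun x hx => h2 ⟨x, le_sup_right (a := P) hx⟩ hx, fun x => ?_⟩
  rw [← hψe, hg]
  rfl

end Cfsg.Agent.S5107
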