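import Cfsg.Statements.S5112
import Cfsg.Agent.Lib.Fusion.Dihedral
import Cfsg.Agent.Lib.Fusion.CyclicIndexTwo

set_option autoImplicit false
open Cfsg Cfsg.FusionSystem CfsgLib.Fusion

namespace Cfsg.Agent.S5112

/-- If S is a dihedral or generalized quaternion 2-group of order at least 16, then in every saturated fusion system over S (at the prime 2) the automorphism group Aut_F(S) consists of the inner automorphisms of S. -/
theorem result {Ω : Type*} [Group Ω] {S : Subgroup Ω} [Finite S] (n : ℕ) (hn : 4 ≤ n) (hshape : Nonempty (S ≃* DihedralGroup (2 ^ (n - 1))) ∨ Nonempty (S ≃* QuaternionGroup (2 ^ (n - 2)))) (F : Cfsg.FusionSystem S) (hF : F.IsSaturated 2) : F.autGroup S = Cfsg.Inn S := by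
  have hpull : ∀ {Q : Type} [Group Q], ↥S ≃* Q → IsPGroup 2 Q →
      (∀ β : MulAut Q, ∃ j : ℕ, β ^ 2 ^ j = 1) → IsPGroup 2 S ∧ ∀ α : MulAut S, ∃ j : ℕ, α ^ 2 ^ j = 1 := by
    intro Q _ e hQ h
    refine ⟨hQ.of_equiv e.symm, fun α => ?_⟩
    obtain ⟨j, hj⟩ := h (MulAut.congr e α)
    exact ⟨j, (MulAut.congr e).injective (by rw [map_pow, hj, map_one])⟩
  have key : IsPGroup 2 S ∧ ∀ α : MulAut S, ∃ j : ℕ, α ^ 2 ^ j = 1 := by
    rcases hshape with ⟨⟨e⟩⟩ | ⟨⟨e⟩⟩
    · have hP : IsPGroup 2 (DihedralGroup (2 ^ (n - 1))) :=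
        IsPGroup.of_card (n := n - 1 + 1) (by rw [DihedralGroup.nat_card, pow_succ']) 
      exact hpull e hP fun β => aut_pow_dihedral (by omega) hP β
    · have hP : IsPGroup 2 (QuaternionGroup (2 ^ (n - 2))) :=
        IsPGroup.of_card (n := n - 2 + 2) (by
          rw [Nat.card_eq_fintype_card, QuaternionGroup.card, pow_add]; ring)
      exact hpull e hP fun β => aut_pow_quaternion (by omega) hP β
  exact autGroup_self_eq_inn_of_pow key.1 hF key.2

end Cfsg.Agent.S5112
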