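import Cfsg.Statements.S5118
import Cfsg.Agent.Lib.Fusion.NormalSubgroupSystem

set_option autoImplicit false
open Cfsg Cfsg.FusionSystem CfsgLib.Fusion

namespace Cfsg.Agent.S5118

/-- For a finite group G with Sylow p-subgroup S and a normal subgroup H, the fusion system of H on S ∩ H is a normal subsystem of the fusion system of G on S. -/
theorem result {G : Type*} [Group G] [Finite G] (p : ℕ) [Fact p.Prime] (S : Sylow p G) (H : Subgroup G) [H.Normal] : (Cfsg.fusionSystemOfSubgroup H ((S : Subgroup G) ⊓ H) inf_le_right).IsNormalIn (Cfsg.groupFusionSystem (S : Subgroup G)) p := by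
  have hι : (groupFusionSystem (S : Subgroup G)).IsRealizedBy (S : Subgroup G).subtype :=
    ⟨Subgroup.subtype_injective _, fun P hP φ hφ =>
      ⟨fun ⟨_, _, g, hg⟩ => ⟨g, hg⟩, fun ⟨g, hg⟩ => ⟨hP, hφ, g, hg⟩⟩⟩
  have hT : (S : Subgroup G) ⊓ H = (H.comap (S : Subgroup G).subtype).map (S : Subgroup G).subtype := by
    rw [Subgroup.map_comap_eq, Subgroup.range_subtype]
  refine IsSubgroupSystem.isNormalIn (ι := (S : Subgroup G).subtype) (N := H) S.2 hι S
    (Subgroup.range_subtype _).symm ⟨hT, fun P φ => ⟨?_, ?_⟩⟩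
  · rintro ⟨hP, hφ, g, hg, hge⟩
    exact ⟨hP, hφ, fun _ _ => ⟨g, hg, hge⟩⟩
  · rintro ⟨hP, hφ, h⟩
    obtain ⟨n, hn, hne⟩ := h (hP.trans inf_le_left) fun x => (hφ x).1
    exact ⟨hP, hφ, n, hn, hne⟩

end Cfsg.Agent.S5118
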