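import Cfsg.Statements.S5122
import Cfsg.Agent.Lib.Fusion.GroupSystem

set_option autoImplicit false
open Cfsg Cfsg.FusionSystem CfsgLib.Fusion

namespace Cfsg.Agent.S5122

/-- Let G be a finite group with Sylow p-subgroup S. Every subgroup P of S has a G-conjugate Q ≤ S such that N_S(Q) is a Sylow p-subgroup of N_G(Q); and for any Q ≤ S with that property, C_S(Q) is a Sylow p-subgroup of C_G(Q) and the automorphisms of Q induced by N_S(Q) form a Sylow p-subgroup of those induced by N_G(Q). -/
theorem result {G : Type*} [Group G] [Finite G] (p : ℕ) [Fact p.Prime] (S : Sylow p G) : (∀ P : Subgroup G, P ≤ S → ∃ g : G, P.map (MulAut.conj g).toMonoidHom ≤ S ∧ (∃ R : Sylow p ↥(Subgroup.normalizer ((P.map (MulAut.conj g).toMonoidHom : Subgroup G) : Set G)), (R : Subgroup ↥(Subgroup.normalizer ((P.map (MulAut.conj g).toMonoidHom : Subgroup G) : Set G))) = (Cfsg.FusionSystem.normalizerIn (S : Subgroup G) (P.map (MulAut.conj g).toMonoidHom)).subgroupOf (Subgroup.normalizer ((P.map (MulAut.conj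 g).toMonoidHom : Subgroup G) : Set G)))) ∧ ∀ Q : Subgroup G, Q ≤ S → (∃ R : Sylow p ↥(Subgroup.normalizer (Q : Set G)), (R : Subgroup ↥(Subgroup.normalizer (Q : Set G))) = (Cfsg.FusionSystem.normalizerIn (S : Subgroup G) Q).subgroupOf (Subgroup.normalizer (Q : Set G))) → (∃ R : Sylow p ↥(Subgroup.centralizer (Q : Set G)), (R : Subgroup ↥(Subgroup.centralizer (Q : Set G))) = (Cfsg.FusionSystem.centralizerIn (S : Subgroup G) Q).subgroupOf (Subgroup.centralizer (Q : Set G))) ∧ (∃ R : Sylow p ↥(Cfsg.autInducedBy ⊤ Q), (R : Subgroup ↥(Cfsg.autInducedBy ⊤ Q)) = (Cfsg.autInducedBy (S : Subgroup G) Q).subgroupOf (Cfsg.autInducedBy ⊤ Q)) := by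
  constructor
  · intro P hP
    obtain ⟨g, hg, hN, -⟩ := exists_conjSub_good S hP
    exact ⟨g, hg, (exists_sylow_iff (S.2.to_le (normalizerIn_le _))).2 hN⟩
  · intro Q hQ hR
    rw [exists_sylow_iff (S.2.to_le (normalizerIn_le Q))] at hR
    rw [exists_sylow_iff (S.2.to_le (centralizerIn_le Q)),
      exists_sylow_iff (isPGroup_autInducedBy S.2 Q)]
    refine ⟨?_, ?_⟩
    · have h := not_dvd_relIndex_inf (S.2.to_le (normalizerIn_le Q)) inf_le_right hR
        (centralizer_le_normalizer' Q) (normalizer_le_normalizer_centralizer Q)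
      convert h using 2
      rw [normalizerIn, centralizerIn, inf_assoc, inf_eq_right.2 (centralizer_le_normalizer' Q)]
    · rw [← autGroup_groupFusion hQ]
      exact ((isFullyAutomized_iff S.2).1 (isFullyAutomized_groupFusion S hQ hR)).2

end Cfsg.Agent.S5122
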