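import Cfsg.Statements.S5124
import Cfsg.Agent.Lib.Fusion.HypFocal

set_option autoImplicit false
open Cfsg Cfsg.FusionSystem CfsgLib.Fusion

namespace Cfsg.Agent.S5124

/-- In a saturated fusion system over a finite p-group S the hyperfocal subgroup is strongly closed in the system. -/
theorem result {Ω : Type*} [Group Ω] {S : Subgroup Ω} [Finite S] (p : ℕ) [Fact p.Prime] (hS : IsPGroup p S) (F : Cfsg.FusionSystem S) (hF : F.IsSaturated p) : F.StronglyClosed (F.hyperfocalSubgroup p) := by
  refine ⟨hyperfocalSubgroup_le p, fun R hR φ hφ x => ?_⟩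
  obtain ⟨g, hg, h⟩ := exists_conj_mod_hyperfocal hS hF hφ
  have h1 := (conj_mem_iff_of_le_normalizer (le_normalizer_hyperfocalSubgroup p) hg).2 (hR x.2)
  have h2 := (F.hyperfocalSubgroup p).mul_mem h1 (h x)
  rwa [mul_inv_cancel_left] at h2

end Cfsg.Agent.S5124
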