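import Cfsg.Statements.S5126
import Cfsg.Agent.Lib.Fusion.NormalizerSat
import Cfsg.Agent.Lib.Fusion.ModelBasic

set_option autoImplicit false
open Cfsg Cfsg.FusionSystem CfsgLib.Fusion

namespace Cfsg.Agent.S5126

/-- In a saturated fusion system over a finite p-group S, the normalizer system of a fully normalized, centric, radical subgroup R is constrained, and in every model of that normalizer system the largest normal p-subgroup is the image of R. -/
theorem result {Ω : Type*} [Group Ω] {S : Subgroup Ω} [Finite S] (p : ℕ) [Fact p.Prime] (hS : IsPGroup p S) (F : Cfsg.FusionSystem S) (hF : F.IsSaturated p) (R : Subgroup Ω) (hRn : F.IsFullyNormalized R) (hRc : F.IsCentric R) (hRr : F.IsRadical p R) (E : Cfsg.FusionSystem (Cfsg.FusionSystem.normalizerIn S R)) (hE : F.IsNormalizerSystem R E) {G : Type*} [Group G] (ι : ↥(Cfsg.FusionSystem.normalizerIn S R) →* G) : E.IsConstrained p ∧ (E.IsModel p G ι → (Cfsg.pCore p G : Subgroup G) = (R.subgroupOf (Cfsg.FusionSystem.normalizerIn S R)).map ι)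 := by
  have hR : E.IsNormal R := isNormal_normalizerSystem hRc.1 hE
  have hc : centralizerIn (normalizerIn S R) R ≤ R :=
    (inf_le_inf_right _ (normalizerIn_le R)).trans (hRc.2 R (isConj_refl hRc.1))
  have : Finite (normalizerIn S R) := finite_of_le (normalizerIn_le R)
  refine ⟨⟨isSaturated_normalizerSystem hS hF hRn E hE, R, hR, hR.1, fun Q hQ => ?_⟩, fun hM => ?_⟩
  · obtain ⟨φ, hφ, rfl⟩ := hQ
    rw [(weaklyClosed_of_stronglyClosed (stronglyClosed_of_isNormal hR)).2 φ hφ]
    exact hc
  refine pCore_eq_of_isModel (hS.to_le (normalizerIn_le R)) hM hR hc ⟨hR.1, ?_⟩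
  have hA : E.autGroup R = F.autGroup R := by
    ext α
    rw [mem_autGroup_iff E hR.1, mem_autGroup_iff F hRc.1, IsIso, IsIso, hE R]
    refine ⟨fun h => h.1, fun h => ?_⟩
    obtain ⟨ψ, hψ, hψe⟩ := mem_of_eq_sup (sup_idem R).symm h
    refine ⟨h, hR.1, fun x => hR.1 (α x).2, ψ, hψ, fun x => hψe _, ?_⟩
    change img ψ R = R
    ext y
    rw [mem_img]
    constructor
    · rintro ⟨z, -, rfl⟩
      rw [hψe]
      exact (α _).2
    · intro hy
      refine ⟨Subgroup.inclusion le_sup_left (α.symm ⟨y, hy⟩), (α.symm ⟨y, hy⟩).2, ?_⟩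
      rw [hψe]
      exact congrArg Subtype.val (α.apply_symm_apply ⟨y, hy⟩)
  rw [hA]
  exact hRr.2

end Cfsg.Agent.S5126
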