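import Cfsg.Statements.S5135
import Cfsg.Agent.Lib.Fusion.FactorBasic
import Cfsg.Agent.Lib.Fusion.SylowTools

set_option autoImplicit false
open Cfsg Cfsg.FusionSystem CfsgLib.Fusion

namespace Cfsg.Agent.S5135

/-- Let G be a finite group, S a Sylow p-subgroup and H a normal subgroup of G. Then the fusion system of G/H on the image SH/H of S is the factor system of the fusion system of G on S modulo S ∩ H, read through the quotient map restricted to S: for each subgroup P' of SH/H, the conjugation maps by elements of G/H defined on P' with values in SH/H are exactly the homomorphisms induced by the conjugation maps by elements of G defined on the full preimage of P' in S with values in S. -/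
theorem result {G : Type*} [Group G] [Finite G] (p : ℕ) [Fact p.Prime] (S : Sylow p G) (H : Subgroup G) [H.Normal] : (Cfsg.groupFusionSystem (S : Subgroup G)).IsFactorSystem ((S : Subgroup G) ⊓ H) ((QuotientGroup.mk' H).comp (S : Subgroup G).subtype) (Cfsg.groupFusionSystem ((S : Subgroup G).map (QuotientGroup.mk' H))) := by
  have hker : ∀ s : (S : Subgroup G),
      ((QuotientGroup.mk' H).comp (S : Subgroup G).subtype) s = 1 ↔ (s : G) ∈ (S : Subgroup G) ⊓ H :=
    fun s => (QuotientGroup.eq_one_iff (s : G)).trans ⟨fun h => ⟨s.2, h⟩, fun h => h.2⟩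
  refine ⟨inf_le_left, hker, ?_, fun P' φ' => ⟨?_, ?_⟩⟩
  · rw [MonoidHom.range_comp, Subgroup.range_subtype]
  · rintro ⟨hP', hφS', g', hg'⟩
    obtain ⟨g, rfl⟩ := QuotientGroup.mk'_surjective H g'
    set θ := (QuotientGroup.mk' H).comp (S : Subgroup G).subtype with hθ
    let P := preimageAlong θ P'
    have hPS : P ≤ (S : Subgroup G) := preimageAlong_le θ P'
    have hU : ∀ x ∈ P, g * x * g⁻¹ ∈ (S : Subgroup G) ⊔ H := by
      rintro _ ⟨s, hs, rfl⟩
      have h1 := hφS' ⟨θ s, hs⟩
      rw [hg'] at h1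
      obtain ⟨t, ht, hte⟩ := h1
      have h2 : t⁻¹ * (g * s * g⁻¹) ∈ H := by
        rw [← QuotientGroup.eq_one_iff]
        change QuotientGroup.mk' H (t⁻¹ * (g * s * g⁻¹)) = 1
        rw [map_mul, map_inv, hte, inv_mul_eq_one, map_mul, map_mul, map_inv]
        rfl
      have h3 := Subgroup.mul_mem_sup ht h2
      rwa [mul_inv_cancel_left] at h3
    obtain ⟨n, hn, hne⟩ := exists_conj_mem_of_le (p := p) (U := P.map (MulAut.conj g).toMonoidHom)
      (T := (S : Subgroup G)) (N := (S : Subgroup G) ⊔ H)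
      ((S.2.to_le hPS).map _) S.2 (by rintro _ ⟨x, hx, rfl⟩; exact hU x hx) le_sup_left
      (fun h => S.not_dvd_index (by
        rw [← Subgroup.relIndex_mul_index (le_sup_left : (S : Subgroup G) ≤ (S : Subgroup G) ⊔ H)]
        exact dvd_mul_of_dvd_left h _))
    obtain ⟨s, hs, h, hh, rfl⟩ := Subgroup.mem_sup_of_normal_right.1 hn
    have hmem : ∀ x ∈ P, h * g * x * (h * g)⁻¹ ∈ (S : Subgroup G) := by
      intro x hx
      have h1 := hne (g * x * g⁻¹) ⟨x, hx, rfl⟩
      have h2 := Subgroup.mul_mem _ (Subgroup.mul_mem _ (Subgroup.inv_mem _ hs) h1) hs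
      convert h2 using 1
      group
    refine ⟨hP', conjHom P (h * g), ⟨hPS, fun x => hmem x x.2, h * g, fun x => rfl⟩,
      hPS, fun x => hmem x x.2, fun x => mem_preimageAlong.1 x.2, fun x => ?_⟩
    rw [hg']
    have hh1 : QuotientGroup.mk' H h = 1 := (QuotientGroup.eq_one_iff h).2 hh
    change _ = QuotientGroup.mk' H (h * g * x * (h * g)⁻¹)
    rw [map_mul, map_mul, map_inv, map_mul, hh1, one_mul]
    rfl
  · rintro ⟨hP', φ, ⟨hPS, hφS, g, hg⟩, hP, hφS', hθP, he⟩
    refine ⟨hP', ?_, QuotientGroup.mk' H g, ?_⟩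
    · rintro ⟨y, hy⟩
      obtain ⟨s, hs, rfl⟩ := hP' hy
      exact (he ⟨s, ⟨⟨s, hs⟩, hy, rfl⟩⟩).symm ▸ ⟨_, hφS' _, rfl⟩
    · rintro ⟨y, hy⟩
      obtain ⟨s, hs, rfl⟩ := hP' hy
      refine (he ⟨s, ⟨⟨s, hs⟩, hy, rfl⟩⟩).trans ?_
      change QuotientGroup.mk' H (φ _) = _
      rw [hg, map_mul, map_mul, map_inv]

end Cfsg.Agent.S5135
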