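import Cfsg.Statements.S5148
import Cfsg.Agent.Lib.Fusion.HyperFactor
import Cfsg.Agent.Lib.Fusion.InnerSat
import Cfsg.Agent.Lib.Fusion.NormSys

set_option autoImplicit false
open Cfsg Cfsg.FusionSystem CfsgLib.Fusion

namespace Cfsg.Agent.S5148

/-- A quasisimple fusion system over a finite p-group S (saturated, equal to its p-residual subsystem, with simple — in particular nontrivial — factor system modulo its centre) has S nonabelian. -/
theorem result {Ω : Type*} [Group Ω] {S : Subgroup Ω} [Finite S] (p : ℕ) [Fact p.Prime] (hS : IsPGroup p S) (F : Cfsg.FusionSystem S) (hq : F.Quasisimple p) : ¬ IsMulCommutative S := by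
  obtain ⟨hF, hperf, hsimp⟩ := hq
  intro hab
  have hcomm : ∀ x ∈ S, ∀ y ∈ S, x * y = y * x := fun x hx y hy =>
    congrArg Subtype.val (hab.is_comm.comm (⟨x, hx⟩ : S) ⟨y, hy⟩)
  obtain ⟨hCS, hC⟩ := isCentral_center (F := F)
  have hsc : F.StronglyClosed F.center := stronglyClosed_of_isNormal ⟨hCS, fun P φ hφ => by
    obtain ⟨ψ, hψ, hψe, hψC⟩ := hC P φ hφ
    exact ⟨ψ, hψ, hψe, img_eq_of_forall_fixed le_sup_right hψC⟩⟩
  set θ := QuotientGroup.mk' ((F.center).subgroupOf S)
  have hker : ∀ s : S, θ s = 1 ↔ (s : Ω) ∈ F.center := fun s =>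
    (QuotientGroup.eq_one_iff s).trans Subgroup.mem_subgroupOf
  have hr : θ.range = ⊤ := MonoidHom.range_eq_top.2 (QuotientGroup.mk'_surjective _)
  have hE := isFactorSystem_factorSystem hsc hker hr
  have hEs := hsimp _ hE
  set E := factorSystem hsc hker hr
  have hp' : IsPGroup p (⊤ : Subgroup (↥S ⧸ (F.center).subgroupOf S)) :=
    (hS.to_quotient _).to_subgroup ⊤
  have hcomm' : ∀ x ∈ (⊤ : Subgroup (↥S ⧸ (F.center).subgroupOf S)),
      ∀ y ∈ (⊤ : Subgroup (↥S ⧸ (F.center).subgroupOf S)), x * y = y * x := by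
    intro x _ y _
    obtain ⟨a, rfl⟩ := QuotientGroup.mk'_surjective _ x
    obtain ⟨b, rfl⟩ := QuotientGroup.mk'_surjective _ y
    rw [← map_mul, ← map_mul, hab.is_comm.comm]
  obtain ⟨-, hinner⟩ := (isSimple_iff_of_comm hp' hEs.1 hcomm').1 hEs
  have hbot : E.hyperfocalSubgroup p = ⊥ := by
    rw [eq_bot_iff]
    refine (Subgroup.closure_le _).2 ?_
    rintro _ ⟨P, α, x, hP, -, rfl⟩
    have h1 := (mem_autGroup_iff E hP).1 α.2
    rw [IsIso, hinner] at h1
    obtain ⟨-, g, hg, hge⟩ := h1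
    have h2 : (((α : MulAut P) x : P) : _) = (x : ↥S ⧸ (F.center).subgroupOf S) :=
      (hge x).trans (by rw [hcomm' g hg _ (hP x.2), mul_inv_cancel_right])
    rw [h2, inv_mul_cancel]
    exact one_mem _
  have h := hyperfocalSubgroup_factor hS hF hsc hE
  rw [hbot, hperf, Subgroup.subgroupOf_self] at h
  exact hEs.2.1 ((h.trans (Subgroup.map_top_of_surjective _ (QuotientGroup.mk'_surjective _))).symm)

end Cfsg.Agent.S5148
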