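import Cfsg.Statements.S5153
import Cfsg.Agent.Lib.Fusion.StronglyClosedSub

set_option autoImplicit false
open Cfsg Cfsg.FusionSystem CfsgLib.Fusion

namespace Cfsg.Agent.S5153

/-- Let F be a saturated fusion system over a finite p-group S and E a subnormal subsystem of F over T. Then every subgroup of T that is fully normalized in F is fully normalized in E. -/
theorem result {Ω : Type*} [Group Ω] {S : Subgroup Ω} [Finite S] (p : ℕ) [Fact p.Prime] (hS : IsPGroup p S) (F : Cfsg.FusionSystem S) (hF : F.IsSaturated p) {T : Subgroup Ω} (E : Cfsg.FusionSystem T) (hE : E.IsSubnormalIn F p) (P : Subgroup Ω) (hPT : P ≤ T) (hP : F.IsFullyNormalized P) : E.IsFullyNormalized P := by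
  have key : T ≤ S ∧ (IsPGroup p S → Finite S → Fact p.Prime → F.IsSaturated p →
      ∀ P ≤ T, F.IsFullyNormalized P → E.IsFullyNormalized P) := by
    clear hS hF hPT hP P
    induction hE with
    | refl F p => exact ⟨le_rfl, fun _ _ _ _ P _ h => h⟩
    | step h₁ h₂ ih =>
      obtain ⟨⟨hD, hF, hsub, hU, -⟩, -⟩ := h₂
      obtain ⟨hTU, ih⟩ := ih
      refine ⟨hTU.trans hU.1, fun hS _ _ _ P hPT hP => ?_⟩
      exact ih (hS.to_le hU.1) (finite_of_le hU.1) inferInstance hD P hPT
        (fullyNormalized_of_stronglyClosed hS hF hU hsub (hPT.trans hTU) hP)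
  exact key.2 hS inferInstance inferInstance hF P hPT hP

end Cfsg.Agent.S5153
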