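import Cfsg.Statements.S5160
import Cfsg.Agent.Lib.Fusion.Invariant
import Cfsg.Agent.Lib.Fusion.GroupSystem

set_option autoImplicit false
open Cfsg Cfsg.FusionSystem CfsgLib.Fusion

namespace Cfsg.Agent.S5160

/-- Let G be a finite group with nontrivial Sylow p-subgroup S and F its fusion system on S. Suppose (a) no nontrivial proper subgroup of S is strongly closed in F, and (b) the automorphisms of S induced by G are generated by those induced, for R running over the fully normalized radical centric subgroups of F, by the subgroup of N_G(R) generated by its elements of p-power order. Then F is simple. -/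
theorem result {G : Type*} [Group G] [Finite G] (p : ℕ) [Fact p.Prime] (S : Sylow p G) (hS1 : (S : Subgroup G) ≠ ⊥) (ha : ∀ T : Subgroup G, (Cfsg.groupFusionSystem (S : Subgroup G)).StronglyClosed T → T = ⊥ ∨ T = (S : Subgroup G)) (hb : Cfsg.autInducedBy ⊤ (S : Subgroup G) = ⨆ (R : Subgroup G) (_ : (Cfsg.groupFusionSystem (S : Subgroup G)).IsFullyNormalized R ∧ (Cfsg.groupFusionSystem (S : Subgroup G)).IsRadical p R ∧ (Cfsg.groupFusionSystem (S : Subgroup G)).IsCentric R), Cfsg.autInducedBy (Subgroup.closure {g : G | g ∈ Subgroup.normalizer (R : Set G) ∧ ∃ k : ℕ, orderOf g = p ^ k}) (S : Subgroup G)) : (Cfsg.groupFusionSystem (S : Subgroup G)).IsSimple p := by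
  have hS := S.2
  refine isSimple_of_criterion hS (isSaturated_groupFusion S) hS1 ha fun E hEs hinv => ?_
  have hE := hinv.1
  have hcc := conjClosed_of_isInvariantIn hinv
  rw [autGroup_groupFusion le_rfl, hb]
  refine iSup₂_le fun R hR => ?_
  obtain ⟨hRn, -, hRc⟩ := hR
  intro α hα
  obtain ⟨g, hg, hgα⟩ := mem_autInducedBy_iff.1 hα
  have ha' := (fullyAutomized_receptive_of_fullyNormalized hS (isSaturated_groupFusion S) hRn).1
  -- the automorphism of `R` lies in `E`
  let K : Subgroup (Subgroup.normalizer (R : Set G)) :=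
    (E.autGroup R).comap R.normalizerMonoidHom
  have hK : Subgroup.closure {g : G | g ∈ Subgroup.normalizer (R : Set G) ∧
      ∃ k : ℕ, orderOf g = p ^ k} ≤ K.map (Subgroup.normalizer (R : Set G)).subtype := by
    rw [Subgroup.closure_le]
    rintro h ⟨hhN, k, hk⟩
    refine ⟨⟨h, hhN⟩, ?_, rfl⟩
    refine mem_autGroup_of_pow_eq_one hS hE hcc ha' ?_ (k := k) ?_
    · rw [autGroup_groupFusion hRn.1]
      exact mem_autInducedBy_iff.2 ⟨h, trivial, fun x => rfl⟩
    · rw [← map_pow, show (⟨h, hhN⟩ : Subgroup.normalizer (R : Set G)) ^ p ^ k = 1 from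
        Subtype.ext (by simp [← hk, pow_orderOf_eq_one]), map_one]
  obtain ⟨⟨g', hgN⟩, hgE, rfl⟩ := hK hg
  refine mem_autGroup_of_restrict hS (isSaturated_groupFusion S) hEs hE (R := R) ?_ hRc ?_ ?_
  · rw [autGroup_groupFusion le_rfl]
    exact mem_autInducedBy_iff.2 ⟨g', trivial, hgα⟩
  · intro x
    rw [hgα x]
    exact Subgroup.mem_normalizer_iff.1 hgN x
  · exact mem_of_eq rfl ((mem_autGroup_iff E hRn.1).1 hgE) fun x => hgα _

end Cfsg.Agent.S5160
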