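import Cfsg.Statements.S5166
import Cfsg.Agent.Lib.Fusion.MathieuCert11
import Cfsg.Agent.Lib.Fusion.MathieuCards
import Cfsg.Agent.Lib.Golay.Dodecad

set_option autoImplicit false
open Cfsg CfsgLib.Golay CfsgLib.Fusion CfsgLib.Fusion.PermCert

open scoped Pointwise

namespace Cfsg.Agent.S5166

/-- The 2-fusion system of the Mathieu group M₁₁ (as the explicit permutation group carved out of the automorphism group of the binary Golay code) on a Sylow 2-subgroup is simple: saturated, over a nontrivial 2-group, with no normal subsystem other than the trivial one and itself. -/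
theorem result (S : Sylow 2 Cfsg.Spor.M11) : (Cfsg.groupFusionSystem (S : Subgroup Cfsg.Spor.M11)).IsSimple 2 := by
  refine isSimple_of_cert Cfsg.Spor.M11 (test := M11.test) (fun L hv h => ?_) ?_ M11.cert
    (m := 495) ?_ (by decide) S
  · simp only [M11.test, Bool.and_eq_true, decide_eq_true_eq] at h
    refine mem_M11.2 ⟨mem_M12.2 ⟨mem_M24_of_test h.1.1, ?_⟩, ?_⟩
    · have h1 := smul_toSet hv 340831
      rwa [h.1.2] at h1
    · have h1 := smul_toSet hv 1
      rw [h.2, toSet_one, Finset.smul_finset_singleton, Finset.singleton_inj] at h1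
      exact h1
  · intro g hg m hm
    simp only [M11.masks, List.mem_cons, List.not_mem_nil, or_false] at hm
    obtain ⟨hg12, hg0⟩ := mem_M11.1 hg
    rcases hm with rfl | rfl
    · exact (mem_M12.1 hg12).2
    · rw [toSet_one]
      exact smul_singleton_of_fixed hg0
  · rw [M11.gens_length]; exact card_M11

end Cfsg.Agent.S5166
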