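import Cfsg.Statements.S5167
import Cfsg.Agent.Lib.Fusion.MathieuCert12
import Cfsg.Agent.Lib.Fusion.MathieuCards
import Cfsg.Agent.Lib.Golay.Dodecad

set_option autoImplicit false
open Cfsg CfsgLib.Golay CfsgLib.Fusion CfsgLib.Fusion.PermCert

open scoped Pointwise

namespace Cfsg.Agent.S5167

/-- The 2-fusion system of the Mathieu group M₁₂ (as the explicit permutation group carved out of the automorphism group of the binary Golay code) on a Sylow 2-subgroup is simple: saturated, over a nontrivial 2-group, with no normal subsystem other than the trivial one and itself. -/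
theorem result (S : Sylow 2 Cfsg.Spor.M12) : (Cfsg.groupFusionSystem (S : Subgroup Cfsg.Spor.M12)).IsSimple 2 := by
  refine isSimple_of_cert Cfsg.Spor.M12 (test := M12.test) (fun L hv h => ?_) ?_ M12.cert
    (m := 1485) ?_ (by decide) S
  · simp only [M12.test, Bool.and_eq_true, decide_eq_true_eq] at h
    refine mem_M12.2 ⟨mem_M24_of_test h.1, ?_⟩
    have h1 := smul_toSet hv 340831
    rwa [h.2] at h1
  · intro g hg m hm
    simp only [M12.masks, List.mem_singleton] at hm
    subst hm
    exact (mem_M12.1 hg).2
  · rw [M12.gens_length]; exact card_M12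

end Cfsg.Agent.S5167
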