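import Cfsg.Statements.S5169
import Cfsg.Agent.Lib.Fusion.MathieuCert23
import Cfsg.Agent.Lib.Fusion.MathieuCards

set_option autoImplicit false
open Cfsg CfsgLib.Golay CfsgLib.Fusion CfsgLib.Fusion.PermCert

open scoped Pointwise

namespace Cfsg.Agent.S5169

/-- The 2-fusion system of the Mathieu group M₂₃ (as the explicit permutation group carved out of the automorphism group of the binary Golay code) on a Sylow 2-subgroup is simple: saturated, over a nontrivial 2-group, with no normal subsystem other than the trivial one and itself. -/
theorem result (S : Sylow 2 Cfsg.Spor.M23) : (Cfsg.groupFusionSystem (S : Subgroup Cfsg.Spor.M23)).IsSimple 2 := by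
  refine isSimple_of_cert Cfsg.Spor.M23 (test := M23.test) (fun L hv h => ?_) ?_ M23.cert
    (m := 79695) ?_ (by decide) S
  · simp only [M23.test, Bool.and_eq_true, decide_eq_true_eq] at h
    refine Subgroup.mem_inf.2 ⟨mem_M24_of_test h.1, ?_⟩
    have h1 := smul_toSet hv 8388608
    rw [h.2, show toSet 8388608 = {(none : GolayPt)} from toSet_top_bit,
      Finset.smul_finset_singleton, Finset.singleton_inj] at h1
    exact h1
  · intro g hg m hm
    simp only [M23.masks, List.mem_singleton] at hm
    subst hm
    rw [show toSet 8388608 = {(none : GolayPt)} from toSet_top_bit]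
    exact smul_singleton_of_fixed (Subgroup.mem_inf.1 hg).2
  · rw [M23.gens_length]; exact card_M23

end Cfsg.Agent.S5169
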