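import Cfsg.Statements.S5170
import Cfsg.Agent.Lib.Fusion.MathieuCert24
import Cfsg.Agent.Lib.Fusion.MathieuCards

set_option autoImplicit false
open Cfsg CfsgLib.Golay CfsgLib.Fusion CfsgLib.Fusion.PermCert

open scoped Pointwise

namespace Cfsg.Agent.S5170

/-- The 2-fusion system of the Mathieu group M₂₄ (as the explicit permutation group of the 24 points preserving the binary Golay code) on a Sylow 2-subgroup is simple: saturated, over a nontrivial 2-group, with no normal subsystem other than the trivial one and itself. -/
theorem result (S : Sylow 2 Cfsg.M24) : (Cfsg.groupFusionSystem (S : Subgroup Cfsg.M24)).IsSimple 2 := by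
  refine isSimple_of_cert Cfsg.M24 (test := M24.test) (fun L _ h => mem_M24_of_test h) ?_ M24.cert
    (m := 239085) ?_ (by decide) S
  · simp [M24.masks]
  · rw [M24.gens_length]; exact card_M24

end Cfsg.Agent.S5170
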