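import Cfsg.Statements.S5191
import Cfsg.Agent.Lib.Fusion.GroupSystem

set_option autoImplicit false
open Cfsg Cfsg.FusionSystem CfsgLib.Fusion

namespace Cfsg.Agent.S5191

/-- Fusion in a finite group G and in its quotient by O_{p'}(G) agree. Let S be a Sylow p-subgroup of G, N = O_{p'}(G) and P ≤ S. If an element of G/N conjugates the image of P into the image of S, then some element g of G conjugates P into S and induces the same map on P modulo N. (Together with the injectivity of S → G/N this says that g ↦ gN induces an isomorphism of the fusion system of G on S with that of G/N on SN/N.) -/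
theorem result {G : Type*} [Group G] [Finite G] {p : ℕ} [Fact p.Prime]
    [hN : (Cfsg.pPrimeCore p G).Normal] (S : Sylow p G) (P : Subgroup G) (hP : P ≤ (S : Subgroup G))
    (γ : G ⧸ Cfsg.pPrimeCore p G)
    (hγ : ∀ x ∈ P, γ * QuotientGroup.mk x * γ⁻¹ ∈ ((S : Subgroup G).map (QuotientGroup.mk' (Cfsg.pPrimeCore p G)))) :
    ∃ g : G, ∀ x ∈ P, g * x * g⁻¹ ∈ S ∧
      (QuotientGroup.mk (g * x * g⁻¹) : G ⧸ Cfsg.pPrimeCore p G) = γ * QuotientGroup.mk x * γ⁻¹ := by
  obtain ⟨g, rfl⟩ := QuotientGroup.mk_surjective γ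
  set N := Cfsg.pPrimeCore p G
  have hM : conjSub g P ≤ (S : Subgroup G) ⊔ N := by
    rintro _ ⟨x, hx, rfl⟩
    obtain ⟨s, hs, hsx⟩ := hγ x hx
    have h1 : s⁻¹ * (g * x * g⁻¹) ∈ N := QuotientGroup.eq.1 hsx
    have h2 := Subgroup.mul_mem_sup (S := (S : Subgroup G)) hs h1
    simpa using h2
  obtain ⟨y, hy, hyM⟩ := exists_conj_mem_of_le (U := conjSub g P) (T := (S : Subgroup G))
    (N := (S : Subgroup G) ⊔ N) ((S.2.to_le hP).map _) S.2 hM le_sup_left
    (fun h => S.not_dvd_index (h.trans (Subgroup.relIndex_dvd_index_of_le le_sup_left)))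
  obtain ⟨k, hk, c, hc, rfl⟩ := Subgroup.mem_sup_of_normal_right.1 hy
  refine ⟨c * g, fun x hx => ⟨?_, ?_⟩⟩
  · have := (S : Subgroup G).mul_mem ((S : Subgroup G).mul_mem ((S : Subgroup G).inv_mem hk)
      (hyM _ (conj_mem_conjSub (g := g) hx))) hk
    change c * g * x * (c * g)⁻¹ ∈ (S : Subgroup G)
    simpa [mul_assoc] using this
  · have hc' : (QuotientGroup.mk c : G ⧸ N) = 1 := (QuotientGroup.eq_one_iff c).2 hc
    change ((c * g * x * (c * g)⁻¹ : G) : G ⧸ N) = _
    rw [QuotientGroup.mk_mul, QuotientGroup.mk_inv, QuotientGroup.mk_mul, QuotientGroup.mk_mul, hc',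
      one_mul]

end Cfsg.Agent.S5191
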