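import Cfsg.Statements.S5193
import Cfsg.Agent.Lib.Transfer.FusionGlauberman

set_option autoImplicit false
open Cfsg
open scoped commutatorElement

namespace Cfsg.Agent.S5193

/-- Glauberman's Theorem for fusion systems. Let F be a saturated fusion system over a finite p-group S, let J(S) be the subgroup generated by the abelian subgroups of S of largest order, and let N be the normalizer fusion system of J(S) in F (a fusion system over N_S(J(S)) = S). Then every p-th power of an element of Z(S) that lies in the centre of N lies in the centre of F; and if p is odd, or if the symmetric group of degree 4 is not involved in any model of the normalizer system of a fully normalized F-centric subgroup (F is S₄-free), then the centre of N equals the centre of F. -/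
theorem result {Ω : Type*} [Group Ω] {S : Subgroup Ω} [Finite S] (p : ℕ) [Fact p.Prime] (hS : IsPGroup p S) (F : Cfsg.FusionSystem S) (hF : F.IsSaturated p) (N : Cfsg.FusionSystem (Cfsg.FusionSystem.normalizerIn S (Cfsg.thompsonSubgroupAOf S))) (hN : F.IsNormalizerSystem (Cfsg.thompsonSubgroupAOf S) N) : Subgroup.closure ((fun z : Ω => z ^ p) '' ((S ⊓ Subgroup.centralizer (S : Set Ω) : Subgroup Ω) : Set Ω)) ⊓ N.center ≤ F.center ∧ (p ≠ 2 ∨ F.IsSectionFree p (Equiv.Perm (Fin 4)) → N.center = F.center) := by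
  open Cfsg.FusionSystem CfsgLib.Fusion in
  have hJS : Cfsg.thompsonSubgroupAOf S ≤ S :=
    CfsgLib.PStab.thompsonSubgroupAOf_eq_jGen S ▸ CfsgLib.PStab.jGen_le 0 S
  have hW2 : ∀ (Q R : Type _) [Group Q] [Group R] [Finite Q], IsPGroup p Q → ∀ φ : Q ≃* R,
      (thompsonSubgroupA Q).map φ.toMonoidHom = thompsonSubgroupA R :=
    fun Q R _ _ _ _ φ => CfsgLib.Transfer.thompsonSubgroupA_map Q R φ
  have hWn : S ≤ Cfsg.FusionSystem.normalizerIn S (Cfsg.thompsonSubgroupAOf S) :=
    CfsgLib.Fusion.le_normalizerIn_wImg (fun Q _ => thompsonSubgroupA Q) hW2 hS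
  have hTS : Cfsg.FusionSystem.normalizerIn S (Cfsg.thompsonSubgroupAOf S) = S :=
    le_antisymm inf_le_left hWn
  have : Finite ↥(Cfsg.FusionSystem.normalizerIn S (Cfsg.thompsonSubgroupAOf S)) :=
    CfsgLib.Fusion.finite_of_le inf_le_left
  have hkey : ∀ k : ℕ, (k = p ∨ (k = 1 ∧ CfsgLib.Transfer.OddOrInvFree p Ω S F)) →
      ∀ z ∈ Cfsg.FusionSystem.centralizerIn S S, z ^ k ∈ N.center → z ^ k ∈ F.center := by
    intro k hk z hz hzN
    refine CfsgLib.Fusion.mem_center_of_fixes hS hF ((Cfsg.FusionSystem.centralizerIn S S).pow_mem hz k)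
      (CfsgLib.Transfer.fixes_pow F hS hF k hk hz fun P φ hφ x hx => ?_)
    exact (CfsgLib.Fusion.fixes_of_mem_center hzN).2 P φ ((hN P).ge hφ) x hx
  refine ⟨?_, fun h => le_antisymm ?_ (CfsgLib.Fusion.center_le_center_normalizer hJS hWn N hN)⟩
  · rintro w ⟨hw, hwN⟩
    obtain ⟨z, hz, rfl⟩ : ∃ z ∈ Cfsg.FusionSystem.centralizerIn S S, z ^ p = w := by
      let A : Subgroup Ω :=
        { carrier := {y | ∃ z ∈ Cfsg.FusionSystem.centralizerIn S S, z ^ p = y}
          one_mem' := ⟨1, one_mem _, one_pow p⟩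
          mul_mem' := by
            rintro a b ⟨x, hx, rfl⟩ ⟨y, hy, rfl⟩
            refine ⟨x * y, mul_mem hx hy, ?_⟩
            exact (show Commute x y from hy.2 x hx.1).mul_pow p
          inv_mem' := by
            rintro a ⟨x, hx, rfl⟩
            exact ⟨x⁻¹, inv_mem hx, inv_pow x p⟩ }
      exact (Subgroup.closure_le A).2 (by rintro _ ⟨x, hx, rfl⟩; exact ⟨x, hx, rfl⟩) hw
    exact hkey p (Or.inl rfl) z hz hwN
  · intro z hz
    have hz1 : z ∈ Cfsg.FusionSystem.centralizerIn S S := by
      have := (CfsgLib.Fusion.fixes_of_mem_center hz).1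
      rwa [hTS] at this
    have := hkey 1 (Or.inr ⟨rfl, CfsgLib.Transfer.oddOrInvFree_of_sectionFree hS hF h⟩) z hz1
      (by rwa [pow_one])
    rwa [pow_one] at this

end Cfsg.Agent.S5193
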