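import Cfsg.Statements.S5196
import Cfsg.Agent.Lib.Fusion.FunctorStatements

set_option autoImplicit false
universe u
open Cfsg Cfsg.FusionSystem CfsgLib.Fusion

namespace Cfsg.Agent.S5196

/-- Let p be an odd prime and W a positive characteristic p-functor: W assigns to every finite p-group Q (in a fixed universe) a subgroup W(Q), nontrivial when Q is, carried to W(R) by every isomorphism Q ≅ R; assume also Z(Q) ≤ W(Q) for every finite p-group Q. Suppose W satisfies the local condition: for every finite group G with Sylow p-subgroup P, O_p(G) ∩ Z(G) = O_p(G) ∩ Z(N_G(W(P))). Then W controls weak closure of elements in every saturated fusion system F over a finite p-group S: the centre of the normalizer fusion system of W(S) in F equals the centre of F. (For p = 2 no functor satisfies the local condition, so p is taken odd.) -/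
theorem result {p : ℕ} [Fact p.Prime] (hp : p ≠ 2) (W : ∀ (Q : Type u) [Group Q], Subgroup Q) (hW1 : ∀ (Q : Type u) [Group Q] [Finite Q], IsPGroup p Q → Nontrivial Q → W Q ≠ ⊥) (hW2 : ∀ (Q R : Type u) [Group Q] [Group R] [Finite Q], IsPGroup p Q → ∀ φ : Q ≃* R, (W Q).map φ.toMonoidHom = W R) (hWZ : ∀ (Q : Type u) [Group Q] [Finite Q], IsPGroup p Q → Subgroup.center Q ≤ W Q) (hC : ∀ (G : Type u) [Group G] [Finite G] (P : Sylow p G), Cfsg.pCore p G ⊓ Subgroup.center G = Cfsg.pCore p G ⊓ (Subgroup.center ↥(Subgroup.normalizer (((W ↥(P : Subgroup G)).map (P : Subgroup G).subtype : Subgroup G) : Set G))).map (Subgroup.normalizer (((W ↥(P : Subgroup G)).map (P : Subgroup G).subtype : Subgroup G) : Set G)).subtype) {Ω : Type u} [Group Ω] {S : Subgroup Ω} [Finite S] (hS : IsPGroup p S) (F : Cfsg.FusionSystem S) (hF : F.IsSaturated p) (N : Cfsg.FusionSystem (Cfsg.FusionSystem.normalizerIn S ((W ↥S).map S.subtype))) (hN : F.IsNormalizerSystem ((W ↥S).map S.subtype) N) : N.center = F.center := by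
  have hWS : wImg W S ≤ S := wImg_le W S
  have hWn := le_normalizerIn_wImg W hW2 hS
  have hTS : normalizerIn S (wImg W S) = S := le_antisymm (normalizerIn_le _) hWn
  refine le_antisymm ?_ (center_le_center_normalizer hWS hWn N hN)
  have : Finite ↥(normalizerIn S ((W ↥S).map S.subtype)) := finite_of_le inf_le_left
  intro z hz
  obtain ⟨hzT, hfix⟩ := fixes_of_mem_center hz
  have hzS : z ∈ centralizerIn S S := hTS ▸ hzT
  have hbase : ∀ (G : Type u) [Group G] [Finite G] (P : Sylow p G),
      Subgroup.centralizer ((pCore p G : Subgroup G) : Set G) ≤ pCore p G →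
      ∀ w ∈ (P : Subgroup G), (∀ y ∈ (P : Subgroup G), y * w = w * y) →
      (∀ g ∈ Subgroup.normalizer (((W ↥(P : Subgroup G)).map (P : Subgroup G).subtype :
        Subgroup G) : Set G), g * w ^ 1 = w ^ 1 * g) → ∀ g : G, g * w ^ 1 = w ^ 1 * g := by
    intro G _ _ P hC' w hwP hwc hwN g
    rw [pow_one] at hwN ⊢
    have hwO : w ∈ pCore p G := hC' fun y hy => hwc y (CfsgLib.Cores.pCore_le_sylow P hy)
    have hwn : w ∈ Subgroup.normalizer (((W ↥(P : Subgroup G)).map (P : Subgroup G).subtype :
        Subgroup G) : Set G) := by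
      refine mem_normalizer_of_forall fun x hx => ?_
      have h1 : x ∈ (P : Subgroup G) := Subgroup.map_subtype_le _ hx
      rwa [← hwc x h1, mul_inv_cancel_right]
    have h2 : w ∈ Cfsg.pCore p G ⊓ Subgroup.center G := by
      rw [hC G P]
      exact ⟨hwO, ⟨w, hwn⟩, Subgroup.mem_center_iff.2 fun m => Subtype.ext (hwN m m.2), rfl⟩
    exact Subgroup.mem_center_iff.1 h2.2 g
  have hkey := fixes_of_fixes_local W hW1 hW2 1 (fun Ω' _ S' _ F' hS' hF' hc w hw hw' =>
    fixes_of_core_centric W hW2 1 hbase hS' hF' hc hw hw') F hS hF z hzS (fun P φ hφ x hx => by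
      rw [pow_one] at hx ⊢
      exact hfix P φ ((hN P).ge hφ) x hx)
  rw [pow_one] at hkey
  exact mem_center_of_fixes hS hF hzS hkey

end Cfsg.Agent.S5196
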