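import Cfsg.Statements.S5219
import Cfsg.Agent.Lib.Fusion.FunctorAgemo

set_option autoImplicit false
open Cfsg Cfsg.FusionSystem CfsgLib.Fusion

namespace Cfsg.Agent.S5219

/-- Let p be a prime, n a natural number, S a nontrivial finite p-group of nilpotence class at most n(p−1)+1, and F a saturated fusion system over S with no nontrivial normal subgroup (O_p(F) = 1). Then S has exponent dividing p^(n²(p−1)+n). -/
theorem result {Ω : Type*} [Group Ω] {S : Subgroup Ω} [Finite S] (p : ℕ) [Fact p.Prime] (hS : IsPGroup p S) (F : Cfsg.FusionSystem S) (hF : F.IsSaturated p) (n : ℕ) (hS1 : S ≠ ⊥) (hcl : Subgroup.lowerCentralSeries S (n * (p - 1) + 1) = ⊥) (hcore : F.core = ⊥) : Monoid.exponent ↥S ∣ p ^ (n ^ 2 * (p - 1) + n) := by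
  have hV := CfsgLib.Fusion.isNormal_powerClosure_center hS hF n hcl
  have hbot : powerClosure p n (S ⊓ Subgroup.centralizer (S : Set Ω)) = ⊥ :=
    le_bot_iff.1 (hcore ▸ le_sSup hV)
  have hclT : (⊤ : Subgroup S).lowerCentralSeries (n * (p - 1) + 1) = ⊥ :=
    Subgroup.map_injective S.subtype_injective (by
      rw [Subgroup.top_subtype_lowerCentralSeries, hcl, Subgroup.map_bot])
  rw [show p ^ (n ^ 2 * (p - 1) + n) = (p ^ n) ^ (n * (p - 1) + 1) by rw [← pow_mul]; ring_nf]
  refine CfsgLib.Fusion.exponent_dvd_pow_of_center (fun z hz => ?_)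
    (Subgroup.lowerCentralSeries_eq_bot_iff_upperCentralSeries_eq_top.1 hclT)
  refine Subtype.ext (Subgroup.mem_bot.1 (hbot ▸ Subgroup.subset_closure ⟨(z : Ω),
    ⟨z.2, fun s hs => congrArg Subtype.val (Subgroup.mem_center_iff.1 hz ⟨s, hs⟩)⟩, ?_⟩))
  exact Subgroup.coe_pow _ _ _

end Cfsg.Agent.S5219
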