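import Cfsg.Statements.S5221
import Cfsg.Agent.Lib.Transfer.FusionCriteria
import Cfsg.Agent.Lib.Fusion.FunctorGeneration

set_option autoImplicit false
open Cfsg Cfsg.FusionSystem CfsgLib.Fusion

namespace Cfsg.Agent.S5221

/-- Let F be a sparse fusion system over a finite p-group S: a saturated fusion system, not the inner fusion system of S, whose only saturated fusion systems over S contained in it are F itself and the inner one. If p is odd, or F is S₄-free (the symmetric group of degree 4 is not involved in any model of the normalizer system of a fully normalized F-centric subgroup), then F is constrained. -/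
theorem result {Ω : Type*} [Group Ω] {S : Subgroup Ω} [Finite S] (p : ℕ) [Fact p.Prime] (hS : IsPGroup p S) (F : Cfsg.FusionSystem S) (hF : F.IsSaturated p) (hsp : ¬ (∀ P : Subgroup Ω, F.Hom P = (Cfsg.innerFusionSystem S).Hom P) ∧ ∀ E : Cfsg.FusionSystem S, E.IsSaturated p → E.IsSubsystemOf F → (∀ P : Subgroup Ω, E.Hom P = F.Hom P) ∨ (∀ P : Subgroup Ω, E.Hom P = (Cfsg.innerFusionSystem S).Hom P)) (hp : p ≠ 2 ∨ F.IsSectionFree p (Equiv.Perm (Fin 4))) : F.IsConstrained p := by
  obtain ⟨hni, hmin⟩ := hsp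
  by_contra hnc
  have hamb := CfsgLib.Transfer.oddOrInvFree_of_sectionFree hS hF hp
  -- normalizer systems of subgroups that are not normal are inner
  have hN : ∀ U : Subgroup Ω, U ≤ S → S ≤ Subgroup.normalizer (U : Set Ω) → ¬ F.IsNormal U →
      ∀ P, F.normalizerHom U P ⊆ (innerFusionSystem S).Hom P := by
    intro U hU hUn hnot P
    have hT := CfsgLib.Transfer.normalizerIn_normal hUn
    have hfn : F.IsFullyNormalized U := isFullyNormalized_of_normal hU hUn
    rcases hmin (normSys F U hT hU) (CfsgLib.Transfer.isSaturated_normSys hS hF hT hU hfn)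
      (fun Q φ hφ => hφ.1) with h | h
    · exact absurd (⟨hU, fun Q φ hφ => ((h Q).ge hφ).2.2.2⟩ : F.IsNormal U) hnot
    · exact (h P).le
  set X := F.core with hXdef
  have hX : F.IsNormal X := isNormal_core
  have hle : ∀ U : Subgroup Ω, F.IsNormal U → U ≤ X := fun U h =>
    le_sSup (show U ∈ {Q : Subgroup Ω | F.IsNormal Q} from h)
  by_cases hXne : X = ⊥
  · have hgood : CfsgLib.Transfer.CharGood p Ω S F := by
      intro U hU hUne hUc
      refine (isPGroup_autInducedBy hS U).to_le fun α hα => ?_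
      have hUn : S ≤ Subgroup.normalizer (U : Set Ω) := Subgroup.le_normalizer.trans
        (CfsgLib.Transfer.normalizer_le_of_characteristic hU hUc)
      have hnot : ¬ F.IsNormal U := fun h => hUne (le_bot_iff.1 ((hle U h).trans hXne.le))
      obtain ⟨-, s, hs, hse⟩ := hN U hU hUn hnot U (mem_normalizerHom_self hU hα)
      exact mem_autInducedBy_iff.2 ⟨s, hs, hse⟩
    exact hni (CfsgLib.Transfer.hom_eq_inner_of_pAut hS hF
      (CfsgLib.Transfer.innerCriterion_char.pAut hS hF hamb hgood))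
  have hsc := stronglyClosed_of_isNormal hX
  have hXn := le_normalizer_of_stronglyClosed hsc
  have hXnc : ¬ centralizerIn S X ≤ X := fun h => hnc ⟨hF, X, hX, hX.1, fun Q hQ => by
    obtain ⟨φ, hφ, rfl⟩ := hQ
    rw [(weaklyClosed_of_stronglyClosed hsc).2 φ hφ]
    exact h⟩
  have hY := hN (X ⊔ centralizerIn S X) (sup_le hX.1 (centralizerIn_le X))
    (le_normalizer_sup_centralizerIn hX.1 hXn) (not_isNormal_sup_centralizerIn hXnc)
  have hI : InnerOn F X := by
    rcases hmin (innerOnSys F X hX.1 hXn) (isSaturated_innerOnSys hS hF hX)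
      (fun Q φ hφ => hφ.1) with h | h
    · exact innerOn_of_innerOnSys fun P => (h P).ge
    · refine absurd (fun P => Set.Subset.antisymm ?_ (innerFusionSystem_le F P)) hni
      exact le_of_split hS hF hX _ hY (fun Q hXQ φ hφ hfix =>
        (h Q).le (mem_innerOnSys_of_fixed hXQ hφ hfix)) P
  obtain ⟨Ω', _, S', _, θ, E', hS', -, hE'sat, hE', hθ⟩ := exists_quotient hS hF hX hXne
  have hgood : CfsgLib.Transfer.CharGood p Ω' S' E' := by
    intro U' hU' hU'ne hU'c
    refine (isPGroup_autInducedBy hS' U').to_le fun α hα => ?_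
    have hU'n : S' ≤ Subgroup.normalizer (U' : Set Ω') := Subgroup.le_normalizer.trans
      (CfsgLib.Transfer.normalizer_le_of_characteristic hU' hU'c)
    have hU := preimageAlong_le θ U'
    have hnot : ¬ F.IsNormal (preimageAlong θ U') := fun h =>
      (lt_preimageAlong hE' hU' hU'ne).not_ge (hle _ h)
    obtain ⟨φ, hφ, hind⟩ := exists_lift_normalizerHom hE' hU' (mem_normalizerHom_self hU' hα)
    obtain ⟨-, s, hs, hse⟩ := hN _ hU
      (le_normalizerIn_preimageAlong hE' (le_inf le_rfl hU'n)) hnot _ hφ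
    obtain ⟨hP, hφS, hθP, hφe⟩ := hind
    refine mem_autInducedBy_iff.2 ⟨θ ⟨s, hs⟩, hE'.2.2.1.le ⟨_, rfl⟩, fun x => ?_⟩
    obtain ⟨t, ht⟩ := hE'.2.2.1.ge (hU' x.2)
    have htP : (t : Ω) ∈ preimageAlong θ U' := mem_preimageAlong.2 (ht ▸ x.2)
    have h1 : (α x : Ω') = θ ⟨φ ⟨t, htP⟩, hφS _⟩ := by
      rw [← hφe ⟨t, htP⟩]
      exact congrArg (fun y : U' => (α y : Ω')) (Subtype.ext ht.symm)
    rw [h1, ← ht, ← map_inv, ← map_mul, ← map_mul]
    exact congrArg θ (Subtype.ext (hse ⟨t, htP⟩))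
  have hE'i : ∀ P, E'.Hom P = (innerFusionSystem S').Hom P :=
    CfsgLib.Transfer.hom_eq_inner_of_pAut hS' hE'sat (CfsgLib.Transfer.innerCriterion_char.pAut hS'
      hE'sat (CfsgLib.Transfer.oddOrInvFree_factor F hS hF hX hE' hamb) hgood)
  refine hni fun P => Set.Subset.antisymm ?_ (innerFusionSystem_le F P)
  refine le_of_liftedSys hS hF hX hI hE' hθ _ (fun P' φ' hφ' => ?_) P
  obtain ⟨hP', g, hg, hge⟩ := (hE'i P').le hφ'
  obtain ⟨s, rfl⟩ := hE'.2.2.1.ge hg
  have hP := preimageAlong_le θ P'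
  refine ⟨hφ', conjHom _ (s : Ω), F.conj_mem hP s.2, (innerFusionSystem S).conj_mem hP s.2, hP,
    fun x => S.mul_mem (S.mul_mem s.2 (hP x.2)) (S.inv_mem s.2),
    fun x => mem_preimageAlong.1 x.2, fun x => ?_⟩
  rw [hge]
  change θ s * θ _ * (θ s)⁻¹ = _
  rw [← map_inv, ← map_mul, ← map_mul]
  rfl

end Cfsg.Agent.S5221
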