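import Cfsg.Statements.S5222
import Cfsg.Agent.Lib.Fusion.NormalizerSat
import Cfsg.Agent.Lib.Fusion.TateApps

set_option autoImplicit false
open Cfsg Cfsg.FusionSystem CfsgLib.Fusion

namespace Cfsg.Agent.S5222

/-- Let F be a saturated fusion system over a finite p-group S whose normalizer fusion system of S is the inner fusion system of S (Aut_F(S) is a p-group). Then for every subgroup Q of S with [S, S] ≤ Q ≤ Φ(S), the normalizer fusion system of Q in F is the inner fusion system of N_S(Q) = S. -/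
theorem result {Ω : Type*} [Group Ω] {S : Subgroup Ω} [Finite S] (p : ℕ) [Fact p.Prime] (hS : IsPGroup p S) (F : Cfsg.FusionSystem S) (hF : F.IsSaturated p) (hN : ∀ N : Cfsg.FusionSystem (Cfsg.FusionSystem.normalizerIn S S), F.IsNormalizerSystem S N → ∀ P : Subgroup Ω, N.Hom P = (Cfsg.innerFusionSystem (Cfsg.FusionSystem.normalizerIn S S)).Hom P) (Q : Subgroup Ω) (h1 : (commutator ↥S).map S.subtype ≤ Q) (h2 : Q ≤ (frattini ↥S).map S.subtype) : ∀ N : Cfsg.FusionSystem (Cfsg.FusionSystem.normalizerIn S Q), F.IsNormalizerSystem Q N → ∀ P : Subgroup Ω, N.Hom P = (Cfsg.innerFusionSystem (Cfsg.FusionSystem.normalizerIn S Q)).Hom P := by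
  have hC : ∀ g ∈ S, g ∈ Subgroup.normalizer (Q : Set Ω) := by
    intro g hg
    have hQS : Q ≤ S := h2.trans (Subgroup.map_subtype_le _)
    have := finite_of_le hQS
    refine mem_normalizer_of_forall fun x hx => ?_
    have h3 := h1 (commutator_eq_map (S := S) ▸ inv_mul_conj_mem_commutator (hQS hx) hg)
    have h4 := Q.mul_mem hx h3
    rwa [mul_inv_cancel_left] at h4
  have hT : normalizerIn S Q = S := le_antisymm (normalizerIn_le Q) (le_inf le_rfl hC)
  have hTS : normalizerIn S S = S := le_antisymm (normalizerIn_le S) (le_normalizerIn le_rfl)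
  have hQS : Q ≤ S := h2.trans (Subgroup.map_subtype_le _)
  have hQn : F.IsFullyNormalized Q :=
    ⟨hQS, fun R _ => hT.symm ▸ Subgroup.card_le_of_le (normalizerIn_le R)⟩
  intro E hE
  have hEs := isSaturated_normalizerSystem hS hF hQn E hE
  have aux : ∀ (T : Subgroup Ω) (E : Cfsg.FusionSystem T), T = S → E.IsSaturated p →
      (∀ P φ, φ ∈ E.Hom P → φ ∈ F.Hom P ∧ ∃ ψ ∈ F.Hom (P ⊔ Q),
        (∀ x : P, ψ (Subgroup.inclusion le_sup_left x) = φ x) ∧ (Q.subgroupOf (P ⊔ Q)).map ψ = Q) →
      ∀ P, E.Hom P = (Cfsg.innerFusionSystem T).Hom P := by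
    intro T E₁ hTeq hs hmem
    subst hTeq
    refine hom_eq_inner_of_focal_le_frattini hS hs (le_trans ?_ h2)
    refine focalSubgroup_le_of_stronglyClosed hS hs ⟨hQS, fun R hR φ hφ x => ?_⟩
      (commutator_eq_map.trans_le h1) fun α hα x => ?_
    · obtain ⟨-, ψ, -, hψe, hψQ⟩ := hmem R φ hφ
      rw [← hψe x]
      exact (show img ψ Q = Q from hψQ).le (apply_mem_img ψ (hR x.2))
    · have hα' := (mem_autGroup_iff E₁ le_rfl).1 hα
      obtain ⟨hαF, -⟩ := hmem T _ hα'
      have h3 : T.subtype.comp α.toMonoidHom ∈ F.normalizerHom T T := by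
        obtain ⟨ψ, hψ, hψe⟩ := mem_of_eq_sup (sup_idem T).symm hαF
        refine ⟨hαF, hTS.symm.le, fun y => hTS.symm.le (α y).2, ψ, hψ, fun y => hψe _, ?_⟩
        change img ψ T = T
        ext y
        rw [mem_img]
        constructor
        · rintro ⟨z, -, rfl⟩
          rw [hψe]
          exact (α _).2
        · intro hy
          refine ⟨Subgroup.inclusion le_sup_left (α.symm ⟨y, hy⟩), (α.symm ⟨y, hy⟩).2, ?_⟩
          rw [hψe]
          exact congrArg Subtype.val (α.apply_symm_apply ⟨y, hy⟩)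
      obtain ⟨-, g, hg, hge⟩ := (hN (normSys F T rfl le_rfl) (fun _ => rfl) T).le h3
      rw [show (α x : Ω) = g * x * g⁻¹ from hge x]
      exact h1 (commutator_eq_map (S := T) ▸ inv_mul_conj_mem_commutator x.2 (normalizerIn_le T hg))
  exact aux _ E hT hEs fun P φ hφ => by
    rw [hE P] at hφ
    exact ⟨hφ.1, hφ.2.2.2⟩

end Cfsg.Agent.S5222
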