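import Cfsg.Statements.S5223
import Cfsg.Agent.Lib.Fusion.Inner
import Cfsg.Agent.Lib.Fusion.Stabilizer

set_option autoImplicit false
open Cfsg Cfsg.FusionSystem CfsgLib.Fusion

namespace Cfsg.Agent.S5223

/-- Let F be a saturated fusion system over a finite p-group S. Suppose there are subgroups Q₀ = S, Q₁, …, Qₙ = 1 (not required to be nested) such that for each i < n the focal subgroup of Qᵢ (generated by the elements x⁻¹φ(x), x ∈ Qᵢ, φ a map of F defined on the cyclic group generated by x) lies in Qᵢ₊₁. Then F is the inner fusion system of S. -/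
theorem result {Ω : Type*} [Group Ω] {S : Subgroup Ω} [Finite S] (p : ℕ) [Fact p.Prime] (hS : IsPGroup p S) (F : Cfsg.FusionSystem S) (hF : F.IsSaturated p) (n : ℕ) (Q : Fin (n + 1) → Subgroup Ω) (hQ0 : Q 0 = S) (hQn : Q (Fin.last n) = ⊥) (hstep : ∀ i : Fin n, Subgroup.closure {y : Ω | ∃ x ∈ Q i.castSucc, ∃ φ ∈ F.Hom (Subgroup.zpowers x), y = x⁻¹ * φ ⟨x, Subgroup.mem_zpowers x⟩} ≤ Q i.succ) : ∀ P : Subgroup Ω, F.Hom P = (Cfsg.innerFusionSystem S).Hom P := by
  have key : ∀ P : Subgroup Ω, P ≤ S → IsPGroup p (F.autGroup P) := by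
    intro P hP
    have := finite_of_le hP
    -- the decreasing series
    let D : ℕ → Subgroup P := fun i => ⨅ j : {j : Fin (n + 1) // (j : ℕ) ≤ n - i}, (Q j.1).subgroupOf P
    have hD : ∀ i x, x ∈ D i ↔ ∀ j : Fin (n + 1), (j : ℕ) ≤ n - i → (x : Ω) ∈ Q j := fun i x => by
      simp only [D, Subgroup.mem_iInf, Subgroup.mem_subgroupOf, Subtype.forall]
    refine isPGroup_of_stabilizes (hS.to_le hP) (F.autGroup P) D n (fun x => ?_) ?_ ?_
    · rw [hD]
      intro j hj
      rw [show j = 0 from Fin.ext (by simp at hj ⊢; omega), hQ0]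
      exact hP x.2
    · intro α _ _ _ x hx
      have h1 := (hD 0 x).1 hx (Fin.last n) (by simp)
      rw [hQn, Subgroup.mem_bot] at h1
      rw [show x = 1 from Subtype.ext h1, map_one]
    · intro α hα i hi x hx
      rw [hD]
      intro j hj
      rcases Nat.eq_zero_or_pos (j : ℕ) with h | h
      · rw [show j = 0 from Fin.ext h, hQ0]
        exact hP (x⁻¹ * α x).2
      · let k : Fin n := ⟨j - 1, by omega⟩
        rw [show j = k.succ from Fin.ext (by simp [k]; omega)]
        have hxk := (hD (i + 1) x).1 hx k.castSucc (by simp [k]; omega)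
        have hle : Subgroup.zpowers (x : Ω) ≤ P := Subgroup.zpowers_le.2 x.2
        refine hstep k (Subgroup.subset_closure ⟨x, hxk, _, res_mem F ((mem_autGroup_iff F hP).1 hα) hle, ?_⟩)
        rfl
  refine hom_eq_inner_of_isPGroup hS hF ?_ fun P hP => ?_
  all_goals
    first
      | exact key _ le_rfl
      | exact key _ hP.1.1

end Cfsg.Agent.S5223
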