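import Cfsg.Statements.S5226
import Cfsg.Agent.Lib.Fusion.NormalWeak

set_option autoImplicit false
open Cfsg Cfsg.FusionSystem CfsgLib.Fusion

namespace Cfsg.Agent.S5226

/-- Let F be a saturated fusion system over a finite p-group S and Q a subgroup of S. Then Q is normal in F (F equals the normalizer system of Q) if and only if Q is strongly closed in F and admits a central series 1 = Q₀ ≤ Q₁ ≤ ⋯ ≤ Qₙ = Q ([Qᵢ₊₁, Q] ≤ Qᵢ) all of whose proper terms are weakly closed in F. -/
theorem result {Ω : Type*} [Group Ω] {S : Subgroup Ω} [Finite S] (p : ℕ) [Fact p.Prime] (hS : IsPGroup p S) (F : Cfsg.FusionSystem S) (hF : F.IsSaturated p) (Q : Subgroup Ω) : F.IsNormal Q ↔ F.StronglyClosed Q ∧ ∃ (n : ℕ) (C : Fin (n + 1) → Subgroup Ω), C 0 = ⊥ ∧ C (Fin.last n) = Q ∧ Monotone C ∧ (∀ i : Fin n, ⁅C i.succ, Q⁆ ≤ C i.castSucc) ∧ ∀ i : Fin n, F.WeaklyClosed (C i.castSucc) := by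
  constructor
  · intro hQ
    refine ⟨stronglyClosed_of_isNormal hQ, ?_⟩
    obtain ⟨n, hn, hN⟩ := exists_series_of_isNormal hS hQ
    refine ⟨n, fun i => Q.lowerCentralSeries (n - i), by simpa using hn, by simp,
      fun a b hab => Subgroup.lowerCentralSeries_antitone Q (by omega), fun i => ?_,
      fun i => weaklyClosed_of_stronglyClosed (stronglyClosed_of_isNormal (hN _))⟩
    simp only [Fin.val_succ, Fin.val_castSucc]
    rw [show n - (i : ℕ) = n - (i + 1) + 1 by omega, Subgroup.lowerCentralSeries_succ]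
  · rintro ⟨hQ, n, C, hC0, hCn, hmono, hcomm, hW⟩
    let D : ℕ → Subgroup Ω := fun i => if h : i ≤ n then C ⟨i, by omega⟩ else Q
    have hD : ∀ (i : ℕ) (h : i ≤ n), D i = C ⟨i, by omega⟩ := fun i h => dif_pos h
    have hD0 : D 0 = ⊥ := (hD 0 (Nat.zero_le n)).trans hC0
    refine isNormal_of_weak_series hS hF hQ D n ?_ (fun i hi => ?_) (fun i hi => ?_) (fun i hi => ?_)
      (fun P _ => hD0 ▸ bot_le) ?_
    · rw [hD n le_rfl]; exact hCn
    · rw [hD i hi, ← hCn]
      exact hmono (Fin.le_last _)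
    · rw [hD i hi.le]
      exact hW ⟨i, hi⟩
    · rw [hD i hi.le, hD (i + 1) hi]
      exact hcomm ⟨i, hi⟩
    · rw [hD0]
      intro a
      exact ⟨0, by
        rw [pow_zero, pow_one]
        exact Subtype.ext (MulEquiv.ext fun x => Subsingleton.elim _ _)⟩

end Cfsg.Agent.S5226
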