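import Cfsg.Statements.S5234
import Cfsg.Agent.Lib.Fusion.OmegaSeries
import Cfsg.Agent.Lib.Fusion.MetaOmega

set_option autoImplicit false
open Cfsg Cfsg.FusionSystem CfsgLib.Fusion

namespace Cfsg.Agent.S5234

/-- Let p be an odd prime, F a saturated fusion system over a finite p-group S and P a metacyclic subgroup of S strongly closed in F. Then P is normal in F. -/
theorem result {Ω : Type*} [Group Ω] {S : Subgroup Ω} [Finite S] (p : ℕ) [Fact p.Prime] (hS : IsPGroup p S) (F : Cfsg.FusionSystem S) (hF : F.IsSaturated p) (P : Subgroup Ω) (hP : F.StronglyClosed P) (hp : p ≠ 2) (hm : Cfsg.IsMetacyclic ↥P) : F.IsNormal P := by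
  have := finite_of_le hP.1
  obtain ⟨W, hW, hab, hcard⟩ := exists_omega_of_metacyclic (hS.to_le hP.1) hp hm
  refine isNormal_of_small_omega hS hF hp hP (W := W.map P.subtype) (fun x => ?_) ?_ ?_
  · constructor
    · rintro ⟨w, hw, rfl⟩
      exact ⟨w.2, congrArg Subtype.val ((hW w).1 hw)⟩
    · rintro ⟨hx, hxp⟩
      exact ⟨⟨x, hx⟩, (hW _).2 (Subtype.ext hxp), rfl⟩
  · rintro ⟨_, a, ha, rfl⟩ ⟨_, b, hb, rfl⟩
    exact Subtype.ext (congrArg P.subtype (hab a ha b hb).eq)
  · rw [← Nat.card_congr (W.equivMapOfInjective _ P.subtype_injective).toEquiv]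
    exact hcard

end Cfsg.Agent.S5234
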