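import Cfsg.Statements.S5236
import Cfsg.Agent.Lib.Fusion.OmegaSeries

set_option autoImplicit false
open Cfsg Cfsg.FusionSystem CfsgLib.Fusion

namespace Cfsg.Agent.S5236

/-- Let p be an odd prime, F a saturated fusion system over a finite p-group S and P a subgroup of S strongly closed in F. Then P is normal in F if and only if Ω₁(P) (the subgroup generated by the elements of order p of P) has a chain of subgroups 1 = Q₀ ≤ Q₁ ≤ ⋯ ≤ Qₙ = Ω₁(P), each strongly closed in F, with [Qᵢ₊₁, P] ≤ Qᵢ for all i. -/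
theorem result {Ω : Type*} [Group Ω] {S : Subgroup Ω} [Finite S] (p : ℕ) [Fact p.Prime] (hS : IsPGroup p S) (F : Cfsg.FusionSystem S) (hF : F.IsSaturated p) (hp : p ≠ 2) (P : Subgroup Ω) (hP : F.StronglyClosed P) : F.IsNormal P ↔ ∃ (n : ℕ) (Q : Fin (n + 1) → Subgroup Ω), Q 0 = ⊥ ∧ Q (Fin.last n) = Cfsg.omegaOne p P ∧ Monotone Q ∧ (∀ i : Fin (n + 1), F.StronglyClosed (Q i)) ∧ ∀ i : Fin n, ⁅Q i.succ, P⁆ ≤ Q i.castSucc := by
  refine ⟨fun h => exists_omega_series_of_isNormal hS h, ?_⟩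
  rintro ⟨n, Q, h0, hlast, -, hQ, hc⟩
  refine isNormal_of_omega_series hS hF hp hP
    (fun i => if h : i < n + 1 then Q ⟨i, h⟩ else ⊥) n ?_ ?_ ?_ ?_
  · simpa using h0
  · intro x hx hxp
    simp only [lt_add_iff_pos_right, zero_lt_one, dite_true]
    rw [show (⟨n, Nat.lt_succ_self n⟩ : Fin (n + 1)) = Fin.last n from rfl, hlast]
    exact Subgroup.subset_closure ⟨hx, hxp⟩
  · intro i hi
    simp only [Nat.lt_succ_iff.2 hi, dite_true]
    exact hQ _
  · intro i hi
    simp only [show i + 1 < n + 1 by omega, show i < n + 1 by omega, dite_true]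
    exact hc ⟨i, hi⟩

end Cfsg.Agent.S5236
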