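import Cfsg.Statements.S5238
import Cfsg.Agent.Lib.PGroup.PearlMaximalClass
import Cfsg.Agent.Lib.Fusion.Omit
import Cfsg.Agent.S5186

set_option autoImplicit false
open Cfsg Cfsg.FusionSystem CfsgLib.Fusion

namespace Cfsg.Agent.S5238

/-- Let p be an odd prime and F a saturated fusion system over a finite p-group S having a pearl: an F-essential subgroup E that is elementary abelian of order p² or nonabelian of order p³. Then S has maximal nilpotency class (if S has order pⁿ with n ≥ 3, the term of index n − 2 of its lower central series, counting S itself as the term of index 0, is nontrivial), and every subgroup of S can be generated by at most p elements (the sectional rank of S is at most p). -/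
theorem result {Ω : Type*} [Group Ω] {S : Subgroup Ω} [Finite S] (p : ℕ) [Fact p.Prime] (hS : IsPGroup p S) (F : Cfsg.FusionSystem S) (hF : F.IsSaturated p) (hp : p ≠ 2) (E : Subgroup Ω) (hE : F.IsEssential p E) (hpearl : (Nat.card E = p ^ 2 ∧ ∀ x ∈ E, x ^ p = 1 ∧ IsMulCommutative ↥E) ∨ (Nat.card E = p ^ 3 ∧ ¬ IsMulCommutative ↥E)) : (∀ n : ℕ, Nat.card S = p ^ n → 3 ≤ n → Subgroup.lowerCentralSeries S (n - 2) ≠ ⊥) ∧ ∀ H : Subgroup Ω, H ≤ S → ∃ T : Finset Ω, T.card ≤ p ∧ Subgroup.closure (T : Set Ω) = H := by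
  classical
  have hp' : p.Prime := Fact.out
  have hES := hE.1.1
  obtain ⟨m, hm⟩ := hS.exists_card_eq
  have hlt := essential_lt hS hF hE
  have := finite_of_le hES
  set E' := E.subgroupOf S with hE'
  have hE'c : Nat.card E' = Nat.card E :=
    Nat.card_congr (Subgroup.subgroupOfEquivOfLe hES).toEquiv
  have hC : Subgroup.centralizer (E' : Set S) ≤ E' := by
    intro g hg
    exact hE.1.2 E (isConj_refl hES)
      ⟨g.2, fun y hy => congrArg Subtype.val (hg ⟨y, hES hy⟩ hy)⟩
  have hlt' : Nat.card E' < Nat.card S := by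
    rw [hE'c]
    exact lt_of_not_ge fun h => hlt.ne (Subgroup.eq_of_le_of_card_ge hES h)
  have hmain : ∃ x : S, x ^ p = 1 ∧ Nat.card (Subgroup.centralizer ({x} : Set S)) ≤ p ^ 2 ∧
      Group.nilpotencyClass S = m - 1 ∧ 3 ≤ m := by
    rw [hm] at hlt'
    rcases hpearl with ⟨hc, hel⟩ | ⟨hc, hna⟩
    · have hm3 : 3 ≤ m := by
        rw [hE'c, hc] at hlt'
        exact (Nat.pow_lt_pow_iff_right hp'.one_lt).1 hlt'
      obtain ⟨hcl, x, hx, hxC⟩ := CfsgLib.PGroup.SmallCent.exists_small_centralizer_of_square hm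
        hm3 E' (hE'c.trans hc) (fun e he => Subtype.ext (by simpa using (hel e he).1))
        (le_antisymm hC fun a ha b hb => Subtype.ext
          (congrArg (fun w : E => (w : Ω))
            ((hel a ha).2.is_comm.comm (⟨b, hb⟩ : E) ⟨a, ha⟩) :))
      exact ⟨x, hx, hxC, hcl, hm3⟩
    · have hm4 : 4 ≤ m := by
        rw [hE'c, hc] at hlt'
        exact (Nat.pow_lt_pow_iff_right hp'.one_lt).1 hlt'
      have hexp : ∀ e ∈ E, e ^ p = 1 := by
        rcases Cfsg.Agent.S5186.result p hS F hF E hE hc with h | ⟨-, -, h⟩ | ⟨h2, -⟩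
        · exact absurd h.1 hna
        · exact h
        · exact absurd h2 hp
      have hna' : ¬ IsMulCommutative E' := fun h => hna ⟨⟨fun u v => Subtype.ext
        (congrArg (fun w : E' => ((w : S) : Ω))
          (h.is_comm.comm (⟨⟨u, hES u.2⟩, u.2⟩ : E') ⟨⟨v, hES v.2⟩, v.2⟩))⟩⟩
      obtain ⟨hcl, x, hx, hxC⟩ := CfsgLib.PGroup.SmallCent.maximalClass_of_nonabelian_cube hm hm4
        E' (hE'c.trans hc) hna' (fun e he => Subtype.ext (by simpa using hexp e he)) hC
      exact ⟨x, hx, hxC, hcl, by omega⟩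
  obtain ⟨x, hx, hxC, hcl, hm3⟩ := hmain
  refine ⟨fun n hn h3 h => ?_, fun H hH => ?_⟩
  · have hnm : n = m := Nat.pow_right_injective hp'.two_le (hn.symm.trans hm)
    rw [← Subgroup.top_subtype_lowerCentralSeries,
      Subgroup.map_eq_bot_iff_of_injective _ S.subtype_injective] at h
    have := hS.isNilpotent
    have := Subgroup.lowerCentralSeries_eq_bot_iff_nilpotencyClass_le.1 h
    omega
  · obtain ⟨P, hP⟩ := CfsgLib.PGroup.SmallCent.exists_setting hm hm3 hcl hx hxC
    obtain ⟨T, hTc, hT⟩ := hP.exists_generators (H.subgroupOf S)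
    refine ⟨T.image S.subtype, Finset.card_image_le.trans hTc, ?_⟩
    rw [Finset.coe_image, ← MonoidHom.map_closure, hT, Subgroup.map_subgroupOf_eq_of_le hH]

end Cfsg.Agent.S5238
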