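import Cfsg.Statements.S5239
import Cfsg.Agent.Lib.PGroup.PearlThreeGroups
import Cfsg.Agent.Lib.Fusion.SquarePearlTwentySeven
import Cfsg.Agent.S5186

set_option autoImplicit false
open Cfsg Cfsg.FusionSystem CfsgLib.Fusion

namespace Cfsg.Agent.S5239

/-- Let F be a saturated fusion system over a finite 3-group S having a pearl: an F-essential subgroup E that is elementary abelian of order 9 or nonabelian of order 27. Then either S is extraspecial of order 27 and exponent 3, or S has order at least 81 and every subgroup of S can be generated by at most two elements, or S is isomorphic to the wreath product C₃ ≀ C₃ (a Sylow 3-subgroup of the symmetric group of degree 9). -/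
theorem result {Ω : Type*} [Group Ω] {S : Subgroup Ω} [Finite S] (hS : IsPGroup 3 S) (F : Cfsg.FusionSystem S) (hF : F.IsSaturated 3) [Fact (Nat.Prime 3)] (E : Subgroup Ω) (hE : F.IsEssential 3 E) (hpearl : (Nat.card E = 9 ∧ ∀ x ∈ E, x ^ 3 = 1 ∧ IsMulCommutative ↥E) ∨ (Nat.card E = 27 ∧ ¬ IsMulCommutative ↥E)) : (Cfsg.IsExtraspecial 3 ↥S ∧ Nat.card S = 27 ∧ Monoid.exponent ↥S = 3) ∨ (81 ≤ Nat.card S ∧ ∀ H : Subgroup Ω, H ≤ S → ∃ T : Finset Ω, T.card ≤ 2 ∧ Subgroup.closure (T : Set Ω) = H) ∨ (∃ W : Sylow 3 (Equiv.Perm (Fin 9)), Nonempty (↥S ≃* ↥(W : Subgroup (Equiv.Perm (Fin 9))))) := by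
  classical
  have hp' : (3 : ℕ).Prime := Fact.out
  have hES := hE.1.1
  obtain ⟨m, hm⟩ := hS.exists_card_eq
  have hlt := essential_lt hS hF hE
  have := finite_of_le hES
  set E' := E.subgroupOf S with hE'
  have hE'c : Nat.card E' = Nat.card E :=
    Nat.card_congr (Subgroup.subgroupOfEquivOfLe hES).toEquiv
  have hC : Subgroup.centralizer (E' : Set S) ≤ E' := by
    intro g hg
    exact hE.1.2 E (isConj_refl hES)
      ⟨g.2, fun y hy => congrArg Subtype.val (hg ⟨y, hES hy⟩ hy)⟩
  have hlt' : Nat.card E' < Nat.card S := by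
    rw [hE'c]
    exact lt_of_not_ge fun h => hlt.ne (Subgroup.eq_of_le_of_card_ge hES h)
  rw [hm] at hlt'
  by_cases hm4 : 4 ≤ m
  · obtain ⟨hcl, x, hx, hxC⟩ : Group.nilpotencyClass S = m - 1 ∧
        ∃ x : S, x ^ 3 = 1 ∧ Nat.card (Subgroup.centralizer ({x} : Set S)) ≤ 3 ^ 2 := by
      rcases hpearl with ⟨hc, hel⟩ | ⟨hc, hna⟩
      · exact CfsgLib.PGroup.SmallCent.exists_small_centralizer_of_square hm (by omega) E'
          (hE'c.trans (by rw [hc]; norm_num)) (fun e he => Subtype.ext (by simpa using (hel e he).1))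
          (le_antisymm hC fun a ha b hb => Subtype.ext
            (congrArg (fun w : E => (w : Ω))
              ((hel a ha).2.is_comm.comm (⟨b, hb⟩ : E) ⟨a, ha⟩) :))
      · have hexp : ∀ e ∈ E, e ^ 3 = 1 := by
          rcases Cfsg.Agent.S5186.result 3 hS F hF E hE (by rw [hc]; norm_num) with
            h | ⟨-, -, h⟩ | ⟨h2, -⟩
          · exact absurd h.1 hna
          · exact h
          · exact absurd h2 (by norm_num)
        have hna' : ¬ IsMulCommutative E' := fun h => hna ⟨⟨fun u v => Subtype.ext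
          (congrArg (fun w : E' => ((w : S) : Ω))
            (h.is_comm.comm (⟨⟨u, hES u.2⟩, u.2⟩ : E') ⟨⟨v, hES v.2⟩, v.2⟩))⟩⟩
        exact CfsgLib.PGroup.SmallCent.maximalClass_of_nonabelian_cube hm hm4 E'
          (hE'c.trans (by rw [hc]; norm_num)) hna' (fun e he => Subtype.ext (by simpa using hexp e he))
          hC
    refine Or.inr ?_
    rcases CfsgLib.PGroup.SmallCent.two_generated_or_sylow_perm_nine hm hm4 hcl hx hxC with h | h
    · refine Or.inl ⟨?_, fun H hH => ?_⟩
      · rw [hm]; exact le_of_eq_of_le (by norm_num) (Nat.pow_le_pow_right (by norm_num) hm4)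
      · obtain ⟨T, hTc, hT⟩ := h (H.subgroupOf S)
        refine ⟨T.image S.subtype, Finset.card_image_le.trans hTc, ?_⟩
        rw [Finset.coe_image, ← MonoidHom.map_closure, hT, Subgroup.map_subgroupOf_eq_of_le hH]
    · exact Or.inr h
  refine Or.inl ?_
  obtain ⟨hc, hel⟩ : Nat.card E = 9 ∧ ∀ x ∈ E, x ^ 3 = 1 ∧ IsMulCommutative E := by
    rcases hpearl with h | ⟨hc, -⟩
    · exact h
    · rw [hE'c, hc] at hlt'
      have := Nat.pow_le_pow_right (show 1 ≤ 3 by norm_num) (show m ≤ 3 by omega)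
      omega
  have hm3 : m = 3 := by
    rw [hE'c, hc] at hlt'
    by_contra h
    have := Nat.pow_le_pow_right (show 1 ≤ 3 by norm_num) (show m ≤ 2 by omega)
    omega
  subst hm3
  have hS27 : Nat.card S = 27 := by rw [hm]; norm_num
  exact CfsgLib.Fusion.extraspecial_of_small_square_pearl hS hF hE hc hel hS27

end Cfsg.Agent.S5239
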