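import Cfsg.Statements.S5246
import Cfsg.Agent.Lib.PStab.Stable
import Cfsg.Agent.Lib.Fusion.GroupSystem

set_option autoImplicit false
open Cfsg

namespace Cfsg.Agent.S5246

open CfsgLib.Fusion (conjSub conjSub_conjSub conjSub_one conj_mem_conjSub mem_conjSub map_conj_normalizer)
open CfsgLib.PStab (InCoreAct IsQuad)
open scoped commutatorElement

variable {G : Type*} [Group G] [Finite G] {p : ℕ} [Fact p.Prime]

theorem quad_iff {Q : Subgroup G} {a : G} (χ : MulAut ↥Q) (hχ : ∀ x : Q, (χ x : G) = a * (x : G) * a⁻¹) :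
    (∀ x : ↥Q, (χ x⁻¹) * x * (χ x⁻¹) * (χ (χ x)) = 1) ↔ IsQuad Q a := by
  have key : ∀ x : Q, ((((χ x⁻¹) * x * (χ x⁻¹) * (χ (χ x)) : Q)) : G) =
      ((a * (x : G)⁻¹ * a⁻¹ * (x : G)) * a * ((x : G)⁻¹ * a * (x : G) * a⁻¹) * a⁻¹) := by
    intro x
    simp only [Subgroup.coe_mul, hχ, Subgroup.coe_inv]
    group
  constructor
  · intro h x hx
    have h1 := congrArg Subtype.val (h (⟨x, hx⟩ : Q)⁻¹)
    rw [key, Subgroup.coe_one, Subgroup.coe_inv, inv_inv] at h1
    rw [commutatorElement_eq_one_iff_mul_comm, commutatorElement_def]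
    dsimp only at h1
    calc x * a * x⁻¹ * a⁻¹ * a
        = x * a * x⁻¹ * a⁻¹ * (a * x * a⁻¹ * x⁻¹ * a * (x * a * x⁻¹ * a⁻¹) * a⁻¹) * a := by rw [h1, mul_one]
      _ = _ := by group
  · intro h x
    refine Subtype.ext ?_
    have h1 := h _ (inv_mem x.2)
    rw [commutatorElement_eq_one_iff_mul_comm, commutatorElement_def, inv_inv] at h1
    rw [key, Subgroup.coe_one]
    calc a * (x : G)⁻¹ * a⁻¹ * (x : G) * a * ((x : G)⁻¹ * a * (x : G) * a⁻¹) * a⁻¹
        = a * (x : G)⁻¹ * a⁻¹ * (x : G) * (a * ((x : G)⁻¹ * a * (x : G) * a⁻¹)) * a⁻¹ := by group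
      _ = 1 := by rw [← h1]; group

theorem inCoreAct_conj {Q : Subgroup G} {a : G} (g : G)
    (h : InCoreAct p (Subgroup.normalizer (Q : Set G)) Q a) :
    InCoreAct p (Subgroup.normalizer (conjSub g Q : Set G)) (conjSub g Q) (g * a * g⁻¹) := by
  obtain ⟨K, hKN, hNK, haK, hK⟩ := h
  refine ⟨conjSub g K, ?_, ?_, conj_mem_conjSub haK, ?_⟩
  · rw [← map_conj_normalizer]; exact Subgroup.map_mono hKN
  · rw [← map_conj_normalizer g Q, ← map_conj_normalizer g K]; exact Subgroup.map_mono hNK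
  · rintro _ ⟨k, hk, rfl⟩
    obtain ⟨n, hn⟩ := hK k hk
    refine ⟨n, Subgroup.mem_centralizer_iff.2 ?_⟩
    rintro _ ⟨y, hy, rfl⟩
    rw [← map_pow, ← map_mul, ← map_mul, Subgroup.mem_centralizer_iff.1 hn y hy]

theorem isQuad_conjSub {Q : Subgroup G} {a : G} (g : G) (h : IsQuad Q a) :
    IsQuad (conjSub g Q) (g * a * g⁻¹) := by
  rintro _ ⟨y, hy, rfl⟩
  rw [MulEquiv.coe_toMonoidHom, show g * a * g⁻¹ = MulAut.conj g a from rfl, ← map_commutatorElement,
    ← map_commutatorElement, h y hy, map_one]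

/-- At one subgroup of `S` the two forms agree. -/
theorem core_iff (S : Subgroup G) {Q : Subgroup G} (hQ : Q ≤ S) :
    (∀ χ : MulAut ↥Q, χ ∈ (Cfsg.groupFusionSystem S).autGroup Q →
      (∀ a : ↥Q, (χ a⁻¹) * a * (χ a⁻¹) * (χ (χ a)) = 1) →
      χ ∈ ((Cfsg.pCore p ↥((Cfsg.groupFusionSystem S).autGroup Q)).map
        ((Cfsg.groupFusionSystem S).autGroup Q).subtype : Subgroup (MulAut ↥Q))) ↔
    ∀ a ∈ Subgroup.normalizer (Q : Set G), IsQuad Q a →
      InCoreAct p (Subgroup.normalizer (Q : Set G)) Q a := by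
  set N := Subgroup.normalizer (Q : Set G)
  set A := (Cfsg.groupFusionSystem S).autGroup Q
  have hA : A = Q.normalizerMonoidHom.range := by
    show (Cfsg.groupFusionSystem S).autGroup Q = _
    rw [CfsgLib.Fusion.autGroup_groupFusion hQ, CfsgLib.Fusion.autInducedBy_eq_map,
      Subgroup.top_subgroupOf, ← MonoidHom.range_eq_map]
  let f : N →* A := Q.normalizerMonoidHom.codRestrict A fun n => hA.ge ⟨n, rfl⟩
  have hf : Function.Surjective f := fun ⟨α, hα⟩ => by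
    obtain ⟨n, hn⟩ := hA.le hα
    exact ⟨n, Subtype.ext hn⟩
  have hker : f.ker = (Subgroup.centralizer (Q : Set G)).subgroupOf N := by
    rw [MonoidHom.ker_codRestrict, Subgroup.normalizerMonoidHom_ker]
  have hn : ((Subgroup.centralizer (Q : Set G)).subgroupOf N).Normal := hker ▸ inferInstance
  let e := (QuotientGroup.quotientMulEquivOfEq hker.symm).trans (QuotientGroup.quotientKerEquivOfSurjective f hf)
  have hmem : ∀ n : N, f n ∈ Cfsg.pCore p A ↔ InCoreAct p N Q (n : G) := by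
    intro n
    rw [← CfsgLib.Cores.map_pCore_equiv e, show f n = e (QuotientGroup.mk n) from rfl]
    refine ⟨fun h => CfsgLib.PStab.inCoreAct_of_mk_mem_pCore n.2 ?_,
      fun h => ⟨_, CfsgLib.PStab.mk_mem_pCore_of_inCoreAct n.2 h, rfl⟩⟩
    obtain ⟨y, hy, hey⟩ := h
    rwa [← e.injective hey]
  constructor
  · intro h a ha hq
    obtain ⟨y, hy, hya⟩ := h (f ⟨a, ha⟩ : MulAut Q) (f ⟨a, ha⟩).2 ((quad_iff _ fun _ => rfl).2 hq)
    exact (hmem ⟨a, ha⟩).1 ((Subtype.ext hya : y = f ⟨a, ha⟩) ▸ hy)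
  · intro h χ hχ hq
    obtain ⟨n, hn⟩ := hf ⟨χ, hχ⟩
    have hn' : (f n : MulAut Q) = χ := congrArg Subtype.val hn
    subst hn'
    exact ⟨f n, (hmem n).2 (h n n.2 ((quad_iff _ fun _ => rfl).1 hq)), rfl⟩

/-- Let p be an odd prime, G a finite group and P a Sylow p-subgroup. Call a fusion system F p-stable when, for every fully normalized subgroup Q and every χ ∈ Aut_F(Q) acting quadratically on Q (that is, χ fixes a⁻¹χ(a) for every a ∈ Q; equivalently χ(a⁻¹)·a·χ(a⁻¹)·χ(χ(a)) = 1), χ lies in O_p(Aut_F(Q)). Then G is p-stable in the normalizer form (for every p-subgroup Q and x ∈ N_G(Q) with [Q, x, x] = 1, the image of x lies in O_p(N_G(Q)/C_G(Q))) if and only if the fusion system of G on P is p-stable. -/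
theorem result {Ω : Type*} [Group Ω] [Finite Ω] {p : ℕ} [Fact p.Prime] (hp : p ≠ 2) (P : Sylow p Ω) : Cfsg.IsNormalizerPStable p Ω ↔ (∀ Q : Subgroup Ω, (Cfsg.groupFusionSystem (P : Subgroup Ω)).IsFullyNormalized Q → ∀ χ : MulAut ↥Q, χ ∈ (Cfsg.groupFusionSystem (P : Subgroup Ω)).autGroup Q → (∀ a : ↥Q, (χ a⁻¹) * a * (χ a⁻¹) * (χ (χ a)) = 1) → χ ∈ ((Cfsg.pCore p ↥((Cfsg.groupFusionSystem (P : Subgroup Ω)).autGroup Q)).map ((Cfsg.groupFusionSystem (P : Subgroup Ω)).autGroup Q).subtype : Subgroup (MulAut ↥Q))) := by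
  constructor
  · intro h Q hQ
    exact (core_iff _ hQ.1).2 fun a ha hq =>
      CfsgLib.PStab.stableAll_of_isNormalizerPStable h Q (CfsgLib.Fusion.isPGroup_of_le_sylow P hQ.1) a ha hq
  · intro h Q hQ g hg hq
    obtain ⟨u, hu⟩ := hQ.exists_le_sylow
    obtain ⟨v, hv⟩ := MulAction.exists_smul_eq Ω u P
    have hQv : conjSub v Q ≤ (P : Subgroup Ω) := by
      rw [← hv]
      exact (Subgroup.map_mono hu).trans (le_of_eq rfl)
    obtain ⟨w, hw, hi, -⟩ := CfsgLib.Fusion.exists_conjSub_good P hQv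
    rw [conjSub_conjSub] at hw hi
    set x := w * v
    have hfn := (CfsgLib.Fusion.isFullyNormalized_groupFusion_iff P hw).2 hi
    have h1 : InCoreAct p (Subgroup.normalizer (conjSub x Q : Set Ω)) (conjSub x Q) (x * g * x⁻¹) :=
      (core_iff _ hw).1 (h _ hfn) _ (by rw [← map_conj_normalizer]; exact conj_mem_conjSub hg)
        (isQuad_conjSub x ((CfsgLib.PStab.isQuad_iff hg).2 hq))
    have h2 := inCoreAct_conj x⁻¹ h1
    rw [conjSub_conjSub, inv_mul_cancel, conjSub_one] at h2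
    have e : x⁻¹ * (x * g * x⁻¹) * x⁻¹⁻¹ = g := by group
    rw [e] at h2
    exact CfsgLib.PStab.mk_mem_pCore_of_inCoreAct hg h2

end Cfsg.Agent.S5246
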