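import Cfsg.Statements.S5253
import Cfsg.Agent.Lib.Fusion.FunctorStatements

set_option autoImplicit false
universe u
open Cfsg Cfsg.FusionSystem CfsgLib.Fusion

namespace Cfsg.Agent.S5253

/-- Let p be a prime and W a positive characteristic p-functor with Z(Q) ≤ W(Q): W assigns to every finite p-group Q (in a fixed universe) a subgroup W(Q), nontrivial when Q is, carried to W(R) by every isomorphism Q ≅ R, and containing the centre of Q. Suppose that for every finite group G with Sylow p-subgroup P in which W(P) is not normal there is g ∈ P outside O_p(G) with [Z(O_p(G)), g, g] = 1. Then for every saturated fusion system F over a finite p-group S and every normalizer fusion system N of W(S) in F, every p-th power of an element of Z(S) that lies in the centre of N lies in the centre of F. -/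
theorem result {p : ℕ} [Fact p.Prime] (W : ∀ (Q : Type u) [Group Q], Subgroup Q) (hW1 : ∀ (Q : Type u) [Group Q] [Finite Q], IsPGroup p Q → Nontrivial Q → W Q ≠ ⊥) (hW2 : ∀ (Q R : Type u) [Group Q] [Group R] [Finite Q], IsPGroup p Q → ∀ φ : Q ≃* R, (W Q).map φ.toMonoidHom = W R) (hWZ : ∀ (Q : Type u) [Group Q] [Finite Q], IsPGroup p Q → Subgroup.center Q ≤ W Q) (hq : ∀ (G : Type u) [Group G] [Finite G] (P : Sylow p G), ¬ (((W ↥(P : Subgroup G)).map (P : Subgroup G).subtype : Subgroup G)).Normal → ∃ g : G, g ∈ (P : Subgroup G) ∧ g ∉ Cfsg.pCore p G ∧ ⁅⁅Subgroup.center ↥(Cfsg.pCore p G) |>.map (Cfsg.pCore p G).subtype, Subgroup.zpowers g⁆, Subgroup.zpowers g⁆ = ⊥) {Ω : Type u} [Group Ω] {S : Subgroup Ω} [Finite S] (hS : IsPGroup p S) (F : Cfsg.FusionSystem S) (hF : F.IsSaturated p) (N : Cfsg.FusionSystem (Cfsg.FusionSystem.normalizerIn S ((W ↥S).map S.subtype))) (hN : F.IsNormalizerSystem ((W ↥S).map S.subtype) N) : Subgroup.closure ((fun z => z ^ p) '' ((S ⊓ Subgroup.centralizer (S : Set Ω)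 : Subgroup Ω) : Set Ω)) ⊓ N.center ≤ F.center := by
  have hTS : normalizerIn S (wImg W S) = S :=
    le_antisymm (normalizerIn_le _) (le_normalizerIn_wImg W hW2 hS)
  have : Finite ↥(normalizerIn S ((W ↥S).map S.subtype)) := finite_of_le inf_le_left
  rintro w ⟨hw, hwN⟩
  obtain ⟨-, hfix⟩ := fixes_of_mem_center hwN
  obtain ⟨z, hz, hzw⟩ : ∃ z ∈ centralizerIn S S, z ^ p = w := by
    let A : Subgroup Ω :=
      { carrier := {y | ∃ z ∈ centralizerIn S S, z ^ p = y}
        one_mem' := ⟨1, one_mem _, one_pow p⟩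
        mul_mem' := by
          rintro a b ⟨x, hx, rfl⟩ ⟨y, hy, rfl⟩
          refine ⟨x * y, mul_mem hx hy, ?_⟩
          exact (show Commute x y from hy.2 x hx.1).mul_pow p
        inv_mem' := by
          rintro a ⟨x, hx, rfl⟩
          exact ⟨x⁻¹, inv_mem hx, inv_pow x p⟩ }
    exact (Subgroup.closure_le A).2 (by rintro _ ⟨x, hx, rfl⟩; exact ⟨x, hx, rfl⟩) hw
  subst hzw
  have hkey := fixes_of_fixes_local W hW1 hW2 p (fun Ω' _ S' _ F' hS' hF' hc w hw hw' =>
    fixes_of_core_centric W hW2 p (commute_pow_of_quadratic W hq hW2) hS' hF' hc hw hw') F hS hF z hz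
    (fun P φ hφ x hx => hfix P φ ((hN P).ge hφ) x hx)
  exact mem_center_of_fixes hS hF ((centralizerIn S S).pow_mem hz p) hkey

end Cfsg.Agent.S5253
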