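import Cfsg.Statements.S5257
import Cfsg.Agent.Lib.Fusion.UniqueAbelianStructure

set_option autoImplicit false
open Cfsg

namespace Cfsg.Agent.S5257
open CfsgLib.Fusion CfsgLib.Fusion.UniqueAbelian
open CfsgLib.Fusion.CenterIndexPSq (zed)

/-- Let p be an odd prime, S a finite nonabelian p-group with a unique abelian subgroup A of index p, and F a saturated fusion system over S having an F-essential subgroup other than A. Then the second centre Z₂(S) lies in A; Z(S) ∩ [S, S] has order p; Z(S)[S, S] has index p in A; Z(S) has index p in Z₂(S); and S/Z(S) has maximal nilpotency class (if S/Z(S) has order pᵐ with m ≥ 3 then the term of index m − 2 of the lower central series of S, counting S as index 0, is not contained in Z(S)). -/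
theorem result {Ω : Type*} [Group Ω] {S : Subgroup Ω} [Finite S] (p : ℕ) [Fact p.Prime] (hS : IsPGroup p S) (F : Cfsg.FusionSystem S) (hF : F.IsSaturated p) (hp : p ≠ 2) (hna : ¬ IsMulCommutative ↥S) (A : Subgroup Ω) (hA : A ≤ S ∧ IsMulCommutative ↥A ∧ (A.subgroupOf S).index = p) (huniq : ∀ B : Subgroup Ω, B ≤ S → IsMulCommutative ↥B → (B.subgroupOf S).index = p → B = A) (P : Subgroup Ω) (hP : F.IsEssential p P) (hPA : P ≠ A) : ((upperCentralSeries ↥S 2).map S.subtype) ≤ A ∧ Nat.card ↥((S ⊓ Subgroup.centralizer (S : Set Ω)) ⊓ ((commutator ↥S).map S.subtype)) = p ∧ (((S ⊓ Subgroup.centralizer (S : Set Ω)) ⊔ ((commutator ↥S).map S.subtype)).subgroupOf A).index = p ∧ (((S ⊓ Subgroup.centralizer (S : Set Ω))).subgroupOf ((upperCentralSeries ↥S 2).map S.subtype)).index = p ∧ ∀ m : ℕ, ((S ⊓ Subgroup.centralizer (S : Set Ω)).subgroupOf S).index = p ^ m → 3 ≤ m → ¬ Subgroup.lowerCentralSeries S (m - 2) ≤ (S ⊓ Subgroup.centralizer (S : Set Ω)) := by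
  have st := Setting.mk' hna hA huniq
  obtain ⟨x, hxP, hxA⟩ := exists_notMem st hP hPA
  have hxS := hP.1.1 hxP
  have hp' : p.Prime := Fact.out
  have hsec := sec_le hS hF st hP hPA
  have hR := imgR_eq hS st hxS hxA
  have hc := card_imgR_zed hS hF st hP hxP hxA
  have hZA : zed S ≤ A := st.zed_le
  have hfz : Finite (zed S) := finite_of_le (inf_le_left : zed S ≤ S)
  have hfA : Finite A := finite_of_le st.le
  have hAcard : Nat.card A = Nat.card (zed S) * (zed S).relIndex A := by
    rw [card_eq_inf_mul (B := zed S) (H := A), inf_eq_left.2 hZA]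
  have hRz : Nat.card (imgR hS st hxS) = (zed S).relIndex A :=
    Nat.eq_of_mul_eq_mul_left Nat.card_pos ((card_imgR hS st hxS hxA).symm.trans hAcard)
  refine ⟨hsec, ?_, ?_, ?_, ?_⟩
  · show Nat.card ↥(zed S ⊓ _) = p
    rw [← hR, inf_comm]
    exact hc
  · show (zed S ⊔ _).relIndex A = p
    rw [← hR]
    have hle : zed S ⊔ imgR hS st hxS ≤ A := sup_le hZA (imgR_le hS st hxS)
    have hfW : Finite (zed S ⊔ imgR hS st hxS : Subgroup Ω) := finite_of_le (hle.trans st.le)
    have hfR : Finite (imgR hS st hxS) := finite_of_le ((imgR_le hS st hxS).trans st.le)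
    have hn : ((zed S).subgroupOf A).Normal := ⟨fun z hz a => by
      rw [Subgroup.mem_subgroupOf, Subgroup.coe_mul, Subgroup.coe_mul, Subgroup.coe_inv,
        conj_eq_of_mem_zed (st.le a.2) (show (z : Ω) ∈ zed S from hz)]
      exact hz⟩
    have h1 : (zed S).relIndex (zed S ⊔ imgR hS st hxS) = (zed S).relIndex (imgR hS st hxS) := by
      rw [← Subgroup.relIndex_subgroupOf (L := A) hle, Subgroup.subgroupOf_sup hZA (imgR_le hS st hxS),
        Subgroup.relIndex_sup_left, Subgroup.relIndex_subgroupOf (imgR_le hS st hxS)]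
    have h2 := card_eq_inf_mul (B := zed S) (H := imgR hS st hxS)
    rw [inf_comm, hc, hRz] at h2
    have h3 := Subgroup.relIndex_mul_relIndex (zed S) _ A le_sup_left hle
    rw [h1, h2, mul_comm p] at h3
    exact Nat.eq_of_mul_eq_mul_left (Nat.pos_of_ne_zero Subgroup.index_ne_zero_of_finite) h3
  · show (zed S).relIndex (sec S) = p
    rw [← relIndex_zed_sec hS hF st hP hPA, inf_eq_left.2 hsec]
  · intro m hm hm3 hle
    have hmS : (zed S).relIndex S = p ^ m := hm
    rw [← Subgroup.relIndex_mul_relIndex _ _ _ hZA st.le, st.idx] at hmS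
    obtain ⟨n, rfl⟩ : ∃ n, m = n + 3 := ⟨m - 3, by omega⟩
    have h := card_imgR_le hS hF st hP hxP hxA (n := n) hle
    rw [pow_succ] at hmS
    rw [hRz, Nat.eq_of_mul_eq_mul_right hp'.pos hmS] at h
    exact absurd ((Nat.pow_le_pow_iff_right hp'.one_lt).1 h) (by omega)

end Cfsg.Agent.S5257
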