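import Cfsg.Statements.S5270
import Cfsg.Agent.Lib.Fusion.SecondCenterEssential

set_option autoImplicit false
open Cfsg Cfsg.FusionSystem CfsgLib.Fusion
open scoped commutatorElement

namespace Cfsg.Agent.S5270

/-- For a maximal class group, moving the centre inside the second centre forces its centralizer to be essential. -/
theorem result {Ω : Type*} [Group Ω] {S : Subgroup Ω} [Finite S] (p : ℕ) [Fact p.Prime] (hS : IsPGroup p ↥S) (n : ℕ) (hn : Nat.card S = p ^ n) (h4 : 4 ≤ n) (hmax : Subgroup.lowerCentralSeries S (n - 2) ≠ ⊥) (F : Cfsg.FusionSystem S) (hF : F.IsSaturated p) (hp : 5 ≤ p) (φ : ↥((Subgroup.upperCentralSeries ↥S 2).map S.subtype) →* Ω) (hφ : φ ∈ F.Hom ((Subgroup.upperCentralSeries ↥S 2).map S.subtype)) (hφZ : φ.range = ((Subgroup.upperCentralSeries ↥S 2).map S.subtype)) (hmove : ∃ (z : Ω) (hz : z ∈ ((Subgroup.upperCentralSeries ↥S 2).map S.subtype)), z ∈ ((Subgroup.center ↥S).map S.subtype) ∧ φ ⟨z, hz⟩ ∉ ((Subgroup.center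 ↥S).map S.subtype)) : F.IsEssential p (S ⊓ Subgroup.centralizer (((Subgroup.upperCentralSeries ↥S 2).map S.subtype) : Set Ω)) := by
  obtain ⟨z, hz, hzZ, hzφ⟩ := hmove
  refine isEssential_centralizerIn_of_moved hS hF (Z := (Subgroup.center ↥S).map S.subtype)
    (Subgroup.map_subtype_le _) ?_ ?_ ?_ ?_ hφ hφZ (z := ⟨z, hz⟩) hzZ hzφ
  · intro s hs
    have := finite_of_le (Subgroup.map_subtype_le (H := S) (Subgroup.upperCentralSeries ↥S 2))
    refine mem_normalizer_of_forall ?_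
    rintro _ ⟨v, hv, rfl⟩
    have hn : (Subgroup.upperCentralSeries ↥S 2).Normal := inferInstance
    refine ⟨(⟨s, hs⟩ : S) * v * (⟨s, hs⟩ : S)⁻¹, hn.conj_mem v hv ⟨s, hs⟩, ?_⟩
    simp
  · rw [Subgroup.card_map_of_injective S.subtype_injective]
    refine card_secondCentre_of_maximalClass hn h4 fun h => hmax ?_
    rw [← Subgroup.top_subtype_lowerCentralSeries, h, Subgroup.map_bot]
  · intro u
    constructor
    · rintro ⟨a, ha, rfl⟩
      exact ⟨a.2, fun y hy => congrArg Subtype.val (Subgroup.mem_center_iff.1 ha ⟨y, hy⟩)⟩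
    · rintro ⟨hu, h⟩
      exact ⟨⟨u, hu⟩, Subgroup.mem_center_iff.2 fun y => Subtype.ext (h y y.2), rfl⟩
  · rintro s hs _ ⟨v, hv, rfl⟩
    refine ⟨⁅(⟨s, hs⟩ : S), v⁆, ?_, rfl⟩
    have h := Subgroup.mem_upperCentralSeries_succ_iff.1 hv ⟨s, hs⟩
    rw [Subgroup.upperCentralSeries_one] at h
    rw [← commutatorElement_inv]
    exact inv_mem h

end Cfsg.Agent.S5270
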