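import Cfsg.Statements.S5271
import Cfsg.Agent.Lib.Fusion.WeaklyEmbedded
import Cfsg.Agent.Lib.PGroup.PrimeIndex

set_option autoImplicit false
open Cfsg Cfsg.FusionSystem CfsgLib.Fusion

namespace Cfsg.Agent.S5271

/-- A nilpotency criterion for fusion systems. Let F be a saturated fusion system over a finite p-group S of order at least p². Call a subgroup Q of S weakly embedded in F when there is a subgroup P of S strongly closed in F such that both the product QP and the intersection Q ∩ P are strongly closed in F. Then F is the inner fusion system of S if and only if there is a subgroup D of S with 1 < D < S such that every subgroup of S of the same order as D is weakly embedded in F and, for every fully normalized subgroup H of S of that order, the normalizer fusion system of H in F is the inner fusion system of N_S(H). -/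
theorem result {Ω : Type*} [Group Ω] {S : Subgroup Ω} [Finite S] (p : ℕ) [Fact p.Prime] (hS : IsPGroup p ↥S) (F : Cfsg.FusionSystem S) (hF : F.IsSaturated p) (hcard : p ^ 2 ≤ Nat.card S) : (∀ P : Subgroup Ω, F.Hom P = (Cfsg.innerFusionSystem S).Hom P) ↔ ∃ D : Subgroup Ω, ⊥ < D ∧ D < S ∧ (∀ Q : Subgroup Ω, Q ≤ S → Nat.card ↥Q = Nat.card ↥D → ∃ P : Subgroup Ω, F.StronglyClosed P ∧ F.StronglyClosed (Q ⊔ P) ∧ F.StronglyClosed (Q ⊓ P)) ∧ (∀ H : Subgroup Ω, F.IsFullyNormalized H → Nat.card ↥H = Nat.card ↥D → ∀ N : Cfsg.FusionSystem (Cfsg.FusionSystem.normalizerIn S H), F.IsNormalizerSystem H N → ∀ P : Subgroup Ω, N.Hom P = (Cfsg.innerFusionSystem (Cfsg.FusionSystem.normalizerIn S H)).Hom P) := by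
  constructor
  · intro hin
    obtain ⟨s, hs⟩ := IsPGroup.iff_card.1 hS
    have hp := (Fact.out : p.Prime)
    have hs2 : 2 ≤ s := (Nat.pow_le_pow_iff_right hp.one_lt).1 (hs ▸ hcard)
    obtain ⟨D, -, hDS, hDc⟩ := exists_between_card hS (A := ⊥) (B := S) bot_le le_rfl (j := s - 1)
      (by rw [Subgroup.card_bot]; exact Nat.one_le_pow _ _ hp.pos)
      (by rw [hs]; exact Nat.pow_le_pow_right hp.pos (Nat.sub_le s 1))
    have hnorm : ∀ Q : Subgroup Ω, Q ≤ S → Nat.card Q = Nat.card D →
        S ≤ Subgroup.normalizer (Q : Set Ω) := by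
      intro Q hQS hQc
      have hidx : (Q.subgroupOf S).index = p := by
        have h1 := Subgroup.card_mul_index (Q.subgroupOf S)
        rw [Nat.card_congr (Subgroup.subgroupOfEquivOfLe hQS).toEquiv, hQc, hDc, hs,
          show p ^ s = p ^ (s - 1) * p by rw [← pow_succ]; congr 1; omega] at h1
        exact Nat.eq_of_mul_eq_mul_left (pow_pos hp.pos _) h1
      have := CfsgLib.PGroup.normal_of_isCoatom hS
        (M := Q.subgroupOf S) (CfsgLib.PGroup.isCoatom_of_index_prime (hidx ▸ hp))
      exact (Subgroup.normal_subgroupOf_iff_le_normalizer hQS).1 this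
    have hclosed : ∀ Q : Subgroup Ω, Q ≤ S → S ≤ Subgroup.normalizer (Q : Set Ω) →
        F.StronglyClosed Q := by
      intro Q hQS hQn
      refine ⟨hQS, fun R hR φ hφ x => ?_⟩
      rw [hin R] at hφ
      obtain ⟨-, g, hg, hge⟩ := hφ
      rw [hge x]
      exact conj_mem_of_mem_normalizer (hQn hg) (hR x.2)
    refine ⟨D, ?_, ?_, ?_, ?_⟩
    · refine bot_lt_iff_ne_bot.2 fun h => ?_
      rw [h, Subgroup.card_bot] at hDc
      have := Nat.one_lt_pow (show s - 1 ≠ 0 by omega) hp.one_lt
      omega
    · refine lt_of_le_of_ne hDS fun h => ?_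
      rw [h, hs] at hDc
      have := Nat.pow_right_injective hp.two_le hDc
      omega
    · intro Q hQS hQc
      have h1 := hclosed Q hQS (hnorm Q hQS hQc)
      refine ⟨S, stronglyClosed_top_sub, ?_, ?_⟩
      · rw [sup_eq_right.2 hQS]; exact stronglyClosed_top_sub
      · rwa [inf_eq_left.2 hQS]
    · intro H hH hHc N hN P
      have hHn := hnorm H hH.1 hHc
      have hT : normalizerIn S H = S := inf_eq_left.2 hHn
      rw [hN P]
      ext φ
      constructor
      · rintro ⟨hφ, hP, -, -⟩
        rw [hin P] at hφ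
        obtain ⟨-, g, hg, hge⟩ := hφ
        exact ⟨hP, g, hT.symm.le hg, hge⟩
      · rintro ⟨hP, g, hg, hge⟩
        have hgS : g ∈ S := normalizerIn_le H hg
        have hPS : P ≤ S := hP.trans (normalizerIn_le H)
        have hmem : ∀ x : P, φ x ∈ S := fun x =>
          (hge x).symm ▸ S.mul_mem (S.mul_mem hgS (hPS x.2)) (S.inv_mem hgS)
        refine ⟨?_, hP, fun x => hT.symm.le (hmem x), conjHom (P ⊔ H) g,
          F.conj_mem (sup_le hPS hH.1) hgS, fun x => (hge x).symm, ?_⟩
        · rw [hin P]
          exact ⟨hPS, g, hgS, hge⟩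
        · exact conj_img_eq (hHn hgS) le_sup_right
  · rintro ⟨D, -, hDS, hW, hN⟩ P
    have := finite_of_le hDS.le
    obtain ⟨j, hj⟩ := IsPGroup.iff_card.1 (hS.to_le hDS.le)
    refine hom_eq_inner_of_weaklyEmbedded hS hF (j := j) ?_ (fun Q hQS hQc => hW Q hQS (hQc.trans hj.symm))
      (fun H hH hHc => hN H hH (hHc.trans hj.symm)) P
    rw [← hj]
    exact lt_of_not_ge fun h => hDS.ne (Subgroup.eq_of_le_of_card_ge hDS.le h)

end Cfsg.Agent.S5271
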