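import Cfsg.Statements.S5276
import Cfsg.Agent.Lib.Fusion.TateApps

set_option autoImplicit false
open Cfsg Cfsg.FusionSystem CfsgLib.Fusion

namespace Cfsg.Agent.S5276

/-- Let p be a prime and F a saturated fusion system over a finite p-group S. Then F is the inner fusion system of S if and only if the normalizer fusion system of S itself in F is the inner fusion system (equivalently, Aut_F(S) is induced by S) and the Frattini subgroup Φ(S) is strongly closed in F. -/
theorem result {Ω : Type*} [Group Ω] {S : Subgroup Ω} [Finite S] (p : ℕ) [Fact p.Prime] (hS : IsPGroup p ↥S) (F : Cfsg.FusionSystem S) (hF : F.IsSaturated p) : (∀ P : Subgroup Ω, F.Hom P = (Cfsg.innerFusionSystem S).Hom P) ↔ (∀ N : Cfsg.FusionSystem (Cfsg.FusionSystem.normalizerIn S S), F.IsNormalizerSystem S N → ∀ P : Subgroup Ω, N.Hom P = (Cfsg.innerFusionSystem (Cfsg.FusionSystem.normalizerIn S S)).Hom P) ∧ F.StronglyClosed ((frattini ↥S).map S.subtype) := by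
  have hT : normalizerIn S S = S := le_antisymm (normalizerIn_le S) (le_normalizerIn le_rfl)
  constructor
  · intro hin
    refine ⟨fun N hN P => ?_, Subgroup.map_subtype_le _, fun R hR φ hφ x => ?_⟩
    · rw [hN P]
      ext φ
      constructor
      · rintro ⟨hφ, hP, -, -⟩
        rw [hin P] at hφ
        obtain ⟨-, g, hg, hge⟩ := hφ
        exact ⟨hP, g, hT.symm.le hg, hge⟩
      · rintro ⟨hP, g, hg, hge⟩
        have hgS : g ∈ S := normalizerIn_le S hg
        have hPS : P ≤ S := hP.trans (normalizerIn_le S)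
        have hmem : ∀ x : P, φ x ∈ S := fun x =>
          (hge x).symm ▸ S.mul_mem (S.mul_mem hgS (hPS x.2)) (S.inv_mem hgS)
        refine ⟨?_, hP, fun x => hT.symm.le (hmem x), conjHom (P ⊔ S) g,
          F.conj_mem (sup_le hPS le_rfl) hgS, fun x => (hge x).symm, ?_⟩
        · rw [hin P]
          exact ⟨hPS, g, hgS, hge⟩
        · exact conj_img_eq (Subgroup.le_normalizer hgS) le_sup_right
    · rw [hin R] at hφ
      obtain ⟨-, g, hg, hge⟩ := hφ
      rw [hge x]
      exact conj_mem_of_mem_normalizer (le_normalizer_map_frattini hg) (hR x.2)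
  · rintro ⟨hN, hΦ⟩ P
    refine hom_eq_inner_of_focal_le_frattini hS hF ?_ P
    refine focalSubgroup_le_of_stronglyClosed hS hF hΦ (commutator_le_map_frattini hS) ?_
    intro α hα x
    have h1 : S.subtype.comp α.toMonoidHom ∈ F.normalizerHom S S := by
      have hα' := (mem_autGroup_iff F le_rfl).1 hα
      obtain ⟨ψ, hψ, hψe⟩ := mem_of_eq_sup (sup_idem S).symm (IsIso.mem hα')
      refine ⟨hα', hT.symm.le, fun y => hT.symm.le (α y).2, ψ, hψ, fun y => hψe _, ?_⟩
      change img ψ S = S
      ext y
      rw [mem_img]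
      constructor
      · rintro ⟨z, -, rfl⟩
        rw [hψe]
        exact (α _).2
      · intro hy
        refine ⟨Subgroup.inclusion le_sup_left (α.symm ⟨y, hy⟩), (α.symm ⟨y, hy⟩).2, ?_⟩
        rw [hψe]
        exact congrArg Subtype.val (α.apply_symm_apply ⟨y, hy⟩)
    have h2 := hN (normSys F S rfl le_rfl) (fun _ => rfl) S
    obtain ⟨-, g, hg, hge⟩ := h2.le h1
    rw [show (α x : Ω) = g * x * g⁻¹ from hge x]
    exact commutator_le_map_frattini hS
      (inv_mul_conj_mem_commutator x.2 (normalizerIn_le S hg))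

end Cfsg.Agent.S5276
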