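import Cfsg.Statements.S5287
import Cfsg.Agent.Lib.Fusion.MetaSupersoluble
import Cfsg.Agent.S5212
import Cfsg.Agent.S5234
import Cfsg.Agent.S5284
import Cfsg.Agent.S4419

set_option autoImplicit false
open Cfsg

namespace Cfsg.Agent.S5287
open CfsgLib.Fusion in
theorem card_sq_le {A : Type*} [CommGroup A] [Finite A] (hA : Cfsg.Agent.S4419.TwoGen A) (p : ℕ) [NeZero p] :
    Nat.card (powMonoidHom p : A →* A).ker ≤ p ^ 2 := by
  obtain ⟨a, b, hab⟩ := hA
  set f := (powMonoidHom p : A →* A)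
  have h1 := f.ker.card_mul_index
  rw [Subgroup.index_ker, ← f.range.card_mul_index] at h1
  have h2 : Nat.card f.ker = f.range.index := Nat.eq_of_mul_eq_mul_right Nat.card_pos (by rw [h1, mul_comm])
  rw [h2, Subgroup.index_eq_card]
  let g : Fin p × Fin p → A ⧸ f.range := fun x => QuotientGroup.mk (a ^ (x.1 : ℕ) * b ^ (x.2 : ℕ))
  have hg : Function.Surjective g := by
    intro q
    obtain ⟨x, rfl⟩ := QuotientGroup.mk_surjective q
    obtain ⟨i, j, rfl⟩ := Subgroup.mem_closure_pair.1 (hab ▸ Subgroup.mem_top x)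
    have hp0 : (p : ℤ) ≠ 0 := by exact_mod_cast NeZero.ne p
    refine ⟨(⟨(i % p).toNat, ?_⟩, ⟨(j % p).toNat, ?_⟩), ?_⟩
    · have := Int.emod_lt_of_pos i (show (0 : ℤ) < p by exact_mod_cast Nat.pos_of_ne_zero (NeZero.ne p))
      have := Int.emod_nonneg i hp0
      omega
    · have := Int.emod_lt_of_pos j (show (0 : ℤ) < p by exact_mod_cast Nat.pos_of_ne_zero (NeZero.ne p))
      have := Int.emod_nonneg j hp0
      omega
    refine QuotientGroup.eq.2 ⟨a ^ (i / p) * b ^ (j / p), ?_⟩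
    show (a ^ (i / (p : ℤ)) * b ^ (j / (p : ℤ))) ^ p = _
    rw [← zpow_natCast (a := a) ((i % p).toNat), ← zpow_natCast (a := b) ((j % p).toNat),
      Int.toNat_of_nonneg (Int.emod_nonneg i hp0), Int.toNat_of_nonneg (Int.emod_nonneg j hp0),
      mul_pow, ← zpow_natCast (a := a ^ (i / (p : ℤ))), ← zpow_natCast (a := b ^ (j / (p : ℤ))), ← zpow_mul,
      ← zpow_mul, mul_inv_rev]
    have e1 : i = i % p + i / p * p := (Int.emod_add_mul_ediv i p).symm.trans (by rw [mul_comm])
    have e2 : j = j % p + j / p * p := (Int.emod_add_mul_ediv j p).symm.trans (by rw [mul_comm])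
    conv_rhs => rw [e1, e2, zpow_add, zpow_add]
    apply eq_of_div_eq_one
    simp only [div_eq_mul_inv]
    simp [mul_comm, mul_left_comm, mul_assoc]
  refine (Nat.card_le_card_of_surjective g hg).trans ?_
  rw [Nat.card_prod, Nat.card_fin, pow_two]

theorem decomp_iff {X : Type*} [CommGroup X] [Finite X] {p : ℕ} [Fact p.Prime] (hX : IsPGroup p X)
    (hm : Cfsg.IsMetacyclic X) {n : ℕ} (hn : 0 < n) {H : Type} [CommGroup H]
    (e : X ≃* (Multiplicative (ZMod (p ^ n)) × Multiplicative (ZMod (p ^ n))) × H) :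
    Nonempty (X ≃* Multiplicative (ZMod (p ^ n)) × Multiplicative (ZMod (p ^ n))) := by
  have htg : Cfsg.Agent.S4419.TwoGen X :=
    (Cfsg.Agent.S4419.twoGen_of_metacyclic hm ⊤).of_surjective (Subgroup.topEquiv : (⊤ : Subgroup X) ≃* X).toMonoidHom
      (Subgroup.topEquiv : (⊤ : Subgroup X) ≃* X).surjective
  haveI : Finite ((Multiplicative (ZMod (p ^ n)) × Multiplicative (ZMod (p ^ n))) × H) := Finite.of_equiv X e.toEquiv
  haveI : Finite H := Finite.of_surjective (fun x : (Multiplicative (ZMod (p ^ n)) × Multiplicative (ZMod (p ^ n))) × H => x.2)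
    fun h => ⟨(1, h), rfl⟩
  rcases subsingleton_or_nontrivial H with hs | hnt
  · exact ⟨e.trans
      { toFun := fun x => x.1
        invFun := fun x => (x, 1)
        left_inv := fun x => Prod.ext rfl (Subsingleton.elim _ _)
        right_inv := fun x => rfl
        map_mul' := fun a b => rfl }⟩
  exfalso
  have hHp : IsPGroup p H := hX.of_surjective ((MonoidHom.snd _ H).comp e.toMonoidHom)
    fun h => ⟨e.symm (1, h), by simp⟩
  obtain ⟨k, hk0, hk⟩ := hHp.nontrivial_iff_card.1 hnt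
  obtain ⟨h, hh⟩ := exists_prime_orderOf_dvd_card' (G := H) p (hk ▸ dvd_pow_self p hk0.ne')
  haveI : NeZero p := ⟨(Fact.out : p.Prime).ne_zero⟩
  haveI : NeZero (p ^ n) := ⟨pow_ne_zero _ (NeZero.ne p)⟩
  let g : Multiplicative (ZMod (p ^ n)) := Multiplicative.ofAdd ((p ^ (n - 1) : ℕ) : ZMod (p ^ n))
  have hg : orderOf g = p := by
    rw [orderOf_ofAdd_eq_addOrderOf, ZMod.addOrderOf_coe' _ (pow_ne_zero _ (NeZero.ne p)),
      Nat.gcd_eq_right (pow_dvd_pow p (by omega : n - 1 ≤ n)), Nat.pow_div (by omega) (Nat.pos_of_ne_zero (NeZero.ne p)),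
      show n - (n - 1) = 1 by omega, pow_one]
  let ι : (Fin p × Fin p) × Fin p → (powMonoidHom p : X →* X).ker := fun x =>
    ⟨e.symm ((g ^ (x.1.1 : ℕ), g ^ (x.1.2 : ℕ)), h ^ (x.2 : ℕ)), by
      have key : ∀ {M : Type} [Monoid M] (u : M) (i : ℕ), orderOf u = p → (u ^ i) ^ p = 1 := fun u i hu => by
        rw [← pow_mul, mul_comm, pow_mul, ← hu, pow_orderOf_eq_one, one_pow]
      rw [MonoidHom.mem_ker, powMonoidHom_apply, ← map_pow, Prod.pow_mk, Prod.pow_mk, key g _ hg, key g _ hg,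
        key h _ hh]
      exact map_one _⟩
  have hι : Function.Injective ι := by
    rintro ⟨⟨a, b⟩, c⟩ ⟨⟨a', b'⟩, c'⟩ heq
    have := e.symm.injective (congrArg Subtype.val heq)
    simp only [Prod.mk.injEq] at this
    obtain ⟨⟨ha, hb⟩, hc⟩ := this
    have key : ∀ {M : Type} [Group M] (u : M) (i j : Fin p), orderOf u = p → u ^ (i : ℕ) = u ^ (j : ℕ) → i = j :=
      fun u i j hu h => Fin.ext (by
        have := pow_eq_pow_iff_modEq.1 h
        rw [hu, Nat.ModEq, Nat.mod_eq_of_lt i.isLt, Nat.mod_eq_of_lt j.isLt] at this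
        exact this)
    rw [key g a a' hg ha, key g b b' hg hb, key h c c' hh hc]
  have h1 := (Nat.card_le_card_of_injective ι hι).trans (card_sq_le htg p)
  rw [Nat.card_prod, Nat.card_prod, Nat.card_fin] at h1
  have := (Fact.out : p.Prime).two_le
  nlinarith

theorem not_excluded_abelian {X : Type*} [Group X] [Finite X] (hc : ∀ a b : X, a * b = b * a) :
    (∀ n : ℕ, 2 ≤ n → Nonempty (X ≃* DihedralGroup n) → n = 2) ∧ ¬ Cfsg.IsQuasiDihedral X ∧
      ∀ n : ℕ, 2 ≤ n → IsEmpty (X ≃* QuaternionGroup n) := by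
  refine ⟨fun n hn ⟨e⟩ => ?_, ?_, fun n hn => ⟨fun e => ?_⟩⟩
  · have h := hc (e.symm (DihedralGroup.r 1)) (e.symm (DihedralGroup.sr 0))
    rw [← map_mul, ← map_mul] at h
    have h' := e.symm.injective h
    simp only [DihedralGroup.r_mul_sr, DihedralGroup.sr_mul_r, DihedralGroup.sr.injEq, zero_sub, zero_add] at h'
    have h2 : ((2 : ℕ) : ZMod n) = 0 := by push_cast; linear_combination -h'
    have := Nat.le_of_dvd (by norm_num) ((ZMod.natCast_eq_zero_iff 2 n).1 h2)
    omega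
  · rintro ⟨m, hm, -, x, y, hx, -, hxy⟩
    rw [hc y x, mul_inv_cancel_right] at hxy
    have h2 := (pow_inj_mod (x := x) (n := 1) (m := 2 ^ (m - 1) - 1)).mp (by rwa [pow_one])
    rw [hx] at h2
    have e1 : 2 ^ m = 2 * 2 ^ (m - 1) := by rw [← pow_succ']; congr 1; omega
    have e2 : 4 ≤ 2 ^ (m - 1) := by
      calc 4 = 2 ^ 2 := rfl
        _ ≤ _ := Nat.pow_le_pow_right (by norm_num) (by omega)
    rw [Nat.mod_eq_of_lt (by omega), Nat.mod_eq_of_lt (by omega)] at h2
    omega
  · have h := hc (e.symm (QuaternionGroup.a 1)) (e.symm (QuaternionGroup.xa 0))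
    rw [← map_mul, ← map_mul] at h
    have h' := e.symm.injective h
    simp only [QuaternionGroup.a_mul_xa, QuaternionGroup.xa_mul_a, QuaternionGroup.xa.injEq, zero_sub, zero_add] at h'
    have h2 : ((2 : ℕ) : ZMod (2 * n)) = 0 := by push_cast; linear_combination -h'
    have := Nat.le_of_dvd (by norm_num) ((ZMod.natCast_eq_zero_iff 2 (2 * n)).1 h2)
    omega

theorem small_cases {X : Type*} [Group X] [Finite X] (hX : IsPGroup 2 X) {m : ℕ} (h : Nat.card X = 2 * m) :
    ∃ k, m = 2 ^ k := by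
  haveI : Fact (Nat.Prime 2) := ⟨Nat.prime_two⟩
  obtain ⟨j, hj⟩ := IsPGroup.iff_card.1 hX
  obtain ⟨k, -, hk⟩ := (Nat.dvd_prime_pow Nat.prime_two).1 (⟨2, by rw [← hj, h, mul_comm]⟩ : m ∣ 2 ^ j)
  exact ⟨k, hk⟩

/-- Let S be a finite metacyclic p-group (an extension of a cyclic group by a cyclic group). Every saturated fusion system over S is supersoluble (S has a chain of F-strongly closed subgroups from 1 to S with cyclic steps) if and only if S is not homocyclic of rank two (isomorphic to Z/p^n × Z/p^n with n ≥ 1) and, when p = 2, S is not dihedral of order at least 4, not quasi-dihedral (semidihedral) and not generalized quaternion of order at least 8. -/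
theorem result {Ω : Type*} [Group Ω] {S : Subgroup Ω} [Finite S] (p : ℕ) [Fact p.Prime] (hS : IsPGroup p ↥S) (hm : Cfsg.IsMetacyclic ↥S) : (∀ F : Cfsg.FusionSystem S, F.IsSaturated p → (∃ (m : ℕ) (c : Fin (m + 1) → Subgroup Ω), c 0 = ⊥ ∧ c (Fin.last m) = S ∧ (∀ i : Fin (m + 1), F.StronglyClosed (c i)) ∧ ∀ i : Fin m, c i.castSucc ≤ c i.succ ∧ ∃ x ∈ S, c i.succ = c i.castSucc ⊔ Subgroup.zpowers x)) ↔ ¬ ((∃ n : ℕ, 0 < n ∧ Nonempty (↥S ≃* Multiplicative (ZMod (p ^ n)) × Multiplicative (ZMod (p ^ n)))) ∨ (p = 2 ∧ ((∃ n : ℕ, 2 ≤ n ∧ Nonempty (↥S ≃* DihedralGroup n)) ∨ Cfsg.IsQuasiDihedral ↥S ∨ (∃ n : ℕ, 2 ≤ n ∧ Nonempty (↥S ≃* QuaternionGroup n))))) := by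
  classical
  constructor
  · intro hss hex
    rcases hex with ⟨n, hn, ⟨e⟩⟩ | ⟨rfl, hex⟩
    · haveI hab : IsMulCommutative ↥S := ⟨⟨fun a b => e.injective (by rw [map_mul, map_mul, mul_comm])⟩⟩
      exact (Cfsg.Agent.S5284.result p hS hab).1 hss ⟨n, PUnit.{1}, inferInstance, hn,
        ⟨e.trans (MulEquiv.prodUnique (M := Multiplicative (ZMod (p ^ n)) × Multiplicative (ZMod (p ^ n)))
          (N := PUnit.{1})).symm⟩⟩
    · obtain ⟨G, hG, hfin, T, ⟨e⟩, hnc⟩ : ∃ (G : Type) (_ : Group G) (_ : Finite G) (T : Sylow 2 G),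
          Nonempty (↥S ≃* ↥(T : Subgroup G)) ∧ ¬ Cfsg.HasNormalPComplement 2 G := by
        rcases hex with ⟨n, hn, ⟨e⟩⟩ | hq | ⟨n, hn, ⟨e⟩⟩
        · obtain ⟨k, rfl⟩ := small_cases hS (m := n) (by
            haveI : NeZero n := ⟨by omega⟩
            rw [Nat.card_congr e.toEquiv, DihedralGroup.nat_card])
          have hk : 1 ≤ k := Nat.pos_of_ne_zero fun h => by subst h; norm_num at hn
          obtain ⟨G, hG, hfin, T, ⟨e'⟩, hnc⟩ := CfsgLib.Fusion.MetaSS.dihedral_case k hk
          exact ⟨G, hG, hfin, T, ⟨e.trans e'⟩, hnc⟩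
        · exact CfsgLib.Fusion.MetaSS.quasi_case hq
        · obtain ⟨k, hk⟩ := small_cases hS (m := 2 * n) (by
            haveI : NeZero n := ⟨by omega⟩
            rw [Nat.card_congr e.toEquiv, Nat.card_eq_fintype_card, QuaternionGroup.card]; ring)
          obtain ⟨l, rfl⟩ : ∃ l, k = l + 1 := ⟨k - 1, by
            rcases Nat.eq_zero_or_pos k with h | h
            · subst h; norm_num at hk
            · omega⟩
          have hn' : n = 2 ^ l := by rw [pow_succ] at hk; omega
          subst hn'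
          have hl : 1 ≤ l := Nat.pos_of_ne_zero fun h => by subst h; norm_num at hn
          obtain ⟨G, hG, hfin, T, ⟨e'⟩, hnc⟩ := CfsgLib.Fusion.MetaSS.quaternion_case l hl
          exact ⟨G, hG, hfin, T, ⟨e.trans e'⟩, hnc⟩
      exact hnc (CfsgLib.Fusion.MetaSS.complement_of_type hS hss T e)
  · intro hex
    by_cases hab : IsMulCommutative ↥S
    · refine (Cfsg.Agent.S5284.result p hS hab).2 ?_
      rintro ⟨n, H, hH, hn, ⟨e⟩⟩
      letI : CommGroup ↥S := { (inferInstance : Group ↥S) with mul_comm := hab.is_comm.comm }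
      exact hex (Or.inl ⟨n, hn, decomp_iff hS hm hn e⟩)
    by_cases hp : p = 2
    · subst hp
      intro F hF
      have hinner := Cfsg.Agent.S5212.result hS F hF hm
        (fun ⟨n, k, ⟨e⟩⟩ => hab ⟨⟨fun a b => e.injective (by rw [map_mul, map_mul, mul_comm])⟩⟩)
        (fun ⟨m, ⟨e⟩⟩ => by
          by_cases h2 : 2 ≤ m
          · exact hex (Or.inr ⟨rfl, Or.inl ⟨m, h2, ⟨e⟩⟩⟩)
          · refine hab ⟨⟨fun a b => e.injective ?_⟩⟩
            rw [map_mul, map_mul]
            interval_cases m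
            · exact absurd (Finite.of_equiv _ e.toEquiv) (fun h => (DihedralGroup.instInfiniteOfNatNat :
                Infinite (DihedralGroup 0)).not_finite h)
            · exact (show ∀ u v : DihedralGroup 1, u * v = v * u by decide) _ _)
        (fun ⟨m, ⟨e⟩⟩ => by
          by_cases h2 : 2 ≤ m
          · exact hex (Or.inr ⟨rfl, Or.inr (Or.inr ⟨m, h2, ⟨e⟩⟩)⟩)
          · refine hab ⟨⟨fun a b => e.injective ?_⟩⟩
            rw [map_mul, map_mul]
            interval_cases m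
            · haveI : Infinite (QuaternionGroup 0) := Infinite.of_injective
                (fun z : ℤ => QuaternionGroup.a (n := 0) (z : ZMod (2 * 0))) fun a b h => by injection h
              exact absurd (Finite.of_equiv _ e.toEquiv) (fun h => (inferInstance : Infinite (QuaternionGroup 0)).not_finite h)
            · exact (show ∀ u v : QuaternionGroup 1, u * v = v * u by decide) _ _)
        (fun h => hex (Or.inr ⟨rfl, Or.inr (Or.inl h)⟩))
      obtain ⟨N, hN, hNc, hQc⟩ := hm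
      obtain ⟨a, ha⟩ := IsCyclic.exists_generator (α := N)
      obtain ⟨b, hb⟩ := IsCyclic.exists_generator (α := ↥S ⧸ N)
      obtain ⟨c, rfl⟩ := QuotientGroup.mk'_surjective N b
      have hcl : ∀ C : Subgroup ↥S, C.Normal → F.StronglyClosed (C.map S.subtype) := by
        intro C hC
        refine ⟨Subgroup.map_subtype_le _, fun R hR φ hφ x => ?_⟩
        rw [hinner] at hφ
        obtain ⟨-, g, hg, hgx⟩ := hφ
        obtain ⟨y, hy, hyx⟩ := hR x.2
        exact ⟨⟨g, hg⟩ * y * ⟨g, hg⟩⁻¹, hC.conj_mem y hy ⟨g, hg⟩, by rw [hgx, ← hyx]; rfl⟩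
      refine ⟨2, ![⊥, N.map S.subtype, S], rfl, rfl, fun i => ?_, fun i => ?_⟩
      · fin_cases i
        · show F.StronglyClosed ⊥
          exact (Subgroup.map_bot S.subtype) ▸ hcl ⊥ inferInstance
        · exact hcl N hN
        · show F.StronglyClosed S
          exact ⟨le_rfl, fun R _ φ hφ x => (F.le_of_mem hφ).2 x⟩
      · fin_cases i
        · refine ⟨bot_le, (a : ↥S), (a : ↥S).2, ?_⟩
          show N.map S.subtype = ⊥ ⊔ Subgroup.zpowers ((a : ↥S) : Ω)
          rw [bot_sup_eq, show ((a : ↥S) : Ω) = S.subtype (a : ↥S) from rfl, ← MonoidHom.map_zpowers]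
          congr 1
          refine le_antisymm (fun y hy => ?_) (Subgroup.zpowers_le.2 a.2)
          obtain ⟨i, hi⟩ := Subgroup.mem_zpowers_iff.1 (ha ⟨y, hy⟩)
          exact ⟨i, by simpa using congrArg Subtype.val hi⟩
        · refine ⟨Subgroup.map_subtype_le _, (c : Ω), c.2, ?_⟩
          show S = N.map S.subtype ⊔ Subgroup.zpowers (c : Ω)
          refine le_antisymm (fun y hy => ?_) (sup_le (Subgroup.map_subtype_le _) (Subgroup.zpowers_le.2 c.2))
          obtain ⟨i, hi⟩ := Subgroup.mem_zpowers_iff.1 (hb (QuotientGroup.mk' N ⟨y, hy⟩))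
          have h1 : (c ^ i)⁻¹ * ⟨y, hy⟩ ∈ N := QuotientGroup.eq.1 (by simpa using hi)
          have h2 := mul_mem (Subgroup.mem_sup_right (S := N.map S.subtype) (Subgroup.zpow_mem_zpowers (c : Ω) i))
            (Subgroup.mem_sup_left (Subgroup.mem_map_of_mem S.subtype h1))
          simpa using h2
    · refine (CfsgLib.Fusion.supersoluble_iff hS).2 ⟨fun F hF =>
        Cfsg.Agent.S5234.result p hS F hF S ⟨le_rfl, fun R _ φ hφ x => (F.le_of_mem hφ).2 x⟩ hp hm,
        fun H hH => CfsgLib.Fusion.MetaSS.aut_nonabelian hp hS hm hab H hH⟩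

end Cfsg.Agent.S5287
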