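import Cfsg.Statements.S5289
import Cfsg.Agent.Lib.Fusion.RankTwoTypeTwo
import Cfsg.Agent.Lib.Fusion.CenterIndexPSq
import Cfsg.Agent.Lib.Fusion.WeaklyEmbedded
import Cfsg.Agent.S5234
import Cfsg.Agent.S3888

set_option autoImplicit false
open Cfsg Cfsg.FusionSystem CfsgLib.Fusion

namespace Cfsg.Agent.S5289

/-- Let p ≥ 5 be a prime and S a finite p-group of p-rank two (it has an elementary abelian subgroup of order p² and none of order p³) which is not the extraspecial group of order p³ and exponent p. Then S is resistant: for every saturated fusion system F over S, S is normal in F, that is, every map of F extends to an F-automorphism of S. -/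
theorem result {Ω : Type*} [Group Ω] {S : Subgroup Ω} [Finite S] (p : ℕ) [Fact p.Prime] (hS : IsPGroup p S)
    (F : Cfsg.FusionSystem S) (hF : F.IsSaturated p)
    (hp : 5 ≤ p)
    (hrank2 : ∃ E : Subgroup Ω, E ≤ S ∧ Cfsg.IsElementaryAbelian p E ∧ Nat.card E = p ^ 2)
    (hrank3 : ∀ E : Subgroup Ω, E ≤ S → Cfsg.IsElementaryAbelian p E → Nat.card E ≤ p ^ 2)
    (hnotE : ¬ (Nat.card S = p ^ 3 ∧ Monoid.exponent ↥S = p)) : F.IsNormal S := by
  classical
  have hp2 : p ≠ 2 := by omega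
  obtain ⟨n, hn⟩ := hS.exists_card_eq
  have hrk : Cfsg.PRankLE p 2 ↥S := CfsgLib.PGroup.pRankLE_iff.2 fun A hA => by
    rw [← Subgroup.card_map_of_injective S.subtype_injective]
    refine hrank3 _ (Subgroup.map_subtype_le A) ⟨⟨⟨?_⟩⟩, ?_⟩
    · rintro ⟨_, a, ha, rfl⟩ ⟨_, b, hb, rfl⟩
      exact Subtype.ext (congrArg S.subtype
        (congrArg Subtype.val (hA.1.is_comm.comm (⟨a, ha⟩ : A) ⟨b, hb⟩)))
    · rintro _ ⟨a, ha, rfl⟩
      rw [← map_pow, hA.2 a ha, map_one]
  suffices hno : ¬ Cfsg.IsMetacyclic ↥S → ∀ E, ¬ F.IsEssential p E by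
    by_cases hm : Cfsg.IsMetacyclic ↥S
    · exact Cfsg.Agent.S5234.result p hS F hF S stronglyClosed_top_sub hp2 hm
    · refine isNormal_of_autGroup_invariant hS hF fun P hP => ?_
      rcases hP with rfl | hP
      · exact ⟨le_rfl, fun α _ x _ => (α x).2⟩
      · exact absurd hP (hno hm P)
  intro hm E
  rcases Cfsg.Agent.S3888.result (G := ↥S) hp2 n hn hrk with h | h | h | ⟨h3, -⟩
  · exact absurd h hm
  · obtain ⟨h3, x, y, z, hgen, hx, hy, hz, hxz, hyz, hcy⟩ := h
    have hcy' : ∃ e : ℤ, x⁻¹ * y * x = y * z ^ e := ⟨(p ^ (n - 3) : ℕ), by rw [zpow_natCast, hcy]⟩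
    rcases Nat.lt_or_ge n 4 with h4 | h4
    · obtain rfl : n = 3 := by omega
      exact absurd ⟨hn, CfsgLib.Fusion.RankTwoTwo.exponent_eq hp2 hn hgen hxz hyz hcy' hx hy
        (by simpa using hz)⟩ hnotE
    · exact CfsgLib.Fusion.RankTwoTwo.not_essential hS hF hp hn h4 hgen hxz hyz hcy' hx hy hz E
  · obtain ⟨h4, s, x, y, z, hs, hgen, hx, hy, hz, hyz, hcy, hcz⟩ := h
    have hs' : ¬ p ∣ s := by
      intro hd
      rcases hs with rfl | hs
      · exact (Fact.out : p.Prime).one_lt.ne' (Nat.dvd_one.1 hd)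
      · exact hs ⟨0, by rw [(ZMod.natCast_eq_zero_iff s p).2 hd, mul_zero]⟩
    exact CfsgLib.Fusion.RankTwoThree.not_essential hS hF
      ⟨hn, h4, hp, hs', hgen, hx, hy, hz, hyz, hcy, hcz⟩ E
  · omega

end Cfsg.Agent.S5289
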