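import Cfsg.Statements.S5296
import Cfsg.Agent.Lib.Fusion.SmallAgree

set_option autoImplicit false
universe u
open Cfsg Cfsg.FusionSystem CfsgLib.Fusion

namespace Cfsg.Agent.S5296

/-- Small-exponent abelian subgroups of the hyperfocal subgroup control fusion. Let E and F be saturated fusion systems over the same finite p-group S with E contained in F. Suppose that E and F have the same maps between A and B for all subgroups A, B of the hyperfocal subgroup of F that are elementary abelian when p is odd, respectively abelian of exponent dividing 4 when p = 2. Then E = F. -/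
theorem result {Ω : Type u} [Group Ω] {S : Subgroup Ω} [Finite S] (p : ℕ) [Fact p.Prime] (hS : IsPGroup p S)
    (E F : Cfsg.FusionSystem S) (hE : E.IsSaturated p) (hF : F.IsSaturated p) (hEF : E.IsSubsystemOf F)
    (hodd : p ≠ 2 → ∀ A B : Subgroup Ω, A ≤ (F.hyperfocalSubgroup p) → B ≤ (F.hyperfocalSubgroup p) →
      Cfsg.IsElementaryAbelian p A → Cfsg.IsElementaryAbelian p B → E.homSet A B = F.homSet A B)
    (htwo : p = 2 → ∀ A B : Subgroup Ω, A ≤ (F.hyperfocalSubgroup p) → B ≤ (F.hyperfocalSubgroup p) →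
      IsMulCommutative ↥A → IsMulCommutative ↥B → (∀ a ∈ A, a ^ 4 = 1) → (∀ b ∈ B, b ^ 4 = 1) → E.homSet A B = F.homSet A B) :
    ∀ P : Subgroup Ω, E.Hom P = F.Hom P := by
  refine hom_eq_of_small_agree hS E F hE hF hEF fun A B hA hB hAs hBs => ?_
  have hcA : IsMulCommutative ↥A := ⟨⟨fun a b => Subtype.ext (hAs.1 a a.2 b b.2)⟩⟩
  have hcB : IsMulCommutative ↥B := ⟨⟨fun a b => Subtype.ext (hBs.1 a a.2 b b.2)⟩⟩
  by_cases hp : p = 2
  · refine htwo hp A B hA hB hcA hcB (fun a ha => ?_) fun b hb => ?_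
    · simpa [smallExp, hp] using hAs.2 a ha
    · simpa [smallExp, hp] using hBs.2 b hb
  · refine hodd hp A B hA hB ⟨hcA, fun a ha => ?_⟩ ⟨hcB, fun b hb => ?_⟩
    · simpa [smallExp, hp] using hAs.2 a ha
    · simpa [smallExp, hp] using hBs.2 b hb

end Cfsg.Agent.S5296
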