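import Cfsg.Statements.S5298
import Cfsg.Agent.Lib.Fusion.SmallControl

set_option autoImplicit false
universe u
open Cfsg Cfsg.FusionSystem CfsgLib.Fusion

namespace Cfsg.Agent.S5298

/-- Let F be a saturated fusion system over a finite p-group S. If every map of F between cyclic subgroups of the hyperfocal subgroup of F of order p or 4 is conjugation by an element of S, then F is the inner fusion system of S. -/
theorem result {Ω : Type u} [Group Ω] {S : Subgroup Ω} [Finite S] (p : ℕ) [Fact p.Prime] (hS : IsPGroup p S)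
    (F : Cfsg.FusionSystem S) (hF : F.IsSaturated p)
    (h : ∀ A B : Subgroup Ω, A ≤ (F.hyperfocalSubgroup p) → B ≤ (F.hyperfocalSubgroup p) → IsCyclic ↥A → (Nat.card ↥A = p ∨ Nat.card ↥A = 4) → IsCyclic ↥B → (Nat.card ↥B = p ∨ Nat.card ↥B = 4) →
      F.homSet A B ⊆ (Cfsg.innerFusionSystem S).Hom A) :
    ∀ P : Subgroup Ω, F.Hom P = (Cfsg.innerFusionSystem S).Hom P := by
  obtain ⟨n, hser⟩ := smallSeries_upper hS hF (fun A B hA hB hAc hAn hBc hBn φ hφ => by
    obtain ⟨-, g, hg, hge⟩ := h A B hA hB hAc hAn hBc hBn hφ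
    have hAS : A ≤ S := le_S F hφ.1
    refine ⟨hφ.1, hAS.trans (le_inf le_rfl Subgroup.le_normalizer), fun x =>
      le_inf le_rfl Subgroup.le_normalizer (apply_mem_S F hφ.1 x), conjHom (A ⊔ S) g,
      F.conj_mem (sup_le hAS le_rfl) hg, fun x => (hge x).symm, ?_⟩
    exact conj_img_eq (Subgroup.le_normalizer hg) le_sup_right)
  refine hser.hom_eq_inner hS hF fun β hβ x hxD hxs => ?_
  by_cases hx1 : (x : Ω) = 1
  · exact ⟨1, S.one_mem, by simp [show x = 1 from Subtype.ext hx1]⟩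
  set A := Subgroup.zpowers (x : Ω) with hA
  have hAS : A ≤ S := Subgroup.zpowers_le.2 x.2
  set ψ := (S.subtype.comp β.toMonoidHom).comp (Subgroup.inclusion hAS) with hψdef
  have hψ : ψ ∈ F.Hom A := res_mem F ((mem_autGroup_iff F le_rfl).1 hβ) hAS
  have hcard : Nat.card A = p ∨ Nat.card A = 4 := by
    rw [Nat.card_zpowers]
    have hx1' : orderOf (x : Ω) ≠ 1 := fun e => hx1 (orderOf_eq_one_iff.1 e)
    rcases hxs with hxs | ⟨e, hxs⟩
    · rcases (Nat.dvd_prime (Fact.out : p.Prime)).1 (orderOf_dvd_of_pow_eq_one hxs) with h1 | h1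
      · exact absurd h1 hx1'
      · exact Or.inl h1
    · obtain ⟨k, hk, hk'⟩ := (Nat.dvd_prime_pow Nat.prime_two).1
        (orderOf_dvd_of_pow_eq_one (show (x : Ω) ^ (2 ^ 2) = 1 by simpa using hxs))
      interval_cases k
      · exact absurd hk' hx1'
      · exact Or.inl (by rw [hk', e]; rfl)
      · exact Or.inr (by rw [hk']; rfl)
  have hAD : A ≤ F.hyperfocalSubgroup p := Subgroup.zpowers_le.2 hxD
  have : IsCyclic ↥A := inferInstance
  have hB : ψ.range ≤ F.hyperfocalSubgroup p := by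
    rintro _ ⟨y, rfl⟩
    exact apply_mem_hyperfocal hS hF hψ (hAD y.2)
  have hBcard : Nat.card ψ.range = p ∨ Nat.card ψ.range = 4 := by
    have := finite_of_le hAS
    rw [← Nat.card_congr (MonoidHom.ofInjective (F.injective_of_mem hψ)).toEquiv]
    exact hcard
  obtain ⟨-, g, hg, hge⟩ := h A ψ.range hAD hB inferInstance hcard
    (isCyclic_of_surjective ψ.rangeRestrict ψ.rangeRestrict_surjective) hBcard
    ⟨hψ, fun y => ⟨y, rfl⟩⟩
  exact ⟨g, hg, hge ⟨(x : Ω), Subgroup.mem_zpowers _⟩⟩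

end Cfsg.Agent.S5298
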