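import Cfsg.Statements.S5299
import Cfsg.Agent.Lib.Fusion.SylowTools

set_option autoImplicit false
universe u
open Cfsg Cfsg.FusionSystem CfsgLib.Fusion

namespace Cfsg.Agent.S5299

/-- Let F be a saturated fusion system over a finite p-group S, H a finite group and Q a p-subgroup of H. If Q is not involved in S (no section of S is isomorphic to Q), then F is H-free: H is involved in no model of the normalizer system of a fully normalized centric subgroup. -/
theorem result {Ω : Type u} [Group Ω] {S : Subgroup Ω} [Finite S] (p : ℕ) [Fact p.Prime] (hS : IsPGroup p S)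
    (F : Cfsg.FusionSystem S) (hF : F.IsSaturated p) (H : Type*) [Group H] [Finite H] (Q : Subgroup H) (hQ : IsPGroup p Q)
    (hfree : ¬ Cfsg.Involves (↥Q) (↥S)) : F.IsSectionFree p H := by
  intro R hR hRc N hN L _ ι hM hinv
  obtain ⟨hL, hreal, ⟨T, hT⟩, -⟩ := hM
  obtain ⟨K, R₀, hn, ⟨e⟩⟩ := hinv
  let f : K →* H := e.toMonoidHom.comp (QuotientGroup.mk' _)
  have hf : Function.Surjective f := e.surjective.comp (QuotientGroup.mk'_surjective _)
  let f₁ : Q.comap f →* Q := f.subgroupComap Q
  have hf₁ : Function.Surjective f₁ := fun q => by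
    obtain ⟨k, hk⟩ := hf q
    exact ⟨⟨k, show f k ∈ Q from hk ▸ q.2⟩, Subtype.ext hk⟩
  obtain ⟨P⟩ : Nonempty (Sylow p (Q.comap f)) := inferInstance
  have hP : (P : Subgroup (Q.comap f)).map f₁ = ⊤ := by
    rw [← Subgroup.index_eq_one]
    obtain ⟨k, hk⟩ := hQ.index ((P : Subgroup (Q.comap f)).map f₁)
    rcases Nat.eq_zero_or_pos k with h | h
    · rw [hk, h, pow_zero]
    · exact absurd ((hk ▸ dvd_pow_self p h.ne').trans (Subgroup.index_map_dvd _ hf₁))
        P.not_dvd_index
  let i : (P : Subgroup (Q.comap f)) →* L :=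
    (K.subtype.comp (Q.comap f).subtype).comp (P : Subgroup (Q.comap f)).subtype
  have hi : Function.Injective i :=
    (K.subtype_injective.comp (Q.comap f).subtype_injective).comp (Subgroup.subtype_injective _)
  obtain ⟨n, hn'⟩ := exists_conj_mem (p := p) (P.2.of_surjective i.rangeRestrict i.rangeRestrict_surjective)
    (hT ▸ T.2 : IsPGroup p ι.range) (hT ▸ T.not_dvd_index)
  let j : (P : Subgroup (Q.comap f)) →* L := (MulAut.conj n).toMonoidHom.comp i
  have hj : ∀ x, j x ∈ ι.range := fun x => hn' _ ⟨x, rfl⟩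
  let j' : (P : Subgroup (Q.comap f)) →* S :=
    (Subgroup.inclusion (inf_le_left : normalizerIn S R ≤ S)).comp
      ((MonoidHom.ofInjective hreal.1).symm.toMonoidHom.comp (j.codRestrict ι.range hj))
  have hj' : Function.Injective j' := by
    refine (Subgroup.inclusion_injective (inf_le_left : normalizerIn S R ≤ S)).comp ((MonoidHom.ofInjective hreal.1).symm.injective.comp ?_)
    intro a b hab
    exact hi ((MulAut.conj n).injective (congrArg Subtype.val hab))
  let g : j'.range →* Q := (f₁.comp (P : Subgroup (Q.comap f)).subtype).comp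
    (MonoidHom.ofInjective hj').symm.toMonoidHom
  have hg : Function.Surjective g := by
    intro q
    obtain ⟨x, hx, rfl⟩ := hP.ge (Subgroup.mem_top q)
    refine ⟨MonoidHom.ofInjective hj' ⟨x, hx⟩, ?_⟩
    change f₁ ((((MonoidHom.ofInjective hj').symm (MonoidHom.ofInjective hj' ⟨x, hx⟩)) :
      (P : Subgroup (Q.comap f))) : Q.comap f) = f₁ x
    rw [MulEquiv.symm_apply_apply]
  apply hfree
  have heq : (g.ker.map j'.range.subtype).subgroupOf j'.range = g.ker :=
    Subgroup.comap_map_eq_self_of_injective j'.range.subtype_injective _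
  have hn2 : ((g.ker.map j'.range.subtype).subgroupOf j'.range).Normal := by
    rw [heq]
    infer_instance
  exact ⟨j'.range, g.ker.map j'.range.subtype, hn2,
    ⟨(QuotientGroup.quotientMulEquivOfEq heq).trans (QuotientGroup.quotientKerEquivOfSurjective g hg)⟩⟩

end Cfsg.Agent.S5299
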