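import Cfsg.Statements.S5301
import Cfsg.Agent.Lib.Fusion.Normal
import Cfsg.Agent.Lib.Fusion.Alperin

set_option autoImplicit false
universe u
open Cfsg Cfsg.FusionSystem CfsgLib.Fusion

namespace Cfsg.Agent.S5301

/-- Let F be a saturated fusion system over a finite p-group S. If for every subgroup P of S that is fully normalized, centric and radical in F the automorphism group that F induces on P has a normal Sylow p-subgroup, then S is normal in F. -/
theorem result {Ω : Type u} [Group Ω] {S : Subgroup Ω} [Finite S] (p : ℕ) [Fact p.Prime] (hS : IsPGroup p S)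
    (F : Cfsg.FusionSystem S) (hF : F.IsSaturated p)
    (hcl : ∀ P : Subgroup Ω, F.IsFullyNormalized P → F.IsCentric P → F.IsRadical p P →
      ∃ R : Sylow p ↥(F.autGroup P), (R : Subgroup ↥(F.autGroup P)).Normal) :
    F.IsNormal S := by
  refine isNormal_of_stronglyClosed hS hF ⟨le_rfl, fun R _ φ hφ x => apply_mem_S F hφ x⟩
    fun P hP => ?_
  have hrad := isRadical_of_isEssential hS hP
  obtain ⟨R, hR⟩ := hcl P hP.2.1 hP.1 hrad
  obtain ⟨⟨-, T, hT⟩, -⟩ := fullyAutomized_receptive_of_fullyNormalized hS hF hP.2.1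
  have : Finite P := finite_of_le hP.1.1
  obtain rfl : T = R := by
    obtain ⟨g, hg⟩ := MulAction.exists_smul_eq (F.autGroup P) R T
    rw [← hg, Sylow.smul_eq_iff_mem_normalizer.2]
    change g ∈ Subgroup.normalizer ((R : Subgroup (F.autGroup P)) : Set (F.autGroup P))
    rw [Subgroup.normalizer_eq_top]
    trivial
  refine le_of_centric_radical hS hP.1 hrad le_rfl Subgroup.le_normalizer (autInducedBy S P)
    (autInducedBy_le_autGroup hP.1.1) ?_ (isPGroup_autInducedBy hS P)
    fun x hx hxn => mem_autInducedBy_iff.2 ⟨x, hx, fun _ => rfl⟩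
  rw [← hT]
  exact hR

end Cfsg.Agent.S5301
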