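import Cfsg.Statements.S5306
import Cfsg.Agent.Lib.Fusion.GroupSystem

set_option autoImplicit false
open Cfsg Cfsg.FusionSystem CfsgLib.Fusion

namespace Cfsg.Agent.S5306

/-- Let P be a Sylow p-subgroup of the finite group X and J = J(P) its Thompson subgroup (generated by the elementary abelian subgroups of P of largest order). If x and y lie in the centre of J and y = g x g⁻¹ for some g in X, then y = n x n⁻¹ for some n in the normalizer N_X(J). -/
theorem result {X : Type*} [Group X] [Finite X] (p : ℕ) [Fact p.Prime] (P : Sylow p X) (J : Subgroup X) (hJ : J = Cfsg.thompsonSubgroupOf p (P : Subgroup X))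
    (x y : X) (hx : x ∈ J ∧ ∀ j ∈ J, Commute j x) (hy : y ∈ J ∧ ∀ j ∈ J, Commute j y) (g : X) (hg : g * x * g⁻¹ = y) :
    ∃ n ∈ Subgroup.normalizer (J : Set X), n * x * n⁻¹ = y := by
  have hJP : J ≤ (P : Subgroup X) := hJ ▸ Subgroup.map_subtype_le _
  have huniq : ∀ v : X, conjSub v J ≤ (P : Subgroup X) → conjSub v J = J := by
    intro v hv
    refine Subgroup.eq_of_le_of_card_ge ?_ (card_conjSub v J).ge
    intro z hz
    obtain ⟨w, hw, rfl⟩ := hz
    rw [hJ] at hw
    obtain ⟨w, hw, rfl⟩ := hw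
    let T : Subgroup ↥(P : Subgroup X) :=
      (J.comap (MulAut.conj v).toMonoidHom).comap (P : Subgroup X).subtype
    have hle : thompsonSubgroup p ↥(P : Subgroup X) ≤ T := by
      refine sSup_le fun A hA => ?_
      have hAJ : A.map (P : Subgroup X).subtype ≤ J :=
        hJ ▸ Subgroup.map_mono (le_sSup hA)
      have hAP : conjSub v (A.map (P : Subgroup X).subtype) ≤ (P : Subgroup X) :=
        (conjSub_mono v hAJ).trans hv
      let B : Subgroup ↥(P : Subgroup X) :=
        (conjSub v (A.map (P : Subgroup X).subtype)).subgroupOf (P : Subgroup X)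
      have hB : B ∈ maxElementaryAbelianSubgroups p ↥(P : Subgroup X) := by
        refine ⟨⟨⟨⟨?_⟩⟩, ?_⟩, fun C hC => ?_⟩
        · rintro ⟨b, _, ⟨a, ha, rfl⟩, hab⟩ ⟨b', _, ⟨a', ha', rfl⟩, hab'⟩
          have := hA.1.1
          have hc : a * a' = a' * a := setLike_mul_comm ha ha'
          refine Subtype.ext (Subtype.ext ?_)
          change (b : X) * (b' : X) = (b' : X) * (b : X)
          simp only [Subgroup.coe_subtype] at hab hab'
          rw [← hab, ← hab', ← map_mul, ← map_mul, ← Subgroup.coe_mul, hc, Subgroup.coe_mul]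
        · rintro ⟨b, hb⟩ hbB
          obtain ⟨_, ⟨a, ha, rfl⟩, hab⟩ := hbB
          refine Subtype.ext ?_
          simp only [Subgroup.coe_subtype, SubmonoidClass.coe_pow] at hab ⊢
          rw [← hab, ← map_pow, ← SubmonoidClass.coe_pow, hA.1.2 a ha]
          simp
        · refine (hA.2 C hC).trans (le_of_eq ?_)
          rw [Nat.card_congr (Subgroup.subgroupOfEquivOfLe hAP).toEquiv, card_conjSub,
            Subgroup.card_map_of_injective (P : Subgroup X).subtype_injective]
      intro a ha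
      have h1 : (⟨_, hAP (conj_mem_conjSub (g := v) ⟨a, ha, rfl⟩)⟩ : ↥(P : Subgroup X)) ∈ B :=
        conj_mem_conjSub ⟨a, ha, rfl⟩
      have h2 : (⟨_, hAP (conj_mem_conjSub (g := v) ⟨a, ha, rfl⟩)⟩ : ↥(P : Subgroup X)) ∈
          thompsonSubgroup p ↥(P : Subgroup X) := le_sSup hB h1
      change v * (a : X) * v⁻¹ ∈ J
      rw [hJ]
      exact ⟨_, h2, by simp⟩
    exact hle hw
  have hJy : J ≤ Subgroup.centralizer ({y} : Set X) := fun j hj =>
    Subgroup.mem_centralizer_singleton_iff.2 (hy.2 j hj).eq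
  have hgJy : conjSub g J ≤ Subgroup.centralizer ({y} : Set X) := by
    rintro _ ⟨j, hj, rfl⟩
    refine Subgroup.mem_centralizer_singleton_iff.2 ?_
    rw [← hg]
    exact ((hx.2 j hj).map (MulAut.conj g)).eq
  obtain ⟨R, hRC, hR, hRi⟩ :=
    exists_sylow_subgroup_of (p := p) (Subgroup.centralizer ({y} : Set X))
  have hJp : IsPGroup p J := P.2.to_le hJP
  obtain ⟨a, ha, haJ⟩ := exists_conj_mem_of_le hJp hR hJy hRC hRi
  obtain ⟨b, hb, hbJ⟩ := exists_conj_mem_of_le (hJp.map _) hR hgJy hRC hRi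
  obtain ⟨u, hu⟩ := exists_conj_mem hR P.2 P.not_dvd_index
  have h1 : conjSub (u * a) J = J := huniq _ (by
    rintro _ ⟨j, hj, rfl⟩
    simpa [mul_assoc] using hu _ (haJ j hj))
  have h2 : conjSub (u * (b * g)) J = J := huniq _ (by
    rintro _ ⟨j, hj, rfl⟩
    simpa [mul_assoc] using hu _ (hbJ _ (conj_mem_conjSub (g := g) hj)))
  refine ⟨a⁻¹ * b * g, ?_, ?_⟩
  · rw [← conjSub_eq_iff_mem_normalizer]
    calc conjSub (a⁻¹ * b * g) J = conjSub (u * a)⁻¹ (conjSub (u * (b * g)) J) := by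
          rw [conjSub_conjSub]; congr 1; group
      _ = J := by rw [h2]; nth_rw 1 [← h1]; rw [conjSub_conjSub, inv_mul_cancel, conjSub_one]
  · have ha' : a⁻¹ * y = y * a⁻¹ :=
      Subgroup.mem_centralizer_singleton_iff.1 (inv_mem ha)
    have hb' : b * y = y * b := Subgroup.mem_centralizer_singleton_iff.1 hb
    calc a⁻¹ * b * g * x * (a⁻¹ * b * g)⁻¹ = a⁻¹ * (b * (g * x * g⁻¹) * b⁻¹) * a := by group
      _ = a⁻¹ * (b * y * b⁻¹) * a := by rw [hg]
      _ = a⁻¹ * y * a := by rw [hb', mul_inv_cancel_right]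
      _ = y := by rw [ha', inv_mul_cancel_right]

end Cfsg.Agent.S5306
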