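import Cfsg.Statements.S5316
import Cfsg.Agent.Lib.Fusion.MaxClassCube.Main

set_option autoImplicit false
open Cfsg
open CfsgLib.Fusion CfsgLib.Fusion.MaxClassCube

namespace Cfsg.Agent.S5316

/-- Let p ≥ 5 be a prime, S a finite p-group of maximal class of order p^n with n ≥ 5 (nilpotency class n − 1), F a saturated fusion system over S, and E an F-essential subgroup that is not a pearl (not elementary abelian of order p² and not extraspecial of order p³ and exponent p). Then E has order at least p⁴. -/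
theorem result {Ω : Type*} [Group Ω] {S : Subgroup Ω} [Finite S] (p : ℕ) [Fact p.Prime] (hp : 5 ≤ p) (hS : IsPGroup p ↥S) (n : ℕ) (hn : Nat.card S = p ^ n) (h5 : 5 ≤ n)
    (hmax : Subgroup.lowerCentralSeries S (n - 2) ≠ ⊥) (F : Cfsg.FusionSystem S) (hF : F.IsSaturated p)
    (E : Subgroup Ω) (hE : F.IsEssential p E)
    (hnp : ¬ ((Nat.card ↥E = p ^ 2 ∧ Cfsg.IsElementaryAbelian p E) ∨ (Nat.card ↥E = p ^ 3 ∧ Cfsg.IsExtraspecial p ↥E ∧ Monoid.exponent ↥E = p))) :
    p ^ 4 ≤ Nat.card ↥E := by
  have hp' : p.Prime := Fact.out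
  have hES : E ≤ S := hE.1.1
  have := finite_of_le hES
  obtain ⟨k, hk⟩ := IsPGroup.iff_card.1 (hS.to_le hES)
  by_contra hlt
  push Not at hlt
  rw [hk] at hlt
  have hk4 : k < 4 := (Nat.pow_lt_pow_iff_right hp'.one_lt).1 hlt
  rcases (show k ≤ 1 ∨ k = 2 ∨ k = 3 by omega) with h1 | rfl | rfl
  · refine false_of_fine_series hS hF hE (fun i => if i = 0 then ⊥ else ⊤) 1 rfl rfl
      (fun α _ i _ x hx => ?_) fun i hi => ?_
    · split_ifs at hx ⊢
      · rw [Subgroup.mem_bot] at hx ⊢
        rw [hx, map_one]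
      · exact Subgroup.mem_top _
    · obtain rfl : i = 0 := by omega
      refine ⟨bot_le, ?_⟩
      simp only [if_true, zero_add, one_ne_zero, if_false, Subgroup.relIndex_bot_left,
        Subgroup.card_top]
      rw [hk]
      exact (Nat.pow_le_pow_right hp'.pos h1).trans (pow_one p).le
  · exact hnp (Or.inl ⟨hk, (essential_card_sq hS hF hE hk).1⟩)
  · rcases essential_card_cube hS hF hE hk with hel | ⟨-, hex, hexp⟩ | ⟨h2, -⟩
    · have hX : CfsgLib.PGroup.UniformElement.MaxCl (↥S) p n := by
        refine ⟨hn, le_antisymm (CfsgLib.Transfer.nilpotencyClass_le_of_card hn (by omega)) ?_,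
          by omega⟩
        by_contra hlow
        have := (IsPGroup.of_card hn).isNilpotent
        refine hmax ?_
        rw [← Subgroup.top_subtype_lowerCentralSeries,
          Subgroup.lowerCentralSeries_eq_bot_iff_nilpotencyClass_le.2
            (by omega : Group.nilpotencyClass (↥S) ≤ n - 2), Subgroup.map_bot]
      exact no_cand ⟨hS, hF, by rw [hn]; exact Nat.pow_le_pow_right hp'.pos h5, card_center_le hX⟩
        hp hX h5 (Cand.of_isEssential hE hk hel)
    · refine hnp (Or.inr ⟨hk, hex, ?_⟩)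
      have hd : Monoid.exponent E ∣ p :=
        Monoid.exponent_dvd_of_forall_pow_eq_one fun x => Subtype.ext (hexp x x.2)
      refine ((Nat.dvd_prime hp').1 hd).resolve_left fun h1 => ?_
      have hsub : Subsingleton E := Monoid.exp_eq_one_iff.1 h1
      rw [Nat.card_unique] at hk
      exact (Nat.one_lt_pow three_ne_zero hp'.one_lt).ne hk
    · omega

end Cfsg.Agent.S5316
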