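import Cfsg.Statements.S5330
import Cfsg.Agent.Lib.Fusion.TateApps

set_option autoImplicit false
open Cfsg Cfsg.FusionSystem CfsgLib.Fusion

namespace Cfsg.Agent.S5330

/-- Let F be a saturated fusion system over a finite abelian p-group S. Then S is the internal direct product of the centre of the system and the focal subgroup: Z(F) ∩ foc(F) = 1 and Z(F)·foc(F) = S. -/
theorem result {Ω : Type*} [Group Ω] {S : Subgroup Ω} [Finite S] (p : ℕ) [Fact p.Prime] (hS : IsPGroup p S) (F : Cfsg.FusionSystem S) (hF : F.IsSaturated p) (hab : ∀ x ∈ S, ∀ y ∈ S, x * y = y * x) : F.center ⊓ F.focalSubgroup = ⊥ ∧ F.center ⊔ F.focalSubgroup = S := by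
  have hS0 : ⁅S, S⁆ = ⊥ := by
    rw [eq_bot_iff, Subgroup.commutator_le]
    intro a ha b hb
    rw [Subgroup.mem_bot, commutatorElement_eq_one_iff_mul_comm]
    exact hab a ha b hb
  have h0 : F.center ⊓ F.focalSubgroup = ⊥ := by
    rw [inf_comm, focal_inf_center hS hF, hS0, bot_inf_eq]
  refine ⟨h0, le_antisymm (sup_le (isCentral_center.1) focalSubgroup_le) ?_⟩
  classical
  have hconj : ∀ {g x : Ω}, g ∈ S → x ∈ S → g * x * g⁻¹ = x := fun {g x} hg hx => by
    rw [hab g hg x hx, mul_inv_cancel_right]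
  -- every map extends to `S`
  have hext : ∀ (P : Subgroup Ω) (φ : P →* Ω), φ ∈ F.Hom P →
      ∃ α : MulAut S, α ∈ F.autGroup S ∧ ∀ (a : S) (h : (a : Ω) ∈ P), (α a : Ω) = φ ⟨a, h⟩ := by
    intro P φ hφ
    obtain ⟨e, he, hee⟩ := exists_iso_of_mem hφ
    have hR := range_le_S F hφ
    have hn : F.IsFullyNormalized φ.range := by
      refine ⟨hR, fun R hR' => ?_⟩
      have h1 : normalizerIn S φ.range = S := le_antisymm (normalizerIn_le _) (le_inf le_rfl
        fun s hs => by
          have := finite_of_le hR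
          exact mem_normalizer_of_forall fun y hy => by rwa [hconj hs (hR hy)])
      rw [h1]
      exact Subgroup.card_le_of_le (normalizerIn_le R)
    have hrec := (fullyAutomized_receptive_of_fullyNormalized hS hF hn).2
    have hPn := finite_of_le (le_S F hφ)
    have hM : S ≤ extender S P (φ.range.subtype.comp e.toMonoidHom) := fun g hg =>
      mem_extender_iff.2 ⟨hg, mem_normalizer_of_forall fun y hy => by rwa [hconj hg (le_S F hφ hy)],
        1, S.one_mem, fun x => by
          rw [one_mul, inv_one, mul_one]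
          exact congrArg _ (Subtype.ext (hconj hg (le_S F hφ x.2)))⟩
    obtain ⟨ψ, hψ, hψe⟩ := exists_extension hrec he (le_S F hφ) hM
    obtain ⟨α, hα, hαe⟩ := exists_iso_of_range hψ (eq_S_of_isConj_S ⟨ψ, hψ, rfl⟩)
    refine ⟨α, (mem_autGroup_iff F le_rfl).2 hα, fun a h => ?_⟩
    rw [hαe, ← hee ⟨a, h⟩, ← hψe ⟨a, h⟩]
    rfl
  let _ : CommGroup S :=
    { (inferInstance : Group S) with mul_comm := fun a b => Subtype.ext (hab a a.2 b b.2) }
  have := finite_of_le (le_refl S)
  have := Fintype.ofFinite (F.autGroup S)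
  have hcop : ¬ p ∣ Fintype.card (F.autGroup S) := by
    have hfa := (isFullyAutomized_iff hS).1
      (fullyAutomized_receptive_of_fullyNormalized hS hF (F := F) isFullyNormalized_self).1
    have hb : autInducedBy S S = ⊥ := by
      rw [eq_bot_iff]
      intro α hα
      obtain ⟨g, hg, hge⟩ := mem_autInducedBy_iff.1 hα
      rw [Subgroup.mem_bot]
      exact MulEquiv.ext fun x => Subtype.ext ((hge x).trans (hconj hg x.2))
    rw [hb, Subgroup.relIndex_bot_left, Nat.card_eq_fintype_card] at hfa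
    exact hfa.2
  intro s hs
  set u : S := ⟨s, hs⟩
  let n : S := ∏ α : F.autGroup S, (α : MulAut S) u
  have hfix : ∀ β ∈ F.autGroup S, β n = n := by
    intro β hβ
    simp only [n, map_prod]
    exact Fintype.prod_equiv (Equiv.mulLeft ⟨β, hβ⟩) _ _ fun α => rfl
  have hnZ : (n : Ω) ∈ F.center := by
    let C : Subgroup Ω := Subgroup.zpowers (n : Ω)
    have hC : F.IsCentral C := by
      have hCS : C ≤ S := Subgroup.zpowers_le.2 n.2
      refine ⟨hCS, fun P φ hφ => ?_⟩
      obtain ⟨α, hα, hαe⟩ := hext P φ hφ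
      have hle : P ⊔ C ≤ S := sup_le (le_S F hφ) hCS
      refine ⟨_, res_mem F ((mem_autGroup_iff F le_rfl).1 hα) hle, fun x => hαe ⟨x, le_S F hφ x.2⟩ x.2,
        fun x => ?_⟩
      obtain ⟨i, hi⟩ := Subgroup.mem_zpowers_iff.1 x.2
      change (α ⟨x, hCS x.2⟩ : Ω) = x
      have e : (⟨x, hCS x.2⟩ : S) = n ^ i := Subtype.ext (by rw [SubgroupClass.coe_zpow]; exact hi.symm)
      rw [e, map_zpow, hfix α hα, ← e]
    exact (show C ≤ F.center from le_sSup hC) (Subgroup.mem_zpowers _)
  set W := (F.center ⊔ F.focalSubgroup).subgroupOf S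
  have hW : ∀ α : F.autGroup S, u⁻¹ * (α : MulAut S) u ∈ W := fun α =>
    Subgroup.mem_subgroupOf.2 (Subgroup.mem_sup_right (Subgroup.subset_closure
      ⟨S, _, u, (mem_autGroup_iff F le_rfl).1 α.2, rfl⟩))
  have h1 : u ^ Fintype.card (F.autGroup S) ∈ W := by
    have h2 : (∏ α : F.autGroup S, u⁻¹ * (α : MulAut S) u) ∈ W := W.prod_mem fun α _ => hW α
    rw [Finset.prod_mul_distrib, Finset.prod_const, Finset.card_univ, inv_pow] at h2
    have hn : n ∈ W := Subgroup.mem_subgroupOf.2 (Subgroup.mem_sup_left hnZ)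
    have h3 := W.mul_mem hn (W.inv_mem h2)
    rwa [mul_inv_rev, inv_inv, mul_inv_cancel_left] at h3
  obtain ⟨k, hk⟩ := IsPGroup.iff_orderOf.1 hS u
  have hco : (Fintype.card (F.autGroup S)).Coprime (orderOf u) := by
    rw [hk]
    exact (((Fact.out : p.Prime).coprime_iff_not_dvd.2 hcop).pow_left k).symm
  obtain ⟨j, hj⟩ := exists_pow_eq_self_of_coprime hco
  have : u ∈ W := hj ▸ W.pow_mem h1 j
  exact Subgroup.mem_subgroupOf.1 this

end Cfsg.Agent.S5330
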