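import Cfsg.Statements.S5331
import Cfsg.Agent.Lib.Fusion.Inner
import Cfsg.Agent.Lib.Fusion.DistinctInvariants

set_option autoImplicit false
open Cfsg Cfsg.FusionSystem CfsgLib.Fusion

namespace Cfsg.Agent.S5331

/-- Let S be a finite abelian 2-group that is a direct product of cyclic groups of pairwise distinct orders 2^{a_1} < 2^{a_2} < ⋯ < 2^{a_n} (all a_i ≥ 1). Then every saturated fusion system over S is the inner one: its maps are exactly the conjugations by elements of S. -/
theorem result {Ω : Type*} [Group Ω] {S : Subgroup Ω} [Finite S] (n : ℕ) (a : Fin n → ℕ) (ha : StrictMono a) (ha1 : ∀ i, 1 ≤ a i) (e : ↥S ≃* Multiplicative ((i : Fin n) → ZMod (2 ^ a i))) (F : Cfsg.FusionSystem S) (hF : F.IsSaturated 2) (P : Subgroup Ω) : F.Hom P = (Cfsg.innerFusionSystem S).Hom P := by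
  have hS : IsPGroup 2 S := by
    refine IsPGroup.of_card (n := ∑ i, a i) ?_
    rw [Nat.card_congr e.toEquiv, Nat.card_congr Multiplicative.toAdd, Nat.card_pi,
      ← Finset.prod_pow_eq_pow_sum]
    exact Finset.prod_congr rfl fun i _ => Nat.card_zmod _
  have hp : ∀ A : Subgroup (MulAut S), IsPGroup 2 A := fun A α => by
    obtain ⟨k, hk⟩ := mulAut_pow_of_distinct_invariants ha.injective e (α : MulAut S)
    exact ⟨k, Subtype.ext hk⟩
  refine hom_eq_inner_of_isPGroup hS hF (hp _) (fun Q hQ => ?_) P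
  have hQS : S ≤ Q := by
    intro x hx
    refine hQ.1.2 Q (isConj_refl hQ.1.1) ⟨hx, fun y hy => ?_⟩
    have h1 : (⟨y, hQ.1.1 hy⟩ : S) * ⟨x, hx⟩ = ⟨x, hx⟩ * ⟨y, hQ.1.1 hy⟩ :=
      e.injective (by rw [map_mul, map_mul, mul_comm])
    exact congrArg Subtype.val h1
  obtain rfl := le_antisymm hQ.1.1 hQS
  exact hp _

end Cfsg.Agent.S5331
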