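import Cfsg.Statements.S5332
import Cfsg.Agent.S5221

set_option autoImplicit false
open Cfsg Cfsg.FusionSystem CfsgLib.Fusion

namespace Cfsg.Agent.S5332

/-- Let p be odd and F a saturated fusion system over a finite p-group S that is not the inner system of S. Then F contains a saturated constrained subsystem over S that is itself not the inner system. -/
theorem result {Ω : Type*} [Group Ω] {S : Subgroup Ω} [Finite S] (p : ℕ) [Fact p.Prime] (hS : IsPGroup p S) (F : Cfsg.FusionSystem S) (hF : F.IsSaturated p) (hp : p ≠ 2) (hne : ∃ P : Subgroup Ω, F.Hom P ≠ (Cfsg.innerFusionSystem S).Hom P) : ∃ E : Cfsg.FusionSystem S, E ≤ F ∧ E.IsConstrained p ∧ ∃ P : Subgroup Ω, E.Hom P ≠ (Cfsg.innerFusionSystem S).Hom P := by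
  classical
  have hex : ∃ n, ∃ E : FusionSystem S, E.IsSaturated p ∧ (∀ P, E.Hom P ⊆ F.Hom P) ∧
      (∃ P, E.Hom P ≠ (innerFusionSystem S).Hom P) ∧ CfsgLib.Transfer.homCount E = n :=
    ⟨_, F, hF, fun P => subset_rfl, hne, rfl⟩
  obtain ⟨E, hE, hEF, hEne, hEn⟩ := Nat.find_spec hex
  refine ⟨E, hEF, Cfsg.Agent.S5221.result p hS E hE ⟨fun h => ?_, fun E₂ hE₂ hsub => ?_⟩
    (Or.inl hp), hEne⟩
  · obtain ⟨P, hP⟩ := hEne
    exact hP (h P)
  · by_cases hall : ∀ P, E₂.Hom P = (innerFusionSystem S).Hom P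
    · exact Or.inr hall
    refine Or.inl fun P => Set.Subset.antisymm (hsub P) fun φ hφ => by_contra fun hφ' => ?_
    push Not at hall
    refine Nat.find_min hex (hEn ▸ CfsgLib.Transfer.homCount_lt hsub ⟨P, φ, hφ, hφ'⟩)
      ⟨E₂, hE₂, fun Q => (hsub Q).trans (hEF Q), hall, rfl⟩

end Cfsg.Agent.S5332
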