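import Cfsg.Statements.S5334
import Cfsg.Agent.Lib.Fusion.SubsystemEq

set_option autoImplicit false
open Cfsg Cfsg.FusionSystem CfsgLib.Fusion

namespace Cfsg.Agent.S5334

/-- Let F′ ≤ F be saturated fusion systems over the same finite p-group S, let Q and R be F-centric subgroups, φ a map of F with source Q and values in R, and ψ a map of F with source R. If two of φ, ψ and the composite ψ ∘ φ are maps of F′ then so is the third. -/
theorem result {Ω : Type*} [Group Ω] {S : Subgroup Ω} [Finite S] (p : ℕ) [Fact p.Prime] (hS : IsPGroup p S) (F : Cfsg.FusionSystem S) (hF : F.IsSaturated p) (F' : Cfsg.FusionSystem S) (hF' : F'.IsSaturated p) (hle : F' ≤ F) (Q R : Subgroup Ω) (hQ : F.IsCentric Q) (hR : F.IsCentric R) (φ : ↥Q →* Ω) (hφ : φ ∈ F.Hom Q) (hφR : ∀ x : Q, φ x ∈ R) (ψ : ↥R →* Ω) (hψ : ψ ∈ F.Hom R) : (φ ∈ F'.Hom Q → ψ ∈ F'.Hom R → ψ.comp (φ.codRestrict R hφR) ∈ F'.Hom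 Q) ∧ (ψ ∈ F'.Hom R → ψ.comp (φ.codRestrict R hφR) ∈ F'.Hom Q → φ ∈ F'.Hom Q) ∧ (φ ∈ F'.Hom Q → ψ.comp (φ.codRestrict R hφR) ∈ F'.Hom Q → ψ ∈ F'.Hom R) := by
  refine ⟨fun h1 h2 => F'.comp_mem h1 h2 hφR, fun h1 h2 => ?_, fun h1 h2 => ?_⟩
  · obtain ⟨χ, hχ, hχe⟩ := F'.inv_mem h1
    refine mem_of_eq rfl (F'.comp_mem h2 hχ fun x => ⟨_, rfl⟩) fun x => ?_
    exact (hχe (φ.codRestrict R hφR x)).symm
  · obtain ⟨χ, hχ, hχe⟩ := F'.inv_mem h1
    have hQR : φ.range ≤ R := by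
      rintro _ ⟨x, rfl⟩
      exact hφR x
    have hc : F.IsCentric φ.range := by
      refine ⟨range_le_S F hφ, fun Q' hQ' => hQ.2 Q' (isConj_trans ⟨φ, hφ, rfl⟩ hQ')⟩
    have hχQ : ∀ y, χ y ∈ Q := by
      rintro ⟨_, x, rfl⟩
      rw [hχe]
      exact x.2
    refine mem_of_res_centric hS hF hF' hle hψ _ φ.range hQR hc le_rfl
      (mem_of_eq rfl (F'.comp_mem hχ h2 hχQ) ?_)
    rintro ⟨_, x, rfl⟩
    refine congrArg ψ (Subtype.ext ?_)
    change (φ x : Ω) = φ ⟨χ ⟨φ x, _⟩, _⟩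
    exact congrArg φ (Subtype.ext (hχe x).symm)

end Cfsg.Agent.S5334
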