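import Cfsg.Statements.S5336
import Cfsg.Agent.Lib.Fusion.MinimalRealization

set_option autoImplicit false
open Cfsg Cfsg.FusionSystem CfsgLib.Fusion

namespace Cfsg.Agent.S5336

/-- Let G be a finite group with Sylow p-subgroup S whose fusion system F_S(G) is simple. If G has no nontrivial normal subgroup of order prime to p and no proper subgroup H containing S induces the same fusion system on S as G does, then G is a simple group. -/
theorem result {G : Type*} [Group G] [Finite G] (p : ℕ) [Fact p.Prime] (S : Sylow p G) (hsimple : (Cfsg.groupFusionSystem (S : Subgroup G)).IsSimple p) (hcore : Cfsg.pPrimeCore p G = ⊥) (hmin : ∀ (H : Subgroup G) (hSH : (S : Subgroup G) ≤ H), H ≠ ⊤ → ∃ P : Subgroup G, (Cfsg.fusionSystemOfSubgroup H (S : Subgroup G) hSH).Hom P ≠ (Cfsg.groupFusionSystem (S : Subgroup G)).Hom P) : IsSimpleGroup G := by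
  have hι : (groupFusionSystem (S : Subgroup G)).IsRealizedBy (S : Subgroup G).subtype :=
    ⟨Subgroup.subtype_injective _, fun P hP φ hφ =>
      ⟨fun ⟨_, _, g, hg⟩ => ⟨g, hg⟩, fun ⟨g, hg⟩ => ⟨hP, hφ, g, hg⟩⟩⟩
  refine isSimpleGroup_of_minimal S.2 hsimple hι S (Subgroup.range_subtype _).symm hcore
    fun H hH htop => ?_
  rw [Subgroup.range_subtype] at hH
  by_contra hcon
  obtain ⟨P, hP⟩ := hmin H hH htop
  refine hP (Set.ext fun φ => ⟨fun ⟨h1, h2, g, _, hge⟩ => ⟨h1, h2, g, hge⟩, fun h => ?_⟩)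
  obtain ⟨h1, h2, -⟩ := id h
  obtain ⟨k, hk, hke⟩ : ∃ k ∈ H, ∀ x : P, φ x = k * (x : G) * k⁻¹ := by
    by_contra h'
    exact hcon ⟨P, h1, φ, h2, h, h'⟩
  exact ⟨h1, h2, k, hk, hke⟩

end Cfsg.Agent.S5336
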