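import Cfsg.Statements.S5345

set_option autoImplicit false
open Cfsg

namespace Cfsg.Agent.S5345

/-- Let D be a conjugation-invariant generating set of 3-transpositions of a finite group G and T a Sylow 2-subgroup of G. Then the members of D lying in T generate an abelian subgroup, and their number is the width of D (the largest number of pairwise commuting members of D). -/
theorem result {G : Type*} [Group G] [Finite G] {D : Set G} (hD : Cfsg.IsThreeTranspositionGroup D) (T : Sylow 2 G) : IsMulCommutative (Subgroup.closure {d : G | d ∈ D ∧ d ∈ T}) ∧ {d : G | d ∈ D ∧ d ∈ T}.ncard = Cfsg.commutingWidth D := by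
  haveI : Fact (Nat.Prime 2) := ⟨Nat.prime_two⟩
  obtain ⟨⟨h2, h3⟩, hconj, -⟩ := hD
  have sq : ∀ d ∈ D, d * d = 1 := fun d hd => by
    rw [← pow_two, ← h2 d hd]; exact pow_orderOf_eq_one d
  have inv' : ∀ d ∈ D, d⁻¹ = d := fun d hd => inv_eq_of_mul_eq_one_right (sq d hd)
  have hcomm : ∀ a ∈ {d : G | d ∈ D ∧ d ∈ T}, ∀ b ∈ {d : G | d ∈ D ∧ d ∈ T}, a * b = b * a := by
    rintro a ⟨ha, haT⟩ b ⟨hb, hbT⟩
    rcases h3 a ha b hb with h | h
    · rw [pow_two, mul_eq_one_iff_eq_inv, mul_inv_rev, inv' a ha, inv' b hb] at h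
      exact h
    · obtain ⟨k, hk⟩ := T.2 ⟨a * b, T.1.mul_mem haT hbT⟩
      have hk' : (a * b) ^ (2 ^ k) = 1 := by simpa using congrArg Subtype.val hk
      have h1 : orderOf (a * b) = 1 :=
        Nat.eq_one_of_dvd_coprimes (a := 3) (b := 2 ^ k) (Nat.Coprime.pow_right _ (by norm_num))
          (orderOf_dvd_of_pow_eq_one h) (orderOf_dvd_of_pow_eq_one hk')
      rw [orderOf_eq_one_iff, mul_eq_one_iff_eq_inv, inv' b hb] at h1
      rw [h1]
  refine ⟨Subgroup.isMulCommutative_closure hcomm, ?_⟩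
  set S := {d : G | d ∈ D ∧ d ∈ T} with hS
  have hmem : S.ncard ∈ {n : ℕ | ∃ E : Set G, E ⊆ D ∧ E.Finite ∧ (∀ a ∈ E, ∀ b ∈ E, Commute a b) ∧ E.ncard = n} :=
    ⟨S, fun d hd => hd.1, S.toFinite, fun a ha b hb => hcomm a ha b hb, rfl⟩
  have hup : ∀ n ∈ {n : ℕ | ∃ E : Set G, E ⊆ D ∧ E.Finite ∧ (∀ a ∈ E, ∀ b ∈ E, Commute a b) ∧ E.ncard = n},
      n ≤ S.ncard := by
    rintro n ⟨E, hED, -, hEc, rfl⟩
    have hE2 : IsPGroup 2 (Subgroup.closure E) := by
      haveI := Subgroup.isMulCommutative_closure (k := E) (fun a ha b hb => hEc a ha b hb)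
      rintro ⟨w, hw⟩
      refine ⟨1, Subtype.ext ?_⟩
      have hcc : ∀ u v : G, u ∈ Subgroup.closure E → v ∈ Subgroup.closure E → Commute u v := fun u v hu hv =>
        congrArg Subtype.val (IsMulCommutative.is_comm.comm (⟨u, hu⟩ : Subgroup.closure E) ⟨v, hv⟩)
      simp only [SubmonoidClass.coe_pow, OneMemClass.coe_one, pow_one]
      induction hw using Subgroup.closure_induction with
      | mem x hx => rw [pow_two]; exact sq x (hED hx)
      | one => simp
      | mul x y hx hy ihx ihy => rw [(hcc x y hx hy).mul_pow, ihx, ihy, one_mul]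
      | inv x hx ihx => rw [inv_pow, ihx, inv_one]
    obtain ⟨T', hT'⟩ := hE2.exists_le_sylow
    obtain ⟨g, hg⟩ := MulAction.exists_smul_eq G T' T
    have hsub : (fun x => g * x * g⁻¹) '' E ⊆ S := by
      rintro _ ⟨x, hx, rfl⟩
      refine ⟨hconj g x (hED hx), ?_⟩
      rw [← hg]
      exact Subgroup.smul_mem_pointwise_smul x (MulAut.conj g) T'.1 (hT' (Subgroup.subset_closure hx))
    calc E.ncard = ((fun x => g * x * g⁻¹) '' E).ncard := (Set.ncard_image_of_injective E (fun p q h => by simpa using h)).symm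
      _ ≤ S.ncard := Set.ncard_le_ncard hsub S.toFinite
  exact le_antisymm (le_csSup ⟨_, hup⟩ hmem) (csSup_le ⟨_, hmem⟩ hup)

end Cfsg.Agent.S5345
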