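import Cfsg.Statements.S5346
import Cfsg.Agent.Lib.ThreeTransp.Core
import Cfsg.Agent.Lib.Cores.Basic

set_option autoImplicit false
open Cfsg CfsgLib.ThreeTransp

namespace Cfsg.Agent.S5346

/-- Let D be a conjugation-invariant generating set of 3-transpositions of a finite group G and d a member of D. Then D has width 1 (no two different members of D commute) if and only if G is the product of the subgroup generated by d with the largest normal 3-subgroup of G. -/
theorem result {G : Type*} [Group G] [Finite G] {D : Set G} (hD : Cfsg.IsThreeTranspositionGroup D) {d : G} (hd : d ∈ D) : Cfsg.commutingWidth D = 1 ↔ Subgroup.zpowers d ⊔ Cfsg.pCore 3 G = ⊤ := by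
  classical
  obtain ⟨⟨h2, h3⟩, hconj, hgen⟩ := hD
  have hsq : ∀ u ∈ D, u * u = 1 := fun u hu => by rw [← pow_two, ← h2 u hu, pow_orderOf_eq_one]
  have hT : IsTT D := by
    refine ⟨hsq, fun u hu h1 => by have := h2 u hu; rw [h1, orderOf_one] at this; omega, ?_, hconj⟩
    intro u hu v hv
    rcases h3 u hu v hv with h | h
    · refine Or.inl ?_
      have h' : (u * v)⁻¹ = u * v := inv_eq_of_mul_eq_one_right (by rw [← pow_two]; exact h)
      rw [mul_inv_rev, inv_eq_self (hsq u hu), inv_eq_self (hsq v hv)] at h'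
      exact h'.symm
    · exact Or.inr (braid_of_pow_three (hsq u hu) (hsq v hv) h)
  have hbdd : BddAbove {n : ℕ | ∃ E : Set G, E ⊆ D ∧ E.Finite ∧
      (∀ a ∈ E, ∀ b ∈ E, Commute a b) ∧ E.ncard = n} := by
    refine ⟨Nat.card G, ?_⟩
    rintro n ⟨E, -, -, -, rfl⟩
    exact Set.ncard_le_card E
  constructor
  · intro h
    have hpair : ∀ u ∈ D, ∀ v ∈ D, u ≠ v → ¬Commute u v := by
      intro u hu v hv hne hc
      have : 2 ≤ Cfsg.commutingWidth D := le_csSup hbdd ⟨{u, v}, by
        rintro z (rfl | rfl) <;> assumption, Set.toFinite _, by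
        rintro z (rfl | rfl) w (rfl | rfl)
        exacts [Commute.refl _, hc, hc.symm, Commute.refl _], Set.ncard_pair hne⟩
      omega
    have hW : IsW1 D := hT.mono_w1 subset_rfl hpair fun u hu v hv => hT.cj_mem hu hv
    rw [eq_top_iff, ← hgen, Subgroup.closure_le]
    intro u hu
    have : u = d * (d * u) := (cancel₂ (hsq d hd) u).symm
    rw [this]
    exact Subgroup.mul_mem_sup (Subgroup.mem_zpowers d) (hW.mul_mem_pCore hgen hd hu)
  · intro h
    haveI : Fact (Nat.Prime 3) := ⟨Nat.prime_three⟩
    set N := Cfsg.pCore 3 G with hN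
    have hcos : ∀ u ∈ D, d * u ∈ N := by
      intro u hu
      have hm : u ∈ ((Subgroup.zpowers d ⊔ N : Subgroup G) : Set G) := by rw [h]; trivial
      rw [Subgroup.mul_normal] at hm
      obtain ⟨z, hz, n, hn, rfl⟩ := hm
      rw [SetLike.mem_coe, Subgroup.mem_zpowers_iff] at hz
      obtain ⟨i, rfl⟩ := hz
      rcases Int.even_or_odd i with ⟨j, rfl⟩ | ⟨j, rfl⟩
      · exfalso
        have hd2 : d ^ (j + j) = 1 := by
          rw [← two_mul, zpow_mul, zpow_two, hsq d hd, one_zpow]
        simp only [hd2, one_mul] at hu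
        obtain ⟨k, hk⟩ := CfsgLib.Cores.isPGroup_pCore (G := G) 3 ⟨n, hn⟩
        have hk' : n ^ 3 ^ k = 1 := by simpa using congrArg Subtype.val hk
        have := Nat.dvd_gcd (orderOf_dvd_of_pow_eq_one hk')
          (orderOf_dvd_of_pow_eq_one (show n ^ 2 = 1 by rw [pow_two, hsq n hu]))
        rw [Nat.Coprime.pow_left k (by norm_num : Nat.Coprime 3 2), Nat.dvd_one,
          orderOf_eq_one_iff] at this
        exact hT.ne_one n hu this
      · have hd2 : d ^ (2 * j + 1) = d := by
          rw [zpow_add, zpow_mul, zpow_two, hsq d hd, one_zpow, one_mul, zpow_one]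
        simp only [hd2, cancel₂ (hsq d hd)]
        exact hn
    apply le_antisymm
    · refine csSup_le ⟨1, {d}, by simpa using hd, Set.toFinite _, by
        intro a ha b hb; rw [Set.mem_singleton_iff] at ha hb; rw [ha, hb],
        Set.ncard_singleton d⟩ ?_
      rintro n ⟨E, hE, hfin, hc, rfl⟩
      refine (Set.ncard_le_one hfin).mpr fun a ha b hb => ?_
      refine hT.eq_of_mem_pGroup_three (CfsgLib.Cores.isPGroup_pCore 3) (hE ha) (hE hb) ?_
        (hc a ha b hb)
      have : a * b = (d * a)⁻¹ * (d * b) := by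
        rw [mul_inv_rev, inv_eq_self (hsq d hd), inv_eq_self (hsq a (hE ha))]
        simp [mul_assoc, cancel₂ (hsq d hd)]
      rw [this]
      exact Subgroup.mul_mem _ (Subgroup.inv_mem _ (hcos a (hE ha))) (hcos b (hE hb))
    · exact le_csSup hbdd ⟨{d}, by simpa using hd, Set.toFinite _, by
        intro a ha b hb; rw [Set.mem_singleton_iff] at ha hb; rw [ha, hb],
        Set.ncard_singleton d⟩

end Cfsg.Agent.S5346
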