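import Cfsg.Statements.S5347

set_option autoImplicit false
open Cfsg

namespace Cfsg.Agent.S5347

/-- Let D be a conjugation-invariant generating set of 3-transpositions of a finite group G, p a prime bigger than 3, and P a p-subgroup of G. If a member d of D normalizes P then d centralizes P. -/
theorem result {G : Type*} [Group G] [Finite G] {D : Set G} (hD : Cfsg.IsThreeTranspositionGroup D) {p : ℕ} (hp : p.Prime) (hp3 : 3 < p) (P : Subgroup G) (hP : IsPGroup p P) {d : G} (hd : d ∈ D) (hnorm : d ∈ Subgroup.normalizer (P : Set G)) : ∀ x ∈ P, Commute d x := by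
  obtain ⟨⟨hinv, h23⟩, hconj, -⟩ := hD
  intro x hx
  have hd2 : d * d = 1 := by rw [← sq, ← hinv d hd, pow_orderOf_eq_one]
  have hy : d * (x * d * x⁻¹) ∈ P := by
    have hdinv : d⁻¹ = d := inv_eq_of_mul_eq_one_right hd2
    have h1 : d * x * d ∈ P := by
      have := (Subgroup.mem_normalizer_iff.1 hnorm x).1 hx
      rwa [hdinv] at this
    have := mul_mem h1 (inv_mem hx)
    simpa only [mul_assoc] using this
  obtain ⟨k, hk⟩ : ∃ k, orderOf (d * (x * d * x⁻¹)) = p ^ k := by
    obtain ⟨k, hk⟩ := hP ⟨_, hy⟩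
    obtain ⟨i, -, hi⟩ := (Nat.dvd_prime_pow hp).1 (orderOf_dvd_of_pow_eq_one hk)
    exact ⟨i, by rw [← hi, Subgroup.orderOf_mk]⟩
  have hone : d * (x * d * x⁻¹) = 1 := by
    rw [← orderOf_eq_one_iff]
    have h : orderOf (d * (x * d * x⁻¹)) ∣ 2 ∨ orderOf (d * (x * d * x⁻¹)) ∣ 3 := by
      rcases h23 d hd _ (hconj x d hd) with h | h
      · exact .inl (orderOf_dvd_of_pow_eq_one h)
      · exact .inr (orderOf_dvd_of_pow_eq_one h)
    rcases Nat.eq_zero_or_pos k with rfl | hk0
    · simpa using hk
    · exfalso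
      have hpd : p ∣ orderOf (d * (x * d * x⁻¹)) := hk ▸ dvd_pow_self p (by omega)
      rcases h with h | h
      · have := Nat.le_of_dvd (by norm_num) (hpd.trans h); omega
      · have := Nat.le_of_dvd (by norm_num) (hpd.trans h); omega
  have : x * d * x⁻¹ = d := by
    have := congrArg (d * ·) hone
    simpa [← mul_assoc, hd2] using this
  exact (show d * x = x * d from by
    conv_lhs => rw [← this]
    group).symm.symm

end Cfsg.Agent.S5347
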