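import Cfsg.Statements.S5355
import Cfsg.Agent.Lib.ThreeTransp.Basic
import Cfsg.Agent.S5344

set_option autoImplicit false
open Cfsg

namespace Cfsg.Agent.S5355

/-- Let D be a conjugacy class of 3-transpositions generating the finite group G, with at least two members, and d a member of D. Suppose that every member of D commuting with d commutes with exactly the same members of D as d does, and that exactly one member of D other than d commutes with d. Then G is isomorphic to the symmetric group of degree 4. -/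
theorem result {G : Type*} [Group G] [Finite G] {D : Set G} (hD : Cfsg.IsThreeTranspositionClass D) (hD2 : ∃ a ∈ D, ∃ b ∈ D, a ≠ b) {d : G} (hd : d ∈ D) (hV : {y : G | y ∈ D ∧ Commute d y} = {v : G | v ∈ D ∧ ∀ e ∈ D, Commute v e ↔ Commute d e}) (hm : {y : G | y ∈ D ∧ Commute d y}.ncard = 2) : Nonempty (G ≃* Equiv.Perm (Fin 4)) := by
  have htt := CfsgLib.ThreeTransp.isTT_of_class hD
  have hcls : ∀ a ∈ D, ∀ b ∈ D, ∃ g : G, g * a * g⁻¹ = b := by
    intro a ha b hb
    obtain ⟨e, -, he⟩ := hD.2.1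
    rw [he] at ha hb
    exact isConj_iff.mp ((show IsConj e a from ha).symm.trans (show IsConj e b from hb))
  -- every member has exactly one mate
  have two : ∀ p ∈ D, ∃ p', p' ∈ D ∧ p' ≠ p ∧ Commute p p' ∧ ∀ r ∈ D, Commute p r → r = p ∨ r = p' := by
    obtain ⟨u, v, huv, he⟩ := Set.ncard_eq_two.1 hm
    have hdm : d ∈ ({u, v} : Set G) := he ▸ ⟨hd, Commute.refl d⟩
    obtain ⟨d', hne, hset⟩ : ∃ d', d' ≠ d ∧ {y : G | y ∈ D ∧ Commute d y} = {d, d'} := by
      rcases hdm with h | h
      · exact ⟨v, by rw [h]; exact huv.symm, by rw [he, h]⟩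
      · exact ⟨u, by rw [Set.mem_singleton_iff.1 h]; exact huv, by rw [he, Set.mem_singleton_iff.1 h, Set.pair_comm]⟩
    intro p hp
    obtain ⟨g, rfl⟩ := hcls d hd p hp
    have hd' : d' ∈ D ∧ Commute d d' := (hset ▸ (by simp) : d' ∈ {y : G | y ∈ D ∧ Commute d y})
    refine ⟨g * d' * g⁻¹, htt.conj g d' hd'.1, fun e => hne ?_, hd'.2.map (MulAut.conj g).toMonoidHom,
      fun r hr hc => ?_⟩
    · simpa using e
    · have hmem : g⁻¹ * r * g ∈ {y : G | y ∈ D ∧ Commute d y} := by
        refine ⟨by simpa using htt.conj g⁻¹ r hr, ?_⟩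
        have := hc.map (MulAut.conj g⁻¹).toMonoidHom
        simpa [mul_assoc] using this
      rw [hset] at hmem
      rcases hmem with e | e
      · left; rw [← e]; group
      · right; rw [← Set.mem_singleton_iff.1 e]; group
  choose! m hmD hmne hmc hmu using two
  have hnc' : ∀ p ∈ D, ∀ q ∈ D, ¬ Commute p q → ¬ Commute p (m q) := by
    intro p hp q hq hn hc
    rcases hmu (m q) (hmD q hq) q hq (hmc q hq).symm with e | e
    · exact hmne q hq e.symm
    · rcases hmu (m q) (hmD q hq) p hp hc.symm with h | h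
      · exact hn (h ▸ (hmc q hq).symm)
      · exact hn (by rw [h, ← e])
  have main : ∀ p ∈ D, ∀ q ∈ D, ¬ Commute p q → ∃ φ : Equiv.Perm (Fin 4) →* G, Function.Injective φ ∧
      φ (Equiv.swap 0 1) = p ∧ φ (Equiv.swap 1 2) = q ∧ φ (Equiv.swap 2 3) = m p ∧
      φ (Equiv.swap 0 3) = m q ∧ φ (Equiv.swap 0 2) = p * q * p ∧ φ (Equiv.swap 1 3) = m (p * q * p) := by
    intro p hp q hq hn
    obtain ⟨φ, hinj, h0, h1, h2⟩ := Cfsg.Agent.S5344.result hD.1 hp hq (hmD p hp) (hmne p hp).symm (hmc p hp)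
      hn (fun hc => hnc' q hq p hp (fun h => hn h.symm) hc)
    have hmem : ∀ i j : Fin 4, i ≠ j → φ (Equiv.swap i j) ∈ D := by
      intro i j hij
      have : ∀ i j : Fin 4, i ≠ j → ∃ g : Equiv.Perm (Fin 4), Equiv.swap i j = g * Equiv.swap 0 1 * g⁻¹ := by
        decide +kernel
      obtain ⟨g, hg⟩ := this i j hij
      rw [hg, map_mul, map_mul, map_inv, h0]
      exact htt.conj _ _ hp
    have mate : ∀ i j k l : Fin 4, i ≠ j → k ≠ l → Equiv.swap i j ≠ Equiv.swap k l →
        Commute (Equiv.swap i j) (Equiv.swap k l) → φ (Equiv.swap k l) = m (φ (Equiv.swap i j)) := by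
      intro i j k l hij hkl hne hc
      exact (hmu _ (hmem i j hij) _ (hmem k l hkl) (hc.map φ)).resolve_left fun e => hne (hinj e.symm)
    have h02 : φ (Equiv.swap 0 2) = p * q * p := by
      rw [show Equiv.swap (0 : Fin 4) 2 = Equiv.swap 0 1 * Equiv.swap 1 2 * Equiv.swap 0 1 by decide +kernel,
        map_mul, map_mul, h0, h1]
    refine ⟨φ, hinj, h0, h1, h2, ?_, h02, ?_⟩
    · rw [← h1]; exact mate 1 2 0 3 (by decide) (by decide) (by decide +kernel) (show _ = _ by decide +kernel)
    · rw [← h02]; exact mate 0 2 1 3 (by decide) (by decide) (by decide +kernel) (show _ = _ by decide +kernel)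
  have hz : ∀ p ∈ D, ∀ q ∈ D, ¬ Commute p q → (p * q * p) * m (p * q * p) = (p * m p) * (q * m q) ∧
      Commute (p * m p) (q * m q) := by
    intro p hp q hq hn
    obtain ⟨φ, -, h0, h1, h2, h3, h4, h5⟩ := main p hp q hq hn
    refine ⟨?_, ?_⟩
    · rw [← h5, ← h4, ← h3, ← h2, ← h1, ← h0]
      simp only [← map_mul]
      exact congrArg φ (by decide +kernel)
    · rw [← h3, ← h2, ← h1, ← h0]
      simp only [← map_mul]
      exact Commute.map (show _ = _ by decide +kernel) φ
  obtain ⟨a, ha, -, -, -⟩ := hD2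
  obtain ⟨b, hb, hab⟩ : ∃ b ∈ D, ¬ Commute a b := by
    by_contra hcon
    push Not at hcon
    have hcen : a ∈ Subgroup.center G := by
      rw [Subgroup.mem_center_iff]
      intro g
      have : Subgroup.closure D ≤ Subgroup.centralizer {a} := (Subgroup.closure_le _).2 fun y hy =>
        Subgroup.mem_centralizer_singleton_iff.2 (hcon y hy).eq.symm
      exact Subgroup.mem_centralizer_singleton_iff.1 (this (hD.2.2 ▸ Subgroup.mem_top g))
    obtain ⟨g, hg⟩ := hcls a ha (m a) (hmD a ha)
    rw [Subgroup.mem_center_iff.1 hcen g] at hg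
    exact hmne a ha (by rw [← hg]; group)
  obtain ⟨φ, hinj, h0, h1, h2, h3, h4, h5⟩ := main a ha b hb hab
  have he := htt.cj_mem ha hb
  have hsurj : Function.Surjective φ := by
    rw [← MonoidHom.range_eq_top, eq_top_iff, ← hD.2.2, Subgroup.closure_le]
    intro c hc
    by_cases hca : Commute a c
    · rcases hmu a ha c hc hca with rfl | rfl
      exacts [⟨_, h0⟩, ⟨_, h2⟩]
    by_cases hcb : Commute b c
    · rcases hmu b hb c hc hcb with rfl | rfl
      exacts [⟨_, h1⟩, ⟨_, h3⟩]
    by_cases hce : Commute (a * b * a) c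
    · rcases hmu _ he c hc hce with rfl | rfl
      exacts [⟨_, h4⟩, ⟨_, h5⟩]
    exfalso
    have nca : ¬ Commute c a := fun h => hca h.symm
    have ncb : ¬ Commute c b := fun h => hcb h.symm
    obtain ⟨e1, -⟩ := hz c hc (a * b * a) he fun h => hce h.symm
    obtain ⟨e2, -⟩ := hz a ha b hb hab
    obtain ⟨e3, k1⟩ := hz c hc a ha nca
    obtain ⟨e4, k2⟩ := hz c hc b hb ncb
    have nn : ¬ Commute (c * a * c) (c * b * c) := fun h => hab (by
      have hh := h.map (MulAut.conj c).toMonoidHom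
      simpa [mul_assoc, htt.inv_eq hc, CfsgLib.ThreeTransp.cancel₂ (htt.sq c hc), htt.sq c hc] using hh)
    obtain ⟨e5, -⟩ := hz _ (htt.cj_mem hc ha) _ (htt.cj_mem hc hb) nn
    rw [show c * a * c * (c * b * c) * (c * a * c) = c * (a * b * a) * c by
      simp [mul_assoc, CfsgLib.ThreeTransp.cancel₂ (htt.sq c hc)]] at e5
    rw [e1, e2, e3, e4] at e5
    have hsq : (c * m c) * (c * m c) = 1 := by
      have : (c * m c) * (c * m c) = (c * c) * (m c * m c) := (hmc c hc).symm.mul_mul_mul_comm c (m c)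
      rw [this, htt.sq c hc, htt.sq _ (hmD c hc), one_mul]
    have : (c * m c) * ((a * m a) * (b * m b)) = (a * m a) * (b * m b) := by
      rw [e5, k1.eq]
      calc a * m a * (c * m c) * (c * m c * (b * m b))
          = a * m a * ((c * m c) * (c * m c)) * (b * m b) := by group
        _ = _ := by rw [hsq, mul_one]
    rw [mul_eq_right, mul_eq_one_iff_eq_inv, htt.inv_eq (hmD c hc)] at this
    exact hmne c hc this.symm
  exact ⟨(MulEquiv.ofBijective φ ⟨hinj, hsurj⟩).symm⟩

end Cfsg.Agent.S5355
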