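import Cfsg.Statements.S5356
import Cfsg.Agent.Lib.SporMisc.ThreeStruct
import Cfsg.Agent.Lib.ThreeTransp.Width1
import Cfsg.Agent.S5349

set_option autoImplicit false
open Cfsg

namespace Cfsg.Agent.S5356

/-- Let D be a conjugacy class of 3-transpositions generating the finite group G, with at least two members, and d a member of D such that every member of D commuting with d commutes with exactly the same members of D as d. Then there is a Sylow 3-subgroup P of G normalized by d such that G is generated by d, P and the largest normal 2-subgroup of G. -/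
theorem result {G : Type*} [Group G] [Finite G] {D : Set G} (hD : Cfsg.IsThreeTranspositionClass D) (hD2 : ∃ a ∈ D, ∃ b ∈ D, a ≠ b) {d : G} (hd : d ∈ D) (hV : {y : G | y ∈ D ∧ Commute d y} = {v : G | v ∈ D ∧ ∀ e ∈ D, Commute v e ↔ Commute d e}) : ∃ P : Sylow 3 G, d ∈ Subgroup.normalizer (P : Set G) ∧ Subgroup.zpowers d ⊔ (P : Subgroup G) ⊔ Cfsg.pCore 2 G = ⊤ := by
  haveI : Fact (Nat.Prime 2) := ⟨Nat.prime_two⟩
  haveI : Fact (Nat.Prime 3) := ⟨Nat.prime_three⟩
  have h := CfsgLib.SporMisc.TTC.of_class hD hD2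
  have htt := h.tt
  set Q := Cfsg.pCore 2 G with hQdef
  haveI := CfsgLib.Cores.pCore_characteristic (G := G) 2
  haveI : Q.Normal := inferInstance
  have hQp : IsPGroup 2 Q := CfsgLib.Cores.isPGroup_pCore 2
  have h49 := (Cfsg.Agent.S5349.result hD hD2 hd).1
  -- commuting members agree modulo `Q`
  have hcom : ∀ a ∈ D, ∀ b ∈ D, Commute a b → a * b ∈ Q := by
    intro a ha b hb hab
    obtain ⟨g, rfl⟩ := h.cls d hd a ha
    have hmem : g⁻¹ * b * g ∈ {y : G | y ∈ D ∧ Commute d y} := by
      refine ⟨by simpa using htt.conj g⁻¹ b hb, ?_⟩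
      have := hab.map (MulAut.conj g⁻¹).toMonoidHom
      simpa [mul_assoc] using this
    rw [hV, h49] at hmem
    have := (inferInstance : Q.Normal).conj_mem _ hmem.2 g
    rw [htt.inv_eq hd, show g * (d * (g⁻¹ * b * g)) * g⁻¹ = g * d * g⁻¹ * b by group] at this
    exact this
  have hcenQ : ∀ a ∈ D, ∀ b ∈ D, a * b ∈ Q → Commute a b := fun a ha b hb hab =>
    htt.commute_of_mem_pGroup_two hQp ha hb hab
  set π := QuotientGroup.mk' Q with hπ
  have hπs : Function.Surjective π := QuotientGroup.mk'_surjective Q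
  have hgen : Subgroup.closure (π '' D) = ⊤ := by
    rw [← MonoidHom.map_closure, h.gen]
    exact Subgroup.map_top_of_surjective π hπs
  have hW : CfsgLib.ThreeTransp.IsW1 (π '' D) := by
    refine ⟨?_, ?_, ?_⟩
    · rintro _ ⟨a, ha, rfl⟩; rw [← map_mul, htt.sq a ha, map_one]
    · rintro _ ⟨a, ha, rfl⟩ _ ⟨b, hb, rfl⟩
      rcases htt.cond a ha b hb with hc | hc
      · have he : π a = π b := QuotientGroup.eq.2 (by rw [htt.inv_eq ha]; exact hcom a ha b hb hc)
        rw [he]
      · rw [← map_mul, ← map_mul, hc, map_mul, map_mul]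
    · rintro _ ⟨a, ha, rfl⟩ _ ⟨b, hb, rfl⟩
      exact ⟨a * b * a, htt.cj_mem ha hb, by rw [map_mul, map_mul]⟩
  set K := (Cfsg.pCore 3 (G ⧸ Q)).comap π with hKdef
  haveI := CfsgLib.Cores.pCore_characteristic (G := G ⧸ Q) 3
  haveI : K.Normal := (inferInstance : (Cfsg.pCore 3 (G ⧸ Q)).Normal).comap π
  have hKmul : ∀ a ∈ D, ∀ b ∈ D, a * b ∈ K := fun a ha b hb => by
    show π (a * b) ∈ Cfsg.pCore 3 (G ⧸ Q)
    rw [map_mul]
    exact hW.mul_mem_pCore hgen ⟨a, ha, rfl⟩ ⟨b, hb, rfl⟩
  have hQK : Q ≤ K := fun q hq => by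
    show π q ∈ Cfsg.pCore 3 (G ⧸ Q)
    rw [show π q = 1 from (QuotientGroup.eq_one_iff q).2 hq]
    exact Subgroup.one_mem _
  have hKQ : ∀ u ∈ K, ∃ k : ℕ, u ^ 3 ^ k ∈ Q := by
    intro u hu
    obtain ⟨k, hk⟩ := CfsgLib.Cores.isPGroup_pCore (G := G ⧸ Q) 3 ⟨π u, hu⟩
    refine ⟨k, (QuotientGroup.eq_one_iff _).1 ?_⟩
    have := congrArg Subtype.val hk
    rwa [SubmonoidClass.coe_pow, Subgroup.coe_one, ← map_pow] at this
  have htop : ∀ g : G, g ∈ K ∨ d * g ∈ K := by
    intro g
    have hg : g ∈ Subgroup.closure D := h.gen ▸ Subgroup.mem_top g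
    refine Subgroup.closure_induction (p := fun z _ => z ∈ K ∨ d * z ∈ K) (fun z hz => Or.inr (hKmul d hd z hz))
      (Or.inl K.one_mem) (fun x y _ _ hx hy => ?_) (fun x _ hx => ?_) hg
    · have hc : ∀ z, d * z ∈ K → z * d ∈ K := fun z hz => by
        have := (inferInstance : K.Normal).conj_mem _ hz d
        rw [htt.inv_eq hd, show d * (d * z) * d = z * d by rw [← mul_assoc d d z, htt.sq d hd, one_mul]] at this
        exact this
      rcases hx with hx | hx <;> rcases hy with hy | hy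
      · exact Or.inl (K.mul_mem hx hy)
      · refine Or.inr ?_
        have := (inferInstance : K.Normal).conj_mem _ hx d
        rw [htt.inv_eq hd] at this
        have := K.mul_mem this hy
        rwa [show d * x * d * (d * y) = d * (x * y) by simp [mul_assoc, CfsgLib.ThreeTransp.cancel₂ (htt.sq d hd)]] at this
      · exact Or.inr (by rw [← mul_assoc]; exact K.mul_mem hx hy)
      · refine Or.inl ?_
        have := K.mul_mem (hc x hx) hy
        rwa [show x * d * (d * y) = x * y by simp [mul_assoc, CfsgLib.ThreeTransp.cancel₂ (htt.sq d hd)]] at this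
    · rcases hx with hx | hx
      · exact Or.inl (K.inv_mem hx)
      · refine Or.inr ?_
        have := (inferInstance : K.Normal).conj_mem _ (K.inv_mem hx) d
        rw [mul_inv_rev, htt.inv_eq hd,
          show d * (x⁻¹ * d) * d = d * x⁻¹ by simp [mul_assoc, htt.sq d hd]] at this
        exact this
  have h3K : ∀ u : G, ∀ k : ℕ, u ^ 3 ^ k = 1 → u ∈ K := by
    intro u k hk
    rcases htop u with hu | hu
    · exact hu
    · have hd2 : (QuotientGroup.mk u : G ⧸ K) = QuotientGroup.mk d :=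
        ((QuotientGroup.eq (a := d) (b := u)).2 (by rwa [htt.inv_eq hd])).symm
      have e : (QuotientGroup.mk u : G ⧸ K) ^ 2 = 1 := by
        rw [hd2, ← QuotientGroup.mk_pow, pow_two, htt.sq d hd, QuotientGroup.mk_one]
      have e' : (QuotientGroup.mk u : G ⧸ K) ^ 3 ^ k = 1 := by rw [← QuotientGroup.mk_pow, hk, QuotientGroup.mk_one]
      have hdvd := Nat.dvd_gcd (orderOf_dvd_of_pow_eq_one e) (orderOf_dvd_of_pow_eq_one e')
      rw [Nat.Coprime.pow_right k (by norm_num : Nat.Coprime 2 3), Nat.dvd_one, orderOf_eq_one_iff] at hdvd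
      exact (QuotientGroup.eq_one_iff u).1 hdvd
  -- a maximal 3-subgroup normalized but not centralized by `d`
  obtain ⟨x, hx, hdx⟩ : ∃ x ∈ D, ¬ Commute d x := by
    by_contra hcon
    push Not at hcon
    refine h.ne_center hd (h.le_center (X := Subgroup.zpowers d) (fun y hy z hz => ?_) (Subgroup.mem_zpowers d))
    obtain ⟨k, rfl⟩ := hz
    exact ((hcon y hy).symm.zpow_right k).eq
  have inv_sub : ∀ H : Subgroup G, (∀ y ∈ H, d * y * d ∈ H) → d ∈ Subgroup.normalizer (H : Set G) := by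
    intro H hH
    rw [Subgroup.mem_normalizer_iff]
    intro y
    rw [htt.inv_eq hd]
    refine ⟨fun hy => hH y hy, fun hy => ?_⟩
    have := hH _ hy
    simpa [mul_assoc, CfsgLib.ThreeTransp.cancel₂ (htt.sq d hd), htt.sq d hd] using this
  let good : Subgroup G → Prop := fun P => IsPGroup 3 P ∧ d ∈ Subgroup.normalizer (P : Set G) ∧ ∃ p ∈ P, ¬ Commute d p
  have hbase : good (Subgroup.zpowers (d * x)) := by
    have h3 := CfsgLib.ThreeTransp.pow_three_eq_one (htt.sq d hd) (htt.sq x hx) (htt.braid hd hx hdx)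
    refine ⟨fun y => ⟨1, ?_⟩, inv_sub _ ?_, d * x, Subgroup.mem_zpowers _, fun hc => hdx ?_⟩
    · obtain ⟨y, i, rfl⟩ := y
      refine Subtype.ext ?_
      simp only [pow_one, SubmonoidClass.coe_pow, Subgroup.coe_one]
      rw [← zpow_natCast, ← zpow_mul, mul_comm, zpow_mul, zpow_natCast, h3, one_zpow]
    · rintro _ ⟨i, rfl⟩
      refine ⟨-i, ?_⟩
      show (d * x) ^ (-i) = d * (d * x) ^ i * d
      rw [zpow_neg, ← inv_zpow, mul_inv_rev, htt.inv_eq hd, htt.inv_eq hx]
      have : d * (d * x) ^ i * d⁻¹ = (d * (d * x) * d⁻¹) ^ i := conj_zpow.symm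
      rw [htt.inv_eq hd] at this
      rw [this, ← mul_assoc d d x, htt.sq d hd, one_mul]
    · have e := hc.eq
      rw [← mul_assoc, htt.sq d hd, one_mul] at e
      show d * x = x * d
      calc d * x = (d * x * d) * d := by rw [mul_assoc, htt.sq d hd, mul_one]
        _ = x * d := by rw [← e]
  obtain ⟨P1, -, hmax⟩ := Finite.exists_le_maximal (p := good) hbase
  obtain ⟨hP, hdP, p0, hp0, hp0d⟩ := hmax.1
  obtain ⟨S, hS⟩ := hP.exists_le_sylow
  have hP1 : P1 = (S : Subgroup G) := by
    by_contra hne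
    have hlt : P1 < (S : Subgroup G) := lt_of_le_of_ne hS hne
    haveI := S.2.isNilpotent
    have hsub : P1.subgroupOf (S : Subgroup G) < ⊤ := lt_top_iff_ne_top.2 fun e =>
      hne (le_antisymm hS (Subgroup.subgroupOf_eq_top.1 e))
    obtain ⟨⟨u, huS⟩, hu1, hu2⟩ := SetLike.exists_of_lt (Group.normalizerCondition_of_isNilpotent _ hsub)
    have huN : u ∈ Subgroup.normalizer (P1 : Set G) := by
      rw [Subgroup.mem_normalizer_iff] at hu1 ⊢
      intro y
      constructor
      · exact fun hy => (hu1 ⟨y, hS hy⟩).1 hy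
      · intro hy
        have hyS : y ∈ (S : Subgroup G) := by
          have := (S : Subgroup G).mul_mem ((S : Subgroup G).mul_mem ((S : Subgroup G).inv_mem huS) (hS hy)) huS
          simpa [mul_assoc] using this
        exact (hu1 ⟨y, hyS⟩).2 hy
    have huK : u ∈ K := by
      obtain ⟨k, hk⟩ := S.2 ⟨u, huS⟩
      exact h3K u k (by simpa using congrArg Subtype.val hk)
    have hP1K : P1 ≤ K := fun p hp => by
      obtain ⟨k, hk⟩ := hP ⟨p, hp⟩
      exact h3K p k (by simpa using congrArg Subtype.val hk)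
    have huP : u ∉ P1 ⊔ Q := by
      intro hu
      rw [← SetLike.mem_coe, Subgroup.mul_normal] at hu
      obtain ⟨p, hp, q, hq, rfl⟩ := Set.mem_mul.1 hu
      have hqS : q ∈ (S : Subgroup G) := by
        simpa using (S : Subgroup G).mul_mem ((S : Subgroup G).inv_mem (hS hp)) huS
      obtain ⟨a, ha⟩ := hQp ⟨q, hq⟩
      obtain ⟨b, hb⟩ := S.2 ⟨q, hqS⟩
      have hdvd := Nat.dvd_gcd (orderOf_dvd_of_pow_eq_one (x := q) (by simpa using congrArg Subtype.val ha))
        (orderOf_dvd_of_pow_eq_one (x := q) (by simpa using congrArg Subtype.val hb))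
      rw [Nat.Coprime.pow a b (by norm_num : Nat.Coprime 2 3), Nat.dvd_one, orderOf_eq_one_iff] at hdvd
      subst hdvd
      exact hu2 (by simpa [Subgroup.mem_subgroupOf] using hp)
    -- enlarging
    have grow : ∀ w ∈ Subgroup.normalizer (P1 : Set G), (∃ k : ℕ, w ^ 3 ^ k = 1) → w ∉ P1 →
        (d * w * d = w ∨ d * w * d = w⁻¹) → False := by
      intro w hwN hw3 hwP hwd
      have hle : Subgroup.zpowers w ≤ Subgroup.normalizer (P1 : Set G) := Subgroup.zpowers_le.2 hwN
      have hzp : IsPGroup 3 (Subgroup.zpowers w) := by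
        obtain ⟨k, hk⟩ := hw3
        rintro ⟨y, i, rfl⟩
        refine ⟨k, Subtype.ext ?_⟩
        simp only [SubmonoidClass.coe_pow, Subgroup.coe_one]
        rw [← zpow_natCast, ← zpow_mul, mul_comm, zpow_mul, zpow_natCast, hk, one_zpow]
      have hconj : ∀ y ∈ P1 ⊔ Subgroup.zpowers w, d * y * d ∈ P1 ⊔ Subgroup.zpowers w := by
        intro y hy
        have hmap : P1 ⊔ Subgroup.zpowers w ≤ (P1 ⊔ Subgroup.zpowers w).comap (MulAut.conj d).toMonoidHom := by
          refine sup_le (fun z hz => ?_) (Subgroup.zpowers_le.2 ?_)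
          · exact Subgroup.mem_sup_left ((Subgroup.mem_normalizer_iff.1 hdP z).1 hz)
          · show d * w * d⁻¹ ∈ P1 ⊔ Subgroup.zpowers w
            rw [htt.inv_eq hd]
            rcases hwd with e | e <;> rw [e]
            · exact Subgroup.mem_sup_right (Subgroup.mem_zpowers w)
            · exact Subgroup.mem_sup_right (Subgroup.inv_mem _ (Subgroup.mem_zpowers w))
        have h' : d * y * d⁻¹ ∈ P1 ⊔ Subgroup.zpowers w := hmap hy
        rwa [htt.inv_eq hd] at h'
      have hg : good (P1 ⊔ Subgroup.zpowers w) :=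
        ⟨hP.to_sup_of_normal_left' hzp hle, inv_sub _ hconj, p0, Subgroup.mem_sup_left hp0, hp0d⟩
      exact hwP (hmax.2 hg le_sup_left (Subgroup.mem_sup_right (Subgroup.mem_zpowers w)))
    have heD := htt.conj u d hd
    have heN : u * d * u⁻¹ ∈ Subgroup.normalizer (P1 : Set G) :=
      Subgroup.mul_mem _ (Subgroup.mul_mem _ huN hdP) (Subgroup.inv_mem _ huN)
    -- a lift centralizing `d`
    obtain ⟨v, hvN, hvK, hvP, hvd⟩ : ∃ v, v ∈ Subgroup.normalizer (P1 : Set G) ∧ v ∈ K ∧ v ∉ P1 ⊔ Q ∧ Commute d v := by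
      rcases htt.cond d hd _ heD with hc | hc
      · have hedQ : (u * d * u⁻¹) * d ∈ Q := hcom _ heD d hd hc.symm
        have hxN : p0 * d * p0⁻¹ ∈ Subgroup.normalizer (P1 : Set G) :=
          Subgroup.mul_mem _ (Subgroup.mul_mem _ (Subgroup.le_normalizer hp0) hdP)
            (Subgroup.inv_mem _ (Subgroup.le_normalizer hp0))
        have hx'D := htt.conj p0 d hd
        have hnx : ¬ Commute d (p0 * d * p0⁻¹) := by
          intro hc'
          have hmem : d * (p0 * d * p0⁻¹) ∈ P1 := by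
            rw [show d * (p0 * d * p0⁻¹) = (d * p0 * d) * p0⁻¹ by group]
            refine P1.mul_mem ?_ (P1.inv_mem hp0)
            have := (Subgroup.mem_normalizer_iff.1 hdP p0).1 hp0
            rwa [htt.inv_eq hd] at this
          obtain ⟨k, hk⟩ := hP ⟨_, hmem⟩
          have e2 : (d * (p0 * d * p0⁻¹)) ^ 2 = 1 := by
            rw [hc'.mul_pow, pow_two, pow_two, htt.sq d hd, htt.sq _ hx'D, one_mul]
          have hdvd := Nat.dvd_gcd (orderOf_dvd_of_pow_eq_one e2)
            (orderOf_dvd_of_pow_eq_one (x := d * (p0 * d * p0⁻¹)) (by simpa using congrArg Subtype.val hk))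
          rw [Nat.Coprime.pow_right k (by norm_num : Nat.Coprime 2 3), Nat.dvd_one, orderOf_eq_one_iff,
            mul_eq_one_iff_eq_inv, htt.inv_eq hx'D] at hdvd
          exact hp0d (show d * p0 = p0 * d from eq_mul_inv_iff_mul_eq.1 hdvd)
        generalize p0 * d * p0⁻¹ = y at hxN hx'D hnx
        set e := u * d * u⁻¹ with hedef
        obtain ⟨e1, e2⟩ := htt.transport hd heD hx'D hnx (Or.inr fun hc' => by
          have hmem : d ∈ {z : G | z ∈ D ∧ Commute d z} := ⟨hd, Commute.refl d⟩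
          have hvmem : e ∈ {z : G | z ∈ D ∧ Commute d z} := ⟨heD, hc⟩
          rw [hV] at hvmem
          exact htt.not_commute_cj_left hd hnx
            ((hvmem.2 _ (htt.cj_mem hd hx'D)).1 hc'.symm))
        set w := d * y * d with hwdef
        have hwD : w ∈ D := htt.cj_mem hd hx'D
        have hwinv := htt.inv_eq hwD
        have hgQ : w * (e * d) * w ∈ Q := by
          have := (inferInstance : Q.Normal).conj_mem _ hedQ w
          rwa [hwinv] at this
        have hge : e = (w * (e * d) * w) * d * (w * (e * d) * w)⁻¹ := by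
          calc e = w * (w * e * w) * w := by
                simp [mul_assoc, CfsgLib.ThreeTransp.cancel₂ (htt.sq w hwD), htt.sq w hwD]
            _ = w * ((e * d) * (w * d * w) * (e * d)⁻¹) * w := by rw [← e1, e2]
            _ = _ := by simp only [mul_inv_rev, hwinv, htt.inv_eq hd, htt.inv_eq heD, mul_assoc]
        refine ⟨(w * (e * d) * w)⁻¹ * u, ?_, K.mul_mem (K.inv_mem (hQK hgQ)) huK, fun hmem => huP ?_, ?_⟩
        · have hwN : w ∈ Subgroup.normalizer (P1 : Set G) := Subgroup.mul_mem _ (Subgroup.mul_mem _ hdP hxN) hdP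
          exact Subgroup.mul_mem _ (Subgroup.inv_mem _ (Subgroup.mul_mem _ (Subgroup.mul_mem _ hwN
            (Subgroup.mul_mem _ heN hdP)) hwN)) huN
        · have := Subgroup.mul_mem _ (Subgroup.mem_sup_right hgQ : _ ∈ P1 ⊔ Q) hmem
          rwa [mul_inv_cancel_left] at this
        · generalize w * (e * d) * w = g at hge
          show d * (g⁻¹ * u) = g⁻¹ * u * d
          calc d * (g⁻¹ * u) = g⁻¹ * (g * d * g⁻¹) * u := by group
            _ = g⁻¹ * (u * d * u⁻¹) * u := by rw [← hge]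
            _ = g⁻¹ * u * d := by group
      · have hde := CfsgLib.ThreeTransp.pow_three_eq_one (htt.sq d hd) (htt.sq _ heD) hc
        by_cases hmem : d * (u * d * u⁻¹) ∈ P1
        · generalize hp : d * (u * d * u⁻¹) = p at hmem hde
          refine ⟨p⁻¹ * u, Subgroup.mul_mem _ (Subgroup.inv_mem _ (Subgroup.le_normalizer hmem)) huN,
            K.mul_mem (K.inv_mem (hP1K hmem)) huK, fun hm => huP ?_, ?_⟩
          · simpa using Subgroup.mul_mem _ (Subgroup.mem_sup_left hmem : _ ∈ P1 ⊔ Q) hm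
          · have hpd : p * d * p⁻¹ = u * d * u⁻¹ := by
              have hp2 : p⁻¹ = p * p := inv_eq_of_mul_eq_one_right (by rw [← hde, pow_succ', pow_two])
              calc p * d * p⁻¹ = p * d * (p * p) := by rw [hp2]
                _ = p * (d * d) * (u * d * u⁻¹) * p := by rw [← hp]; group
                _ = p * (u * d * u⁻¹) * (d * (u * d * u⁻¹)) := by rw [htt.sq d hd, mul_one, hp]
                _ = d * ((u * d * u⁻¹) * (u * d * u⁻¹)) * (d * (u * d * u⁻¹)) := by rw [← hp]; group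
                _ = _ := by rw [htt.sq _ heD, mul_one, ← mul_assoc, htt.sq d hd, one_mul]
            show d * (p⁻¹ * u) = p⁻¹ * u * d
            calc d * (p⁻¹ * u) = p⁻¹ * (p * d * p⁻¹) * u := by group
              _ = p⁻¹ * (u * d * u⁻¹) * u := by rw [hpd]
              _ = p⁻¹ * u * d := by group
        · exfalso
          refine grow _ (Subgroup.mul_mem _ hdP heN) ⟨1, by rw [pow_one]; exact hde⟩ hmem (Or.inr ?_)
          rw [mul_inv_rev, htt.inv_eq hd, htt.inv_eq heD, ← mul_assoc d d, htt.sq d hd, one_mul]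
    obtain ⟨k, hk⟩ := hKQ v hvK
    obtain ⟨b, hb⟩ := hQp ⟨_, hk⟩
    have hb' : (v ^ 3 ^ k) ^ 2 ^ b = 1 := by simpa using congrArg Subtype.val hb
    refine grow (v ^ 2 ^ b) (Subgroup.pow_mem _ hvN _) ⟨k, by rw [← pow_mul, mul_comm, pow_mul]; exact hb'⟩
      (fun hmem => hvP ?_) (Or.inl ?_)
    · have hg : Nat.gcd (2 ^ b) (3 ^ k) = 1 := Nat.Coprime.pow b k (by norm_num)
      rw [show v = v ^ (Nat.gcd (2 ^ b) (3 ^ k) : ℤ) by rw [hg]; simp, Nat.gcd_eq_gcd_ab, zpow_add, zpow_mul, zpow_mul,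
        zpow_natCast, zpow_natCast]
      exact Subgroup.mul_mem _ (Subgroup.zpow_mem _ (Subgroup.mem_sup_left hmem) _)
        (Subgroup.zpow_mem _ (Subgroup.mem_sup_right hk) _)
    · rw [(hvd.pow_right _).eq, mul_assoc, htt.sq d hd, mul_one]
  refine ⟨S, by rw [hP1] at hdP; exact hdP, eq_top_iff.2 fun g _ => ?_⟩
  have hKle : K ≤ (S : Subgroup G) ⊔ Q := by
    have hsy := Subgroup.comap_mono (f := π) (CfsgLib.Cores.pCore_le_sylow (S.mapSurjective hπs))
    rw [Sylow.coe_mapSurjective, Subgroup.comap_map_eq, QuotientGroup.ker_mk'] at hsy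
    exact hsy
  have hle : (S : Subgroup G) ⊔ Q ≤ Subgroup.zpowers d ⊔ (S : Subgroup G) ⊔ Q :=
    sup_le (le_sup_of_le_left le_sup_right) le_sup_right
  rcases htop g with hg | hg
  · exact hle (hKle hg)
  · have := Subgroup.mul_mem _ (Subgroup.mem_sup_left (Subgroup.mem_sup_left (Subgroup.mem_zpowers d)) :
      d ∈ Subgroup.zpowers d ⊔ (S : Subgroup G) ⊔ Q) (hle (hKle hg))
    rwa [← mul_assoc, htt.sq d hd, one_mul] at this

end Cfsg.Agent.S5356
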