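import Cfsg.Statements.S5358

set_option autoImplicit false
open scoped MatrixGroups
open Cfsg

namespace Cfsg.Agent.S5358

/-- Let Q be a non-degenerate quadratic form on the n-dimensional coordinate space over the field with three elements and u, v vectors of the same non-zero norm Q(u) = Q(v) spanning different lines (v ≠ u and v ≠ −u). Then the reflection matrices of u and v commute if and only if u and v are orthogonal for the polar form of Q. -/
theorem result (n : ℕ) (Q : QuadraticForm (ZMod 3) (Fin n → ZMod 3)) (hQ : (QuadraticMap.polarBilin Q).Nondegenerate) (u v : Fin n → ZMod 3) (hu : Q u ≠ 0) (huv : Q u = Q v) (h1 : v ≠ u) (h2 : v ≠ -u) : Commute (Cfsg.reflectionMatrix (⇑Q) u) (Cfsg.reflectionMatrix (⇑Q) v) ↔ QuadraticMap.polar (⇑Q) u v = 0 := by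
  have hp : ∀ x y, QuadraticMap.polar (⇑Q) (x : Fin n → ZMod 3) y = (QuadraticMap.polarBilin Q) x y :=
    fun x y => rfl
  have hmul : ∀ (w x : Fin n → ZMod 3), (Cfsg.reflectionMatrix (⇑Q) w).mulVec x
      = x - ((Q w)⁻¹ * QuadraticMap.polar (⇑Q) w x) • w := by
    intro w x
    rw [Cfsg.reflectionMatrix, Matrix.sub_mulVec, Matrix.one_mulVec, Matrix.smul_mulVec,
      Matrix.vecMulVec_mulVec]
    have hdot : dotProduct (Cfsg.polarVec (⇑Q) w) x = QuadraticMap.polar (⇑Q) w x := by
      have hx : x = ∑ j, x j • (Pi.single j 1 : Fin n → ZMod 3) := pi_eq_sum_univ' x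
      conv_rhs => rw [hx, hp, map_sum]
      simp only [dotProduct, Cfsg.polarVec]
      refine Finset.sum_congr rfl (fun j _ => ?_)
      rw [map_smul, ← hp, smul_eq_mul, mul_comm]
    rw [hdot, op_smul_eq_smul, smul_smul]
  constructor
  · intro hcomm
    by_contra h0
    have h := congrArg (fun M => Matrix.mulVec M u) hcomm.eq
    simp only [← Matrix.mulVec_mulVec] at h
    rw [hmul v u, hmul u u] at h
    simp only [hmul] at h
    simp only [hp, map_sub, map_smul, smul_eq_mul] at h
    rw [← hp u u, ← hp u v, ← hp v u, QuadraticMap.polar_comm _ v u, QuadraticMap.polar_self] at h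
    rw [← huv] at h
    set q := Q u
    set f := QuadraticMap.polar (⇑Q) u v
    have h3 : q⁻¹ * q = 1 := inv_mul_cancel₀ hu
    have hq : q⁻¹ * (2 * q) = 2 := by linear_combination 2 * h3
    have key : (f * f * q⁻¹ * q⁻¹) • u = (q⁻¹ * f * 2) • v := by
      simp only [nsmul_eq_mul, Nat.cast_ofNat, mul_sub, hq] at h
      linear_combination (norm := module) h
    have hne : (q⁻¹ * f * 2 : ZMod 3) ≠ 0 :=
      mul_ne_zero (mul_ne_zero (inv_ne_zero hu) h0) (by decide)
    have hv : v = ((q⁻¹ * f * 2)⁻¹ * (f * f * q⁻¹ * q⁻¹)) • u := by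
      rw [← smul_smul, key, inv_smul_smul₀ hne]
    generalize ((q⁻¹ * f * 2)⁻¹ * (f * f * q⁻¹ * q⁻¹) : ZMod 3) = c at hv
    have hc : c = 0 ∨ c = 1 ∨ c = -1 :=
      (show ∀ c : ZMod 3, c = 0 ∨ c = 1 ∨ c = -1 by decide) c
    rcases hc with rfl | rfl | rfl
    · rw [zero_smul] at hv
      exact hu (by show q = 0; rw [huv, hv, QuadraticMap.map_zero])
    · exact h1 (by rw [hv, one_smul])
    · exact h2 (by rw [hv, neg_smul, one_smul])
  · intro h0
    refine Matrix.toLin'.injective (LinearMap.ext fun x => ?_)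
    simp only [Matrix.toLin'_apply, ← Matrix.mulVec_mulVec, hmul]
    simp only [hp, map_sub, map_smul, smul_eq_mul]
    rw [← hp u v, ← hp v u, QuadraticMap.polar_comm _ v u, h0]
    module

end Cfsg.Agent.S5358
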