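import Cfsg.Statements.S5361
import Cfsg.Agent.Lib.SporMisc.ThreeBlocks

set_option autoImplicit false
open Cfsg

namespace Cfsg.Agent.S5361

/-- Let D be a conjugacy class of 3-transpositions generating the finite group G, and suppose the centre of G is trivial and some two different members of D commute. Then the following are equivalent: (1) the commutator subgroup of G is simple (possibly of prime order); (2) G acts primitively on D by conjugation; (3) the largest normal 2-subgroup and the largest normal 3-subgroup of G are trivial and the commuting graph of D is connected. -/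
theorem result {G : Type*} [Group G] [Finite G] {D : Set G} (hD : Cfsg.IsThreeTranspositionClass D) (hZ : Subgroup.center G = ⊥) (hw : ∃ a ∈ D, ∃ b ∈ D, a ≠ b ∧ Commute a b) : (IsSimpleGroup (commutator G) ↔ Cfsg.IsPrimitiveUnderConj D) ∧ (Cfsg.IsPrimitiveUnderConj D ↔ (Cfsg.pCore 2 G = ⊥ ∧ Cfsg.pCore 3 G = ⊥ ∧ (Cfsg.commutingGraph D).Connected)) := by
  obtain ⟨a, ha, b, hb, hne, hab⟩ := hw
  have hw : ∃ a ∈ D, ∃ b ∈ D, a ≠ b ∧ Commute a b := ⟨a, ha, b, hb, hne, hab⟩
  have h := CfsgLib.SporMisc.TTC.of_class hD ⟨a, ha, b, hb, hne⟩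
  have h31 : (Cfsg.pCore 2 G = ⊥ ∧ Cfsg.pCore 3 G = ⊥ ∧ (Cfsg.commutingGraph D).Connected) →
      IsSimpleGroup (commutator G) ∧ Cfsg.IsPrimitiveUnderConj D := by
    rintro ⟨h2, h3, hc⟩
    have h2' : Cfsg.pCore 2 G ≤ Subgroup.center G := by rw [h2]; exact bot_le
    have h3' : Cfsg.pCore 3 G ≤ Subgroup.center G := by rw [h3]; exact bot_le
    have hconn := h.connected_iff.1 hc
    refine ⟨h.simple_commutator hZ h2' h3' hconn, ?_⟩
    obtain ⟨L, -, hL, -, hC⟩ := h.exists_main_component h2' h3'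
    exact h.primitive_of_index hL hC (h.index_le_two_of_connected hL hC hconn)
  have h23 : Cfsg.IsPrimitiveUnderConj D →
      (Cfsg.pCore 2 G = ⊥ ∧ Cfsg.pCore 3 G = ⊥ ∧ (Cfsg.commutingGraph D).Connected) := by
    intro hp
    obtain ⟨hconn, h2, h3⟩ := h.of_primitive hp hw
    rw [hZ, le_bot_iff] at h2 h3
    exact ⟨h2, h3, h.connected_iff.2 hconn⟩
  refine ⟨⟨fun hs => ?_, fun hp => (h31 (h23 hp)).1⟩, h23, fun h3 => (h31 h3).2⟩
  obtain ⟨h2, h3, hconn⟩ := h.of_simple_commutator hZ hw hs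
  exact (h31 ⟨h2, h3, h.connected_iff.2 hconn⟩).2

end Cfsg.Agent.S5361
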