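import Cfsg.Statements.S5363
import Cfsg.Agent.Lib.SporMisc.Dihedral

set_option autoImplicit false
open Cfsg

namespace Cfsg.Agent.S5363

/-- Let D be a conjugation-invariant set of involutions of a finite group G. Then every product of two members of D has odd order or order 2 if and only if, for every a in D and every b in D different from a and commuting with a, the members of D commuting with a b are exactly those commuting with both a and b. -/
theorem result {G : Type*} [Group G] [Finite G] {D : Set G} (hinv : ∀ d ∈ D, orderOf d = 2) (hconj : ∀ g : G, ∀ d ∈ D, g * d * g⁻¹ ∈ D) : (∀ a ∈ D, ∀ b ∈ D, Odd (orderOf (a * b)) ∨ orderOf (a * b) = 2) ↔ ∀ a ∈ D, ∀ b ∈ D, b ≠ a → Commute a b → {y : G | y ∈ D ∧ Commute (a * b) y} = {y : G | y ∈ D ∧ Commute a y} ∩ {y : G | y ∈ D ∧ Commute b y} := by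
  have sq : ∀ d ∈ D, d * d = 1 := fun d hd => by
    rw [← pow_two, ← hinv d hd]; exact pow_orderOf_eq_one d
  have inv' : ∀ d ∈ D, d⁻¹ = d := fun d hd => inv_eq_of_mul_eq_one_right (sq d hd)
  have comm2 : ∀ a ∈ D, ∀ b ∈ D, (a * b) ^ 2 = 1 → Commute a b := by
    intro a ha b hb h
    rw [pow_two, mul_eq_one_iff_eq_inv, mul_inv_rev, inv' a ha, inv' b hb] at h
    exact h
  constructor
  · intro h a ha b hb hne hab
    ext y
    constructor
    · rintro ⟨hy, hyc⟩
      suffices hya : Commute a y by
        refine ⟨⟨hy, hya⟩, hy, ?_⟩
        have : b = a * (a * b) := by rw [← mul_assoc, sq a ha, one_mul]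
        rw [this]
        exact hya.mul_left hyc
      rcases h a ha y hy with hodd | h2
      · by_contra hya
        set a' := y * a * y with ha'
        have ha'D : a' ∈ D := by
          have := hconj y a ha; rwa [inv' y hy] at this
        have hca : Commute (a * b) a := (Commute.refl a).mul_left hab.symm
        have hcr : Commute (a * b) (a' * a) := ((hyc.mul_right hca).mul_right hyc).mul_right hca
        have hr : a' * a = ((a * y) ^ 2)⁻¹ := by
          rw [ha', pow_two]; simp [mul_inv_rev, inv' a ha, inv' y hy, mul_assoc]
        have hord : orderOf (a' * a) = orderOf (a * y) := by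
          rw [hr, orderOf_inv]
          exact Nat.Coprime.orderOf_pow hodd.coprime_two_right
        have hab2 : orderOf (a * b) = 2 := by
          refine orderOf_eq_prime ?_ (fun he => hne ?_)
          · rw [hab.mul_pow, pow_two, pow_two, sq a ha, sq b hb, one_mul]
          · rw [mul_eq_one_iff_eq_inv, inv' b hb] at he
            exact he.symm
        have hprod : orderOf (a' * b) = orderOf (a * y) * 2 := by
          have : a' * b = (a' * a) * (a * b) := by
            rw [mul_assoc a' a, ← mul_assoc a a b, sq a ha, one_mul]
          rw [this, hcr.symm.orderOf_mul_eq_mul_orderOf_of_coprime (by rw [hab2, hord]; exact hodd.coprime_two_right),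
            hord, hab2]
        rcases h a' ha'D b hb with h' | h'
        · rw [hprod] at h'; exact Nat.not_odd_iff_even.mpr (by simp) h'
        · rw [hprod] at h'
          have h1 : orderOf (a * y) = 1 := by omega
          exact hya (comm2 a ha y hy (by rw [orderOf_eq_one_iff.mp h1, one_pow]))
      · exact comm2 a ha y hy (by rw [← h2]; exact pow_orderOf_eq_one _)
    · rintro ⟨⟨hy, h1⟩, -, h2⟩
      exact ⟨hy, h1.mul_left h2⟩
  · intro h a ha b hb
    rcases Nat.even_or_odd' (orderOf (a * b)) with ⟨m, hm | hm⟩
    · right
      have hpos := orderOf_pos (a * b)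
      have h2m : (a * b) ^ (2 * m) = 1 := by rw [← hm]; exact pow_orderOf_eq_one _
      obtain ⟨hca, hcb⟩ := CfsgLib.SporMisc.invol_half_pow_comm (sq a ha) (sq b hb) h2m
      set c := (a * b) ^ m with hc
      have hDcl : ∀ u ∈ D, ∀ v : G, IsConj u v → v ∈ D := by
        intro u hu v huv
        obtain ⟨g, rfl⟩ := isConj_iff.mp huv
        exact hconj g u hu
      have hacD : a * c ∈ D := by
        rcases Nat.even_or_odd' m with ⟨j, hj | hj⟩
        · rw [hc, hj]; exact hDcl a ha _ (CfsgLib.SporMisc.invol_conj_pow_two (sq a ha) (sq b hb) j).1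
        · rw [hc, hj]; exact hDcl b hb _ (CfsgLib.SporMisc.invol_conj_pow_two (sq a ha) (sq b hb) j).2
      have hne : a * c ≠ a := by
        intro he
        rw [mul_eq_left] at he
        have := Nat.le_of_dvd (by omega) (orderOf_dvd_of_pow_eq_one he)
        omega
      have hcomm : Commute a (a * c) := by
        show a * (a * c) = a * c * a
        rw [mul_assoc a c a, ← hca]
      have hmem : b ∈ {y : G | y ∈ D ∧ Commute (a * (a * c)) y} := by
        refine ⟨hb, ?_⟩
        rw [← mul_assoc, sq a ha, one_mul]
        exact hcb.symm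
      rw [h a ha (a * c) hacD hne hcomm] at hmem
      have hcom : Commute a b := hmem.1.2
      have hd : orderOf (a * b) ∣ 2 := orderOf_dvd_of_pow_eq_one
        (by rw [hcom.mul_pow, pow_two, pow_two, sq a ha, sq b hb, one_mul])
      have := Nat.le_of_dvd (by omega) hd
      omega
    · left; exact ⟨m, hm⟩

end Cfsg.Agent.S5363
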