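import Cfsg.Statements.S5364
import Cfsg.Agent.Lib.SporMisc.Dihedral

set_option autoImplicit false
open Cfsg

namespace Cfsg.Agent.S5364

/-- Let D be a conjugation-invariant set of involutions of a finite group G and t an involution in the centre of G such that d t does not lie in D for any d in D. If the images of the members of D in G modulo the subgroup generated by t satisfy the 3-transposition order conditions (each has order 2 and any two have product of order at most 3), then so do the members of D. -/
theorem result {G : Type*} [Group G] [Finite G] {D : Set G} (hinv : ∀ d ∈ D, orderOf d = 2) (hconj : ∀ g : G, ∀ d ∈ D, g * d * g⁻¹ ∈ D) (t : G) (ht : orderOf t = 2) (htZ : t ∈ Subgroup.center G) (hDt : ∀ d ∈ D, d * t ∉ D) [(Subgroup.zpowers t).Normal] (himg : Cfsg.IsThreeTranspositionSet ((QuotientGroup.mk : G → G ⧸ Subgroup.zpowers t) '' D)) : Cfsg.IsThreeTranspositionSet D := by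
  classical
  have sq : ∀ d ∈ D, d * d = 1 := fun d hd => by
    rw [← pow_two, ← hinv d hd]; exact pow_orderOf_eq_one d
  refine ⟨hinv, fun a ha b hb => ?_⟩
  have hmem : ∀ u : G, (QuotientGroup.mk u : G ⧸ Subgroup.zpowers t) = 1 → u = 1 ∨ u = t := by
    intro u hu
    rw [QuotientGroup.eq_one_iff, (orderOf_pos_iff.mp (by omega : 0 < orderOf t)).mem_zpowers_iff_mem_range_orderOf,
      Finset.mem_image] at hu
    obtain ⟨i, hi, rfl⟩ := hu
    rw [Finset.mem_range, ht] at hi
    interval_cases i <;> simp
  rcases himg.2 _ ⟨a, ha, rfl⟩ _ ⟨b, hb, rfl⟩ with h | h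
  · rcases hmem ((a * b) ^ 2) (by simpa using h) with h' | h'
    · exact Or.inl h'
    · exfalso
      have hbab : b * a * b = a * t := by
        rw [← h', pow_two]
        calc b * a * b = (a * a) * (b * a * b) := by rw [sq a ha, one_mul]
          _ = a * (a * b * (a * b)) := by group
      have := hconj b a ha
      rw [inv_eq_of_mul_eq_one_right (sq b hb), hbab] at this
      exact hDt a ha this
  · rcases hmem ((a * b) ^ 3) (by simpa using h) with h' | h'
    · exact Or.inr h'
    · exfalso
      obtain ⟨g, hg⟩ := isConj_iff.mp (CfsgLib.SporMisc.invol_conj_pow_two (sq a ha) (sq b hb) 1).2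
      have := hconj g b hb
      rw [hg, show (2 * 1 + 1) = 3 from rfl, h'] at this
      exact hDt a ha this

end Cfsg.Agent.S5364
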