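import Cfsg.Statements.S5375
import Cfsg.Agent.Lib.ThreeTransp.M24Setup
import Cfsg.Agent.Lib.ThreeTransp.M24Sign

set_option autoImplicit false
open Cfsg

namespace Cfsg.Agent.S5375

/-- Let G be a finite group with trivial centre generated by a conjugation-invariant set D of 3-transpositions on which it acts primitively, of type M(24). Then the layer of G (its largest semisimple normal subgroup) has index 2, D has exactly 306936 members, G has order 2^22 · 3^16 · 5^2 · 7^3 · 11 · 13 · 17 · 23 · 29, the width of D is 24, and for every d in D the subgroup generated by the members of D other than d commuting with d is the centralizer of d. -/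
theorem result {G : Type*} [Group G] [Finite G] {D : Set G} (hD : Cfsg.IsThreeTranspositionGroup D) (hprim : Cfsg.IsPrimitiveUnderConj D) (ht : Cfsg.IsOfTypeM24 G D) : (Cfsg.layer G).index = 2 ∧ D.ncard = 306936 ∧ Nat.card G = 2 ^ 22 * 3 ^ 16 * 5 ^ 2 * 7 ^ 3 * 11 * 13 * 17 * 23 * 29 ∧ Cfsg.commutingWidth D = 24 ∧ ∀ d ∈ D, Subgroup.closure {y : G | y ∈ D ∧ y ≠ d ∧ Commute d y} = Subgroup.centralizer ({d} : Set G) := by
  classical
  have S := CfsgLib.M24.Setup.of_type hD hprim ht
  refine ⟨?_, CfsgLib.M24.ncard_eq S, CfsgLib.M24.card_eq S, CfsgLib.M24.width_eq S,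
    fun d hd => (CfsgLib.M24.centralizer_eq S hd).symm⟩
  -- some member commutes with another
  obtain ⟨a, ha, -⟩ := S.exists_noncommuting
  obtain ⟨b, hb⟩ : (CfsgLib.ThreeTransp.link D a).Nonempty :=
    (Set.ncard_pos (Set.toFinite _)).1 (by rw [CfsgLib.M24.link_ncard_eq S ha]; norm_num)
  have h := CfsgLib.SporMisc.TTC.of_prim hD hprim
  obtain ⟨hconn, h2, h3⟩ := h.of_primitive hprim ⟨a, ha, b, hb.1, hb.2.1.symm, hb.2.2⟩
  obtain ⟨L, hn, hL, -, hC⟩ := h.exists_main_component h2 h3
  have hi := h.index_le_two_of_connected hL hC hconn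
  have heq := h.commutator_eq_component hL hi
  have hlayer : Cfsg.layer G = L := by
    refine le_antisymm (CfsgLib.Cores.layer_le_iff.2 fun K hK => ?_) (CfsgLib.Cores.component_le_layer hL)
    rw [← CfsgLib.Cores.commutator_self_of_isQuasisimple hK.2, ← heq, commutator_def]
    exact Subgroup.commutator_mono le_top le_top
  obtain ⟨φ, hφ⟩ := CfsgLib.M24.exists_member_sign S
  have hne : L ≠ ⊤ := by
    intro htop
    have hmem : a ∈ φ.ker := by
      have hle : commutator G ≤ φ.ker := Abelianization.commutator_subset_ker φ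
      exact hle (by rw [heq, htop]; exact Subgroup.mem_top a)
    rw [MonoidHom.mem_ker, hφ a ha] at hmem
    exact absurd hmem (by decide)
  have h0 : L.index ≠ 0 := Subgroup.index_ne_zero_of_finite
  have h1 : L.index ≠ 1 := fun h1 => hne (Subgroup.index_eq_one.1 h1)
  rw [hlayer]
  omega

end Cfsg.Agent.S5375
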