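import Cfsg.Statements.S5385
import Cfsg.Agent.Lib.CoType.FiveGroup
import Cfsg.Agent.Lib.CoType.Hyp
-- import your own Cfsg.Agent.* helpers here

set_option autoImplicit false
open Cfsg Subgroup CfsgLib.CoType CfsgLib.Classical

namespace Cfsg.Agent.S5385

/-- Let G be a finite group of Conway type (involution z with generalized Fitting subgroup Q of its centralizer C extraspecial of order 2^9, C/Q the commutator subgroup of the isometry group of the hyperbolic quadratic form in dimension 8 over the field with two elements, z not weakly closed in Q), and let B be a subgroup of C of order 5 such that the centralizer of B in Q is extraspecial of order 32 containing no elementary abelian subgroup of order 8 (the quaternion-times-dihedral type). Then the layer L of the centralizer of B in G is isomorphic to the Hall–Janko group and the centralizer of L is isomorphic to the alternating group of degree 5. -/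
theorem result {G : Type*} [Group G] [Finite G] (z : G) (hz : orderOf z = 2) (Q : Subgroup (Subgroup.centralizer ({z} : Set G))) [Q.Normal] (hF : Cfsg.generalizedFittingSubgroup (Subgroup.centralizer ({z} : Set G)) = Q) (hQ : Cfsg.IsExtraspecial 2 Q) (hcard : Nat.card Q = 2 ^ 9) (e : (Subgroup.centralizer ({z} : Set G)) ⧸ Q ≃* Cfsg.Omega (ZMod 2) (Cfsg.quadFormPlus 4 (ZMod 2))) (hnwc : ∃ g : G, (∃ hq : g * z * g⁻¹ ∈ Subgroup.centralizer ({z} : Set G), (⟨g * z * g⁻¹, hq⟩ : Subgroup.centralizer ({z} : Set G)) ∈ Q) ∧ g * z * g⁻¹ ≠ z) (B : Subgroup (Subgroup.centralizer ({z} : Set G))) (hB : Nat.card B = 5) (hCQ : Cfsg.IsExtraspecial 2 ↥(Q ⊓ Subgroup.centralizer (B : Set (Subgroup.centralizer ({z} : Set G))))) (hCQcard : Nat.card ↥(Q ⊓ Subgroup.centralizer (B : Set (Subgroup.centralizer ({z} : Set G)))) = 32) (hminus : ∀ A : Subgroup (Subgroup.centralizer ({z} : Set G)), A ≤ Q ⊓ Subgroup.centralizer (B : Set (Subgroup.centralizer ({z} : Set G))) → Cfsg.IsElementaryAbelian 2 A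 → Nat.card A ≤ 4) : Cfsg.Spor.IsoJ2 ↥(Cfsg.layer ↥(Subgroup.centralizer ((B.map (Subgroup.subtype (Subgroup.centralizer ({z} : Set G)))) : Set G))) ∧ Nonempty (↥(Subgroup.centralizer (((Cfsg.layer ↥(Subgroup.centralizer ((B.map (Subgroup.subtype (Subgroup.centralizer ({z} : Set G)))) : Set G))).map (Subgroup.subtype _)) : Set G)) ≃* alternatingGroup (Fin 5)) := by
  classical
  haveI : Fact (Nat.Prime 5) := ⟨by norm_num⟩
  obtain ⟨t₀, R₀, π, π₀', ρ, ρ₀', C₀⟩ := config_of_hyp_map z hz Q hF hQ hcard e hnwc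
  set Qg := Q.map (Subgroup.centralizer ({z} : Set G)).subtype with hQg
  have S := C₀.P.S
  -- the generator
  obtain ⟨bH, hbH⟩ := exists_prime_orderOf_dvd_card' (G := B) 5 (by rw [hB])
  set b : G := ((bH : (Subgroup.centralizer ({z} : Set G))) : G) with hb
  have hbz : b ∈ Subgroup.centralizer ({z} : Set G) := (bH : (Subgroup.centralizer ({z} : Set G))).2
  have hb1 : b ≠ 1 := fun h => by
    rw [show bH = 1 from Subtype.ext (Subtype.ext h), orderOf_one] at hbH
    norm_num at hbH
  have hb5 : b ^ 5 = 1 := by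
    have h := congrArg (fun x : B => ((x : (Subgroup.centralizer ({z} : Set G))) : G)) (hbH ▸ pow_orderOf_eq_one bH : bH ^ 5 = 1)
    simpa [hb] using h
  have hgen : ∀ y : B, y ∈ Subgroup.zpowers bH := fun y => mem_zpowers_of_prime_card (p := 5) hB fun h : bH = 1 => by
    rw [h, orderOf_one] at hbH
    norm_num at hbH
  have hcent : ∀ x : G, x ∈ Subgroup.centralizer ((B.map (Subgroup.centralizer ({z} : Set G)).subtype : Subgroup G) : Set G) ↔ x * b = b * x := by
    intro x
    rw [mem_centralizer_iff]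
    refine ⟨fun h => (h b ⟨_, bH.2, rfl⟩).symm, ?_⟩
    rintro h _ ⟨y, hy, rfl⟩
    obtain ⟨k, hk⟩ := mem_zpowers_iff.1 (hgen ⟨y, hy⟩)
    rw [show (Subgroup.centralizer ({z} : Set G)).subtype y = b ^ k from by rw [show y = ((bH ^ k : B) : (Subgroup.centralizer ({z} : Set G))) from congrArg Subtype.val hk.symm]; simp [hb]]
    exact ((Commute.symm h).zpow_left k).eq
  -- the fixed part
  have hmap : (Q ⊓ Subgroup.centralizer (B : Set (Subgroup.centralizer ({z} : Set G)))).map (Subgroup.centralizer ({z} : Set G)).subtype = cQ Qg b := by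
    ext x
    constructor
    · rintro ⟨q, ⟨hq, hqB⟩, rfl⟩
      exact ⟨⟨q, hq, rfl⟩, mem_centralizer_singleton_iff.2
        (congrArg Subtype.val (mem_centralizer_iff.1 hqB (bH : (Subgroup.centralizer ({z} : Set G))) bH.2)).symm⟩
    · rintro ⟨⟨q, hq, rfl⟩, hqb⟩
      refine ⟨q, ⟨hq, mem_centralizer_iff.2 fun y hy => Subtype.ext ?_⟩, rfl⟩
      exact mem_centralizer_iff.1 ((hcent _).2 (mem_centralizer_singleton_iff.1 hqb)) _ ⟨y, hy, rfl⟩
  have eQ := ((Q ⊓ Subgroup.centralizer (B : Set (Subgroup.centralizer ({z} : Set G)))).equivMapOfInjective (Subgroup.centralizer ({z} : Set G)).subtype (Subgroup.centralizer ({z} : Set G)).subtype_injective).trans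
    (MulEquiv.subgroupCongr hmap)
  have hE : Cfsg.IsExtraspecial 2 (cQ Qg b) := CfsgLib.LargeExtra.isExtraspecial_of_mulEquiv eQ hCQ
  have h32 : Nat.card (cQ Qg b) = 32 := (Nat.card_congr eQ.toEquiv).symm.trans hCQcard
  have h16 : Nat.card (fixV (ρ b)) = 16 := by
    rw [S.card_cQ hbz hb5] at h32
    omega
  -- minus type
  have hsing : ∀ p ∈ fixV (ρ b), Sing p → ∀ x ∈ fixV (ρ b), pb p x = 0 → qm x = 0 → Pm p x := by
    intro p hp hps x hx hpx hqx
    by_contra hn
    simp only [Pm, not_or] at hn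
    let V : Set V8 := {v | v = 0 ∨ v = p ∨ v = x ∨ v = p + x}
    have hV : ∀ u ∈ V, ∀ v ∈ V, u + v ∈ V ∧ pb u v = 0 ∧ qm u = 0 := by
      intro u hu v hv
      have h0 : qm (p + x) = 0 := by rw [qm_add, hps.2, hqx, hpx, add_zero, add_zero]
      have hxp : pb x p = 0 := (pb_comm x p).trans hpx
      have a1 : x + p = p + x := add_comm x p
      have a2 : x + (p + x) = p := by rw [← a1, add_cancel8]
      have a3 : p + (p + x) = x := add_cancel8 p x
      have a4 : p + x + p = x := by rw [add_comm (p + x), a3]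
      have a5 : p + x + x = p := by rw [add_comm (p + x), a2]
      rcases hu with rfl | rfl | rfl | rfl <;> rcases hv with rfl | rfl | rfl | rfl <;>
        refine ⟨?_, ?_, ?_⟩ <;>
        simp only [V, Set.mem_ofPred_eq, Set.mem_setOf_eq, zero_add, add_zero, add_self8, pb_zero_left, pb_zero_right,
          pb_self, pb_add_left, pb_add_right, hpx, hxp, hps.2, hqx, h0, QuadraticMap.map_zero, a1, a2, a3, a4, a5,
          true_or, or_true, eq_self_iff_true]
    let A : Subgroup (Subgroup.centralizer ({z} : Set G)) :=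
      { carrier := {g | g ∈ Q ⊓ Subgroup.centralizer (B : Set (Subgroup.centralizer ({z} : Set G))) ∧ π (g : G) ∈ V}
        one_mem' := ⟨one_mem _, .inl S.pi_one⟩
        mul_mem' := fun {g h} hg hh => ⟨mul_mem hg.1 hh.1, by
          show π ((g : G) * h) ∈ V
          rw [S.pi_mul (g : G) ⟨g, hg.1.1, rfl⟩ (h : G) ⟨h, hh.1.1, rfl⟩]
          exact (hV _ hg.2 _ hh.2).1⟩
        inv_mem' := fun {g} hg => ⟨inv_mem hg.1, by
          show π (g : G)⁻¹ ∈ V
          rw [S.pi_inv (a := (g : G)) ⟨g, hg.1.1, rfl⟩]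
          exact hg.2⟩ }
    have hA : Cfsg.IsElementaryAbelian 2 A := by
      refine ⟨⟨⟨fun g h => ?_⟩⟩, fun g hg => ?_⟩
      · exact Subtype.ext (Subtype.ext ((S.commute_iff ⟨_, g.2.1.1, rfl⟩ ⟨_, h.2.1.1, rfl⟩).2
          (hV _ g.2.2 _ h.2.2).2.1))
      · refine Subtype.ext ?_
        show (g : G) ^ 2 = 1
        rw [pow_two, S.sq (g : G) ⟨g, hg.1.1, rfl⟩, (hV _ hg.2 _ hg.2).2.2, zb_zero]
    have hAle := hminus A (fun g hg => hg.1) hA
    haveI := Fintype.ofFinite G
    obtain ⟨a, ha, hpa⟩ := S.pi_surj p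
    obtain ⟨c, hc, hxc⟩ := S.pi_surj x
    have hac : a ∈ cQ Qg b := (S.mem_cQ_iff hbz hb5 ha).2 (by rw [hpa]; exact hp)
    have hcc : c ∈ cQ Qg b := (S.mem_cQ_iff hbz hb5 hc).2 (by rw [hxc]; exact hx)
    have hsub : ({1, z, a, z * a, c} : Finset G) ⊆ (Finset.univ.filter fun g => g ∈ A.map (Subgroup.centralizer ({z} : Set G)).subtype : Finset G) := by
      have hmem : ∀ g, g ∈ cQ Qg b → π g ∈ V → g ∈ A.map (Subgroup.centralizer ({z} : Set G)).subtype := fun g hg hv => by
        obtain ⟨q, hq, rfl⟩ : g ∈ (Q ⊓ Subgroup.centralizer (B : Set (Subgroup.centralizer ({z} : Set G)))).map (Subgroup.centralizer ({z} : Set G)).subtype := hmap.symm ▸ hg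
        exact ⟨q, ⟨hq, hv⟩, rfl⟩
      have hzc := S.z_mem_cQ hbz hb5
      intro g hg
      simp only [Finset.mem_insert, Finset.mem_singleton] at hg
      refine Finset.mem_filter.2 ⟨Finset.mem_univ _, ?_⟩
      rcases hg with rfl | rfl | rfl | rfl | rfl
      · exact one_mem _
      · exact hmem _ hzc (.inl S.pi_z)
      · exact hmem _ hac (.inr (.inl hpa))
      · exact hmem _ (mul_mem hzc hac) (.inr (.inl (by rw [S.pi_zmul ha, hpa])))
      · exact hmem _ hcc (.inr (.inr (.inl hxc)))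
    have h5 : ({1, z, a, z * a, c} : Finset G).card = 5 := by
      have hz1 := S.z1
      have na1 : a ≠ 1 := fun h => hps.1 (by rw [← hpa, h, S.pi_one])
      have naz : a ≠ z := fun h => hps.1 (by rw [← hpa, h, S.pi_z])
      have nc1 : c ≠ 1 := fun h => hn.1 (by rw [← hxc, h, S.pi_one])
      have ncz : c ≠ z := fun h => hn.1 (by rw [← hxc, h, S.pi_z])
      have nca : c ≠ a := fun h => hn.2 (by rw [← hxc, h, hpa])
      have ncza : c ≠ z * a := fun h => hn.2 (by rw [← hxc, h, S.pi_zmul ha, hpa])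
      have nza1 : z * a ≠ 1 := fun h => hps.1 (by rw [← hpa, ← S.pi_zmul ha, h, S.pi_one])
      have nzaz : z * a ≠ z := fun h => na1 (mul_eq_left.1 h)
      have nzaa : z * a ≠ a := fun h => hz1 (mul_eq_right.1 h)
      simp [Finset.card_insert_of_notMem, hz1, hz1.symm, na1.symm, naz.symm, nc1.symm, ncz.symm, nca.symm,
        ncza.symm, nza1.symm, nzaz.symm, nzaa.symm]
    have hle := Finset.card_le_card hsub
    rw [h5, ← Fintype.card_subtype, ← Nat.card_eq_fintype_card] at hle
    have := card_map_of_injective (K := A) (Subgroup.centralizer ({z} : Set G)).subtype_injective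
    rw [show Nat.card {g // g ∈ A.map (Subgroup.centralizer ({z} : Set G)).subtype} = Nat.card (A.map (Subgroup.centralizer ({z} : Set G)).subtype) from rfl, this] at hle
    omega
  -- the pair
  obtain ⟨p, hp, hps⟩ := exists_sing_of_card (fixV (ρ b)) (by rw [h16]; norm_num)
  have h5 := S.rho_five hbz hb5
  obtain ⟨u, v, fu, fv, pu, pv, qu, qv, uv, hspan⟩ := frame_of_fix h5 hps hp h16 (hsing p hp hps)
  obtain ⟨s, w, HS, gs, gw⟩ := five_of_frame h5 hps hp fu fv pu pv qu qv uv hspan
  obtain ⟨a, ha, rfl⟩ := S.pi_surj p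
  have ha2 : a * a = 1 := by rw [S.sq a ha, hps.2, zb_zero]
  have ha1 : a ≠ 1 := fun h => hps.1 (by rw [h, S.pi_one])
  have haz : a ≠ z := fun h => hps.1 (by rw [h, S.pi_z])
  obtain ⟨g, rfl⟩ := isConj_iff.1 (C₀.P.q_conj C₀.zt ha ha2 ha1)
  exact five_main ⟨C₀.pair_at ha haz, ⟨S, hbz, hb5, hb1, HS, gs, gw⟩, hp⟩ hE _ hcent

end Cfsg.Agent.S5385
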