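import Cfsg.Statements.S5387
import Cfsg.Agent.Lib.Schur.L34Cover
import Cfsg.Agent.Lib.Tails.Combine

set_option autoImplicit false
open Cfsg Subgroup

namespace Cfsg.Agent.S5387

open scoped commutatorElement in
private theorem surj {E Y : Type*} [Group E] [Group Y] (f : E →* Y) (hf : Function.Surjective f)
    (hY : commutator Y = ⊤) : Function.Surjective (f.comp (commutator E).subtype) := by
  intro y
  have h : (commutator E).map f = ⊤ := by
    rw [_root_.commutator_def, map_commutator, Subgroup.map_top_of_surjective f hf,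
      ← _root_.commutator_def, hY]
  obtain ⟨x, hx, e⟩ := h.ge (mem_top y)
  exact ⟨⟨x, hx⟩, e⟩

/-- Up to isomorphism there is at most one quasisimple group whose centre is elementary abelian of order 4 and whose central quotient is isomorphic to the projective special linear group of dimension 3 over the field with four elements: any two such groups are isomorphic. -/
theorem result {L₁ L₂ : Type*} [Group L₁] [Finite L₁] [Group L₂] [Finite L₂] (F : Type) [Field F] [Fintype F] (hF : Fintype.card F = 4) (h₁ : Cfsg.IsQuasisimple L₁) (h₂ : Cfsg.IsQuasisimple L₂) (hc₁ : Nat.card (Subgroup.center L₁) = 4) (hc₂ : Nat.card (Subgroup.center L₂) = 4) (he₁ : ∀ x ∈ Subgroup.center L₁, x * x = 1) (he₂ : ∀ x ∈ Subgroup.center L₂, x * x = 1) (e₁ : L₁ ⧸ Subgroup.center L₁ ≃* Matrix.ProjectiveSpecialLinearGroup (Fin 3) F) (e₂ : L₂ ⧸ Subgroup.center L₂ ≃* Matrix.ProjectiveSpecialLinearGroup (Fin 3) F) : Nonempty (L₁ ≃* L₂) := by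
  classical
  let σ₁ := e₁.toMonoidHom.comp (QuotientGroup.mk' (center L₁))
  let σ₂ := e₂.toMonoidHom.comp (QuotientGroup.mk' (center L₂))
  have s₁ : Function.Surjective σ₁ := e₁.surjective.comp (QuotientGroup.mk'_surjective _)
  have s₂ : Function.Surjective σ₂ := e₂.surjective.comp (QuotientGroup.mk'_surjective _)
  have k₁ : σ₁.ker = center L₁ := by
    ext x
    show e₁ (QuotientGroup.mk' (center L₁) x) = 1 ↔ _
    rw [map_eq_one_iff _ e₁.injective]
    exact QuotientGroup.eq_one_iff x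
  have k₂ : σ₂.ker = center L₂ := by
    ext x
    show e₂ (QuotientGroup.mk' (center L₂) x) = 1 ↔ _
    rw [map_eq_one_iff _ e₂.injective]
    exact QuotientGroup.eq_one_iff x
  have p₁ : commutator L₁ = ⊤ := h₁.1.commutator_eq_top
  have p₂ : commutator L₂ = ⊤ := h₂.1.commutator_eq_top
  have pG : commutator (Matrix.ProjectiveSpecialLinearGroup (Fin 3) F) = ⊤ := by
    rw [_root_.commutator_def, ← Subgroup.map_top_of_surjective σ₁ s₁, ← map_commutator,
      ← _root_.commutator_def, p₁]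
  let E : Subgroup (L₁ × L₂) :=
    MonoidHom.eqLocus (σ₁.comp (MonoidHom.fst L₁ L₂)) (σ₂.comp (MonoidHom.snd L₁ L₂))
  let π : ↥E →* Matrix.ProjectiveSpecialLinearGroup (Fin 3) F :=
    (σ₁.comp (MonoidHom.fst L₁ L₂)).comp E.subtype
  have hπ : Function.Surjective π := fun g => by
    obtain ⟨a, ha⟩ := s₁ g
    obtain ⟨b, hb⟩ := s₂ g
    exact ⟨⟨(a, b), ha.trans hb.symm⟩, ha⟩
  have hz : ∀ x ∈ π.ker, x.1.1 ∈ center L₁ ∧ x.1.2 ∈ center L₂ := fun x hx => by
    have e1 : σ₁ x.1.1 = 1 := hx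
    have e2 : σ₂ x.1.2 = 1 := x.2.symm.trans e1
    exact ⟨k₁.le e1, k₂.le e2⟩
  have hc : π.ker ≤ center ↥E := fun x hx => mem_center_iff.2 fun y =>
    Subtype.ext (Prod.ext (mem_center_iff.1 (hz x hx).1 _) (mem_center_iff.1 (hz x hx).2 _))
  have hperf := CfsgLib.Schur.Tails.derived_perfect pG hπ hc
  let τ : ↥(commutator ↥E) →* Matrix.ProjectiveSpecialLinearGroup (Fin 3) F :=
    π.comp (commutator ↥E).subtype
  have hτ : Function.Surjective τ := fun g => by
    obtain ⟨y, hy, e⟩ := (CfsgLib.Schur.Tails.commutator_mul_ker pG hπ).ge (mem_top g)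
    exact ⟨⟨y, hy⟩, e⟩
  have hτc : τ.ker ≤ center ↥(commutator ↥E) := fun x hx => mem_center_iff.2 fun y =>
    Subtype.ext (mem_center_iff.1 (hc (show π x.1 = 1 from hx)) y.1)
  have hτ2 : ∀ z ∈ τ.ker, z * z = 1 := fun z hzk => by
    have := hz z.1 (show π z.1 = 1 from hzk)
    exact Subtype.ext (Subtype.ext (Prod.ext (he₁ _ this.1) (he₂ _ this.2)))
  have hle := CfsgLib.Schur.L34.card_ker_le_four hF hτ hτc hτ2 hperf
  let f₁ : ↥(commutator ↥E) →* L₁ :=
    ((MonoidHom.fst L₁ L₂).comp E.subtype).comp (commutator ↥E).subtype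
  let f₂ : ↥(commutator ↥E) →* L₂ :=
    ((MonoidHom.snd L₁ L₂).comp E.subtype).comp (commutator ↥E).subtype
  have hf₁ : Function.Surjective f₁ := surj _ (fun a => by
    obtain ⟨b, hb⟩ := s₂ (σ₁ a)
    exact ⟨⟨(a, b), hb.symm⟩, rfl⟩) p₁
  have hf₂ : Function.Surjective f₂ := surj _ (fun b => by
    obtain ⟨a, ha⟩ := s₁ (σ₂ b)
    exact ⟨⟨(a, b), ha⟩, rfl⟩) p₂
  have hP : Nat.card ↥(commutator ↥E) ≤ 4 * Nat.card (Matrix.ProjectiveSpecialLinearGroup (Fin 3) F) := by
    have h := τ.ker.card_mul_index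
    rw [Subgroup.index_ker, MonoidHom.range_eq_top.2 hτ, Subgroup.card_top] at h
    rw [← h]
    exact Nat.mul_le_mul_right _ hle
  have c₁ : Nat.card L₁ = 4 * Nat.card (Matrix.ProjectiveSpecialLinearGroup (Fin 3) F) := by
    rw [← hc₁, ← Nat.card_congr e₁.toEquiv, ← Subgroup.index_eq_card, card_mul_index]
  have c₂ : Nat.card L₂ = 4 * Nat.card (Matrix.ProjectiveSpecialLinearGroup (Fin 3) F) := by
    rw [← hc₂, ← Nat.card_congr e₂.toEquiv, ← Subgroup.index_eq_card, card_mul_index]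
  have b₁ : Function.Bijective f₁ := hf₁.bijective_of_nat_card_le (by omega)
  have b₂ : Function.Bijective f₂ := hf₂.bijective_of_nat_card_le (by omega)
  exact ⟨(MulEquiv.ofBijective f₁ b₁).symm.trans (MulEquiv.ofBijective f₂ b₂)⟩

end Cfsg.Agent.S5387
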