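import Cfsg.Statements.S5394
import Cfsg.Agent.Lib.M24Cert.ClassFacts

set_option autoImplicit false
open Cfsg

namespace Cfsg.Agent.S5394

/-- The automorphism group of the length-24 code built from the squares modulo 23 has exactly two conjugacy classes of involutions: an involution either fixes exactly the eight points of an octad or has no fixed points, both kinds occur, and any two involutions of the same kind are conjugate in the group. -/
theorem result : (∀ g ∈ Cfsg.M24, orderOf g = 2 → (Finset.univ.filter fun p => g p = p) ∈ Cfsg.octads ∨ ∀ p, g p ≠ p) ∧ (∃ g ∈ Cfsg.M24, orderOf g = 2 ∧ (Finset.univ.filter fun p => g p = p) ∈ Cfsg.octads) ∧ (∃ g ∈ Cfsg.M24, orderOf g = 2 ∧ ∀ p, g p ≠ p) ∧ ∀ g ∈ Cfsg.M24, ∀ h ∈ Cfsg.M24, orderOf g = 2 → orderOf h = 2 → ((∀ p, g p ≠ p) ↔ (∀ p, h p ≠ p)) → ∃ k ∈ Cfsg.M24, k * g * k⁻¹ = h := by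
  obtain ⟨hT, hU, hTm, hUm, -⟩ := CfsgLib.M24Cert.inv_facts
  refine ⟨fun g hg ho => ?_, ⟨_, hUm, hU, CfsgLib.M24Cert.elU_fixed_octad⟩,
    ⟨_, hTm, hT, CfsgLib.M24Cert.fixed_card_zero_iff.1 ?_⟩, fun g hg h hh og oh hiff => ?_⟩
  · obtain ⟨u, hu, ⟨-, h0⟩ | ⟨e, -⟩⟩ := CfsgLib.M24Cert.inv_cases hg ho
    · exact Or.inr (CfsgLib.M24Cert.fixed_card_zero_iff.1 h0)
    · left
      rw [e, CfsgLib.M24Cert.conj_fixed_set]
      exact CfsgLib.Golay.octads_smul hu CfsgLib.M24Cert.elU_fixed_octad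
  · rw [CfsgLib.M24Cert.fixN_card CfsgLib.M24Cert.certs_ok.2.2.2.1]
    exact CfsgLib.M24Cert.rep_facts.1
  · rw [← CfsgLib.M24Cert.fixed_card_zero_iff, ← CfsgLib.M24Cert.fixed_card_zero_iff] at hiff
    obtain ⟨u, hu, ⟨e, c⟩ | ⟨e, c⟩⟩ := CfsgLib.M24Cert.inv_cases hg og <;>
      obtain ⟨v, hv, ⟨e', c'⟩ | ⟨e', c'⟩⟩ := CfsgLib.M24Cert.inv_cases hh oh <;>
      first
      | (exfalso; omega)
      | exact ⟨v * u⁻¹, mul_mem hv (inv_mem hu), by rw [e, e']; group⟩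

end Cfsg.Agent.S5394
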