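import Cfsg.Statements.S5397
import Cfsg.Agent.Lib.CoType.TwoM24
import Cfsg.Agent.Lib.CoType.TwoSplit
import Cfsg.Agent.Lib.CoType.Hyp
import Cfsg.Agent.Lib.Solvable.Gaschutz

set_option autoImplicit false
open Cfsg

namespace Cfsg.Agent.S5397

/-- Let G be a finite group of Conway type (involution z with generalized Fitting subgroup Q of its centralizer C extraspecial of order 2^9, C/Q the commutator subgroup of the isometry group of the hyperbolic quadratic form in dimension 8 over the field with two elements, z not weakly closed in Q). Then G has an elementary abelian subgroup A of order 2^11 containing z whose normalizer N is a split extension of A with N/A isomorphic to the automorphism group of the length-24 code built from the squares modulo 23, and N has exactly two orbits on the non-identity elements of A. -/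
theorem result {G : Type*} [Group G] [Finite G] (z : G) (hz : orderOf z = 2) (Q : Subgroup (Subgroup.centralizer ({z} : Set G))) [Q.Normal] (hF : Cfsg.generalizedFittingSubgroup (Subgroup.centralizer ({z} : Set G)) = Q) (hQ : Cfsg.IsExtraspecial 2 Q) (hcard : Nat.card Q = 2 ^ 9) (e : (Subgroup.centralizer ({z} : Set G)) ⧸ Q ≃* Cfsg.Omega (ZMod 2) (Cfsg.quadFormPlus 4 (ZMod 2))) (hnwc : ∃ g : G, (∃ hq : g * z * g⁻¹ ∈ Subgroup.centralizer ({z} : Set G), (⟨g * z * g⁻¹, hq⟩ : Subgroup.centralizer ({z} : Set G)) ∈ Q) ∧ g * z * g⁻¹ ≠ z) : ∃ A : Subgroup G, Cfsg.IsElementaryAbelian 2 A ∧ Nat.card A = 2 ^ 11 ∧ z ∈ A ∧ ∃ _ : (A.subgroupOf (Subgroup.normalizer (A : Set G))).Normal, Nonempty (↥(Subgroup.normalizer (A : Set G)) ⧸ A.subgroupOf (Subgroup.normalizer (A : Set G)) ≃* ↥Cfsg.M24) ∧ (∃ K : Subgroup ↥(Subgroup.normalizer (A : Set G)), (A.subgroupOf (Subgroup.normalizer (A : Set G))).IsComplement' K) ∧ ∃ a ∈ A, ∃ b ∈ A, a ≠ 1 ∧ b ≠ 1 ∧ (∀ n ∈ Subgroup.normalizer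 (A : Set G), n * a * n⁻¹ ≠ b) ∧ ∀ c ∈ A, c ≠ 1 → ∃ n ∈ Subgroup.normalizer (A : Set G), n * c * n⁻¹ = a ∨ n * c * n⁻¹ = b := by
  obtain ⟨t, R, π₀, π', ρ₀, ρ', C⟩ := CfsgLib.CoType.config_of_hyp_map z hz Q hF hQ hcard e hnwc
  obtain ⟨σ, X⟩ := C.exists_ctx
  haveI := X.an_normal
  refine ⟨X.A, X.elementary, by rw [X.card_A]; rfl, X.zA, X.an_normal, X.quot_M24, ?_, ?_⟩
  · obtain ⟨K, hK, hinf, hsup⟩ := X.exists_complement_NC
    have hKN : K ≤ X.N := hK.trans inf_le_left
    obtain ⟨H, hH⟩ := CfsgLib.Solvable.gaschutz_exists (G := ↥X.N) X.AN (X.NC.subgroupOf X.N)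
      (fun a ha b hb => Subtype.ext (X.a_comm (Subgroup.mem_subgroupOf.1 ha) (Subgroup.mem_subgroupOf.1 hb)))
      (fun a ha => Subgroup.mem_subgroupOf.2 (by
        rw [← hsup]; exact Subgroup.mem_sup_left (Subgroup.mem_subgroupOf.1 ha)))
      (by
        have hi : (X.NC.subgroupOf X.N).index = 759 := by
          have h := Subgroup.card_mul_index (X.NC.subgroupOf X.N)
          rw [Nat.card_congr (Subgroup.subgroupOfEquivOfLe (show X.NC ≤ X.N from inf_le_left)).toEquiv, X.card_N, X.card_O,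
            X.card_NC] at h
          omega
        rw [X.card_AN, hi]; decide)
      (K.subgroupOf X.N) (fun a ha => Subgroup.mem_subgroupOf.2 (hK (Subgroup.mem_subgroupOf.1 ha)))
      (eq_bot_iff.2 fun a ha => by
        have h : (a : G) ∈ X.A ⊓ K := ⟨Subgroup.mem_subgroupOf.1 ha.2, Subgroup.mem_subgroupOf.1 ha.1⟩
        rw [hinf, Subgroup.mem_bot] at h
        exact Subgroup.mem_bot.2 (Subtype.ext h))
      (by
        show X.A.subgroupOf X.N ⊔ K.subgroupOf X.N = X.NC.subgroupOf X.N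
        rw [← Subgroup.subgroupOf_sup X.a_le_N hKN, hsup])
    exact ⟨H, hH⟩
  · obtain ⟨w, hw, hw1, hwo, htr⟩ := X.second_orbit
    refine ⟨z, X.zA, w, hw, fun h => X.T.S.z1 h, hw1, fun n hn h => hwo ⟨n, hn, h⟩, fun c hc hc1 => ?_⟩
    by_cases ho : X.Orb c
    · obtain ⟨n, hn, rfl⟩ := ho
      exact ⟨n⁻¹, inv_mem hn, .inl (by group)⟩
    · obtain ⟨n, hn, rfl⟩ := htr c hc hc1 ho
      exact ⟨n⁻¹, inv_mem hn, .inr (by group)⟩

end Cfsg.Agent.S5397
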