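import Cfsg.Statements.S5399
import Cfsg.Agent.Lib.ThreeTransp.M23Invol

set_option autoImplicit false
open Cfsg

namespace Cfsg.Agent.S5399

/-- Let G be a finite group with trivial centre generated by a conjugation-invariant set D of 3-transpositions on which it acts primitively, such that for some d in D the subgroup generated by the members of D other than d commuting with d has central largest normal 2- and 3-subgroups, and suppose G with D is of type M(23). Then G has exactly 3 conjugacy classes of involutions: every involution is a product of m distinct pairwise commuting members of D for some m between 1 and 3; for each such m these products form one non-empty conjugacy class; and the value of m is determined by the involution. -/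
theorem result {G : Type*} [Group G] [Finite G] {D : Set G} (hD : Cfsg.IsThreeTranspositionGroup D) (hprim : Cfsg.IsPrimitiveUnderConj D) (d : G) (hd : d ∈ D) (h3 : Cfsg.pCore 3 ↥(Subgroup.closure {y : G | y ∈ D ∧ y ≠ d ∧ Commute d y}) ≤ Subgroup.center ↥(Subgroup.closure {y : G | y ∈ D ∧ y ≠ d ∧ Commute d y})) (h2 : Cfsg.pCore 2 ↥(Subgroup.closure {y : G | y ∈ D ∧ y ≠ d ∧ Commute d y}) ≤ Subgroup.center ↥(Subgroup.closure {y : G | y ∈ D ∧ y ≠ d ∧ Commute d y})) (ht : Cfsg.IsOfTypeM23 G D) : (∀ x : G, orderOf x = 2 → ∃ m : ℕ, 1 ≤ m ∧ m ≤ 3 ∧ (∃ l : List G, l.Nodup ∧ l.length = m ∧ (∀ a ∈ l, a ∈ D) ∧ (∀ a ∈ l, ∀ b ∈ l, Commute a b) ∧ l.prod = x)) ∧ (∀ m : ℕ, 1 ≤ m → m ≤ 3 → (∃ x : G, orderOf x = 2 ∧ (∃ l : List G, l.Nodup ∧ l.length = m ∧ (∀ a ∈ l, a ∈ D) ∧ (∀ a ∈ l, ∀ b ∈ l, Commute a b) ∧ l.prod = x)) ∧ ∀ x y : G, (∃ l : List G, l.Nodup ∧ l.length = m ∧ (∀ a ∈ l, a ∈ D) ∧ (∀ a ∈ l, ∀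 b ∈ l, Commute a b) ∧ l.prod = x) → (∃ l : List G, l.Nodup ∧ l.length = m ∧ (∀ a ∈ l, a ∈ D) ∧ (∀ a ∈ l, ∀ b ∈ l, Commute a b) ∧ l.prod = y) → IsConj x y) ∧ ∀ (m m' : ℕ) (x : G), 1 ≤ m → m ≤ 3 → 1 ≤ m' → m' ≤ 3 → (∃ l : List G, l.Nodup ∧ l.length = m ∧ (∀ a ∈ l, a ∈ D) ∧ (∀ a ∈ l, ∀ b ∈ l, Commute a b) ∧ l.prod = x) → (∃ l : List G, l.Nodup ∧ l.length = m' ∧ (∀ a ∈ l, a ∈ D) ∧ (∀ a ∈ l, ∀ b ∈ l, Commute a b) ∧ l.prod = x) → m = m' := by
  have S := CfsgLib.M23.Setup.of_group hD hprim ht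
  obtain ⟨c, hc, -⟩ := S.exists_noncommuting
  obtain ⟨e, he⟩ : (CfsgLib.ThreeTransp.link D c).Nonempty :=
    (Set.ncard_pos (Set.toFinite _)).1 (by rw [CfsgLib.M23.link_ncard_eq S hc]; norm_num)
  obtain ⟨f, hf, hfe⟩ : (CfsgLib.ThreeTransp.link D c ∩ CfsgLib.ThreeTransp.link D e).Nonempty :=
    (Set.ncard_pos (Set.toFinite _)).1 (by rw [CfsgLib.M23.link_two_ncard S hc he]; norm_num)
  have T : CfsgLib.M22.Tri D c e f :=
    ⟨hc, he.1, hf.1, he.2.1.symm, hf.2.1.symm, hfe.2.1.symm, he.2.2, hf.2.2, hfe.2.2⟩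
  have sq1 : ∀ {a b : G}, Commute a b → a * a = 1 → b * b = 1 → a * b * (a * b) = 1 := fun h h1 h2 => by
    rw [h.symm.mul_mul_mul_comm, h1, h2, one_mul]
  have ord : ∀ {x : G}, x * x = 1 → x ≠ 1 → orderOf x = 2 := fun h h' => orderOf_eq_prime (by rw [pow_two, h]) h'
  refine ⟨fun x hx => ?_, fun m h1 h3 => ⟨?_, ?_⟩, ?_⟩
  · rcases CfsgLib.M23.invol_cases S hx with h | ⟨a, b, ha, hb, rfl⟩ | ⟨a, b, g, U, rfl⟩
    · exact ⟨1, le_rfl, by norm_num, [x], by simp, rfl, by simp [h], by simp, by simp⟩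
    · refine ⟨2, by norm_num, by norm_num, [a, b], by simp [hb.2.1.symm], rfl, by simp [ha, hb.1], ?_, by simp⟩
      simp [hb.2.2, hb.2.2.symm]
    · refine ⟨3, by norm_num, le_rfl, [a, b, g], by simp [U.ab, U.ac, U.bc], rfl, by simp [U.ha, U.hb, U.hc], ?_,
        by simp [mul_assoc]⟩
      simp [U.cab, U.cab.symm, U.cac, U.cac.symm, U.cbc, U.cbc.symm]
  · interval_cases m
    · exact ⟨c, ord (S.sqd hc) (S.tt.ne_one c hc), [c], by simp, rfl, by simp [hc], by simp, by simp⟩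
    · refine ⟨c * e, ord (sq1 he.2.2 (S.sqd hc) (S.sqd he.1)) (CfsgLib.M23.pair_notMem S hc he).1,
        [c, e], by simp [he.2.1.symm], rfl, by simp [hc, he.1], ?_, by simp⟩
      simp [he.2.2, he.2.2.symm]
    · refine ⟨c * e * f, ord (CfsgLib.M23.tri_sq S T) (CfsgLib.M23.tri_notMem S T).1, [c, e, f],
        by simp [T.ab, T.ac, T.bc], rfl, by simp [T.ha, T.hb, T.hc], ?_, by simp [mul_assoc]⟩
      simp [T.cab, T.cab.symm, T.cac, T.cac.symm, T.cbc, T.cbc.symm]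
  · rintro x y ⟨l, n1, l1, d1, c1, p1⟩ ⟨l', n2, l2, d2, c2, p2⟩
    rcases CfsgLib.M22.list_cases h1 h3 n1 l1 d1 c1 p1 with ⟨hm, hx⟩ | ⟨hm, a, b, ha, hb, rfl⟩ | ⟨hm, a, b, g, U, rfl⟩ <;>
      rcases CfsgLib.M22.list_cases h1 h3 n2 l2 d2 c2 p2 with
        ⟨hm', hy⟩ | ⟨hm', a', b', ha', hb', rfl⟩ | ⟨hm', a', b', g', U', rfl⟩ <;>
      first
        | omega
        | skip
    · obtain ⟨k, hk⟩ := S.cls hx hy
      exact isConj_iff.2 ⟨k, hk⟩
    · exact CfsgLib.M23.pair_conj S ha hb ha' hb'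
    · obtain ⟨k, k1, k2, k3⟩ := CfsgLib.M23.tri_conj S U U'
      exact isConj_iff.2 ⟨k, by rw [← k1, ← k2, ← k3]; group⟩
  · rintro m m' x h1 h3 h1' h3' ⟨l, n1, l1, d1, c1, p1⟩ ⟨l', n2, l2, d2, c2, p2⟩
    rcases CfsgLib.M22.list_cases h1 h3 n1 l1 d1 c1 p1 with ⟨hm, hx⟩ | ⟨hm, a, b, ha, hb, he1⟩ | ⟨hm, a, b, g, U, he1⟩ <;>
      rcases CfsgLib.M22.list_cases h1' h3' n2 l2 d2 c2 p2 with
        ⟨hm', hy⟩ | ⟨hm', a', b', ha', hb', he2⟩ | ⟨hm', a', b', g', U', he2⟩ <;>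
      first
        | omega
        | skip
    · exact absurd (he2 ▸ hx) (CfsgLib.M23.pair_notMem S ha' hb').2
    · exact absurd (he2 ▸ hx) (CfsgLib.M23.tri_notMem S U').2
    · exact absurd (he1 ▸ hy) (CfsgLib.M23.pair_notMem S ha hb).2
    · exact absurd (he1.trans he2.symm) (CfsgLib.M23.pair_ne_tri S ha hb U')
    · exact absurd (he1 ▸ hy) (CfsgLib.M23.tri_notMem S U).2
    · exact absurd (he2.trans he1.symm) (CfsgLib.M23.pair_ne_tri S ha' hb' U)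

end Cfsg.Agent.S5399
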