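import Cfsg.Statements.S5553
import Cfsg.Agent.Lib.Leech.Basic

set_option autoImplicit false
open Cfsg

namespace Cfsg.Agent.S5553

/-- The Leech lattice of the definitions has an additive subgroup A containing twice the lattice, of index 2^12 in the lattice, all of whose vectors have squared length divisible by 32: the invariant quadratic form 'squared length over 16 modulo 2' on the lattice modulo twice the lattice (a 24-dimensional space over the field with two elements) vanishes on a 12-dimensional subspace, so it is of plus type. -/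
theorem result : ∃ A : AddSubgroup (Cfsg.GolayPt → ℤ), A ≤ Cfsg.leechLattice ∧ (∀ v ∈ Cfsg.leechLattice, (2 : ℤ) • v ∈ A) ∧ (A.addSubgroupOf Cfsg.leechLattice).index = 2 ^ 12 ∧ ∀ v ∈ A, (32 : ℤ) ∣ Cfsg.sqNorm v := by
  classical
  refine ⟨{ carrier := {x | x ∈ Cfsg.leechLattice ∧ ∀ i, (4 : ℤ) ∣ x i - x none ∧ (2 : ℤ) ∣ x none}
            zero_mem' := ⟨zero_mem _, fun i => by simp⟩
            add_mem' := ?_
            neg_mem' := ?_ }, fun x hx => hx.1, ?_, ?_, ?_⟩
  · rintro a b ⟨ha, ha'⟩ ⟨hb, hb'⟩
    refine ⟨add_mem ha hb, fun i => ?_⟩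
    have := ha' i; have := hb' i
    simp only [Pi.add_apply]
    omega
  · rintro a ⟨ha, ha'⟩
    refine ⟨neg_mem ha, fun i => ?_⟩
    have := ha' i
    simp only [Pi.neg_apply]
    omega
  · intro v hv
    refine ⟨zsmul_mem hv 2, fun i => ?_⟩
    obtain ⟨f⟩ := CfsgLib.Leech.mem_leechLattice_iff_form.1 hv
    simp only [Pi.smul_apply, smul_eq_mul, f.eq i, f.eq none]
    omega
  · -- the index
    have hdvd : ∀ x : Cfsg.leechLattice, ∀ i, (2 : ℤ) ∣ (x : Cfsg.GolayPt → ℤ) i - (x : Cfsg.GolayPt → ℤ) none := by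
      intro x i
      obtain ⟨f⟩ := CfsgLib.Leech.mem_leechLattice_iff_form.1 x.2
      rw [f.eq i, f.eq none]; omega
    let ψ : Cfsg.leechLattice →+ ZMod 2 × (Cfsg.GolayPt → ZMod 2) :=
      { toFun := fun x => ((((x : Cfsg.GolayPt → ℤ) none : ℤ) : ZMod 2),
          fun i => ((((x : Cfsg.GolayPt → ℤ) i - (x : Cfsg.GolayPt → ℤ) none) / 2 : ℤ) : ZMod 2))
        map_zero' := Prod.ext (by simp) (funext fun i => by simp)
        map_add' := fun x y => by
          refine Prod.ext (by simp) (funext fun i => ?_)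
          simp only [Prod.snd_add, Pi.add_apply, AddSubgroup.coe_add]
          rw [← Int.cast_add, ← Int.add_ediv_of_dvd_left (hdvd x i)]
          congr 2
          ring }
    have hker : ∀ x : Cfsg.leechLattice, x ∈ ψ.ker ↔
        (∀ i, (4 : ℤ) ∣ (x : Cfsg.GolayPt → ℤ) i - (x : Cfsg.GolayPt → ℤ) none ∧ (2 : ℤ) ∣ (x : Cfsg.GolayPt → ℤ) none) := by
      intro x
      simp only [AddMonoidHom.mem_ker, ψ, AddMonoidHom.coe_mk, ZeroHom.coe_mk, Prod.ext_iff, Prod.fst_zero,
        Prod.snd_zero, funext_iff, Pi.zero_apply, ZMod.intCast_zmod_eq_zero_iff_dvd]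
      constructor
      · rintro ⟨h1, h2⟩ i
        have := h2 i; have := hdvd x i
        push_cast at *
        omega
      · intro h
        refine ⟨by simpa using (h none).2, fun i => ?_⟩
        have := h i
        push_cast
        omega
    have hsub : ∀ x : Cfsg.leechLattice, x ∈ ψ.ker ↔ (x : Cfsg.GolayPt → ℤ) ∈ Cfsg.leechLattice ∧
        ∀ i, (4 : ℤ) ∣ (x : Cfsg.GolayPt → ℤ) i - (x : Cfsg.GolayPt → ℤ) none ∧ (2 : ℤ) ∣ (x : Cfsg.GolayPt → ℤ) none :=
      fun x => (hker x).trans ⟨fun h => ⟨x.2, h⟩, fun h => h.2⟩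
    refine Eq.trans (congrArg AddSubgroup.index (AddSubgroup.ext fun x => (hsub x).symm)) ?_
    rw [AddSubgroup.index_ker]
    -- the image
    set l := CfsgLib.Golay.golayList.filter fun n => !n.testBit 23 with hl
    have hlen : l.length = 2048 := by
      rw [hl, ← List.countP_eq_length_filter, CfsgLib.Golay.countP_golayList]
      decide +kernel
    have hinj : ∀ a ∈ l, ∀ b ∈ l, CfsgLib.Golay.toWord a = CfsgLib.Golay.toWord b → a = b := by
      intro a ha b hb h
      refine CfsgLib.Golay.toSet_injOn a (List.mem_filter.1 ha).1 b (List.mem_filter.1 hb).1 ?_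
      rw [← CfsgLib.Golay.support_toWord, h, CfsgLib.Golay.support_toWord]
    have hrange : (ψ.range : Set (ZMod 2 × (Cfsg.GolayPt → ZMod 2))) =
        ↑((Finset.univ : Finset (ZMod 2)) ×ˢ l.toFinset.image CfsgLib.Golay.toWord) := by
      have hnone : ∀ n : ℕ, n.testBit 23 = false ↔ CfsgLib.Golay.toWord n none = 0 := by
        intro n
        have : ((CfsgLib.Golay.ptEquiv none).val) = 23 := by decide
        simp only [CfsgLib.Golay.toWord, this]
        by_cases h : n.testBit 23 <;> simp [h]
      ext ⟨a, w⟩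
      simp only [AddMonoidHom.coe_range, Set.mem_range, Finset.coe_product, Finset.coe_univ, Set.mem_prod,
        Set.mem_univ, true_and, Finset.coe_image, List.coe_toFinset, Set.mem_image, Set.mem_ofPred_eq]
      constructor
      · rintro ⟨⟨x, hx⟩, hψ⟩
        obtain ⟨f⟩ := CfsgLib.Leech.mem_leechLattice_iff_form.1 hx
        simp only [ψ, AddMonoidHom.coe_mk, ZeroHom.coe_mk, Prod.ext_iff] at hψ
        obtain ⟨-, hw⟩ := hψ
        have hw0 : w none = 0 := by rw [← hw]; simp
        set C' := if none ∈ f.C then Finset.univ \ f.C else f.C with hC'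
        have hC'code : CfsgLib.Leech.CodeSet C' := by
          rw [hC']; split
          · exact CfsgLib.Leech.codeSet_compl f.code
          · exact f.code
        obtain ⟨n, hn, hns⟩ := CfsgLib.Golay.mem_supports.1 hC'code
        have hword : CfsgLib.Golay.toWord n = w := by
          funext i
          rw [← hw]
          simp only [CfsgLib.Golay.toWord]
          have hb : (n.testBit (CfsgLib.Golay.ptEquiv i).val = true) ↔ i ∈ C' := by
            rw [← CfsgLib.Golay.mem_toSet, hns]
          by_cases h0 : none ∈ f.C <;> by_cases hi : i ∈ f.C <;>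
            simp only [hC', h0, if_true, if_false, Finset.mem_sdiff, Finset.mem_univ, true_and, hi, not_true,
              not_false_iff] at hb
          all_goals
            simp only [hb, f.eq i, f.eq none, CfsgLib.Leech.indi, h0, hi, if_true, if_false]
            first
            | rw [show (f.m + 2 * 1 + 4 * f.y i - (f.m + 2 * 1 + 4 * f.y none)) / 2 = 2 * (f.y i - f.y none) by omega]
            | rw [show (f.m + 2 * 0 + 4 * f.y i - (f.m + 2 * 1 + 4 * f.y none)) / 2 = 2 * (f.y i - f.y none) - 1 by omega]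
            | rw [show (f.m + 2 * 1 + 4 * f.y i - (f.m + 2 * 0 + 4 * f.y none)) / 2 = 2 * (f.y i - f.y none) + 1 by omega]
            | rw [show (f.m + 2 * 0 + 4 * f.y i - (f.m + 2 * 0 + 4 * f.y none)) / 2 = 2 * (f.y i - f.y none) by omega]
          all_goals
            push_cast
            simp [show (2 : ZMod 2) = 0 from rfl]
        refine ⟨n, List.mem_filter.2 ⟨hn, ?_⟩, hword⟩
        simp [(hnone n).2 (by rw [hword, hw0])]
      · rintro ⟨n, hn, rfl⟩
        rw [List.mem_filter, Bool.not_eq_true'] at hn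
        set C := CfsgLib.Golay.toSet n with hC
        have hCc : CfsgLib.Leech.CodeSet C := CfsgLib.Golay.mem_supports.2 ⟨n, hn.1, rfl⟩
        have hn0 : none ∉ C := by
          rw [hC, CfsgLib.Golay.mem_toSet, show ((CfsgLib.Golay.ptEquiv none).val) = 23 by decide, hn.2]
          simp
        let x : Cfsg.GolayPt → ℤ := fun i =>
          (a.val : ℤ) + 2 * CfsgLib.Leech.indi C i + 4 * (if i = none then (a.val : ℤ) else 0)
        have hx : x ∈ Cfsg.leechLattice := by
          refine CfsgLib.Leech.mem_leechLattice_iff_form.2 ⟨⟨a.val, C, _, hCc, fun i => rfl, ?_⟩⟩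
          simp only [x, Finset.sum_add_distrib, ← Finset.mul_sum, CfsgLib.Leech.sum_indi, Finset.sum_const,
            Finset.card_univ, CfsgLib.Leech.card_golayPt, nsmul_eq_mul, Finset.sum_ite_eq', Finset.mem_univ, if_true]
          obtain ⟨c, hc⟩ := CfsgLib.Leech.codeSet_card_dvd hCc
          rw [hc, Int.ModEq]
          push_cast
          omega
        refine ⟨⟨x, hx⟩, Prod.ext ?_ (funext fun i => ?_)⟩
        · simp [ψ, x, CfsgLib.Leech.indi, hn0, show (4 : ZMod 2) = 0 from rfl]
        · have hb : (n.testBit (CfsgLib.Golay.ptEquiv i).val = true) ↔ i ∈ C :=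
            CfsgLib.Golay.mem_toSet.symm
          simp only [ψ, AddMonoidHom.coe_mk, ZeroHom.coe_mk, x, CfsgLib.Golay.toWord, CfsgLib.Leech.indi, hb,
            hn0, if_false]
          by_cases hi : i = none
          · subst hi; simp [hn0]
          · by_cases hiC : i ∈ C <;> simp only [hi, hiC, if_true, if_false]
            · rw [show ((a.val : ℤ) + 2 * 1 + 4 * 0 - ((a.val : ℤ) + 2 * 0 + 4 * (a.val : ℤ))) / 2 = 1 - 2 * (a.val : ℤ) by omega]
              push_cast
              simp [show (2 : ZMod 2) = 0 from rfl]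
            · rw [show ((a.val : ℤ) + 2 * 0 + 4 * 0 - ((a.val : ℤ) + 2 * 0 + 4 * (a.val : ℤ))) / 2 = -2 * (a.val : ℤ) by omega]
              push_cast
              simp [show (2 : ZMod 2) = 0 from rfl]
    show Nat.card (ψ.range : Set (ZMod 2 × (Cfsg.GolayPt → ZMod 2))) = 2 ^ 12
    rw [hrange, Nat.card_coe_set_eq, Set.ncard_coe_finset, Finset.card_product, Finset.card_univ, ZMod.card,
      Finset.card_image_of_injOn (fun a ha b hb => hinj a (List.mem_toFinset.1 ha) b (List.mem_toFinset.1 hb)),
      List.toFinset_card_of_nodup (CfsgLib.Golay.golayList_nodup.filter _), hlen]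
    rfl
  · rintro v ⟨hv, hv'⟩
    obtain ⟨f⟩ := CfsgLib.Leech.mem_leechLattice_iff_form.1 hv
    have hsum := f.sum
    obtain ⟨c, hc⟩ : ∃ c, v none = 2 * c := (hv' none).2
    have hu : ∀ i, ∃ u, v i = 2 * c + 4 * u := fun i => by
      obtain ⟨k, hk⟩ := (hv' i).1; exact ⟨k, by omega⟩
    choose u hu using hu
    have hm : f.m % 2 = 0 := by
      have := f.eq none; omega
    simp only [hu, Finset.sum_add_distrib, ← Finset.mul_sum, Finset.sum_const, Finset.card_univ,
      CfsgLib.Leech.card_golayPt, nsmul_eq_mul, Int.ModEq] at hsum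
    obtain ⟨w, hw⟩ : (2 : ℤ) ∣ ∑ i, u i := by push_cast at hsum; omega
    have hsq : (2 : ℤ) ∣ ∑ i, (u i * u i - u i) :=
      Finset.dvd_sum fun i _ => by
        have := Int.even_mul_succ_self (u i - 1)
        rw [sub_add_cancel, mul_comm] at this
        rw [show u i * u i - u i = u i * (u i - 1) by ring]
        exact this.two_dvd
    obtain ⟨q, hq⟩ := hsq
    rw [Finset.sum_sub_distrib, hw] at hq
    rw [Cfsg.sqNorm]
    simp only [hu]
    rw [show ∑ i, (2 * c + 4 * u i) ^ 2 = 24 * (4 * c ^ 2) + 16 * c * ∑ i, u i + 16 * ∑ i, u i * u i by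
      rw [Finset.mul_sum, Finset.mul_sum, show (24 : ℤ) * (4 * c ^ 2) = ∑ _i : Cfsg.GolayPt, 4 * c ^ 2 by
        simp [CfsgLib.Leech.card_golayPt], ← Finset.sum_add_distrib, ← Finset.sum_add_distrib]
      exact Finset.sum_congr rfl fun i _ => by ring]
    rw [hw, show (∑ i, u i * u i) = 2 * q + 2 * w by linarith]
    exact ⟨3 * c ^ 2 + c * w + q + w, by ring⟩

end Cfsg.Agent.S5553
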