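import Cfsg.Statements.S5408
import Cfsg.Agent.Lib.MonsterType.Conjugates
import Cfsg.Agent.S5553

set_option autoImplicit false
open Cfsg

namespace Cfsg.Agent.S5408

/-- Let G be a finite group of Monster type at the involution z with Q the extraspecial normal subgroup of order 2^25 of C = C_G(z) (so C/Q is identified with the first Conway group with Q modulo its centre the Leech lattice modulo 2, and z is not weakly closed in Q). Then Q is of plus type: it contains an elementary abelian subgroup of order 2^13. -/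
theorem result {G : Type*} [Group G] [Finite G] (z : G) (Q : Subgroup (Subgroup.centralizer ({z} : Set G))) [Q.Normal] (hM : Cfsg.IsOfMonsterType z Q) : ∃ E : Subgroup Q, Cfsg.IsElementaryAbelian 2 E ∧ Nat.card E = 2 ^ 13 := by
  classical
  obtain ⟨hS, e, ψ, hψ⟩ := hM
  obtain ⟨A, hAle, h2A, hAidx, hA32⟩ := Cfsg.Agent.S5553.result
  let Φ : Cfsg.leechLattice →+ Additive (Q ⧸ Subgroup.center Q) :=
    AddMonoidHom.mk' (fun v => Additive.ofMul (ψ v)) fun v w => congrArg Additive.ofMul (hψ.1 v w)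
  have hΦ : Function.Surjective Φ := fun q => hψ.2.1 (Additive.toMul q)
  set A' := A.addSubgroupOf Cfsg.leechLattice with hA'
  have hker : Φ.ker ≤ A' := by
    intro v hv
    have h1 : ψ v = 1 := hv
    obtain ⟨w, hw⟩ := (hψ.2.2.1 v).1 h1
    show (v : Cfsg.GolayPt → ℤ) ∈ A
    have := h2A _ w.2
    rw [hw, AddSubgroup.coe_add]
    rwa [two_zsmul] at this
  have hidx : (A'.map Φ).index = 2 ^ 12 := by
    rw [AddSubgroup.index_map_eq _ hΦ hker, hAidx]
  let img : Subgroup (Q ⧸ Subgroup.center Q) := AddSubgroup.toSubgroup' (A'.map Φ)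
  refine ⟨img.comap (QuotientGroup.mk' _), ?_, ?_⟩
  · have hsq : ∀ a ∈ img.comap (QuotientGroup.mk' _), a * a = 1 := by
      intro a ha
      obtain ⟨v, hv, hva⟩ : Additive.ofMul (QuotientGroup.mk a : Q ⧸ Subgroup.center Q) ∈ A'.map Φ := ha
      exact (CfsgLib.MonsterType.sq_eq_one_iff hψ hS (v := v) hva).2 (hA32 _ hv)
    refine ⟨⟨⟨fun a b => Subtype.ext ?_⟩⟩, fun a ha => by rw [sq]; exact hsq a ha⟩
    calc (a : Q) * b = ((a : Q) * b)⁻¹ := (inv_eq_of_mul_eq_one_left (hsq _ (mul_mem a.2 b.2))).symm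
      _ = (b : Q)⁻¹ * (a : Q)⁻¹ := mul_inv_rev _ _
      _ = (b : Q) * a := by
        rw [inv_eq_of_mul_eq_one_left (hsq _ a.2), inv_eq_of_mul_eq_one_left (hsq _ b.2)]
  · have h1 := (img.comap (QuotientGroup.mk' (Subgroup.center Q))).card_mul_index
    rw [Subgroup.index_comap_of_surjective _ (QuotientGroup.mk'_surjective _)] at h1
    have h2 : img.index = (A'.map Φ).index := rfl
    rw [h2, hidx, CfsgLib.MonsterType.card_Q hS] at h1
    omega

end Cfsg.Agent.S5408
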