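import Cfsg.Statements.S5411
import Cfsg.Agent.Lib.MonsterType.Conjugates

set_option autoImplicit false
open Cfsg

namespace Cfsg.Agent.S5411

/-- Let G be a finite group of Monster type at the involution z with Q the extraspecial normal subgroup of order 2^25 of C = C_G(z) (so C/Q is identified with the first Conway group with Q modulo its centre the Leech lattice modulo 2, and z is not weakly closed in Q). Then C acts transitively by conjugation on the involutions of Q that are not conjugate to z in G. -/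
theorem result {G : Type*} [Group G] [Finite G] (z : G) (Q : Subgroup (Subgroup.centralizer ({z} : Set G))) [Q.Normal] (hM : Cfsg.IsOfMonsterType z Q) (s t : G) (hsQ : ∃ hsc : s ∈ Subgroup.centralizer ({z} : Set G), (⟨s, hsc⟩ : Subgroup.centralizer ({z} : Set G)) ∈ Q) (htQ : ∃ htc : t ∈ Subgroup.centralizer ({z} : Set G), (⟨t, htc⟩ : Subgroup.centralizer ({z} : Set G)) ∈ Q) (hs2 : orderOf s = 2) (ht2 : orderOf t = 2) (hs : ¬ IsConj z s) (ht : ¬ IsConj z t) : ∃ h ∈ Subgroup.centralizer ({z} : Set G), h * s * h⁻¹ = t := by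
  obtain ⟨hS, e, ψ, hψ⟩ := hM
  obtain ⟨hsc, hsQ⟩ := hsQ
  obtain ⟨htc, htQ⟩ := htQ
  have key : ∀ x : Q, orderOf ((x : Subgroup.centralizer ({z} : Set G)) : G) = 2 →
      ¬ IsConj z ((x : Subgroup.centralizer ({z} : Set G)) : G) →
      ∃ v : Cfsg.leechLattice, Cfsg.sqNorm (v : Cfsg.GolayPt → ℤ) = 32 ∧ ψ v = QuotientGroup.mk x := by
    intro x hx2 hxn
    have hsq : x * x = 1 := Subtype.ext (Subtype.ext (by
      simp only [Subgroup.coe_mul, OneMemClass.coe_one]
      rw [← sq, ← hx2, pow_orderOf_eq_one]))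
    have hxc : x ∉ Subgroup.center Q := fun hc => by
      rcases (CfsgLib.MonsterType.center_cases hS).1 hc with h | h
      · rw [h, orderOf_one] at hx2; omega
      · exact hxn (isConj_iff.2 ⟨1, by simp [h]⟩)
    obtain ⟨v, hv, hvx⟩ := CfsgLib.MonsterType.exists_type_of_sq hψ hS hxc hsq
    exact ⟨v, hv.resolve_right fun h64 =>
      hxn ((CfsgLib.MonsterType.conj_iff_type64 hS hψ x).2 ⟨v, h64, hvx⟩).1, hvx⟩
  obtain ⟨v, hv, hvx⟩ := key ⟨⟨s, hsc⟩, hsQ⟩ hs2 hs
  obtain ⟨w, hw, hwy⟩ := key ⟨⟨t, htc⟩, htQ⟩ ht2 ht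
  exact CfsgLib.MonsterType.conj_in_centralizer hS hψ (Or.inl rfl) hv hw hvx hwy

end Cfsg.Agent.S5411
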