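import Cfsg.Statements.S5412
import Cfsg.Agent.Lib.MonsterType.BabyQuot

set_option autoImplicit false
open Cfsg

namespace Cfsg.Agent.S5412

/-- Let G be a finite group of Monster type at the involution z with Q the extraspecial normal subgroup of order 2^25 of C = C_G(z) (so C/Q is identified with the first Conway group with Q modulo its centre the Leech lattice modulo 2, and z is not weakly closed in Q). Let t be an involution of Q not conjugate to z in G. Then the centralizer of t modulo the subgroup generated by t is a group of Baby Monster type (an involution whose centralizer D has generalized Fitting subgroup R extraspecial of order 2^23 with D/R identified with the second Conway group acting on R modulo its centre as on the vectors of the Leech lattice modulo 2 orthogonal to a short vector, modulo that vector; the involution not weakly closed in R). -/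
theorem result {G : Type*} [Group G] [Finite G] (z : G) (Q : Subgroup (Subgroup.centralizer ({z} : Set G))) [Q.Normal] (hM : Cfsg.IsOfMonsterType z Q) (t : G) (htQ : ∃ htc : t ∈ Subgroup.centralizer ({z} : Set G), (⟨t, htc⟩ : Subgroup.centralizer ({z} : Set G)) ∈ Q) (ht2 : orderOf t = 2) (ht : ¬ IsConj z t) [hn : ((Subgroup.zpowers t).subgroupOf (Subgroup.centralizer ({t} : Set G))).Normal] : Cfsg.IsOfBabyMonsterType (↥(Subgroup.centralizer ({t} : Set G)) ⧸ (Subgroup.zpowers t).subgroupOf (Subgroup.centralizer ({t} : Set G))) := by
  obtain ⟨hS, e, ψ, hψ⟩ := hM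
  obtain ⟨htc, htQ⟩ := htQ
  set x : Q := ⟨⟨t, htc⟩, htQ⟩ with hx
  have hsq : x * x = 1 := Subtype.ext (Subtype.ext (by
    simp only [hx, Subgroup.coe_mul, OneMemClass.coe_one]
    rw [← sq, ← ht2, pow_orderOf_eq_one]))
  have hxc : x ∉ Subgroup.center Q := fun hc => by
    rcases (CfsgLib.MonsterType.center_cases hS).1 hc with h | h
    · rw [show t = 1 from h, orderOf_one] at ht2; omega
    · exact ht (isConj_iff.2 ⟨1, by simpa [hx] using h.symm⟩)
  obtain ⟨v, hv, hvx⟩ := CfsgLib.MonsterType.exists_type_of_sq hψ hS hxc hsq
  have hv32 := hv.resolve_right fun h64 =>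
    ht ((CfsgLib.MonsterType.conj_iff_type64 hS hψ x).2 ⟨v, h64, hvx⟩).1
  obtain ⟨e', ψ', hψ', htU⟩ := CfsgLib.MonsterType.exists_iso_at hψ hv32 hvx
  exact CfsgLib.MonsterType.isOfBabyMonsterType_quot hS hψ' htU rfl ht

end Cfsg.Agent.S5412
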