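import Cfsg.Statements.S5421
import Cfsg.Agent.Lib.LargeExtra.Basic

set_option autoImplicit false
open Cfsg

namespace Cfsg.Agent.S5421

/-- Let Q be an extraspecial 2-subgroup of the finite group G whose centralizer in G is its centre Z and which is normal in the centralizer of Z. If some involution b of Q outside Z has Z inside the largest normal 2-subgroup of the centralizer of b, then Q is a large extraspecial 2-subgroup of G. -/
theorem result {G : Type*} [Group G] [Finite G] (Q : Subgroup G) (hL1 : Cfsg.IsExtraspecial 2 ↥Q) (hL2 : Subgroup.centralizer (Q : Set G) = ((Subgroup.center ↥Q).map Q.subtype)) (hL3 : Subgroup.centralizer (((Subgroup.center ↥Q).map Q.subtype) : Set G) ≤ Subgroup.normalizer (Q : Set G)) (b : G) (hbQ : b ∈ Q) (hbZ : b ∉ ((Subgroup.center ↥Q).map Q.subtype)) (hb : orderOf b = 2) (hZ : ((Subgroup.center ↥Q).map Q.subtype) ≤ (Cfsg.pCore 2 ↥(Subgroup.centralizer ({b} : Set G))).map (Subgroup.centralizer ({b} : Set G)).subtype) : Cfsg.IsLargeExtraspecial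 Q := by
  obtain ⟨z, hzQ, hz2, hZe, hzc, hz⟩ := CfsgLib.LargeExtra.exists_centre_involution hL1
  refine ⟨hL1, hL2, hL3, fun K hK hQK => ?_⟩
  have hzb : z ∈ (Cfsg.pCore 2 ↥(Subgroup.centralizer ({b} : Set G))).map
      (Subgroup.centralizer ({b} : Set G)).subtype := hZ (hZe ▸ Subgroup.mem_zpowers z)
  have hKb := CfsgLib.LargeExtra.centralizer_trivial_of_mem_two_core hL1 hL2 hL3 hK hQK hZe hzQ hbQ hzb
  obtain ⟨q, hq⟩ : ∃ q ∈ Q, q * b * q⁻¹ = z * b := by
    have hbnc : (⟨b, hbQ⟩ : Q) ∉ Subgroup.center Q := fun h => hbZ ⟨_, h, rfl⟩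
    rw [Subgroup.mem_center_iff] at hbnc
    push Not at hbnc
    obtain ⟨q, hq⟩ := hbnc
    have hm : ((q * ⟨b, hbQ⟩ * q⁻¹ * (⟨b, hbQ⟩ : Q)⁻¹ : Q) : G) ∈ Subgroup.zpowers z :=
      hZe ▸ ⟨_, CfsgLib.LargeExtra.comm_mem_center hL1 q ⟨b, hbQ⟩, rfl⟩
    rcases hz _ hm with h | h
    · exfalso
      apply hq
      rw [OneMemClass.coe_eq_one, mul_inv_eq_one, mul_inv_eq_iff_eq_mul] at h
      exact h
    · refine ⟨q, q.2, eq_mul_of_mul_inv_eq ?_⟩
      simpa using h
  have hqzb : ∀ k ∈ K, (z * b) * k = k * (z * b) → k = 1 := by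
    intro k hk hc
    have hqi : q⁻¹ * k * q ∈ K := by
      have := (Subgroup.mem_normalizer_iff.1 (hQK (inv_mem hq.1)) k).1 hk
      simpa using this
    have h := hKb (q⁻¹ * k * q) hqi (by
      have := congrArg (fun y => q⁻¹ * y * q) hc
      rw [← hq.2] at this
      simpa [mul_assoc] using this)
    simpa [mul_assoc, inv_mul_eq_one, eq_comm] using h
  have hfix : ∀ {y : G}, y ∈ Q → orderOf y = 2 → (∀ k ∈ K, y * k = k * y → k = 1) →
      ∀ k ∈ K, y * k * y⁻¹ = k⁻¹ := by
    intro y hyQ hy2 hy k hk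
    let φ : K →* K :=
      { toFun := fun x => ⟨y * x * y⁻¹, (Subgroup.mem_normalizer_iff.1 (hQK hyQ) x).1 x.2⟩
        map_one' := Subtype.ext (by simp)
        map_mul' := fun a b => Subtype.ext (by simp [mul_assoc]) }
    have hφ : MonoidHom.FixedPointFree φ := by
      intro x hx
      refine Subtype.ext (hy x x.2 ?_)
      have := congrArg Subtype.val hx
      simp only [φ, MonoidHom.coe_mk, OneHom.coe_mk] at this
      rwa [mul_inv_eq_iff_eq_mul] at this
    have hyy : y * y = 1 := by rw [← sq, ← hy2, pow_orderOf_eq_one]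
    have hinv : Function.Involutive φ := by
      intro x
      refine Subtype.ext ?_
      have hyi : y⁻¹ = y := inv_eq_of_mul_eq_one_right hyy
      simp only [φ, MonoidHom.coe_mk, OneHom.coe_mk, hyi]
      simp [← mul_assoc, hyy]
      simp [mul_assoc, hyy]
    have := congrArg Subtype.val (congrFun (hφ.coe_eq_inv_of_involutive hinv) ⟨k, hk⟩)
    simpa [φ] using this
  have hbz : (z * b) ∈ Q := mul_mem hzQ hbQ
  have hzb2 : orderOf (z * b) = 2 := by
    rw [← hq.2, ← MulAut.conj_apply, MulEquiv.orderOf_eq, hb]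
  rw [Subgroup.eq_bot_iff_forall]
  intro k hk
  have hb' := hfix hbQ hb hKb k hk
  have hzb' := hfix hbz hzb2 hqzb k hk
  have hzk : z * k⁻¹ * z⁻¹ = k⁻¹ := by
    calc z * k⁻¹ * z⁻¹ = z * (b * k * b⁻¹) * z⁻¹ := by rw [hb']
      _ = z * b * k * (z * b)⁻¹ := by group
      _ = k⁻¹ := hzb'
  have : K ⊓ Subgroup.centralizer ({z} : Set G) = ⊥ := by
    refine CfsgLib.LargeExtra.eq_bot_of_odd_of_le_centralizer hL1 hL2 hL3
      (hK.of_dvd_nat (Subgroup.card_dvd_of_le inf_le_left)) ?_ ?_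
    · intro q hq
      rw [Subgroup.mem_normalizer_iff]
      intro x
      show x ∈ K ∧ x ∈ Subgroup.centralizer _ ↔ q * x * q⁻¹ ∈ K ∧ q * x * q⁻¹ ∈ Subgroup.centralizer _
      rw [← Subgroup.mem_normalizer_iff.1 (hQK hq) x,
        Subgroup.mem_centralizer_singleton_iff, Subgroup.mem_centralizer_singleton_iff]
      have hqz := hzc q hq
      have hqz' : q⁻¹ * z = z * q⁻¹ := (Commute.inv_left (show Commute q z from hqz)).eq
      refine and_congr_right fun _ => ?_
      constructor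
      · intro h2
        rw [mul_assoc (q * x), hqz', ← mul_assoc, mul_assoc q x, h2, ← mul_assoc, hqz]
        group
      · intro h2
        rw [mul_assoc (q * x), hqz', ← mul_assoc, mul_assoc q x, ← mul_assoc z (q * x),
          ← mul_assoc z q, ← hqz, mul_assoc q z] at h2
        exact mul_left_cancel (mul_right_cancel h2)
    · rw [hZe, CfsgLib.LargeExtra.centralizer_zpowers]; exact inf_le_right
  have hk' : k⁻¹ ∈ K ⊓ Subgroup.centralizer ({z} : Set G) :=
    ⟨K.inv_mem hk, Subgroup.mem_centralizer_singleton_iff.2 ((mul_inv_eq_iff_eq_mul.1 hzk).symm)⟩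
  rw [this, Subgroup.mem_bot, inv_eq_one] at hk'
  exact hk'

end Cfsg.Agent.S5421
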