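import Cfsg.Statements.S5422
import Cfsg.Agent.Lib.LargeExtra.Symm
import Cfsg.Agent.S5421

set_option autoImplicit false
open Cfsg

namespace Cfsg.Agent.S5422

/-- Let Q be an extraspecial 2-subgroup of the finite group G whose centralizer in G is its centre Z and which is normal in the centralizer of Z; suppose Q has width at least 2 (order 2^(2w+1) with w ≥ 2) and g is an element of G not normalizing Z with g Z g⁻¹ inside Q. Then Z lies inside g Q g⁻¹; writing V for the subgroup generated by Z and g Z g⁻¹ (a four-group), the normalizer of V induces on V its full automorphism group, that is, the centralizer of V has index 6 in the normalizer of V; and Q is a large extraspecial 2-subgroup of G. -/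
theorem result {G : Type*} [Group G] [Finite G] (Q : Subgroup G) (hL1 : Cfsg.IsExtraspecial 2 ↥Q) (hL2 : Subgroup.centralizer (Q : Set G) = ((Subgroup.center ↥Q).map Q.subtype)) (hL3 : Subgroup.centralizer (((Subgroup.center ↥Q).map Q.subtype) : Set G) ≤ Subgroup.normalizer (Q : Set G)) (w : ℕ) (hw : 2 ≤ w) (hcard : Nat.card ↥Q = 2 ^ (2 * w + 1)) (g : G) (hg : g ∉ Subgroup.normalizer (((Subgroup.center ↥Q).map Q.subtype) : Set G)) (hZg : (((Subgroup.center ↥Q).map Q.subtype)).map (MulAut.conj g).toMonoidHom ≤ Q) : ((Subgroup.center ↥Q).map Q.subtype) ≤ (Q).map (MulAut.conj g).toMonoidHom ∧ (Subgroup.centralizer ((((Subgroup.center ↥Q).map Q.subtype) ⊔ (((Subgroup.center ↥Q).map Q.subtype)).map (MulAut.conj g).toMonoidHom : Subgroup G) : Set G)).relIndex (Subgroup.normalizer ((((Subgroup.center ↥Q).map Q.subtype) ⊔ (((Subgroup.center ↥Q).map Q.subtype)).map (MulAut.conj g).toMonoidHom : Subgroup G) : Set G)) = 6 ∧ Cfsg.IsLargeExtraspecial Q := by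
  obtain ⟨z, hzQ, hz2, hZ, hzc, hz⟩ := CfsgLib.LargeExtra.exists_centre_involution hL1
  have hL3' : Subgroup.centralizer ({z} : Set G) ≤ Subgroup.normalizer (Q : Set G) := by
    rwa [hZ, CfsgLib.LargeExtra.centralizer_zpowers] at hL3
  have hmap : (Subgroup.zpowers z).map (MulAut.conj g).toMonoidHom = Subgroup.zpowers (g * z * g⁻¹) := by
    rw [MonoidHom.map_zpowers]; rfl
  rw [hZ, hmap] at hZg ⊢
  have hxQ : g * z * g⁻¹ ∈ Q := hZg (Subgroup.mem_zpowers _)
  have hxz : g * z * g⁻¹ ≠ z := by
    intro h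
    apply hg
    rw [hZ, Subgroup.mem_normalizer_iff_map_conj_eq]
    show (Subgroup.zpowers z).map (MulAut.conj g).toMonoidHom = _
    rw [hmap, h]
  obtain ⟨⟨q, hqQ, hqx⟩, ⟨n, hn, hnz⟩, hzQ'⟩ :=
    CfsgLib.LargeExtra.four_group_automizer hL1 hz2 hZ hL2 hL3' hxQ hxz
  set x := g * z * g⁻¹ with hx
  have hzz : z * z = 1 := by rw [← sq, ← hz2, pow_orderOf_eq_one]
  have hxx : x * x = 1 := by
    rw [hx]
    calc g * z * g⁻¹ * (g * z * g⁻¹) = g * (z * z) * g⁻¹ := by group
      _ = 1 := by rw [hzz]; group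
  have hz1 : z ≠ 1 := fun h => by rw [h, orderOf_one] at hz2; omega
  have hx1 : x ≠ 1 := by rw [hx]; simpa [mul_inv_eq_one] using hz1
  refine ⟨Subgroup.zpowers_le.2 hzQ', ?_, ?_⟩
  · refine CfsgLib.LargeExtra.relIndex_centralizer_normalizer_four hz1 hx1 hxz hzz hxx
      (hzc x hxQ) ?_ hqx ?_ hnz
    · rw [hzc q hqQ, mul_inv_cancel_right]
    · rw [Subgroup.mem_centralizer_singleton_iff.1 hn, mul_inv_cancel_right]
  · have hxc : x ∉ (Subgroup.center ↥Q).map Q.subtype := by
      rw [hZ]
      intro h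
      rcases hz x h with h' | h'
      · exact hx1 h'
      · exact hxz h'
    have hle : Q.map (MulAut.conj g).toMonoidHom ≤ Subgroup.centralizer ({x} : Set G) := by
      rintro _ ⟨y, hy, rfl⟩
      rw [Subgroup.mem_centralizer_singleton_iff]
      show g * y * g⁻¹ * x = x * (g * y * g⁻¹)
      calc g * y * g⁻¹ * x = g * (y * z) * g⁻¹ := by rw [hx]; group
        _ = x * (g * y * g⁻¹) := by rw [hzc y hy, hx]; group
    refine Cfsg.Agent.S5421.result Q hL1 hL2 hL3 x hxQ hxc
      (by rw [hx, ← MulAut.conj_apply, MulEquiv.orderOf_eq, hz2]) ?_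
    rw [hZ, Subgroup.zpowers_le]
    let W := (Q.map (MulAut.conj g).toMonoidHom).subgroupOf (Subgroup.centralizer ({x} : Set G))
    have : W.Normal := by
      refine Subgroup.normal_subgroupOf_of_le_normalizer ?_
      intro c hc
      have hc' : g⁻¹ * c * g ∈ Subgroup.normalizer (Q : Set G) := by
        refine hL3' ?_
        rw [Subgroup.mem_centralizer_singleton_iff] at hc ⊢
        calc g⁻¹ * c * g * z = g⁻¹ * (c * x) * g := by rw [hx]; group
          _ = z * (g⁻¹ * c * g) := by rw [hc, hx]; group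
      rw [Subgroup.mem_normalizer_iff]
      intro w
      simp only [Subgroup.mem_map_equiv, MulAut.conj_symm_apply]
      have := Subgroup.mem_normalizer_iff.1 hc' (g⁻¹ * w * g)
      simpa [mul_assoc] using this
    have hW : IsPGroup 2 W := (hL1.1.1.map _).comap_subtype
    exact ⟨⟨z, hle hzQ'⟩, CfsgLib.Cores.le_pCore hW hzQ', rfl⟩

end Cfsg.Agent.S5422
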