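import Cfsg.Statements.S5425
import Cfsg.Agent.Lib.M24Cert.OctInv

set_option autoImplicit false
open Cfsg CfsgLib.M24Cert CfsgLib.M24Cert.OctInv

namespace Cfsg.Agent.S5425

/-- In the Mathieu group of degree 24 (the automorphism group of the length-24 binary Golay code, acting on the 24 coordinates), let z be an involution whose fixed points form an octad (the support of a code word of weight 8), and let Q be the largest normal 2-subgroup of the centralizer C of z. Then Q is extraspecial of order 2^7 with an elementary abelian subgroup of order 16 (plus type), Q is a large extraspecial 2-subgroup, and C is the split extension of Q by the special linear group of degree 3 over the field with two elements. -/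
theorem result (z : ↥Cfsg.M24) (hz : orderOf z = 2) (hfix : (Finset.univ.filter fun p : Cfsg.GolayPt => (z : Equiv.Perm Cfsg.GolayPt) p = p) ∈ Cfsg.octads) (Q : Subgroup ↥Cfsg.M24) (hQ : Q = (Cfsg.pCore 2 ↥(Subgroup.centralizer ({z} : Set ↥Cfsg.M24))).map (Subgroup.centralizer ({z} : Set ↥Cfsg.M24)).subtype) : Cfsg.IsExtraspecial 2 ↥Q ∧ Nat.card ↥Q = 2 ^ 7 ∧ (∃ E : Subgroup ↥Cfsg.M24, E ≤ Q ∧ Cfsg.IsElementaryAbelian 2 E ∧ Nat.card ↥E = 2 ^ 4) ∧ Cfsg.IsLargeExtraspecial Q ∧ ∃ K : Subgroup ↥Cfsg.M24, K ≤ Subgroup.centralizer ({z} : Set ↥Cfsg.M24) ∧ Q ⊓ K = ⊥ ∧ Q ⊔ K = Subgroup.centralizer ({z} : Set ↥Cfsg.M24) ∧ Nonempty (↥K ≃* Matrix.SpecialLinearGroup (Fin 3) (ZMod 2)) := by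
  obtain ⟨u, hu, ⟨-, c⟩ | ⟨e, -⟩⟩ := inv_cases z.2 (by rw [Subgroup.orderOf_coe, hz])
  · have h8 := hfix.2
    simp only [c] at h8
    omega
  have hzv : z = val hu zL := Subtype.ext (by rw [val_coe hu (q_mem zL_mem.1), z_eq, e])
  subst hzv
  rw [pCore_eq hu] at hQ
  subst hQ
  obtain ⟨hC, hbot, hCN⟩ := centralizer_eq hu
  obtain ⟨hcard, hsq, hle, -⟩ := eSub_facts hu
  refine ⟨extraspecial_qSub hu, card_qSub hu, ⟨eSub hu, hle, ⟨⟨⟨fun a b => ?_⟩⟩, fun a ha => ?_⟩, hcard⟩,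
    ⟨extraspecial_qSub hu, centralizer_qSub hu, fun c hc => hCN c ?_, fun K h1 h2 => odd_eq_bot hu h1 h2⟩,
    ⟨kSub hu, hC.ge.trans' le_sup_right, hbot, hC.symm, kSub_iso hu⟩⟩
  · have h : ∀ x ∈ eSub hu, x⁻¹ = x := fun x hx => inv_eq_of_mul_eq_one_right (hsq x hx)
    apply Subtype.ext
    show (a : ↥M24) * b = b * a
    rw [← h _ (mul_mem a.2 b.2), mul_inv_rev, h _ a.2, h _ b.2]
  · rw [pow_two, hsq a ha]
  · obtain ⟨-, -, hzc, hzq⟩ := z_facts hu
    refine Subgroup.mem_centralizer_singleton_iff.2 ?_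
    exact (Subgroup.mem_centralizer_iff.1 hc _ ⟨⟨_, hzq⟩, Subgroup.mem_center_iff.2
      fun y => Subtype.ext (hzc y.1 y.2).symm, rfl⟩).symm

end Cfsg.Agent.S5425
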