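import Cfsg.Statements.S5433
import Cfsg.Agent.Lib.LargeExtra.Basic

set_option autoImplicit false
open Cfsg

namespace Cfsg.Agent.S5433

/-- Let Q be a large extraspecial 2-subgroup of the finite group G (extraspecial; centralizer equal to its centre; normal in the centralizer of its centre; normalizing no non-trivial subgroup of odd order), and L a normal subgroup of G containing Q. Then G is the product of L and the normalizer of Q. -/
theorem result {G : Type*} [Group G] [Finite G] (Q : Subgroup G) (hQ : Cfsg.IsLargeExtraspecial Q) (L : Subgroup G) [L.Normal] (hQL : Q ≤ L) : L ⊔ Subgroup.normalizer (Q : Set G) = ⊤ := by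
  obtain ⟨hE, hL2, hL3, -⟩ := hQ
  obtain ⟨z, hzQ, hz2, hZ, -, hz⟩ := CfsgLib.LargeExtra.exists_centre_involution hE
  have : Fact (Nat.Prime 2) := ⟨Nat.prime_two⟩
  obtain ⟨T, hT⟩ := (hE.1.1.of_equiv (Subgroup.subgroupOfEquivOfLe hQL).symm).exists_le_sylow
  rw [eq_top_iff, ← Sylow.normalizer_sup_eq_top T]
  refine sup_le ?_ le_sup_left
  intro g hg
  refine Subgroup.mem_sup_right (hL3 ?_)
  rw [hZ, CfsgLib.LargeExtra.centralizer_zpowers, Subgroup.mem_centralizer_singleton_iff]
  have hTQ : Q ≤ (T : Subgroup L).map L.subtype := fun q hq => ⟨⟨q, hQL hq⟩, hT hq, rfl⟩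
  obtain ⟨c, hc, hc1⟩ : ∃ c ∈ Subgroup.center (T : Subgroup L), c ≠ 1 := by
    have hnt : Nontrivial (T : Subgroup L) := by
      refine ⟨⟨⟨z, hQL hzQ⟩, hT hzQ⟩, 1, fun h => ?_⟩
      have : z = 1 := congrArg (fun y : (T : Subgroup L) => ((y : L) : G)) h
      rw [this, orderOf_one] at hz2; omega
    by_contra h
    push Not at h
    exact T.2.bot_lt_center.ne' ((Subgroup.eq_bot_iff_forall _).2 h)
  have hzuniq : ∀ y : G, y ∈ (T : Subgroup L).map L.subtype → y ≠ 1 →
      (∀ q ∈ Q, q * y = y * q) → y = z := by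
    intro y _ hy1 hy
    have hyc : y ∈ Subgroup.centralizer (Q : Set G) := Subgroup.mem_centralizer_iff.2 hy
    rw [hL2, hZ] at hyc
    exact (hz y hyc).resolve_left hy1
  have hcz : ((c : L) : G) = z := by
    refine hzuniq _ ⟨_, c.2, rfl⟩ ?_ ?_
    · intro h; exact hc1 (Subtype.ext (Subtype.ext h))
    · intro q hq
      exact congrArg (fun y : (T : Subgroup L) => ((y : L) : G))
        (Subgroup.mem_center_iff.1 hc ⟨⟨q, hQL hq⟩, hT hq⟩)
  have hzT : ∀ y ∈ (T : Subgroup L).map L.subtype, y * z = z * y := by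
    rintro _ ⟨y, hy, rfl⟩
    rw [← hcz]
    exact congrArg (fun y : (T : Subgroup L) => ((y : L) : G)) (Subgroup.mem_center_iff.1 hc ⟨y, hy⟩)
  have hn := Subgroup.mem_normalizer_iff.1 hg
  have hgz : g * z * g⁻¹ = z := by
    refine hzuniq _ ((hn z).1 (hcz ▸ ⟨_, c.2, rfl⟩)) ?_ ?_
    · intro h
      have : z = 1 := by simpa [mul_inv_eq_one] using h
      rw [this, orderOf_one] at hz2; omega
    · intro q hq
      have hq' := hzT (g⁻¹ * q * g) ((hn (g⁻¹ * q * g)).2 (by simpa [mul_assoc] using hTQ hq))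
      have := congrArg (fun y => g * y * g⁻¹) hq'
      simpa [mul_assoc] using this
  rwa [mul_inv_eq_iff_eq_mul] at hgz

end Cfsg.Agent.S5433
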