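import Cfsg.Statements.S5434
import Cfsg.Agent.Lib.LargeExtra.Basic
import Cfsg.Agent.Lib.LargeExtra.SubExtra
import Cfsg.Agent.Lib.Solvable.CoprimeAction

set_option autoImplicit false
open Cfsg

namespace Cfsg.Agent.S5434

/-- Let Q be a large extraspecial 2-subgroup of the finite group G (extraspecial; centralizer equal to its centre; normal in the centralizer of its centre; normalizing no non-trivial subgroup of odd order), and A a non-trivial subgroup of odd order of the normalizer of Q. Then Q is the central product of the centralizer of A in Q and the commutator subgroup [Q, A] (they generate Q and commute elementwise), [Q, A] is extraspecial, and the centralizer of A in Q is either the centre of Q or extraspecial. -/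
theorem result {G : Type*} [Group G] [Finite G] (Q : Subgroup G) (hQ : Cfsg.IsLargeExtraspecial Q) (A : Subgroup G) (hA : A ≤ Subgroup.normalizer (Q : Set G)) (hAodd : Odd (Nat.card ↥A)) (hA1 : A ≠ ⊥) : (Q ⊓ Subgroup.centralizer (A : Set G)) ⊔ ⁅Q, A⁆ = Q ∧ (∀ x ∈ Q ⊓ Subgroup.centralizer (A : Set G), ∀ y ∈ ⁅Q, A⁆, x * y = y * x) ∧ Cfsg.IsExtraspecial 2 ↥⁅Q, A⁆ ∧ (Q ⊓ Subgroup.centralizer (A : Set G) = ((Subgroup.center ↥Q).map Q.subtype) ∨ Cfsg.IsExtraspecial 2 ↥(Q ⊓ Subgroup.centralizer (A : Set G))) := by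
  obtain ⟨hE, hC, -, -⟩ := hQ
  obtain ⟨z, hzQ, hz2, hzZ, hzc, hz⟩ := CfsgLib.LargeExtra.exists_centre_involution hE
  set W := ⁅Q, A⁆ with hW
  set C := Q ⊓ Subgroup.centralizer (A : Set G) with hCdef
  have hWQ : W ≤ Q := CfsgLib.Solvable.commutator_le_of_le_normalizer hA
  have hcop : (Nat.card A).Coprime (Nat.card Q) := by
    haveI : Fact (Nat.Prime 2) := ⟨Nat.prime_two⟩
    obtain ⟨k, hk⟩ := CfsgLib.PGroup.card_eq_pow hE.1.1
    rw [hk]
    exact (Nat.coprime_two_right.mpr hAodd).pow_right k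
  haveI : Fact (Nat.Prime 2) := ⟨Nat.prime_two⟩
  have hsol : Group.IsSolvable A ∨ Group.IsSolvable Q := Or.inr (by
    haveI := hE.1.1.isNilpotent
    infer_instance)
  -- the centre is centralised by `A`
  have hzA : ∀ a ∈ A, a * z = z * a := by
    intro a ha
    have hn := hA ha
    have hzq : a * z * a⁻¹ ∈ Q := (Subgroup.mem_normalizer_iff.1 hn z).1 hzQ
    have hcen : a * z * a⁻¹ ∈ (Subgroup.center Q).map Q.subtype := by
      refine ⟨⟨_, hzq⟩, Subgroup.mem_center_iff.2 fun y => Subtype.ext ?_, rfl⟩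
      have hy : a⁻¹ * y * a ∈ Q := by
        have := (Subgroup.mem_normalizer_iff.1 (inv_mem hn) y).1 y.2
        simpa using this
      show (y : G) * (a * z * a⁻¹) = a * z * a⁻¹ * y
      calc (y : G) * (a * z * a⁻¹) = a * ((a⁻¹ * y * a) * z) * a⁻¹ := by group
        _ = a * (z * (a⁻¹ * y * a)) * a⁻¹ := by rw [hzc _ hy]
        _ = a * z * a⁻¹ * y := by group
    rw [hzZ] at hcen
    rcases hz _ hcen with h | h
    · rw [conj_eq_one_iff] at h
      rw [h, orderOf_one] at hz2; omega
    · rw [mul_inv_eq_iff_eq_mul] at h; exact h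
  have hzC : z ∈ C := ⟨hzQ, Subgroup.mem_centralizer_iff.2 fun a ha => hzA a ha⟩
  -- `C` centralises `W`
  have hWC : ∀ x ∈ C, ∀ y ∈ W, x * y = y * x := by
    intro c hc
    have hle : W ≤ Subgroup.centralizer ({c} : Set G) := by
      rw [hW, Subgroup.commutator_le]
      intro q hq a ha
      rw [Subgroup.mem_centralizer_singleton_iff, commutatorElement_def]
      have hca : a * c = c * a := Subgroup.mem_centralizer_iff.1 hc.2 a ha
      obtain ⟨e, he, heq⟩ : ∃ e, e ∈ Subgroup.zpowers z ∧ c * q * c⁻¹ * q⁻¹ = e := by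
        refine ⟨_, ?_, rfl⟩
        rw [← hzZ]
        exact ⟨_, CfsgLib.LargeExtra.comm_mem_center hE ⟨c, hc.1⟩ ⟨q, hq⟩, rfl⟩
      have hea : e * a = a * e := by
        rcases hz e he with rfl | rfl
        · simp
        · exact (hzA a ha).symm
      have heq' : e * q = q * e := by
        rcases hz e he with rfl | rfl
        · simp
        · exact (hzc q hq).symm
      have h1 : c * q = e * q * c := by rw [← heq]; group
      have h2 : c * q⁻¹ = q⁻¹ * e⁻¹ * c := by
        calc c * q⁻¹ = q⁻¹ * e⁻¹ * (e * q * c) * q⁻¹ := by group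
          _ = q⁻¹ * e⁻¹ * (c * q) * q⁻¹ := by rw [h1]
          _ = q⁻¹ * e⁻¹ * c := by group
      have h3 : a⁻¹ * c = c * a⁻¹ := (Commute.inv_left hca).eq
      symm
      calc c * (q * a * q⁻¹ * a⁻¹) = (c * q) * a * q⁻¹ * a⁻¹ := by group
        _ = e * q * (c * a) * q⁻¹ * a⁻¹ := by rw [h1]; group
        _ = e * q * a * (c * q⁻¹) * a⁻¹ := by rw [← hca]; group
        _ = e * q * a * q⁻¹ * e⁻¹ * (a⁻¹ * c) := by rw [h2, h3]; group
        _ = (q * a * q⁻¹ * a⁻¹) * c := by
          have h4 : Commute e (q * a * q⁻¹) :=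
            ((show Commute e q from heq').mul_right hea).mul_right (show Commute e q from heq').inv_right
          calc e * q * a * q⁻¹ * e⁻¹ * (a⁻¹ * c) = (e * (q * a * q⁻¹)) * e⁻¹ * (a⁻¹ * c) := by group
            _ = _ := by rw [h4.eq]; group
    exact fun y hy => (Subgroup.mem_centralizer_singleton_iff.1 (hle hy)).symm
  have hsup : W ⊔ C = Q := CfsgLib.Solvable.commutator_sup_centralizer hA hcop hsol
  have hcentral : ∀ S : Subgroup G, ∀ T : Subgroup G, S ≤ Q → S ⊔ T = Q →
      (∀ s ∈ S, ∀ t ∈ T, s * t = t * s) → ∀ x ∈ S, (∀ y ∈ S, y * x = x * y) →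
      x ∈ Subgroup.zpowers z := by
    intro S T hSQ hST hcomm x hx hxS
    rw [← hzZ]
    refine ⟨⟨x, hSQ hx⟩, Subgroup.mem_center_iff.2 fun y => Subtype.ext ?_, rfl⟩
    have : Q ≤ Subgroup.centralizer ({x} : Set G) := by
      rw [← hST]
      exact sup_le (fun s hs => Subgroup.mem_centralizer_singleton_iff.2 (hxS s hs))
        (fun t ht => Subgroup.mem_centralizer_singleton_iff.2 (hcomm x hx t ht).symm)
    exact Subgroup.mem_centralizer_singleton_iff.1 (this y.2)
  have hex : ∀ S : Subgroup G, ∀ T : Subgroup G, S ≤ Q → S ⊔ T = Q →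
      (∀ s ∈ S, ∀ t ∈ T, s * t = t * s) → (∃ a ∈ S, ∃ b ∈ S, a * b ≠ b * a) →
      Cfsg.IsExtraspecial 2 S := by
    intro S T hSQ hST hcomm ⟨a, ha, b, hb, hab⟩
    have h := CfsgLib.LargeExtra.isExtraspecial_subgroup hE (S.subgroupOf Q)
      ⟨⟨a, hSQ ha⟩, ha, ⟨b, hSQ hb⟩, hb, fun h => hab (congrArg Subtype.val h)⟩ (by
        intro x hx hxS
        have := hcentral S T hSQ hST hcomm x hx fun y hy =>
          congrArg Subtype.val (hxS ⟨y, hSQ hy⟩ hy)
        rw [← hzZ] at this
        obtain ⟨w, hw, hwx⟩ := this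
        exact (Subtype.ext hwx : w = x) ▸ hw)
    exact CfsgLib.LargeExtra.isExtraspecial_of_mulEquiv (Subgroup.subgroupOfEquivOfLe hSQ) h
  refine ⟨by rw [sup_comm]; exact hsup, hWC, hex W C hWQ hsup (fun s hs t ht => (hWC t ht s hs).symm) ?_, ?_⟩
  · -- `W` is not abelian
    by_contra hab
    push Not at hab
    have hWz : W ≤ Subgroup.zpowers z := fun x hx =>
      hcentral W C hWQ hsup (fun s hs t ht => (hWC t ht s hs).symm) x hx fun y hy => hab y hy x hx
    have h1 : ⁅W, A⁆ = (⊥ : Subgroup G) := by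
      rw [Subgroup.commutator_eq_bot_iff_le_centralizer]
      intro x hx
      rw [Subgroup.mem_centralizer_iff]
      intro a ha
      rcases hz x (hWz hx) with rfl | rfl
      · simp
      · exact hzA a ha
    rw [hW, CfsgLib.Solvable.commutator_commutator_self hA hcop hsol,
      Subgroup.commutator_eq_bot_iff_le_centralizer] at h1
    have hAC : A ≤ Subgroup.centralizer (Q : Set G) := Subgroup.le_centralizer_iff.1 h1
    rw [hC, hzZ] at hAC
    apply hA1
    rw [Subgroup.eq_bot_iff_forall]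
    exact fun a ha => CfsgLib.LargeExtra.eq_one_of_two_group_of_odd hE.1.1 hAodd
      ((Subgroup.zpowers_le.2 hzQ) (hAC ha)) ha
  · by_cases hab : ∃ a ∈ C, ∃ b ∈ C, a * b ≠ b * a
    · exact Or.inr (hex C W inf_le_left (by rw [sup_comm]; exact hsup) hWC hab)
    · left
      push Not at hab
      rw [hzZ]
      refine le_antisymm (fun x hx => ?_) (Subgroup.zpowers_le.2 hzC)
      exact hcentral C W inf_le_left (by rw [sup_comm]; exact hsup) hWC x hx fun y hy => hab y hy x hx

end Cfsg.Agent.S5434
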