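import Cfsg.Statements.S5437
import Cfsg.Agent.Lib.SporMisc.Cosets

set_option autoImplicit false
open Cfsg

namespace Cfsg.Agent.S5437

/-- Let I be a set of involutions of the finite group G closed under conjugation, and H a subgroup of G. The following are equivalent: (1) for every member x of I lying in H, the conjugates of x lying in H form a single H-class and the centralizer of x lies in H; (2) for every g outside H, no member of I lies in both H and g H g⁻¹; (3) every member of I lying in H fixes exactly one coset in the action of G on the cosets of H. -/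
theorem result {G : Type*} [Group G] [Finite G] (I : Set G) (hI : ∀ x ∈ I, orderOf x = 2) (hIc : ∀ g : G, ∀ x ∈ I, g * x * g⁻¹ ∈ I) (H : Subgroup G) : ((∀ x ∈ I, x ∈ H → (∀ g : G, g * x * g⁻¹ ∈ H → ∃ h ∈ H, h * x * h⁻¹ = g * x * g⁻¹) ∧ Subgroup.centralizer ({x} : Set G) ≤ H) ↔ (∀ g : G, g ∉ H → ∀ x ∈ I, ¬ (x ∈ H ∧ x ∈ (H : Subgroup G).map (MulAut.conj g).toMonoidHom))) ∧ ((∀ g : G, g ∉ H → ∀ x ∈ I, ¬ (x ∈ H ∧ x ∈ (H : Subgroup G).map (MulAut.conj g).toMonoidHom)) ↔ ∀ x ∈ I, x ∈ H → ∃! c : G ⧸ H, x • c = c) := by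
  have key : ∀ g : G, ∀ x : G, x ∈ (H : Subgroup G).map (MulAut.conj g).toMonoidHom ↔ g⁻¹ * x * g ∈ H := by
    intro g x
    rw [Subgroup.mem_map]
    constructor
    · rintro ⟨y, hy, rfl⟩
      simpa [MulAut.conj_apply, mul_assoc] using hy
    · intro hy
      exact ⟨_, hy, by simp [MulAut.conj_apply, mul_assoc]⟩
  refine ⟨⟨?_, ?_⟩, ⟨?_, ?_⟩⟩
  · rintro h1 g hg x hxI ⟨hxH, hxg⟩
    rw [key] at hxg
    obtain ⟨h, hh, he⟩ := (h1 x hxI hxH).1 g⁻¹ (by simpa using hxg)
    have hc : g * h ∈ Subgroup.centralizer ({x} : Set G) := by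
      rw [Subgroup.mem_centralizer_singleton_iff]
      calc g * h * x = g * (h * x * h⁻¹) * h := by group
        _ = g * (g⁻¹ * x * g⁻¹⁻¹) * h := by rw [he]
        _ = x * (g * h) := by group
    have := (h1 x hxI hxH).2 hc
    exact hg ((Subgroup.mul_mem_cancel_right H hh).mp this)
  · intro h2 x hxI hxH
    constructor
    · intro g hg
      by_cases hgH : g ∈ H
      · exact ⟨g, hgH, rfl⟩
      · exact absurd ⟨hxH, (key g⁻¹ x).mpr (by simpa using hg)⟩
          (h2 g⁻¹ (fun h => hgH (by simpa using H.inv_mem h)) x hxI)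
    · intro c hc
      rw [Subgroup.mem_centralizer_singleton_iff] at hc
      by_contra hcH
      refine h2 c hcH x hxI ⟨hxH, (key c x).mpr ?_⟩
      rw [mul_assoc, ← hc, inv_mul_cancel_left]
      exact hxH
  · intro h2 x hxI hxH
    rw [CfsgLib.SporMisc.existsUnique_fixed_coset_iff H hxH]
    intro g hg
    by_contra hgH
    exact h2 g hgH x hxI ⟨hxH, (key g x).mpr hg⟩
  · rintro h3 g hg x hxI ⟨hxH, hxg⟩
    exact hg ((CfsgLib.SporMisc.existsUnique_fixed_coset_iff H hxH).mp (h3 x hxI hxH) g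
      ((key g x).mp hxg))

end Cfsg.Agent.S5437
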