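import Cfsg.Statements.S5438
import Cfsg.Agent.Lib.SporMisc.Cosets

set_option autoImplicit false
open Cfsg

namespace Cfsg.Agent.S5438

/-- Let z be a 2-central involution of the finite group G (an involution central in some Sylow 2-subgroup) and H a subgroup containing z such that the coset H is the only coset of H fixed by z (in the action of G on the cosets of H). Then H has odd index in G, and for every 2-element x of H the conjugates of x lying in H form a single H-class. -/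
theorem result {G : Type*} [Group G] [Finite G] (z : G) (hz : Cfsg.IsTwoCentralInvolution z) (H : Subgroup G) (hzH : z ∈ H) (hfix : ∀ g : G, g⁻¹ * z * g ∈ H → g ∈ H) : Odd H.index ∧ ∀ x ∈ H, (∃ k : ℕ, orderOf x = 2 ^ k) → ∀ g : G, g * x * g⁻¹ ∈ H → ∃ h ∈ H, h * x * h⁻¹ = g * x * g⁻¹ := by
  haveI : Fact (Nat.Prime 2) := ⟨Nat.prime_two⟩
  obtain ⟨hz2, P, hzP, hPz⟩ := hz
  have hPH : (P : Subgroup G) ≤ H := by
    intro x hx
    apply hfix x
    rw [mul_assoc, ← hPz x hx, inv_mul_cancel_left]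
    exact hzH
  have hPodd : Odd (P : Subgroup G).index :=
    Nat.not_even_iff_odd.mp (fun h => P.not_dvd_index (even_iff_two_dvd.mp h))
  have hHodd : Odd H.index := hPodd.of_dvd_nat (Subgroup.index_dvd_of_le hPH)
  refine ⟨hHodd, ?_⟩
  -- for a 2-element of `H` some `H`-conjugate of `z` commutes with it
  have hz' : ∀ y ∈ H, (∃ k : ℕ, orderOf y = 2 ^ k) → ∃ w : G, w * y = y * w ∧ orderOf w = 2 ∧
      w ∈ H ∧ ∀ c : G ⧸ H, w • c = c → c = ((1 : G) : G ⧸ H) := by
    intro y hy hk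
    have hodd : Odd ((P : Subgroup G).subgroupOf H).index :=
      hPodd.of_dvd_nat (Subgroup.relIndex_dvd_index_of_le hPH)
    obtain ⟨c, hc⟩ := CfsgLib.SporMisc.exists_conj_mem_of_odd_index _ hodd (⟨y, hy⟩ : H)
      (by obtain ⟨k, hk⟩ := hk; exact ⟨k, by rw [Subgroup.orderOf_mk]; exact hk⟩)
    rw [Subgroup.mem_subgroupOf] at hc
    simp only [Subgroup.coe_mul, Subgroup.coe_inv] at hc
    have hcomm := hPz _ hc
    refine ⟨(c : G) * z * (c : G)⁻¹, ?_, ?_, H.mul_mem (H.mul_mem c.2 hzH) (H.inv_mem c.2), ?_⟩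
    · calc (c : G) * z * (c : G)⁻¹ * y = (c : G) * (z * ((c : G)⁻¹ * y * c)) * (c : G)⁻¹ := by group
        _ = (c : G) * (((c : G)⁻¹ * y * c) * z) * (c : G)⁻¹ := by rw [hcomm]
        _ = y * ((c : G) * z * (c : G)⁻¹) := by group
    · rw [← MulAut.conj_apply, MulEquiv.orderOf_eq, hz2]
    · intro d hd
      induction d using QuotientGroup.induction_on with
      | H g =>
        rw [CfsgLib.SporMisc.smul_coset_eq_iff] at hd
        have : (c : G)⁻¹ * g ∈ H := hfix _ (by simpa [mul_assoc] using hd)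
        have hg : g ∈ H := (Subgroup.mul_mem_cancel_left H (H.inv_mem c.2)).mp this
        rw [QuotientGroup.eq]
        simpa using hg
  intro x hx hk g hgx
  have hky : ∃ k : ℕ, orderOf (g * x * g⁻¹) = 2 ^ k := by
    obtain ⟨k, hk⟩ := hk
    exact ⟨k, by rw [← MulAut.conj_apply, MulEquiv.orderOf_eq, hk]⟩
  obtain ⟨wx, hwx, hwx2, hwxH, hwxfix⟩ := hz' x hx hk
  obtain ⟨wy, hwy, hwy2, hwyH, hwyfix⟩ := hz' _ hgx hky
  -- both `g wx g⁻¹` and `wy` centralise `y`
  set y := g * x * g⁻¹ with hy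
  let C := Subgroup.centralizer ({y} : Set G)
  have hu : g * wx * g⁻¹ ∈ C := by
    rw [Subgroup.mem_centralizer_singleton_iff, hy]
    calc g * wx * g⁻¹ * (g * x * g⁻¹) = g * (wx * x) * g⁻¹ := by group
      _ = g * (x * wx) * g⁻¹ := by rw [hwx]
      _ = (g * x * g⁻¹) * (g * wx * g⁻¹) := by group
  have hwC : wy ∈ C := Subgroup.mem_centralizer_singleton_iff.mpr hwy
  have hu2 : orderOf (⟨_, hu⟩ : C) = 2 ^ 1 := by
    rw [Subgroup.orderOf_mk, ← MulAut.conj_apply, MulEquiv.orderOf_eq, hwx2, pow_one]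
  obtain ⟨S, hS⟩ := (IsPGroup.of_card ((Nat.card_zpowers (⟨_, hu⟩ : C)).trans hu2)).exists_le_sylow
  obtain ⟨c, hc⟩ := CfsgLib.SporMisc.exists_conj_mem_of_odd_index (S : Subgroup C)
    (Nat.not_even_iff_odd.mp (fun h => S.not_dvd_index (even_iff_two_dvd.mp h)))
    (⟨wy, hwC⟩ : C) ⟨1, by rw [Subgroup.orderOf_mk, hwy2, pow_one]⟩
  have hfixS := CfsgLib.SporMisc.fixes_of_unique_fixed H hHodd ((S : Subgroup C).map C.subtype)
    (S.2.map _) (z := g * wx * g⁻¹) ⟨_, hS (Subgroup.mem_zpowers _), rfl⟩ ((g : G) : G ⧸ H) (by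
      intro d hd
      induction d using QuotientGroup.induction_on with
      | H d =>
        rw [CfsgLib.SporMisc.smul_coset_eq_iff] at hd
        have := hwxfix ((g⁻¹ * d : G) : G ⧸ H)
          ((CfsgLib.SporMisc.smul_coset_eq_iff H wx _).mpr (by simpa [mul_assoc] using hd))
        rw [QuotientGroup.eq] at this ⊢
        simpa [mul_assoc] using this)
  have h1 := hfixS _ ⟨_, hc, rfl⟩
  rw [CfsgLib.SporMisc.smul_coset_eq_iff] at h1
  have h2 := hwyfix (((c : G) * g : G) : G ⧸ H)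
    ((CfsgLib.SporMisc.smul_coset_eq_iff H wy _).mpr (by simpa [mul_assoc] using h1))
  rw [QuotientGroup.eq] at h2
  have h3 : (c : G) * g ∈ H := by simpa [mul_assoc] using H.inv_mem h2
  refine ⟨(c : G) * g, h3, ?_⟩
  have hcy := Subgroup.mem_centralizer_singleton_iff.mp c.2
  calc (c : G) * g * x * ((c : G) * g)⁻¹ = ((c : G) * y) * (c : G)⁻¹ := by rw [hy]; group
    _ = y := by rw [hcy]; group

end Cfsg.Agent.S5438
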