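import Cfsg.Statements.S5439
import Cfsg.Agent.Lib.SporMisc.Cosets

set_option autoImplicit false
open Cfsg

namespace Cfsg.Agent.S5439

/-- Let I and J be two different conjugacy classes of involutions of the finite group G and H a subgroup such that every member of I ∪ J fixes exactly one coset in the action on the cosets of H, and such that for every a in I ∩ H and every b in (I ∪ J) ∩ H different from a and commuting with it, the centralizer of a b lies in H. Then H = G. -/
theorem result {G : Type*} [Group G] [Finite G] (I J : Set G) (a₀ b₀ : G) (ha₀ : orderOf a₀ = 2) (hb₀ : orderOf b₀ = 2) (hI : I = {x | IsConj a₀ x}) (hJ : J = {x | IsConj b₀ x}) (hIJ : I ≠ J) (H : Subgroup G) (hfix : ∀ x ∈ I ∪ J, ∃! c : G ⧸ H, x • c = c) (hcent : ∀ a ∈ I, a ∈ H → ∀ b ∈ I ∪ J, b ∈ H → a ≠ b → a * b = b * a → Subgroup.centralizer ({a * b} : Set G) ≤ H) : H = ⊤ := by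
  subst hI hJ
  have hord : ∀ a x : G, orderOf a = 2 → IsConj a x → x * x = 1 := by
    intro a x ha hx
    obtain ⟨g, rfl⟩ := isConj_iff.mp hx
    have h2 : a * a = 1 := by rw [← pow_two, ← ha]; exact pow_orderOf_eq_one a
    calc g * a * g⁻¹ * (g * a * g⁻¹) = g * (a * a) * g⁻¹ := by group
      _ = 1 := by rw [h2]; group
  obtain ⟨c₀, hc₀, -⟩ := hfix a₀ (Or.inl (IsConj.refl a₀))
  obtain ⟨g₀, rfl⟩ := QuotientGroup.mk_surjective c₀
  rw [CfsgLib.SporMisc.smul_coset_eq_iff] at hc₀
  have haI : IsConj a₀ (g₀⁻¹ * a₀ * g₀) := isConj_iff.mpr ⟨g₀⁻¹, by group⟩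
  set a := g₀⁻¹ * a₀ * g₀ with ha
  have haa : a * a = 1 := hord a₀ a ha₀ haI
  have hJH : ∀ b : G, IsConj b₀ b → b ∈ H := by
    intro b hbJ
    have hbb : b * b = 1 := hord b₀ b hb₀ hbJ
    set r := a * b with hr
    have hainv : a⁻¹ = a := inv_eq_of_mul_eq_one_right haa
    have hbinv : b⁻¹ = b := inv_eq_of_mul_eq_one_right hbb
    have hra : a * r * a = r⁻¹ := by
      rw [hr, mul_inv_rev, hainv, hbinv, ← mul_assoc a a b, haa, one_mul]
    have hstep : ∀ k : ℕ, r⁻¹ * (a * r ^ k) * r = a * r ^ (k + 2) := by
      intro k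
      rw [← hra, pow_add, pow_two]
      calc a * r * a * (a * r ^ k) * r = a * (r * (a * a) * r ^ k) * r := by group
        _ = a * (r ^ k * r) * r := by rw [haa, mul_one, ← pow_succ', pow_succ]
        _ = a * (r ^ k * (r * r)) := by group
    have heven : ∀ j : ℕ, IsConj a (a * r ^ (2 * j)) := by
      intro j
      induction j with
      | zero => simpa using IsConj.refl a
      | succ j ih =>
        refine ih.trans (isConj_iff.mpr ⟨r⁻¹, ?_⟩)
        rw [inv_inv, hstep]
        rfl
    have har : a * r = b := by rw [hr, ← mul_assoc, haa, one_mul]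
    have hodd : ∀ j : ℕ, IsConj b (a * r ^ (2 * j + 1)) := by
      intro j
      induction j with
      | zero => simpa [har] using IsConj.refl b
      | succ j ih =>
        refine ih.trans (isConj_iff.mpr ⟨r⁻¹, ?_⟩)
        rw [inv_inv, hstep]
        rfl
    obtain ⟨m, hm⟩ : ∃ m, orderOf r = 2 * m := by
      rcases Nat.even_or_odd' (orderOf r) with ⟨m, hm | hm⟩
      · exact ⟨m, hm⟩
      · exfalso
        apply hIJ
        have hab : IsConj a b := by
          have h := heven (m + 1)
          rw [show 2 * (m + 1) = orderOf r + 1 by omega, pow_succ, pow_orderOf_eq_one, one_mul,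
            har] at h
          exact h
        have h0 : IsConj a₀ b₀ := (haI.trans hab).trans hbJ.symm
        ext x
        exact ⟨fun h => h0.symm.trans h, fun h => h0.trans h⟩
    have hm0 : 0 < m := by have := orderOf_pos r; omega
    set c := r ^ m with hc
    have hc1 : c ≠ 1 := fun h => by
      have := Nat.le_of_dvd hm0 (orderOf_dvd_of_pow_eq_one h)
      omega
    have hcc : c * c = 1 := by rw [hc, ← pow_add, ← two_mul, ← hm, pow_orderOf_eq_one]
    have hac : a * c = c * a := by
      have : a * c * a = c⁻¹ := by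
        have h : (a * r * a⁻¹) ^ m = a * r ^ m * a⁻¹ := conj_pow
        rw [hainv, hra, inv_pow] at h
        exact h.symm
      rw [inv_eq_of_mul_eq_one_right hcc] at this
      calc a * c = a * c * (a * a) := by rw [haa, mul_one]
        _ = a * c * a * a := by group
        _ = c * a := by rw [this]
    have hbc : b * c = c * b := by
      rw [← har]
      calc a * r * c = a * (r * c) := by group
        _ = a * (c * r) := by rw [hc, ← pow_succ', pow_succ]
        _ = a * c * r := by group
        _ = c * (a * r) := by rw [hac, mul_assoc]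
    have hmem : a * c ∈ {x | IsConj a₀ x} ∪ {x | IsConj b₀ x} := by
      rcases Nat.even_or_odd' m with ⟨j, hj | hj⟩
      · left; rw [hc, hj]; exact haI.trans (heven j)
      · right; rw [hc, hj]; exact hbJ.trans (hodd j)
    have hcom : a * (a * c) = a * c * a := by
      rw [mul_assoc a c a, ← hac]
    have hacH : a * c ∈ H := by
      have hu := hfix a (Or.inl haI)
      rw [CfsgLib.SporMisc.existsUnique_fixed_coset_iff H hc₀] at hu
      obtain ⟨d, hd, hduniq⟩ := hfix _ hmem
      obtain ⟨g, rfl⟩ := QuotientGroup.mk_surjective d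
      have hag : a • (g : G ⧸ H) = g := by
        refine hduniq _ ?_
        simp only
        rw [smul_smul, ← hcom, ← smul_smul, hd]
      have hgH := hu g ((CfsgLib.SporMisc.smul_coset_eq_iff H a g).mp hag)
      have := (CfsgLib.SporMisc.smul_coset_eq_iff H _ g).mp hd
      have h := H.mul_mem (H.mul_mem hgH this) (H.inv_mem hgH)
      simpa [mul_assoc] using h
    have hne : a ≠ a * c := fun h => hc1 (by simpa using h.symm)
    have hle := hcent a haI hc₀ (a * c) hmem hacH hne hcom
    apply hle
    rw [Subgroup.mem_centralizer_singleton_iff, ← mul_assoc a a c, haa, one_mul]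
    exact hbc
  rw [Subgroup.eq_top_iff']
  intro g
  refine (CfsgLib.SporMisc.existsUnique_fixed_coset_iff H (hJH b₀ (IsConj.refl b₀))).mp
    (hfix b₀ (Or.inr (IsConj.refl b₀))) g (hJH _ (isConj_iff.mpr ⟨g⁻¹, by group⟩))

end Cfsg.Agent.S5439
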