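import Cfsg.Statements.S5440
import Cfsg.Agent.Lib.LargeFischer.Main

set_option autoImplicit false
open Cfsg

namespace Cfsg.Agent.S5440

/-- Let G be a finite group of large Fischer type at the involution z: the generalized Fitting subgroup Q of H = C_G(z) is extraspecial of order 2^13, H has normal subgroups Q ≤ H₁ ≤ H₂ with H₁/Q of order 3, H₂/H₁ the projective special unitary group of dimension 4 over the field with nine elements and H₂ of index 2 in H, and some conjugate of z other than z lies in Q. Then H has exactly two orbits, under conjugation, on the involutions of Q other than z. -/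
theorem result {G : Type*} [Group G] [Finite G] (z : G) (Q : Subgroup (Subgroup.centralizer ({z} : Set G))) [Q.Normal] (hF : Cfsg.IsOfLargeFischerTypeAt z Q) : ∃ s t : Subgroup.centralizer ({z} : Set G), s ∈ Q ∧ t ∈ Q ∧ orderOf s = 2 ∧ orderOf t = 2 ∧ (s : G) ≠ z ∧ (t : G) ≠ z ∧ (¬ ∃ h : Subgroup.centralizer ({z} : Set G), h * s * h⁻¹ = t) ∧ ∀ x : Subgroup.centralizer ({z} : Set G), x ∈ Q → orderOf x = 2 → (x : G) ≠ z → (∃ h : Subgroup.centralizer ({z} : Set G), h * s * h⁻¹ = x) ∨ ∃ h : Subgroup.centralizer ({z} : Set G), h * t * h⁻¹ = x := by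
  obtain ⟨ι, fι, q, inst, π, n, M, φ, m⟩ := CfsgLib.LargeFischer.exists_model z Q hF
  obtain ⟨a, ha, hane⟩ := m.exists_central hF
  have hca := m.central_of_isConj hF ha hane
  obtain ⟨v, hv, hv0, hvs⟩ := m.core.exists_rest hca
  obtain ⟨b, rfl⟩ := m.surj v
  obtain ⟨-, -, hall⟩ := m.core.rest_facts hca hv hv0 hvs
  have hsing : ∀ x : ↥Q, x * x = 1 → q (π x) = 0 := fun x h => (m.sq x).2 h
  have hb1 : b * b = 1 := (m.sq b).1 hv
  have hbne : b ≠ 1 := fun e => hv0 ((m.ker b).2 (.inl (by rw [e]; rfl)))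
  have hord : ∀ x : ↥Q, x * x = 1 → x ≠ 1 → orderOf (x : Subgroup.centralizer ({z} : Set G)) = 2 := fun x h1 h2 => by
    rw [Subgroup.orderOf_coe]
    exact orderOf_eq_prime (by rw [pow_two]; exact h1) h2
  obtain ⟨g, hg⟩ := isConj_iff.1 ha
  have ha1 : a * a = 1 := by
    refine Subtype.ext (Subtype.ext ?_)
    show ((a : Subgroup.centralizer ({z} : Set G)) : G) * ((a : Subgroup.centralizer ({z} : Set G)) : G) = 1
    have hzz : z * z = 1 := by rw [← pow_two, ← hF.1.1, pow_orderOf_eq_one]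
    rw [← hg, show g * z * g⁻¹ * (g * z * g⁻¹) = g * (z * z) * g⁻¹ by group, hzz]; group
  have hane1 : a ≠ 1 := fun e => hca.ne ((m.ker a).2 (.inl (by rw [e]; rfl)))
  refine ⟨a, b, a.2, b.2, hord a ha1 hane1, hord b hb1 hbne, hane, fun e => hv0 ((m.ker b).2 (.inr e)), ?_, ?_⟩
  · rintro ⟨h, he⟩
    refine hvs ⟨(QuotientGroup.mk h : Subgroup.centralizer ({z} : Set G) ⧸ Q), (m.equiv h a).trans (congrArg π ?_)⟩
    exact Subtype.ext ((MulAut.conjNormal_apply _ _).trans he)
  · intro x hxQ hx2 hxz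
    have hx1 : (⟨x, hxQ⟩ : ↥Q) * ⟨x, hxQ⟩ = 1 :=
      Subtype.ext (show x * x = 1 by rw [← pow_two, ← hx2, pow_orderOf_eq_one])
    have hx0 : π ⟨x, hxQ⟩ ≠ 0 := fun e => by
      rcases (m.ker _).1 e with e' | e'
      · rw [show x = 1 from Subtype.ext e', orderOf_one] at hx2
        omega
      · exact hxz e'
    by_cases hxo : π ⟨x, hxQ⟩ ∈ MulAction.orbit (Subgroup.centralizer ({z} : Set G) ⧸ Q) (π a)
    · exact .inl (m.exists_conj hF hca.ne hxo)
    · exact .inr (m.exists_conj hF hv0 (hall _ (hsing _ hx1) hx0 hxo))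

end Cfsg.Agent.S5440
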