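import Cfsg.Statements.S5442
import Cfsg.Agent.Lib.LargeFischer.Main

set_option autoImplicit false
open Cfsg

namespace Cfsg.Agent.S5442

/-- Let G be a finite group of large Fischer type at the involution z: the generalized Fitting subgroup Q of H = C_G(z) is extraspecial of order 2^13, H has normal subgroups Q ≤ H₁ ≤ H₂ with H₁/Q of order 3, H₂/H₁ the projective special unitary group of dimension 4 over the field with nine elements and H₂ of index 2 in H, and some conjugate of z other than z lies in Q. Let s = g z g⁻¹ be a conjugate of z lying in Q and different from z. Then the intersection of Q and g Q g⁻¹ (as subgroups of G) is elementary abelian of order 2^7; and in H/Q, writing X for the image of the centralizer of s in H and E for the image of the intersection of g Q g⁻¹ with H, E is a normal subgroup of X, elementary abelian of order 32, with X/E isomorphic to the alternating group of degree 6. -/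
theorem result {G : Type*} [Group G] [Finite G] (z : G) (Q : Subgroup (Subgroup.centralizer ({z} : Set G))) [Q.Normal] (hF : Cfsg.IsOfLargeFischerTypeAt z Q) (s : G) (hsQ : ∃ hsc : s ∈ Subgroup.centralizer ({z} : Set G), (⟨s, hsc⟩ : Subgroup.centralizer ({z} : Set G)) ∈ Q) (hs : IsConj z s) (hs1 : s ≠ z) (g : G) (hg : g * z * g⁻¹ = s) (X E : Subgroup ((Subgroup.centralizer ({z} : Set G)) ⧸ Q)) (hX : X = ((Subgroup.centralizer ({z} : Set G) ⊓ Subgroup.centralizer ({s} : Set G)).subgroupOf (Subgroup.centralizer ({z} : Set G))).map (QuotientGroup.mk' Q)) (hE : E = ((((Q.map (Subgroup.centralizer ({z} : Set G)).subtype)).map (MulAut.conj g).toMonoidHom ⊓ Subgroup.centralizer ({z} : Set G)).subgroupOf (Subgroup.centralizer ({z} : Set G))).map (QuotientGroup.mk' Q)) : Cfsg.IsElementaryAbelian 2 ((Q.map (Subgroup.centralizer ({z} : Set G)).subtype) ⊓ ((Q.map (Subgroup.centralizer ({z} : Set G)).subtype)).map (MulAut.conj g).toMonoidHom) ∧ Nat.card ↥((Q.map (Subgroup.centralizer ({z} :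 Set G)).subtype) ⊓ ((Q.map (Subgroup.centralizer ({z} : Set G)).subtype)).map (MulAut.conj g).toMonoidHom) = 2 ^ 7 ∧ E ≤ X ∧ (∀ x ∈ X, ∀ y ∈ E, x * y * x⁻¹ ∈ E) ∧ Cfsg.IsElementaryAbelian 2 E ∧ Nat.card E = 32 ∧ ∃ _ : (E.subgroupOf X).Normal, Nonempty (↥X ⧸ E.subgroupOf X ≃* alternatingGroup (Fin 6)) := by
  obtain ⟨ι, fι, q, inst, π, n, M, φ, m⟩ := CfsgLib.LargeFischer.exists_model z Q hF
  obtain ⟨hsc, hsQ'⟩ := hsQ
  have h := CfsgLib.LargeFischer.pairHyp_of hF (g := g) (by rw [hg]; exact ⟨⟨s, hsc⟩, hsQ', rfl⟩) (by rw [hg]; exact hs1)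
  obtain ⟨hne, D, hd, hcardE⟩ := m.centData h hF.1.2.2.2.1 (x := ⟨⟨s, hsc⟩, hsQ'⟩) hg.symm
  subst hE
  have hcs : CfsgLib.LargeFischer.Central q (Subgroup.centralizer ({z} : Set G) ⧸ Q) (π ⟨⟨s, hsc⟩, hsQ'⟩) :=
    ⟨hne, ⟨_, D, hd⟩⟩
  obtain ⟨hE32, hD64, -, -⟩ := m.core.data_cards hd
  have hXeq : X = MulAction.stabilizer (Subgroup.centralizer ({z} : Set G) ⧸ Q) (π ⟨⟨s, hsc⟩, hsQ'⟩) := by
    subst hX
    ext k
    constructor
    · rintro ⟨c, hc, rfl⟩
      refine (m.equiv c _).trans (congrArg π (Subtype.ext (Subtype.ext ?_)))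
      rw [MulAut.conjNormal_apply]
      show (c : G) * s * (c : G)⁻¹ = s
      rw [show (c : G) * s = s * (c : G) from Subgroup.mem_centralizer_singleton_iff.1 hc.2, mul_inv_cancel_right]
    · intro hk
      obtain ⟨c, rfl⟩ := QuotientGroup.mk_surjective k
      have hk' : π (MulAut.conjNormal c ⟨⟨s, hsc⟩, hsQ'⟩) = π ⟨⟨s, hsc⟩, hsQ'⟩ := (m.equiv c _).symm.trans hk
      have hval : (((MulAut.conjNormal c (⟨⟨s, hsc⟩, hsQ'⟩ : ↥Q) : ↥Q) : Subgroup.centralizer ({z} : Set G)) : G) =
          (c : G) * s * (c : G)⁻¹ := by rw [MulAut.conjNormal_apply]; rfl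
      rcases m.pi_eq hk'.symm with e | e <;> rw [hval] at e
      · exact ⟨c, ⟨c.2, Subgroup.mem_centralizer_singleton_iff.2 (mul_inv_eq_iff_eq_mul.1 e)⟩, rfl⟩
      · obtain ⟨b, hb⟩ := m.exists_swap hF (x := ⟨⟨s, hsc⟩, hsQ'⟩)
          (fun e' => hne ((m.ker _).2 (.inl e'))) hs1
        have hbz : ((b : Subgroup.centralizer ({z} : Set G)) : G) * z * ((b : Subgroup.centralizer ({z} : Set G)) : G)⁻¹ = z := by
          rw [Subgroup.mem_centralizer_singleton_iff.1 (b : Subgroup.centralizer ({z} : Set G)).2, mul_inv_cancel_right]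
        have hzz : z * z = 1 := by rw [← pow_two, ← hF.1.1, pow_orderOf_eq_one]
        refine ⟨(b : Subgroup.centralizer ({z} : Set G)) * c, ⟨((b : Subgroup.centralizer ({z} : Set G)) * c).2,
          Subgroup.mem_centralizer_singleton_iff.2 (mul_inv_eq_iff_eq_mul.1 ?_)⟩, ?_⟩
        · change ((b : Subgroup.centralizer ({z} : Set G)) : G) * (c : G) * s *
            (((b : Subgroup.centralizer ({z} : Set G)) : G) * (c : G))⁻¹ = s
          change ((b : Subgroup.centralizer ({z} : Set G)) : G) * s *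
            ((b : Subgroup.centralizer ({z} : Set G)) : G)⁻¹ = s * z at hb
          change (c : G) * s * (c : G)⁻¹ = s * z at e
          calc _ = ((b : Subgroup.centralizer ({z} : Set G)) : G) * ((c : G) * s * (c : G)⁻¹) *
                ((b : Subgroup.centralizer ({z} : Set G)) : G)⁻¹ := by group
            _ = (((b : Subgroup.centralizer ({z} : Set G)) : G) * s * ((b : Subgroup.centralizer ({z} : Set G)) : G)⁻¹) *
                (((b : Subgroup.centralizer ({z} : Set G)) : G) * z * ((b : Subgroup.centralizer ({z} : Set G)) : G)⁻¹) := by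
                  rw [e]; group
            _ = s := by rw [hb, hbz, mul_assoc, hzz, mul_one]
        · rw [map_mul, QuotientGroup.mk'_apply, QuotientGroup.mk'_apply, (QuotientGroup.eq_one_iff _).2 b.2, one_mul]
  obtain ⟨f, hf, hk⟩ := m.core.stab_quotient hcs hd
  subst hXeq
  refine ⟨h.elem_E, by rw [hcardE, hD64]; norm_num, m.core.E_le_stab hd, fun x hx y hy => hd.normal x hx y hy,
    hd.elem, hE32, ?_⟩
  have hn := hk ▸ MonoidHom.normal_ker f
  haveI := hn
  exact ⟨hn, ⟨(QuotientGroup.quotientMulEquivOfEq hk.symm).trans (QuotientGroup.quotientKerEquivOfSurjective f hf)⟩⟩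

end Cfsg.Agent.S5442
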