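import Cfsg.Statements.S5443
import Cfsg.Agent.Lib.LargeFischer.Main

set_option autoImplicit false
open Cfsg

namespace Cfsg.Agent.S5443

/-- Let G be a finite group of large Fischer type at the involution z: the generalized Fitting subgroup Q of H = C_G(z) is extraspecial of order 2^13, H has normal subgroups Q ≤ H₁ ≤ H₂ with H₁/Q of order 3, H₂/H₁ the projective special unitary group of dimension 4 over the field with nine elements and H₂ of index 2 in H, and some conjugate of z other than z lies in Q. Let t be an involution of Q not conjugate to z in G, and S the set of elements of H conjugating t to t or to t z (the stabilizer of the image of t in Q modulo its centre). Then the image of S in H/Q is isomorphic to the full isometry group of the elliptic quadratic form in dimension 6 over the field with two elements. -/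
theorem result {G : Type*} [Group G] [Finite G] (z : G) (Q : Subgroup (Subgroup.centralizer ({z} : Set G))) [Q.Normal] (hF : Cfsg.IsOfLargeFischerTypeAt z Q) (t : Subgroup.centralizer ({z} : Set G)) (htQ : t ∈ Q) (ht2 : orderOf t = 2) (ht : ¬ IsConj z (t : G)) (S : Subgroup (Subgroup.centralizer ({z} : Set G))) (hS : ∀ h : Subgroup.centralizer ({z} : Set G), h ∈ S ↔ (h * t * h⁻¹ = t ∨ ((h * t * h⁻¹ : Subgroup.centralizer ({z} : Set G)) : G) = t * z)) : Nonempty (↥(S.map (QuotientGroup.mk' Q)) ≃* Cfsg.isometryGroup (ZMod 2) (Cfsg.quadFormMinus 2 (ZMod 2) 1 1)) := by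
  obtain ⟨ι, fι, q, inst, π, n, M, φ, m⟩ := CfsgLib.LargeFischer.exists_model z Q hF
  obtain ⟨a, ha, hane⟩ := m.exists_central hF
  have hca := m.central_of_isConj hF ha hane
  let b : ↥Q := ⟨t, htQ⟩
  have hv : q (π b) = 0 := (m.sq b).2 (Subtype.ext (show t * t = 1 by rw [← pow_two, ← ht2, pow_orderOf_eq_one]))
  have hv0 : π b ≠ 0 := fun e => by
    rcases (m.ker b).1 e with e' | e'
    · rw [show t = 1 from Subtype.ext e', orderOf_one] at ht2
      exact absurd ht2 (by norm_num)
    · exact ht (by rw [show ((t : Subgroup.centralizer ({z} : Set G)) : G) = z from e'])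
  have hvs := m.not_mem_orbit hF ha hane (y := b) ht
  obtain ⟨e⟩ := m.core.rest_iso hca hv hv0 hvs
  have hS' : S.map (QuotientGroup.mk' Q) = MulAction.stabilizer (Subgroup.centralizer ({z} : Set G) ⧸ Q) (π b) := by
    ext k
    constructor
    · rintro ⟨c, hc, rfl⟩
      refine (m.equiv c b).trans ?_
      have hval : ((MulAut.conjNormal c b : ↥Q) : Subgroup.centralizer ({z} : Set G)) = c * t * c⁻¹ :=
        MulAut.conjNormal_apply _ _
      rcases (hS c).1 hc with h | h
      · exact congrArg π (Subtype.ext (hval.trans h))
      · refine (CfsgLib.LargeFischer.eq_of_vadd ?_).symm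
        rw [← m.pi_inv b, ← m.pi_mul]
        refine (m.ker _).2 (.inr ?_)
        show ((t : Subgroup.centralizer ({z} : Set G)) : G)⁻¹ *
          (((MulAut.conjNormal c b : ↥Q) : Subgroup.centralizer ({z} : Set G)) : G) = z
        rw [hval, h, inv_mul_cancel_left]
    · intro hk
      obtain ⟨c, rfl⟩ := QuotientGroup.mk_surjective k
      have hk' : π (MulAut.conjNormal c b) = π b := (m.equiv c b).symm.trans hk
      have hval : ((MulAut.conjNormal c b : ↥Q) : Subgroup.centralizer ({z} : Set G)) = c * t * c⁻¹ :=
        MulAut.conjNormal_apply _ _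
      refine ⟨c, (hS c).2 ?_, rfl⟩
      rcases m.pi_eq hk'.symm with e | e <;> rw [hval] at e
      · exact .inl (Subtype.ext e)
      · exact .inr e
  exact ⟨(MulEquiv.subgroupCongr hS').trans e⟩

end Cfsg.Agent.S5443
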