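import Cfsg.Statements.S5444
import Cfsg.Agent.Lib.LargeFischer.MaxAb

set_option autoImplicit false
open Cfsg

namespace Cfsg.Agent.S5444

/-- Let G be a finite group of large Fischer type at the involution z: the generalized Fitting subgroup Q of H = C_G(z) is extraspecial of order 2^13, H has normal subgroups Q ≤ H₁ ≤ H₂ with H₁/Q of order 3, H₂/H₁ the projective special unitary group of dimension 4 over the field with nine elements and H₂ of index 2 in H, and some conjugate of z other than z lies in Q. Let T be a Sylow 2-subgroup of H. Then T has exactly one elementary abelian subgroup A of largest order; A has order 2^11, it meets Q in a subgroup of order 2^7, and its image in H/Q has order 16. -/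
theorem result {G : Type*} [Group G] [Finite G] (z : G) (Q : Subgroup (Subgroup.centralizer ({z} : Set G))) [Q.Normal] (hF : Cfsg.IsOfLargeFischerTypeAt z Q) (T : Sylow 2 ↥(Subgroup.centralizer ({z} : Set G))) : ∃ A : Subgroup ↥(T : Subgroup (Subgroup.centralizer ({z} : Set G))), Cfsg.maxElementaryAbelianSubgroups 2 ↥(T : Subgroup (Subgroup.centralizer ({z} : Set G))) = {A} ∧ Nat.card A = 2 ^ 11 ∧ Nat.card ↥(A.map (T : Subgroup (Subgroup.centralizer ({z} : Set G))).subtype ⊓ Q) = 2 ^ 7 ∧ Nat.card ↥((A.map (T : Subgroup (Subgroup.centralizer ({z} : Set G))).subtype).map (QuotientGroup.mk' Q)) = 16 := by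
  classical
  obtain ⟨ι, fι, q, inst, π, n, M, φ, m⟩ := CfsgLib.LargeFischer.exists_model z Q hF
  obtain ⟨x, hx, hxne⟩ := m.exists_central hF
  obtain ⟨hs0, E, D, hd⟩ := m.central_of_isConj hF hx hxne
  have hs : CfsgLib.LargeFischer.Central q _ (π x) := ⟨hs0, E, D, hd⟩
  obtain ⟨B₀, hB₀, hB₀c⟩ := m.exists_big hF hs hd
  have := Fact.mk Nat.prime_two
  have hp : IsPGroup 2 ↥B₀ := IsPGroup.of_card hB₀c
  obtain ⟨S, hS⟩ := hp.exists_le_sylow
  obtain ⟨c, hc⟩ := MulAction.exists_smul_eq (Subgroup.centralizer ({z} : Set G)) S T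
  set B : Subgroup ↥(Subgroup.centralizer ({z} : Set G)) := B₀.map (MulAut.conj c).toMonoidHom with hBdef
  have hBc : Nat.card ↥B = 2 ^ 11 := by
    rw [hBdef, Subgroup.card_map_of_injective (MulEquiv.injective _), hB₀c]
  have hB : Cfsg.IsElementaryAbelian 2 B := by
    refine ⟨⟨⟨?_⟩⟩, ?_⟩
    · rintro ⟨_, a, ha, rfl⟩ ⟨_, b, hb, rfl⟩
      refine Subtype.ext ?_
      show MulAut.conj c a * MulAut.conj c b = MulAut.conj c b * MulAut.conj c a
      rw [← map_mul, ← map_mul]
      exact congrArg _ (congrArg Subtype.val (hB₀.1.is_comm.comm (⟨a, ha⟩ : ↥B₀) ⟨b, hb⟩))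
    · rintro _ ⟨a, ha, rfl⟩
      rw [← map_pow, hB₀.2 a ha, map_one]
  have hBT : B ≤ (T : Subgroup ↥(Subgroup.centralizer ({z} : Set G))) := by
    rintro _ ⟨b, hb, rfl⟩
    rw [← hc]
    exact Subgroup.smul_mem_pointwise_smul b (MulAut.conj c) (S : Subgroup _) (hS hb)
  set B' := B.subgroupOf (T : Subgroup ↥(Subgroup.centralizer ({z} : Set G))) with hB'def
  have hmap : B'.map (T : Subgroup ↥(Subgroup.centralizer ({z} : Set G))).subtype = B := by
    rw [hB'def, Subgroup.map_subgroupOf_eq_of_le hBT]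
  have hB'c : Nat.card ↥B' = 2 ^ 11 :=
    (Nat.card_congr (Subgroup.subgroupOfEquivOfLe hBT).toEquiv).trans hBc
  have hB' : Cfsg.IsElementaryAbelian 2 B' :=
    ⟨⟨⟨fun a b => Subtype.ext (Subtype.ext (congrArg (fun w : ↥B => (w : ↥(Subgroup.centralizer ({z} : Set G))))
      (hB.1.is_comm.comm (⟨_, a.2⟩ : ↥B) ⟨_, b.2⟩)))⟩⟩, fun a ha => Subtype.ext (hB.2 _ ha)⟩
  have hup : ∀ X : Subgroup ↥(T : Subgroup ↥(Subgroup.centralizer ({z} : Set G))),
      Cfsg.IsElementaryAbelian 2 X → 2 ^ 11 ≤ Nat.card ↥X → X = B' := by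
    intro X hX h11
    have hXm : Cfsg.IsElementaryAbelian 2 (X.map (T : Subgroup ↥(Subgroup.centralizer ({z} : Set G))).subtype) := by
      refine ⟨⟨⟨?_⟩⟩, ?_⟩
      · rintro ⟨_, a, ha, rfl⟩ ⟨_, b, hb, rfl⟩
        refine Subtype.ext ?_
        exact congrArg (fun w : ↥X => ((w : ↥(T : Subgroup ↥(Subgroup.centralizer ({z} : Set G)))) :
          ↥(Subgroup.centralizer ({z} : Set G)))) (hX.1.is_comm.comm (⟨a, ha⟩ : ↥X) ⟨b, hb⟩)
      · rintro _ ⟨a, ha, rfl⟩
        rw [← map_pow, hX.2 a ha, map_one]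
    have h := m.big_unique hF hs hd (T.2 : IsPGroup 2 ↥(T : Subgroup ↥(Subgroup.centralizer ({z} : Set G))))
      (Subgroup.map_subtype_le X) hBT hXm (by rw [Subgroup.card_map_of_injective (Subgroup.subtype_injective _)]; exact h11)
      hB hBc.ge
    exact Subgroup.map_injective (Subgroup.subtype_injective _) (h.trans hmap.symm)
  obtain ⟨-, hBQ, A, hA, -, -, hA16, -, -⟩ := m.big_facts hF hs hd hB hBc.ge
  refine ⟨B', ?_, hB'c, by rw [hmap]; exact hBQ, by rw [hmap, ← hA]; exact hA16⟩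
  refine Set.eq_singleton_iff_unique_mem.2 ⟨⟨hB', fun X hX => ?_⟩, fun X hX => ?_⟩
  · by_contra h
    have e := hup X hX (by rw [← hB'c]; exact le_of_not_ge h)
    exact h (by rw [e])
  · exact hup X hX.1 (hB'c ▸ hX.2 B' hB')

end Cfsg.Agent.S5444
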