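import Cfsg.Statements.S5447
import Cfsg.Agent.Lib.LargeFischer.Thompson.Orbits

set_option autoImplicit false
open Cfsg

namespace Cfsg.Agent.S5447

/-- Let G be a finite group of large Fischer type at the involution z: the generalized Fitting subgroup Q of H = C_G(z) is extraspecial of order 2^13, H has normal subgroups Q ≤ H₁ ≤ H₂ with H₁/Q of order 3, H₂/H₁ the projective special unitary group of dimension 4 over the field with nine elements and H₂ of index 2 in H, and some conjugate of z other than z lies in Q. Let T be a Sylow 2-subgroup of G, A its Thompson subgroup and M = N_G(A) its normalizer. Then M controls fusion in A (elements of A conjugate in G are conjugate in M), and M has exactly two orbits on the non-identity elements of A: those conjugate to z in G and those not. -/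
theorem result {G : Type*} [Group G] [Finite G] (z : G) (Q : Subgroup (Subgroup.centralizer ({z} : Set G))) [Q.Normal] (hF : Cfsg.IsOfLargeFischerTypeAt z Q) (T : Sylow 2 G) (A M : Subgroup G) (hA : A = Cfsg.thompsonSubgroupOf 2 (T : Subgroup G)) (hM : M = Subgroup.normalizer (A : Set G)) : (∀ a ∈ A, ∀ g : G, g * a * g⁻¹ ∈ A → ∃ m ∈ M, m * a * m⁻¹ = g * a * g⁻¹) ∧ (∃ a ∈ A, a ≠ 1 ∧ IsConj z a) ∧ (∃ a ∈ A, a ≠ 1 ∧ ¬ IsConj z a) ∧ ∀ a ∈ A, ∀ b ∈ A, a ≠ 1 → b ≠ 1 → (IsConj z a ↔ IsConj z b) → ∃ m ∈ M, m * a * m⁻¹ = b := by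
  classical
  obtain ⟨ι, _, q, _, π, n, M₀, φ, s, E, D, A₀, Ab, k, c, e⟩ := CfsgLib.LargeFischer.Thompson.exists_thompson hF T
  rw [e] at hA
  subst hA hM
  have hN : ∀ m, m ∈ Subgroup.normalizer (A₀ : Set G) →
      k * m * k⁻¹ ∈ Subgroup.normalizer ((A₀.map (MulAut.conj k).toMonoidHom : Subgroup G) : Set G) := by
    intro m hm
    rw [Subgroup.mem_normalizer_iff_map_conj_eq]
    refine Subgroup.eq_of_le_of_card_ge ?_ (le_of_eq (Subgroup.card_map_of_injective (MulEquiv.injective _)).symm)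
    rintro _ ⟨_, ⟨a, ha, rfl⟩, rfl⟩
    exact ⟨m * a * m⁻¹, c.conj_mem hm ha, by simp [mul_assoc]⟩
  have hcj : ∀ a : G, IsConj z (k * a * k⁻¹) ↔ IsConj z a := fun a =>
    ⟨fun h => h.trans (isConj_iff.2 ⟨k, rfl⟩).symm, fun h => h.trans (isConj_iff.2 ⟨k, rfl⟩)⟩
  refine ⟨?_, ?_, ?_, ?_⟩
  · rintro _ ⟨a, ha, rfl⟩ g ⟨b, hb, hbe⟩
    replace hbe : k * b * k⁻¹ = g * (k * a * k⁻¹) * g⁻¹ := hbe
    have hg : k⁻¹ * g * k * a * (k⁻¹ * g * k)⁻¹ = b := by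
      calc k⁻¹ * g * k * a * (k⁻¹ * g * k)⁻¹ = k⁻¹ * (g * (k * a * k⁻¹) * g⁻¹) * k := by group
        _ = b := by rw [← hbe]; group
    obtain ⟨m, hm, hme⟩ := c.fusion ha (g := k⁻¹ * g * k) (hg.symm ▸ hb)
    refine ⟨k * m * k⁻¹, hN m hm, ?_⟩
    show k * m * k⁻¹ * (k * a * k⁻¹) * (k * m * k⁻¹)⁻¹ = g * (k * a * k⁻¹) * g⁻¹
    calc k * m * k⁻¹ * (k * a * k⁻¹) * (k * m * k⁻¹)⁻¹ = k * (m * a * m⁻¹) * k⁻¹ := by group
      _ = g * (k * a * k⁻¹) * g⁻¹ := by rw [hme]; group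
  · refine ⟨k * z * k⁻¹, ⟨z, c.z_mem, rfl⟩, fun h => c.z_ne (conj_eq_one_iff.1 h), isConj_iff.2 ⟨k, rfl⟩⟩
  · obtain ⟨a, ha⟩ := (Set.ncard_pos (Set.toFinite _)).1
      (show 0 < (CfsgLib.LargeFischer.Thompson.Ns z A₀).ncard by rw [c.Ns_counts.1]; norm_num)
    exact ⟨k * a * k⁻¹, ⟨a, ha.1, rfl⟩, fun h => ha.2.1 (conj_eq_one_iff.1 h), fun h => ha.2.2 ((hcj a).1 h)⟩
  · rintro _ ⟨a, ha, rfl⟩ _ ⟨b, hb, rfl⟩ ha1 hb1 hab
    have ha1' : a ≠ 1 := fun h => ha1 (by rw [h, map_one])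
    have hb1' : b ≠ 1 := fun h => hb1 (by rw [h, map_one])
    have hab' : IsConj z a ↔ IsConj z b := (hcj a).symm.trans (hab.trans (hcj b))
    obtain ⟨m, hm, hme⟩ : ∃ m ∈ Subgroup.normalizer (A₀ : Set G), m * a * m⁻¹ = b := by
      by_cases h : IsConj z a
      · obtain ⟨g, hg⟩ := isConj_iff.1 (h.symm.trans (hab'.1 h))
        obtain ⟨m, hm, e⟩ := c.fusion ha (g := g) (hg ▸ hb)
        exact ⟨m, hm, e.trans hg⟩
      · exact c.Ns_trans ⟨ha, ha1', h⟩ ⟨hb, hb1', fun h' => h (hab'.2 h')⟩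
    refine ⟨k * m * k⁻¹, hN m hm, ?_⟩
    show k * m * k⁻¹ * (k * a * k⁻¹) * (k * m * k⁻¹)⁻¹ = k * b * k⁻¹
    rw [← hme]; group

end Cfsg.Agent.S5447
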