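import Cfsg.Statements.S5448
import Cfsg.Agent.Lib.LargeFischer.Thompson.Normaliser
import Cfsg.Agent.Lib.Golay.M24Sub

set_option autoImplicit false
open scoped Pointwise
open Cfsg

namespace Cfsg.Agent.S5448

/-- Let G be a finite group of large Fischer type at the involution z: the generalized Fitting subgroup Q of H = C_G(z) is extraspecial of order 2^13, H has normal subgroups Q ≤ H₁ ≤ H₂ with H₁/Q of order 3, H₂/H₁ the projective special unitary group of dimension 4 over the field with nine elements and H₂ of index 2 in H, and some conjugate of z other than z lies in Q. Let T be a Sylow 2-subgroup of G, A its Thompson subgroup, M = N_G(A) its normalizer, and t an involution of A not conjugate to z in G. Then the centralizer of t in M, modulo A, is isomorphic to the setwise stabilizer of a two-element subset of the 24 points in the Mathieu group of degree 24 (the automorphism group of the smaller Mathieu group on 22 points). -/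
theorem result {G : Type*} [Group G] [Finite G] (z : G) (Q : Subgroup (Subgroup.centralizer ({z} : Set G))) [Q.Normal] (hF : Cfsg.IsOfLargeFischerTypeAt z Q) (T : Sylow 2 G) (A M : Subgroup G) (hA : A = Cfsg.thompsonSubgroupOf 2 (T : Subgroup G)) (hM : M = Subgroup.normalizer (A : Set G)) (t : G) (htA : t ∈ A) (ht2 : orderOf t = 2) (ht : ¬ IsConj z t) : ∃ _ : (A.subgroupOf (M ⊓ Subgroup.centralizer ({t} : Set G))).Normal, Nonempty (↥(M ⊓ Subgroup.centralizer ({t} : Set G)) ⧸ A.subgroupOf (M ⊓ Subgroup.centralizer ({t} : Set G)) ≃* ↥(Cfsg.M24 ⊓ MulAction.stabilizer (Equiv.Perm Cfsg.GolayPt) ({none, some 0} : Set Cfsg.GolayPt))) := by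
  classical
  subst hA hM
  set A := Cfsg.thompsonSubgroupOf 2 (T : Subgroup G) with hA
  set N := Subgroup.normalizer (A : Set G)
  set C := N ⊓ Subgroup.centralizer ({t} : Set G) with hC
  obtain ⟨he, hc, ψ, hker, hrange, hpt⟩ := CfsgLib.LargeFischer.Thompson.exists_thompson_mathieu hF T
  have ht1 : t ≠ 1 := fun e => by rw [e, orderOf_one] at ht2; omega
  obtain ⟨a, b, hab, hiff⟩ := hpt t htA ht1 ht
  obtain ⟨g, hg, hga, hgb⟩ := CfsgLib.Golay.M24_map_two hab
    (show (none : Cfsg.GolayPt) ≠ some 0 from Option.some_ne_none _ |>.symm)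
  let ι : ↥C →* ↥N := Subgroup.inclusion inf_le_left
  let χ : ↥C →* Equiv.Perm Cfsg.GolayPt := (MulAut.conj g).toMonoidHom.comp (ψ.comp ι)
  have hP : g • ({a, b} : Set Cfsg.GolayPt) = {none, some 0} := by
    rw [Set.smul_set_insert, Set.smul_set_singleton, Equiv.Perm.smul_def, Equiv.Perm.smul_def, hga, hgb]
  have hstab : ∀ x : Equiv.Perm Cfsg.GolayPt, (g * x * g⁻¹) • ({none, some 0} : Set Cfsg.GolayPt) = {none, some 0} ↔
      x • ({a, b} : Set Cfsg.GolayPt) = {a, b} := by
    intro x
    rw [← hP, mul_smul, mul_smul, inv_smul_smul, smul_left_cancel_iff]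
  have hkerχ : χ.ker = A.subgroupOf C := by
    ext x
    show g * ψ (ι x) * g⁻¹ = 1 ↔ (x : G) ∈ A
    rw [conj_eq_one_iff, ← MonoidHom.mem_ker, hker]
    rfl
  have hrangeχ : χ.range = Cfsg.M24 ⊓
      MulAction.stabilizer (Equiv.Perm Cfsg.GolayPt) ({none, some 0} : Set Cfsg.GolayPt) := by
    ext y
    constructor
    · rintro ⟨x, rfl⟩
      refine ⟨show g * ψ (ι x) * g⁻¹ ∈ Cfsg.M24 from mul_mem (mul_mem hg (hrange ▸ ⟨_, rfl⟩)) (inv_mem hg), (hstab _).2 ((hiff (ι x)).1 ?_)⟩
      show (x : G) * t * (x : G)⁻¹ = t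
      rw [Subgroup.mem_centralizer_singleton_iff.1 x.2.2, mul_inv_cancel_right]
    · rintro ⟨hy, hys⟩
      obtain ⟨m, hm⟩ : g⁻¹ * y * g ∈ ψ.range := hrange.symm ▸ mul_mem (mul_mem (inv_mem hg) hy) hg
      have hmt : (m : G) * t * (m : G)⁻¹ = t := (hiff m).2 (by
        rw [← hstab, hm, show g * (g⁻¹ * y * g) * g⁻¹ = y by group]
        exact hys)
      refine ⟨⟨m, m.2, Subgroup.mem_centralizer_singleton_iff.2 (mul_inv_eq_iff_eq_mul.1 hmt)⟩, ?_⟩
      show g * ψ m * g⁻¹ = y
      rw [hm]
      group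
  have hn : (A.subgroupOf C).Normal := hkerχ ▸ MonoidHom.normal_ker χ
  have := hn
  exact ⟨hn, ⟨(QuotientGroup.quotientMulEquivOfEq hkerχ.symm).trans
    ((QuotientGroup.quotientKerEquivRange χ).trans (MulEquiv.subgroupCongr hrangeχ))⟩⟩

end Cfsg.Agent.S5448
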