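import Cfsg.Statements.S5451
import Cfsg.Agent.Lib.LargeFischer.SixCover.Quasi

set_option autoImplicit false
open Cfsg

namespace Cfsg.Agent.S5451

/-- Let G be a finite group of large Fischer type at the involution z: the generalized Fitting subgroup Q of H = C_G(z) is extraspecial of order 2^13, H has normal subgroups Q ≤ H₁ ≤ H₂ with H₁/Q of order 3, H₂/H₁ the projective special unitary group of dimension 4 over the field with nine elements and H₂ of index 2 in H, and some conjugate of z other than z lies in Q. Let X be a subgroup of H of order 3 whose product with Q is normal in H (X maps onto the normal subgroup of order 3 of H/Q). Then the centralizer of X in H is quasisimple with cyclic centre of order 6 and central quotient isomorphic to the projective special unitary group of dimension 4 over the field with nine elements. -/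
theorem result {G : Type*} [Group G] [Finite G] (z : G) (Q : Subgroup (Subgroup.centralizer ({z} : Set G))) [Q.Normal] (hF : Cfsg.IsOfLargeFischerTypeAt z Q) (X : Subgroup (Subgroup.centralizer ({z} : Set G))) (hX : Nat.card X = 3) (hXQ : (X ⊔ Q).Normal) : Cfsg.IsQuasisimple ↥(Subgroup.centralizer ((X : Subgroup (Subgroup.centralizer ({z} : Set G))) : Set (Subgroup.centralizer ({z} : Set G)))) ∧ IsCyclic ↥(Subgroup.center ↥(Subgroup.centralizer ((X : Subgroup (Subgroup.centralizer ({z} : Set G))) : Set (Subgroup.centralizer ({z} : Set G))))) ∧ Nat.card ↥(Subgroup.center ↥(Subgroup.centralizer ((X : Subgroup (Subgroup.centralizer ({z} : Set G))) : Set (Subgroup.centralizer ({z} : Set G))))) = 6 ∧ ∃ (K : Type) (_ : Field K) (_ : Fintype K), Fintype.card K = 9 ∧ Nonempty (↥(Subgroup.centralizer ((X : Subgroup (Subgroup.centralizer ({z} : Set G))) : Set (Subgroup.centralizer ({z} : Set G)))) ⧸ Subgroup.center ↥(Subgroup.centralizer ((X : Subgroup (Subgroup.centralizer ({z} : Set G))) : Set (Subgroup.centralizer ({z}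 : Set G)))) ≃* Cfsg.PSU 4 K 3) := by
  classical
  haveI := Fact.mk Nat.prime_three
  haveI := Fact.mk Nat.prime_two
  obtain ⟨ι, fι, q, inst, π, n, M, φ, m⟩ := CfsgLib.LargeFischer.exists_model z Q hF
  obtain ⟨x0, hx0, hne0⟩ := m.exists_central hF
  have hcen := m.central_of_isConj hF hx0 hne0
  obtain ⟨o0, ho0⟩ := exists_prime_orderOf_dvd_card' (G := ↥X) 3 (by rw [hX])
  have hoC : orderOf (o0 : ↥(Subgroup.centralizer ({z} : Set G))) = 3 := by rw [Subgroup.orderOf_coe, ho0]
  have hXz : X = Subgroup.zpowers (o0 : ↥(Subgroup.centralizer ({z} : Set G))) :=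
    (Subgroup.eq_of_le_of_card_ge (Subgroup.zpowers_le.2 o0.2) (by rw [Nat.card_zpowers, hoC, hX])).symm
  -- the image of the generator is `n` or its square
  set k := QuotientGroup.mk' Q (o0 : ↥(Subgroup.centralizer ({z} : Set G))) with hk
  have hk3 : k ^ 3 = 1 := by rw [hk, ← map_pow, ← hoC, pow_orderOf_eq_one, map_one]
  have hk1 : k ≠ 1 := by
    intro h
    have hQ : (o0 : ↥(Subgroup.centralizer ({z} : Set G))) ∈ Q := (QuotientGroup.eq_one_iff _).1 h
    have h1 := Subgroup.orderOf_dvd_natCard _ hQ
    rw [hoC, hF.1.2.2.2.1] at h1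
    norm_num at h1
  have hkM : k ∈ M := by
    by_contra h
    have h2 := Subgroup.sq_mem_of_index_two m.core.indexM k
    apply h
    have h3 : (k ^ 2) ^ 2 ∈ M := by rw [pow_two (k ^ 2)]; exact M.mul_mem h2 h2
    rwa [← pow_mul, show 2 * 2 = 3 + 1 from rfl, pow_succ, hk3, one_mul] at h3
  have hkn : (Subgroup.zpowers k).Normal := by
    have h := hXQ.map (QuotientGroup.mk' Q) (QuotientGroup.mk'_surjective Q)
    rwa [Subgroup.map_sup, show Q.map (QuotientGroup.mk' Q) = ⊥ from
      (Subgroup.map_eq_bot_iff _).2 (QuotientGroup.ker_mk' Q).ge, sup_bot_eq, hXz, MonoidHom.map_zpowers] at h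
  have hkz : k ∈ Subgroup.zpowers n := by
    have hφ : φ ⟨k, hkM⟩ = 1 := by
      haveI := CfsgLib.LargeFischer.h4_simple
      haveI : ((Subgroup.zpowers k).subgroupOf M).Normal := hkn.subgroupOf M
      have hmap := ((inferInstance : ((Subgroup.zpowers k).subgroupOf M).Normal).map φ m.core.surj).eq_bot_or_eq_top
      rcases hmap with e | e
      · exact Subgroup.mem_bot.1 (e ▸ Subgroup.mem_map_of_mem φ (Subgroup.mem_zpowers k))
      · exfalso
        have hle := Subgroup.card_map_dvd ((Subgroup.zpowers k).subgroupOf M) φ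
        rw [e, Subgroup.card_top, CfsgLib.Schur.Tails.UFour.card_H4,
          Nat.card_congr (Subgroup.subgroupOfEquivOfLe (Subgroup.zpowers_le.2 hkM)).toEquiv, Nat.card_zpowers] at hle
        have h4 : orderOf k ∣ 3 := orderOf_dvd_of_pow_eq_one hk3
        have := hle.trans h4
        norm_num at this
    exact (m.core.ker _).1 hφ
  obtain ⟨o, ho3, hon, hcent⟩ : ∃ o : ↥(Subgroup.centralizer ({z} : Set G)), o ^ 3 = 1 ∧
      QuotientGroup.mk' Q o = n ∧ X = Subgroup.zpowers o := by
    rcases m.core.zn_cases hkz with e | e | e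
    · exact absurd e hk1
    · exact ⟨_, by rw [← hoC, pow_orderOf_eq_one], e, hXz⟩
    · refine ⟨(o0 : ↥(Subgroup.centralizer ({z} : Set G)))⁻¹, ?_, ?_, hXz.trans (Subgroup.zpowers_inv).symm⟩
      · rw [inv_pow, ← hoC, pow_orderOf_eq_one, inv_one]
      · rw [map_inv, ← hk, e]
        exact inv_eq_of_mul_eq_one_left (by rw [← mul_assoc, m.core.n_three])
  have hL : Subgroup.centralizer ((X : Subgroup (Subgroup.centralizer ({z} : Set G))) :
      Set (Subgroup.centralizer ({z} : Set G))) = Subgroup.centralizer ({o} : Set _) := by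
    rw [hcent, Subgroup.zpowers_eq_closure, Subgroup.centralizer_closure]
  obtain ⟨h1, h2, h3, ⟨e⟩⟩ := CfsgLib.LargeFischer.SixCover.centralizer_shape hF m ho3 hon _ hL
  obtain ⟨e'⟩ := CfsgLib.Schur.Tails.UFour.psu_equiv_H4 CfsgLib.Schur.Tails.UFour.F9 CfsgLib.Schur.Tails.UFour.card_F9
  exact ⟨h1, h2, h3, CfsgLib.Schur.Tails.UFour.F9, inferInstance, inferInstance,
    CfsgLib.Schur.Tails.UFour.card_F9, ⟨e.trans e'⟩⟩

end Cfsg.Agent.S5451
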