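import Cfsg.Statements.S5452
import Cfsg.Agent.Lib.ThreeTransp.Cover.U6Double

set_option autoImplicit false
open Cfsg

namespace Cfsg.Agent.S5452

/-- Let G be a finite group with an involution d whose centralizer C is quasisimple with C modulo the subgroup generated by d isomorphic to the projective special unitary group of dimension 6 over the field with four elements, and suppose some conjugate of d other than d commutes with d. Then every involution of C modulo the subgroup generated by d is the image of an involution of C, and d is not a square in G. -/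
theorem result {G : Type*} [Group G] [Finite G] (d : G) (hd : orderOf d = 2) (hq : Cfsg.IsQuasisimple ↥(Subgroup.centralizer ({d} : Set G))) [hzn : ((Subgroup.zpowers d).subgroupOf (Subgroup.centralizer ({d} : Set G))).Normal] (K : Type) [Field K] [Fintype K] (hK : Fintype.card K = 4) (e : ↥(Subgroup.centralizer ({d} : Set G)) ⧸ (Subgroup.zpowers d).subgroupOf (Subgroup.centralizer ({d} : Set G)) ≃* Cfsg.PSU 6 K 2) (hnwc : ∃ g : G, g * d * g⁻¹ ∈ Subgroup.centralizer ({d} : Set G) ∧ g * d * g⁻¹ ≠ d) : (∀ x : ↥(Subgroup.centralizer ({d} : Set G)) ⧸ (Subgroup.zpowers d).subgroupOf (Subgroup.centralizer ({d} : Set G)), orderOf x = 2 → ∃ y : ↥(Subgroup.centralizer ({d} : Set G)), orderOf y = 2 ∧ (QuotientGroup.mk y : ↥(Subgroup.centralizer ({d} : Set G)) ⧸ (Subgroup.zpowers d).subgroupOf (Subgroup.centralizer ({d} : Set G))) = x) ∧ ¬ ∃ g : G, g ^ 2 = d := by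
  set C := Subgroup.centralizer ({d} : Set G)
  set N := (Subgroup.zpowers d).subgroupOf C with hN
  have hdC : d ∈ C := Subgroup.mem_centralizer_singleton_iff.2 rfl
  have hdd : d * d = 1 := by rw [← pow_two, ← hd, pow_orderOf_eq_one]
  let π : C →* Cfsg.PSU 6 K 2 := e.toMonoidHom.comp (QuotientGroup.mk' N)
  have hπ : ∀ h : C, π h = 1 ↔ (h : G) ∈ Subgroup.zpowers d := fun h => by
    show e (QuotientGroup.mk' N h) = 1 ↔ _
    rw [map_eq_one_iff e e.injective, QuotientGroup.mk'_apply, QuotientGroup.eq_one_iff, hN,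
      Subgroup.mem_subgroupOf]
  have W : CfsgLib.U6.DCover π ⟨d, hdC⟩ := by
    refine ⟨e.surjective.comp (QuotientGroup.mk'_surjective _), fun h hh => ?_,
      (hπ _).2 (Subgroup.mem_zpowers d), fun h => Subtype.ext ?_, Subtype.ext hdd⟩
    · obtain ⟨n, hn⟩ := (hπ h).1 hh
      change d ^ n = (h : G) at hn
      rw [← zpow_mod_orderOf, hd] at hn
      rcases Int.emod_two_eq_zero_or_one n with h0 | h0 <;> simp [h0] at hn
      · exact Or.inl (Subtype.ext hn.symm)
      · exact Or.inr (Subtype.ext hn.symm)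
    · exact (Subgroup.mem_centralizer_singleton_iff.1 h.2).symm
  have main : ∀ x : C ⧸ N, orderOf x = 2 → ∃ y : C, orderOf y = 2 ∧ (QuotientGroup.mk y : C ⧸ N) = x := by
    intro x hx
    obtain ⟨h, hh, hh2⟩ := W.exists_lift (by rw [hK]; norm_num) (x := e x)
      (by rw [← map_mul, show x * x = 1 by rw [← pow_two]; exact hx ▸ pow_orderOf_eq_one x, map_one]) (by
        rw [Ne, map_eq_one_iff e e.injective]
        intro h1
        rw [h1, orderOf_one] at hx
        norm_num at hx)
    exact ⟨h, hh2, e.injective hh⟩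
  refine ⟨main, ?_⟩
  rintro ⟨g, hg⟩
  have hgC : g ∈ C := Subgroup.mem_centralizer_singleton_iff.2 (by rw [← hg]; group)
  have hd1 : d ≠ 1 := fun h => by rw [h, orderOf_one] at hd; norm_num at hd
  by_cases h1 : (QuotientGroup.mk (⟨g, hgC⟩ : C) : C ⧸ N) = 1
  · rw [QuotientGroup.eq_one_iff, hN, Subgroup.mem_subgroupOf] at h1
    obtain ⟨n, hn⟩ := h1
    change d ^ n = g at hn
    apply hd1
    rw [← hg, ← hn, ← zpow_natCast, ← zpow_mul, mul_comm, zpow_mul, zpow_natCast, pow_two, hdd, one_zpow]
  · obtain ⟨y, hy, hyx⟩ := main _ (orderOf_eq_prime (by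
      rw [← QuotientGroup.mk_pow, QuotientGroup.eq_one_iff, hN, Subgroup.mem_subgroupOf]
      show g ^ 2 ∈ _
      rw [hg]; exact Subgroup.mem_zpowers d) h1)
    have hsq := W.sq_eq (h := y) (k := ⟨g, hgC⟩) (congrArg e hyx)
    rw [← pow_two, ← pow_two, show y ^ 2 = 1 from hy ▸ pow_orderOf_eq_one y] at hsq
    have hsq' := congrArg Subtype.val hsq
    apply hd1
    rw [← hg]
    simpa using hsq'

end Cfsg.Agent.S5452
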