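import Cfsg.Statements.S5453
import Cfsg.Agent.Lib.ThreeTransp.Cover.M22Double

set_option autoImplicit false
open Cfsg

namespace Cfsg.Agent.S5453

/-- Let G be a finite group with an involution d whose centralizer C is quasisimple, such that C modulo the subgroup generated by d is of type M(22) with respect to some conjugacy class of 3-transpositions generating it and also has an involution whose own centralizer is quasisimple with quotient by it isomorphic to the projective special unitary group of dimension 6 over the field with four elements and which is not weakly closed in that centralizer; and suppose some conjugate of d other than d commutes with d. Then every involution of C modulo the subgroup generated by d is the image of an involution of C, and d is not a square in G. -/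
theorem result {G : Type*} [Group G] [Finite G] (d : G) (hd : orderOf d = 2) (hq : Cfsg.IsQuasisimple ↥(Subgroup.centralizer ({d} : Set G))) [hzn : ((Subgroup.zpowers d).subgroupOf (Subgroup.centralizer ({d} : Set G))).Normal] (htype : ∃ E : Set (↥(Subgroup.centralizer ({d} : Set G)) ⧸ (Subgroup.zpowers d).subgroupOf (Subgroup.centralizer ({d} : Set G))), Cfsg.IsThreeTranspositionClass E ∧ Cfsg.IsOfTypeM22 _ E) (hinvol : ∃ d' : ↥(Subgroup.centralizer ({d} : Set G)) ⧸ (Subgroup.zpowers d).subgroupOf (Subgroup.centralizer ({d} : Set G)), orderOf d' = 2 ∧ Cfsg.IsQuasisimple ↥(Subgroup.centralizer ({d'} : Set _)) ∧ (∃ (K : Type) (_ : Field K) (_ : Fintype K), Fintype.card K = 4 ∧ ∃ _ : ((Subgroup.zpowers d').subgroupOf (Subgroup.centralizer ({d'} : Set _))).Normal, Nonempty (↥(Subgroup.centralizer ({d'} : Set _)) ⧸ (Subgroup.zpowers d').subgroupOf (Subgroup.centralizer ({d'} : Set _)) ≃* Cfsg.PSU 6 K 2)) ∧ ∃ g, g * d' * g⁻¹ ∈ Subgroup.centralizer ({d'} : Set _) ∧ g * d' * g⁻¹ ≠ d') (hnwc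 : ∃ g : G, g * d * g⁻¹ ∈ Subgroup.centralizer ({d} : Set G) ∧ g * d * g⁻¹ ≠ d) : (∀ x : ↥(Subgroup.centralizer ({d} : Set G)) ⧸ (Subgroup.zpowers d).subgroupOf (Subgroup.centralizer ({d} : Set G)), orderOf x = 2 → ∃ y : ↥(Subgroup.centralizer ({d} : Set G)), orderOf y = 2 ∧ (QuotientGroup.mk y : ↥(Subgroup.centralizer ({d} : Set G)) ⧸ (Subgroup.zpowers d).subgroupOf (Subgroup.centralizer ({d} : Set G))) = x) ∧ ¬ ∃ g : G, g ^ 2 = d := by
  obtain ⟨E, hE, hEt⟩ := htype
  obtain ⟨d', hd', ⟨hperf, -⟩, -, -⟩ := hinvol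
  set C := Subgroup.centralizer ({d} : Set G)
  set N := (Subgroup.zpowers d).subgroupOf C with hN
  have S := CfsgLib.M22.Setup.of_class_perfect hE hEt hd' hperf
  obtain ⟨F, _, _, hF, hM⟩ := S.exists_models
  have hdC : d ∈ C := Subgroup.mem_centralizer_singleton_iff.2 rfl
  have hdd : d * d = 1 := by rw [← pow_two, ← hd, pow_orderOf_eq_one]
  let π := QuotientGroup.mk' N
  have hπ : ∀ h : C, π h = 1 ↔ (h : G) ∈ Subgroup.zpowers d := fun h => by
    rw [QuotientGroup.mk'_apply, QuotientGroup.eq_one_iff, hN, Subgroup.mem_subgroupOf]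
  set z : C := ⟨d, hdC⟩ with hz
  have hker : ∀ h : C, π h = 1 → h = 1 ∨ h = z := fun h hh => by
    obtain ⟨n, hn⟩ := (hπ h).1 hh
    change d ^ n = (h : G) at hn
    rw [← zpow_mod_orderOf, hd] at hn
    rcases Int.emod_two_eq_zero_or_one n with h0 | h0 <;> simp [h0] at hn
    · exact Or.inl (Subtype.ext hn.symm)
    · exact Or.inr (Subtype.ext hn.symm)
  have hπz : π z = 1 := (hπ z).2 (Subgroup.mem_zpowers d)
  have hcz : ∀ h : C, Commute z h := fun h =>
    Subtype.ext (Subgroup.mem_centralizer_singleton_iff.1 h.2).symm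
  have hzz : z * z = 1 := Subtype.ext hdd
  have main : ∀ x : C ⧸ N, orderOf x = 2 → ∃ y : C, orderOf y = 2 ∧ (QuotientGroup.mk y : C ⧸ N) = x := by
    intro x hx
    obtain ⟨h, hh, hh2⟩ := CfsgLib.M22.exists_lift S hF hM (QuotientGroup.mk'_surjective N) hker hπz hcz hzz hx
    exact ⟨h, hh2, hh⟩
  refine ⟨main, ?_⟩
  rintro ⟨g, hg⟩
  have hgC : g ∈ C := Subgroup.mem_centralizer_singleton_iff.2 (by rw [← hg]; group)
  have hd1 : d ≠ 1 := fun h => by rw [h, orderOf_one] at hd; norm_num at hd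
  by_cases h1 : (QuotientGroup.mk (⟨g, hgC⟩ : C) : C ⧸ N) = 1
  · obtain ⟨n, hn⟩ := (hπ ⟨g, hgC⟩).1 h1
    change d ^ n = g at hn
    apply hd1
    rw [← hg, ← hn, ← zpow_natCast, ← zpow_mul, mul_comm, zpow_mul, zpow_natCast, pow_two, hdd, one_zpow]
  · obtain ⟨y, hy, hyx⟩ := main _ (orderOf_eq_prime (by
      rw [← QuotientGroup.mk_pow]
      exact (hπ _).2 (by rw [SubgroupClass.coe_pow]; show g ^ 2 ∈ _; rw [hg]; exact Subgroup.mem_zpowers d)) h1)
    apply hd1
    have hy2 : y * y = 1 := by rw [← pow_two]; exact hy ▸ pow_orderOf_eq_one y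
    have hgg : (⟨g, hgC⟩ : C) * ⟨g, hgC⟩ = 1 := by
      rcases CfsgLib.M22.lift_eq_or hker hπz hcz (show π y = π ⟨g, hgC⟩ from hyx) with e | e <;> rw [e]
      · exact hy2
      · rw [(hcz y).mul_mul_mul_comm, hy2, hzz, one_mul]
    rw [← hg, pow_two]
    exact congrArg Subtype.val hgg

end Cfsg.Agent.S5453
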