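import Cfsg.Statements.S5454
import Cfsg.Agent.Lib.ThreeTransp.U6Plane.Thompson

set_option autoImplicit false
open Cfsg

namespace Cfsg.Agent.S5454

/-- Let G be a finite group with an involution d whose centralizer C is quasisimple with C modulo the subgroup generated by d isomorphic to the projective special unitary group of dimension 6 over the field with four elements, and suppose some conjugate of d other than d commutes with d. Let S be a Sylow 2-subgroup of C and A the Thompson subgroup of S (generated by the elementary abelian subgroups of S of largest order), regarded as a subgroup of G. Then A is elementary abelian of order 2^10, exactly 22 conjugates of d lie in A, and the normalizer of A permutes them transitively. -/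
theorem result {G : Type*} [Group G] [Finite G] (d : G) (hd : orderOf d = 2) (hq : Cfsg.IsQuasisimple ↥(Subgroup.centralizer ({d} : Set G))) [hzn : ((Subgroup.zpowers d).subgroupOf (Subgroup.centralizer ({d} : Set G))).Normal] (K : Type) [Field K] [Fintype K] (hK : Fintype.card K = 4) (e : ↥(Subgroup.centralizer ({d} : Set G)) ⧸ (Subgroup.zpowers d).subgroupOf (Subgroup.centralizer ({d} : Set G)) ≃* Cfsg.PSU 6 K 2) (hnwc : ∃ g : G, g * d * g⁻¹ ∈ Subgroup.centralizer ({d} : Set G) ∧ g * d * g⁻¹ ≠ d) (S : Sylow 2 ↥(Subgroup.centralizer ({d} : Set G))) (A : Subgroup G) (hA : A = (Cfsg.thompsonSubgroupOf 2 (S : Subgroup ↥(Subgroup.centralizer ({d} : Set G)))).map (Subgroup.centralizer ({d} : Set G)).subtype) : Cfsg.IsElementaryAbelian 2 A ∧ Nat.card A = 2 ^ 10 ∧ Set.ncard {x : G | x ∈ A ∧ IsConj d x} = 22 ∧ ∀ x ∈ A, ∀ y ∈ A, IsConj d x → IsConj d y → ∃ n ∈ Subgroup.normalizer (A : Set G), n * x * n⁻¹ = y := by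
  have hdC : d ∈ Subgroup.centralizer ({d} : Set G) := Subgroup.mem_centralizer_singleton_iff.2 rfl
  set N := (Subgroup.zpowers d).subgroupOf (Subgroup.centralizer ({d} : Set G)) with hN
  let π : ↥(Subgroup.centralizer ({d} : Set G)) →* Cfsg.PSU 6 K 2 := e.toMonoidHom.comp (QuotientGroup.mk' N)
  have hπ : ∀ h : ↥(Subgroup.centralizer ({d} : Set G)), π h = 1 ↔ (h : G) ∈ Subgroup.zpowers d := fun h => by
    show e (QuotientGroup.mk' N h) = 1 ↔ _
    rw [map_eq_one_iff e e.injective, QuotientGroup.mk'_apply, QuotientGroup.eq_one_iff, hN,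
      Subgroup.mem_subgroupOf]
  have W : CfsgLib.U6.DCover π ⟨d, hdC⟩ := by
    refine ⟨e.surjective.comp (QuotientGroup.mk'_surjective _), fun h hh => ?_,
      (hπ _).2 (Subgroup.mem_zpowers d), fun h => Subtype.ext ?_, Subtype.ext ?_⟩
    · obtain ⟨n, hn⟩ := (hπ h).1 hh
      change d ^ n = (h : G) at hn
      rw [← zpow_mod_orderOf, hd] at hn
      rcases Int.emod_two_eq_zero_or_one n with h0 | h0 <;> simp [h0] at hn
      · exact Or.inl (Subtype.ext hn.symm)
      · exact Or.inr (Subtype.ext hn.symm)
    · exact (Subgroup.mem_centralizer_singleton_iff.1 h.2).symm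
    · show d * d = 1
      rw [← pow_two, ← hd, pow_orderOf_eq_one]
  exact CfsgLib.U6.Plane.thompson_statement (by rw [hK]; norm_num) hd π W hq.1.commutator_eq_top hnwc S A hA

end Cfsg.Agent.S5454
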