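import Cfsg.Statements.S5455
import Cfsg.Agent.Lib.ThreeTransp.CoverSign.M22CoverThompson

set_option autoImplicit false
open Cfsg

namespace Cfsg.Agent.S5455

/-- Let G be a finite group with an involution d whose centralizer C is quasisimple, such that C modulo the subgroup generated by d is of type M(22) with respect to some conjugacy class of 3-transpositions generating it and also has an involution whose own centralizer is quasisimple with quotient by it isomorphic to the projective special unitary group of dimension 6 over the field with four elements and which is not weakly closed in that centralizer; and suppose some conjugate of d other than d commutes with d. Let S be a Sylow 2-subgroup of C and A the Thompson subgroup of S, regarded as a subgroup of G. Then A is elementary abelian of order 2^11, exactly 23 conjugates of d lie in A, and the normalizer of A permutes them transitively. -/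
theorem result {G : Type*} [Group G] [Finite G] (d : G) (hd : orderOf d = 2) (hq : Cfsg.IsQuasisimple ↥(Subgroup.centralizer ({d} : Set G))) [hzn : ((Subgroup.zpowers d).subgroupOf (Subgroup.centralizer ({d} : Set G))).Normal] (htype : ∃ E : Set (↥(Subgroup.centralizer ({d} : Set G)) ⧸ (Subgroup.zpowers d).subgroupOf (Subgroup.centralizer ({d} : Set G))), Cfsg.IsThreeTranspositionClass E ∧ Cfsg.IsOfTypeM22 _ E) (hinvol : ∃ d' : ↥(Subgroup.centralizer ({d} : Set G)) ⧸ (Subgroup.zpowers d).subgroupOf (Subgroup.centralizer ({d} : Set G)), orderOf d' = 2 ∧ Cfsg.IsQuasisimple ↥(Subgroup.centralizer ({d'} : Set _)) ∧ (∃ (K : Type) (_ : Field K) (_ : Fintype K), Fintype.card K = 4 ∧ ∃ _ : ((Subgroup.zpowers d').subgroupOf (Subgroup.centralizer ({d'} : Set _))).Normal, Nonempty (↥(Subgroup.centralizer ({d'} : Set _)) ⧸ (Subgroup.zpowers d').subgroupOf (Subgroup.centralizer ({d'} : Set _)) ≃* Cfsg.PSU 6 K 2)) ∧ ∃ g, g * d' * g⁻¹ ∈ Subgroup.centralizer ({d'} : Set _) ∧ g * d' * g⁻¹ ≠ d') (hnwc : ∃ g : G, g * d * g⁻¹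 ∈ Subgroup.centralizer ({d} : Set G) ∧ g * d * g⁻¹ ≠ d) (S : Sylow 2 ↥(Subgroup.centralizer ({d} : Set G))) (A : Subgroup G) (hA : A = (Cfsg.thompsonSubgroupOf 2 (S : Subgroup ↥(Subgroup.centralizer ({d} : Set G)))).map (Subgroup.centralizer ({d} : Set G)).subtype) : Cfsg.IsElementaryAbelian 2 A ∧ Nat.card A = 2 ^ 11 ∧ Set.ncard {x : G | x ∈ A ∧ IsConj d x} = 23 ∧ ∀ x ∈ A, ∀ y ∈ A, IsConj d x → IsConj d y → ∃ n ∈ Subgroup.normalizer (A : Set G), n * x * n⁻¹ = y := by
  obtain ⟨E, hE, hEt⟩ := htype
  obtain ⟨d', hd', ⟨hperf', -⟩, -, -⟩ := hinvol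
  have S := CfsgLib.M22.Setup.of_class_perfect hE hEt hd' hperf'
  obtain ⟨F, _, _, hF, hM⟩ := S.exists_models
  set N := (Subgroup.zpowers d).subgroupOf (Subgroup.centralizer ({d} : Set G))
  have hπ : ∀ h : ↥(Subgroup.centralizer ({d} : Set G)), QuotientGroup.mk' N h = 1 ↔ (h : G) ∈ Subgroup.zpowers d :=
    fun h => by rw [QuotientGroup.mk'_apply, QuotientGroup.eq_one_iff, Subgroup.mem_subgroupOf]
  refine CfsgLib.M22.cover_thompson_statement S hF hM hd (QuotientGroup.mk'_surjective N) hπ hq.1.commutator_eq_top ?_ hnwc _ A hA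
  rintro ⟨g, hg⟩
  -- `d` is not a square
  have hdC : d ∈ Subgroup.centralizer ({d} : Set G) := Subgroup.mem_centralizer_singleton_iff.2 rfl
  have hdd : d * d = 1 := by rw [← pow_two, ← hd, pow_orderOf_eq_one]
  have hd1 : d ≠ 1 := fun h => by rw [h, orderOf_one] at hd; norm_num at hd
  have hgC : g ∈ Subgroup.centralizer ({d} : Set G) :=
    Subgroup.mem_centralizer_singleton_iff.2 (by rw [← hg]; group)
  obtain ⟨T₀, hT₀⟩ := QuotientGroup.mk'_surjective N S.exists_noncommuting.choose
  have hgg := CfsgLib.M22.sq_eq_one_of_image S hF hM (QuotientGroup.mk'_surjective N)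
    (z := ⟨d, hdC⟩) (π := QuotientGroup.mk' N) (fun h hh => by
      obtain ⟨n, hn⟩ := (hπ h).1 hh
      change d ^ n = (h : G) at hn
      rw [← zpow_mod_orderOf, hd] at hn
      rcases Int.emod_two_eq_zero_or_one n with h0 | h0 <;> simp [h0] at hn
      · exact Or.inl (Subtype.ext hn.symm)
      · exact Or.inr (Subtype.ext hn.symm))
    ((hπ _).2 (Subgroup.mem_zpowers d))
    (fun h => Subtype.ext (Subgroup.mem_centralizer_singleton_iff.1 h.2).symm) (Subtype.ext hdd)
    (T₀ := T₀) (hT₀ ▸ S.exists_noncommuting.choose_spec.1) (h := ⟨g, hgC⟩) (by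
      rw [← map_mul, hπ]
      show g * g ∈ _
      rw [← pow_two, hg]; exact Subgroup.mem_zpowers d)
  have h1 : g * g = 1 := congrArg Subtype.val hgg
  rw [pow_two, h1] at hg
  exact hd1 hg.symm

end Cfsg.Agent.S5455
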