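import Cfsg.Statements.S5459

set_option autoImplicit false
open Cfsg
open scoped commutatorElement

namespace Cfsg.Agent.S5459

/-- Let G be a finite group with a quasisimple normal subgroup L and an involution d such that G is generated by L and d, the centre of L has odd order, and d inverts every element of the centre of L. If the commuting graph on the conjugacy class of the image of d in G modulo the centre of L is connected, then the commuting graph on the conjugacy class of d is connected. -/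
theorem result {G : Type*} [Group G] [Finite G] (L : Subgroup G) [L.Normal] (hL : Cfsg.IsQuasisimple ↥L) (d : G) (hd : orderOf d = 2) (hgen : L ⊔ Subgroup.zpowers d = ⊤) (hodd : Odd (Nat.card ↥(Subgroup.center ↥L))) (hinv : ∀ c ∈ (Subgroup.center ↥L).map L.subtype, d * c * d⁻¹ = c⁻¹) [hn : ((Subgroup.center ↥L).map L.subtype).Normal] (hconn : (Cfsg.commutingGraph (conjugatesOf (QuotientGroup.mk d : G ⧸ (Subgroup.center ↥L).map L.subtype))).Connected) : (Cfsg.commutingGraph (conjugatesOf d)).Connected := by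
  classical
  set Z := (Subgroup.center ↥L).map L.subtype with hZ
  obtain ⟨hperf, hsimple⟩ := hL
  have hZmem : ∀ z : G, z ∈ Z ↔ ∃ h : z ∈ L, (⟨z, h⟩ : L) ∈ Subgroup.center L := by
    intro z
    rw [hZ, Subgroup.mem_map]
    exact ⟨by rintro ⟨⟨w, hw⟩, hc, rfl⟩; exact ⟨hw, hc⟩, fun ⟨h, hc⟩ => ⟨⟨z, h⟩, hc, rfl⟩⟩
  have hZcard : Odd (Nat.card Z) := by
    rwa [hZ, Subgroup.card_map_of_injective L.subtype_injective]
  obtain ⟨m, hm⟩ := hZcard
  have hroot : ∀ z ∈ Z, (z ^ (m + 1)) * (z ^ (m + 1)) = z := by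
    intro z hz
    have h1 : z ^ Nat.card Z = 1 := congrArg Subtype.val (pow_card_eq_one' (x := (⟨z, hz⟩ : Z)))
    rw [← pow_add, show m + 1 + (m + 1) = Nat.card Z + 1 by omega, pow_succ, h1, one_mul]
  -- every conjugate of `d` inverts `Z`
  have hdi : d⁻¹ = d := inv_eq_of_mul_eq_one_right (by rw [← pow_two, ← hd]; exact pow_orderOf_eq_one d)
  have hinvall : ∀ b ∈ conjugatesOf d, b * b = 1 ∧ ∀ z ∈ Z, b * z * b⁻¹ = z⁻¹ := by
    intro b hb
    obtain ⟨g, rfl⟩ := isConj_iff.mp hb
    refine ⟨?_, fun z hz => ?_⟩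
    · calc g * d * g⁻¹ * (g * d * g⁻¹) = g * (d * d⁻¹) * g⁻¹ := by rw [hdi]; group
        _ = 1 := by group
    · have h := hinv _ (hn.conj_mem z hz g⁻¹)
      calc g * d * g⁻¹ * z * (g * d * g⁻¹)⁻¹ = g * (d * (g⁻¹ * z * g⁻¹⁻¹) * d⁻¹) * g⁻¹ := by group
        _ = g * (g⁻¹ * z * g⁻¹⁻¹)⁻¹ * g⁻¹ := by rw [h]
        _ = z⁻¹ := by group
  let Γ := Cfsg.commutingGraph (conjugatesOf d)
  let d₀ : conjugatesOf d := ⟨d, mem_conjugatesOf_self⟩
  let C : Set G := {a | ∃ h : a ∈ conjugatesOf d, Γ.Reachable d₀ ⟨a, h⟩}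
  have hadj : ∀ (a b : G) (ha : a ∈ conjugatesOf d) (hb : b ∈ conjugatesOf d), Commute a b →
      Γ.Reachable ⟨a, ha⟩ ⟨b, hb⟩ := by
    intro a b ha hb hab
    by_cases he : a = b
    · subst he; exact SimpleGraph.Reachable.refl _
    · exact SimpleGraph.Adj.reachable ((SimpleGraph.fromRel_adj _ _ _).mpr
        ⟨fun h => he (congrArg Subtype.val h), Or.inl hab⟩)
  -- every class of the quotient is met by `C`
  have hcover : ∀ b ∈ conjugatesOf d, ∃ c ∈ C, b⁻¹ * c ∈ Z := by
    intro b hb
    have hbq : (QuotientGroup.mk b : G ⧸ Z) ∈ conjugatesOf (QuotientGroup.mk d : G ⧸ Z) :=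
      MonoidHom.map_isConj (QuotientGroup.mk' Z) hb
    have hr := hconn.preconnected ⟨_, mem_conjugatesOf_self⟩ ⟨_, hbq⟩
    rw [SimpleGraph.reachable_iff_reflTransGen] at hr
    suffices H : ∀ v, Relation.ReflTransGen
        (Cfsg.commutingGraph (conjugatesOf (QuotientGroup.mk d : G ⧸ Z))).Adj ⟨_, mem_conjugatesOf_self⟩ v →
        ∃ c ∈ C, (QuotientGroup.mk c : G ⧸ Z) = v.1 by
      obtain ⟨c, hc, hcb⟩ := H _ hr
      exact ⟨c, hc, QuotientGroup.eq.mp hcb.symm⟩
    intro v hv
    induction hv with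
    | refl => exact ⟨d, ⟨mem_conjugatesOf_self, SimpleGraph.Reachable.refl _⟩, rfl⟩
    | @tail u w _ huw ih =>
      obtain ⟨a, ⟨haD, har⟩, hau⟩ := ih
      obtain ⟨q, hq⟩ := isConj_iff.mp w.2
      obtain ⟨g, rfl⟩ := QuotientGroup.mk_surjective q
      obtain ⟨e, he⟩ : ∃ e, e = g * d * g⁻¹ := ⟨_, rfl⟩
      have heD : e ∈ conjugatesOf d := isConj_iff.mpr ⟨g, he.symm⟩
      have hew : (QuotientGroup.mk e : G ⧸ Z) = w.1 := by rw [← hq, he]; simp
      have hcom : Commute (u.1 : G ⧸ Z) w.1 := by
        rcases ((SimpleGraph.fromRel_adj _ _ _).mp huw).2 with h | h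
        · exact h
        · exact h.symm
      rw [← hau, ← hew] at hcom
      obtain ⟨haa, hainv⟩ := hinvall a haD
      obtain ⟨hee, heinv⟩ := hinvall e heD
      have hai : a⁻¹ = a := inv_eq_of_mul_eq_one_right haa
      have hei : e⁻¹ = e := inv_eq_of_mul_eq_one_right hee
      -- correct the lift
      have hz : (a * e) * (a * e) ∈ Z := by
        rw [← QuotientGroup.eq_one_iff]
        simp only [QuotientGroup.mk_mul]
        rw [hcom.eq]
        have h1 : (QuotientGroup.mk a : G ⧸ Z) * QuotientGroup.mk a = 1 := by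
          rw [← QuotientGroup.mk_mul, haa, QuotientGroup.mk_one]
        have h2 : (QuotientGroup.mk e : G ⧸ Z) * QuotientGroup.mk e = 1 := by
          rw [← QuotientGroup.mk_mul, hee, QuotientGroup.mk_one]
        calc (e : G ⧸ Z) * a * (e * a) = (e : G ⧸ Z) * (a * e) * a := by group
          _ = (e : G ⧸ Z) * (e * a) * a := by rw [hcom.eq]
          _ = ((e : G ⧸ Z) * e) * (a * a) := by group
          _ = 1 := by rw [h1, h2, one_mul]
      set t := (((a * e) * (a * e))⁻¹) ^ (m + 1) with ht
      have htZ : t ∈ Z := Z.pow_mem (Z.inv_mem hz) _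
      have htt : t * t = ((a * e) * (a * e))⁻¹ := hroot _ (Z.inv_mem hz)
      set s := (t⁻¹) ^ (m + 1) with hs
      have hsZ : s ∈ Z := Z.pow_mem (Z.inv_mem htZ) _
      have hss : s * s = t⁻¹ := hroot _ (Z.inv_mem htZ)
      have het : e * t = s * e * s⁻¹ := by
        have h := heinv s hsZ
        rw [hei] at h
        have : s * e = e * s⁻¹ := by
          calc s * e = e * (e * s * e) := by
                rw [← mul_assoc, ← mul_assoc, hee, one_mul]
            _ = e * s⁻¹ := by rw [h]
        rw [this, mul_assoc, ← mul_inv_rev, hss, inv_inv]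
      have hetD : e * t ∈ conjugatesOf d := by
        rw [het]
        exact IsConj.trans heD (isConj_iff.mpr ⟨s, rfl⟩)
      refine ⟨e * t, ⟨hetD, har.trans (hadj a _ haD hetD ?_)⟩, ?_⟩
      · have hcz : a * e * t = t * (a * e) := by
          have h1 := heinv t htZ
          have h2 := hainv _ (Z.inv_mem htZ)
          rw [inv_inv] at h2
          calc a * e * t = a * (e * t * e⁻¹) * a⁻¹ * (a * e) := by group
            _ = t * (a * e) := by rw [h1, h2]
        have hsq : (a * (e * t)) * (a * (e * t)) = 1 := by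
          calc (a * (e * t)) * (a * (e * t)) = a * e * (t * (a * e)) * t := by group
            _ = a * e * (a * e) * (t * t) := by rw [← hcz]; group
            _ = 1 := by rw [htt, mul_inv_cancel]
        have hetI := (hinvall _ hetD).1
        show a * (e * t) = e * t * a
        have hi := inv_eq_of_mul_eq_one_right hsq
        rw [mul_inv_rev, inv_eq_of_mul_eq_one_right hetI, hai] at hi
        exact hi.symm
      · rw [← hew, QuotientGroup.eq]
        simpa [mul_assoc] using Z.inv_mem htZ
  -- the set stabiliser of `C`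
  let f : ∀ g : G, Γ →g Γ := fun g =>
    { toFun := fun a => ⟨g * a.1 * g⁻¹, IsConj.trans a.2 (isConj_iff.mpr ⟨g, rfl⟩)⟩
      map_rel' := by
        intro a b hab
        replace hab := (SimpleGraph.fromRel_adj _ _ _).mp hab
        refine (SimpleGraph.fromRel_adj _ _ _).mpr ⟨fun h => hab.1 (Subtype.ext ?_), ?_⟩
        · simpa using congrArg Subtype.val h
        · rcases hab.2 with h | h
          · exact Or.inl ((Commute.conj_iff g).mpr h)
          · exact Or.inr ((Commute.conj_iff g).mpr h) }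
  have hCt : ∀ g : G, g * d * g⁻¹ ∈ C → ∀ c ∈ C, g * c * g⁻¹ ∈ C := by
    rintro g ⟨h1, h2⟩ c ⟨h3, h4⟩
    exact ⟨_, h2.trans (h4.map (f g))⟩
  let H : Subgroup G := Subgroup.closure C
  have hHstab : ∀ g ∈ H, g * d * g⁻¹ ∈ C := by
    intro g hg
    induction hg using Subgroup.closure_induction_right with
    | one => exact ⟨by simp [mem_conjugatesOf_self], by simp [d₀]⟩
    | mul_right g hg c hc ih =>
      obtain ⟨hcD, hcr⟩ := hc
      have hcd : c * d * c⁻¹ ∈ C := by
        refine ⟨IsConj.trans mem_conjugatesOf_self (isConj_iff.mpr ⟨c, rfl⟩), hcr.trans ?_⟩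
        have := hcr.map (f c)
        refine (SimpleGraph.Reachable.trans ?_ this.symm)
        exact hadj _ _ _ _ (by simp)
      have := hCt g ih _ hcd
      simpa [mul_assoc] using this
    | mul_inv_cancel g hg c hc ih =>
      obtain ⟨hcD, hcr⟩ := hc
      have hcd : c⁻¹ * d * c⁻¹⁻¹ ∈ C := by
        refine ⟨IsConj.trans mem_conjugatesOf_self (isConj_iff.mpr ⟨c⁻¹, rfl⟩), hcr.trans ?_⟩
        have := hcr.map (f c⁻¹)
        refine (SimpleGraph.Reachable.trans ?_ this.symm)
        exact hadj _ _ _ _ (by simp)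
      have := hCt g ih _ hcd
      simpa [mul_assoc] using this
  -- main dichotomy
  suffices hall : ∀ b ∈ conjugatesOf d, b ∈ C by
    haveI : Nonempty (conjugatesOf d) := ⟨d₀⟩
    refine ⟨fun a b => ?_⟩
    obtain ⟨_, ha⟩ := hall a.1 a.2
    obtain ⟨_, hb⟩ := hall b.1 b.2
    exact ha.symm.trans hb
  let M := Subgroup.normalClosure ({d} : Set G)
  let K := (M ⊓ L).subgroupOf L
  haveI : IsSimpleGroup (L ⧸ Subgroup.center L) := hsimple
  haveI hKn : K.Normal := by
    haveI : (M ⊓ L).Normal := inferInstance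
    exact Subgroup.Normal.subgroupOf this L
  rcases IsSimpleGroup.eq_bot_or_eq_top_of_normal (K.map (QuotientGroup.mk' (Subgroup.center L)))
    (Subgroup.Normal.map hKn _ (QuotientGroup.mk'_surjective _)) with hbot | htop
  · -- `d` is central
    rw [Subgroup.map_eq_bot_iff, QuotientGroup.ker_mk'] at hbot
    have hcomm : ∀ l : L, (⟨(l : G) * d * (l : G)⁻¹ * d⁻¹,
        by
          have h := L.mul_mem l.2 ((inferInstance : L.Normal).conj_mem _ (L.inv_mem l.2) d)
          simpa [mul_assoc] using h⟩ : L) ∈ Subgroup.center L := by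
      intro l
      apply hbot
      rw [Subgroup.mem_subgroupOf]
      refine ⟨M.mul_mem ?_ (M.inv_mem (Subgroup.subset_normalClosure (Set.mem_singleton d))), ?_⟩
      · exact (Subgroup.normalClosure_normal).conj_mem d (Subgroup.subset_normalClosure (Set.mem_singleton d)) l
      · have h := L.mul_mem l.2 ((inferInstance : L.Normal).conj_mem _ (L.inv_mem l.2) d)
        simpa [mul_assoc] using h
    let φ : L →* L :=
      { toFun := fun l => ⟨(l : G) * d * (l : G)⁻¹ * d⁻¹, by
          have h := L.mul_mem l.2 ((inferInstance : L.Normal).conj_mem _ (L.inv_mem l.2) d)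
          simpa [mul_assoc] using h⟩
        map_one' := Subtype.ext (by simp)
        map_mul' := fun l k => by
          have hk := Subgroup.mem_center_iff.mp (hcomm k) l
          have hk' := congrArg Subtype.val hk
          simp only [Subgroup.coe_mul] at hk'
          apply Subtype.ext
          simp only [Subgroup.coe_mul]
          have hk2 := congrArg Subtype.val (Subgroup.mem_center_iff.mp (hcomm k)
            ⟨(l : G) * d * (l : G)⁻¹ * d⁻¹, by
              have h := L.mul_mem l.2 ((inferInstance : L.Normal).conj_mem _ (L.inv_mem l.2) d)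
              simpa [mul_assoc] using h⟩)
          simp only [Subgroup.coe_mul] at hk2
          rw [hk2]
          calc (l : G) * k * d * ((l : G) * k)⁻¹ * d⁻¹
              = ((l : G) * ((k : G) * d * (k : G)⁻¹ * d⁻¹)) * (d * (l : G)⁻¹ * d⁻¹) := by group
            _ = _ := by rw [hk']; group }
    have hφ : ∀ l : L, φ l = 1 := by
      intro l
      have hl : l ∈ commutator L := by rw [hperf.commutator_eq_top]; trivial
      have hrange : ∀ x y : L, φ x * φ y = φ y * φ x := fun x y =>
        (Subgroup.mem_center_iff.mp (hcomm y)) (φ x)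
      have : commutator L ≤ φ.ker := by
        rw [commutator_def, Subgroup.commutator_le]
        intro x _ y _
        rw [MonoidHom.mem_ker, commutatorElement_def, map_mul, map_mul, map_mul, map_inv, map_inv, hrange]
        group
      exact this hl
    intro b hb
    obtain ⟨g, rfl⟩ := isConj_iff.mp hb
    have hg : g * d * g⁻¹ = d := by
      have hgm : g ∈ L ⊔ Subgroup.zpowers d := by rw [hgen]; trivial
      have : L ⊔ Subgroup.zpowers d ≤ Subgroup.centralizer ({d} : Set G) := by
        refine sup_le (fun l hl => ?_) (Subgroup.zpowers_le.mpr (Subgroup.mem_centralizer_singleton_iff.mpr rfl))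
        rw [Subgroup.mem_centralizer_singleton_iff]
        have h := congrArg Subtype.val (hφ ⟨l, hl⟩)
        simp only [φ, MonoidHom.coe_mk, OneHom.coe_mk, OneMemClass.coe_one] at h
        rw [mul_inv_eq_one, mul_inv_eq_iff_eq_mul] at h
        exact h
      rw [mul_inv_eq_iff_eq_mul]
      exact Subgroup.mem_centralizer_singleton_iff.mp (this hgm)
    rw [hg]
    exact ⟨mem_conjugatesOf_self, SimpleGraph.Reachable.refl _⟩
  · -- `H` is everything
    haveI : Z.Normal := hn
    have hMHZ : M ≤ H ⊔ Z := by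
      show Subgroup.closure (Group.conjugatesOfSet ({d} : Set G)) ≤ _
      rw [Subgroup.closure_le]
      intro x hx
      obtain ⟨y, hy, hyx⟩ := Group.mem_conjugatesOfSet_iff.mp hx
      rw [Set.mem_singleton_iff] at hy
      subst hy
      obtain ⟨c, hc, hcx⟩ := hcover x hyx
      have := (H ⊔ Z).mul_mem (Subgroup.mem_sup_left (Subgroup.subset_closure hc : c ∈ H))
        (Subgroup.mem_sup_right (Z.inv_mem hcx) : (x⁻¹ * c)⁻¹ ∈ H ⊔ Z)
      simpa [mul_assoc] using this
    have hsplit : ∀ l : L, ∃ h ∈ H, ∃ z : L, z ∈ Subgroup.center L ∧ (l : G) = h * z := by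
      intro l
      have hlt : (QuotientGroup.mk' (Subgroup.center L)) l ∈ K.map (QuotientGroup.mk' (Subgroup.center L)) := by
        rw [htop]; trivial
      obtain ⟨k, hk, hkl⟩ := Subgroup.mem_map.mp hlt
      obtain ⟨h, hh, z, hz, hhz⟩ := Subgroup.mem_sup_of_normal_right.mp (hMHZ hk.1)
      obtain ⟨hzL, hzc⟩ := (hZmem z).mp hz
      have hzk : k⁻¹ * l ∈ Subgroup.center L := QuotientGroup.eq.mp hkl
      refine ⟨h, hh, ⟨z, hzL⟩ * (k⁻¹ * l), Subgroup.mul_mem _ hzc hzk, ?_⟩
      simp only [Subgroup.coe_mul, Subgroup.coe_inv]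
      rw [← mul_assoc, hhz]
      simp
    have hLH : L ≤ H := by
      have hcom : commutator L ≤ H.subgroupOf L := by
        rw [commutator_def, Subgroup.commutator_le]
        intro x _ y _
        obtain ⟨h1, hh1, z1, hz1, e1⟩ := hsplit x
        obtain ⟨h2, hh2, z2, hz2, e2⟩ := hsplit y
        have hh1L : h1 ∈ L := by
          rw [show h1 = (x : G) * (z1 : G)⁻¹ by rw [e1, mul_inv_cancel_right]]
          exact L.mul_mem x.2 (L.inv_mem z1.2)
        have hh2L : h2 ∈ L := by
          rw [show h2 = (y : G) * (z2 : G)⁻¹ by rw [e2, mul_inv_cancel_right]]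
          exact L.mul_mem y.2 (L.inv_mem z2.2)
        have hx' : x = ⟨h1, hh1L⟩ * z1 := Subtype.ext e1
        have hy' : y = ⟨h2, hh2L⟩ * z2 := Subtype.ext e2
        have heq : ⁅x, y⁆ = ⁅(⟨h1, hh1L⟩ : L), ⟨h2, hh2L⟩⁆ := by
          rw [hx', hy']
          generalize (⟨h1, hh1L⟩ : L) = p
          generalize (⟨h2, hh2L⟩ : L) = r
          have c1 := Subgroup.mem_center_iff.mp hz1
          have c2 := Subgroup.mem_center_iff.mp hz2
          simp only [commutatorElement_def, mul_inv_rev]
          calc p * z1 * (r * z2) * (z1⁻¹ * p⁻¹) * (z2⁻¹ * r⁻¹)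
              = p * (z1 * (r * z2)) * z1⁻¹ * p⁻¹ * z2⁻¹ * r⁻¹ := by group
            _ = p * r * (z2 * p⁻¹) * z2⁻¹ * r⁻¹ := by rw [← c1 (r * z2)]; group
            _ = p * r * p⁻¹ * r⁻¹ := by rw [← c2 p⁻¹]; group
        rw [heq, Subgroup.mem_subgroupOf]
        simp only [commutatorElement_def, Subgroup.coe_mul, Subgroup.coe_inv]
        exact H.mul_mem (H.mul_mem (H.mul_mem hh1 hh2) (H.inv_mem hh1)) (H.inv_mem hh2)
      intro l hl
      have : (⟨l, hl⟩ : L) ∈ H.subgroupOf L := hcom (by rw [hperf.commutator_eq_top]; trivial)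
      exact this
    have hHtop : H = ⊤ := by
      rw [eq_top_iff, ← hgen]
      exact sup_le hLH (Subgroup.zpowers_le.mpr
        (Subgroup.subset_closure ⟨mem_conjugatesOf_self, SimpleGraph.Reachable.refl _⟩))
    intro b hb
    obtain ⟨g, rfl⟩ := isConj_iff.mp hb
    exact hHstab g (by rw [hHtop]; trivial)

end Cfsg.Agent.S5459
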