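import Cfsg.Statements.S5461
import Cfsg.Agent.Lib.MonsterType.ThreeCentral.ExtType
import Cfsg.Agent.Lib.Fi24P.Simple
import Cfsg.Agent.Lib.Fi24P.ThreeT.Types
import Cfsg.Agent.Lib.LargeFischer.Ext.TypeIso
import Cfsg.Agent.Lib.LargeFischer.Ext.Final
import Cfsg.Agent.Lib.ThreeTransp.M24Pair

set_option autoImplicit false
open Cfsg

namespace Cfsg.Agent.S5461

open CfsgLib.MonsterType CfsgLib.MonsterType.ThreeCentral

/-- The subgroup of index two is the commutator subgroup. -/
theorem com_map {X : Type*} [Group X] (Φ : Cfsg.Spor.Fi24 ≃* X) {G₀ : Subgroup X} (hi : G₀.index = 2) :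
    CfsgLib.Fi24P.comG.map Φ.toMonoidHom = G₀ := by
  haveI := CfsgLib.Fi24P.ThreeT.finite24
  haveI : Finite X := Finite.of_equiv _ Φ.toEquiv
  haveI hn : G₀.Normal := Subgroup.normal_of_index_eq_two hi
  have hle : CfsgLib.Fi24P.comG.map Φ.toMonoidHom ≤ G₀ := by
    show (commutator Cfsg.Spor.Fi24).map Φ.toMonoidHom ≤ G₀
    rw [commutator_def, Subgroup.map_commutator, Subgroup.commutator_le]
    intro a _ b _
    rw [commutatorElement_def]
    have key : ∀ x y : X, x * y * x⁻¹ * y⁻¹ ∈ G₀ := fun x y => by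
      simp only [Subgroup.mul_mem_iff_of_index_two hi, inv_mem_iff]
      tauto
    exact key a b
  have h2 : (CfsgLib.Fi24P.comG.map Φ.toMonoidHom).index = 2 :=
    (Subgroup.index_map_equiv _ Φ).trans CfsgLib.Fi24P.com_index
  refine Subgroup.eq_of_le_of_card_ge hle (le_of_eq ?_)
  have e1 := G₀.card_mul_index
  have e2 := (CfsgLib.Fi24P.comG.map Φ.toMonoidHom).card_mul_index
  rw [hi] at e1
  rw [h2] at e2
  omega

/-- Let G be a finite group of Monster type at the involution z with Q the extraspecial normal subgroup of order 2^25 of C_G(z) (C_G(z)/Q identified with the first Conway group with Q modulo its centre the Leech lattice modulo 2, z not weakly closed in Q). Let s be a conjugate of z (in G) lying in Q and other than z, and Y a subgroup of order 3 of the joint centralizer of z and s lying in the centre of some Sylow 3-subgroup of it. Then the centralizer of Y is quasisimple, its quotient by Y is isomorphic to the commutator subgroup of the presented Fischer group Fi₂₄, and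 the normalizer of Y modulo Y is generated by a conjugacy class of 3-transpositions with respect to which it is of type M(24). -/
theorem result {G : Type*} [Group G] [Finite G] (z : G) (Q : Subgroup (Subgroup.centralizer ({z} : Set G))) [Q.Normal] (hM : Cfsg.IsOfMonsterType z Q) (s : G) (hsQ : ∃ hsc : s ∈ Subgroup.centralizer ({z} : Set G), (⟨s, hsc⟩ : Subgroup.centralizer ({z} : Set G)) ∈ Q) (hs : IsConj z s) (hs1 : s ≠ z) (Y : Subgroup G) (hY : Y ≤ Subgroup.centralizer ({z, s} : Set G)) (hY3 : Nat.card Y = 3) (hc : ∃ P : Sylow 3 ↥(Subgroup.centralizer ({z, s} : Set G)), Y.subgroupOf (Subgroup.centralizer ({z, s} : Set G)) ≤ (Subgroup.center ↥(P : Subgroup ↥(Subgroup.centralizer ({z, s} : Set G)))).map (P : Subgroup ↥(Subgroup.centralizer ({z, s} : Set G))).subtype) [hn : (Y.subgroupOf (Subgroup.centralizer (Y : Set G))).Normal] [hn' : (Y.subgroupOf (Subgroup.normalizer (Y : Set G))).Normal] : Cfsg.IsQuasisimple ↥(Subgroup.centralizer (Y : Set G)) ∧ Cfsg.Spor.IsoFi24' (↥(Subgroup.centralizer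 (Y : Set G)) ⧸ Y.subgroupOf (Subgroup.centralizer (Y : Set G))) ∧ ∃ E : Set (↥(Subgroup.normalizer (Y : Set G)) ⧸ Y.subgroupOf (Subgroup.normalizer (Y : Set G))), Cfsg.IsThreeTranspositionClass E ∧ Cfsg.IsOfTypeM24 _ E := by
  classical
  obtain ⟨hsc, hsQ'⟩ := hsQ
  obtain ⟨P, hP⟩ := hc
  obtain ⟨e, ψ, x, D, c, hcc, hcs⟩ := exists_central_data hM (mem_qG_iff.2 ⟨hsc, hsQ'⟩) hs hs1 hY hY3 P hP
    exists_inverting
  obtain ⟨z₀, Q₀, hQn, hT, hFX⟩ := ext_setting D hcc hcs
  have hidx := range_index D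
  obtain ⟨Φ⟩ := CfsgLib.LargeFischer.Ext.exists_iso hidx z₀ Q₀ hT hFX
  set H := Subgroup.centralizer (Y : Set G)
  have hcom := com_map Φ hidx
  let ι : ↥H ⧸ Y.subgroupOf H ≃* ↥CfsgLib.Fi24P.comG :=
    ((QuotientGroup.quotientMulEquivOfEq toNQ_ker.symm).trans (QuotientGroup.quotientKerEquivRange (toNQ Y))).trans
      ((MulEquiv.subgroupCongr hcom.symm).trans (Φ.subgroupMap CfsgLib.Fi24P.comG).symm)
  haveI := CfsgLib.Fi24P.com_simple
  haveI hsimple : IsSimpleGroup (↥H ⧸ Y.subgroupOf H) := ι.isSimpleGroup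
  refine ⟨?_, ⟨ι⟩, CfsgLib.LargeFischer.Ext.type_of_iso Φ⟩
  · let p : ↥H →* ↥H ⧸ Y.subgroupOf H := QuotientGroup.mk' _
    have hp : Function.Surjective p := QuotientGroup.mk'_surjective _
    obtain ⟨hzH, Qb, hQbn, hset, -⟩ := quot_setting (w := 6) (by norm_num) D fixBasis toInd
      toInd_surjective (fun h => toInd_eq_one_iff) (fun h hh hb => faith hh hb) pCore_ind hcc hcs
    have hnab : ¬ ∀ a b : ↥H ⧸ Y.subgroupOf H, a * b = b * a := fun hab => by
      obtain ⟨-, -, -, -, g, -, hg⟩ := hset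
      exact hg (by rw [hab g, mul_inv_cancel_right])
    have hcen : Subgroup.center (↥H ⧸ Y.subgroupOf H) = ⊥ :=
      ((inferInstance : (Subgroup.center (↥H ⧸ Y.subgroupOf H)).Normal).eq_bot_or_eq_top).resolve_right fun h =>
        hnab fun a b => Subgroup.mem_center_iff.1 (h ▸ Subgroup.mem_top b) a
    have hperfQ : commutator (↥H ⧸ Y.subgroupOf H) = ⊤ :=
      ((inferInstance : (commutator (↥H ⧸ Y.subgroupOf H)).Normal).eq_bot_or_eq_top).resolve_left fun h =>
        hnab fun a b => commutatorElement_eq_one_iff_mul_comm.1 (Subgroup.mem_bot.1 (h ▸ (by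
          rw [commutator_def]; exact Subgroup.commutator_mem_commutator (Subgroup.mem_top a) (Subgroup.mem_top b))))
    have hperf : commutator ↥H = ⊤ := by
      refine eq_top_iff.2 fun g _ => ?_
      obtain ⟨k, hk, hkg⟩ : p g ∈ (commutator ↥H).map p := by
        rw [commutator_def, Subgroup.map_commutator, Subgroup.map_top_of_surjective p hp, ← commutator_def, hperfQ]
        exact Subgroup.mem_top _
      have h2 : ((k⁻¹ * g : ↥H) : G) ∈ Y := Subgroup.mem_subgroupOf.1 (QuotientGroup.eq.1 hkg)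
      obtain ⟨u, hu, hue⟩ := le_commutator D h2
      have := mul_mem hk ((Subtype.ext hue : u = k⁻¹ * g) ▸ hu)
      rwa [mul_inv_cancel_left] at this
    refine (CfsgLib.M24.quasisimple_of_surjective ⟨hperf⟩ p hp ?_ hcen).1
    intro k hk
    rw [QuotientGroup.ker_mk', Subgroup.mem_subgroupOf] at hk
    exact Subgroup.mem_center_iff.2 fun g => Subtype.ext (Subgroup.mem_centralizer_iff.1 g.2 _ hk).symm

end Cfsg.Agent.S5461
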