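import Cfsg.Statements.S5463
import Cfsg.Agent.Lib.ThreeTransp.M22Factor

set_option autoImplicit false
open Cfsg

namespace Cfsg.Agent.S5463

/-- Let G be a finite group with trivial centre generated by a conjugation-invariant set D of 3-transpositions on which it acts primitively, such that for some d in D the subgroup generated by the members of D other than d commuting with d has central largest normal 2- and 3-subgroups, and suppose G with D is of type M(22). A product j of two distinct commuting members of D determines the pair: any two 2-element sets of commuting members of D with product j coincide. A product j of three distinct pairwise commuting members of D arises from exactly two such 3-element sets. -/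
theorem result {G : Type*} [Group G] [Finite G] {D : Set G} (hD : Cfsg.IsThreeTranspositionGroup D) (hprim : Cfsg.IsPrimitiveUnderConj D) (d₀ : G) (hd₀ : d₀ ∈ D) (h3 : Cfsg.pCore 3 ↥(Subgroup.closure {y : G | y ∈ D ∧ y ≠ d₀ ∧ Commute d₀ y}) ≤ Subgroup.center ↥(Subgroup.closure {y : G | y ∈ D ∧ y ≠ d₀ ∧ Commute d₀ y})) (h2 : Cfsg.pCore 2 ↥(Subgroup.closure {y : G | y ∈ D ∧ y ≠ d₀ ∧ Commute d₀ y}) ≤ Subgroup.center ↥(Subgroup.closure {y : G | y ∈ D ∧ y ≠ d₀ ∧ Commute d₀ y})) (h22 : Cfsg.IsOfTypeM22 G D) : (∀ (j : G) (l l' : List G), (l.Nodup ∧ l.length = 2 ∧ (∀ a ∈ l, a ∈ D) ∧ (∀ a ∈ l, ∀ b ∈ l, Commute a b) ∧ l.prod = j) → (l'.Nodup ∧ l'.length = 2 ∧ (∀ a ∈ l', a ∈ D) ∧ (∀ a ∈ l', ∀ b ∈ l', Commute a b) ∧ l'.prod = j) → (∀ x : G, x ∈ l ↔ x ∈ l')) ∧ ∀ (j : G) (l₀ : List G), (l₀.Nodup ∧ l₀.length = 3 ∧ (∀ a ∈ l₀, a ∈ D) ∧ (∀ a ∈ l₀, ∀ b ∈ l₀, Commute a b) ∧ l₀.prod = j) → ∃ l₁ l₂ : List G, (l₁.Nodup ∧ l₁.length = 3 ∧ (∀ a ∈ l₁,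 a ∈ D) ∧ (∀ a ∈ l₁, ∀ b ∈ l₁, Commute a b) ∧ l₁.prod = j) ∧ (l₂.Nodup ∧ l₂.length = 3 ∧ (∀ a ∈ l₂, a ∈ D) ∧ (∀ a ∈ l₂, ∀ b ∈ l₂, Commute a b) ∧ l₂.prod = j) ∧ ¬ (∀ x : G, x ∈ l₁ ↔ x ∈ l₂) ∧ ∀ l : List G, (l.Nodup ∧ l.length = 3 ∧ (∀ a ∈ l, a ∈ D) ∧ (∀ a ∈ l, ∀ b ∈ l, Commute a b) ∧ l.prod = j) → ((∀ x : G, x ∈ l ↔ x ∈ l₁) ∨ (∀ x : G, x ∈ l ↔ x ∈ l₂)) := by
  have S := CfsgLib.M22.Setup.of_group hD hprim h22
  obtain ⟨F, _, _, hF, hM⟩ := S.exists_models
  refine ⟨fun j l l' hl hl' => ?_, fun j l₀ hl₀ => ?_⟩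
  · obtain ⟨hn, hlen, hmem, hcom, hp⟩ := hl
    obtain ⟨hn', hlen', hmem', hcom', hp'⟩ := hl'
    obtain ⟨a, b, rfl⟩ := List.length_eq_two.1 hlen
    obtain ⟨c, d, rfl⟩ := List.length_eq_two.1 hlen'
    simp only [List.prod_cons, List.prod_nil, mul_one] at hp hp'
    simp only [List.nodup_cons, List.mem_cons, List.not_mem_nil, or_false, List.nodup_nil, and_true,
      not_false_eq_true] at hn hn'
    rcases CfsgLib.M22.pair_unique S hF hM (hmem a (by simp)) (hmem b (by simp)) (hmem' c (by simp))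
      (hmem' d (by simp)) hn hn' (hcom a (by simp) b (by simp)) (hcom' c (by simp) d (by simp))
      (hp.trans hp'.symm) with ⟨rfl, rfl⟩ | ⟨rfl, rfl⟩
    · exact fun x => Iff.rfl
    · intro x; simp only [List.mem_cons, List.not_mem_nil, or_false]; tauto
  · have key : ∀ l : List G, l.Nodup → l.length = 3 → (∀ a ∈ l, a ∈ D) →
        (∀ a ∈ l, ∀ b ∈ l, Commute a b) → ∃ a b c, l = [a, b, c] ∧ CfsgLib.M22.Tri D a b c := by
      intro l hn hlen hmem hcom
      obtain ⟨a, b, c, rfl⟩ := List.length_eq_three.1 hlen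
      simp only [List.nodup_cons, List.mem_cons, List.not_mem_nil, or_false, not_or, List.nodup_nil, and_true,
        not_false_eq_true] at hn
      exact ⟨a, b, c, rfl, hmem a (by simp), hmem b (by simp), hmem c (by simp), hn.1.1, hn.1.2, hn.2,
        hcom a (by simp) b (by simp), hcom a (by simp) c (by simp), hcom b (by simp) c (by simp)⟩
    obtain ⟨hn, hlen, hmem, hcom, hp⟩ := hl₀
    obtain ⟨a, b, c, rfl, T⟩ := key l₀ hn hlen hmem hcom
    obtain ⟨p, q, r, T', hpqr, hne, hall⟩ := CfsgLib.M22.exists_partner_triple S hF hM T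
    simp only [List.prod_cons, List.prod_nil, mul_one, ← mul_assoc] at hp
    refine ⟨[a, b, c], [p, q, r], ⟨hn, hlen, hmem, hcom, ?_⟩, ⟨?_, rfl, ?_, ?_, ?_⟩, hne, ?_⟩
    · simp only [List.prod_cons, List.prod_nil, mul_one, ← mul_assoc]; exact hp
    · simp [T'.ab, T'.ac, T'.bc]
    · intro x hx
      simp only [List.mem_cons, List.not_mem_nil, or_false] at hx
      rcases hx with rfl | rfl | rfl
      exacts [T'.ha, T'.hb, T'.hc]
    · intro x hx y hy
      simp only [List.mem_cons, List.not_mem_nil, or_false] at hx hy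
      rcases hx with rfl | rfl | rfl <;> rcases hy with rfl | rfl | rfl
      exacts [Commute.refl _, T'.cab, T'.cac, T'.cab.symm, Commute.refl _, T'.cbc, T'.cac.symm, T'.cbc.symm,
        Commute.refl _]
    · simp only [List.prod_cons, List.prod_nil, mul_one, ← mul_assoc]; exact hpqr.trans hp
    · intro l hl
      obtain ⟨hn₁, hlen₁, hmem₁, hcom₁, hp₁⟩ := hl
      obtain ⟨d, e, f, rfl, T₁⟩ := key l hn₁ hlen₁ hmem₁ hcom₁
      simp only [List.prod_cons, List.prod_nil, mul_one, ← mul_assoc] at hp₁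
      exact hall d e f T₁ (hp₁.trans hp.symm)

end Cfsg.Agent.S5463
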