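import Cfsg.Statements.S5464
import Cfsg.Agent.Lib.ThreeTransp.Factor.Types

set_option autoImplicit false
open Cfsg
open CfsgLib.ThreeTransp.Factor

namespace Cfsg.Agent.S5464

/-- Let G be a finite group with trivial centre generated by a conjugation-invariant set D of 3-transpositions on which it acts primitively, such that for some d in D the subgroup generated by the members of D other than d commuting with d has central largest normal 2- and 3-subgroups, and suppose G with D is of type M(23) or of type M(24). Then for m ≤ 3, a product of m distinct pairwise commuting members of D determines the set of factors: any two m-element sets of pairwise commuting members of D with the same product coincide. -/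
theorem result {G : Type*} [Group G] [Finite G] {D : Set G} (hD : Cfsg.IsThreeTranspositionGroup D) (hprim : Cfsg.IsPrimitiveUnderConj D) (d₀ : G) (hd₀ : d₀ ∈ D) (h3 : Cfsg.pCore 3 ↥(Subgroup.closure {y : G | y ∈ D ∧ y ≠ d₀ ∧ Commute d₀ y}) ≤ Subgroup.center ↥(Subgroup.closure {y : G | y ∈ D ∧ y ≠ d₀ ∧ Commute d₀ y})) (h2 : Cfsg.pCore 2 ↥(Subgroup.closure {y : G | y ∈ D ∧ y ≠ d₀ ∧ Commute d₀ y}) ≤ Subgroup.center ↥(Subgroup.closure {y : G | y ∈ D ∧ y ≠ d₀ ∧ Commute d₀ y})) (h : Cfsg.IsOfTypeM23 G D ∨ Cfsg.IsOfTypeM24 G D) (m : ℕ) (hm : m ≤ 3) (j : G) (l l' : List G) (hl : (l.Nodup ∧ l.length = m ∧ (∀ a ∈ l, a ∈ D) ∧ (∀ a ∈ l, ∀ b ∈ l, Commute a b) ∧ l.prod = j)) (hl' : (l'.Nodup ∧ l'.length = m ∧ (∀ a ∈ l', a ∈ D) ∧ (∀ a ∈ l', ∀ b ∈ l', Commute a b) ∧ l'.prod = j)) : (∀ x : G, x ∈ l ↔ x ∈ l') := by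
  obtain ⟨hP, htf⟩ : PrimHyp D ∧ (TFTwo D ∨ TFThree D) := by
    rcases h with h | h
    · obtain ⟨h1, -, h'⟩ := m23_facts hD hprim h
      exact ⟨h1, Or.inl h'⟩
    · obtain ⟨h1, -, h'⟩ := m24_facts hD hprim hd₀ h2 h3 h
      exact ⟨h1, Or.inr h'⟩
  obtain ⟨hnd, hlen, hmem, hcomm, hprod⟩ := hl
  obtain ⟨hnd', hlen', hmem', hcomm', hprod'⟩ := hl'
  match l, l', hlen, hlen', hm with
  | [], [], _, _, _ => exact fun _ => Iff.rfl
  | [a], [p], _, _, _ =>
    intro x
    have : a = p := by simp at hprod hprod'; rw [hprod, hprod']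
    rw [this]
  | [a, b], [p, q], _, _, _ =>
    intro x
    simp only [List.nodup_cons, List.mem_cons, List.not_mem_nil, or_false] at hnd hnd'
    rcases CfsgLib.ThreeTransp.Factor.pair_unique hP.ttc.tt hP.twinFree
      (hmem a (by simp)) (hmem b (by simp)) (hmem' p (by simp)) (hmem' q (by simp))
      (hcomm a (by simp) b (by simp)) (hcomm' p (by simp) q (by simp)) hnd.1 hnd'.1
      (by simpa using hprod.trans hprod'.symm) with ⟨e1, e2⟩ | ⟨e1, e2⟩
    · rw [e1, e2]
    · rw [e1, e2]; simp [or_comm]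
  | [a, b, c], [p, q, r], _, _, _ =>
    intro x
    simp only [List.nodup_cons, List.mem_cons, List.not_mem_nil, or_false, not_or] at hnd hnd'
    have T : CfsgLib.ThreeTransp.Factor.Tri D a b c j :=
      ⟨hmem a (by simp), hmem b (by simp), hmem c (by simp), hcomm a (by simp) b (by simp),
        hcomm a (by simp) c (by simp), hcomm b (by simp) c (by simp), hnd.1.1, hnd.1.2, hnd.2.1,
        by simpa [mul_assoc] using hprod⟩
    have T' : CfsgLib.ThreeTransp.Factor.Tri D p q r j :=
      ⟨hmem' p (by simp), hmem' q (by simp), hmem' r (by simp), hcomm' p (by simp) q (by simp),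
        hcomm' p (by simp) r (by simp), hcomm' q (by simp) r (by simp), hnd'.1.1, hnd'.1.2, hnd'.2.1,
        by simpa [mul_assoc] using hprod'⟩
    have key : ∀ {u v w a' b' c' : G}, CfsgLib.ThreeTransp.Factor.Tri D u v w j →
        CfsgLib.ThreeTransp.Factor.Tri D a' b' c' j →
        ∀ y, (y = u ∨ y = v ∨ y = w) → (y = a' ∨ y = b' ∨ y = c') := by
      intro u v w a' b' c' U U' y hy
      rcases hy with rfl | rfl | rfl
      · exact U.mem_of_prod_eq hP.ttc.tt hP.twinFree htf U'
      · exact U.rot.mem_of_prod_eq hP.ttc.tt hP.twinFree htf U'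
      · exact U.rot.rot.mem_of_prod_eq hP.ttc.tt hP.twinFree htf U'
    simp only [List.mem_cons, List.not_mem_nil, or_false]
    exact ⟨key T T' x, key T' T x⟩
  | _ :: _ :: _ :: _ :: _, _, hlen, _, hm =>
    simp at hlen; omega
  | [], _ :: _, hlen, hlen', _ => simp at hlen hlen'; omega
  | [_], [], hlen, hlen', _ => simp at hlen hlen'; omega
  | [_], _ :: _ :: _, hlen, hlen', _ => simp at hlen hlen'; omega
  | [_, _], [], hlen, hlen', _ => simp at hlen hlen'; omega
  | [_, _], [_], hlen, hlen', _ => simp at hlen hlen'; omega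
  | [_, _], _ :: _ :: _ :: _, hlen, hlen', _ => simp at hlen hlen'; omega
  | [_, _, _], [], hlen, hlen', _ => simp at hlen hlen'; omega
  | [_, _, _], [_], hlen, hlen', _ => simp at hlen hlen'; omega
  | [_, _, _], [_, _], hlen, hlen', _ => simp at hlen hlen'; omega
  | [_, _, _], _ :: _ :: _ :: _ :: _, hlen, hlen', _ => simp at hlen hlen'; omega

end Cfsg.Agent.S5464
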