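import Cfsg.Statements.S5465
import Cfsg.Agent.Lib.ThreeTransp.M24Pair
import Cfsg.Agent.Lib.ThreeTransp.M22Y332.Iso
import Cfsg.Agent.Lib.ThreeTransp.M22PairAutFinal
import Cfsg.Agent.Lib.Fi22P.Out

set_option autoImplicit false
open Cfsg CfsgLib.M24 CfsgLib.ThreeTransp

namespace Cfsg.Agent.S5465

/-- Let G be a finite group with trivial centre generated by a conjugation-invariant set D of 3-transpositions on which it acts primitively, such that for some d in D the subgroup generated by the members of D other than d commuting with d has central largest normal 2- and 3-subgroups, and suppose G with D is of type M(24), and let L be the commutator subgroup of G. Let d₁, d₂ be distinct commuting members of D and j = d₁ d₂. Then K, the joint centralizer of d₁ and d₂ in L, is quasisimple, is the generalized Fitting subgroup of the centralizer of j in L, has index 2 in it and contains j, and the centralizer of j in L modulo the subgroup generated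 by j is isomorphic to the full automorphism group of the Fischer group Fi₂₂ (as presented). -/
theorem result {G : Type*} [Group G] [Finite G] {D : Set G} (hD : Cfsg.IsThreeTranspositionGroup D) (hprim : Cfsg.IsPrimitiveUnderConj D) (d₀ : G) (hd₀ : d₀ ∈ D) (h3 : Cfsg.pCore 3 ↥(Subgroup.closure {y : G | y ∈ D ∧ y ≠ d₀ ∧ Commute d₀ y}) ≤ Subgroup.center ↥(Subgroup.closure {y : G | y ∈ D ∧ y ≠ d₀ ∧ Commute d₀ y})) (h2 : Cfsg.pCore 2 ↥(Subgroup.closure {y : G | y ∈ D ∧ y ≠ d₀ ∧ Commute d₀ y}) ≤ Subgroup.center ↥(Subgroup.closure {y : G | y ∈ D ∧ y ≠ d₀ ∧ Commute d₀ y})) (h24 : Cfsg.IsOfTypeM24 G D) (L : Subgroup G) (hL : L = commutator G) (d₁ d₂ : G) (h₁ : d₁ ∈ D) (h₂ : d₂ ∈ D) (hne : d₁ ≠ d₂) (hc : Commute d₁ d₂) (K CL : Subgroup G) (hK : K = L ⊓ Subgroup.centralizer ({d₁, d₂} : Set G)) (hCL : CL = L ⊓ Subgroup.centralizer ({d₁ * d₂} : Set G)) [hn : ((Subgroup.zpowers (d₁ * d₂)).subgroupOf CL).Normal] : Cfsg.IsQuasisimple ↥K ∧ K = (Cfsg.generalizedFittingSubgroup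 ↥CL).map CL.subtype ∧ K ≤ CL ∧ (K.subgroupOf CL).index = 2 ∧ d₁ * d₂ ∈ K ∧ Nonempty (↥CL ⧸ (Subgroup.zpowers (d₁ * d₂)).subgroupOf CL ≃* MulAut Cfsg.Spor.Fi22) := by
  classical
  have S := Setup.of_group hD hprim h24 hd₀ h2 h3
  obtain ⟨φ, hφ⟩ := exists_member_sign S
  have hb : d₂ ∈ link D d₁ := ⟨h₂, fun e => hne e.symm, hc⟩
  have hLker : commutator G = φ.ker := commutator_eq_ker S.tt S.gen (fun ⦃_ _⦄ hx hy => S.cls hx hy) hφ h₁
  have hK' : K = CfsgLib.M23.pairSub D d₁ d₂ ⊓ φ.ker := by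
    rw [hK, hL, hLker, inf_comm, pair_centralizer_eq S h₁ hb]
  have hCL' : CL = evenProdCent φ d₁ d₂ := by rw [hCL, hL, hLker]; rfl
  subst hK' hCL'
  refine ⟨(pair_quasisimple S h₁ hb hφ).1, (genFitting_prodCent S h₁ hb hφ).symm, pairEven_le_prodCent S h₁ hb,
    pairEven_index S h₁ hb hφ, ⟨(CfsgLib.M23.pairSub D d₁ d₂).mul_mem (self_mem_pairSub S h₁ hb)
      (other_mem_pairSub S h₁ hb), ?_⟩, ?_⟩
  · show φ (d₁ * d₂) = 1
    rw [map_mul, hφ d₁ h₁, hφ d₂ h₂]; decide
  · have T₂ := (S.link_setup h₁).link_setup (CfsgLib.M23.pj_mem hb)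
    obtain ⟨F, _, _, hF, hM⟩ := T₂.exists_models
    obtain ⟨e, -⟩ := CfsgLib.M22.exists_fi22_iso T₂
    refine nonempty_prodCent_aut S h₁ hb hφ e ?_
    rw [Nat.card_congr (MulAut.congr e).toEquiv, Nat.card_congr e.toEquiv]
    exact CfsgLib.M22.card_mulAut_of_out T₂ hF hM e CfsgLib.Fi22P.Out.card_out

end Cfsg.Agent.S5465
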