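import Cfsg.Statements.S5466
import Cfsg.Agent.Lib.ThreeTransp.M24Setup
import Cfsg.Agent.Lib.ThreeTransp.M24TripleCent

set_option autoImplicit false
open Cfsg

namespace Cfsg.Agent.S5466

/-- Let G be a finite group with trivial centre generated by a conjugation-invariant set D of 3-transpositions on which it acts primitively, such that for some d in D the subgroup generated by the members of D other than d commuting with d has central largest normal 2- and 3-subgroups, and suppose G with D is of type M(24), and let L be the commutator subgroup of G. Let d₁, d₂, d₃ be distinct pairwise commuting members of D, j their product, E the subgroup generated by d₁ d₂ and d₁ d₃ (a four-group lying in L), CL the centralizer of j in L and K its generalized Fitting subgroup. Then K is quasisimple with centre E, K is the centralizer of E in L, K modulo E is isomorphic to the projective special unitary group of dimension 6 over the field with four elements,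 CL/K is isomorphic to the symmetric group of degree 3, and CL modulo E is isomorphic to the full automorphism group of that unitary group. -/
theorem result {G : Type*} [Group G] [Finite G] {D : Set G} (hD : Cfsg.IsThreeTranspositionGroup D) (hprim : Cfsg.IsPrimitiveUnderConj D) (d₀ : G) (hd₀ : d₀ ∈ D) (h3 : Cfsg.pCore 3 ↥(Subgroup.closure {y : G | y ∈ D ∧ y ≠ d₀ ∧ Commute d₀ y}) ≤ Subgroup.center ↥(Subgroup.closure {y : G | y ∈ D ∧ y ≠ d₀ ∧ Commute d₀ y})) (h2 : Cfsg.pCore 2 ↥(Subgroup.closure {y : G | y ∈ D ∧ y ≠ d₀ ∧ Commute d₀ y}) ≤ Subgroup.center ↥(Subgroup.closure {y : G | y ∈ D ∧ y ≠ d₀ ∧ Commute d₀ y})) (h24 : Cfsg.IsOfTypeM24 G D) (L : Subgroup G) (hL : L = commutator G) (d₁ d₂ d₃ : G) (h₁ : d₁ ∈ D) (h₂ : d₂ ∈ D) (h₃ : d₃ ∈ D) (h12 : d₁ ≠ d₂) (h13 : d₁ ≠ d₃) (h23 : d₂ ≠ d₃) (c12 : Commute d₁ d₂) (c13 : Commute d₁ d₃) (c23 : Commute d₂ d₃) (E CL K : Subgroup G) (hE : E = Subgroup.closure ({d₁ * d₂, d₁ * d₃} : Set G)) (hCL : CL = L ⊓ Subgroup.centralizer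 ({d₁ * d₂ * d₃} : Set G)) (hK : K = (Cfsg.generalizedFittingSubgroup ↥CL).map CL.subtype) : Cfsg.IsQuasisimple ↥K ∧ (Subgroup.center ↥K).map K.subtype = E ∧ K = L ⊓ Subgroup.centralizer (E : Set G) ∧ (∃ (_ : (E.subgroupOf K).Normal) (F : Type) (_ : Field F) (_ : Fintype F), Fintype.card F = 4 ∧ Nonempty (↥K ⧸ E.subgroupOf K ≃* Cfsg.PSU 6 F 2)) ∧ ∃ _ : (K.subgroupOf CL).Normal, Nonempty (↥CL ⧸ K.subgroupOf CL ≃* Equiv.Perm (Fin 3)) ∧ E ≤ CL ∧ ∃ (_ : (E.subgroupOf CL).Normal) (F : Type) (_ : Field F) (_ : Fintype F), Fintype.card F = 4 ∧ Nonempty (↥CL ⧸ E.subgroupOf CL ≃* MulAut (Cfsg.PSU 6 F 2)) := by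
  have S := CfsgLib.M24.Setup.of_type hD hprim h24
  have T : CfsgLib.M22.Tri D d₁ d₂ d₃ := ⟨h₁, h₂, h₃, h12, h13, h23, c12, c13, c23⟩
  subst hL
  obtain ⟨hqs, hcen, F, iF, iF', hF, ⟨ψ⟩⟩ := CfsgLib.M24Tri.triK_structure S T
  set K₀ := commutator G ⊓ CfsgLib.M24Tri.fixThree d₁ d₂ d₃ with hK₀
  subst hCL
  set CL := commutator G ⊓ Subgroup.centralizer ({d₁ * d₂ * d₃} : Set G) with hCL
  obtain ⟨π, hπs, hπk⟩ := CfsgLib.M24Tri.exists_perm_hom S T
  replace hπk : π.ker = K₀.subgroupOf CL := hπk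
  have hKCL : K₀ ≤ CL := fun x hx => by
    obtain ⟨hxL, hxF⟩ := Subgroup.mem_inf.1 hx
    obtain ⟨xa, xb, xc⟩ := CfsgLib.M24Tri.mem_fixThree.1 hxF
    exact Subgroup.mem_inf.2 ⟨hxL, Subgroup.mem_centralizer_singleton_iff.2 ((xa.mul_right xb).mul_right xc).eq⟩
  set N := K₀.subgroupOf CL with hN
  haveI hNn : N.Normal := by rw [← hπk]; infer_instance
  let e : ↥N ≃* ↥K₀ := Subgroup.subgroupOfEquivOfLe hKCL
  have hNq : Cfsg.IsQuasisimple ↥N := by
    haveI := hqs.1
    haveI := hqs.2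
    haveI := (CfsgLib.M23.centralQuotEquiv e).toEquiv.nontrivial
    exact ⟨Group.IsPerfect.ofSurjective (f := e.symm.toMonoidHom) e.symm.surjective,
      IsSimpleGroup.isSimpleGroup_of_surjective (CfsgLib.M23.centralQuotEquiv e).symm.toMonoidHom
        (CfsgLib.M23.centralQuotEquiv e).symm.surjective⟩
  have hKE : K₀ = commutator G ⊓ Subgroup.centralizer (E : Set G) := by
    rw [hE]; exact CfsgLib.M24Tri.triK_eq S T
  have hEK : E ≤ K₀ := by rw [hE, ← hcen]; exact Subgroup.map_subtype_le _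
  have hC : Subgroup.centralizer (N : Set ↥CL) ≤ N := by
    intro x hx
    rw [hN, Subgroup.mem_subgroupOf, hKE]
    refine Subgroup.mem_inf.2 ⟨(Subgroup.mem_inf.1 x.2).1, Subgroup.mem_centralizer_iff.2 fun y hy => ?_⟩
    exact congrArg Subtype.val (Subgroup.mem_centralizer_iff.1 hx ⟨y, hKCL (hEK hy)⟩ (hEK hy))
  have hFit := CfsgLib.M24Tri.genFitting_eq_of_quasisimple N hNq hC
  have hKK : K = K₀ := by
    rw [hK, hFit, hN, Subgroup.map_subgroupOf_eq_of_le hKCL]
  subst hKK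
  clear hK
  have hmem : ∀ (x : ↥K₀), x ∈ E.subgroupOf K₀ ↔ x ∈ Subgroup.center ↥K₀ := fun x => by
    rw [Subgroup.mem_subgroupOf, hE, ← hcen]
    exact ⟨fun ⟨y, hy, hyx⟩ => Subtype.ext hyx ▸ hy, fun hx => ⟨x, hx, rfl⟩⟩
  have hEeq : E.subgroupOf K₀ = Subgroup.center ↥K₀ := Subgroup.ext hmem
  have hnE : (E.subgroupOf K₀).Normal := by rw [hEeq]; infer_instance
  refine ⟨hqs, hcen.trans hE.symm, hKE, ⟨hnE, F, iF, iF', hF, ⟨(QuotientGroup.quotientMulEquivOfEq hEeq).trans ψ⟩⟩,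
    hNn, ⟨(QuotientGroup.quotientMulEquivOfEq hπk.symm).trans
      (QuotientGroup.quotientKerEquivOfSurjective π hπs)⟩, hEK.trans hKCL, ?_⟩
  -- conjugation on the central quotient
  haveI := hNq.1
  let ψN : ↥N ⧸ Subgroup.center ↥N ≃* Cfsg.PSU 6 F 2 := (CfsgLib.M23.centralQuotEquiv e).trans ψ
  let Φ : ↥CL →* MulAut (Cfsg.PSU 6 F 2) :=
    (MulAut.congr ψN).toMonoidHom.comp (CfsgLib.M24Tri.conjCentral N)
  have hker : Φ.ker = E.subgroupOf CL := by
    have h1 : Φ.ker = (CfsgLib.M24Tri.conjCentral N).ker := by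
      ext x
      show MulAut.congr ψN (CfsgLib.M24Tri.conjCentral N x) = 1 ↔ _
      rw [map_eq_one_iff _ (MulAut.congr ψN).injective, MonoidHom.mem_ker]
    rw [h1, CfsgLib.M24Tri.ker_conjCentral N hC]
    ext x
    rw [Subgroup.mem_subgroupOf]
    constructor
    · rintro ⟨z, hz, rfl⟩
      have hz' : e z ∈ Subgroup.center ↥K₀ := Subgroup.mem_center_iff.2 fun k => by
        obtain ⟨y, rfl⟩ := e.surjective k
        rw [← map_mul, ← map_mul, Subgroup.mem_center_iff.1 hz y]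
      exact (hmem _).2 hz'
    · intro hx
      refine ⟨e.symm ⟨x, hEK hx⟩, Subgroup.mem_center_iff.2 fun y => e.injective ?_, rfl⟩
      rw [map_mul, map_mul, e.apply_symm_apply, Subgroup.mem_center_iff.1 ((hmem _).1 hx) (e y)]
  have hn : (E.subgroupOf CL).Normal := by rw [← hker]; infer_instance
  have hsurj : Function.Surjective Φ := by
    haveI : Finite (MulAut (Cfsg.PSU 6 F 2)) := Finite.of_injective (fun f => (f : _ → _)) DFunLike.coe_injective
    haveI : Fact (Nat.Prime 2) := ⟨Nat.prime_two⟩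
    have hA := CfsgLib.Classical.AutOrder.card_mulaut_psu (K := F) 2 1 le_rfl (q := 2) (by norm_num)
      (by rw [hF]; norm_num) 6 (by norm_num) (by norm_num)
    rw [show Nat.gcd 6 (2 + 1) = 3 by decide] at hA
    have hQ : Nat.card (↥K₀ ⧸ E.subgroupOf K₀) = Nat.card (Cfsg.PSU 6 F 2) :=
      Nat.card_congr ((QuotientGroup.quotientMulEquivOfEq hEeq).trans ψ).toEquiv
    have hCLc := Subgroup.card_eq_card_quotient_mul_card_subgroup (K₀.subgroupOf CL)
    rw [Nat.card_congr ((QuotientGroup.quotientMulEquivOfEq hπk.symm).trans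
      (QuotientGroup.quotientKerEquivOfSurjective π hπs)).toEquiv, Nat.card_perm, Nat.card_fin,
      Nat.card_congr (Subgroup.subgroupOfEquivOfLe hKCL).toEquiv,
      Subgroup.card_eq_card_quotient_mul_card_subgroup (E.subgroupOf K₀), hQ,
      Nat.card_congr (Subgroup.subgroupOfEquivOfLe hEK).toEquiv] at hCLc
    have hr := Subgroup.card_eq_card_quotient_mul_card_subgroup Φ.ker
    rw [Nat.card_congr (QuotientGroup.quotientKerEquivRange Φ).toEquiv, hker,
      Nat.card_congr (Subgroup.subgroupOfEquivOfLe (hEK.trans hKCL)).toEquiv, hCLc] at hr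
    refine MonoidHom.range_eq_top.1 (Subgroup.eq_top_of_card_eq _ ?_)
    rw [hA]
    refine Nat.eq_of_mul_eq_mul_right (Nat.card_pos (α := ↥E)) ?_
    rw [← hr, show Nat.factorial 3 = 6 from rfl]
    ring
  exact ⟨hn, F, iF, iF', hF, ⟨(QuotientGroup.quotientMulEquivOfEq hker.symm).trans
    (QuotientGroup.quotientKerEquivOfSurjective Φ hsurj)⟩⟩

end Cfsg.Agent.S5466
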