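import Cfsg.Statements.S5467
import Cfsg.Agent.Lib.ThreeTransp.M24Quad.Structure
import Cfsg.Agent.Lib.ThreeTransp.M24Setup

set_option autoImplicit false
open Cfsg

namespace Cfsg.Agent.S5467

/-- Let G be a finite group with trivial centre generated by a conjugation-invariant set D of 3-transpositions on which it acts primitively, such that for some d in D the subgroup generated by the members of D other than d commuting with d has central largest normal 2- and 3-subgroups, and suppose G with D is of type M(24), and let L be the commutator subgroup of G. Let z be the product of four distinct pairwise commuting members of D (an involution of L) and C its centralizer in L. Then the generalized Fitting subgroup Q of C is extraspecial of order 2^13, and C has normal subgroups Q ≤ N ≤ M with N/Q of order 3, M/N isomorphic to the projective special unitary group of dimension 4 over the field with nine elements, and M of index 2 in C. -/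
theorem result {G : Type*} [Group G] [Finite G] {D : Set G} (hD : Cfsg.IsThreeTranspositionGroup D) (hprim : Cfsg.IsPrimitiveUnderConj D) (d₀ : G) (hd₀ : d₀ ∈ D) (h3 : Cfsg.pCore 3 ↥(Subgroup.closure {y : G | y ∈ D ∧ y ≠ d₀ ∧ Commute d₀ y}) ≤ Subgroup.center ↥(Subgroup.closure {y : G | y ∈ D ∧ y ≠ d₀ ∧ Commute d₀ y})) (h2 : Cfsg.pCore 2 ↥(Subgroup.closure {y : G | y ∈ D ∧ y ≠ d₀ ∧ Commute d₀ y}) ≤ Subgroup.center ↥(Subgroup.closure {y : G | y ∈ D ∧ y ≠ d₀ ∧ Commute d₀ y})) (h24 : Cfsg.IsOfTypeM24 G D) (L : Subgroup G) (hL : L = commutator G) (z : G) (l : List G) (hl : (l.Nodup ∧ l.length = 4 ∧ (∀ a ∈ l, a ∈ D) ∧ (∀ a ∈ l, ∀ b ∈ l, Commute a b) ∧ l.prod = z)) (C : Subgroup G) (hC : C = L ⊓ Subgroup.centralizer ({z} : Set G)) : ∃ (Q : Subgroup ↥C) (_ : Q.Normal), Cfsg.generalizedFittingSubgroup ↥C = Q ∧ Cfsg.IsExtraspecial 2 ↥Q ∧ Nat.card Q = 2 ^ 13 ∧ ∃ (N M : Subgroup ↥C) (_ : N.Normal) (_ : M.Normal), Q ≤ N ∧ N ≤ M ∧ Nat.card N = 3 * Nat.card Q ∧ (∃ (K : Type) (_ : Field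 K) (_ : Fintype K), Fintype.card K = 9 ∧ Nonempty (↥M ⧸ N.subgroupOf M ≃* Cfsg.PSU 4 K 3)) ∧ M.index = 2 := by
  classical
  have S := CfsgLib.M24.Setup.of_type hD hprim h24
  obtain ⟨hnd, hlen, hmem, hcomm, hprod⟩ := hl
  obtain ⟨a, b, c, d, rfl⟩ : ∃ a b c d, l = [a, b, c, d] := by
    match l, hlen with
    | [a, b, c, d], _ => exact ⟨a, b, c, d, rfl⟩
  simp only [List.nodup_cons, List.mem_cons, List.not_mem_nil, or_false, not_or] at hnd
  obtain ⟨⟨ab, ac, ad⟩, ⟨bc, bd⟩, cd, -⟩ := hnd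
  have U : CfsgLib.M24.Quad D a b c d :=
    ⟨⟨hmem a (by simp), hmem b (by simp), hmem c (by simp), ab, ac, bc, hcomm a (by simp) b (by simp),
      hcomm a (by simp) c (by simp), hcomm b (by simp) c (by simp)⟩,
      ⟨⟨hmem d (by simp), Ne.symm ad, hcomm a (by simp) d (by simp)⟩,
        ⟨hmem d (by simp), Ne.symm bd, hcomm b (by simp) d (by simp)⟩⟩,
      ⟨hmem d (by simp), Ne.symm cd, hcomm c (by simp) d (by simp)⟩⟩
  have hz : a * b * c * d = z := by rw [← hprod]; simp [mul_assoc]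
  obtain ⟨φ, hφ⟩ := CfsgLib.M24.exists_member_sign S
  have hLφ : L = φ.ker := by
    ext g
    rw [hL, MonoidHom.mem_ker]
    exact CfsgLib.M24Tri.mem_commutator_iff S hφ
  exact CfsgLib.M24Quad.centralizer_structure S ⟨a, b, c, d, U, hz⟩ hφ C (by rw [hC, hLφ])

end Cfsg.Agent.S5467
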