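import Cfsg.Statements.S5468
import Cfsg.Agent.Lib.ThreeTransp.M23Pair

set_option autoImplicit false
open Cfsg

namespace Cfsg.Agent.S5468

/-- Let G be a finite group with trivial centre generated by a conjugation-invariant set D of 3-transpositions on which it acts primitively, such that for some d in D the subgroup generated by the members of D other than d commuting with d has central largest normal 2- and 3-subgroups, and suppose G with D is of type M(23). Let d₁, d₂ be distinct commuting members of D, j = d₁ d₂, K the joint centralizer of d₁ and d₂ and C the centralizer of j. Then K has index 2 in C, the centre of K is the subgroup generated by d₁ and d₂, K is quasisimple with K modulo its centre isomorphic to the projective special unitary group of dimension 6 over the field with four elements, and C modulo the subgroup generated by d₁ and d₂ has trivial centre (so it is that unitary group extended by an outer involution). -/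
theorem result {G : Type*} [Group G] [Finite G] {D : Set G} (hD : Cfsg.IsThreeTranspositionGroup D) (hprim : Cfsg.IsPrimitiveUnderConj D) (d₀ : G) (hd₀ : d₀ ∈ D) (h3 : Cfsg.pCore 3 ↥(Subgroup.closure {y : G | y ∈ D ∧ y ≠ d₀ ∧ Commute d₀ y}) ≤ Subgroup.center ↥(Subgroup.closure {y : G | y ∈ D ∧ y ≠ d₀ ∧ Commute d₀ y})) (h2 : Cfsg.pCore 2 ↥(Subgroup.closure {y : G | y ∈ D ∧ y ≠ d₀ ∧ Commute d₀ y}) ≤ Subgroup.center ↥(Subgroup.closure {y : G | y ∈ D ∧ y ≠ d₀ ∧ Commute d₀ y})) (h23 : Cfsg.IsOfTypeM23 G D) (d₁ d₂ : G) (h₁ : d₁ ∈ D) (h₂ : d₂ ∈ D) (hne : d₁ ≠ d₂) (hc : Commute d₁ d₂) (K C V : Subgroup G) (hK : K = Subgroup.centralizer ({d₁, d₂} : Set G)) (hC : C = Subgroup.centralizer ({d₁ * d₂} : Set G)) (hV : V = Subgroup.closure ({d₁, d₂} : Set G)) [hn : (V.subgroupOf C).Normal] : K ≤ C ∧ (K.subgroupOf C).index = 2 ∧ (Subgroup.center ↥K).map K.subtype = V ∧ Cfsg.IsQuasisimple ↥K ∧ (∃ (F : Type) (_ : Field F) (_ : Fintype F), Fintype.card F = 4 ∧ Nonempty (↥K ⧸ Subgroup.center ↥K ≃* Cfsg.PSU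 6 F 2)) ∧ Subgroup.center (↥C ⧸ V.subgroupOf C) = ⊥ := by
  have S := CfsgLib.M23.Setup.of_group hD hprim h23
  have hb : d₂ ∈ CfsgLib.ThreeTransp.link D d₁ := ⟨h₂, hne.symm, hc⟩
  have hq := CfsgLib.M23.pairSub_quotient S h₁ hb
  have hK' : K = CfsgLib.M23.pairSub D d₁ d₂ := hK.trans (CfsgLib.M23.pair_centralizer_eq S h₁ hb)
  refine ⟨?_, ?_, ?_, ?_, ?_, CfsgLib.M23.pair_quotient_center S h₁ hb C V hC hV⟩
  · rw [hK', hC]
    intro y hy
    obtain ⟨y1, y2⟩ := CfsgLib.M23.pairSub_commute hy
    exact Subgroup.mem_centralizer_singleton_iff.2 (y1.mul_right y2).eq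
  · rw [hK', hC]; exact CfsgLib.M23.pair_index S h₁ hb
  · subst hK'; rw [hV]; exact CfsgLib.M23.center_pairSub S h₁ hb
  · subst hK'; exact hq.1
  · subst hK'; exact hq.2

end Cfsg.Agent.S5468
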