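import Cfsg.Statements.S5469
import Cfsg.Agent.Lib.ThreeTransp.M22PairQuot

set_option autoImplicit false
open Cfsg

namespace Cfsg.Agent.S5469

/-- Let G be a finite group with trivial centre generated by a conjugation-invariant set D of 3-transpositions on which it acts primitively, such that for some d in D the subgroup generated by the members of D other than d commuting with d has central largest normal 2- and 3-subgroups, and suppose G with D is of type M(22). Let d₁, d₂ be distinct commuting members of D, j = d₁ d₂, K the joint centralizer of d₁ and d₂, C the centralizer of j and V the subgroup generated by d₁ and d₂. Then K has index 2 in C, V is the centre of K, and C has a normal subgroup E containing V with E/V elementary abelian of order 2^8 and C/E isomorphic to the full automorphism group of the projective special unitary group of dimension 4 over the field with four elements. -/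
theorem result {G : Type*} [Group G] [Finite G] {D : Set G} (hD : Cfsg.IsThreeTranspositionGroup D) (hprim : Cfsg.IsPrimitiveUnderConj D) (d₀ : G) (hd₀ : d₀ ∈ D) (h3 : Cfsg.pCore 3 ↥(Subgroup.closure {y : G | y ∈ D ∧ y ≠ d₀ ∧ Commute d₀ y}) ≤ Subgroup.center ↥(Subgroup.closure {y : G | y ∈ D ∧ y ≠ d₀ ∧ Commute d₀ y})) (h2 : Cfsg.pCore 2 ↥(Subgroup.closure {y : G | y ∈ D ∧ y ≠ d₀ ∧ Commute d₀ y}) ≤ Subgroup.center ↥(Subgroup.closure {y : G | y ∈ D ∧ y ≠ d₀ ∧ Commute d₀ y})) (h22 : Cfsg.IsOfTypeM22 G D) (d₁ d₂ : G) (h₁ : d₁ ∈ D) (h₂ : d₂ ∈ D) (hne : d₁ ≠ d₂) (hc : Commute d₁ d₂) (K C V : Subgroup G) (hK : K = Subgroup.centralizer ({d₁, d₂} : Set G)) (hC : C = Subgroup.centralizer ({d₁ * d₂} : Set G)) (hV : V = Subgroup.closure ({d₁, d₂} : Set G)) : K ≤ C ∧ (K.subgroupOf C).index = 2 ∧ (Subgroup.center ↥K).map K.subtype = V ∧ ∃ E : Subgroup G, V ≤ E ∧ E ≤ C ∧ (∀ c ∈ C, ∀ x ∈ E, c * x * c⁻¹ ∈ E) ∧ Nat.card E = 2 ^ 10 ∧ (∀ x ∈ E, ∀ y ∈ E, x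 * y * x⁻¹ * y⁻¹ ∈ V ∧ x ^ 2 ∈ V) ∧ ∃ (_ : (E.subgroupOf C).Normal) (F : Type) (_ : Field F) (_ : Fintype F), Fintype.card F = 4 ∧ Nonempty (↥C ⧸ E.subgroupOf C ≃* MulAut (Cfsg.PSU 4 F 2)) := by
  have S := CfsgLib.M22.Setup.of_group hD hprim h22
  obtain ⟨F, _, _, hF, hM⟩ := S.exists_models
  have hb : d₂ ∈ CfsgLib.ThreeTransp.link D d₁ := ⟨h₂, hne.symm, hc⟩
  subst hK hC hV
  set C := Subgroup.centralizer ({d₁ * d₂} : Set G) with hCdef
  have hEC := CfsgLib.M22.lineKer_le_cent S hF hM h₁ hb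
  refine ⟨CfsgLib.M22.pairCent_le_cent S hF hM h₁ hb, CfsgLib.M22.pair_cent_index S hF hM h₁ hb, ?_,
    CfsgLib.M22.lineKer D S d₁ d₂, CfsgLib.M22.pair_le_lineKer S hF hM h₁ hb, hEC, ?_,
    by rw [CfsgLib.M22.card_lineKer S hF hM h₁ hb]; norm_num, ?_, ?_⟩
  · obtain ⟨A⟩ := hM d₁ h₁
    obtain ⟨u, hu⟩ := A.exists_pt_of_link S hF h₁ hb
    exact CfsgLib.M22.center_pairCent S hF hM h₁ hb
  · intro c hcC x hx
    exact CfsgLib.M22.lineKer_conj S hF hM h₁ hb (Subgroup.mem_centralizer_singleton_iff.1 hcC) hx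
  · intro x hx y hy
    obtain ⟨h1, h2⟩ := CfsgLib.M22.lineKer_special S hF hM h₁ hb hx hy
    have hle : Subgroup.zpowers (d₁ * d₂) ≤ Subgroup.closure ({d₁, d₂} : Set G) :=
      Subgroup.zpowers_le.2 (mul_mem (Subgroup.subset_closure (Set.mem_insert _ _))
        (Subgroup.subset_closure (Set.mem_insert_of_mem _ rfl)))
    exact ⟨hle h1, by rw [pow_two]; exact hle h2⟩
  · obtain ⟨θ, hθ, hker⟩ := CfsgLib.M22.exists_theta S hF hM h₁ hb
    haveI hn : ((CfsgLib.M22.lineKer D S d₁ d₂).subgroupOf C).Normal := hker ▸ θ.normal_ker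
    exact ⟨hn, F, inferInstance, inferInstance, by rw [hF]; norm_num,
      ⟨(QuotientGroup.quotientMulEquivOfEq hker.symm).trans (QuotientGroup.quotientKerEquivOfSurjective θ hθ)⟩⟩

end Cfsg.Agent.S5469
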