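import Cfsg.Statements.S5471
import Cfsg.Agent.Lib.ThreeTransp.Factor.Types

set_option autoImplicit false
open Cfsg
open CfsgLib.ThreeTransp.Factor

namespace Cfsg.Agent.S5471

/-- Let G be a finite group with trivial centre generated by a conjugation-invariant set D of 3-transpositions on which it acts primitively, such that for some d in D the subgroup generated by the members of D other than d commuting with d has central largest normal 2- and 3-subgroups, and suppose G with D is of type M(23). Let d₁, d₂, d₃ be distinct pairwise commuting members of D and j their product. Then the joint centralizer of d₁, d₂, d₃ is normal in the centralizer of j with quotient isomorphic to the symmetric group of degree 3. -/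
theorem result {G : Type*} [Group G] [Finite G] {D : Set G} (hD : Cfsg.IsThreeTranspositionGroup D) (hprim : Cfsg.IsPrimitiveUnderConj D) (d₀ : G) (hd₀ : d₀ ∈ D) (h3 : Cfsg.pCore 3 ↥(Subgroup.closure {y : G | y ∈ D ∧ y ≠ d₀ ∧ Commute d₀ y}) ≤ Subgroup.center ↥(Subgroup.closure {y : G | y ∈ D ∧ y ≠ d₀ ∧ Commute d₀ y})) (h2 : Cfsg.pCore 2 ↥(Subgroup.closure {y : G | y ∈ D ∧ y ≠ d₀ ∧ Commute d₀ y}) ≤ Subgroup.center ↥(Subgroup.closure {y : G | y ∈ D ∧ y ≠ d₀ ∧ Commute d₀ y})) (h23 : Cfsg.IsOfTypeM23 G D) (d₁ d₂ d₃ : G) (h₁ : d₁ ∈ D) (h₂ : d₂ ∈ D) (h₃ : d₃ ∈ D) (h12 : d₁ ≠ d₂) (h13 : d₁ ≠ d₃) (h23 : d₂ ≠ d₃) (c12 : Commute d₁ d₂) (c13 : Commute d₁ d₃) (c23 : Commute d₂ d₃) (K C : Subgroup G) (hK : K = Subgroup.centralizer ({d₁, d₂, d₃} : Set G)) (hC : C = Subgroup.centralizer ({d₁ * d₂ * d₃} : Set G)) : K ≤ C ∧ ∃ _ : (K.subgroupOf C).Normal, Nonempty (↥C ⧸ K.subgroupOf C ≃* Equiv.Perm (Fin 3)) := by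
  have hM : Cfsg.IsOfTypeM23 G D := by assumption
  obtain ⟨hP, -, htf⟩ := m23_facts hD hprim hM
  have hT : Tri D d₁ d₂ d₃ (d₁ * d₂ * d₃) :=
    ⟨h₁, h₂, h₃, c12, c13, c23, h12, h13, by assumption, rfl⟩
  set j := d₁ * d₂ * d₃ with hj
  subst hK hC
  let f : Fin 3 → G := ![d₁, d₂, d₃]
  have hf : Function.Injective f := by
    intro i k h
    fin_cases i <;> fin_cases k <;> simp [f] at h <;>
      first
        | rfl
        | exact absurd h hT.nab | exact absurd h.symm hT.nab
        | exact absurd h hT.nac | exact absurd h.symm hT.nac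
        | exact absurd h hT.nbc | exact absurd h.symm hT.nbc
  have hmem : ∀ g : G, Commute g j → ∀ i, ∃ k, f k = g * f i * g⁻¹ := by
    intro g hg i
    have S := hT.conj hP.ttc.tt g
    rw [hg.eq, mul_inv_cancel_right] at S
    have key : ∀ {u v w : G}, Tri D u v w j → ∃ k, f k = u := by
      intro u v w U
      rcases U.mem_of_prod_eq hP.ttc.tt hP.twinFree (Or.inl htf) hT with h | h | h
      exacts [⟨0, h.symm⟩, ⟨1, h.symm⟩, ⟨2, h.symm⟩]
    fin_cases i
    exacts [key S, key S.rot, key S.rot.rot]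
  have hcom : ∀ g : ↥(Subgroup.centralizer ({j} : Set G)), Commute (g : G) j := fun g =>
    Subgroup.mem_centralizer_singleton_iff.1 g.2
  choose σ hσ using fun g : ↥(Subgroup.centralizer ({j} : Set G)) => hmem g (hcom g)
  have hbij : ∀ g, Function.Bijective (σ g) := fun g => Finite.injective_iff_bijective.1
    fun i k h => hf (by
      have := (hσ g i).symm.trans ((congrArg f h).trans (hσ g k))
      simpa using this)
  let φ : ↥(Subgroup.centralizer ({j} : Set G)) →* Equiv.Perm (Fin 3) :=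
    MonoidHom.mk' (fun g => Equiv.ofBijective (σ g) (hbij g)) fun g k => Equiv.ext fun i => hf (by
      simp only [Equiv.ofBijective_apply, Equiv.Perm.coe_mul, Function.comp_apply]
      rw [hσ, hσ, hσ, Subgroup.coe_mul]
      group)
  have hφ : ∀ g i, f (φ g i) = (g : G) * f i * (g : G)⁻¹ := fun g i => hσ g i
  refine ⟨fun g hg => ?_, ?_⟩
  · rw [Subgroup.mem_centralizer_singleton_iff]
    have := Subgroup.mem_centralizer_iff.1 hg
    exact (((show Commute g d₁ from (this d₁ (by simp)).symm).mul_right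
      (this d₂ (by simp)).symm).mul_right (this d₃ (by simp)).symm).eq
  have hker : (Subgroup.centralizer ({d₁, d₂, d₃} : Set G)).subgroupOf
      (Subgroup.centralizer ({j} : Set G)) = φ.ker := by
    ext g
    rw [Subgroup.mem_subgroupOf, Subgroup.mem_centralizer_iff, MonoidHom.mem_ker]
    constructor
    · intro h
      refine Equiv.ext fun i => hf ?_
      rw [hφ, Equiv.Perm.one_apply]
      have : f i * g = g * f i := h _ (by fin_cases i <;> simp [f])
      rw [← this, mul_inv_cancel_right]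
    · intro h x hx
      obtain ⟨i, rfl⟩ : ∃ i, f i = x := by
        rcases hx with rfl | rfl | rfl
        exacts [⟨0, rfl⟩, ⟨1, rfl⟩, ⟨2, rfl⟩]
      have := hφ g i
      rw [h, Equiv.Perm.one_apply, eq_mul_inv_iff_mul_eq] at this
      exact this
  have hsurj : Function.Surjective φ := by
    intro s
    have S : Tri D (f (s 0)) (f (s 1)) (f (s 2)) j := by
      have hdec : ∀ x y z : Fin 3, x ≠ y → x ≠ z → y ≠ z →
          (x, y, z) = (0, 1, 2) ∨ (x, y, z) = (1, 0, 2) ∨ (x, y, z) = (1, 2, 0) ∨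
            (x, y, z) = (2, 1, 0) ∨ (x, y, z) = (2, 0, 1) ∨ (x, y, z) = (0, 2, 1) := by decide
      rcases hdec (s 0) (s 1) (s 2) (s.injective.ne (by decide)) (s.injective.ne (by decide))
        (s.injective.ne (by decide)) with h | h | h | h | h | h <;>
        simp only [Prod.mk.injEq] at h <;> rw [h.1, h.2.1, h.2.2]
      exacts [hT, hT.swap, hT.rot, hT.rot.swap, hT.rot.rot, hT.rot.rot.swap]
    obtain ⟨g, e0, e1, e2⟩ := m23_transitive hD hprim hd₀ h2 h3 hM hT S
    have hg : g ∈ Subgroup.centralizer ({j} : Set G) := by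
      rw [Subgroup.mem_centralizer_singleton_iff]
      have h := (hT.conj hP.ttc.tt g).prod
      rw [e0, e1, e2, S.prod, eq_mul_inv_iff_mul_eq] at h
      exact h.symm
    refine ⟨⟨g, hg⟩, Equiv.ext fun i => hf ?_⟩
    rw [hφ]
    fin_cases i
    exacts [e0, e1, e2]
  refine ⟨hker ▸ MonoidHom.normal_ker φ, ⟨?_⟩⟩
  haveI : ((Subgroup.centralizer ({d₁, d₂, d₃} : Set G)).subgroupOf
      (Subgroup.centralizer ({j} : Set G))).Normal := hker ▸ MonoidHom.normal_ker φ
  exact (QuotientGroup.quotientMulEquivOfEq hker).trans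
    (QuotientGroup.quotientKerEquivOfSurjective φ hsurj)

end Cfsg.Agent.S5471
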