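import Cfsg.Statements.S5472
import Cfsg.Agent.Lib.Fi22P.OutInvol.Main

set_option autoImplicit false
open Cfsg CfsgLib.Fi22P.OutInvol

namespace Cfsg.Agent.S5472

/-- Let G be a finite group with trivial centre generated by a conjugation-invariant set D of 3-transpositions on which it acts primitively, such that for some d in D the subgroup generated by the members of D other than d commuting with d has central largest normal 2- and 3-subgroups, and suppose G with D is of type M(22). Then G has a non-inner automorphism s of order 2 whose fixed-point subgroup is isomorphic to the full automorphism group of Ω⁺(8, 2) (the commutator subgroup of the isometry group of the hyperbolic quadratic form in dimension 8 over the field with two elements), together with distinct commuting members a, b of D fixed by s such that: s, s composed with conjugation by a, and s composed with conjugation by a b represent the three classes (under the automorphism group) of non-inner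 automorphisms of order 2; the elements fixed by the automorphism s composed with conjugation by a are exactly those fixed by s and commuting with a, and they form a group isomorphic to the direct product of a group of order 2 and the symplectic group of dimension 6 over the field with two elements; and the elements fixed by the automorphism s composed with conjugation by a b form a group whose largest normal 2-subgroup is elementary abelian of order 64 with quotient isomorphic to the full isometry group of the elliptic quadratic form in dimension 6 over the field with two elements. -/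
theorem result {G : Type*} [Group G] [Finite G] {D : Set G} (hD : Cfsg.IsThreeTranspositionGroup D) (hprim : Cfsg.IsPrimitiveUnderConj D) (d₀ : G) (hd₀ : d₀ ∈ D) (h3 : Cfsg.pCore 3 ↥(Subgroup.closure {y : G | y ∈ D ∧ y ≠ d₀ ∧ Commute d₀ y}) ≤ Subgroup.center ↥(Subgroup.closure {y : G | y ∈ D ∧ y ≠ d₀ ∧ Commute d₀ y})) (h2 : Cfsg.pCore 2 ↥(Subgroup.closure {y : G | y ∈ D ∧ y ≠ d₀ ∧ Commute d₀ y}) ≤ Subgroup.center ↥(Subgroup.closure {y : G | y ∈ D ∧ y ≠ d₀ ∧ Commute d₀ y})) (h22 : Cfsg.IsOfTypeM22 G D) : ∃ (s : MulAut G) (a b : G) (Cs : Subgroup G), orderOf s = 2 ∧ s ∉ (MulAut.conj : G →* MulAut G).range ∧ (∀ g : G, g ∈ Cs ↔ s g = g) ∧ Nonempty (↥Cs ≃* MulAut (Cfsg.Omega (ZMod 2) (Cfsg.quadFormPlus 4 (ZMod 2)))) ∧ a ∈ D ∧ b ∈ D ∧ a ≠ b ∧ Commute a b ∧ s a = a ∧ s b = b ∧ (∀ t : MulAut G, orderOf t = 2 → t ∉ (MulAut.conj : G →* MulAut G).range → (IsConj t s ∨ IsConj t (s * MulAut.conj a) ∨ IsConj t (s * MulAut.conj (a * b)))) ∧ ¬ IsConj s (s * MulAut.conj a) ∧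 ¬ IsConj s (s * MulAut.conj (a * b)) ∧ ¬ IsConj (s * MulAut.conj a) (s * MulAut.conj (a * b)) ∧ (∀ g : G, (s * MulAut.conj a) g = g ↔ g ∈ Cs ⊓ Subgroup.centralizer ({a} : Set G)) ∧ Nonempty (↥(Cs ⊓ Subgroup.centralizer ({a} : Set G)) ≃* Multiplicative (ZMod 2) × Cfsg.PSp 3 (ZMod 2)) ∧ ∃ Csab O : Subgroup G, (∀ g : G, g ∈ Csab ↔ (s * MulAut.conj (a * b)) g = g) ∧ O = (Cfsg.pCore 2 ↥Csab).map Csab.subtype ∧ Cfsg.IsElementaryAbelian 2 O ∧ Nat.card O = 64 ∧ ∃ _ : (O.subgroupOf Csab).Normal, Nonempty (↥Csab ⧸ O.subgroupOf Csab ≃* Cfsg.isometryGroup (ZMod 2) (Cfsg.quadFormMinus 2 (ZMod 2) 1 1)) := by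
  haveI := CfsgLib.Fi22P.OutInvol.finite_K
  have S := CfsgLib.M22.Setup.of_group hD hprim h22
  obtain ⟨e, he⟩ := CfsgLib.M22.exists_fi22_iso S
  obtain ⟨n1, n2, n3⟩ := not_conj
  refine ⟨MulAut.congr e CfsgLib.Fi22P.OutInvol.sigma, e CfsgLib.Fi22P.OutInvol.mA,
    e CfsgLib.Fi22P.OutInvol.mB, CfsgLib.Fi22P.OutInvol.CS.map e.toMonoidHom, ?_⟩
  have ea : MulAut.congr e CfsgLib.Fi22P.OutInvol.sigma * MulAut.conj (e CfsgLib.Fi22P.OutInvol.mA) = MulAut.congr e CfsgLib.Fi22P.OutInvol.sigmaA := by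
    rw [CfsgLib.Fi22P.OutInvol.sigmaA, map_mul, congr_conj]
  have eab : MulAut.congr e CfsgLib.Fi22P.OutInvol.sigma * MulAut.conj (e CfsgLib.Fi22P.OutInvol.mA * e CfsgLib.Fi22P.OutInvol.mB) = MulAut.congr e CfsgLib.Fi22P.OutInvol.sigmaAB := by
    rw [CfsgLib.Fi22P.OutInvol.sigmaAB, map_mul (MulAut.congr e), congr_conj, map_mul e]
  rw [ea, eab]
  have hCA : CfsgLib.Fi22P.OutInvol.CS.map e.toMonoidHom ⊓ Subgroup.centralizer ({e CfsgLib.Fi22P.OutInvol.mA} : Set G) =
      CfsgLib.Fi22P.OutInvol.CA.map e.toMonoidHom := by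
    ext g
    simp only [Subgroup.mem_inf, Subgroup.mem_map_equiv, CfsgLib.Fi22P.OutInvol.CA, Subgroup.mem_centralizer_singleton_iff]
    refine and_congr Iff.rfl ?_
    rw [← e.symm.injective.eq_iff, map_mul, map_mul, e.symm_apply_apply]
  refine ⟨(MulEquiv.orderOf_eq _ _).trans orderOf_sigma, fun h => ?_,
    fun g => (mem_map_fixed e CfsgLib.Fi22P.OutInvol.sigma g),
    ⟨(e.subgroupMap CfsgLib.Fi22P.OutInvol.CS).symm.trans CS_iso.some⟩, mem_D S e he _, mem_D S e he _,
    fun h => mA_ne_mB (e.injective h), commute_mA_mB.map e, ?_, ?_, fun t ht hti => ?_,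
    (congr_isConj e _ _).not.2 n1, (congr_isConj e _ _).not.2 n2, (congr_isConj e _ _).not.2 n3,
    fun g => ?_, ?_, ?_⟩
  · skip
    obtain ⟨k, hk⟩ := (congr_inner e CfsgLib.Fi22P.OutInvol.sigma).1 h
    exact sigma_outer k hk.symm
  · skip
    rw [congr_apply, e.symm_apply_apply, sigma_mA]
  · skip
    rw [congr_apply, e.symm_apply_apply, sigma_mB]
  · skip
    obtain ⟨t', rfl⟩ := (MulAut.congr e).surjective t
    rw [congr_isConj, congr_isConj, congr_isConj]
    refine classify (fixes_member S e he) (bases_count S e he) ?_ fun k hk => hti ((congr_inner e t').2 ⟨k, hk⟩)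
    rw [← pow_two]
    exact orderOf_dvd_iff_pow_eq_one.1 (dvd_of_eq ((MulEquiv.orderOf_eq (MulAut.congr e) t').symm.trans ht))
  · skip
    rw [hCA, ← mem_map_fixed, fixedBy_sigmaA]
  · skip
    rw [hCA]
    exact ⟨(e.subgroupMap CfsgLib.Fi22P.OutInvol.CA).symm.trans CA_iso.some⟩
  set E : ↥CfsgLib.Fi22P.OutInvol.CAB ≃* ↥(CfsgLib.Fi22P.OutInvol.CAB.map e.toMonoidHom) := e.subgroupMap CfsgLib.Fi22P.OutInvol.CAB with hE
  have hsub : (CfsgLib.Fi22P.OutInvol.OAB.map e.toMonoidHom).subgroupOf (CfsgLib.Fi22P.OutInvol.CAB.map e.toMonoidHom) =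
      (CfsgLib.Fi22P.OutInvol.OAB.subgroupOf CfsgLib.Fi22P.OutInvol.CAB).map E.toMonoidHom := by
    ext g
    simp only [Subgroup.mem_subgroupOf, Subgroup.mem_map_equiv]
    rfl
  have hcore : Cfsg.pCore 2 ↥(CfsgLib.Fi22P.OutInvol.CAB.map e.toMonoidHom) =
      (CfsgLib.Fi22P.OutInvol.OAB.map e.toMonoidHom).subgroupOf (CfsgLib.Fi22P.OutInvol.CAB.map e.toMonoidHom) := by
    rw [hsub, ← pCore_CAB, CfsgLib.Cores.map_pCore_equiv]
  haveI hn : ((CfsgLib.Fi22P.OutInvol.OAB.map e.toMonoidHom).subgroupOf (CfsgLib.Fi22P.OutInvol.CAB.map e.toMonoidHom)).Normal := by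
    rw [hsub, ← quot_facts.1]
    exact Subgroup.Normal.map inferInstance _ E.surjective
  refine ⟨CfsgLib.Fi22P.OutInvol.CAB.map e.toMonoidHom, CfsgLib.Fi22P.OutInvol.OAB.map e.toMonoidHom, fun g => mem_map_fixed e CfsgLib.Fi22P.OutInvol.sigmaAB g, ?_, ?_, ?_, hn, ?_⟩
  · skip
    rw [hcore, Subgroup.map_subgroupOf_eq_of_le (Subgroup.map_mono OAB_le)]
  · skip
    obtain ⟨hc, h2⟩ := OAB_elementary
    refine ⟨⟨⟨?_⟩⟩, ?_⟩
    · rintro ⟨_, x, hx, rfl⟩ ⟨_, y, hy, rfl⟩
      refine Subtype.ext ?_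
      show e x * e y = e y * e x
      rw [← map_mul, ← map_mul]
      exact congrArg e (congrArg Subtype.val (hc.is_comm.comm ⟨x, hx⟩ ⟨y, hy⟩))
    · rintro _ ⟨x, hx, rfl⟩
      show e x ^ 2 = 1
      rw [← map_pow, h2 x hx, map_one]
  · skip
    rw [Subgroup.card_map_of_injective e.injective, card_OAB]
  · skip
    rw [← CfsgLib.Classical.coe_qExt_qBin 2 (1 : ZMod 2) 1]
    exact ⟨((QuotientGroup.congr (quotHom.ker) _ E (by rw [hsub, quot_facts.1]; rfl)).symm).trans quotIso⟩

end Cfsg.Agent.S5472
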