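import Cfsg.Statements.S5515
import Cfsg.Agent.S2608
import Cfsg.Agent.Lib.ThreeTransp.Factor.Types
import Cfsg.Agent.Lib.Cores.Components

set_option autoImplicit false
open Cfsg

namespace Cfsg.Agent.S5515

/-- A group with a self-centralizing normal subgroup `L` without centre is a group of automorphisms of `L`. -/
theorem exists_range {G L : Type*} [Group G] [Group L] (N : Subgroup G) [hN : N.Normal] (e : ↥N ≃* L)
    (hc : Subgroup.centralizer (N : Set G) ≤ N) (hz : Subgroup.center L = ⊥) :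
    ∃ ρ : G →* MulAut L, Function.Injective ρ ∧ Cfsg.Inn L ≤ ρ.range ∧
      Nonempty (G ⧸ N ≃* ↥(ρ.range.map (QuotientGroup.mk' (Cfsg.Inn L)))) := by
  let ρ : G →* MulAut L := (MulAut.congr e).toMonoidHom.comp MulAut.conjNormal
  have hρ : ∀ g l, ρ g l = e (MulAut.conjNormal g (e.symm l)) := fun g l => rfl
  have hin : ∀ x : N, ρ (x : G) = MulAut.conj (e x) := fun x => by
    ext l
    rw [hρ, MulAut.conj_apply]
    have : MulAut.conjNormal (x : G) (e.symm l) = x * e.symm l * x⁻¹ := by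
      ext; simp
    rw [this, map_mul, map_mul, map_inv, MulEquiv.apply_symm_apply]
  have hinj : Function.Injective ρ := by
    refine (injective_iff_map_eq_one ρ).2 fun g hg => ?_
    have hgC : g ∈ Subgroup.centralizer (N : Set G) := Subgroup.mem_centralizer_iff.2 fun y hy => by
      have h1 := congrArg e.symm (DFunLike.congr_fun hg (e ⟨y, hy⟩))
      rw [hρ, MulAut.one_apply, MulEquiv.symm_apply_apply, MulEquiv.symm_apply_apply] at h1
      have h2 := congrArg Subtype.val h1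
      rw [MulAut.conjNormal_apply] at h2
      change g * y * g⁻¹ = y at h2
      exact (mul_inv_eq_iff_eq_mul.1 h2).symm
    have he : e ⟨g, hc hgC⟩ ∈ Subgroup.center L := Subgroup.mem_center_iff.2 fun l => by
      obtain ⟨y, rfl⟩ := e.surjective l
      rw [← map_mul, ← map_mul]
      exact congrArg e (Subtype.ext (Subgroup.mem_centralizer_iff.1 hgC y.1 y.2))
    rw [hz, Subgroup.mem_bot, MulEquiv.map_eq_one_iff] at he
    exact congrArg Subtype.val he
  have hInn : Cfsg.Inn L ≤ ρ.range := by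
    rintro _ ⟨x, rfl⟩
    exact ⟨(e.symm x : G), by rw [hin, MulEquiv.apply_symm_apply]⟩
  refine ⟨ρ, hinj, hInn, ⟨?_⟩⟩
  let σ := (QuotientGroup.mk' (Cfsg.Inn L)).comp ρ
  have hker : σ.ker = N := by
    ext g
    rw [MonoidHom.mem_ker, MonoidHom.comp_apply, QuotientGroup.mk'_apply, QuotientGroup.eq_one_iff]
    constructor
    · rintro ⟨x, hx⟩
      have : ρ g = ρ (e.symm x : G) := by rw [hin, MulEquiv.apply_symm_apply, hx]
      rw [hinj this]; exact (e.symm x).2
    · intro hg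
      exact ⟨e ⟨g, hg⟩, (hin ⟨g, hg⟩).symm⟩
  exact ((QuotientGroup.quotientMulEquivOfEq hker.symm).trans (QuotientGroup.quotientKerEquivRange σ)).trans
    (MulEquiv.subgroupCongr (MonoidHom.range_comp _ _))

/-- A copy of `S₃` in `S₄` is a point stabiliser. -/
theorem exists_stabilizer (H : Subgroup (Equiv.Perm (Fin 4))) (h : Nonempty (↥H ≃* Equiv.Perm (Fin 3))) :
    ∃ i : Fin 4, H = MulAction.stabilizer (Equiv.Perm (Fin 4)) i := by
  obtain ⟨e⟩ := h
  let c : Equiv.Perm (Fin 3) := Equiv.swap 0 1 * Equiv.swap 1 2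
  let s : Equiv.Perm (Fin 3) := Equiv.swap 0 1
  have hgen : ∀ π : Equiv.Perm (Fin 3), ∃ (k : Fin 3) (l : Fin 2), π = c ^ (k : ℕ) * s ^ (l : ℕ) := by decide
  have hrel : c ^ 3 = 1 ∧ s * s = 1 ∧ s * c = c ^ 2 * s ∧ c ≠ 1 := by decide
  have key : ∀ σ τ : Equiv.Perm (Fin 4), σ ^ 3 = 1 → τ * τ = 1 → τ * σ = σ ^ 2 * τ → σ ≠ 1 →
      ∃ i, σ i = i ∧ τ i = i := by decide +kernel
  let f : Equiv.Perm (Fin 3) →* Equiv.Perm (Fin 4) := H.subtype.comp e.symm.toMonoidHom
  obtain ⟨i, hσ, hτ⟩ := key (f c) (f s) (by rw [← map_pow, hrel.1, map_one]) (by rw [← map_mul, hrel.2.1, map_one])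
    (by rw [← map_mul, ← map_pow, ← map_mul, hrel.2.2.1])
    (fun h => hrel.2.2.2 (e.symm.injective (Subtype.ext (by simpa [f] using h))))
  refine ⟨i, ?_⟩
  refine Subgroup.eq_of_le_of_card_ge ?_ ?_
  · intro x hx
    obtain ⟨k, l, hkl⟩ := hgen (e ⟨x, hx⟩)
    have hx' : x = f c ^ (k : ℕ) * f s ^ (l : ℕ) := by
      rw [← map_pow, ← map_pow, ← map_mul, ← hkl]; simp [f]
    change x • i = i
    rw [hx']
    exact mul_mem (pow_mem (show f c ∈ MulAction.stabilizer (Equiv.Perm (Fin 4)) i from hσ) _)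
      (pow_mem (show f s ∈ MulAction.stabilizer (Equiv.Perm (Fin 4)) i from hτ) _)
  · rw [Nat.card_congr e.toEquiv, Nat.card_perm, Nat.card_fin]
    have : ∀ j : Fin 4, Fintype.card {π : Equiv.Perm (Fin 4) // π • j = j} ≤ Nat.factorial 3 := by
      decide +kernel
    exact le_of_eq_of_le (Nat.card_eq_fintype_card (α := {π : Equiv.Perm (Fin 4) // π • i = i})) (this i)

/-- Two subgroups of `S₄` isomorphic to `S₃` are conjugate. -/
theorem conj_of_sym3 {A : Type*} [Group A] (e : A ≃* Equiv.Perm (Fin 4)) (H H' : Subgroup A)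
    (h : Nonempty (↥H ≃* Equiv.Perm (Fin 3))) (h' : Nonempty (↥H' ≃* Equiv.Perm (Fin 3))) :
    ∃ a : A, H.map (MulAut.conj a).toMonoidHom = H' := by
  obtain ⟨d⟩ := h
  obtain ⟨d'⟩ := h'
  obtain ⟨i, hi⟩ := exists_stabilizer (H.map e.toMonoidHom) ⟨(e.subgroupMap H).symm.trans d⟩
  obtain ⟨j, hj⟩ := exists_stabilizer (H'.map e.toMonoidHom) ⟨(e.subgroupMap H').symm.trans d'⟩
  refine ⟨e.symm (Equiv.swap i j), Subgroup.map_injective (f := e.toMonoidHom) e.injective ?_⟩
  have hcomm : e.toMonoidHom.comp (MulAut.conj (e.symm (Equiv.swap i j))).toMonoidHom =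
      (MulAut.conj (Equiv.swap i j)).toMonoidHom.comp e.toMonoidHom := by
    ext x : 1
    simp [MulAut.conj_apply]
  rw [Subgroup.map_map, hcomm, ← Subgroup.map_map, hi, hj, ← MulAction.stabilizer_smul_eq_stabilizer_map_conj,
    Equiv.Perm.smul_def, Equiv.swap_apply_left]

/-- Two groups between `L` and its automorphisms with the same `S₃` on top. -/
theorem nonempty_equiv {G G' L : Type*} [Group G] [Group G'] [Group L] (hz : Subgroup.center L = ⊥)
    (eO : Cfsg.Out L ≃* Equiv.Perm (Fin 4)) (N : Subgroup G) [N.Normal] (e : ↥N ≃* L) (N' : Subgroup G')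
    [N'.Normal] (e' : ↥N' ≃* L) (hc : Subgroup.centralizer (N : Set G) ≤ N)
    (hc' : Subgroup.centralizer (N' : Set G') ≤ N') (hq : Nonempty (G ⧸ N ≃* Equiv.Perm (Fin 3)))
    (hq' : Nonempty (G' ⧸ N' ≃* Equiv.Perm (Fin 3))) : Nonempty (G ≃* G') := by
  obtain ⟨q⟩ := hq
  obtain ⟨q'⟩ := hq'
  obtain ⟨ρ, hρ, hI, ⟨r⟩⟩ := exists_range N e hc hz
  obtain ⟨ρ', hρ', hI', ⟨r'⟩⟩ := exists_range N' e' hc' hz
  obtain ⟨a, ha⟩ := conj_of_sym3 eO _ _ ⟨r.symm.trans q⟩ ⟨r'.symm.trans q'⟩
  obtain ⟨α, rfl⟩ := QuotientGroup.mk'_surjective (Cfsg.Inn L) a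
  have hmap : ρ.range.map (MulAut.conj α).toMonoidHom = ρ'.range := by
    have h1 : (ρ.range.map (MulAut.conj α).toMonoidHom).map (QuotientGroup.mk' (Cfsg.Inn L)) =
        ρ'.range.map (QuotientGroup.mk' (Cfsg.Inn L)) := by
      rw [← ha, Subgroup.map_map, Subgroup.map_map]
      congr 1
    have hI1 : Cfsg.Inn L ≤ ρ.range.map (MulAut.conj α).toMonoidHom := fun x hx =>
      ⟨α⁻¹ * x * α, hI (by simpa using Subgroup.Normal.conj_mem (inferInstance : (Cfsg.Inn L).Normal) x hx α⁻¹),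
        by simp [MulAut.conj_apply, mul_assoc]⟩
    have h2 := congrArg (Subgroup.comap (QuotientGroup.mk' (Cfsg.Inn L))) h1
    rwa [Subgroup.comap_map_eq_self (by rwa [QuotientGroup.ker_mk']),
      Subgroup.comap_map_eq_self (by rwa [QuotientGroup.ker_mk'])] at h2
  exact ⟨((MonoidHom.ofInjective hρ).trans ((MulAut.conj α).subgroupMap _)).trans
    ((MulEquiv.subgroupCongr hmap).trans (MonoidHom.ofInjective hρ').symm)⟩

/-- Let G and G′ be finite groups whose generalized Fitting subgroups are isomorphic to PΩ⁺(8, 3) (the commutator subgroup of the isometry group of the hyperbolic quadratic form in dimension 8 over the field with three elements, modulo its centre) with quotients isomorphic to the symmetric group of degree 3. Then G and G′ are isomorphic. -/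
theorem result {G G' : Type*} [Group G] [Finite G] [Group G'] [Finite G'] (hF : Nonempty (↥(Cfsg.generalizedFittingSubgroup G) ≃* Cfsg.POmega (ZMod 3) (Cfsg.quadFormPlus 4 (ZMod 3)))) (hF' : Nonempty (↥(Cfsg.generalizedFittingSubgroup G') ≃* Cfsg.POmega (ZMod 3) (Cfsg.quadFormPlus 4 (ZMod 3)))) [hn : (Cfsg.generalizedFittingSubgroup G).Normal] [hn' : (Cfsg.generalizedFittingSubgroup G').Normal] (hq : Nonempty (G ⧸ Cfsg.generalizedFittingSubgroup G ≃* Equiv.Perm (Fin 3))) (hq' : Nonempty (G' ⧸ Cfsg.generalizedFittingSubgroup G' ≃* Equiv.Perm (Fin 3))) : Nonempty (G ≃* G') := by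
  classical
  haveI : Fact (Nat.Prime 3) := ⟨Nat.prime_three⟩
  set L := Cfsg.POmega (ZMod 3) (Cfsg.quadFormPlus 4 (ZMod 3))
  have hz : Subgroup.center L = ⊥ := by
    haveI : IsSimpleGroup L := by
      have := CfsgLib.Classical.isSimpleGroup_POmega (CfsgLib.Classical.qPlus 4 (ZMod 3))
        (CfsgLib.Classical.polarNondeg_qPlus 4) (by simp)
      rwa [CfsgLib.Classical.coe_qPlus] at this
    refine (Subgroup.Normal.eq_bot_or_eq_top inferInstance).resolve_right fun h => ?_
    refine CfsgLib.ThreeTransp.Factor.not_solvable_pOmega (Group.isSolvable_of_comm fun a b => ?_)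
    exact Subgroup.mem_center_iff.1 (h ▸ Subgroup.mem_top b) a
  have hout : Nonempty (Cfsg.Out L ≃* Equiv.Perm (Fin 4)) := by
    have h := Cfsg.Agent.S2608.result (F := ZMod 3) (p := 3) (f := 1) (m := 4) le_rfl (by simp) (by decide) le_rfl
    rw [if_pos rfl] at h
    obtain ⟨e⟩ := h
    haveI : Unique (Multiplicative (ZMod 1)) :=
      { default := 1, uniq := fun a => Subsingleton.elim (α := ZMod 1) _ _ }
    exact ⟨e.trans MulEquiv.prodUnique⟩
  obtain ⟨eO⟩ := hout
  obtain ⟨e⟩ := hF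
  obtain ⟨e'⟩ := hF'
  exact nonempty_equiv hz eO _ e _ e' CfsgLib.Cores.centralizer_generalizedFittingSubgroup_le
    CfsgLib.Cores.centralizer_generalizedFittingSubgroup_le hq hq'

end Cfsg.Agent.S5515
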