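import Cfsg.Statements.S5516
import Cfsg.Agent.S5515
import Cfsg.Agent.Lib.SmallGroups.Omega8Three.Main
-- import your own Cfsg.Agent.* helpers here

set_option autoImplicit false
open Cfsg

namespace Cfsg.Agent.S5516

open CfsgLib.SmallGroups.Omega8Three

/-- An isomorphism carries the inner automorphisms to the inner automorphisms. -/
theorem map_inn {L Q : Type*} [Group L] [Group Q] (e : L ≃* Q) :
    (Cfsg.Inn L).map (MulAut.congr e).toMonoidHom = Cfsg.Inn Q := by
  ext α
  constructor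
  · rintro ⟨_, ⟨x, rfl⟩, rfl⟩
    exact ⟨e x, MulEquiv.ext fun q => by simp [MulAut.congr]⟩
  · rintro ⟨q, rfl⟩
    exact ⟨MulAut.conj (e.symm q), ⟨_, rfl⟩, MulEquiv.ext fun y => by simp [MulAut.congr]⟩

/-- The two statements over the matrix model. -/
theorem main {G L : Type*} [Group G] [Finite G] [Group L] (ψ : L ≃* Q8) (eO : Cfsg.Out L ≃* Equiv.Perm (Fin 4))
    (N : Subgroup G) [N.Normal] (e : ↥N ≃* L) (hc : Subgroup.centralizer (N : Set G) ≤ N)
    (hq : Nonempty (G ⧸ N ≃* Equiv.Perm (Fin 3))) :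
    (∃ Y : Fin 13 → Subgroup L, (∀ i, Nat.card (Y i) = 3) ∧
      (∀ i j, (∃ g : L, (Y i).map (MulAut.conj g).toMonoidHom = Y j) → i = j) ∧
      ∀ X : Subgroup L, Nat.card X = 3 → ∃ i, ∃ g : L, X.map (MulAut.conj g).toMonoidHom = Y i) ∧
    ∃ Y : Fin 7 → Subgroup G, (∀ i, Y i ≤ N ∧ Nat.card (Y i) = 3) ∧
      (∀ i j, (∃ g : G, (Y i).map (MulAut.conj g).toMonoidHom = Y j) → i = j) ∧
      ∀ X : Subgroup G, X ≤ N → Nat.card X = 3 → ∃ i, ∃ g : G, X.map (MulAut.conj g).toMonoidHom = Y i := by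
  classical
  have hback : ∀ Z : Subgroup Q8, (Z.map ψ.symm.toMonoidHom).map ψ.toMonoidHom = Z := fun Z => by
    rw [Subgroup.map_map]
    convert Subgroup.map_id Z using 2
    exact MonoidHom.ext fun x => by simp
  have hback' : ∀ Z : Subgroup L, (Z.map ψ.toMonoidHom).map ψ.symm.toMonoidHom = Z := fun Z => by
    rw [Subgroup.map_map]
    convert Subgroup.map_id Z using 2
    exact MonoidHom.ext fun x => by simp
  refine ⟨⟨fun k => (repSub k).map ψ.symm.toMonoidHom,
    fun k => by rw [Subgroup.card_map_of_injective ψ.symm.injective, card_repSub], fun i j h => ?_,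
    fun X hX => ?_⟩, ?_⟩
  · have := SubConj.map ψ (show SubConj _ _ from h)
    rw [hback, hback] at this
    exact eq_of_subConj this
  · obtain ⟨k, hk⟩ := exists_subConj_rep (X := X.map ψ.toMonoidHom)
      (by rw [Subgroup.card_map_of_injective ψ.injective, hX])
    have := hk.map ψ.symm
    rw [hback'] at this
    exact ⟨k, this⟩
  -- the action of G on the classes
  let eN : ↥N ≃* Q8 := e.trans ψ
  let ρ : G →* MulAut Q8 := (MulAut.congr eN).toMonoidHom.comp MulAut.conjNormal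
  have hρ : ∀ g q, ρ g q = eN (MulAut.conjNormal g (eN.symm q)) := fun _ _ => rfl
  have hin : ∀ x : N, ρ (x : G) = MulAut.conj (eN x) := fun x => MulEquiv.ext fun q => by
    have h : MulAut.conjNormal (x : G) (eN.symm q) = x * eN.symm q * x⁻¹ := by ext; simp
    rw [hρ, h, map_mul, map_mul, map_inv, MulEquiv.apply_symm_apply, MulAut.conj_apply]
  let eQ : Cfsg.Out L ≃* Cfsg.Out Q8 := QuotientGroup.congr _ _ (MulAut.congr ψ) (map_inn ψ)
  let η : Equiv.Perm (Fin 4) ≃* Cfsg.Out Q8 := eO.symm.trans eQ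
  let φ : Equiv.Perm (Fin 4) →* Equiv.Perm (Fin 13) := outHom.comp η.toMonoidHom
  have hrange : ∀ π, π ∈ outHom.range → π ∈ φ.range := by
    rintro π ⟨o, rfl⟩
    exact ⟨η.symm o, by simp [φ]⟩
  let f : G →* Equiv.Perm (Fin 4) := η.symm.toMonoidHom.comp ((QuotientGroup.mk' (Cfsg.Inn Q8)).comp ρ)
  have hφf : ∀ g, φ (f g) = classHom (ρ g) := fun g => by simp [φ, f, outHom]
  have hker : f.ker = N := by
    ext g
    simp only [f, MonoidHom.mem_ker, MonoidHom.comp_apply, MulEquiv.coe_toMonoidHom, MulEquiv.map_eq_one_iff,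
      QuotientGroup.mk'_apply, QuotientGroup.eq_one_iff]
    constructor
    · rintro ⟨q, hq'⟩
      obtain ⟨x, rfl⟩ := eN.surjective q
      have h1 : ρ (g * (x : G)⁻¹) = 1 := by rw [map_mul, map_inv, hin, hq', mul_inv_cancel]
      have h2 : g * (x : G)⁻¹ ∈ Subgroup.centralizer (N : Set G) := Subgroup.mem_centralizer_iff.2 fun y hy => by
        have h3 := congrArg eN.symm (DFunLike.congr_fun h1 (eN ⟨y, hy⟩))
        rw [hρ, MulAut.one_apply, MulEquiv.symm_apply_apply, MulEquiv.symm_apply_apply] at h3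
        have h4 := congrArg Subtype.val h3
        rw [MulAut.conjNormal_apply] at h4
        exact (mul_inv_eq_iff_eq_mul.1 h4).symm
      simpa using N.mul_mem (hc h2) x.2
    · intro hg
      exact ⟨eN ⟨g, hg⟩, (hin ⟨g, hg⟩).symm⟩
  obtain ⟨q3⟩ := hq
  obtain ⟨i, hi⟩ := S5515.exists_stabilizer f.range
    ⟨((QuotientGroup.quotientMulEquivOfEq hker.symm).trans (QuotientGroup.quotientKerEquivRange f)).symm.trans q3⟩
  obtain ⟨y, hy1, hy2⟩ := seven_orbits φ (hrange _ perm_mem_range.1) (hrange _ perm_mem_range.2) i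
  -- subgroups of N
  let J : Subgroup Q8 → Subgroup G := fun Z => (Z.map eN.symm.toMonoidHom).map N.subtype
  have hJinj : Function.Injective J := fun Z Z' h =>
    Subgroup.map_injective (f := eN.symm.toMonoidHom) eN.symm.injective
      (Subgroup.map_injective N.subtype_injective h)
  have hJ : ∀ g Z, (J Z).map (MulAut.conj g).toMonoidHom = J (Z.map (ρ g).toMonoidHom) := by
    intro g Z
    simp only [J, Subgroup.map_map]
    congr 1
    refine MonoidHom.ext fun q => ?_
    simp [hρ, MulAut.conjNormal_apply]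
  refine ⟨fun a => J (repSub (y a)), fun a => ⟨Subgroup.map_subtype_le _, ?_⟩, ?_, fun X hXN hX => ?_⟩
  · simp only [J]
    rw [Subgroup.card_map_of_injective N.subtype_injective, Subgroup.card_map_of_injective eN.symm.injective,
      card_repSub]
  · rintro a b ⟨g, hg⟩
    refine hy1 a b ⟨f g, ?_, ?_⟩
    · have : f g ∈ f.range := ⟨g, rfl⟩
      rwa [hi, MulAction.mem_stabilizer_iff, Equiv.Perm.smul_def] at this
    · rw [hφf, classHom_apply]
      refine classMap_eq ?_
      rw [hJinj ((hJ g _).symm.trans hg)]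
      exact SubConj.refl _
  · let Z : Subgroup Q8 := (X.subgroupOf N).map eN.toMonoidHom
    have hXZ : J Z = X := by
      simp only [J, Z, Subgroup.map_map]
      convert Subgroup.map_subgroupOf_eq_of_le hXN using 2
      exact MonoidHom.ext fun x => by simp
    have hZ : Nat.card Z = 3 := by
      rw [Subgroup.card_map_of_injective eN.injective, Nat.card_congr (Subgroup.subgroupOfEquivOfLe hXN).toEquiv, hX]
    obtain ⟨k, q, hq⟩ := exists_subConj_rep hZ
    obtain ⟨a, σ, hσ, hσk⟩ := hy2 k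
    have : σ ∈ f.range := by rw [hi, MulAction.mem_stabilizer_iff, Equiv.Perm.smul_def, hσ]
    obtain ⟨g, rfl⟩ := this
    rw [hφf, classHom_apply] at hσk
    obtain ⟨q', hq'⟩ := hσk ▸ classMap_spec (ρ g) k
    refine ⟨a, (eN.symm q' : G) * g * (eN.symm q : G), ?_⟩
    rw [← hXZ, hJ, map_mul, map_mul, hin, hin, MulEquiv.apply_symm_apply, MulEquiv.apply_symm_apply]
    change J _ = J _
    congr 1
    rw [← hq', ← hq]
    simp only [Z, Subgroup.map_map]
    rfl

/-- PΩ⁺(8, 3) (the commutator subgroup of the isometry group of the hyperbolic quadratic form in dimension 8 over the field with three elements, modulo its centre) has exactly 13 conjugacy classes of subgroups of order 3; and a finite group G whose generalized Fitting subgroup L is isomorphic to PΩ⁺(8, 3) with G/L the symmetric group of degree 3 has exactly 7 orbits, under conjugation, on the subgroups of L of order 3. -/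
theorem result {G : Type*} [Group G] [Finite G] (L : Subgroup G) (hL : L = Cfsg.generalizedFittingSubgroup G) (hF : Nonempty (↥L ≃* Cfsg.POmega (ZMod 3) (Cfsg.quadFormPlus 4 (ZMod 3)))) [hn : L.Normal] (hq : Nonempty (G ⧸ L ≃* Equiv.Perm (Fin 3))) : (∃ Y : Fin 13 → Subgroup (Cfsg.POmega (ZMod 3) (Cfsg.quadFormPlus 4 (ZMod 3))), (∀ i, Nat.card (Y i) = 3) ∧ (∀ i j, (∃ g : Cfsg.POmega (ZMod 3) (Cfsg.quadFormPlus 4 (ZMod 3)), (Y i).map (MulAut.conj g).toMonoidHom = Y j) → i = j) ∧ (∀ X : Subgroup (Cfsg.POmega (ZMod 3) (Cfsg.quadFormPlus 4 (ZMod 3))), Nat.card X = 3 → ∃ i, ∃ g : Cfsg.POmega (ZMod 3) (Cfsg.quadFormPlus 4 (ZMod 3)), X.map (MulAut.conj g).toMonoidHom = Y i)) ∧ ∃ Y : Fin 7 → Subgroup G, (∀ i, Y i ≤ L ∧ Nat.card (Y i) = 3) ∧ (∀ i j, (∃ g : G, (Y i).map (MulAut.conj g).toMonoidHom = Y j) → i = j) ∧ ∀ X : Subgroup G, X ≤ L → Nat.card X = 3 → ∃ i, ∃ g : G, X.map (MulAut.conj g).toMonoidHom = Y i := by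
  obtain ⟨e⟩ := hF
  obtain ⟨ψ⟩ := nonempty_pomega_equiv
  have hout : Nonempty (Cfsg.Out (Cfsg.POmega (ZMod 3) (Cfsg.quadFormPlus 4 (ZMod 3))) ≃* Equiv.Perm (Fin 4)) := by
    have h := Cfsg.Agent.S2608.result (F := ZMod 3) (p := 3) (f := 1) (m := 4) le_rfl (by simp) (by decide) le_rfl
    rw [if_pos rfl] at h
    obtain ⟨e₁⟩ := h
    have : Unique (Multiplicative (ZMod 1)) :=
      { default := 1, uniq := fun a => Subsingleton.elim (α := ZMod 1) _ _ }
    exact ⟨e₁.trans MulEquiv.prodUnique⟩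
  obtain ⟨eO⟩ := hout
  exact main ψ eO L e (hL ▸ CfsgLib.Cores.centralizer_generalizedFittingSubgroup_le) hq

end Cfsg.Agent.S5516
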