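import Cfsg.Statements.S5517
import Cfsg.Agent.Lib.ThreeTransp.M22Y332.Iso
import Cfsg.Agent.Lib.Fi22P.O7

set_option autoImplicit false
open Cfsg

namespace Cfsg.Agent.S5517

/-- Let G be a finite group with trivial centre generated by a conjugation-invariant set D of 3-transpositions on which it acts primitively, such that for some d in D the subgroup generated by the members of D other than d commuting with d has central largest normal 2- and 3-subgroups, and suppose G with D is of type M(22). Then G has a subgroup L generated by the members of D it contains and isomorphic to Ω(7, 3) (the commutator subgroup of the isometry group of a non-degenerate 7-dimensional quadratic form over the field with three elements, modulo its centre), and every Sylow 3-subgroup of L is a Sylow 3-subgroup of G. -/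
theorem result {G : Type*} [Group G] [Finite G] {D : Set G} (hD : Cfsg.IsThreeTranspositionGroup D) (hprim : Cfsg.IsPrimitiveUnderConj D) (d₀ : G) (hd₀ : d₀ ∈ D) (h3 : Cfsg.pCore 3 ↥(Subgroup.closure {y : G | y ∈ D ∧ y ≠ d₀ ∧ Commute d₀ y}) ≤ Subgroup.center ↥(Subgroup.closure {y : G | y ∈ D ∧ y ≠ d₀ ∧ Commute d₀ y})) (h2 : Cfsg.pCore 2 ↥(Subgroup.closure {y : G | y ∈ D ∧ y ≠ d₀ ∧ Commute d₀ y}) ≤ Subgroup.center ↥(Subgroup.closure {y : G | y ∈ D ∧ y ≠ d₀ ∧ Commute d₀ y})) (h22 : Cfsg.IsOfTypeM22 G D) : ∃ L : Subgroup G, Cfsg.IsDSubgroup D L ∧ Nonempty (↥L ≃* Cfsg.POmega (ZMod 3) (Cfsg.quadFormOdd 3 (ZMod 3))) ∧ ∀ P : Sylow 3 ↥L, ∃ P' : Sylow 3 G, (P : Subgroup ↥L).map L.subtype = (P' : Subgroup G) := by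
  obtain ⟨e, -, hmem⟩ := CfsgLib.M22.exists_fi22_iso_gen (CfsgLib.M22.Setup.of_group hD hprim h22)
  have := CfsgLib.Fi22P.card_fi.1
  obtain ⟨iso⟩ := CfsgLib.Fi22P.subK_iso
  refine ⟨CfsgLib.Fi22P.subK.map e.toMonoidHom, ?_, ⟨((e.subgroupMap _).symm).trans iso⟩, ?_⟩
  · show Subgroup.closure {d : G | d ∈ D ∧ d ∈ CfsgLib.Fi22P.subK.map e.toMonoidHom} = _
    refine le_antisymm ((Subgroup.closure_le _).2 fun d hd => hd.2) ?_
    rw [Subgroup.map_le_iff_le_comap]
    refine (Subgroup.closure_le _).2 ?_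
    rintro _ ⟨w, hw, rfl⟩
    refine Subgroup.subset_closure (k := {d : G | d ∈ D ∧ d ∈ CfsgLib.Fi22P.subK.map e.toMonoidHom}) ⟨?_, Subgroup.mem_map_of_mem _ (Subgroup.subset_closure ⟨w, hw, rfl⟩)⟩
    show e (CfsgLib.PresCert.act CfsgLib.Fi22P.fiGen w) ∈ D
    simp only [CfsgLib.Fi22P.sO7, List.mem_cons, List.not_mem_nil, or_false] at hw
    rcases hw with rfl | rfl | rfl | rfl | rfl | rfl | rfl | rfl <;>
      simpa only [CfsgLib.PresCert.act_cons, CfsgLib.PresCert.act_nil, one_mul] using hmem _ (by decide)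
  · intro P
    have := Fact.mk Nat.prime_three
    have hidx : (CfsgLib.Fi22P.subK.map e.toMonoidHom).index = 14080 := by
      rw [← CfsgLib.Fi22P.index_o7]
      exact Subgroup.index_map_equiv _ e
    have hnd : ¬ 3 ∣ ((P : Subgroup _).map (CfsgLib.Fi22P.subK.map e.toMonoidHom).subtype).index := by
      rw [Subgroup.index_map_subtype, hidx, Nat.prime_three.dvd_mul]
      rintro (h | h)
      · exact P.not_dvd_index h
      · omega
    exact ⟨(P.2.map _).toSylow hnd, rfl⟩

end Cfsg.Agent.S5517
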