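import Cfsg.Statements.S5518
import Cfsg.Agent.Lib.ThreeTransp.M24Thirteen.Main

set_option autoImplicit false
open Cfsg

namespace Cfsg.Agent.S5518

/-- Let G be a finite group with trivial centre generated by a conjugation-invariant set D of 3-transpositions on which it acts primitively, such that for some d in D the subgroup generated by the members of D other than d commuting with d has central largest normal 2- and 3-subgroups, and suppose G with D is of type M(24). Then any two subgroups of order 13 are conjugate; and there are members a, b, c, d of D generating the direct product T of two symmetric groups of degree 3 (a, d non-commuting; b, c non-commuting; b and c commuting with a and d) whose centralizer K is isomorphic to the Chevalley group G₂(3), such that for every subgroup B of K of order 13: the normalizer of B lies in the normalizer of K, the normalizer F of B in K is a Frobenius group of order 78 with kernel B (order 78, centralizer of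 B in it equal to B), and the subgroup generated by F and T has index 2 in the normalizer of B. -/
theorem result {G : Type*} [Group G] [Finite G] {D : Set G} (hD : Cfsg.IsThreeTranspositionGroup D) (hprim : Cfsg.IsPrimitiveUnderConj D) (d₀ : G) (hd₀ : d₀ ∈ D) (h3 : Cfsg.pCore 3 ↥(Subgroup.closure {y : G | y ∈ D ∧ y ≠ d₀ ∧ Commute d₀ y}) ≤ Subgroup.center ↥(Subgroup.closure {y : G | y ∈ D ∧ y ≠ d₀ ∧ Commute d₀ y})) (h2 : Cfsg.pCore 2 ↥(Subgroup.closure {y : G | y ∈ D ∧ y ≠ d₀ ∧ Commute d₀ y}) ≤ Subgroup.center ↥(Subgroup.closure {y : G | y ∈ D ∧ y ≠ d₀ ∧ Commute d₀ y})) (h24 : Cfsg.IsOfTypeM24 G D) : (∀ X Y : Subgroup G, Nat.card X = 13 → Nat.card Y = 13 → ∃ g : G, X.map (MulAut.conj g).toMonoidHom = Y) ∧ ∃ (a b c d : G) (T K : Subgroup G), (∀ x ∈ [a, b, c, d], x ∈ D) ∧ ¬ Commute a d ∧ ¬ Commute b c ∧ Commute a b ∧ Commute a c ∧ Commute d b ∧ Commute d c ∧ T = Subgroup.closure ({a, b, c, d} : Set G) ∧ K = Subgroup.centralizer (T : Set G) ∧ Nonempty (↥K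 ≃* ↥(Cfsg.Lie.chevG2.group (ZMod 3))) ∧ ∀ B : Subgroup G, B ≤ K → Nat.card B = 13 → Subgroup.normalizer ((B : Subgroup G) : Set G) ≤ Subgroup.normalizer ((K : Subgroup G) : Set G) ∧ Nat.card ↥(K ⊓ Subgroup.normalizer ((B : Subgroup G) : Set G)) = 78 ∧ K ⊓ Subgroup.centralizer ((B : Subgroup G) : Set G) = B ∧ (((K ⊓ Subgroup.normalizer ((B : Subgroup G) : Set G)) ⊔ T).subgroupOf (Subgroup.normalizer ((B : Subgroup G) : Set G))).index = 2 := by
  classical
  have S := CfsgLib.M24.Setup.of_group hD hprim h24 hd₀ h2 h3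
  have hpr : (13 : ℕ).Prime := by norm_num
  have h169 : ¬ 13 ^ 2 ∣ Nat.card G := by rw [CfsgLib.M24.card_eq S]; norm_num
  refine ⟨fun X Y hX hY => ?_, ?_⟩
  · obtain ⟨g, -, hg⟩ := CfsgLib.M22Sylow.Loc.conj_of_card hpr (le_top (a := X)) (le_top (a := Y)) hX hY
      (by rwa [Subgroup.card_top])
    exact ⟨g, hg⟩
  haveI := Fact.mk hpr
  obtain ⟨y, hy⟩ := exists_prime_orderOf_dvd_card' (G := G) 13 (by rw [CfsgLib.M24.card_eq S]; norm_num)
  have hy13 : y ^ 13 = 1 := hy ▸ pow_orderOf_eq_one y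
  have hy1 : y ≠ 1 := fun h => by rw [h, orderOf_one] at hy; norm_num at hy
  obtain ⟨a, b, c, d, ha, hb, hc, hd, had, hbc, hab, hac, hdb, hdc⟩ :=
    CfsgLib.M24Thirteen.thirteen_exists S hy13 hy1
  refine ⟨a, b, c, d, _, _, ?_, had, hbc, hab, hac, hdb, hdc, rfl, rfl,
    CfsgLib.M24Thirteen.nonempty_G2 hD hprim d₀ hd₀ h3 h2 h24
      ⟨hy13, hy1, ha, hb, hc, hd, had, hbc, hab, hac, hdb, hdc⟩, fun B hBK hB => ?_⟩
  · simp only [List.mem_cons, List.not_mem_nil, or_false]
    rintro x (rfl | rfl | rfl | rfl)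
    exacts [ha.1, hb.1, hc.1, hd.1]
  have haD : a ∈ D ∧ b ∈ D ∧ c ∈ D ∧ d ∈ D := ⟨ha.1, hb.1, hc.1, hd.1⟩
  obtain ⟨x, rfl, hx, hx1⟩ := CfsgLib.M22Sylow.Loc.exists_gen hpr hB
  obtain ⟨xa, xb, xc, xd⟩ := CfsgLib.M24Thirteen.mem_centralizer_four.1 (hBK (Subgroup.mem_zpowers x))
  set T := Subgroup.closure ({a, b, c, d} : Set G) with hT
  set K := Subgroup.centralizer (T : Set G) with hK
  set X := Subgroup.zpowers x with hX
  set N := Subgroup.normalizer (X : Set G) with hN
  have hcfg : CfsgLib.M24Thirteen.Cfg D a b c d x :=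
    ⟨hx, hx1, ⟨haD.1, xa⟩, ⟨haD.2.1, xb⟩, ⟨haD.2.2.1, xc⟩, ⟨haD.2.2.2, xd⟩, had, hbc, hab, hac, hdb, hdc⟩
  obtain ⟨hN5616, hN78, -, hCK⟩ := hcfg.cards S
  obtain ⟨hT36, hTK⟩ := hcfg.card_four S
  refine ⟨hcfg.normalizer_le S, ?_, ?_, ?_⟩
  · rw [inf_comm]; exact hN78
  · rw [inf_comm, CfsgLib.M22Sylow.centralizer_zpowers]; exact hCK
  · have hTN : T ≤ N := (Subgroup.closure_le _).2 (by
      rintro z (rfl | rfl | rfl | rfl) <;>
        refine Subgroup.centralizer_le_normalizer _ (CfsgLib.M22Sylow.Loc.mem_centralizer_zpowers.2 ?_)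
      exacts [xa, xb, xc, xd])
    have hnorm : T ≤ Subgroup.normalizer ((K ⊓ N : Subgroup G) : Set G) := fun t ht =>
      Subgroup.centralizer_le_normalizer _ (Subgroup.mem_centralizer_iff.2 fun k hk =>
        (Subgroup.mem_centralizer_iff.1 (Subgroup.mem_inf.1 hk).1 t ht).symm)
    have hbot : K ⊓ N ⊓ T = ⊥ := by
      rw [eq_bot_iff, ← hTK]
      exact le_inf inf_le_right (inf_le_left.trans inf_le_left)
    have h1 : Nat.card ↥(K ⊓ N ⊔ T) = 2808 := by
      refine le_antisymm ((CfsgLib.M22Sylow.Loc.card_sup_le hnorm).trans_eq ?_)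
        (le_trans ?_ (CfsgLib.M22Sylow.Loc.card_mul_le_sup hbot))
      all_goals rw [inf_comm, hN78, hT36]
    have h2 := Subgroup.card_mul_index ((K ⊓ N ⊔ T).subgroupOf N)
    rw [Nat.card_congr (Subgroup.subgroupOfEquivOfLe (sup_le inf_le_right hTN : K ⊓ N ⊔ T ≤ N)).toEquiv, h1,
      hN5616] at h2
    omega

end Cfsg.Agent.S5518
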