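import Cfsg.Statements.S5519
import Cfsg.Agent.Lib.ThreeTransp.M22PairFitting

set_option autoImplicit false
open Cfsg

namespace Cfsg.Agent.S5519

/-- A bare type with `n` elements, to carry a transported group structure. -/
structure Carrier (n : ℕ) : Type where
  /-- The label. -/
  val : Fin n

/-- The labels. -/
def carrierEquiv (n : ℕ) : Carrier n ≃ Fin n := ⟨Carrier.val, Carrier.mk, fun _ => rfl, fun _ => rfl⟩

instance (n : ℕ) : Finite (Carrier n) := Finite.of_equiv _ (carrierEquiv n).symm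

/-- Let G be a finite group with trivial centre generated by a conjugation-invariant set D of 3-transpositions on which it acts primitively, such that for some d in D the subgroup generated by the members of D other than d commuting with d has central largest normal 2- and 3-subgroups, and suppose G with D is of type M(22). Let d₁, d₂ be distinct commuting members of D and C the centralizer of their product. Then the generalized Fitting subgroup of C is the direct product of a group of order 2 and an extraspecial 2-group of order 2^9, and C modulo it is isomorphic to the full isometry group of the elliptic quadratic form in dimension 6 over the field with two elements. -/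
theorem result {G : Type*} [Group G] [Finite G] {D : Set G} (hD : Cfsg.IsThreeTranspositionGroup D) (hprim : Cfsg.IsPrimitiveUnderConj D) (d₀ : G) (hd₀ : d₀ ∈ D) (h3 : Cfsg.pCore 3 ↥(Subgroup.closure {y : G | y ∈ D ∧ y ≠ d₀ ∧ Commute d₀ y}) ≤ Subgroup.center ↥(Subgroup.closure {y : G | y ∈ D ∧ y ≠ d₀ ∧ Commute d₀ y})) (h2 : Cfsg.pCore 2 ↥(Subgroup.closure {y : G | y ∈ D ∧ y ≠ d₀ ∧ Commute d₀ y}) ≤ Subgroup.center ↥(Subgroup.closure {y : G | y ∈ D ∧ y ≠ d₀ ∧ Commute d₀ y})) (h22 : Cfsg.IsOfTypeM22 G D) (d₁ d₂ : G) (h₁ : d₁ ∈ D) (h₂ : d₂ ∈ D) (hne : d₁ ≠ d₂) (hc : Commute d₁ d₂) (C : Subgroup G) (hC : C = Subgroup.centralizer ({d₁ * d₂} : Set G)) [hn : (Cfsg.generalizedFittingSubgroup ↥C).Normal] : (∃ (E : Type) (_ : Group E) (_ : Finite E), Cfsg.IsExtraspecial 2 E ∧ Nat.card E = 2 ^ 9 ∧ Nonempty (↥(Cfsg.generalizedFittingSubgroup ↥C) ≃* Multiplicative (ZMod 2) × E)) ∧ Nonempty (↥C ⧸ Cfsg.generalizedFittingSubgroup ↥C ≃* Cfsg.isometryGroup (ZMod 2) (Cfsg.quadFormMinus 2 (ZMod 2) 1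 1)) := by
  have S := CfsgLib.M22.Setup.of_group hD hprim h22
  obtain ⟨F, _, _, hF, hM⟩ := S.exists_models
  have hb : d₂ ∈ CfsgLib.ThreeTransp.link D d₁ := ⟨h₂, hne.symm, hc⟩
  subst hC
  set C := Subgroup.centralizer ({d₁ * d₂} : Set G)
  have hfit := CfsgLib.M22.fitting_cent_pair S hF hM h₁ hb
  refine ⟨?_, ?_⟩
  · obtain ⟨E₀, -, hcard, hext, ⟨iso⟩⟩ := CfsgLib.M22.lineKer_split S hF hM h₁ hb
    let e : Carrier (Nat.card ↥E₀) ≃ ↥E₀ := (carrierEquiv _).trans (Finite.equivFin ↥E₀).symm
    letI : Group (Carrier (Nat.card ↥E₀)) := e.group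
    let m : Carrier (Nat.card ↥E₀) ≃* ↥E₀ := e.mulEquiv
    refine ⟨Carrier (Nat.card ↥E₀), inferInstance, inferInstance,
      CfsgLib.LargeExtra.isExtraspecial_of_mulEquiv m.symm hext, by rw [Nat.card_congr m.toEquiv, hcard]; norm_num,
      ⟨((MulEquiv.subgroupCongr hfit).trans
        (Subgroup.subgroupOfEquivOfLe (CfsgLib.M22.lineKer_le_cent S hF hM h₁ hb))).trans
          (iso.trans ((MulEquiv.refl _).prodCongr m.symm))⟩⟩
  · obtain ⟨θ, hθ, hker⟩ := CfsgLib.M22.exists_theta S hF hM h₁ hb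
    obtain ⟨i⟩ := CfsgLib.M22.exists_minus_six_iso (F := F) hF
    exact ⟨((QuotientGroup.quotientMulEquivOfEq (hfit.trans hker.symm)).trans
      (QuotientGroup.quotientKerEquivOfSurjective θ hθ)).trans i⟩

end Cfsg.Agent.S5519
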