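import Cfsg.Statements.S5520
import Cfsg.Agent.Lib.UnitarySix.Classify

set_option autoImplicit false
open Cfsg
open CfsgLib.UnitarySix

namespace Cfsg.Agent.S5520

/-- In the special unitary group of dimension 6 over the field with four elements (determinant-one matrices preserving the standard Hermitian form), the subgroups K whose centre has order 3 with K modulo its centre isomorphic to the projective special unitary group of dimension 4 over the field with nine elements fall into exactly three conjugacy classes. -/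
theorem result (F : Type) [Field F] [Fintype F] (hF : Fintype.card F = 4) (F9 : Type) [Field F9] [Fintype F9] (hF9 : Fintype.card F9 = 9) : ∃ K₁ K₂ K₃ : Subgroup ↥(Cfsg.SU 6 F 2), (∀ K ∈ [K₁, K₂, K₃], Nat.card ↥(Subgroup.center ↥K) = 3 ∧ Nonempty (↥K ⧸ Subgroup.center ↥K ≃* Cfsg.PSU 4 F9 3)) ∧ (¬ ∃ g : ↥(Cfsg.SU 6 F 2), K₁.map (MulAut.conj g).toMonoidHom = K₂) ∧ (¬ ∃ g : ↥(Cfsg.SU 6 F 2), K₁.map (MulAut.conj g).toMonoidHom = K₃) ∧ (¬ ∃ g : ↥(Cfsg.SU 6 F 2), K₂.map (MulAut.conj g).toMonoidHom = K₃) ∧ ∀ K : Subgroup ↥(Cfsg.SU 6 F 2), Nat.card ↥(Subgroup.center ↥K) = 3 → Nonempty (↥K ⧸ Subgroup.center ↥K ≃* Cfsg.PSU 4 F9 3) → ∃ g : ↥(Cfsg.SU 6 F 2), K.map (MulAut.conj g).toMonoidHom = K₁ ∨ K.map (MulAut.conj g).toMonoidHom = K₂ ∨ K.map (MulAut.conj g).toMonoidHom = K₃ := by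
  obtain ⟨W⟩ := exists_four hF
  obtain ⟨e9⟩ := CfsgLib.Schur.Tails.UFour.psu_equiv_H4 F9 hF9
  have spec : ∀ c, c < 3 → Nat.card ↥(Subgroup.center ↥(grpC W c)) = 3 ∧
      Nonempty (↥(grpC W c) ⧸ Subgroup.center ↥(grpC W c) ≃* Cfsg.PSU 4 F9 3) := fun c hc => by
    obtain ⟨h1, -, ⟨e⟩⟩ := grp_spec W hF hc
    exact ⟨h1, ⟨e.trans e9⟩⟩
  refine ⟨grpC W 0, grpC W 1, grpC W 2, ?_, ?_, ?_, ?_, ?_⟩
  · intro K hK
    rcases List.mem_cons.1 hK with rfl | hK
    · exact spec 0 (by norm_num)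
    rcases List.mem_cons.1 hK with rfl | hK
    · exact spec 1 (by norm_num)
    rcases List.mem_cons.1 hK with rfl | hK
    · exact spec 2 (by norm_num)
    · exact absurd hK List.not_mem_nil
  · rintro ⟨g, hg⟩
    exact not_conj W hF (by norm_num) (by norm_num) (by norm_num) g hg
  · rintro ⟨g, hg⟩
    exact not_conj W hF (by norm_num) (by norm_num) (by norm_num) g hg
  · rintro ⟨g, hg⟩
    exact not_conj W hF (by norm_num) (by norm_num) (by norm_num) g hg
  · intro K h3 ⟨e⟩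
    obtain ⟨g, c, hc, hg⟩ := exists_conj_grp W hF K h3 (e.trans e9.symm)
    refine ⟨g, ?_⟩
    interval_cases c
    · exact Or.inl hg
    · exact Or.inr (Or.inl hg)
    · exact Or.inr (Or.inr hg)

end Cfsg.Agent.S5520
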