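import Cfsg.Statements.S5529
import Cfsg.Agent.Lib.Golay.M23Triples.Genus
import Cfsg.Agent.Lib.Golay.M23Triples.Cert
import Cfsg.Agent.Lib.Golay.Spor
import Cfsg.Agent.Lib.M24Cert.ClassFacts

set_option autoImplicit false
open Cfsg

namespace Cfsg.Agent.S5529

open CfsgLib.Golay CfsgLib.Golay.M23Triples

theorem orb_bound {g : Equiv.Perm GolayPt} (hg : g ∈ stabOne) {p : ℕ} (hp : p.Prime) (ho : orderOf g = p) :
    (p = 2 → 16 ≤ orbCount g) ∧ (p = 3 → 12 ≤ orbCount g) ∧ (p = 5 → 8 ≤ orbCount g) ∧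
      (p = 7 → 6 ≤ orbCount g) ∧ (p = 11 → 4 ≤ orbCount g) ∧ (p = 23 → 2 ≤ orbCount g) := by
  have h := orbCount_mul_prime g hp ho
  rw [show Fintype.card GolayPt = 24 by decide] at h
  obtain ⟨hm, hfix⟩ := (fix_nums_singleton (by omega)).1 hg
  have hpos : 0 < (Finset.univ.filter fun i => g i = i).card := Finset.card_pos.2 ⟨pt 0, by simp [hfix]⟩
  refine ⟨?_, ?_, ?_, ?_, ?_, ?_⟩ <;> intro e <;> subst e
  · obtain ⟨u, -, h2⟩ := CfsgLib.M24Cert.inv_cases hm ho
    rcases h2 with ⟨-, h2⟩ | ⟨-, h2⟩ <;> omega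
  · obtain ⟨u, -, h2⟩ := CfsgLib.M24Cert.three_cases hm ho
    rcases h2 with ⟨-, h2⟩ | ⟨-, h2⟩ <;> omega
  all_goals omega

theorem triangle_bound (x y : ↥stabOne) (h : Subgroup.closure {x, y} = ⊤) :
    orbCount (x : Equiv.Perm GolayPt) + orbCount (y : Equiv.Perm GolayPt) + orbCount ((x * y : ↥stabOne) : Equiv.Perm GolayPt) ≤ 28 := by
  have h0 : pt 0 ≠ pt 1 := by decide +kernel
  have hb := scott_bound (x : Equiv.Perm GolayPt) (y : Equiv.Perm GolayPt) (pt 0) (pt 1) h0.symm ?_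
  · rw [show Fintype.card GolayPt = 24 by decide] at hb
    exact hb
  intro j hj
  obtain ⟨g, hg, h1, h2⟩ := M24_map_two h0 (Ne.symm hj)
  have hgs : g ∈ stabOne := (fix_nums_singleton (by omega)).2 ⟨hg, h1⟩
  have hcl : Subgroup.closure {(x : Equiv.Perm GolayPt), (y : Equiv.Perm GolayPt)} = stabOne := by
    have := congrArg (Subgroup.map stabOne.subtype) h
    rwa [MonoidHom.map_closure, Set.image_insert_eq, Set.image_singleton, ← MonoidHom.range_eq_map,
      Subgroup.range_subtype] at this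
  exact ⟨g, by rw [hcl]; exact hgs, h2⟩

theorem prime_dvd_cases {p : ℕ} (hp : p.Prime) (h : p ∣ 10200960) : p ∈ [2, 3, 5, 7, 11, 23] := by
  rw [show (10200960 : ℕ) = 2 ^ 7 * 3 ^ 2 * 5 * 7 * 11 * 23 by norm_num] at h
  simp only [hp.dvd_mul] at h
  have e : ∀ q k : ℕ, q.Prime → p ∣ q ^ k → p = q := fun q k hq hd =>
    (Nat.prime_dvd_prime_iff_eq hp hq).1 (hp.dvd_of_dvd_pow hd)
  have e1 : ∀ q : ℕ, q.Prime → p ∣ q → p = q := fun q hq hd => (Nat.prime_dvd_prime_iff_eq hp hq).1 hd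
  rcases h with ((((h | h) | h) | h) | h) | h
  · simp [e 2 7 Nat.prime_two h]
  · simp [e 3 2 Nat.prime_three h]
  · simp [e1 5 (by norm_num) h]
  · simp [e1 7 (by norm_num) h]
  · simp [e1 11 (by norm_num) h]
  · simp [e1 23 (by norm_num) h]

/-- Generation of the Mathieu group M₂₃ (the stabiliser of a point in the Mathieu group M₂₄ acting on 24 points) by triples of prime orders. Let p ≤ q ≤ r be primes dividing |M₂₃| = 10200960 = 2⁷·3²·5·7·11·23, not both p and q equal to 2. Then M₂₃ contains elements x, y, z of orders p, q, r with xyz = 1 and ⟨x, y⟩ = M₂₃ if and only if (p, q, r) is none of: (2, 3, r) for any r, (2, 5, 5), (2, 5, 7), (3, 3, 3), (3, 3, 5), (3, 3, 7). -/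
theorem result (p q r : ℕ) (hp : p.Prime) (hq : q.Prime)
    (hr : r.Prime) (hpq : p ≤ q) (hqr : q ≤ r) (hp2 : ¬ (p = 2 ∧ q = 2))
    (hdvd : p ∣ 10200960 ∧ q ∣ 10200960 ∧ r ∣ 10200960) :
    (∃ x y z : Cfsg.Spor.M23, orderOf x = p ∧ orderOf y = q ∧ orderOf z = r ∧ x * y * z = 1 ∧
        Subgroup.closure {x, y} = ⊤) ↔
      ¬ ((p = 2 ∧ q = 3) ∨ (p = 2 ∧ q = 5 ∧ r = 5) ∨ (p = 2 ∧ q = 5 ∧ r = 7) ∨ (p = 3 ∧ q = 3 ∧ r ≤ 7)) := by
  obtain ⟨e⟩ := sporM23_equiv
  have hmp := prime_dvd_cases hp hdvd.1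
  have hmq := prime_dvd_cases hq hdvd.2.1
  have hmr := prime_dvd_cases hr hdvd.2.2
  constructor
  · rintro ⟨x, y, z, hx, hy, hz, hxyz, hcl⟩ hbad
    have hxy : orderOf (x * y) = r := by
      rw [eq_inv_of_mul_eq_one_left hxyz, orderOf_inv, hz]
    have hcl' : Subgroup.closure {e x, e y} = ⊤ := by
      have := congrArg (Subgroup.map e.toMonoidHom) hcl
      rwa [MonoidHom.map_closure, Set.image_insert_eq, Set.image_singleton,
        Subgroup.map_top_of_surjective _ e.surjective] at this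
    have ho : ∀ g : Cfsg.Spor.M23, orderOf ((e g : ↥stabOne) : Equiv.Perm GolayPt) = orderOf g := fun g => by
      rw [Subgroup.orderOf_coe, e.orderOf_eq]
    have hb := triangle_bound (e x) (e y) hcl'
    have b1 := orb_bound (e x).2 hp ((ho x).trans hx)
    have b2 := orb_bound (e y).2 hq ((ho y).trans hy)
    have b3 := orb_bound (e (x * y)).2 hr ((ho _).trans hxy)
    rw [map_mul, Subgroup.coe_mul] at b3
    rw [Subgroup.coe_mul] at hb
    simp only [List.mem_cons, List.not_mem_nil, or_false] at hmr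
    rcases hbad with ⟨rfl, rfl⟩ | ⟨rfl, rfl, rfl⟩ | ⟨rfl, rfl, rfl⟩ | ⟨rfl, rfl, h7⟩
    · rcases hmr with rfl | rfl | rfl | rfl | rfl | rfl <;> simp at b1 b2 b3 <;> omega
    · simp at b1 b2 b3; omega
    · simp at b1 b2 b3; omega
    · rcases hmr with rfl | rfl | rfl | rfl | rfl | rfl <;> simp at b1 b2 b3 <;> omega
  · intro hgood
    have := wits_cover p hmp q hmq r hmr hpq hqr hp2 hgood
    simp only [List.any_eq_true, Bool.and_eq_true, beq_iff_eq] at this
    obtain ⟨w, hw, ⟨rfl, rfl⟩, rfl⟩ := this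
    obtain ⟨x, y, hx, hy, hxy, hcl⟩ := witOk_spec (List.all_eq_true.1 wits_ok w hw) hp hq hr
    refine ⟨e.symm x, e.symm y, (e.symm (x * y))⁻¹, ?_, ?_, ?_, ?_, ?_⟩
    · rw [e.symm.orderOf_eq, hx]
    · rw [e.symm.orderOf_eq, hy]
    · rw [orderOf_inv, e.symm.orderOf_eq, hxy]
    · rw [map_mul, mul_inv_cancel]
    · have := congrArg (Subgroup.map e.symm.toMonoidHom) hcl
      rwa [MonoidHom.map_closure, Set.image_insert_eq, Set.image_singleton,
        Subgroup.map_top_of_surjective _ e.symm.surjective] at this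

end Cfsg.Agent.S5529
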