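import Cfsg.Statements.S5541

set_option autoImplicit false
open Cfsg

namespace Cfsg.Agent.S5541

/-- Let ρ be a representation of a group H on a finite-dimensional real vector space U whose only ρ-invariant subspaces are the zero subspace and U, and suppose U carries a non-zero ρ-invariant symmetric bilinear form. Then the following are equivalent: (1) there is a non-zero ρ-equivariant commutative bilinear product on U of which every ρ-equivariant bilinear product is a scalar multiple; (2) there is a non-zero ρ-invariant trilinear form on U that is symmetric under all permutations of its arguments and of which every ρ-invariant trilinear form is a scalar multiple. -/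
theorem result {H : Type*} [Group H] {U : Type*} [AddCommGroup U] [Module ℝ U] [FiniteDimensional ℝ U] (ρ : Representation ℝ H U) (hirr : ∀ W : Submodule ℝ U, (∀ g : H, W.map (ρ g) ≤ W) → W = ⊥ ∨ W = ⊤) (B : LinearMap.BilinForm ℝ U) (hB0 : B ≠ 0) (hBs : ∀ u v, B u v = B v u) (hBi : ∀ (g : H) (u v : U), B (ρ g u) (ρ g v) = B u v) : (∃ m : U →ₗ[ℝ] U →ₗ[ℝ] U, m ≠ 0 ∧ (∀ u v, m u v = m v u) ∧ (∀ (g : H) (u v : U), m (ρ g u) (ρ g v) = ρ g (m u v)) ∧ ∀ m' : U →ₗ[ℝ] U →ₗ[ℝ] U, (∀ (g : H) (u v : U), m' (ρ g u) (ρ g v) = ρ g (m' u v)) → ∃ c : ℝ, m' = c • m) ↔ (∃ t : U →ₗ[ℝ] U →ₗ[ℝ] U →ₗ[ℝ] ℝ, t ≠ 0 ∧ (∀ u v w, t u v w = t v u w ∧ t u v w = t u w v) ∧ (∀ (g : H) (u v w : U), t (ρ g u) (ρ g v) (ρ g w) = t u v w) ∧ ∀ t' : U →ₗ[ℝ] U →ₗ[ℝ] U →ₗ[ℝ] ℝ, (∀ (g : H) (u v w : U), t' (ρ g u) (ρ g v) (ρ g w) = t' u v w) → ∃ c : ℝ, t' = c • t) := by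
  -- the form is non-degenerate
  have hnd : ∀ u : U, (∀ v, B u v = 0) → u = 0 := by
    have hW := hirr (LinearMap.ker B) (fun g => by
      rintro _ ⟨u, hu, rfl⟩
      rw [SetLike.mem_coe, LinearMap.mem_ker] at hu
      rw [LinearMap.mem_ker]
      ext v
      have h := hBi g u (ρ g⁻¹ v)
      rw [← Module.End.mul_apply, ← map_mul, mul_inv_cancel, map_one, Module.End.one_apply] at h
      rw [h, hu]
      rfl)
    rcases hW with h | h
    · intro u hu
      have : u ∈ LinearMap.ker B := LinearMap.mem_ker.mpr (LinearMap.ext hu)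
      rwa [h, Submodule.mem_bot] at this
    · exact absurd (LinearMap.ker_eq_top.mp h) hB0
  have hinj : Function.Injective (B : U →ₗ[ℝ] Module.Dual ℝ U) := by
    rw [← LinearMap.ker_eq_bot, LinearMap.ker_eq_bot']
    intro u hu
    exact hnd u (fun v => by rw [hu]; rfl)
  let e : U ≃ₗ[ℝ] Module.Dual ℝ U :=
    LinearEquiv.ofInjectiveOfFinrankEq (B : U →ₗ[ℝ] Module.Dual ℝ U) hinj Subspace.dual_finrank_eq.symm
  have heB : ∀ u v : U, e u v = B u v := fun u v => rfl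
  have hext : ∀ u u' : U, (∀ w, B u w = B u' w) → u = u' := fun u u' h => hinj (LinearMap.ext h)
  let Φ : (U →ₗ[ℝ] U →ₗ[ℝ] U) → (U →ₗ[ℝ] U →ₗ[ℝ] U →ₗ[ℝ] ℝ) := fun m => m.compr₂ B
  let Ψ : (U →ₗ[ℝ] U →ₗ[ℝ] U →ₗ[ℝ] ℝ) → (U →ₗ[ℝ] U →ₗ[ℝ] U) := fun t =>
    t.compr₂ (e.symm : Module.Dual ℝ U →ₗ[ℝ] U)
  have hΦ : ∀ m u v w, Φ m u v w = B (m u v) w := fun m u v w => rfl
  have hΨ : ∀ t u v w, B (Ψ t u v) w = t u v w := by
    intro t u v w
    rw [← heB]
    show e (e.symm (t u v)) w = _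
    rw [e.apply_symm_apply]
  have hΦi : ∀ m : U →ₗ[ℝ] U →ₗ[ℝ] U, (∀ (g : H) u v, m (ρ g u) (ρ g v) = ρ g (m u v)) →
      ∀ (g : H) u v w, Φ m (ρ g u) (ρ g v) (ρ g w) = Φ m u v w := by
    intro m hm g u v w
    rw [hΦ, hΦ, hm, hBi]
  have hΨi : ∀ t : U →ₗ[ℝ] U →ₗ[ℝ] U →ₗ[ℝ] ℝ, (∀ (g : H) u v w, t (ρ g u) (ρ g v) (ρ g w) = t u v w) →
      ∀ (g : H) u v, Ψ t (ρ g u) (ρ g v) = ρ g (Ψ t u v) := by
    intro t htg g u v
    apply hext
    intro w
    have hw : w = ρ g (ρ g⁻¹ w) := by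
      rw [← Module.End.mul_apply, ← map_mul, mul_inv_cancel, map_one, Module.End.one_apply]
    rw [hw, hΨ, htg, hBi, hΨ]
  constructor
  · rintro ⟨m, hm0, hmc, hmi, hmu⟩
    have hmul : ∀ t' : U →ₗ[ℝ] U →ₗ[ℝ] U →ₗ[ℝ] ℝ,
        (∀ (g : H) u v w, t' (ρ g u) (ρ g v) (ρ g w) = t' u v w) → ∃ c : ℝ, t' = c • Φ m := by
      intro t' ht'
      obtain ⟨c, hc⟩ := hmu (Ψ t') (hΨi t' ht')
      refine ⟨c, ?_⟩
      ext u v w
      rw [← hΨ t' u v w, hc]
      simp [hΦ]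
    have hne : Φ m ≠ 0 := by
      intro h
      apply hm0
      ext u v
      apply hext
      intro w
      rw [← hΦ, h]
      simp
    have hs12 : ∀ u v w, Φ m u v w = Φ m v u w := fun u v w => by rw [hΦ, hΦ, hmc]
    obtain ⟨c, hc⟩ := hmul (LinearMap.lflip.toLinearMap ∘ₗ Φ m) (fun g u v w => by
      show Φ m (ρ g u) (ρ g w) (ρ g v) = Φ m u w v
      exact hΦi m hmi g u w v)
    have hcc : ∀ u v w, Φ m u w v = c * Φ m u v w := fun u v w => by
      have := LinearMap.congr_fun (LinearMap.congr_fun (LinearMap.congr_fun hc u) v) w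
      simpa using this
    refine ⟨Φ m, hne, fun u v w => ⟨hs12 u v w, ?_⟩, hΦi m hmi, hmul⟩
    obtain ⟨u₀, v₀, w₀, h0⟩ : ∃ u v w, Φ m u v w ≠ 0 := by
      by_contra h
      push Not at h
      exact hne (LinearMap.ext fun u => LinearMap.ext fun v => LinearMap.ext fun w => h u v w)
    have hc2 : c * c = 1 := by
      have := hcc u₀ w₀ v₀
      rw [hcc u₀ v₀ w₀, ← mul_assoc] at this
      exact mul_right_cancel₀ h0 (by rw [one_mul]; exact this.symm)
    rcases mul_self_eq_one_iff.mp hc2 with h | h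
    · rw [hcc u v w, h, one_mul]
    · exfalso
      apply h0
      have e1 : ∀ a b d, Φ m a d b = -Φ m a b d := fun a b d => by rw [hcc a b d, h]; ring
      have := e1 u₀ v₀ w₀
      have := hs12 u₀ w₀ v₀
      have := e1 w₀ u₀ v₀
      have := hs12 w₀ v₀ u₀
      have := e1 v₀ w₀ u₀
      have := hs12 v₀ u₀ w₀
      linarith
  · rintro ⟨t, ht0, hts, hti, htu⟩
    refine ⟨Ψ t, ?_, fun u v => hext _ _ (fun w => by rw [hΨ, hΨ]; exact (hts u v w).1), hΨi t hti, ?_⟩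
    · intro h
      apply ht0
      ext u v w
      rw [← hΨ t u v w, h]
      simp
    · intro m' hm'
      obtain ⟨c, hc⟩ := htu (Φ m') (hΦi m' hm')
      refine ⟨c, ?_⟩
      ext u v
      apply hext
      intro w
      rw [← hΦ, hc]
      simp [hΨ]

end Cfsg.Agent.S5541
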