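import Cfsg.Statements.S5543

set_option autoImplicit false
open Cfsg

namespace Cfsg.Agent.S5543

/-- Let V be a finite-dimensional real vector space with a commutative bilinear product and a positive-definite symmetric bilinear form that associates with the product and satisfies the Norton inequality (the Majorana setting of the definitions). Let X be a group of linear automorphisms of V in which every element squares to the identity, and suppose every non-identity element x of X is a Majorana involution with an axial vector a(x) of squared length 1, such that for any two distinct non-identity x, y the product a(x) ∘ a(y) equals (1/8)(a(x) + a(y) − a(xy)) (the dihedral subalgebra of type 2A whose third axis belongs to the involution xy). Then X has order at most 4. -/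
theorem result {V : Type*} [AddCommGroup V] [Module ℝ V] [FiniteDimensional ℝ V] (mul : V →ₗ[ℝ] V →ₗ[ℝ] V) (B : LinearMap.BilinForm ℝ V) (hV : Cfsg.Axial.IsMajoranaAmbient mul B) (X : Subgroup (V ≃ₗ[ℝ] V)) (hX : ∀ x ∈ X, x * x = 1) (ax : (V ≃ₗ[ℝ] V) → V) (hax : ∀ x ∈ X, x ≠ 1 → Cfsg.Axial.IsMajoranaPair mul B x (ax x)) (h1 : ∀ x ∈ X, x ≠ 1 → B (ax x) (ax x) = 1) (h2A : ∀ x ∈ X, ∀ y ∈ X, x ≠ 1 → y ≠ 1 → x ≠ y → mul (ax x) (ax y) = (1 / 8 : ℝ) • (ax x + ax y - ax (x * y))) : Nat.card ↥X ≤ 4 := by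
  classical
  obtain ⟨hcomm, -, -, -, -⟩ := id hV
  rcases finite_or_infinite ↥X with hfin | hinf
  swap
  · rw [Nat.card_eq_zero_of_infinite]; omega
  haveI := Fintype.ofFinite ↥X
  rw [Nat.card_eq_fintype_card]
  by_contra hcard
  push Not at hcard
  have pick : ∀ s : Finset ↥X, s.card ≤ 4 → ∃ u : ↥X, u ∉ s := fun s hs =>
    (Finset.exists_mem_notMem_of_card_lt_card (s := s) (t := Finset.univ) (by rw [Finset.card_univ]; omega)).imp
      fun u hu => hu.2
  obtain ⟨⟨x, hx⟩, hx1⟩ := pick {1} (by simp)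
  obtain ⟨⟨y, hy⟩, hy1⟩ := pick {1, ⟨x, hx⟩} (Finset.card_le_two.trans (by omega))
  obtain ⟨⟨z, hz⟩, hz1⟩ := pick {1, ⟨x, hx⟩, ⟨y, hy⟩, ⟨x * y, X.mul_mem hx hy⟩} Finset.card_le_four
  simp only [Finset.mem_singleton, Finset.mem_insert, Subgroup.mk_eq_one, Subtype.mk.injEq, not_or] at hx1 hy1 hz1
  obtain ⟨hy0, hyx⟩ := hy1
  obtain ⟨hz0, hzx, hzy, hzxy⟩ := hz1
  have hinv : ∀ u ∈ X, u⁻¹ = u := fun u hu => inv_eq_of_mul_eq_one_right (hX u hu)
  have hcm : ∀ u ∈ X, ∀ v ∈ X, u * v = v * u := fun u hu v hv => by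
    rw [← hinv _ (X.mul_mem hu hv), mul_inv_rev, hinv u hu, hinv v hv]
  have hxy0 : x * y ≠ 1 := fun h => hyx (by rw [← inv_eq_of_mul_eq_one_right h, hinv x hx])
  have hxz0 : x * z ≠ 1 := fun h => hzx (by rw [← inv_eq_of_mul_eq_one_right h, hinv x hx])
  have hyz0 : y * z ≠ 1 := fun h => hzy (by rw [← inv_eq_of_mul_eq_one_right h, hinv y hy])
  have hxyz0 : x * (y * z) ≠ 1 := by
    intro h
    rw [← mul_assoc] at h
    exact hzxy (by rw [← inv_eq_of_mul_eq_one_right h, hinv _ (X.mul_mem hx hy)])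
  have hne : x * (y * z) ≠ y * z := fun h => hx1 (mul_eq_right.mp h)
  have hxx := hX x hx
  -- products needed
  have Pxy := h2A x hx y hy hx1 hy0 (Ne.symm hyx)
  have Pxxy := h2A x hx (x * y) (X.mul_mem hx hy) hx1 hxy0 (fun h => hy0 (mul_eq_left.mp h.symm))
  rw [← mul_assoc, hxx, one_mul] at Pxxy
  have Pxz := h2A x hx z hz hx1 hz0 (Ne.symm hzx)
  have Pxxz := h2A x hx (x * z) (X.mul_mem hx hz) hx1 hxz0 (fun h => hz0 (mul_eq_left.mp h.symm))
  rw [← mul_assoc, hxx, one_mul] at Pxxz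
  have Pyz := h2A y hy z hz hy0 hz0 (Ne.symm hzy)
  have Pyxz := h2A y hy (x * z) (X.mul_mem hx hz) hy0 hxz0 (fun h => hzxy (by
    rw [h, ← mul_assoc, hxx, one_mul]))
  rw [show y * (x * z) = x * (y * z) by rw [← mul_assoc, ← mul_assoc, hcm y hy x hx]] at Pyxz
  have Pxyz := h2A (x * y) (X.mul_mem hx hy) z hz hxy0 hz0 (Ne.symm hzxy)
  rw [mul_assoc] at Pxyz
  have Pxyxz := h2A (x * y) (X.mul_mem hx hy) (x * z) (X.mul_mem hx hz) hxy0 hxz0
    (fun h => hzy (mul_left_cancel h).symm)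
  rw [show x * y * (x * z) = y * z by
    rw [hcm x hx y hy, mul_assoc, ← mul_assoc x x z, hxx, one_mul]] at Pxyxz
  have Pxw := h2A x hx (y * z) (X.mul_mem hy hz) hx1 hyz0 (fun h => hxyz0 (by rw [← h]; exact hxx))
  have Pxxw := h2A x hx (x * (y * z)) (X.mul_mem hx (X.mul_mem hy hz)) hx1 hxyz0
    (fun h => hyz0 (mul_eq_left.mp h.symm))
  rw [← mul_assoc x x, hxx, one_mul] at Pxxw
  -- the two 1/4-eigenvectors of the axis of `x`
  set A := ax x
  have hu : ax y - ax (x * y) ∈ Axial.eigen mul A (1 / 4 : ℝ) := by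
    rw [Axial.eigen, Module.End.mem_eigenspace_iff, map_sub, Pxy, Pxxy]; module
  have hv : ax z - ax (x * z) ∈ Axial.eigen mul A (1 / 4 : ℝ) := by
    rw [Axial.eigen, Module.End.mem_eigenspace_iff, map_sub, Pxz, Pxxz]; module
  obtain ⟨-, -, ⟨⟨-, -, -, hfus⟩, -⟩, -⟩ := hax x hx hx1
  have hmem := hfus (1 / 4) (by simp [Axial.majoranaSpectrum]) (1 / 4) (by simp [Axial.majoranaSpectrum]) _ hu _ hv
  set w := ax (x * (y * z)) - ax (y * z) with hw
  have hprod : mul (ax y - ax (x * y)) (ax z - ax (x * z)) = (1 / 4 : ℝ) • w := by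
    rw [hw, map_sub, map_sub, LinearMap.sub_apply, LinearMap.sub_apply, Pyz, Pyxz, Pxyz, Pxyxz]; module
  rw [hprod] at hmem
  have hlaw : Axial.monsterLaw (1 / 4 : ℝ) (1 / 32) (1 / 4) (1 / 4) = {1, 0} := by
    norm_num [Axial.monsterLaw]
  rw [hlaw, Axial.eigenSum, iSup_pair, Submodule.mem_sup] at hmem
  obtain ⟨f1, hf1, f0, hf0, hsum⟩ := hmem
  rw [Axial.eigen, Module.End.mem_eigenspace_iff] at hf1 hf0
  have hAw : mul A w = (1 / 4 : ℝ) • w := by
    rw [hw, map_sub, Pxw, Pxxw]; module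
  have e1 : mul A ((1 / 4 : ℝ) • w) = f1 := by
    rw [← hsum, map_add, hf1, hf0]; simp
  have e2 : mul A f1 = f1 := by rw [hf1, one_smul]
  rw [map_smul, hAw, smul_smul] at e1
  rw [← e1, map_smul, hAw, smul_smul] at e2
  have hw0 : w = 0 := by
    have : ((1 / 4 * (1 / 4) * (1 / 4) - 1 / 4 * (1 / 4)) : ℝ) • w = 0 := by rw [sub_smul, e2, sub_self]
    exact (smul_eq_zero.mp this).resolve_left (by norm_num)
  rw [hw, sub_eq_zero] at hw0
  have hb := h2A _ (X.mul_mem hx (X.mul_mem hy hz)) _ (X.mul_mem hy hz) hxyz0 hyz0 hne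
  rw [show x * (y * z) * (y * z) = x by rw [mul_assoc, hX _ (X.mul_mem hy hz), mul_one], hw0] at hb
  have hidem : mul (ax (y * z)) (ax (y * z)) = ax (y * z) := (hax _ (X.mul_mem hy hz) hyz0).2.2.1.1.2.1
  rw [hidem] at hb
  have h6 : A = (-6 : ℝ) • ax (y * z) := by
    linear_combination (norm := module) (-8 : ℝ) • hb.symm
  have hn := h1 x hx hx1
  rw [show ax x = A from rfl, h6, LinearMap.BilinForm.smul_left, LinearMap.BilinForm.smul_right,
    h1 _ (X.mul_mem hy hz) hyz0] at hn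
  norm_num at hn

end Cfsg.Agent.S5543
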