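import Cfsg.Statements.S5544
import Cfsg.Agent.Lib.Majorana.Dihedral

set_option autoImplicit false
open Cfsg

namespace Cfsg.Agent.S5544

open CfsgLib.Majorana

/-- Let V be a finite-dimensional real vector space with a commutative bilinear product and a positive-definite symmetric bilinear form that associates with the product and satisfies the Norton inequality (the Majorana setting of the definitions). Let μ₀ and μ₁ be Majorana involutions with axial vectors a₀ and a₁ of squared length 1, each involution having no other axial vector. Then the product μ₀μ₁ has order at most 6: some power (μ₀μ₁)^n with 1 ≤ n ≤ 6 is the identity (so the two involutions generate a dihedral group of order at most 12). This is the 6-transposition property of Majorana involutions. -/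
theorem result {V : Type*} [AddCommGroup V] [Module ℝ V] [FiniteDimensional ℝ V] (mul : V →ₗ[ℝ] V →ₗ[ℝ] V) (B : LinearMap.BilinForm ℝ V) (hV : Cfsg.Axial.IsMajoranaAmbient mul B) (μ₀ μ₁ : V ≃ₗ[ℝ] V) (a₀ a₁ : V) (h₀ : Cfsg.Axial.IsMajoranaPair mul B μ₀ a₀) (h₁ : Cfsg.Axial.IsMajoranaPair mul B μ₁ a₁) (hu₀ : ∀ a : V, Cfsg.Axial.IsMajoranaPair mul B μ₀ a → a = a₀) (hu₁ : ∀ a : V, Cfsg.Axial.IsMajoranaPair mul B μ₁ a → a = a₁) (hn₀ : B a₀ a₀ = 1) (hn₁ : B a₁ a₁ = 1) : ∃ n : ℕ, 1 ≤ n ∧ n ≤ 6 ∧ (μ₀ * μ₁) ^ n = 1 := by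
  have hm₀ : μ₀ * μ₀ = 1 := involutive h₀
  have hm₁ : μ₁ * μ₁ = 1 := involutive h₁
  have hi₀ : μ₀⁻¹ = μ₀ := inv_eq_of_mul_eq_one_right hm₀
  have hi₁ : μ₁⁻¹ = μ₁ := inv_eq_of_mul_eq_one_right hm₁
  set ρ := μ₁ * μ₀ with hρ
  have hρi : ρ⁻¹ = μ₀ * μ₁ := by rw [hρ, mul_inv_rev, hi₀, hi₁]
  have hρaut : ∀ k : ℤ, ρ ^ k ∈ AxisSeq.autGroup mul B := fun k =>
    zpow_mem (show ρ ∈ AxisSeq.autGroup mul B from
      (AxisSeq.autGroup mul B).mul_mem ⟨h₁.1, h₁.2.1⟩ ⟨h₀.1, h₀.2.1⟩) k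
  have hflip : ∀ k : ℤ, μ₀ * ρ ^ k = ρ ^ (-k) * μ₀ := by
    intro k
    have h : μ₀ * ρ * μ₀⁻¹ = ρ⁻¹ := by
      rw [hρi, hρ, hi₀, mul_assoc, mul_assoc, hm₀, mul_one]
    have h' : (μ₀ * ρ * μ₀⁻¹) ^ k = μ₀ * ρ ^ k * μ₀⁻¹ := conj_zpow
    rw [h, inv_zpow, ← zpow_neg] at h'
    rw [h', mul_assoc, inv_mul_cancel, mul_one]
  have hb : μ₀ a₁ = ρ⁻¹ a₁ := by
    rw [hρi]
    show μ₀ a₁ = μ₀ (μ₁ a₁)
    rw [apply_self h₁]
  let a : ℤ → V := fun j => if Even j then (ρ ^ (j / 2)) a₀ else (ρ ^ (j / 2)) a₁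
  let τ : ℤ → V ≃ₗ[ℝ] V := fun j => ρ ^ j * μ₀
  have he : ∀ k : ℤ, a (2 * k) = (ρ ^ k) a₀ := fun k => by
    simp only [a, even_two_mul, if_true, Int.mul_ediv_cancel_left k (two_ne_zero)]
  have ho : ∀ k : ℤ, a (2 * k + 1) = (ρ ^ k) a₁ := fun k => by
    have h : (2 * k + 1) / 2 = k := by omega
    simp only [a, Int.not_even_two_mul_add_one, if_false, h]
  have hcases : ∀ j : ℤ, ∃ k : ℤ, j = 2 * k ∨ j = 2 * k + 1 := fun j => ⟨j / 2, by omega⟩
  have hnorm : ∀ j, B (a j) (a j) = 1 := by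
    intro j
    obtain ⟨k, rfl | rfl⟩ := hcases j
    · rw [he, (hρaut k).2, hn₀]
    · rw [ho, (hρaut k).2, hn₁]
  have hrefl : ∀ i j, τ i (a j) = a (2 * i - j) := by
    intro i j
    obtain ⟨k, rfl | rfl⟩ := hcases j
    · rw [he, show 2 * i - 2 * k = 2 * (i - k) by ring, he]
      show (ρ ^ i * μ₀ * ρ ^ k) a₀ = _
      rw [mul_assoc, hflip, ← mul_assoc, ← zpow_add, ← sub_eq_add_neg]
      show (ρ ^ (i - k)) (μ₀ a₀) = _
      rw [apply_self h₀]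
    · rw [ho, show 2 * i - (2 * k + 1) = 2 * (i - k - 1) + 1 by ring, ho]
      show (ρ ^ i * μ₀ * ρ ^ k) a₁ = _
      rw [mul_assoc, hflip, ← mul_assoc, ← zpow_add, ← sub_eq_add_neg]
      show (ρ ^ (i - k)) (μ₀ a₁) = _
      rw [hb]
      show (ρ ^ (i - k) * ρ⁻¹) a₁ = _
      rw [← zpow_sub_one]
  have hpair : ∀ j, Cfsg.Axial.IsMajoranaPair mul B (τ j) (a j) := by
    intro j
    obtain ⟨k, rfl | rfl⟩ := hcases j
    · have h := pair_map (ρ ^ k) (hρaut k).1 (hρaut k).2 h₀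
      rw [mul_assoc, ← zpow_neg, hflip, ← mul_assoc, ← zpow_add, neg_neg, ← two_mul] at h
      rw [he]
      exact h
    · have h := pair_map (ρ ^ k) (hρaut k).1 (hρaut k).2 h₁
      have h1 : μ₁ = ρ * μ₀ := by rw [hρ, mul_assoc, hm₀, mul_one]
      rw [h1, mul_assoc, mul_assoc, ← zpow_neg, hflip, neg_neg, ← mul_assoc, ← mul_assoc,
        ← zpow_add_one, ← zpow_add] at h
      rw [ho]
      have e : k + 1 + k = 2 * k + 1 := by ring
      rw [e] at h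
      exact h
  obtain ⟨n, hn1, hn6, hn⟩ :=
    AxisSeq.exists_period hV (⟨a, τ, hpair, hnorm, hrefl⟩ : AxisSeq mul B)
  refine ⟨n, hn1, hn6, ?_⟩
  have h := hpair n
  have h0 := hpair 0
  simp only at hn
  rw [hn] at h
  have hτ : τ n = τ 0 := miyamoto_unique h h0
  simp only [τ, zpow_zero, one_mul, zpow_natCast] at hτ
  have hρn : ρ ^ n = 1 := mul_eq_right.mp hτ
  rw [← hρi, inv_pow, hρn, inv_one]

end Cfsg.Agent.S5544
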