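import Cfsg.Statements.S5545

set_option autoImplicit false
open Cfsg

namespace Cfsg.Agent.S5545

/-- Let V be a finite-dimensional real vector space with a commutative bilinear product and a positive-definite symmetric bilinear form that associates with the product and satisfies the Norton inequality (the Majorana setting of the definitions). Let μ₀, μ₁ be commuting Majorana involutions with distinct axial vectors a₀ ≠ a₁ of squared length 1, each involution having no other axial vector. Then either a₀ and a₁ are orthogonal with a₀ ∘ a₁ = 0 (type 2B), or their inner product is 1/8 and, with a₂ = a₀ + a₁ − 8 a₀ ∘ a₁, the vector a₂ is an idempotent and a₀ ∘ a₂ = (1/8)(a₀ + a₂ − a₁), a₁ ∘ a₂ = (1/8)(a₁ + a₂ − a₀) (type 2A: the three idempotents span a subalgebra with aᵢ ∘ aⱼ = (1/8)(aᵢ + aⱼ − aₖ)). -/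
theorem result {V : Type*} [AddCommGroup V] [Module ℝ V] [FiniteDimensional ℝ V] (mul : V →ₗ[ℝ] V →ₗ[ℝ] V) (B : LinearMap.BilinForm ℝ V) (hV : Cfsg.Axial.IsMajoranaAmbient mul B) (μ₀ μ₁ : V ≃ₗ[ℝ] V) (a₀ a₁ : V) (h₀ : Cfsg.Axial.IsMajoranaPair mul B μ₀ a₀) (h₁ : Cfsg.Axial.IsMajoranaPair mul B μ₁ a₁) (hu₀ : ∀ a : V, Cfsg.Axial.IsMajoranaPair mul B μ₀ a → a = a₀) (hu₁ : ∀ a : V, Cfsg.Axial.IsMajoranaPair mul B μ₁ a → a = a₁) (hn₀ : B a₀ a₀ = 1) (hn₁ : B a₁ a₁ = 1) (hc : μ₀ * μ₁ = μ₁ * μ₀) (hne : a₀ ≠ a₁) : (B a₀ a₁ = 0 ∧ mul a₀ a₁ = 0) ∨ (B a₀ a₁ = 1 / 8 ∧ mul (a₀ + a₁ - (8 : ℝ) • mul a₀ a₁) (a₀ + a₁ - (8 : ℝ) • mul a₀ a₁) = a₀ + a₁ - (8 : ℝ) • mul a₀ a₁ ∧ mul a₀ (a₀ + a₁ - (8 : ℝ) • mul a₀ a₁) = (1 / 8 : ℝ) • (a₀ + (a₀ + a₁ - (8 : ℝ) • mul a₀ a₁) - a₁) ∧ mul a₁ (a₀ + a₁ - (8 : ℝ) • mul a₀ a₁) = (1 / 8 : ℝ) • (a₁ + (a₀ + a₁ - (8 : ℝ) • mul a₀ a₁) - a₀)) := by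
  obtain ⟨hcm, hBs, hpos, hassoc, -⟩ := hV
  obtain ⟨hm0, hB0, ⟨⟨ha0, hid0, hdec0, hfus0⟩, hprim0⟩, hM0⟩ := id h₀
  obtain ⟨hm1, hB1, ⟨⟨ha1, hid1, hdec1, hfus1⟩, hprim1⟩, hM1⟩ := id h₁
  have hsum : ∀ (a : V) (c d : ℝ), Axial.eigenSum mul a {c, d} = Axial.eigen mul a c ⊔ Axial.eigen mul a d :=
    fun a c d => iSup_pair
  have hev : ∀ (a : V) (c : ℝ) (v : V), v ∈ Axial.eigen mul a c ↔ mul a v = c • v :=
    fun a c v => Module.End.mem_eigenspace_iff
  -- `μ₁` fixes `a₀`
  have hcc : ∀ v, μ₁ (μ₀ v) = μ₀ (μ₁ v) := fun v => (LinearEquiv.congr_fun hc v).symm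
  have hE : ∀ c v, v ∈ Axial.eigen mul (μ₁ a₀) c ↔ μ₁.symm v ∈ Axial.eigen mul a₀ c := by
    intro c v
    rw [hev, hev]
    constructor
    · intro h
      apply μ₁.injective
      rw [hm1, map_smul, μ₁.apply_symm_apply, h]
    · intro h
      have h' := congrArg μ₁ h
      rwa [hm1, map_smul, μ₁.apply_symm_apply] at h'
  have hES : ∀ S : Set ℝ, ∀ v, μ₁.symm v ∈ Axial.eigenSum mul a₀ S → v ∈ Axial.eigenSum mul (μ₁ a₀) S := by
    intro S v hv
    have hle : Axial.eigenSum mul a₀ S ≤ (Axial.eigenSum mul (μ₁ a₀) S).comap (μ₁ : V →ₗ[ℝ] V) := by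
      refine iSup₂_le fun c hcS w hw => ?_
      refine Submodule.mem_iSup_of_mem c (Submodule.mem_iSup_of_mem hcS ?_)
      rw [hE]
      simpa using hw
    simpa using hle hv
  have hfix : μ₁ a₀ = a₀ := by
    apply hu₀
    refine ⟨hm0, hB0, ⟨⟨fun h => ha0 (μ₁.injective (h.trans (map_zero _).symm)), ?_, ?_, ?_⟩, ?_⟩, ?_, ?_⟩
    · rw [← hm1, hid0]
    · rw [eq_top_iff]
      exact fun v _ => hES _ v (by rw [hdec0]; trivial)
    · intro c hc' d hd u hu v hv
      refine hES _ _ ?_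
      have : μ₁.symm (mul u v) = mul (μ₁.symm u) (μ₁.symm v) := by
        apply μ₁.injective
        rw [hm1, μ₁.apply_symm_apply, μ₁.apply_symm_apply, μ₁.apply_symm_apply]
      rw [this]
      exact hfus0 c hc' d hd _ ((hE c u).mp hu) _ ((hE d v).mp hv)
    · ext v
      rw [hE, hprim0, Submodule.mem_span_singleton, Submodule.mem_span_singleton]
      constructor
      · rintro ⟨t, ht⟩; exact ⟨t, by rw [← map_smul, ht, μ₁.apply_symm_apply]⟩
      · rintro ⟨t, ht⟩; exact ⟨t, by rw [← ht, map_smul, μ₁.symm_apply_apply]⟩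
    · intro v hv
      have hle : Axial.eigenSum mul (μ₁ a₀) {1, 0, 1 / 4} ≤
          (Axial.eigenSum mul a₀ {1, 0, 1 / 4}).comap (μ₁.symm : V →ₗ[ℝ] V) := by
        refine iSup₂_le fun c hcS w hw => ?_
        exact Submodule.mem_iSup_of_mem c (Submodule.mem_iSup_of_mem hcS ((hE c w).mp hw))
      have h := hM0.1 _ (hle hv)
      have h' := congrArg μ₁ h
      simp only [LinearEquiv.coe_coe, hcc, μ₁.apply_symm_apply] at h'
      exact h'
    · intro v hv
      have h := hM0.2 _ ((hE _ v).mp hv)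
      have h' := congrArg μ₁ h
      simp only [LinearEquiv.coe_coe, hcc, map_neg, μ₁.apply_symm_apply] at h'
      exact h'
  -- decomposition with respect to `a₁`
  obtain ⟨l, u, hu, w, hw, hdec⟩ : ∃ l : ℝ, ∃ u, mul a₁ u = 0 ∧ ∃ w, mul a₁ w = (1 / 4 : ℝ) • w ∧
      a₀ = l • a₁ + u + w := by
    have h : a₀ ∈ Axial.eigenSum mul a₁ Axial.majoranaSpectrum := by rw [hdec1]; trivial
    rw [Axial.eigenSum, Axial.majoranaSpectrum, iSup_insert, iSup_insert, iSup_pair] at h
    obtain ⟨f1, hf1, r1, hr1, e1⟩ := Submodule.mem_sup.mp h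
    obtain ⟨f0, hf0, r2, hr2, e2⟩ := Submodule.mem_sup.mp hr1
    obtain ⟨f4, hf4, f32, hf32, e3⟩ := Submodule.mem_sup.mp hr2
    have hin : ∀ c ∈ ({1, 0, 1 / 4} : Set ℝ), ∀ x ∈ Axial.eigen mul a₁ c, μ₁ x = x := fun c hc' x hx =>
      hM1.1 x (Submodule.mem_iSup_of_mem c (Submodule.mem_iSup_of_mem hc' hx))
    have hneg : μ₁ f32 = -f32 := hM1.2 f32 hf32
    have h32 : f32 = 0 := by
      have h' := hfix
      rw [← e1, ← e2, ← e3, map_add, map_add, map_add, hin 1 (by simp) f1 hf1, hin 0 (by simp) f0 hf0,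
        hin _ (by simp) f4 hf4, hneg] at h'
      linear_combination (norm := module) (-1 / 2 : ℝ) • h'
    rw [hprim1, Submodule.mem_span_singleton] at hf1
    obtain ⟨l, rfl⟩ := hf1
    rw [hev] at hf0 hf4
    exact ⟨l, f0, by rw [hf0, zero_smul], f4, hf4, by rw [← e1, ← e2, ← e3, h32]; module⟩
  have hproj : ∀ (p p' : ℝ) (q q' r r' : V), mul a₁ q = 0 → mul a₁ q' = 0 → mul a₁ r = (1 / 4 : ℝ) • r →
      mul a₁ r' = (1 / 4 : ℝ) • r' → p • a₁ + q + r = p' • a₁ + q' + r' → p = p' ∧ q = q' ∧ r = r' := by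
    intro p p' q q' r r' hq hq' hr hr' he
    have e1 := congrArg (mul a₁) he
    simp only [map_add, map_smul, hid1, hq, hq', hr, hr', add_zero] at e1
    have e2 := congrArg (mul a₁) e1
    simp only [map_add, map_smul, hid1, hr, hr', smul_smul] at e2
    have hr2 : r = r' := by
      linear_combination (norm := module) (16 / 3 : ℝ) • e1 - (16 / 3 : ℝ) • e2
    subst hr2
    have hp : (p - p') • a₁ = 0 := by linear_combination (norm := module) e1
    have hpp : p = p' := sub_eq_zero.mp ((smul_eq_zero.mp hp).resolve_right ha1)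
    subst hpp
    exact ⟨rfl, by linear_combination (norm := module) he, rfl⟩
  have hu' : u ∈ Axial.eigen mul a₁ (0 : ℝ) := (hev _ _ _).mpr (by rw [hu, zero_smul])
  have hw' : w ∈ Axial.eigen mul a₁ (1 / 4 : ℝ) := (hev _ _ _).mpr hw
  have hz : (0 : ℝ) ∈ Axial.majoranaSpectrum := by simp [Axial.majoranaSpectrum]
  have hq : (1 / 4 : ℝ) ∈ Axial.majoranaSpectrum := by simp [Axial.majoranaSpectrum]
  have huu : mul a₁ (mul u u) = 0 := by
    have h := hfus1 _ hz _ hz u hu' u hu'
    rw [show Axial.monsterLaw (1 / 4 : ℝ) (1 / 32) 0 0 = {0} by norm_num [Axial.monsterLaw],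
      Axial.eigenSum, iSup_singleton, hev, zero_smul] at h
    exact h
  have huw : mul a₁ (mul u w) = (1 / 4 : ℝ) • mul u w := by
    have h := hfus1 _ hz _ hq u hu' w hw'
    rw [show Axial.monsterLaw (1 / 4 : ℝ) (1 / 32) 0 (1 / 4) = {1 / 4} by norm_num [Axial.monsterLaw],
      Axial.eigenSum, iSup_singleton, hev] at h
    exact h
  obtain ⟨t, w0, hw0, hww⟩ : ∃ t : ℝ, ∃ w0, mul a₁ w0 = 0 ∧ mul w w = t • a₁ + w0 := by
    have h := hfus1 _ hq _ hq w hw' w hw'
    rw [show Axial.monsterLaw (1 / 4 : ℝ) (1 / 32) (1 / 4) (1 / 4) = {1, 0} by norm_num [Axial.monsterLaw],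
      hsum] at h
    obtain ⟨f1, hf1, f0, hf0, e⟩ := Submodule.mem_sup.mp h
    rw [hprim1, Submodule.mem_span_singleton] at hf1
    obtain ⟨t, rfl⟩ := hf1
    rw [hev, zero_smul] at hf0
    exact ⟨t, f0, hf0, e.symm⟩
  -- inner products
  have ho1 : ∀ c : ℝ, c ≠ 1 → ∀ v, mul a₁ v = c • v → B a₁ v = 0 := by
    intro c hc1 v hv
    have h := hassoc a₁ a₁ v
    rw [hid1, hv, map_smul, smul_eq_mul] at h
    have : (c - 1) * B a₁ v = 0 := by linarith
    exact (mul_eq_zero.mp this).resolve_left (sub_ne_zero.mpr hc1)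
  have hau : B a₁ u = 0 := ho1 0 (by norm_num) u (by rw [hu, zero_smul])
  have haw : B a₁ w = 0 := ho1 (1 / 4) (by norm_num) w hw
  have huwB : B u w = 0 := by
    have h := hassoc u a₁ w
    rw [hw, hcm u a₁, hu, map_zero, LinearMap.zero_apply, map_smul, smul_eq_mul] at h
    linarith
  have hl : B a₀ a₁ = l := by
    rw [hdec, LinearMap.BilinForm.add_left, LinearMap.BilinForm.add_left, LinearMap.BilinForm.smul_left,
      hn₁, hBs u a₁, hBs w a₁, hau, haw]
    ring
  have htw : t = (1 / 4 : ℝ) * B w w := by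
    have h := hassoc a₁ w w
    rw [hww, hw, map_add, map_smul, hn₁, ho1 0 (by norm_num) w0 (by rw [hw0, zero_smul]),
      LinearMap.BilinForm.smul_left] at h
    simpa using h
  have hmul_expand : ∀ (p : ℝ) (q r : V) (p' : ℝ) (q' r' : V),
      mul (p • a₁ + q + r) (p' • a₁ + q' + r') = (p * p') • a₁ + p • mul a₁ q' + p • mul a₁ r' +
        p' • mul a₁ q + mul q q' + mul q r' + p' • mul a₁ r + mul r q' + mul r r' := by
    intro p q r p' q' r'
    simp only [map_add, map_smul, LinearMap.add_apply, LinearMap.smul_apply, hid1, hcm q a₁, hcm r a₁]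
    module
  have hidem := hid0
  rw [hdec, hmul_expand, hu, hw, hcm w u, hww] at hidem
  obtain ⟨e1, e0, e4⟩ := hproj (l * l + t) l (mul u u + w0) u ((l / 2) • w + (2 : ℝ) • mul u w) w
    (by rw [map_add, huu, hw0, add_zero]) hu
    (by rw [map_add, map_smul, map_smul, hw, huw]; module) hw
    (by linear_combination (norm := module) hidem)
  have hprod : mul a₀ a₁ = l • a₁ + (1 / 4 : ℝ) • w := by
    rw [hcm, hdec, map_add, map_add, map_smul, hid1, hu, hw, add_zero]
  by_cases hw00 : w = 0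
  · -- orthogonal case
    subst hw00
    simp only [LinearMap.BilinForm.zero_left, mul_zero] at htw
    subst htw
    have : l * (l - 1) = 0 := by linarith
    rcases mul_eq_zero.mp this with h | h
    · left; rw [hl, hprod, h]; simp
    · exfalso
      apply hne
      have hl1 : l = 1 := by linarith
      have hn := hn₀
      subst hl1
      rw [hdec, one_smul, add_zero] at hn
      simp only [LinearMap.BilinForm.add_left, LinearMap.BilinForm.add_right, hn₁, hBs u a₁, hau] at hn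
      have hu0 : u = 0 := by
        by_contra h0
        have := hpos u h0
        linarith
      rw [hdec, hu0, one_smul, add_zero, add_zero]
  · right
    -- `a₁` with respect to `a₀`
    have hw4 : mul a₀ ((4 : ℝ) • mul a₀ a₁ - (4 * B a₀ a₁) • a₀) =
        (1 / 4 : ℝ) • ((4 : ℝ) • mul a₀ a₁ - (4 * B a₀ a₁) • a₀) := by
      have hfix1 : μ₀ a₁ = a₁ := by
        apply hu₁
        have hcc' : ∀ v, μ₀ (μ₁ v) = μ₁ (μ₀ v) := fun v => (hcc v).symm
        have hE' : ∀ c v, v ∈ Axial.eigen mul (μ₀ a₁) c ↔ μ₀.symm v ∈ Axial.eigen mul a₁ c := by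
          intro c v
          rw [hev, hev]
          constructor
          · intro h
            apply μ₀.injective
            rw [hm0, map_smul, μ₀.apply_symm_apply, h]
          · intro h
            have h' := congrArg μ₀ h
            rwa [hm0, map_smul, μ₀.apply_symm_apply] at h'
        have hES' : ∀ S : Set ℝ, ∀ v, μ₀.symm v ∈ Axial.eigenSum mul a₁ S → v ∈ Axial.eigenSum mul (μ₀ a₁) S := by
          intro S v hv
          have hle : Axial.eigenSum mul a₁ S ≤ (Axial.eigenSum mul (μ₀ a₁) S).comap (μ₀ : V →ₗ[ℝ] V) := by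
            refine iSup₂_le fun c hcS w hw => ?_
            refine Submodule.mem_iSup_of_mem c (Submodule.mem_iSup_of_mem hcS ?_)
            rw [hE']
            simpa using hw
          simpa using hle hv
        refine ⟨hm1, hB1, ⟨⟨fun h => ha1 (μ₀.injective (h.trans (map_zero _).symm)), ?_, ?_, ?_⟩, ?_⟩, ?_, ?_⟩
        · rw [← hm0, hid1]
        · rw [eq_top_iff]
          exact fun v _ => hES' _ v (by rw [hdec1]; trivial)
        · intro c hc' d hd u hu v hv
          refine hES' _ _ ?_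
          have : μ₀.symm (mul u v) = mul (μ₀.symm u) (μ₀.symm v) := by
            apply μ₀.injective
            rw [hm0, μ₀.apply_symm_apply, μ₀.apply_symm_apply, μ₀.apply_symm_apply]
          rw [this]
          exact hfus1 c hc' d hd _ ((hE' c u).mp hu) _ ((hE' d v).mp hv)
        · ext v
          rw [hE', hprim1, Submodule.mem_span_singleton, Submodule.mem_span_singleton]
          constructor
          · rintro ⟨t, ht⟩; exact ⟨t, by rw [← map_smul, ht, μ₀.apply_symm_apply]⟩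
          · rintro ⟨t, ht⟩; exact ⟨t, by rw [← ht, map_smul, μ₀.symm_apply_apply]⟩
        · intro v hv
          have hle : Axial.eigenSum mul (μ₀ a₁) {1, 0, 1 / 4} ≤
              (Axial.eigenSum mul a₁ {1, 0, 1 / 4}).comap (μ₀.symm : V →ₗ[ℝ] V) := by
            refine iSup₂_le fun c hcS w hw => ?_
            exact Submodule.mem_iSup_of_mem c (Submodule.mem_iSup_of_mem hcS ((hE' c w).mp hw))
          have h := hM1.1 _ (hle hv)
          have h' := congrArg μ₀ h
          simp only [LinearEquiv.coe_coe, hcc', μ₀.apply_symm_apply] at h'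
          exact h'
        · intro v hv
          have h := hM1.2 _ ((hE' _ v).mp hv)
          have h' := congrArg μ₀ h
          simp only [LinearEquiv.coe_coe, hcc', map_neg, μ₀.apply_symm_apply] at h'
          exact h'
      have h : a₁ ∈ Axial.eigenSum mul a₀ Axial.majoranaSpectrum := by rw [hdec0]; trivial
      rw [Axial.eigenSum, Axial.majoranaSpectrum, iSup_insert, iSup_insert, iSup_pair] at h
      obtain ⟨f1, hf1, r1, hr1, g1⟩ := Submodule.mem_sup.mp h
      obtain ⟨f0, hf0, r2, hr2, g2⟩ := Submodule.mem_sup.mp hr1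
      obtain ⟨f4, hf4, f32, hf32, g3⟩ := Submodule.mem_sup.mp hr2
      have hin : ∀ c ∈ ({1, 0, 1 / 4} : Set ℝ), ∀ x ∈ Axial.eigen mul a₀ c, μ₀ x = x := fun c hc' x hx =>
        hM0.1 x (Submodule.mem_iSup_of_mem c (Submodule.mem_iSup_of_mem hc' hx))
      have hneg : μ₀ f32 = -f32 := hM0.2 f32 hf32
      have h32 : f32 = 0 := by
        have h' := hfix1
        rw [← g1, ← g2, ← g3, map_add, map_add, map_add, hin 1 (by simp) f1 hf1, hin 0 (by simp) f0 hf0,
          hin _ (by simp) f4 hf4, hneg] at h'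
        linear_combination (norm := module) (-1 / 2 : ℝ) • h'
      rw [hprim0, Submodule.mem_span_singleton] at hf1
      obtain ⟨l', rfl⟩ := hf1
      rw [hev] at hf0 hf4
      have hd1 : a₁ = l' • a₀ + f0 + f4 := by rw [← g1, ← g2, ← g3, h32]; module
      have hl' : B a₀ a₁ = l' := by
        have o0 : ∀ c : ℝ, c ≠ 1 → ∀ v, mul a₀ v = c • v → B a₀ v = 0 := by
          intro c hc1 v hv
          have h := hassoc a₀ a₀ v
          rw [hid0, hv, map_smul, smul_eq_mul] at h
          have : (c - 1) * B a₀ v = 0 := by linarith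
          exact (mul_eq_zero.mp this).resolve_left (sub_ne_zero.mpr hc1)
        rw [hd1, map_add, map_add, map_smul, hn₀, o0 0 (by norm_num) f0 hf0, o0 _ (by norm_num) f4 hf4]
        simp
      have hp0 : mul a₀ a₁ = l' • a₀ + (1 / 4 : ℝ) • f4 := by
        rw [hd1, map_add, map_add, map_smul, hid0, hf0, hf4]; module
      rw [hl', hp0, show (4 : ℝ) • (l' • a₀ + (1 / 4 : ℝ) • f4) - (4 * l') • a₀ = f4 by module, hf4]
    rw [hl, hprod] at hw4
    rw [show (4 : ℝ) • (l • a₁ + (1 / 4 : ℝ) • w) - (4 * l) • a₀ =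
      (4 * l * (1 - l)) • a₁ + (-4 * l) • u + (1 - 4 * l) • w by rw [hdec]; module] at hw4
    rw [hdec, hmul_expand, map_smul, map_smul, map_smul, map_smul, hu, hw, map_smul, map_smul, hcm w u,
      hww] at hw4
    obtain ⟨-, f0, f4⟩ := hproj
      (l * (4 * l * (1 - l)) + (1 - 4 * l) * t) ((1 / 4) * (4 * l * (1 - l)))
      ((-4 * l) • mul u u + (1 - 4 * l) • w0) (((1 / 4) * (-4 * l)) • u)
      ((l * (1 - 4 * l) / 4 + (4 * l * (1 - l)) / 4) • w + (-4 * l + (1 - 4 * l)) • mul u w)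
      ((1 / 4 * (1 - 4 * l)) • w)
      (by rw [map_add, map_smul, map_smul, huu, hw0]; module) (by rw [map_smul, hu, smul_zero])
      (by rw [map_add, map_smul, map_smul, hw, huw]; module) (by rw [map_smul, hw]; module)
      (by linear_combination (norm := module) hw4)
    have hcoef : (1 / 4 - 2 * l) • w = 0 := by
      linear_combination (norm := module) f4 - ((1 - 8 * l) / 2) • e4
    have hl8 : l = 1 / 8 := by
      have := (smul_eq_zero.mp hcoef).resolve_right hw00
      linarith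
    subst hl8
    have huw' : mul u w = (15 / 32 : ℝ) • w := by linear_combination (norm := module) (1 / 2 : ℝ) • e4
    have huu' : mul u u = (5 / 8 : ℝ) • u := by
      linear_combination (norm := module) -f0 + (1 / 2 : ℝ) • e0
    have hw0' : w0 = (3 / 8 : ℝ) • u := by linear_combination (norm := module) e0 - huu'
    have ht : t = 7 / 64 := by linarith
    subst ht
    subst hw0'
    have hid : a₀ + a₁ - (8 : ℝ) • mul a₀ a₁ = (1 / 8 : ℝ) • a₁ + u + (-1 : ℝ) • w := by
      rw [hprod, hdec]; module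
    refine ⟨hl, ?_, ?_, ?_⟩
    · rw [hid, hmul_expand, map_smul, map_smul, map_smul, LinearMap.smul_apply, LinearMap.smul_apply,
        hcm w u, hu, hw, huu', huw', map_smul, hww]
      module
    · rw [hid, hdec, hmul_expand, map_smul, map_smul, map_smul, hcm w u, hu, hw, huu', huw', hww]
      module
    · rw [hid, map_add, map_add, map_smul, map_smul, hid1, hu, hw, hdec]
      module

end Cfsg.Agent.S5545
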