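import Cfsg.Statements.S5546
import Cfsg.Agent.Lib.Leech.Basic
import Cfsg.Prelude.Def_Spor_Conway

set_option autoImplicit false
open Cfsg

namespace Cfsg.Agent.S5546

/-- The second Conway group (the stabilizer in the Leech lattice automorphism group of the short vector fixed in the definitions) is isomorphic to a subgroup of the general linear group of degree 23 over the field with 13 elements: there is an injective homomorphism into it. -/
theorem result : ∃ f : ↥Cfsg.Spor.Co2 →* GL (Fin 23) (ZMod 13), Function.Injective f := by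
  classical
  have h8 : (8 : ZMod 13) ≠ 0 := by decide
  haveI : Fact (Nat.Prime 13) := ⟨by norm_num⟩
  have he8 : ∀ i : Cfsg.GolayPt, (fun j => if j = i then (8 : ℤ) else 0) ∈ Cfsg.leechLattice := fun i => by
    refine CfsgLib.Leech.mem_leechLattice_iff_form.2
      ⟨⟨0, ∅, fun j => if j = i then 2 else 0, CfsgLib.Leech.codeSet_empty, fun j => ?_, ?_⟩⟩
    · simp [CfsgLib.Leech.indi]
    · simp only [Finset.sum_ite_eq', Finset.mem_univ, if_true]; decide
  let e8 : Cfsg.GolayPt → Cfsg.leechLattice := fun i => ⟨_, he8 i⟩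
  let bar : Cfsg.leechLattice → (Cfsg.GolayPt → ZMod 13) := fun v j => (((v : Cfsg.GolayPt → ℤ) j : ℤ) : ZMod 13)
  -- the reduced matrix of an automorphism
  let M : Equiv.Perm Cfsg.leechLattice → Matrix Cfsg.GolayPt Cfsg.GolayPt (ZMod 13) :=
    fun g => Matrix.of fun j i => (8 : ZMod 13)⁻¹ * bar (g (e8 i)) j
  have hadd : ∀ g ∈ Cfsg.Co0, ∃ φ : Cfsg.leechLattice →+ Cfsg.leechLattice, ∀ v, φ v = g v :=
    fun g hg => ⟨AddMonoidHom.mk' g hg.1, fun v => rfl⟩
  have hkey : ∀ g ∈ Cfsg.Co0, ∀ v : Cfsg.leechLattice, (M g).mulVec (bar v) = bar (g v) := by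
    intro g hg v
    obtain ⟨φ, hφ⟩ := hadd g hg
    have hv : (8 : ℤ) • v = ∑ i, (v : Cfsg.GolayPt → ℤ) i • e8 i := by
      apply Subtype.ext
      funext j
      simp only [AddSubgroup.coe_zsmul, AddSubmonoidClass.coe_finsetSum, Finset.sum_apply, Pi.smul_apply,
        smul_eq_mul, e8, mul_ite, mul_zero, Finset.sum_ite_eq, Finset.mem_univ, if_true]
      ring
    have h := congrArg (fun w => bar (φ w)) hv
    simp only [map_zsmul, map_sum] at h
    simp only [hφ] at h
    funext j
    have hj := congrFun h j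
    simp only [bar, AddSubgroup.coe_zsmul, AddSubmonoidClass.coe_finsetSum, Finset.sum_apply, Pi.smul_apply,
      smul_eq_mul, Int.cast_mul, Int.cast_sum, Int.cast_ofNat] at hj
    simp only [Matrix.mulVec, dotProduct, M, Matrix.of_apply, bar]
    rw [← mul_right_inj' h8, hj, Finset.mul_sum]
    refine Finset.sum_congr rfl fun i _ => ?_
    rw [← mul_assoc, ← mul_assoc, mul_inv_cancel₀ h8, one_mul, mul_comm]
  have hcol : ∀ i, bar (e8 i) = (8 : ZMod 13) • Pi.single i 1 := by
    intro i; funext j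
    by_cases h : j = i <;> simp [bar, e8, h]
  have hext : ∀ A B : Matrix Cfsg.GolayPt Cfsg.GolayPt (ZMod 13),
      (∀ v, A.mulVec (bar v) = B.mulVec (bar v)) → A = B := by
    intro A B h
    ext j i
    have hi := congrFun (h (e8 i)) j
    rw [hcol, Matrix.mulVec_smul, Matrix.mulVec_smul, Pi.smul_apply, Pi.smul_apply, smul_eq_mul, smul_eq_mul,
      mul_right_inj' h8] at hi
    simpa using hi
  have hM1 : M 1 = 1 := hext _ _ fun v => by rw [hkey 1 (one_mem _), Matrix.one_mulVec]; rfl
  have hMmul : ∀ g ∈ Cfsg.Co0, ∀ h ∈ Cfsg.Co0, M (g * h) = M g * M h := fun g hg h hh => hext _ _ fun v => by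
    rw [hkey _ (mul_mem hg hh), ← Matrix.mulVec_mulVec, hkey h hh, hkey g hg]; rfl
  have hdot : ∀ g ∈ Cfsg.Co0, ∀ v w : Cfsg.leechLattice,
      Cfsg.dotInt ((g v : Cfsg.leechLattice) : Cfsg.GolayPt → ℤ) (g w : Cfsg.leechLattice) =
        Cfsg.dotInt (v : Cfsg.GolayPt → ℤ) w := by
    intro g hg v w
    have h := hg.2 (v + w)
    rw [hg.1, AddSubgroup.coe_add, AddSubgroup.coe_add, CfsgLib.Leech.sqNorm_add, CfsgLib.Leech.sqNorm_add,
      hg.2 v, hg.2 w] at h
    linarith
  set u := Cfsg.Spor.leechU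
  let L : (Cfsg.GolayPt → ZMod 13) →ₗ[ZMod 13] ZMod 13 := ∑ j, bar u j • LinearMap.proj j
  have hL : ∀ x, L x = ∑ j, bar u j * x j := fun x => by simp [L]
  have hLbar : ∀ v : Cfsg.leechLattice, L (bar v) = (Cfsg.dotInt (u : Cfsg.GolayPt → ℤ) v : ZMod 13) := by
    intro v; rw [hL, Cfsg.dotInt, Int.cast_sum]
    exact Finset.sum_congr rfl fun j _ => by simp [bar]
  have hinv : ∀ g ∈ Cfsg.Spor.Co2, ∀ x, L ((M g).mulVec x) = L x := by
    intro g hg x
    have hfix : g u = u := hg.2
    have hx : x = ∑ i, ((8 : ZMod 13)⁻¹ * x i) • bar (e8 i) := by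
      funext j
      simp [hcol, Pi.single_apply, mul_assoc, mul_comm (8 : ZMod 13)⁻¹]
      rw [mul_inv_cancel₀ h8, mul_one]
    conv_lhs => rw [hx]
    conv_rhs => rw [hx]
    rw [Matrix.mulVec_sum, map_sum, map_sum]
    refine Finset.sum_congr rfl fun i _ => ?_
    rw [Matrix.mulVec_smul, map_smul, map_smul, hkey g hg.1, hLbar, hLbar]
    have := hdot g hg.1 u (e8 i)
    rw [hfix] at this
    rw [this]
  let V := LinearMap.ker L
  have huu : L (bar u) ≠ 0 := by
    rw [hLbar, Ne, ZMod.intCast_zmod_eq_zero_iff_dvd]; decide +kernel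
  have hfin : Module.finrank (ZMod 13) V = 23 := by
    have h := LinearMap.finrank_range_add_finrank_ker L
    have hr : LinearMap.range L = ⊤ := LinearMap.range_eq_top.2 fun c =>
      ⟨(c * (L (bar u))⁻¹) • bar u, by rw [map_smul, smul_eq_mul, mul_assoc, inv_mul_cancel₀ huu, mul_one]⟩
    rw [hr, finrank_top, Module.finrank_self, Module.finrank_pi, CfsgLib.Leech.card_golayPt] at h
    simp only [V] at *
    omega
  let b : Module.Basis (Fin 23) (ZMod 13) V := Module.finBasisOfFinrankEq (ZMod 13) V hfin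
  let rep : ↥Cfsg.Spor.Co2 →* Module.End (ZMod 13) V :=
    { toFun := fun g => (Matrix.toLin' (M g)).restrict fun x hx => by
        rw [LinearMap.mem_ker] at hx ⊢
        rw [Matrix.toLin'_apply, hinv g g.2, hx]
      map_one' := by
        ext x j
        simp [hM1]
      map_mul' := fun g h => by
        refine LinearMap.ext fun x => Subtype.ext ?_
        show Matrix.toLin' (M (g.1 * h.1)) x.1 = Matrix.toLin' (M g.1) (Matrix.toLin' (M h.1) x.1)
        rw [hMmul _ g.2.1 _ h.2.1, Matrix.toLin'_mul]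
        rfl }
  let f0 : ↥Cfsg.Spor.Co2 →* Matrix (Fin 23) (Fin 23) (ZMod 13) :=
    (LinearMap.toMatrixAlgEquiv b).toMulEquiv.toMonoidHom.comp rep
  refine ⟨f0.toHomUnits, ?_⟩
  rw [injective_iff_map_eq_one]
  intro g hg1
  have hrep : rep g = 1 := by
    have : f0 g = 1 := by
      have := congrArg Units.val hg1
      simpa using this
    exact (LinearMap.toMatrixAlgEquiv b).injective (by rw [map_one]; exact this)
  have hg0 : (g : Equiv.Perm Cfsg.leechLattice) ∈ Cfsg.Co0 := g.2.1
  have hMg : M g = 1 := by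
    refine hext _ _ fun v => ?_
    set c := L (bar v) * (L (bar u))⁻¹ with hc
    have hmem : bar v - c • bar u ∈ V := by
      rw [LinearMap.mem_ker, map_sub, map_smul, smul_eq_mul, hc, mul_assoc, inv_mul_cancel₀ huu, mul_one, sub_self]
    have h1 := congrArg Subtype.val (LinearMap.congr_fun hrep ⟨_, hmem⟩)
    have h2 : (M g).mulVec (bar u) = bar u := by rw [hkey _ hg0]; exact congrArg bar g.2.2
    have h1' : (M g).mulVec (bar v - c • bar u) = bar v - c • bar u := h1
    rw [Matrix.mulVec_sub, Matrix.mulVec_smul, h2, sub_left_inj] at h1'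
    rw [h1', Matrix.one_mulVec]
  -- congruent to the identity modulo 13
  have hshort : ∀ v : Cfsg.leechLattice, Cfsg.sqNorm (v : Cfsg.GolayPt → ℤ) = 32 →
      (g : Equiv.Perm Cfsg.leechLattice) v = v := by
    intro v hv
    by_contra hne
    set w := (((g : Equiv.Perm Cfsg.leechLattice) v : Cfsg.leechLattice) : Cfsg.GolayPt → ℤ) - v with hw
    have hcong : ∀ j, (13 : ℤ) ∣ w j := by
      intro j
      have h := congrFun (hkey g hg0 v) j
      rw [hMg, Matrix.one_mulVec] at h
      exact (ZMod.intCast_eq_intCast_iff_dvd_sub _ _ 13).1 h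
    obtain ⟨j, hj⟩ : ∃ j, w j ≠ 0 := by
      by_contra h
      push Not at h
      exact hne (Subtype.ext (sub_eq_zero.1 (funext h : w = 0)))
    have hbig : 169 ≤ Cfsg.sqNorm w := by
      obtain ⟨k, hk⟩ := hcong j
      have : k ≤ -1 ∨ 1 ≤ k := by omega
      have hjj : 169 ≤ w j ^ 2 := by rw [hk]; rcases this with h | h <;> nlinarith
      have := CfsgLib.Leech.card_mul_le_sqNorm w {j} 169 (fun i hi => by
        rw [Finset.mem_singleton] at hi; rw [hi]; exact hjj)
      simpa using this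
    have h3 := CfsgLib.Leech.sqNorm_nonneg
      ((((g : Equiv.Perm Cfsg.leechLattice) v : Cfsg.leechLattice) : Cfsg.GolayPt → ℤ) + v)
    rw [CfsgLib.Leech.sqNorm_add, hg0.2, hv] at h3
    rw [hw, CfsgLib.Leech.sqNorm_sub, hg0.2, hv] at hbig
    linarith
  obtain ⟨φ, hφ⟩ := hadd _ hg0
  have he : ∀ i, φ (e8 i) = e8 i := by
    intro i
    obtain ⟨k, hk⟩ : ∃ k, k ≠ i := exists_ne i
    have hmem : ∀ s : ℤ, (s = 1 ∨ s = -1) →
        (fun j => if j = i then (4 : ℤ) else if j = k then 4 * s else 0) ∈ Cfsg.leechLattice := by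
      intro s hs
      refine CfsgLib.Leech.mem_leechLattice_iff_form.2 ⟨⟨0, ∅, fun j => if j = i then 1 else if j = k then s else 0,
        CfsgLib.Leech.codeSet_empty, fun j => ?_, ?_⟩⟩
      · simp only [CfsgLib.Leech.indi, Finset.notMem_empty, if_false]; split_ifs <;> ring
      · rw [Finset.sum_eq_add i k hk.symm (fun c _ hc => by simp [hc.1, hc.2]) (by simp) (by simp)]
        rcases hs with rfl | rfl <;> simp [hk] <;> decide
    have hnorm : ∀ s : ℤ, ∀ hs : (s = 1 ∨ s = -1), φ ⟨_, hmem s hs⟩ = ⟨_, hmem s hs⟩ := by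
      intro s hs
      rw [hφ]
      refine hshort _ ?_
      rw [Cfsg.sqNorm, Finset.sum_eq_add i k hk.symm (fun c _ hc => by simp [hc.1, hc.2]) (by simp) (by simp)]
      rcases hs with rfl | rfl <;> simp [hk]
    have hsum : e8 i = ⟨_, hmem 1 (Or.inl rfl)⟩ + ⟨_, hmem (-1) (Or.inr rfl)⟩ := by
      apply Subtype.ext
      funext j
      simp only [e8, AddSubgroup.coe_add, Pi.add_apply]
      split_ifs <;> ring
    rw [hsum, map_add, hnorm 1 (Or.inl rfl), hnorm (-1) (Or.inr rfl)]
  apply Subtype.ext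
  refine Equiv.ext fun v => ?_
  have hv : (8 : ℤ) • v = ∑ i, (v : Cfsg.GolayPt → ℤ) i • e8 i := by
    apply Subtype.ext
    funext j
    simp only [AddSubgroup.coe_zsmul, AddSubmonoidClass.coe_finsetSum, Finset.sum_apply, Pi.smul_apply,
      smul_eq_mul, e8, mul_ite, mul_zero, Finset.sum_ite_eq, Finset.mem_univ, if_true]
    ring
  have h := congrArg φ hv
  simp only [map_zsmul, map_sum, he] at h
  rw [← hv] at h
  have h' : φ v = v := by
    apply Subtype.ext
    funext j
    have := congrFun (congrArg Subtype.val h) j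
    simp only [AddSubgroup.coe_zsmul, Pi.smul_apply, smul_eq_mul] at this
    linarith
  rw [hφ] at h'
  simpa using h'

end Cfsg.Agent.S5546
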