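import Cfsg.Statements.S5549
import Cfsg.Agent.Lib.M24Cert.CodeAut

set_option autoImplicit false
open Cfsg

namespace Cfsg.Agent.S5549

/-- Let X be a group of linear automorphisms of the length-24 binary Golay code of the definitions that fix the all-ones word, containing the coordinate-permutation action of every element of the code's automorphism group (the Mathieu group of degree 24), and such that every element of X sends each codeword into its orbit under that Mathieu group up to adding the all-ones word (X has the same orbits as the Mathieu group on the code modulo the all-ones word). Then every element of X agrees, modulo the all-ones word, with the action of a single element of the Mathieu group: X induces exactly the Mathieu group on the code modulo the all-ones word. -/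
theorem result (X : Subgroup (↥Cfsg.golayCode ≃ₗ[ZMod 2] ↥Cfsg.golayCode)) (h1 : ∀ x ∈ X, ∀ e : ↥Cfsg.golayCode, (e : (Cfsg.GolayPt → ZMod 2)) = (fun _ => (1 : ZMod 2)) → x e = e) (hM : ∀ σ ∈ Cfsg.M24, ∃ x ∈ X, ∀ c : ↥Cfsg.golayCode, ((x c : ↥Cfsg.golayCode) : (Cfsg.GolayPt → ZMod 2)) = fun p => (c : (Cfsg.GolayPt → ZMod 2)) (σ.symm p)) (horb : ∀ x ∈ X, ∀ c : ↥Cfsg.golayCode, ∃ σ ∈ Cfsg.M24, ((x c : ↥Cfsg.golayCode) : (Cfsg.GolayPt → ZMod 2)) = (fun p => (c : (Cfsg.GolayPt → ZMod 2)) (σ.symm p)) ∨ ((x c : ↥Cfsg.golayCode) : (Cfsg.GolayPt → ZMod 2)) = (fun p => (c : (Cfsg.GolayPt → ZMod 2)) (σ.symm p)) + fun _ => (1 : ZMod 2)) (x : ↥Cfsg.golayCode ≃ₗ[ZMod 2] ↥Cfsg.golayCode) (hx : x ∈ X) : ∃ σ ∈ Cfsg.M24, ∀ c : ↥Cfsg.golayCode, ((x c : ↥Cfsg.golayCode) : (Cfsg.GolayPt → ZMod 2)) = (fun p => (c : (Cfsg.GolayPt → ZMod 2)) (σ.symm p)) ∨ ((x c : ↥Cfsg.golayCode) : (Cfsg.GolayPt → ZMod 2)) = (fun p => (c : (Cfsg.GolayPt → ZMod 2)) (σ.symm p)) +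 fun _ => (1 : ZMod 2) := by
  classical
  let f : (Cfsg.GolayPt → ZMod 2) → Cfsg.GolayPt → ZMod 2 := fun w =>
    if h : w ∈ Cfsg.golayCode then ((x ⟨w, h⟩ : ↥Cfsg.golayCode) : Cfsg.GolayPt → ZMod 2) else w
  have hfe : ∀ (w : Cfsg.GolayPt → ZMod 2) (h : w ∈ Cfsg.golayCode), f w = ((x ⟨w, h⟩ : ↥Cfsg.golayCode) : Cfsg.GolayPt → ZMod 2) :=
    fun w h => dif_pos h
  have hf : CfsgLib.M24Cert.Resp f := by
    refine ⟨fun a ha b hb => Or.inl ?_, Or.inl ?_, fun a ha b hb h => ?_, fun c hc => ?_⟩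
    · rw [hfe a ha, hfe b hb, hfe _ (add_mem ha hb), ← Submodule.coe_add, ← map_add]
      rfl
    · rw [hfe _ CfsgLib.M24Cert.one_mem_code, h1 x hx ⟨_, CfsgLib.M24Cert.one_mem_code⟩ rfl]
    · rw [hfe a ha, hfe b hb] at h
      rcases h with h | h
      · exact Or.inl (congrArg Subtype.val (x.injective (Subtype.ext h)))
      · refine Or.inr ?_
        have e : x ⟨a, ha⟩ = x (⟨b, hb⟩ + ⟨_, CfsgLib.M24Cert.one_mem_code⟩) := by
          refine Subtype.ext ?_
          rw [map_add, Submodule.coe_add, h1 x hx ⟨_, CfsgLib.M24Cert.one_mem_code⟩ rfl]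
          exact h
        exact congrArg Subtype.val (x.injective e)
    · obtain ⟨σ, hσ, h⟩ := horb x hx ⟨c, hc⟩
      exact ⟨σ, hσ, by rw [hfe c hc]; exact h⟩
  obtain ⟨σ, hσ, h⟩ := hf.induced
  refine ⟨σ, hσ, fun c => ?_⟩
  have := h c c.2
  rw [hfe _ c.2] at this
  exact this

end Cfsg.Agent.S5549
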