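import Cfsg.Statements.S5560
import Cfsg.Agent.Lib.Invol.IsolatedSylow
import Cfsg.Agent.S1253
-- import your own Cfsg.Agent.* helpers here

set_option autoImplicit false
open Cfsg

namespace Cfsg.Agent.S5560

/-- A Z*-type result for an odd prime p. Let G be a finite group and d an involution of G such that the product of any two conjugates of d has order a power of p. Then the product of any two conjugates of d lies in the largest normal p-subgroup O_p(G); in other words the conjugacy class of d lies in the coset O_p(G)d, and d is central modulo O_p(G). -/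
theorem result {G : Type*} [Group G] [Finite G] {p : ℕ} (hp : p.Prime) (hp2 : p ≠ 2)
    (d : G) (hd : orderOf d = 2)
    (hprod : ∀ a ∈ conjugatesOf d, ∀ b ∈ conjugatesOf d, ∃ k : ℕ, orderOf (a * b) = p ^ k) :
    ∀ a ∈ conjugatesOf d, ∀ b ∈ conjugatesOf d, a * b ∈ Cfsg.pCore p G := by
  classical
  haveI : Fact p.Prime := ⟨hp⟩
  have hpodd : Odd p := hp.odd_of_ne_two hp2
  have hdd : d * d = 1 := CfsgLib.Invol.mul_self_of_orderOf_two hd
  have hdinv : d⁻¹ = d := CfsgLib.Invol.inv_eq_of_orderOf_two hd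
  have hmem : ∀ g : G, g * d * g⁻¹ ∈ conjugatesOf d := fun g => isConj_iff.2 ⟨g, rfl⟩
  have hdmem : d ∈ conjugatesOf d := by simpa using hmem 1
  have hpp : ∀ g : G, ∃ k : ℕ, orderOf (d * (g * d * g⁻¹)) = p ^ k := fun g =>
    hprod d hdmem _ (hmem g)
  have hiso : Cfsg.IsIsolatedInvolution d := by
    refine ⟨hd, fun g hc => ?_⟩
    have he : orderOf (g * d * g⁻¹) = 2 := (CfsgLib.Invol.orderOf_conj_eq g d).trans hd
    have h2 : (d * (g * d * g⁻¹)) ^ 2 = 1 := by
      rw [hc.mul_pow, pow_two, hdd, one_mul, pow_two, CfsgLib.Invol.mul_self_of_orderOf_two he]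
    obtain ⟨k, hk⟩ := hpp g
    have h1 : orderOf (d * (g * d * g⁻¹)) = 1 :=
      Nat.Coprime.eq_one_of_dvd (by rw [hk]; exact (Nat.coprime_two_right.2 hpodd).pow_left k)
        (orderOf_dvd_of_pow_eq_one h2)
    rw [eq_inv_of_mul_eq_one_right (orderOf_eq_one_iff.1 h1), hdinv]
  set C := Subgroup.centralizer ({d} : Set G) with hC
  have hindex : ∀ q : ℕ, q.Prime → q ∣ C.index → q = p := by
    intro q hq hdvd
    by_contra hqp
    haveI : Fact q.Prime := ⟨hq⟩
    obtain ⟨Q, hQC⟩ : ∃ Q : Sylow q G, (Q : Subgroup G) ≤ C := by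
      by_cases hq2 : q = 2
      · subst hq2
        obtain ⟨R, hR⟩ := (IsPGroup.of_card (n := 1)
          (by rw [Nat.card_zpowers, hd, pow_one]) : IsPGroup 2 (Subgroup.zpowers d)).exists_le_sylow
        refine ⟨R, fun x hx => ?_⟩
        have hdR : d ∈ (R : Subgroup G) := hR (Subgroup.mem_zpowers d)
        have := CfsgLib.Invol.isolated_eq_of_isPGroup hiso R.2 hdR x
          ((R : Subgroup G).mul_mem ((R : Subgroup G).mul_mem hx hdR) ((R : Subgroup G).inv_mem hx))
        exact Subgroup.mem_centralizer_singleton_iff.2 (mul_inv_eq_iff_eq_mul.1 this)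
      · obtain ⟨Q, hQ⟩ := CfsgLib.Invol.exists_invariant_sylow hiso q
        refine ⟨Q, fun x hx => ?_⟩
        have hmemQ : d * (x * d * x⁻¹) ∈ (Q : Subgroup G) := by
          rw [show d * (x * d * x⁻¹) = d * x * d⁻¹ * x⁻¹ by rw [hdinv]; group]
          exact (Q : Subgroup G).mul_mem ((Subgroup.mem_normalizer_iff.1 hQ x).1 hx)
            ((Q : Subgroup G).inv_mem hx)
        obtain ⟨k, hk⟩ := hpp x
        obtain ⟨j, hj⟩ := Q.2 ⟨_, hmemQ⟩
        have h1 : orderOf (d * (x * d * x⁻¹)) = 1 :=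
          Nat.Coprime.eq_one_of_dvd
            (by rw [hk]; exact ((Nat.coprime_primes hp hq).2 (Ne.symm hqp)).pow k j)
            (orderOf_dvd_of_pow_eq_one (by simpa using congrArg Subtype.val hj))
        have h3 : x * d * x⁻¹ = d := by
          rw [eq_inv_of_mul_eq_one_right (orderOf_eq_one_iff.1 h1), hdinv]
        exact Subgroup.mem_centralizer_singleton_iff.2 (mul_inv_eq_iff_eq_mul.1 h3)
    exact Q.not_dvd_index (hdvd.trans (Subgroup.index_dvd_of_le hQC))
  obtain ⟨P, hP⟩ := CfsgLib.Invol.exists_invariant_sylow hiso p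
  obtain ⟨hndvd, -⟩ := Cfsg.Agent.S1253.result d hiso hp2 P hP
  -- the whole group is the product of `P` and the centralizer
  have hPC : ∀ g : G, ∃ x ∈ (P : Subgroup G), x⁻¹ * g ∈ C := by
    set m := ((P : Subgroup G) ⊓ C).relIndex (P : Subgroup G) with hm
    set c := ((P : Subgroup G) ⊓ C).relIndex C with hc
    have e1 : m * Nat.card ↥((P : Subgroup G) ⊓ C) = Nat.card ↥(P : Subgroup G) := by
      have := Subgroup.relIndex_mul_relIndex ⊥ ((P : Subgroup G) ⊓ C) (P : Subgroup G) bot_le inf_le_left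
      rw [Subgroup.relIndex_bot_left, Subgroup.relIndex_bot_left] at this
      rw [← this, mul_comm]
    have e2 : c * Nat.card ↥((P : Subgroup G) ⊓ C) = Nat.card ↥C := by
      have := Subgroup.relIndex_mul_relIndex ⊥ ((P : Subgroup G) ⊓ C) C bot_le inf_le_right
      rw [Subgroup.relIndex_bot_left, Subgroup.relIndex_bot_left] at this
      rw [← this, mul_comm]
    have e3 := (P : Subgroup G).card_mul_index
    have e4 := C.card_mul_index
    have e5 : m * (P : Subgroup G).index = c * C.index :=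
      Nat.eq_of_mul_eq_mul_left (Nat.card_pos : 0 < Nat.card ↥((P : Subgroup G) ⊓ C)) (by
        calc Nat.card ↥((P : Subgroup G) ⊓ C) * (m * (P : Subgroup G).index)
            = m * Nat.card ↥((P : Subgroup G) ⊓ C) * (P : Subgroup G).index := by ring
          _ = c * Nat.card ↥((P : Subgroup G) ⊓ C) * C.index := by rw [e1, e2, e3, e4]
          _ = Nat.card ↥((P : Subgroup G) ⊓ C) * (c * C.index) := by ring)
    have hCp : C.index = p ^ C.index.primeFactorsList.length :=
      Nat.eq_prime_pow_of_unique_prime_dvd Subgroup.index_ne_zero_of_finite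
        (fun {q} hq hqd => hindex q hq hqd)
    obtain ⟨j, hj⟩ : ∃ j, m = p ^ j := by
      obtain ⟨n, hn⟩ := P.2.exists_card_eq
      obtain ⟨j, -, hj⟩ := (Nat.dvd_prime_pow hp).1 (hn ▸ Dvd.intro _ e1 : m ∣ p ^ n)
      exact ⟨j, hj⟩
    have hge : C.index ≤ m := by
      refine Nat.le_of_dvd (by rw [hj]; exact pow_pos hp.pos _) ?_
      have : C.index ∣ m * (P : Subgroup G).index := ⟨c, by rw [e5, mul_comm]⟩
      exact Nat.Coprime.dvd_of_dvd_mul_right
        (by rw [hCp]; exact ((Nat.Prime.coprime_iff_not_dvd hp).2 P.not_dvd_index).pow_left _) this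
    let F : ↥(P : Subgroup G) ⧸ C.subgroupOf (P : Subgroup G) → G ⧸ C :=
      Quotient.lift (fun x : ↥(P : Subgroup G) => ((x : G) : G ⧸ C)) (fun a b hab =>
        QuotientGroup.eq.2 (Subgroup.mem_subgroupOf.1 (QuotientGroup.leftRel_apply.1 hab)))
    have hFi : Function.Injective F := by
      rintro ⟨a⟩ ⟨b⟩ h
      exact Quotient.sound (QuotientGroup.leftRel_apply.2 (Subgroup.mem_subgroupOf.2 (QuotientGroup.eq.1 h)))
    have hmeq : m = Nat.card (↥(P : Subgroup G) ⧸ C.subgroupOf (P : Subgroup G)) := by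
      rw [hm, Subgroup.inf_relIndex_left]
      rfl
    have hb := hFi.bijective_of_nat_card_le (by rw [← hmeq]; exact hge)
    intro g
    obtain ⟨⟨x⟩, hx⟩ := hb.2 (g : G ⧸ C)
    exact ⟨x, x.2, QuotientGroup.eq.1 hx⟩
  set M := Subgroup.closure (Set.range fun g : G => d * (g * d * g⁻¹)) with hM
  have hMP : M ≤ (P : Subgroup G) := by
    rw [hM, Subgroup.closure_le]
    rintro _ ⟨g, rfl⟩
    obtain ⟨x, hx, hxc⟩ := hPC g
    have hgx : g * d * g⁻¹ = x * d * x⁻¹ := by
      calc g * d * g⁻¹ = x * ((x⁻¹ * g) * d * (x⁻¹ * g)⁻¹) * x⁻¹ := by group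
        _ = x * d * x⁻¹ := by
          rw [mul_inv_eq_iff_eq_mul.2 (Subgroup.mem_centralizer_singleton_iff.1 hxc)]
    show d * (g * d * g⁻¹) ∈ (P : Subgroup G)
    rw [hgx, show d * (x * d * x⁻¹) = d * x * d⁻¹ * x⁻¹ by rw [hdinv]; group]
    exact (P : Subgroup G).mul_mem ((Subgroup.mem_normalizer_iff.1 hP x).1 hx)
      ((P : Subgroup G).inv_mem hx)
  have hgen : ∀ g : G, d * (g * d * g⁻¹) ∈ M := fun g => Subgroup.subset_closure ⟨g, rfl⟩
  have hMn : M.Normal := by
    refine ⟨fun x hx h => ?_⟩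
    induction hx using Subgroup.closure_induction with
    | mem x hx =>
      obtain ⟨g, rfl⟩ := hx
      have := M.mul_mem (M.inv_mem (hgen h)) (hgen (h * g))
      convert this using 1
      simp only [mul_inv_rev, inv_inv, hdinv, mul_assoc, inv_mul_cancel_left]
      simp only [← mul_assoc d d, hdd, one_mul, inv_mul_cancel_left]
    | one => simp
    | mul a b _ _ ha hb =>
      rw [show h * (a * b) * h⁻¹ = (h * a * h⁻¹) * (h * b * h⁻¹) by group]
      exact M.mul_mem ha hb
    | inv a _ ha =>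
      rw [show h * a⁻¹ * h⁻¹ = (h * a * h⁻¹)⁻¹ by group]
      exact M.inv_mem ha
  have hcore : M ≤ Cfsg.pCore p G := le_sSup ⟨hMn, P.2.to_le hMP⟩
  intro a ha b hb
  obtain ⟨u, rfl⟩ := isConj_iff.1 ha
  obtain ⟨v, rfl⟩ := isConj_iff.1 hb
  apply hcore
  have := M.mul_mem (M.inv_mem (hgen u)) (hgen v)
  convert this using 1
  simp only [mul_inv_rev, inv_inv, hdinv, mul_assoc]
  simp only [← mul_assoc d d, hdd, one_mul]

end Cfsg.Agent.S5560
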