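import Cfsg.Statements.S5562

set_option autoImplicit false
open Cfsg

namespace Cfsg.Agent.S5562

/-- Let G be a finite group, d an involution of G whose conjugates pairwise have products of odd order, and x any involution of G. Then the conjugacy class of d is the disjoint union, over the conjugates a of d commuting with x, of the sets of conjugates of d commuting with ax: every conjugate of d commutes with ax for exactly one conjugate a of d that commutes with x. -/
theorem result {G : Type*} [Group G] [Finite G] (d : G) (hd : orderOf d = 2)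
    (hodd : ∀ a ∈ conjugatesOf d, ∀ b ∈ conjugatesOf d, Odd (orderOf (a * b)))
    (x : G) (hx : orderOf x = 2) :
    ∀ e ∈ conjugatesOf d,
      ∃! a : G, a ∈ conjugatesOf d ∧ Commute a x ∧ Commute e (a * x) := by
  intro e he
  have hsq : ∀ u : G, IsConj d u → u * u = 1 := by
    intro u hu
    obtain ⟨g, rfl⟩ := isConj_iff.mp hu
    have h2 : d * d = 1 := by rw [← pow_two, ← hd]; exact pow_orderOf_eq_one d
    calc g * d * g⁻¹ * (g * d * g⁻¹) = g * (d * d) * g⁻¹ := by group
      _ = 1 := by rw [h2]; group
  replace he : IsConj d e := he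
  have hxx : x * x = 1 := by rw [← pow_two, ← hx]; exact pow_orderOf_eq_one x
  have hxi : x⁻¹ = x := inv_eq_of_mul_eq_one_right hxx
  obtain ⟨f, hf⟩ : ∃ f, f = x * e * x := ⟨_, rfl⟩
  have hfD : IsConj d f := he.trans (isConj_iff.mpr ⟨x, by rw [hxi, hf]⟩)
  obtain ⟨m, hm⟩ := hodd e (he) f (hfD)
  set r := e * f with hr
  have hff := hsq f hfD
  have hee := hsq e he
  have hei : e⁻¹ = e := inv_eq_of_mul_eq_one_right hee
  have hfi : f⁻¹ = f := inv_eq_of_mul_eq_one_right hff
  obtain ⟨s, hs⟩ : ∃ s, s = r ^ (m + 1) := ⟨_, rfl⟩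
  have hss : s * s = r := by
    rw [hs, ← pow_add, show m + 1 + (m + 1) = orderOf r + 1 by omega, pow_succ, pow_orderOf_eq_one, one_mul]
  have hfs : f * s * f = s⁻¹ := by
    have : (f * r * f⁻¹) ^ (m + 1) = f * r ^ (m + 1) * f⁻¹ := conj_pow
    rw [hfi] at this
    rw [hs, ← inv_pow, ← this, hr, mul_inv_rev, hei, hfi]
    congr 1
    rw [mul_assoc, mul_assoc, hff, mul_one]
  have hxs : x * s * x = s⁻¹ := by
    have : (x * r * x⁻¹) ^ (m + 1) = x * r ^ (m + 1) * x⁻¹ := conj_pow
    rw [hxi] at this
    rw [hs, ← inv_pow, ← this, hr, mul_inv_rev, hei, hfi]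
    congr 1
    calc x * (e * f) * x = (x * e * x) * e * (x * x) := by rw [hf]; group
      _ = f * e := by rw [hxx, mul_one, hf]
  have hafa : s * f * f * (s * f) = e := by
    rw [mul_assoc s f f, hff, mul_one, ← mul_assoc, hss, hr, mul_assoc, hff, mul_one]
  refine ⟨s * f, ⟨?_, ?_, ?_⟩, ?_⟩
  · -- `s` is itself a square
    refine hfD.trans (isConj_iff.mpr ⟨s ^ (m + 1), ?_⟩)
    have h2 : s ^ (m + 1) * s ^ (m + 1) = s := by
      have h1 : s ^ (2 * m + 1) = 1 := by
        rw [hs, ← pow_mul, mul_comm, pow_mul, ← hm, pow_orderOf_eq_one, one_pow]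
      rw [← pow_add, show m + 1 + (m + 1) = 2 * m + 1 + 1 by omega, pow_succ, h1, one_mul]
    have h3 : f * (s ^ (m + 1))⁻¹ = s ^ (m + 1) * f := by
      have : (f * s * f⁻¹) ^ (m + 1) = f * s ^ (m + 1) * f⁻¹ := conj_pow
      rw [hfi, hfs, inv_pow] at this
      calc f * (s ^ (m + 1))⁻¹ = f * (f * s ^ (m + 1) * f) := by rw [this]
        _ = (f * f) * s ^ (m + 1) * f := by group
        _ = s ^ (m + 1) * f := by rw [hff, one_mul]
    rw [mul_assoc, h3, ← mul_assoc, h2]
  · show s * f * x = x * (s * f)
    have hxfx : x * f * x = e := by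
      rw [hf]
      calc x * (x * e * x) * x = (x * x) * e * (x * x) := by group
        _ = e := by rw [hxx, one_mul, mul_one]
    have : x * (s * f) * x = s * f := by
      calc x * (s * f) * x = (x * s * x) * ((x⁻¹ * f) * x) := by group
        _ = s⁻¹ * e := by rw [hxs, hxi, hxfx]
        _ = s * f := by
          rw [inv_mul_eq_iff_eq_mul, ← mul_assoc, hss, hr, mul_assoc, hff, mul_one]
    calc s * f * x = x * (s * f) * x * x := by rw [this]
      _ = x * (s * f) := by rw [mul_assoc, hxx, mul_one]
  · show e * (s * f * x) = s * f * x * e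
    have h1 : e * (s * f) = s * f * f := by
      have hw : s * f * (s * f) = 1 := by
        calc s * f * (s * f) = s * (f * s * f) := by group
          _ = 1 := by rw [hfs]; group
      calc e * (s * f) = s * f * f * (s * f * (s * f)) := by rw [← hafa]; group
        _ = s * f * f := by rw [hw, mul_one]
    rw [← mul_assoc, h1, hf]
    calc s * (x * e * x) * (x * e * x) * x = s * (x * e * x) * x * e * (x * x) := by group
      _ = s * (x * e * x) * x * e := by rw [hxx, mul_one]
  · rintro a ⟨haD, hax, hea⟩
    replace haD : IsConj d a := haD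
    have haa := hsq a haD
    have hea' : e * (a * x) = a * x * e := hea
    have haf : a * f = e * a := by
      rw [hf]
      calc a * (x * e * x) = a * x * e * x := by group
        _ = e * (a * x) * x := by rw [hea']
        _ = e * a := by rw [mul_assoc, mul_assoc a, hxx, mul_one]
    have h2 : (a * f) ^ 2 = r := by
      rw [pow_two]
      calc a * f * (a * f) = e * a * (a * f) := by rw [haf]
        _ = e * (a * a) * f := by group
        _ = r := by rw [haa, mul_one, hr]
    obtain ⟨k, hk⟩ := hodd a (haD) f (hfD)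
    have hord : orderOf r = orderOf (a * f) := by
      rw [← h2]
      exact Nat.Coprime.orderOf_pow (Odd.coprime_two_right ⟨k, hk⟩)
    have : a * f = s := by
      rw [hs, ← h2, ← pow_mul, show 2 * (m + 1) = orderOf (a * f) + 1 by omega, pow_succ,
        pow_orderOf_eq_one, one_mul]
    rw [← this, mul_assoc, hff, mul_one]

end Cfsg.Agent.S5562
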