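import Cfsg.Statements.S5588
import Cfsg.Agent.Lib.Y555.EndNode

set_option autoImplicit false
open Cfsg

namespace Cfsg.Agent.S5588

open Cfsg.Spor CfsgLib.Y555

/-- The relators. -/
abbrev rels : Set (FreeGroup Bimonster.Gen) :=
  Cfsg.Spor.coxRelators Bimonster.edges ∪ {r' | r' ∈ [(Bimonster.a * Bimonster.b1 * Bimonster.c1 *
    Bimonster.a * Bimonster.b2 * Bimonster.c2 * Bimonster.a * Bimonster.b3 * Bimonster.c3) ^ 10]}

/-- The generator with a number. -/
def genOf : ℕ → Bimonster.Gen := fun i =>
  [Bimonster.Gen.a, .b1, .c1, .d1, .e1, .f1, .b2, .c2, .d2, .e2, .f2, .b3, .c3, .d3, .e3, .f3].getD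
    i .a

/-- The element of a node. -/
def elt (i : ℕ) : PresentedGroup rels :=
  if i < 16 then PresentedGroup.mk rels (FreeGroup.of (genOf i)) else 1

theorem cox_elt {i j : ℕ} (hi : i < 16) (hj : j < 16) :
    (elt i * elt j) ^ coxLabel Bimonster.edges (genOf i) (genOf j) = 1 := by
  have hn : ∀ i < 16, genOf i ∈ coxNodes Bimonster.edges := by decide +kernel
  rw [elt, elt, if_pos hi, if_pos hj, ← map_mul, ← map_pow]
  exact PresentedGroup.mk_eq_one_iff.2 (Subgroup.subset_normalClosure
    (Or.inl ⟨_, hn i hi, _, hn j hj, rfl⟩))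

theorem elt_sq (i : ℕ) : elt i * elt i = 1 := by
  by_cases hi : i < 16
  · have h := cox_elt hi hi
    simpa [coxLabel] using h
  · simp [elt, hi]

theorem labels : ((List.range 16).all fun i => (List.range 16).all fun j =>
    Nat.beq i j || Nat.beq (coxLabel Bimonster.edges (genOf i) (genOf j))
      (if adjB i j then 3 else 2)) = true := by
  decide +kernel

theorem label_eq {i j : ℕ} (hi : i < 16) (hj : j < 16) (hij : i ≠ j) :
    coxLabel Bimonster.edges (genOf i) (genOf j) = if adjB i j then 3 else 2 := by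
  have := labels
  simp only [List.all_eq_true, List.mem_range, Bool.or_eq_true, Nat.beq_eq] at this
  exact (this i hi j hj).resolve_left hij

theorem adjB_irrefl : ∀ i < 16, adjB i i = false := by decide +kernel

theorem elt_comm (i j : ℕ) (h : adjB i j = false) : elt i * elt j = elt j * elt i := by
  by_cases hij : i = j
  · rw [hij]
  by_cases hi : i < 16
  swap
  · simp [elt, hi]
  by_cases hj : j < 16
  swap
  · simp [elt, hj]
  have e := cox_elt hi hj
  rw [label_eq hi hj hij, h, if_neg Bool.false_ne_true, pow_two] at e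
  rw [eq_inv_of_mul_eq_one_left e, mul_inv_rev, inv_eq_of_mul_eq_one_right (elt_sq i),
    inv_eq_of_mul_eq_one_right (elt_sq j)]

theorem elt_braid (i j : ℕ) (h : adjB i j = true) :
    elt i * elt j * elt i = elt j * elt i * elt j := by
  obtain ⟨hi, hj⟩ := adjB_lt h
  have hij : i ≠ j := by rintro rfl; rw [adjB_irrefl i hi] at h; exact Bool.noConfusion h
  have e := cox_elt hi hj
  rw [label_eq hi hj hij, h, if_pos rfl, pow_succ, pow_two] at e
  have e' : (elt i * elt j * elt i) * (elt j * elt i * elt j) = 1 := by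
    simpa [mul_assoc] using e
  rw [eq_inv_of_mul_eq_one_left e']
  simp only [mul_inv_rev, inv_eq_of_mul_eq_one_right (elt_sq i),
    inv_eq_of_mul_eq_one_right (elt_sq j), mul_assoc]

theorem ev_replicate (k : ℕ) (w : List ℕ) :
    ev elt (List.replicate k w).flatten = ev elt w ^ k := by
  induction k with
  | zero => simp [ev_nil]
  | succ k ih => rw [List.replicate_succ, List.flatten_cons, ev_append, ih, pow_succ']

theorem elt_spider : ev elt spiderWord = 1 := by
  rw [spiderWord, ev_replicate]
  have h : PresentedGroup.mk rels ((Bimonster.a * Bimonster.b1 * Bimonster.c1 * Bimonster.a *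
      Bimonster.b2 * Bimonster.c2 * Bimonster.a * Bimonster.b3 * Bimonster.c3) ^ 10) = 1 :=
    PresentedGroup.mk_eq_one_iff.2 (Subgroup.subset_normalClosure (Or.inr List.mem_cons_self))
  rw [← h, map_pow]
  simp [ev, elt, genOf, mul_assoc]

/-- The system of the presented group. -/
def sys : CfsgLib.Y555.Sys (PresentedGroup rels) :=
  ⟨elt, elt_sq, elt_comm, elt_braid, elt_spider⟩

theorem arm_rel (e : ℕ) (w : List ℕ) (h : elt e = ev elt w ^ 9) :
    elt e * (ev elt w ^ 9)⁻¹ = 1 := by
  rw [h, mul_inv_cancel]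

theorem arm (S : CfsgLib.Y555.Sys (PresentedGroup rels)) (p : ℕ → ℕ)
    (hp : ∀ i, S.x i = elt (p i)) (e : ℕ) (w : List ℕ) (he : p 5 = e)
    (hw : wordA.map p = (List.replicate 9 w).flatten) :
    elt e * (ev elt w ^ 9)⁻¹ = 1 := by
  refine arm_rel e w ?_
  have h := S.end_node
  rw [show S.x = fun i => elt (p i) from funext hp, ev_map, hw, ev_replicate] at h
  rw [← he]
  exact h

/-- In the group presented by the sixteen involutions of the Y₅₅₅ Coxeter diagram subject only to the Coxeter relations and the single spider relation (a b₁ c₁ a b₂ c₂ a b₃ c₃)^10 = 1, each of the further relators used in the definitions' presentation of the Bimonster (each end node equals the ninth power of the Coxeter element of a sub-diagram of type E₇) already holds. Equivalently, the Y₅₅₅ diagram with the spider relation alone presents the Bimonster. -/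
theorem result :
    ∀ r ∈ Cfsg.Spor.Bimonster.extra,
      (PresentedGroup.mk (Cfsg.Spor.coxRelators Cfsg.Spor.Bimonster.edges ∪ {r' | r' ∈ [(Cfsg.Spor.Bimonster.a * Cfsg.Spor.Bimonster.b1 * Cfsg.Spor.Bimonster.c1 * Cfsg.Spor.Bimonster.a * Cfsg.Spor.Bimonster.b2 * Cfsg.Spor.Bimonster.c2 * Cfsg.Spor.Bimonster.a * Cfsg.Spor.Bimonster.b3 * Cfsg.Spor.Bimonster.c3) ^ 10]}) r) = 1 := by
  intro r hr
  simp only [Cfsg.Spor.Bimonster.extra, List.mem_cons, List.not_mem_nil, or_false] at hr
  rcases hr with rfl | rfl | rfl | rfl | rfl | rfl | rfl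
  · exact PresentedGroup.mk_eq_one_iff.2 (Subgroup.subset_normalClosure (Or.inr List.mem_cons_self))
  all_goals show PresentedGroup.mk rels _ = 1
  all_goals rw [map_mul, map_inv, map_pow]
  · have h := arm sys id (fun _ => rfl) 5 [0, 1, 6, 11, 2, 7, 3] rfl (by decide +kernel)
    simpa [ev, elt, genOf, mul_assoc] using h
  · have h := arm sys.swap23 swapTwoThree (fun _ => rfl) 5 [0, 1, 11, 6, 2, 12, 3] rfl
      (by decide +kernel)
    simpa [ev, elt, genOf, mul_assoc] using h
  · have h := arm sys.swap12 swapOneTwo (fun _ => rfl) 10 [0, 6, 1, 11, 7, 2, 8] rfl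
      (by decide +kernel)
    simpa [ev, elt, genOf, mul_assoc] using h
  · have h := arm sys.swap12.swap23 (fun i => swapOneTwo (swapTwoThree i)) (fun _ => rfl) 10
      [0, 6, 11, 1, 7, 12, 8] rfl (by decide +kernel)
    simpa [ev, elt, genOf, mul_assoc] using h
  · have h := arm sys.swap23.swap12 (fun i => swapTwoThree (swapOneTwo i)) (fun _ => rfl) 15
      [0, 11, 1, 6, 12, 2, 13] rfl (by decide +kernel)
    simpa [ev, elt, genOf, mul_assoc] using h
  · have h := arm sys.swap12.swap23.swap12
      (fun i => swapOneTwo (swapTwoThree (swapOneTwo i))) (fun _ => rfl) 15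
      [0, 11, 6, 1, 12, 7, 13] rfl (by decide +kernel)
    simpa [ev, elt, genOf, mul_assoc] using h

end Cfsg.Agent.S5588
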