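import Cfsg.Statements.S5594
import Cfsg.Agent.Lib.Leech.Basic
import Cfsg.Agent.Lib.Golay.M24Gens
import Cfsg.Prelude.Def_Spor_Conway

set_option autoImplicit false
open Cfsg

namespace Cfsg.Agent.S5594

/-- The automorphism group of the Leech lattice contains the negation map, and the subgroup of order 2 it generates has no complement: the automorphism group is a non-split extension of its quotient by that subgroup (it is not the direct product of a group of order 2 with the first Conway group). -/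
theorem result :
    ∃ n : ↥Cfsg.Co0, (∀ v : ↥Cfsg.leechLattice, ((n • v : ↥Cfsg.leechLattice) : Cfsg.GolayPt → ℤ) = -(v : Cfsg.GolayPt → ℤ)) ∧
    ∀ K : Subgroup ↥Cfsg.Co0, ¬ (Subgroup.zpowers n).IsComplement' K := by
  refine ⟨CfsgLib.Leech.negAut, fun v => rfl, fun K hK => ?_⟩
  have hπ : Cfsg.projInv ∈ Cfsg.M24 := by
    rw [CfsgLib.Golay.projInv_eq]; exact CfsgLib.Golay.projInv_mem
  let S : Finset Cfsg.GolayPt := Cfsg.support₂ (Cfsg.qrWord 0)
  have hS : CfsgLib.Leech.CodeSet S :=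
    ⟨_, Submodule.subset_span (Or.inl ⟨0, rfl⟩), rfl⟩
  have hswap : ∀ i : Cfsg.GolayPt, Cfsg.projInv.symm i ∈ S ↔ i ∉ S := by
    decide +kernel
  have hsq : ∀ i : Cfsg.GolayPt, Cfsg.projInv.symm (Cfsg.projInv.symm i) = i := by
    decide +kernel
  let g : Cfsg.Co0 := CfsgLib.Leech.signAut S hS * CfsgLib.Leech.permAut Cfsg.projInv hπ
  have hg : g * g = CfsgLib.Leech.negAut := by
    refine Subtype.ext (Equiv.ext fun v => Subtype.ext (funext fun i => ?_))
    show CfsgLib.Leech.signFlip S (CfsgLib.Leech.permCoord Cfsg.projInv (CfsgLib.Leech.signFlip S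
      (CfsgLib.Leech.permCoord Cfsg.projInv (v : Cfsg.GolayPt → ℤ)))) i = -(v : Cfsg.GolayPt → ℤ) i
    simp only [CfsgLib.Leech.signFlip, CfsgLib.Leech.permCoord, AddEquiv.coe_mk, Equiv.coe_fn_mk, hswap, hsq]
    by_cases hi : i ∈ S <;> simp [hi]
  have hn2 : CfsgLib.Leech.negAut * CfsgLib.Leech.negAut = 1 := by
    refine Subtype.ext (Equiv.ext fun v => Subtype.ext (funext fun i => ?_))
    show -(-(v : Cfsg.GolayPt → ℤ)) i = (v : Cfsg.GolayPt → ℤ) i
    simp
  have hn1 : CfsgLib.Leech.negAut ≠ 1 := by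
    intro h
    have h' := congrArg (fun f : Cfsg.Co0 => ((f • (⟨_, AddSubgroup.subset_closure Cfsg.Spor.vecU_mem_leechSet⟩ :
      Cfsg.leechLattice) : Cfsg.leechLattice) : Cfsg.GolayPt → ℤ) none) h
    simp only [one_smul, CfsgLib.Leech.coe_negAut_smul] at h'
    simp [Cfsg.Spor.vecU] at h'
  have hcard : Nat.card (Subgroup.zpowers CfsgLib.Leech.negAut) = 2 := by
    rw [Nat.card_zpowers]
    exact orderOf_eq_prime (by rw [pow_two, hn2]) hn1
  have hidx : K.index = 2 := by
    rw [hK.index_eq_card, hcard]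
  have hmem : CfsgLib.Leech.negAut ∈ K := by
    rw [← hg]
    exact Subgroup.mul_self_mem_of_index_two hidx g
  have hd := hK.disjoint.le_bot ⟨Subgroup.mem_zpowers _, hmem⟩
  exact hn1 (Subgroup.mem_bot.1 hd)

end Cfsg.Agent.S5594
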