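import Cfsg.Statements.S5596
import Cfsg.Agent.Lib.LargeExtra.Singular

set_option autoImplicit false
open Cfsg

namespace Cfsg.Agent.S5596

/-- Setting: `z` is an involution of the finite group `G`; for each element `x`, `Q x` is the largest normal 2-subgroup of the centralizer of `x`; `Q z` is extraspecial and contains its own centralizer in `G`. A subgroup `U` is singular when it is elementary abelian, every non-identity element of `U` is conjugate to `z`, and any two non-identity elements `u`, `v` of `U` are orthogonal (`v ∈ Q u`). Write `QU` for the intersection of the `Q u` and `LU` for the join of the `Q u` over the non-identity `u` in `U`. If `U` is singular of order `2 ^ n` with `n ≥ 2`, then `U ≤ QU ≤ LU`, `LU` normalizes `U`, and `LU` induces on `U` its full automorphism group (the general linear group of dimension `n` over the field with two elements): every automorphism of `U` is conjugation by some element of `LU`. -/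
theorem result {G : Type*} [Group G] [Finite G]
    (Q : G → Subgroup G)
    (hQ : ∀ x : G, Q x = (Cfsg.pCore 2 ↥(Subgroup.centralizer ({x} : Set G))).map (Subgroup.centralizer ({x} : Set G)).subtype)
    (z : G) (hz : orderOf z = 2) (hE : Cfsg.IsExtraspecial 2 ↥(Q z))
    (hC : Subgroup.centralizer ((Q z : Subgroup G) : Set G) ≤ Q z)
    (U : Subgroup G) (hU2 : ∀ u ∈ U, u * u = 1)
    (hS : ∀ u ∈ U, u ≠ 1 → ∃ g : G, g * z * g⁻¹ = u)
    (hO : ∀ u ∈ U, ∀ v ∈ U, u ≠ 1 → v ≠ 1 → v ∈ Q u)
    (QU LU : Subgroup G) (hQU : QU = ⨅ u ∈ ((U : Set G) \ {1}), Q u) (hLU : LU = ⨆ u ∈ ((U : Set G) \ {1}), Q u)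
    (n : ℕ) (hn : 2 ≤ n) (hcard : Nat.card ↥U = 2 ^ n) :
    U ≤ QU ∧ QU ≤ LU ∧ LU ≤ Subgroup.normalizer (U : Set G) ∧
      ∀ φ : ↥U ≃* ↥U, ∃ g ∈ LU, ∀ u : ↥U, g * (u : G) * g⁻¹ = ((φ u : ↥U) : G) := by
  have hQc : ∀ y, Q y = CfsgLib.LargeExtra.coreC y := hQ
  have hgood : ∀ u ∈ U, u ≠ 1 → CfsgLib.LargeExtra.GoodAt u := by
    intro u hu hu1
    obtain ⟨g, rfl⟩ := hS u hu hu1
    exact (show CfsgLib.LargeExtra.GoodAt z from ⟨hz, hQc z ▸ hE, hQc z ▸ hC⟩).conj g
  have hmem : ∀ {u : G}, u ∈ U → u ≠ 1 → ∀ v ∈ U, v ∈ CfsgLib.LargeExtra.coreC u := by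
    intro u hu hu1 v hv
    by_cases hv1 : v = 1
    · subst hv1; exact one_mem _
    · exact hQc u ▸ hO u hu v hv hu1 hv1
  have hQL : ∀ {u : G}, u ∈ U → u ≠ 1 → CfsgLib.LargeExtra.coreC u ≤ LU := by
    intro u hu hu1 x hx
    rw [hLU]
    exact Subgroup.mem_iSup_of_mem u (Subgroup.mem_iSup_of_mem ⟨hu, hu1⟩ (hQc u ▸ hx))
  obtain ⟨u₀, hu₀, hu₀1⟩ : ∃ u ∈ U, u ≠ 1 := by
    by_contra h
    push Not at h
    have : U = ⊥ := (Subgroup.eq_bot_iff_forall _).2 h
    rw [this, Subgroup.card_bot] at hcard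
    have := Nat.one_lt_two_pow (show n ≠ 0 by omega)
    omega
  have hUQ : U ≤ QU := by
    rw [hQU]
    exact le_iInf₂ fun u hu v hv => hQc u ▸ hmem hu.1 hu.2 v hv
  refine ⟨hUQ, ?_, ?_, ?_⟩
  · rw [hQU]
    exact (iInf₂_le u₀ ⟨hu₀, hu₀1⟩).trans ((hQc u₀).le.trans (hQL hu₀ hu₀1))
  · rw [hLU]
    refine iSup₂_le fun u hu q hq => ?_
    rw [hQc] at hq
    rw [Subgroup.mem_normalizer_iff]
    intro v
    have key : ∀ p ∈ CfsgLib.LargeExtra.coreC u, ∀ w ∈ U, p * w * p⁻¹ ∈ U := by
      intro p hp w hw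
      rcases (hgood u hu.1 hu.2).conj_eq hp (hmem hu.1 hu.2 w hw) with h | h <;> rw [h]
      · exact hw
      · exact mul_mem hu.1 hw
    refine ⟨key q hq v, fun hv => ?_⟩
    have := key q⁻¹ (inv_mem hq) _ hv
    simpa [mul_assoc] using this
  · intro φ
    induction hk : Nat.card U - Nat.card (MonoidHom.eqLocus φ.toMonoidHom (MonoidHom.id U))
      using Nat.strong_induction_on generalizing φ with
    | _ k ih =>
      by_cases htop : MonoidHom.eqLocus φ.toMonoidHom (MonoidHom.id U) = ⊤
      · refine ⟨1, one_mem _, fun u => ?_⟩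
        have : φ u = u := (htop.ge (Subgroup.mem_top u) :)
        rw [this]; simp
      obtain ⟨w, hw⟩ : ∃ w, φ w ≠ w := by
        by_contra h
        push Not at h
        exact htop (eq_top_iff.2 fun x _ => h x)
      set F := MonoidHom.eqLocus φ.toMonoidHom (MonoidHom.id U) with hF
      have hsq : ∀ a : U, a * a = 1 := fun a => Subtype.ext (hU2 a a.2)
      have hinv : ∀ a : U, a⁻¹ = a := fun a => inv_eq_of_mul_eq_one_right (hsq a)
      have hcomm : ∀ a b : U, a * b = b * a := fun a b => by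
        have h := hinv (a * b)
        rwa [mul_inv_rev, hinv, hinv, eq_comm] at h
      have hwF : φ w ∉ F := fun h => hw (φ.injective (show φ (φ w) = φ w from h))
      have hne : φ w * w ≠ 1 := fun h => hw ((eq_inv_of_mul_eq_one_left h).trans (hinv w))
      let u : U := φ w * w
      let 𝒮 : Set (Subgroup U) := {M | F ≤ M ∧ u ∈ M ∧ φ w ∉ M}
      have h𝒮 : (F ⊔ Subgroup.zpowers u) ∈ 𝒮 := by
        refine ⟨le_sup_left, Subgroup.mem_sup_right (Subgroup.mem_zpowers u), fun h => ?_⟩
        have : (Subgroup.zpowers u).Normal := ⟨fun a ha b => by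
          rwa [hcomm b a, mul_inv_cancel_right]⟩
        obtain ⟨f, hf, b, hb, hfb⟩ := Subgroup.mem_sup_of_normal_right.1 h
        obtain ⟨i, rfl⟩ := Subgroup.mem_zpowers_iff.1 hb
        rcases Int.even_or_odd i with ⟨j, rfl⟩ | ⟨j, rfl⟩
        · rw [← two_mul, zpow_mul, zpow_two, hsq, one_zpow, mul_one] at hfb
          exact hwF (hfb ▸ hf)
        · rw [zpow_add, zpow_mul, zpow_two, hsq, one_zpow, one_mul, zpow_one] at hfb
          have h1 : f * w = 1 := by
            simp only [u] at hfb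
            rw [← mul_assoc, hcomm f, mul_assoc] at hfb
            exact mul_eq_left.1 hfb
          have h2 : f = w := (eq_inv_of_mul_eq_one_left h1).trans (hinv w)
          exact hw (h2 ▸ hf)
      obtain ⟨M, hM⟩ := (Set.toFinite 𝒮).exists_maximal ⟨_, h𝒮⟩
      obtain ⟨hFM, huM, hwM⟩ := hM.1
      have hsplit : ∀ y : U, y ∈ M ∨ y * φ w ∈ M := by
        intro y
        by_contra h
        push Not at h
        have hle : M ≤ M ⊔ Subgroup.zpowers y := le_sup_left
        have hin : φ w ∈ M ⊔ Subgroup.zpowers y := by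
          by_contra hnot
          exact h.1 (hM.2 (y := M ⊔ Subgroup.zpowers y) ⟨hFM.trans hle, hle huM, hnot⟩ hle
            (Subgroup.mem_sup_right (Subgroup.mem_zpowers y)))
        have : (Subgroup.zpowers y).Normal := ⟨fun a ha b => by
          rwa [hcomm b a, mul_inv_cancel_right]⟩
        obtain ⟨m, hm, b, hb, hmb⟩ := Subgroup.mem_sup_of_normal_right.1 hin
        obtain ⟨i, rfl⟩ := Subgroup.mem_zpowers_iff.1 hb
        rcases Int.even_or_odd i with ⟨j, rfl⟩ | ⟨j, rfl⟩
        · rw [← two_mul, zpow_mul, zpow_two, hsq, one_zpow, mul_one] at hmb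
          exact hwM (hmb ▸ hm)
        · rw [zpow_add, zpow_mul, zpow_two, hsq, one_zpow, one_mul, zpow_one] at hmb
          apply h.2
          rwa [← hmb, hcomm m y, ← mul_assoc, hsq, one_mul]
      have hu1 : (u : G) ≠ 1 := fun h => hne (Subtype.ext h)
      obtain ⟨g, hg, hgM, hgw⟩ := (hgood u u.2 hu1).exists_move (M.map U.subtype) ⟨u, huM, rfl⟩
        (fun a ha => hmem u.2 hu1 a (Subgroup.map_subtype_le _ ha))
        (hmem u.2 hu1 _ (φ w).2) (by rintro ⟨a, ha, he⟩; exact hwM (Subtype.ext he ▸ ha))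
      have hgU : ∀ a : U, g * (a : G) * g⁻¹ ∈ U := by
        intro a
        rcases (hgood u u.2 hu1).conj_eq hg (hmem u.2 hu1 a a.2) with h | h <;> rw [h]
        · exact a.2
        · exact mul_mem u.2 a.2
      have hgU' : ∀ a : U, g⁻¹ * (a : G) * g ∈ U := by
        intro a
        have hp := inv_mem hg
        rcases (hgood u u.2 hu1).conj_eq hp (hmem u.2 hu1 a a.2) with h | h <;>
          rw [inv_inv] at h <;> rw [h]
        · exact a.2
        · exact mul_mem u.2 a.2
      let t : U ≃* U :=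
        { toFun := fun a => ⟨g * a * g⁻¹, hgU a⟩
          invFun := fun a => ⟨g⁻¹ * a * g, hgU' a⟩
          left_inv := fun a => Subtype.ext (by simp [mul_assoc])
          right_inv := fun a => Subtype.ext (by simp [mul_assoc])
          map_mul' := fun a b => Subtype.ext (by simp [mul_assoc]) }
      have hlt : F < MonoidHom.eqLocus (φ.trans t).toMonoidHom (MonoidHom.id U) := by
        refine lt_of_le_of_ne (fun a ha => ?_) (fun h => hw ?_)
        · show t (φ a) = a
          have haF : φ a = a := ha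
          refine Subtype.ext ?_
          simp only [t, haF, MulEquiv.coe_mk, Equiv.coe_fn_mk]
          rw [hgM a ⟨a, hFM ha, rfl⟩, mul_inv_cancel_right]
        · have : w ∈ F := h ▸ (show t (φ w) = w from Subtype.ext (by
            simp only [t, MulEquiv.coe_mk, Equiv.coe_fn_mk]
            rw [hgw, ← Subgroup.coe_mul]
            congr 1
            show φ w * w * φ w = w
            rw [hcomm (φ w) w, mul_assoc, hsq, mul_one]))
          exact this
      have hclt := Set.ncard_lt_ncard (SetLike.coe_ssubset_coe.2 hlt) (Set.toFinite _)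
      rw [← Nat.card_coe_set_eq, ← Nat.card_coe_set_eq] at hclt
      have hle' := Subgroup.card_le_card_group (MonoidHom.eqLocus (φ.trans t).toMonoidHom (MonoidHom.id U))
      obtain ⟨g', hg', hg''⟩ := ih _ (by
        rw [← hk]
        have : Nat.card F < Nat.card (MonoidHom.eqLocus (φ.trans t).toMonoidHom (MonoidHom.id U)) := hclt
        omega) (φ.trans t) rfl
      refine ⟨g⁻¹ * g', mul_mem (inv_mem (hQL u.2 hu1 hg)) hg', fun a => ?_⟩
      have := hg'' a
      calc g⁻¹ * g' * (a : G) * (g⁻¹ * g')⁻¹ = g⁻¹ * (g' * a * g'⁻¹) * g := by group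
        _ = g⁻¹ * (g * (φ a : G) * g⁻¹) * g := by rw [this]; rfl
        _ = φ a := by group

end Cfsg.Agent.S5596
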