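import Cfsg.Statements.S5597
import Cfsg.Agent.Lib.LargeExtra.Singular

set_option autoImplicit false
open Cfsg

namespace Cfsg.Agent.S5597

/-- Setting: `z` is an involution of the finite group `G`; for each element `x`, `Q x` is the largest normal 2-subgroup of the centralizer of `x`; `Q z` is extraspecial and contains its own centralizer in `G`. A subgroup `U` is singular when it is elementary abelian, every non-identity element of `U` is conjugate to `z`, and any two non-identity elements `u`, `v` of `U` are orthogonal (`v ∈ Q u`). Write `QU` for the intersection of the `Q u` and `LU` for the join of the `Q u` over the non-identity `u` in `U`. If `U` is a non-trivial singular subgroup, then `LU` acts trivially on `QU / U` (every commutator of an element of `LU` with an element of `QU` lies in `U`), and for every `x` in `QU` outside `U` the centralizer of `U` in `LU` permutes the coset `x U` transitively: each `x u` with `u ∈ U` is a conjugate of `x` by an element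 of `LU` centralizing `U`. -/
theorem result {G : Type*} [Group G] [Finite G]
    (Q : G → Subgroup G)
    (hQ : ∀ x : G, Q x = (Cfsg.pCore 2 ↥(Subgroup.centralizer ({x} : Set G))).map (Subgroup.centralizer ({x} : Set G)).subtype)
    (z : G) (hz : orderOf z = 2) (hE : Cfsg.IsExtraspecial 2 ↥(Q z))
    (hC : Subgroup.centralizer ((Q z : Subgroup G) : Set G) ≤ Q z)
    (U : Subgroup G) (hU2 : ∀ u ∈ U, u * u = 1)
    (hS : ∀ u ∈ U, u ≠ 1 → ∃ g : G, g * z * g⁻¹ = u)
    (hO : ∀ u ∈ U, ∀ v ∈ U, u ≠ 1 → v ≠ 1 → v ∈ Q u)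
    (QU LU : Subgroup G) (hQU : QU = ⨅ u ∈ ((U : Set G) \ {1}), Q u) (hLU : LU = ⨆ u ∈ ((U : Set G) \ {1}), Q u)
    (hU : U ≠ ⊥) :
    (∀ g ∈ LU, ∀ x ∈ QU, g * x * g⁻¹ * x⁻¹ ∈ U) ∧
      ∀ x ∈ QU, x ∉ U → ∀ u ∈ U, ∃ g ∈ LU ⊓ Subgroup.centralizer (U : Set G), g * x * g⁻¹ = x * u := by
  have hQc : ∀ y, Q y = CfsgLib.LargeExtra.coreC y := hQ
  have hgood : ∀ u ∈ U, u ≠ 1 → CfsgLib.LargeExtra.GoodAt u := by
    intro u hu hu1
    obtain ⟨g, rfl⟩ := hS u hu hu1
    exact (show CfsgLib.LargeExtra.GoodAt z from ⟨hz, hQc z ▸ hE, hQc z ▸ hC⟩).conj g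
  have hmem : ∀ {u : G}, u ∈ U → u ≠ 1 → ∀ v ∈ U, v ∈ CfsgLib.LargeExtra.coreC u := by
    intro u hu hu1 v hv
    by_cases hv1 : v = 1
    · subst hv1; exact one_mem _
    · exact hQc u ▸ hO u hu v hv hu1 hv1
  have hQUle : ∀ {u : G}, u ∈ U → u ≠ 1 → QU ≤ CfsgLib.LargeExtra.coreC u := by
    intro u hu hu1
    rw [hQU, ← hQc]
    exact iInf₂_le u ⟨hu, hu1⟩
  let S : Subgroup G :=
    { carrier := {g | g ∈ Subgroup.normalizer (U : Set G) ∧ ∀ x ∈ QU, g * x * g⁻¹ * x⁻¹ ∈ U}
      one_mem' := ⟨one_mem _, fun x _ => by simp⟩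
      mul_mem' := by
        rintro a b ⟨ha, ha'⟩ ⟨hb, hb'⟩
        refine ⟨mul_mem ha hb, fun x hx => ?_⟩
        have h1 := (Subgroup.mem_normalizer_iff.1 ha _).1 (hb' x hx)
        have := mul_mem h1 (ha' x hx)
        convert this using 1
        group
      inv_mem' := by
        rintro a ⟨ha, ha'⟩
        refine ⟨inv_mem ha, fun x hx => ?_⟩
        have h1 := (Subgroup.mem_normalizer_iff.1 (inv_mem ha) _).1 (inv_mem (ha' x hx))
        convert h1 using 1
        group }
  refine ⟨fun g hg => ((?_ : LU ≤ S) hg).2, ?_⟩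
  · rw [hLU]
    refine iSup₂_le fun u hu q hq => ?_
    rw [hQc] at hq
    refine ⟨?_, fun x hx => ?_⟩
    · rw [Subgroup.mem_normalizer_iff]
      intro v
      have key : ∀ p ∈ CfsgLib.LargeExtra.coreC u, ∀ w ∈ U, p * w * p⁻¹ ∈ U := by
        intro p hp w hw
        rcases (hgood u hu.1 hu.2).conj_eq hp (hmem hu.1 hu.2 w hw) with h | h <;> rw [h]
        · exact hw
        · exact mul_mem hu.1 hw
      refine ⟨key q hq v, fun hv => ?_⟩
      have := key q⁻¹ (inv_mem hq) _ hv
      simpa [mul_assoc] using this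
    · rcases (hgood u hu.1 hu.2).comm_eq hq (hQUle hu.1 hu.2 hx) with h | h <;> rw [h]
      · exact one_mem _
      · exact hu.1
  · intro x hx hxU u hu
    by_cases hu1 : u = 1
    · exact ⟨1, one_mem _, by simp [hu1]⟩
    have hg := hgood u hu hu1
    obtain ⟨g, hgQ, hgU, hgx⟩ := hg.exists_move U hu (fun v hv => hmem hu hu1 v hv) (hQUle hu hu1 hx) hxU
    refine ⟨g, ⟨?_, Subgroup.mem_centralizer_iff.2 fun v hv => (hgU v hv).symm⟩, ?_⟩
    · rw [hLU]
      exact Subgroup.mem_iSup_of_mem u (Subgroup.mem_iSup_of_mem ⟨hu, hu1⟩ (hQc u ▸ hgQ))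
    · rw [hgx]
      exact (Subgroup.mem_centralizer_singleton_iff.1
        (CfsgLib.LargeExtra.coreC_le_centralizer u (hQUle hu hu1 hx))).symm

end Cfsg.Agent.S5597
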