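import Cfsg.Statements.S5598
import Cfsg.Agent.Lib.LargeExtra.Singular

set_option autoImplicit false
open Cfsg

namespace Cfsg.Agent.S5598

/-- Setting: `z` is an involution of the finite group `G`; for each element `x`, `Q x` is the largest normal 2-subgroup of the centralizer of `x`; `Q z` is extraspecial and contains its own centralizer in `G`. A subgroup `U` is singular when it is elementary abelian, every non-identity element of `U` is conjugate to `z`, and any two non-identity elements `u`, `v` of `U` are orthogonal (`v ∈ Q u`). Write `QU` for the intersection of the `Q u` and `LU` for the join of the `Q u` over the non-identity `u` in `U`. If the singular subgroup `U` is generated by a set `T` of non-identity elements, then `QU` is already the intersection of the `Q t` over `t ∈ T`. -/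
theorem result {G : Type*} [Group G] [Finite G]
    (Q : G → Subgroup G)
    (hQ : ∀ x : G, Q x = (Cfsg.pCore 2 ↥(Subgroup.centralizer ({x} : Set G))).map (Subgroup.centralizer ({x} : Set G)).subtype)
    (z : G) (hz : orderOf z = 2) (hE : Cfsg.IsExtraspecial 2 ↥(Q z))
    (hC : Subgroup.centralizer ((Q z : Subgroup G) : Set G) ≤ Q z)
    (U : Subgroup G) (hU2 : ∀ u ∈ U, u * u = 1)
    (hS : ∀ u ∈ U, u ≠ 1 → ∃ g : G, g * z * g⁻¹ = u)
    (hO : ∀ u ∈ U, ∀ v ∈ U, u ≠ 1 → v ≠ 1 → v ∈ Q u)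
    (QU LU : Subgroup G) (hQU : QU = ⨅ u ∈ ((U : Set G) \ {1}), Q u) (hLU : LU = ⨆ u ∈ ((U : Set G) \ {1}), Q u)
    (T : Set G) (hT : Subgroup.closure T = U) (hT1 : (1 : G) ∉ T) :
    QU = ⨅ t ∈ T, Q t := by
  have hQc : ∀ y, Q y = CfsgLib.LargeExtra.coreC y := hQ
  have hgood : ∀ u ∈ U, u ≠ 1 → CfsgLib.LargeExtra.GoodAt u := by
    intro u hu hu1
    obtain ⟨g, rfl⟩ := hS u hu hu1
    exact (show CfsgLib.LargeExtra.GoodAt z from ⟨hz, hQc z ▸ hE, hQc z ▸ hC⟩).conj g
  have hTU : ∀ t ∈ T, t ∈ U ∧ t ≠ 1 := fun t ht =>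
    ⟨hT ▸ Subgroup.subset_closure ht, fun h => hT1 (h ▸ ht)⟩
  rw [hQU]
  refine le_antisymm (le_iInf₂ fun t ht => iInf₂_le t ⟨(hTU t ht).1, (hTU t ht).2⟩) ?_
  refine le_iInf₂ fun u hu => ?_
  have key : ∀ a ∈ Subgroup.closure T, a ∈ U ∧ (a ≠ 1 → (⨅ t ∈ T, Q t) ≤ Q a) := by
    intro a ha
    induction ha using Subgroup.closure_induction with
    | mem a ha => exact ⟨(hTU a ha).1, fun _ => iInf₂_le a ha⟩
    | one => exact ⟨one_mem _, fun h => absurd rfl h⟩
    | inv a ha ih =>
      have : a⁻¹ = a := inv_eq_of_mul_eq_one_right (hU2 a ih.1)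
      exact this.symm ▸ ih
    | mul a b _ _ iha ihb =>
      refine ⟨mul_mem iha.1 ihb.1, fun hab x hx => ?_⟩
      by_cases ha1 : a = 1
      · subst ha1; rw [one_mul] at hab ⊢; exact ihb.2 hab hx
      by_cases hb1 : b = 1
      · subst hb1; rw [mul_one] at hab ⊢; exact iha.2 hab hx
      have hne : a ≠ b := fun h => hab (h ▸ hU2 b ihb.1)
      have hxa : x ∈ CfsgLib.LargeExtra.coreC a := hQc a ▸ iha.2 ha1 hx
      have hxb : x ∈ CfsgLib.LargeExtra.coreC b := hQc b ▸ ihb.2 hb1 hx
      have hbQ : b ∈ CfsgLib.LargeExtra.coreC a := hQc a ▸ hO a iha.1 b ihb.1 ha1 hb1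
      have hga := hgood a iha.1 ha1
      obtain ⟨q, hq, -, hqb⟩ := hga.exists_move (Subgroup.zpowers a) (Subgroup.mem_zpowers a)
        ((Subgroup.zpowers_le).2 hga.mem_self) hbQ (by
          intro hb
          obtain ⟨i, hi⟩ := Subgroup.mem_zpowers_iff.1 hb
          rcases Int.even_or_odd i with ⟨j, rfl⟩ | ⟨j, rfl⟩
          · apply hb1
            rw [← hi, ← two_mul, zpow_mul, zpow_two, hU2 a iha.1, one_zpow]
          · apply hne
            rw [← hi, zpow_add, zpow_mul, zpow_two, hU2 a iha.1, one_zpow, one_mul, zpow_one])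
      rw [hQc, ← hqb, CfsgLib.LargeExtra.coreC_conj]
      have haab : a ∈ CfsgLib.LargeExtra.coreC (a * b) :=
        hQc (a * b) ▸ hO (a * b) (mul_mem iha.1 ihb.1) a iha.1 hab ha1
      rw [← hqb, CfsgLib.LargeExtra.coreC_conj] at haab
      rcases hga.conj_eq hq hxa with h | h
      · exact ⟨x, hxb, h⟩
      · have h2 : q * x * q⁻¹ ∈ (CfsgLib.LargeExtra.coreC b).map (MulAut.conj q).toMonoidHom :=
          ⟨x, hxb, rfl⟩
        rw [h] at h2
        simpa using mul_mem (inv_mem haab) h2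
  exact (key u (hT.symm ▸ hu.1)).2 hu.2

end Cfsg.Agent.S5598
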