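import Cfsg.Statements.S5599
import Cfsg.Agent.Lib.M24Cert.Classes

set_option autoImplicit false
open scoped Pointwise
open Cfsg

namespace Cfsg.Agent.S5599

/-- In the automorphism group of the length-24 code, the two-point Mathieu group (permutations of the code's group fixing the extra point and the residue 0) has index 2 in the setwise stabiliser of that pair of points, and an element of the code's group interchanging the two points normalises the two-point group and induces on it, by conjugation, an automorphism that is not inner. -/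
theorem result (g : Equiv.Perm Cfsg.GolayPt) (hg : g ∈ Cfsg.M24) (h₁ : g none = some 0) (h₂ : g (some 0) = none) : Cfsg.Spor.M22.relIndex (Cfsg.M24 ⊓ MulAction.stabilizer (Equiv.Perm Cfsg.GolayPt) ({none, some 0} : Finset Cfsg.GolayPt)) = 2 ∧ (∀ x ∈ Cfsg.Spor.M22, g * x * g⁻¹ ∈ Cfsg.Spor.M22) ∧ ¬ ∃ h ∈ Cfsg.Spor.M22, ∀ x ∈ Cfsg.Spor.M22, g * x * g⁻¹ = h * x * h⁻¹ := by
  have hmem22 : ∀ x, x ∈ Cfsg.Spor.M22 ↔ x ∈ Cfsg.M24 ∧ x none = none ∧ x (some 0) = some 0 := fun x => by
    simp [Cfsg.Spor.M22, Cfsg.Spor.M23, Subgroup.mem_inf, MulAction.mem_stabilizer_iff, and_assoc, Equiv.Perm.smul_def]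
  have hmemH : ∀ x, x ∈ Cfsg.M24 ⊓ MulAction.stabilizer (Equiv.Perm Cfsg.GolayPt) ({none, some 0} : Finset Cfsg.GolayPt) ↔
      x ∈ Cfsg.M24 ∧ ((x none = none ∧ x (some 0) = some 0) ∨ (x none = some 0 ∧ x (some 0) = none)) := by
    intro x
    rw [Subgroup.mem_inf]
    refine and_congr_right fun _ => ?_
    rw [MulAction.mem_stabilizer_iff, Finset.smul_finset_insert, Finset.smul_finset_singleton,
      Equiv.Perm.smul_def, Equiv.Perm.smul_def]
    refine ⟨fun h => ?_, ?_⟩
    · have a1 : x none ∈ ({none, some 0} : Finset Cfsg.GolayPt) := h ▸ Finset.mem_insert_self _ _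
      have a2 : x (some 0) ∈ ({none, some 0} : Finset Cfsg.GolayPt) :=
        h ▸ Finset.mem_insert_of_mem (Finset.mem_singleton_self _)
      simp only [Finset.mem_insert, Finset.mem_singleton] at a1 a2
      rcases a1 with a1 | a1 <;> rcases a2 with a2 | a2
      · exact absurd (x.injective (a1.trans a2.symm)) (by simp)
      · exact Or.inl ⟨a1, a2⟩
      · exact Or.inr ⟨a1, a2⟩
      · exact absurd (x.injective (a1.trans a2.symm)) (by simp)
    · rintro (⟨a, b⟩ | ⟨a, b⟩)
      · rw [a, b]
      · rw [a, b]; exact Finset.pair_comm _ _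
  set H := Cfsg.M24 ⊓ MulAction.stabilizer (Equiv.Perm Cfsg.GolayPt) ({none, some 0} : Finset Cfsg.GolayPt) with hH
  refine ⟨?_, fun x hx => ?_, ?_⟩
  · have e : Cfsg.Spor.M22.subgroupOf H = MulAction.stabilizer ↥H (none : Cfsg.GolayPt) := by
      ext ⟨x, hx⟩
      rw [Subgroup.mem_subgroupOf, hmem22, MulAction.mem_stabilizer_iff]
      obtain ⟨hm, h⟩ := (hmemH x).1 hx
      show _ ↔ x none = none
      refine ⟨fun h => h.2.1, fun h0 => ⟨hm, h0, ?_⟩⟩
      rcases h with h | h
      · exact h.2
      · rw [h0] at h; exact absurd h.1 (by simp)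
    rw [Subgroup.relIndex, e, MulAction.index_stabilizer]
    have horb : MulAction.orbit ↥H (none : Cfsg.GolayPt) = ↑({none, some 0} : Finset Cfsg.GolayPt) := by
      ext q
      simp only [Finset.coe_insert, Finset.coe_singleton, Set.mem_insert_iff, Set.mem_singleton_iff]
      constructor
      · rintro ⟨⟨x, hx⟩, rfl⟩
        rcases ((hmemH x).1 hx).2 with h | h
        · exact Or.inl h.1
        · exact Or.inr h.1
      · rintro (rfl | rfl)
        · exact ⟨1, one_smul _ _⟩
        · exact ⟨⟨g, (hmemH g).2 ⟨hg, Or.inr ⟨h₁, h₂⟩⟩⟩, h₁⟩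
    rw [horb, Set.ncard_coe_finset]
    rfl
  · obtain ⟨hm, a, b⟩ := (hmem22 x).1 hx
    refine (hmem22 _).2 ⟨mul_mem (mul_mem hg hm) (inv_mem hg), ?_, ?_⟩
    · show g (x (g.symm none)) = none
      rw [g.symm_apply_eq.2 h₂.symm, b, h₂]
    · show g (x (g.symm (some 0))) = some 0
      rw [g.symm_apply_eq.2 h₁.symm, a, h₁]
  · rintro ⟨h, hh, hconj⟩
    obtain ⟨hhm, hn, hs⟩ := (hmem22 h).1 hh
    set c := h⁻¹ * g with hc
    have hcm : c ∈ Cfsg.M24 := mul_mem (inv_mem hhm) hg
    have hcn : c none = some 0 := by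
      show h.symm (g none) = some 0
      rw [h₁]; exact h.symm_apply_eq.2 hs.symm
    have hcs : c (some 0) = none := by
      show h.symm (g (some 0)) = none
      rw [h₂]; exact h.symm_apply_eq.2 hn.symm
    have hcomm : ∀ x ∈ Cfsg.Spor.M22, ∀ q, c (x q) = x (c q) := by
      intro x hx q
      have e : c * x = x * c := by
        rw [hc]
        calc h⁻¹ * g * x = h⁻¹ * (g * x * g⁻¹) * g := by group
          _ = _ := by rw [hconj x hx]; group
      exact congrArg (fun z : Equiv.Perm Cfsg.GolayPt => z q) e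
    have hfix : Finset.univ \ ({none, some 0} : Finset Cfsg.GolayPt) ⊆ Finset.univ.filter fun p => c p = p := by
      intro p hp
      simp only [Finset.mem_sdiff, Finset.mem_univ, true_and, Finset.mem_insert, Finset.mem_singleton, not_or] at hp
      simp only [Finset.mem_filter, Finset.mem_univ, true_and]
      by_contra hne
      have hcp1 : c p ≠ none := fun e => hp.2 (c.injective (e.trans hcs.symm))
      have hcp2 : c p ≠ some 0 := fun e => hp.1 (c.injective (e.trans hcn.symm))
      obtain ⟨r, -, hr⟩ := Finset.exists_mem_notMem_of_card_lt_card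
        (s := ({none, some 0, p, c p} : Finset Cfsg.GolayPt)) (t := Finset.univ)
        (lt_of_le_of_lt Finset.card_le_four (by decide))
      simp only [Finset.mem_insert, Finset.mem_singleton, not_or] at hr
      obtain ⟨x, hx, e0, e1, e2, e3⟩ := CfsgLib.Golay.M24_map_four (show (none : Cfsg.GolayPt) ≠ some 0 by simp)
        (Ne.symm hp.1) (Ne.symm hcp1) (Ne.symm hp.2) (Ne.symm hcp2) (Ne.symm hne)
        (show (none : Cfsg.GolayPt) ≠ some 0 by simp) (Ne.symm hp.1) (Ne.symm hr.1) (Ne.symm hp.2) (Ne.symm hr.2.1)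
        (Ne.symm hr.2.2.1)
      have := hcomm x ((hmem22 x).2 ⟨hx, e0, e1⟩) p
      rw [e2, e3] at this
      exact hr.2.2.2 this.symm
    have hone : c ≠ 1 := fun e => by rw [e] at hcn; simp at hcn
    have h1 := Finset.card_le_card hfix
    have h2 := CfsgLib.M24Cert.fixed_le_eight hcm hone
    rw [Finset.card_univ_sdiff, Finset.card_pair (by simp), show Fintype.card Cfsg.GolayPt = 24 by decide] at h1
    omega

end Cfsg.Agent.S5599
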