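import Cfsg.Statements.S5601
import Cfsg.Agent.Lib.M24Cert.ClassFacts

set_option autoImplicit false
open scoped Pointwise
open Cfsg

namespace Cfsg.Agent.S5601

/-- The group of the length-24 code has exactly two conjugacy classes of subgroups of order 3: a subgroup of order 3 fixes either exactly 6 of the 24 points or none of them, both cases occur, and two subgroups of order 3 with the same number of fixed points are conjugate. -/
theorem result : (∀ X : Subgroup ↥Cfsg.M24, Nat.card X = 3 → {p : Cfsg.GolayPt | ∀ x ∈ X, ((x : ↥Cfsg.M24) : Equiv.Perm Cfsg.GolayPt) p = p}.ncard = 6 ∨ {p : Cfsg.GolayPt | ∀ x ∈ X, ((x : ↥Cfsg.M24) : Equiv.Perm Cfsg.GolayPt) p = p}.ncard = 0) ∧ (∃ X : Subgroup ↥Cfsg.M24, Nat.card X = 3 ∧ {p : Cfsg.GolayPt | ∀ x ∈ X, ((x : ↥Cfsg.M24) : Equiv.Perm Cfsg.GolayPt) p = p}.ncard = 6) ∧ (∃ X : Subgroup ↥Cfsg.M24, Nat.card X = 3 ∧ {p : Cfsg.GolayPt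 | ∀ x ∈ X, ((x : ↥Cfsg.M24) : Equiv.Perm Cfsg.GolayPt) p = p}.ncard = 0) ∧ ∀ X Y : Subgroup ↥Cfsg.M24, Nat.card X = 3 → Nat.card Y = 3 → {p : Cfsg.GolayPt | ∀ x ∈ X, ((x : ↥Cfsg.M24) : Equiv.Perm Cfsg.GolayPt) p = p}.ncard = {p : Cfsg.GolayPt | ∀ x ∈ Y, ((x : ↥Cfsg.M24) : Equiv.Perm Cfsg.GolayPt) p = p}.ncard → ∃ k : ↥Cfsg.M24, MulAut.conj k • X = Y := by
  have key : ∀ X : Subgroup ↥Cfsg.M24, Nat.card X = 3 → ∀ x ∈ X, x ≠ 1 → orderOf x = 3 ∧ X = Subgroup.zpowers x := by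
    intro X hX x hx hne
    have hd : orderOf x ∣ 3 := hX ▸ Subgroup.orderOf_dvd_natCard X hx
    have ho : orderOf x = 3 := by
      rcases (Nat.dvd_prime Nat.prime_three).1 hd with h | h
      · exact absurd (orderOf_eq_one_iff.1 h) hne
      · exact h
    exact ⟨ho, (Subgroup.eq_of_le_of_card_ge ((Subgroup.zpowers_le).2 hx) (by
      rw [Nat.card_zpowers, ho, hX])).symm⟩
  have gen : ∀ X : Subgroup ↥Cfsg.M24, Nat.card X = 3 → ∃ x ∈ X, x ≠ 1 := fun X hX => by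
    by_contra hc
    have : X = ⊥ := (Subgroup.eq_bot_iff_forall X).2 fun x hx => by by_contra h; exact hc ⟨x, hx, h⟩
    rw [this, Subgroup.card_bot] at hX
    omega
  have fixed : ∀ x : ↥Cfsg.M24, {p : Cfsg.GolayPt | ∀ y ∈ Subgroup.zpowers x, ((y : ↥Cfsg.M24) : Equiv.Perm Cfsg.GolayPt) p = p}.ncard =
      (Finset.univ.filter fun p => (x : Equiv.Perm Cfsg.GolayPt) p = p).card := by
    intro x
    rw [← Set.ncard_coe_finset]
    congr 1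
    ext p
    simp only [Finset.coe_filter, Finset.mem_univ, true_and]
    refine ⟨fun h => h x (Subgroup.mem_zpowers x), fun h => ?_⟩
    have hle : Subgroup.zpowers x ≤ MulAction.stabilizer ↥Cfsg.M24 p := Subgroup.zpowers_le.2 h
    exact fun y hy => hle hy
  obtain ⟨-, -, -, -, hD, hE, hDm, hEm⟩ := CfsgLib.M24Cert.inv_facts
  have exi : ∀ g : Equiv.Perm Cfsg.GolayPt, g ∈ Cfsg.M24 → orderOf g = 3 → ∀ n, (Finset.univ.filter fun p => g p = p).card = n →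
      ∃ X : Subgroup ↥Cfsg.M24, Nat.card X = 3 ∧ {p : Cfsg.GolayPt | ∀ x ∈ X, ((x : ↥Cfsg.M24) : Equiv.Perm Cfsg.GolayPt) p = p}.ncard = n := by
    intro g hg ho n hn
    refine ⟨Subgroup.zpowers ⟨g, hg⟩, by rw [Nat.card_zpowers, Subgroup.orderOf_mk, ho], ?_⟩
    rw [fixed]; exact hn
  have main : ∀ X : Subgroup ↥Cfsg.M24, Nat.card X = 3 → ∃ u : ↥Cfsg.M24,
      ({p : Cfsg.GolayPt | ∀ x ∈ X, ((x : ↥Cfsg.M24) : Equiv.Perm Cfsg.GolayPt) p = p}.ncard = 6 ∧ MulAut.conj u • X = Subgroup.zpowers ⟨_, hDm⟩) ∨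
      ({p : Cfsg.GolayPt | ∀ x ∈ X, ((x : ↥Cfsg.M24) : Equiv.Perm Cfsg.GolayPt) p = p}.ncard = 0 ∧ MulAut.conj u • X = Subgroup.zpowers ⟨_, hEm⟩) := by
    intro X hX
    obtain ⟨x, hx, hne⟩ := gen X hX
    obtain ⟨ho, hXx⟩ := key X hX x hx hne
    have conj : ∀ (u : ↥Cfsg.M24) (y : ↥Cfsg.M24), MulAut.conj u x = y → MulAut.conj u • X = Subgroup.zpowers y := by
      intro u y e
      rw [hXx, ← e]
      exact MonoidHom.map_zpowers _ x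
    obtain ⟨u, hu, ⟨e, hc⟩ | ⟨e, hc⟩⟩ := CfsgLib.M24Cert.three_cases x.2 (by rw [Subgroup.orderOf_coe]; exact ho)
    · refine ⟨⟨u, hu⟩⁻¹, Or.inl ⟨?_, conj _ _ (Subtype.ext ?_)⟩⟩
      · rw [hXx, fixed]; exact hc
      · simp only [MulAut.conj_apply, inv_inv, Subgroup.coe_mul, Subgroup.coe_inv]
        rw [e]; group
    · refine ⟨⟨u, hu⟩⁻¹, Or.inr ⟨?_, conj _ _ (Subtype.ext ?_)⟩⟩
      · rw [hXx, fixed]; exact hc
      · simp only [MulAut.conj_apply, inv_inv, Subgroup.coe_mul, Subgroup.coe_inv]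
        rw [e]; group
  refine ⟨fun X hX => ?_,
    exi _ hDm hD 6 ((CfsgLib.M24Cert.fixN_card CfsgLib.M24Cert.certs_ok.2.2.2.2.2.1).trans CfsgLib.M24Cert.rep_facts.2.2.1),
    exi _ hEm hE 0 ((CfsgLib.M24Cert.fixN_card CfsgLib.M24Cert.certs_ok.2.2.2.2.2.2.1).trans CfsgLib.M24Cert.rep_facts.2.2.2.1),
    fun X Y hX hY he => ?_⟩
  · obtain ⟨u, ⟨h, -⟩ | ⟨h, -⟩⟩ := main X hX
    · exact Or.inl h
    · exact Or.inr h
  · obtain ⟨u, ⟨c, e⟩ | ⟨c, e⟩⟩ := main X hX <;> obtain ⟨v, ⟨c', e'⟩ | ⟨c', e'⟩⟩ := main Y hY <;>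
      first
      | exact ⟨v⁻¹ * u, by rw [map_mul, mul_smul, e, ← e', map_inv, inv_smul_smul]⟩
      | (exfalso; omega)

end Cfsg.Agent.S5601
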