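import Cfsg.Statements.S5606
import Cfsg.Agent.Lib.M24Cert.ClassFacts

set_option autoImplicit false
open scoped Pointwise
open Cfsg

namespace Cfsg.Agent.S5606

/-- A fixed-point-free involution of the group of the length-24 code maps to themselves exactly 15 octads, exactly 75 trios and exactly 51 sextets. -/
theorem result (g : Equiv.Perm Cfsg.GolayPt) (hg : g ∈ Cfsg.M24) (h₂ : orderOf g = 2) (h₀ : ∀ p, g p ≠ p) : {o : Finset Cfsg.GolayPt | o ∈ Cfsg.octads ∧ g • o = o}.ncard = 15 ∧ {T : Finset (Finset Cfsg.GolayPt) | T ∈ Cfsg.trios ∧ g • T = T}.ncard = 75 ∧ {S : Finset (Finset Cfsg.GolayPt) | S ∈ Cfsg.sextets ∧ g • S = S}.ncard = 51 := by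
  obtain ⟨u, hu, ⟨rfl, -⟩ | ⟨-, h⟩⟩ := CfsgLib.M24Cert.inv_cases hg h₂
  · have hm := CfsgLib.M24Cert.certs_ok.2.2.2.1
    rw [CfsgLib.M24Cert.trios_eq, CfsgLib.M24Cert.sextets_eq, CfsgLib.M24Cert.fixed_octads hm hu,
      CfsgLib.M24Cert.Tbl.fixed_count CfsgLib.M24Cert.triTbl_sorted CfsgLib.M24Cert.triTbl_closed hm hu,
      CfsgLib.M24Cert.Tbl.fixed_count CfsgLib.M24Cert.sexTbl_sorted CfsgLib.M24Cert.sexTbl_closed hm hu]
    refine ⟨?_, ?_, ?_⟩ <;> decide +kernel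
  · rw [CfsgLib.M24Cert.fixed_card_zero_iff.2 h₀] at h
    omega

end Cfsg.Agent.S5606
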