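import Cfsg.Statements.S5607
import Cfsg.Agent.Lib.M24Cert.Cent

set_option autoImplicit false
open scoped Pointwise
open Cfsg

namespace Cfsg.Agent.S5607

/-- For a fixed-point-free involution t of the group of the length-24 code: its centraliser in that group has order 7680, is transitive on the 24 points, and is contained, together with t, in the stabiliser of some sextet. -/
theorem result (t : Equiv.Perm Cfsg.GolayPt) (ht : t ∈ Cfsg.M24) (h₂ : orderOf t = 2) (h₀ : ∀ p, t p ≠ p) : Nat.card {c : Equiv.Perm Cfsg.GolayPt // c ∈ Cfsg.M24 ∧ c * t = t * c} = 7680 ∧ (∀ p q : Cfsg.GolayPt, ∃ c ∈ Cfsg.M24, c * t = t * c ∧ c p = q) ∧ ∃ S ∈ Cfsg.sextets, t • S = S ∧ ∀ c ∈ Cfsg.M24, c * t = t * c → c • S = S := by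
  obtain ⟨u, hu, ⟨rfl, -⟩ | ⟨-, h⟩⟩ := CfsgLib.M24Cert.inv_cases ht h₂
  swap
  · rw [CfsgLib.M24Cert.fixed_card_zero_iff.2 h₀] at h
    omega
  set T := CfsgLib.M24Cert.pL CfsgLib.M24Cert.elT.L with hT
  have back : ∀ c : Equiv.Perm Cfsg.GolayPt, (c ∈ Cfsg.M24 ∧ c * (u * T * u⁻¹) = u * T * u⁻¹ * c) ↔
      u⁻¹ * c * u ∈ CfsgLib.M24Cert.centT := by
    intro c
    rw [CfsgLib.M24Cert.mem_centT]
    constructor
    · rintro ⟨h1, h2⟩
      refine ⟨mul_mem (mul_mem (inv_mem hu) h1) hu, ?_⟩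
      calc u⁻¹ * c * u * T = u⁻¹ * (c * (u * T * u⁻¹)) * u := by group
        _ = _ := by rw [h2]; group; rfl
    · rintro ⟨h1, h2⟩
      refine ⟨by simpa [mul_assoc] using mul_mem (mul_mem hu h1) (inv_mem hu), ?_⟩
      calc c * (u * T * u⁻¹) = u * (u⁻¹ * c * u * T) * u⁻¹ := by group
        _ = _ := by rw [h2]; group; rfl
  refine ⟨?_, fun p q => ?_, u • CfsgLib.M24Cert.sexTbl.el 965, ?_, ?_, fun c hc hct => ?_⟩
  · rw [← CfsgLib.M24Cert.card_centT]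
    refine Nat.card_congr ((MulAut.conj u⁻¹).toEquiv.subtypeEquiv fun c => ?_)
    rw [back c]
    simp [MulAut.conj_apply]
  · obtain ⟨i, hi, ei⟩ := CfsgLib.M24Cert.exists_pt (u⁻¹ p)
    obtain ⟨j, hj, ej⟩ := CfsgLib.M24Cert.exists_pt (u⁻¹ q)
    obtain ⟨a, ha, ea⟩ := CfsgLib.M24Cert.centT_transitive i hi
    obtain ⟨b, hb, eb⟩ := CfsgLib.M24Cert.centT_transitive j hj
    have hm := (back (u * (b * a⁻¹) * u⁻¹)).2 (by
      simpa [mul_assoc] using mul_mem hb (inv_mem ha))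
    refine ⟨_, hm.1, hm.2, ?_⟩
    show u (b (a⁻¹ (u⁻¹ p))) = q
    rw [← ei, ← ea, Equiv.Perm.coe_inv, Equiv.symm_apply_apply, eb, ej]
    simp
  · rw [CfsgLib.M24Cert.sextets_eq]
    exact CfsgLib.M24Cert.Tbl.smul_mem CfsgLib.M24Cert.sexTbl_closed hu ⟨965, (by decide : (965 : ℕ) < 1771), rfl⟩
  · rw [mul_smul, mul_smul, inv_smul_smul]
    exact congrArg (u • ·) ((CfsgLib.M24Cert.fixesB_iff (CfsgLib.M24Cert.GenT.valid' CfsgLib.M24Cert.elT_valid.1).1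
      (CfsgLib.M24Cert.Tbl.small _ _)).1 CfsgLib.M24Cert.centT_data.2.2.2.2.2.2.2.2.2)
  · have h := CfsgLib.M24Cert.centT_fixes_sextet ((back c).1 ⟨hc, hct⟩)
    rw [mul_smul, mul_smul, inv_smul_eq_iff] at h
    exact h

end Cfsg.Agent.S5607
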