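import Cfsg.Statements.S5608
import Cfsg.Agent.Lib.M24Cert.Cent

set_option autoImplicit false
open scoped Pointwise
open Cfsg

namespace Cfsg.Agent.S5608

/-- If an element of order 3 and an involution of the group of the length-24 code commute, then either the element of order 3 has exactly 6 fixed points and the involution exactly 8, or both are fixed-point-free. -/
theorem result (x s : Equiv.Perm Cfsg.GolayPt) (hx : x ∈ Cfsg.M24) (hs : s ∈ Cfsg.M24) (h₃ : orderOf x = 3) (h₂ : orderOf s = 2) (hc : Commute x s) : ((Finset.univ.filter fun p => x p = p).card = 6 ∧ (Finset.univ.filter fun p => s p = p).card = 8) ∨ ((Finset.univ.filter fun p => x p = p).card = 0 ∧ (Finset.univ.filter fun p => s p = p).card = 0) := by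
  obtain ⟨u, hu, hxc⟩ := CfsgLib.M24Cert.three_cases hx h₃
  obtain ⟨v, hv, hsc⟩ := CfsgLib.M24Cert.inv_cases hs h₂
  rcases hsc with ⟨es, cs⟩ | ⟨-, cs⟩ <;> rcases hxc with ⟨-, cx⟩ | ⟨-, cx⟩
  · exfalso
    obtain ⟨p, hp⟩ : (Finset.univ.filter fun p => x p = p).Nonempty := Finset.card_pos.1 (by omega)
    simp only [Finset.mem_filter, Finset.mem_univ, true_and] at hp
    obtain ⟨i, hi, ei⟩ := CfsgLib.M24Cert.exists_pt (v⁻¹ p)
    obtain ⟨w, hw, ew⟩ := CfsgLib.M24Cert.centT_transitive i hi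
    have hx' : v⁻¹ * x * v ∈ CfsgLib.M24Cert.centT := CfsgLib.M24Cert.mem_centT.2
      ⟨mul_mem (mul_mem (inv_mem hv) hx) hv, by
        have e : x * s = s * x := hc
        rw [es] at e
        calc v⁻¹ * x * v * CfsgLib.M24Cert.pL CfsgLib.M24Cert.elT.L
            = v⁻¹ * (x * (v * CfsgLib.M24Cert.pL CfsgLib.M24Cert.elT.L * v⁻¹)) * v := by group
          _ = _ := by rw [e]; group⟩
    set z := w⁻¹ * (v⁻¹ * x * v) * w with hz
    have hzK : z ∈ CfsgLib.M24Cert.centT ⊓ MulAction.stabilizer (Equiv.Perm Cfsg.GolayPt) (CfsgLib.Golay.pt 0) := by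
      refine Subgroup.mem_inf.2 ⟨mul_mem (mul_mem (inv_mem hw) hx') hw, ?_⟩
      show w⁻¹ (v⁻¹ (x (v (w (CfsgLib.Golay.pt 0))))) = CfsgLib.Golay.pt 0
      have hp' : x (v (v⁻¹ p)) = p := by rw [Equiv.Perm.coe_inv, Equiv.apply_symm_apply, hp]
      rw [ew, ei, hp', ← ei, ← ew, Equiv.Perm.coe_inv, Equiv.symm_apply_apply]
    have hzo : orderOf z = 3 := by
      have e : z = MulAut.conj (v * w)⁻¹ x := by rw [hz, MulAut.conj_apply]; group
      rw [e, MulEquiv.orderOf_eq, h₃]
    have hdvd := (Subgroup.orderOf_dvd_natCard _ hzK)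
    have hcard := CfsgLib.M24Cert.card_inf_stabilizer_mul CfsgLib.M24Cert.centT (CfsgLib.Golay.pt 0)
    rw [CfsgLib.M24Cert.card_centT, Set.eq_univ_of_forall (s := MulAction.orbit ↥CfsgLib.M24Cert.centT (CfsgLib.Golay.pt 0))
      (fun q => by
        obtain ⟨j, hj, rfl⟩ := CfsgLib.M24Cert.exists_pt q
        obtain ⟨g, hg, e⟩ := CfsgLib.M24Cert.centT_transitive j hj
        exact ⟨⟨g, hg⟩, e⟩), Set.ncard_univ, Nat.card_eq_fintype_card (α := Cfsg.GolayPt),
      show Fintype.card Cfsg.GolayPt = 24 by decide] at hcard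
    have h320 : Nat.card ↥(CfsgLib.M24Cert.centT ⊓ MulAction.stabilizer (Equiv.Perm Cfsg.GolayPt) (CfsgLib.Golay.pt 0)) = 320 := by
      omega
    rw [hzo, h320] at hdvd
    omega
  · exact Or.inr ⟨cx, cs⟩
  · exact Or.inl ⟨cx, cs⟩
  · exfalso
    have e : x * s = s * x := hc
    have hiff : ∀ p, s (x p) = x p ↔ s p = p := fun p => by
      rw [show s (x p) = x (s p) by rw [← Equiv.Perm.mul_apply, ← e]; rfl]
      exact x.injective.eq_iff
    let σ : Equiv.Perm {p // s p = p} := x.subtypePerm (p := fun q => s q = q) hiff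
    have hσ : σ ^ 3 ^ 1 = 1 := by
      have : x ^ 3 = 1 := by rw [← h₃]; exact pow_orderOf_eq_one x
      refine Equiv.ext fun ⟨p, hp⟩ => Subtype.ext ?_
      show (((x.subtypePerm (p := fun q => s q = q) hiff) ^ 3 ^ 1) ⟨p, hp⟩).val = p
      rw [Equiv.Perm.subtypePerm_pow]
      show (x ^ 3 ^ 1) p = p
      rw [pow_one, this]; rfl
    haveI : Fact (Nat.Prime 3) := ⟨Nat.prime_three⟩
    have hmod := Equiv.Perm.card_compl_support_modEq hσ
    have hempty : σ.supportᶜ = ∅ := by
      ext ⟨p, hp⟩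
      simp only [Finset.mem_compl, Equiv.Perm.mem_support, not_not, Finset.notMem_empty, iff_false]
      intro h
      exact CfsgLib.M24Cert.fixed_card_zero_iff.1 cx p (congrArg Subtype.val h)
    rw [hempty, Fintype.card_subtype, cs] at hmod
    simp [Nat.ModEq] at hmod

end Cfsg.Agent.S5608
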