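import Cfsg.Statements.S5609
import Cfsg.Agent.Lib.M24Cert.Pairs

set_option autoImplicit false
open scoped Pointwise
open Cfsg

namespace Cfsg.Agent.S5609

/-- In the graph on the 759 octads of the length-24 code in which two octads are adjacent when they are disjoint, the graph is connected (of diameter 3) and two distinct octads are at distance 1, 2 or 3 exactly when they meet in 0, 4 or 2 points respectively. -/
theorem result (o o' : Finset Cfsg.GolayPt) (ho : o ∈ Cfsg.octads) (ho' : o' ∈ Cfsg.octads) (hne : o ≠ o') : (Cfsg.blockGraph Cfsg.octads).Connected ∧ ((Cfsg.blockGraph Cfsg.octads).dist ⟨o, ho⟩ ⟨o', ho'⟩ = 1 ↔ (o ∩ o').card = 0) ∧ ((Cfsg.blockGraph Cfsg.octads).dist ⟨o, ho⟩ ⟨o', ho'⟩ = 2 ↔ (o ∩ o').card = 4) ∧ ((Cfsg.blockGraph Cfsg.octads).dist ⟨o, ho⟩ ⟨o', ho'⟩ = 3 ↔ (o ∩ o').card = 2) := by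
  have hadj : ∀ x y : Cfsg.octads, (Cfsg.blockGraph Cfsg.octads).Adj x y ↔ ((x : Finset Cfsg.GolayPt) ∩ y).card = 0 := by
    intro x y
    rw [Cfsg.blockGraph, SimpleGraph.fromRel_adj, Finset.card_eq_zero, ← Finset.disjoint_iff_inter_eq_empty]
    refine ⟨fun h => h.2.elim id (fun h => h.symm), fun h => ⟨fun e => ?_, Or.inl h⟩⟩
    subst e
    have h8 := x.2.2
    rw [disjoint_self] at h
    rw [h] at h8
    simp at h8
  have hmem : ∀ n, CfsgLib.M24Cert.isOctB n = true → CfsgLib.Golay.toSet n ∈ Cfsg.octads := fun n h =>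
    CfsgLib.M24Cert.isOctB_spec h
  have hdisj : ∀ (g : Equiv.Perm Cfsg.GolayPt) (a b : ℕ), CfsgLib.M24Cert.bc (a &&& b) = 0 →
      ((g • CfsgLib.Golay.toSet a) ∩ (g • CfsgLib.Golay.toSet b)).card = 0 := fun g a b h => by
    rw [← Finset.smul_finset_inter, Finset.card_smul_finset, ← CfsgLib.Golay.toSet_and, CfsgLib.M24Cert.card_toSet_bc, h]
  have paths : ∀ (x y : Cfsg.octads), x ≠ y → (((x : Finset Cfsg.GolayPt) ∩ y).card = 0 ∧ (Cfsg.blockGraph Cfsg.octads).dist x y = 1) ∨
      (((x : Finset Cfsg.GolayPt) ∩ y).card = 4 ∧ (Cfsg.blockGraph Cfsg.octads).dist x y = 2) ∨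
      (((x : Finset Cfsg.GolayPt) ∩ y).card = 2 ∧ (Cfsg.blockGraph Cfsg.octads).dist x y = 3) := by
    rintro ⟨x, hx⟩ ⟨y, hy⟩ hxy
    obtain ⟨hcases, ⟨g, hg, hgx, hgy⟩, -⟩ := CfsgLib.M24Cert.octad_pair hx hy
    have node : ∀ n, CfsgLib.M24Cert.isOctB n = true → g • CfsgLib.Golay.toSet n ∈ Cfsg.octads := fun n h =>
      CfsgLib.Golay.octads_smul hg (hmem n h)
    rcases hcases with h | h | h | h
    · exact Or.inl ⟨h, SimpleGraph.dist_eq_one_iff_adj.2 ((hadj _ _).2 h)⟩
    · right; right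
      refine ⟨h, ?_⟩
      rw [h] at hgy
      have e1 : (Cfsg.blockGraph Cfsg.octads).Adj ⟨x, hx⟩ ⟨_, node 1009728 (by decide +kernel)⟩ :=
        (hadj _ _).2 (by show (x ∩ _).card = 0; rw [← hgx]; exact hdisj g _ _ (by decide +kernel))
      have e2 : (Cfsg.blockGraph Cfsg.octads).Adj ⟨_, node 1009728 (by decide +kernel)⟩ ⟨_, node 5275709 (by decide +kernel)⟩ :=
        (hadj _ _).2 (hdisj g _ _ (by decide +kernel))
      have e3 : (Cfsg.blockGraph Cfsg.octads).Adj ⟨_, node 5275709 (by decide +kernel)⟩ ⟨y, hy⟩ :=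
        (hadj _ _).2 (by show (_ ∩ y).card = 0; rw [← hgy]; exact hdisj g _ _ (by decide +kernel))
      let w : (Cfsg.blockGraph Cfsg.octads).Walk ⟨x, hx⟩ ⟨y, hy⟩ := .cons e1 (.cons e2 (.cons e3 .nil))
      have hle : (Cfsg.blockGraph Cfsg.octads).dist ⟨x, hx⟩ ⟨y, hy⟩ ≤ 3 := SimpleGraph.dist_le w
      obtain ⟨v, hv⟩ := w.reachable.exists_walk_length_eq_dist
      rcases hl : v.length with _ | _ | _ | n
      · exact absurd (SimpleGraph.Walk.eq_of_length_eq_zero hl) hxy
      · have := (hadj _ _).1 (SimpleGraph.Walk.adj_of_length_eq_one hl)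
        simp only [h] at this
        omega
      · exfalso
        have b1 := v.adj_getVert_succ (show 0 < v.length by omega)
        have b2 := v.adj_getVert_succ (show 1 < v.length by omega)
        rw [SimpleGraph.Walk.getVert_zero] at b1
        rw [show (1 : ℕ) + 1 = v.length by omega, SimpleGraph.Walk.getVert_length] at b2
        generalize v.getVert 1 = z at b1 b2
        obtain ⟨z, hz⟩ := z
        have c1 := (hadj _ _).1 b1
        have c2 := (hadj _ _).1 b2
        simp only at c1 c2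
        rw [← hgx] at c1
        rw [← hgy] at c2
        have hz' := CfsgLib.Golay.octads_smul (inv_mem hg) hz
        obtain ⟨n, hn, h8, hne⟩ := CfsgLib.Golay.mem_wordsOfWeight.1 hz'
        have hz2 : z = g • CfsgLib.Golay.toSet n := by rw [hne, smul_inv_smul]
        rw [hz2, ← Finset.smul_finset_inter, Finset.card_smul_finset, ← CfsgLib.Golay.toSet_and,
          CfsgLib.M24Cert.card_toSet_bc] at c1 c2
        have key := CfsgLib.Golay.forall_golayList (P := fun n => !(Nat.beq (CfsgLib.M24Cert.bc n) 8 &&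
          Nat.beq (CfsgLib.M24Cert.bc (CfsgLib.Golay.baseOctad &&& n)) 0 &&
          Nat.beq (CfsgLib.M24Cert.bc (n &&& CfsgLib.M24Cert.secondOctad 2)) 0)) (by decide +kernel) n hn
        rw [CfsgLib.M24Cert.bitCount_eq_bc] at h8
        rw [h8, c1, c2] at key
        exact Bool.noConfusion key
      · omega
    · right; left
      refine ⟨h, ?_⟩
      rw [h] at hgy
      have e1 : (Cfsg.blockGraph Cfsg.octads).Adj ⟨x, hx⟩ ⟨_, node 8077824 (by decide +kernel)⟩ :=
        (hadj _ _).2 (by show (x ∩ _).card = 0; rw [← hgx]; exact hdisj g _ _ (by decide +kernel))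
      have e2 : (Cfsg.blockGraph Cfsg.octads).Adj ⟨_, node 8077824 (by decide +kernel)⟩ ⟨y, hy⟩ :=
        (hadj _ _).2 (by show (_ ∩ y).card = 0; rw [← hgy]; exact hdisj g _ _ (by decide +kernel))
      let w : (Cfsg.blockGraph Cfsg.octads).Walk ⟨x, hx⟩ ⟨y, hy⟩ := .cons e1 (.cons e2 .nil)
      have hle : (Cfsg.blockGraph Cfsg.octads).dist ⟨x, hx⟩ ⟨y, hy⟩ ≤ 2 := SimpleGraph.dist_le w
      have h1 : (Cfsg.blockGraph Cfsg.octads).dist ⟨x, hx⟩ ⟨y, hy⟩ ≠ 1 := fun e => by
        have := (hadj _ _).1 (SimpleGraph.dist_eq_one_iff_adj.1 e)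
        simp only [h] at this
        omega
      have h0 := w.reachable.pos_dist_of_ne hxy
      omega
    · exfalso
      have h8 : (x ∩ y).card = x.card := by rw [h, hx.2]
      have h8' : (x ∩ y).card = y.card := by rw [h, hy.2]
      have e1 := Finset.eq_of_subset_of_card_le Finset.inter_subset_left h8.ge
      have e2 := Finset.eq_of_subset_of_card_le Finset.inter_subset_right h8'.ge
      exact hxy (Subtype.ext (e1.symm.trans e2))
  refine ⟨?_, ?_⟩
  · haveI : Nonempty Cfsg.octads := ⟨⟨o, ho⟩⟩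
    refine SimpleGraph.Connected.mk fun x y => ?_
    by_cases hxy : x = y
    · subst hxy; exact .refl x
    · rcases paths x y hxy with ⟨-, h⟩ | ⟨-, h⟩ | ⟨-, h⟩ <;> exact SimpleGraph.Reachable.of_dist_ne_zero (by omega)
  · have := paths ⟨o, ho⟩ ⟨o', ho'⟩ (fun e => hne (congrArg Subtype.val e))
    simp only at this
    omega

end Cfsg.Agent.S5609
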