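import Cfsg.Statements.S5611
import Cfsg.Agent.Lib.M24Cert.Orbits

set_option autoImplicit false
open scoped Pointwise
open Cfsg

namespace Cfsg.Agent.S5611

/-- The stabiliser of a sextet in the group of the length-24 code has exactly three orbits on the 759 octads, of sizes 15, 360 and 384, and exactly four orbits on the 3795 trios, of sizes 15, 180, 720 and 2880. -/
theorem result (S : Finset (Finset Cfsg.GolayPt)) (hS : S ∈ Cfsg.sextets) : (∃ X₁ ∈ Cfsg.octads, ∃ X₂ ∈ Cfsg.octads, ∃ X₃ ∈ Cfsg.octads, (MulAction.orbit ↥(MulAction.stabilizer Cfsg.M24 S) X₁).ncard = 15 ∧ (MulAction.orbit ↥(MulAction.stabilizer Cfsg.M24 S) X₂).ncard = 360 ∧ (MulAction.orbit ↥(MulAction.stabilizer Cfsg.M24 S) X₃).ncard = 384 ∧ Cfsg.octads = MulAction.orbit ↥(MulAction.stabilizer Cfsg.M24 S) X₁ ∪ MulAction.orbit ↥(MulAction.stabilizer Cfsg.M24 S) X₂ ∪ MulAction.orbit ↥(MulAction.stabilizer Cfsg.M24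 S) X₃) ∧ (∃ Y₁ ∈ Cfsg.trios, ∃ Y₂ ∈ Cfsg.trios, ∃ Y₃ ∈ Cfsg.trios, ∃ Y₄ ∈ Cfsg.trios, (MulAction.orbit ↥(MulAction.stabilizer Cfsg.M24 S) Y₁).ncard = 15 ∧ (MulAction.orbit ↥(MulAction.stabilizer Cfsg.M24 S) Y₂).ncard = 180 ∧ (MulAction.orbit ↥(MulAction.stabilizer Cfsg.M24 S) Y₃).ncard = 720 ∧ (MulAction.orbit ↥(MulAction.stabilizer Cfsg.M24 S) Y₄).ncard = 2880 ∧ Cfsg.trios = MulAction.orbit ↥(MulAction.stabilizer Cfsg.M24 S) Y₁ ∪ MulAction.orbit ↥(MulAction.stabilizer Cfsg.M24 S) Y₂ ∪ MulAction.orbit ↥(MulAction.stabilizer Cfsg.M24 S) Y₃ ∪ MulAction.orbit ↥(MulAction.stabilizer Cfsg.M24 S) Y₄) := by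
  have hA : ∃ g ∈ Cfsg.M24, g • CfsgLib.M24Cert.oset CfsgLib.M24Cert.baseSextet = S :=
    CfsgLib.M24Cert.sextets_transitive hS
  have hB : CfsgLib.M24Cert.Small CfsgLib.M24Cert.baseSextet := CfsgLib.M24Cert.Tbl.small _ _
  refine ⟨CfsgLib.M24Cert.octads_three (CfsgLib.M24Cert.orbit_three CfsgLib.M24Cert.octTbl_sorted
    CfsgLib.M24Cert.octTbl_closed hB (by decide +kernel) CfsgLib.M24Cert.stabSex_ok CfsgLib.M24Cert.sex_on_oct
    (by decide +kernel) (by decide +kernel) hA), ?_⟩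
  rw [CfsgLib.M24Cert.trios_eq]
  simp only [CfsgLib.M24Cert.orbit_eq]
  exact CfsgLib.M24Cert.orbit_four CfsgLib.M24Cert.triTbl_sorted CfsgLib.M24Cert.triTbl_closed hB (by decide +kernel)
    CfsgLib.M24Cert.stabSex_ok CfsgLib.M24Cert.sex_on_tri (by decide +kernel) (by decide +kernel) hA

end Cfsg.Agent.S5611
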