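import Cfsg.Statements.S5612
import Cfsg.Agent.Lib.M24Cert.Orbits

set_option autoImplicit false
open scoped Pointwise
open Cfsg

namespace Cfsg.Agent.S5612

/-- The stabiliser of a trio in the group of the length-24 code has exactly three orbits on the 759 octads, of sizes 3, 84 and 672, and exactly four orbits on the 1771 sextets, of sizes 7, 84, 336 and 1344. -/
theorem result (T : Finset (Finset Cfsg.GolayPt)) (hT : T ∈ Cfsg.trios) : (∃ X₁ ∈ Cfsg.octads, ∃ X₂ ∈ Cfsg.octads, ∃ X₃ ∈ Cfsg.octads, (MulAction.orbit ↥(MulAction.stabilizer Cfsg.M24 T) X₁).ncard = 3 ∧ (MulAction.orbit ↥(MulAction.stabilizer Cfsg.M24 T) X₂).ncard = 84 ∧ (MulAction.orbit ↥(MulAction.stabilizer Cfsg.M24 T) X₃).ncard = 672 ∧ Cfsg.octads = MulAction.orbit ↥(MulAction.stabilizer Cfsg.M24 T) X₁ ∪ MulAction.orbit ↥(MulAction.stabilizer Cfsg.M24 T) X₂ ∪ MulAction.orbit ↥(MulAction.stabilizer Cfsg.M24 T)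 X₃) ∧ (∃ Y₁ ∈ Cfsg.sextets, ∃ Y₂ ∈ Cfsg.sextets, ∃ Y₃ ∈ Cfsg.sextets, ∃ Y₄ ∈ Cfsg.sextets, (MulAction.orbit ↥(MulAction.stabilizer Cfsg.M24 T) Y₁).ncard = 7 ∧ (MulAction.orbit ↥(MulAction.stabilizer Cfsg.M24 T) Y₂).ncard = 84 ∧ (MulAction.orbit ↥(MulAction.stabilizer Cfsg.M24 T) Y₃).ncard = 336 ∧ (MulAction.orbit ↥(MulAction.stabilizer Cfsg.M24 T) Y₄).ncard = 1344 ∧ Cfsg.sextets = MulAction.orbit ↥(MulAction.stabilizer Cfsg.M24 T) Y₁ ∪ MulAction.orbit ↥(MulAction.stabilizer Cfsg.M24 T) Y₂ ∪ MulAction.orbit ↥(MulAction.stabilizer Cfsg.M24 T) Y₃ ∪ MulAction.orbit ↥(MulAction.stabilizer Cfsg.M24 T) Y₄) := by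
  have hA : ∃ g ∈ Cfsg.M24, g • CfsgLib.M24Cert.oset CfsgLib.M24Cert.baseTrio = T :=
    CfsgLib.M24Cert.trios_transitive hT
  have hB : CfsgLib.M24Cert.Small CfsgLib.M24Cert.baseTrio := CfsgLib.M24Cert.Tbl.small _ _
  refine ⟨CfsgLib.M24Cert.octads_three (CfsgLib.M24Cert.orbit_three CfsgLib.M24Cert.octTbl_sorted
    CfsgLib.M24Cert.octTbl_closed hB (by decide +kernel) CfsgLib.M24Cert.stabTri_ok CfsgLib.M24Cert.tri_on_oct
    (by decide +kernel) (by decide +kernel) hA), ?_⟩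
  rw [CfsgLib.M24Cert.sextets_eq]
  simp only [CfsgLib.M24Cert.orbit_eq]
  exact CfsgLib.M24Cert.orbit_four CfsgLib.M24Cert.sexTbl_sorted CfsgLib.M24Cert.sexTbl_closed hB (by decide +kernel)
    CfsgLib.M24Cert.stabTri_ok CfsgLib.M24Cert.tri_on_sex (by decide +kernel) (by decide +kernel) hA

end Cfsg.Agent.S5612
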