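import Cfsg.Statements.S5614
import Cfsg.Agent.Lib.M24Cert.SixPoints

set_option autoImplicit false
open scoped Pointwise
open Cfsg

namespace Cfsg.Agent.S5614

/-- In the group of the length-24 code, the joint stabiliser of two octads meeting in exactly two points is isomorphic to the symmetric group of degree 6. -/
theorem result (o o' : Finset Cfsg.GolayPt) (ho : o ∈ Cfsg.octads) (ho' : o' ∈ Cfsg.octads) (h₂ : (o ∩ o').card = 2) : Nonempty (↥(MulAction.stabilizer Cfsg.M24 o ⊓ MulAction.stabilizer Cfsg.M24 o') ≃* Equiv.Perm (Fin 6)) := by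
  obtain ⟨-, ⟨g, hg, hgo, hgo'⟩, -⟩ := CfsgLib.M24Cert.octad_pair ho ho'
  rw [h₂] at hgo'
  change g • CfsgLib.Golay.toSet 31554 = o' at hgo'
  have key : CfsgLib.M24Cert.fixFiveB CfsgLib.M24Cert.pairMap CfsgLib.M24Cert.pairMapInv [0, 2, 3, 4, 7, 10] [5279, 31554] = true := by
    decide +kernel
  refine CfsgLib.M24Cert.equiv_perm_six _ (o \ o') ?_ ?_ ?_ ((CfsgLib.M24Cert.card_stab_pair ho ho').2.2 h₂)
  · rw [Finset.card_sdiff, Finset.inter_comm o' o, h₂, ho.2]
  · rintro ⟨x, hx⟩ ⟨h1, h2⟩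
    have h1' : x • o = o := h1
    have h2' : x • o' = o' := h2
    show x • (o \ o') = o \ o'
    rw [Finset.smul_finset_sdiff, h1', h2']
  · rintro ⟨x, hx⟩ ⟨h1, h2⟩ hfix
    have h1' : x • o = o := h1
    have h2' : x • o' = o' := h2
    have hpts : ∀ p ∈ [0, 2, 3, 4, 7, 10], CfsgLib.Golay.pt p ∈ CfsgLib.Golay.toSet 5279 ∧
        CfsgLib.Golay.pt p ∉ CfsgLib.Golay.toSet 31554 := by decide +kernel
    have e := CfsgLib.M24Cert.eq_one_of_fixFive key (by unfold CfsgLib.M24Cert.Small; decide +kernel) (mul_mem (mul_mem (inv_mem hg) hx) hg)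
      (fun p hp => ?_) (fun m hm => ?_)
    · exact Subtype.ext (conj_eq_one_iff.1 (show g⁻¹ * x * (g⁻¹)⁻¹ = 1 by rw [inv_inv]; exact e))
    · show g⁻¹ (x (g (CfsgLib.Golay.pt p))) = CfsgLib.Golay.pt p
      rw [show x (g (CfsgLib.Golay.pt p)) = g (CfsgLib.Golay.pt p) from hfix _ (by
        rw [← hgo, ← hgo', ← Finset.smul_finset_sdiff, ← Equiv.Perm.smul_def,
          Finset.smul_mem_smul_finset_iff, Finset.mem_sdiff]
        exact hpts p hp)]
      simp
    · rcases List.mem_cons.1 hm with rfl | hm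
      · rw [show CfsgLib.Golay.toSet 5279 = g⁻¹ • o by rw [← hgo]; simp [CfsgLib.Golay.baseOctad],
          mul_smul, mul_smul, smul_inv_smul, h1']
      · rw [List.mem_singleton] at hm
        subst hm
        rw [show CfsgLib.Golay.toSet 31554 = g⁻¹ • o' by rw [← hgo']; simp,
          mul_smul, mul_smul, smul_inv_smul, h2']

end Cfsg.Agent.S5614
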