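import Cfsg.Statements.S5615
import Cfsg.Agent.Lib.M24Cert.TrioThrough

set_option autoImplicit false
open scoped Pointwise
open Cfsg

namespace Cfsg.Agent.S5615

/-- An octad of the length-24 code lies in exactly 15 trios; the stabiliser of the octad in the code's group acts doubly transitively on these 15 trios, and the kernel of this action is the pointwise stabiliser of the octad. -/
theorem result (o : Finset Cfsg.GolayPt) (ho : o ∈ Cfsg.octads) : {T : Finset (Finset Cfsg.GolayPt) | T ∈ Cfsg.trios ∧ o ∈ T}.ncard = 15 ∧ (∀ T₁ T₂ T₁' T₂' : Finset (Finset Cfsg.GolayPt), T₁ ∈ Cfsg.trios → T₂ ∈ Cfsg.trios → T₁' ∈ Cfsg.trios → T₂' ∈ Cfsg.trios → o ∈ T₁ → o ∈ T₂ → o ∈ T₁' → o ∈ T₂' → T₁ ≠ T₂ → T₁' ≠ T₂' → ∃ g ∈ Cfsg.M24, g • o = o ∧ g • T₁ = T₁' ∧ g • T₂ = T₂') ∧ ∀ g ∈ Cfsg.M24, g • o = o → ((∀ T ∈ Cfsg.trios, o ∈ T → g • T = T) ↔ ∀ p ∈ o, g p = p) := by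
  obtain ⟨g, hg, rfl⟩ := CfsgLib.Golay.octads_transitive ho
  have hgi : g⁻¹ ∈ Cfsg.M24 := inv_mem hg
  have down : ∀ T, (T ∈ Cfsg.trios ∧ g • CfsgLib.Golay.toSet CfsgLib.Golay.baseOctad ∈ T) →
      (g⁻¹ • T ∈ Cfsg.trios ∧ CfsgLib.Golay.toSet CfsgLib.Golay.baseOctad ∈ g⁻¹ • T) := fun T hT =>
    ⟨CfsgLib.M24Cert.trios_smul hgi hT.1,
      Finset.mem_smul_finset.2 ⟨_, hT.2, inv_smul_smul g _⟩⟩
  have up : ∀ T, (T ∈ Cfsg.trios ∧ CfsgLib.Golay.toSet CfsgLib.Golay.baseOctad ∈ T) →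
      (g • T ∈ Cfsg.trios ∧ g • CfsgLib.Golay.toSet CfsgLib.Golay.baseOctad ∈ g • T) := fun T hT =>
    ⟨CfsgLib.M24Cert.trios_smul hg hT.1, Finset.smul_mem_smul_finset hT.2⟩
  refine ⟨?_, ?_, ?_⟩
  · have e : {T | T ∈ Cfsg.trios ∧ g • CfsgLib.Golay.toSet CfsgLib.Golay.baseOctad ∈ T} =
        (g • ·) '' {T | T ∈ Cfsg.trios ∧ CfsgLib.Golay.toSet CfsgLib.Golay.baseOctad ∈ T} := by
      ext T
      exact ⟨fun h => ⟨g⁻¹ • T, down T h, smul_inv_smul g T⟩, by rintro ⟨U, hU, rfl⟩; exact up U hU⟩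
    rw [e, Set.ncard_image_of_injective _ (MulAction.injective g), CfsgLib.M24Cert.trios_eq,
      CfsgLib.M24Cert.Tbl.ncard_filter CfsgLib.M24Cert.triTbl_sorted _
        (fun i => CfsgLib.M24Cert.memB CfsgLib.Golay.baseOctad (CfsgLib.M24Cert.triTbl.obj i))
        (fun i _ => ?_)]
    · exact CfsgLib.M24Cert.trio_fix_check.2.1
    · rw [CfsgLib.M24Cert.memB_iff]
      exact CfsgLib.M24Cert.toSet_mem_oset (CfsgLib.M24Cert.Tbl.small _ _) (by decide)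
  · intro T₁ T₂ T₁' T₂' h1 h2 h1' h2' o1 o2 o1' o2' hne hne'
    obtain ⟨a, ha, hao, ha1, ha2⟩ := CfsgLib.M24Cert.trio_two_transitive (down T₁ ⟨h1, o1⟩) (down T₂ ⟨h2, o2⟩)
      (fun e => hne (MulAction.injective g⁻¹ e))
    obtain ⟨b, hb, hbo, hb1, hb2⟩ := CfsgLib.M24Cert.trio_two_transitive (down T₁' ⟨h1', o1'⟩) (down T₂' ⟨h2', o2'⟩)
      (fun e => hne' (MulAction.injective g⁻¹ e))
    refine ⟨g * b * a⁻¹ * g⁻¹, mul_mem (mul_mem (mul_mem hg hb) (inv_mem ha)) hgi, ?_, ?_, ?_⟩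
    · rw [mul_smul, mul_smul, mul_smul, inv_smul_smul, inv_smul_eq_iff.2 hao.symm, hbo]
    · rw [mul_smul, mul_smul, mul_smul, ← ha1, inv_smul_smul, hb1, smul_inv_smul]
    · rw [mul_smul, mul_smul, mul_smul, ← ha2, inv_smul_smul, hb2, smul_inv_smul]
  · intro x hx hxo
    have hy : g⁻¹ * x * g ∈ Cfsg.M24 := mul_mem (mul_mem hgi hx) hg
    have hyo : (g⁻¹ * x * g) • CfsgLib.Golay.toSet CfsgLib.Golay.baseOctad =
        CfsgLib.Golay.toSet CfsgLib.Golay.baseOctad := by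
      rw [mul_smul, mul_smul, hxo, inv_smul_smul]
    have key := CfsgLib.M24Cert.trio_through_fix hy hyo
    constructor
    · intro h p hp
      obtain ⟨q, hq, rfl⟩ := Finset.mem_smul_finset.1 hp
      have h' := key.1 (fun j hj => ?_) q hq
      · exact g⁻¹.injective (by rw [Equiv.Perm.smul_def]; exact h'.trans (by simp))
      · have hT := up _ (CfsgLib.M24Cert.mem_trioThrough.2 ⟨j, hj, rfl⟩)
        rw [mul_smul, mul_smul, h _ hT.1 hT.2, inv_smul_smul]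
    · intro h T hT hoT
      obtain ⟨j, hj, hje⟩ := CfsgLib.M24Cert.mem_trioThrough.1 (down T ⟨hT, hoT⟩)
      have h' := key.2 (fun q hq => ?_) j hj
      · rw [← hje, mul_smul, mul_smul, smul_inv_smul] at h'
        exact MulAction.injective g⁻¹ h'
      · show g⁻¹ (x (g q)) = q
        rw [show x (g q) = g q from h _ (Finset.smul_mem_smul_finset hq)]
        simp

end Cfsg.Agent.S5615
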