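import Cfsg.Statements.S5617
import Cfsg.Agent.Lib.M24Cert.Orbits
import Cfsg.Agent.Lib.Golay.Octad

set_option autoImplicit false
open scoped Pointwise
open Cfsg

namespace Cfsg.Agent.S5617

/-- The setwise stabiliser, in the group of the length-24 code, of a complementary pair of dodecads has exactly three orbits on the 1771 sextets, of sizes 396, 495 and 880. -/
theorem result (d : Finset Cfsg.GolayPt) (hd : d ∈ Cfsg.dodecads) : ∃ X₁ ∈ Cfsg.sextets, ∃ X₂ ∈ Cfsg.sextets, ∃ X₃ ∈ Cfsg.sextets, (MulAction.orbit ↥(MulAction.stabilizer Cfsg.M24 ({d, Finset.univ \ d} : Finset (Finset Cfsg.GolayPt))) X₁).ncard = 396 ∧ (MulAction.orbit ↥(MulAction.stabilizer Cfsg.M24 ({d, Finset.univ \ d} : Finset (Finset Cfsg.GolayPt))) X₂).ncard = 495 ∧ (MulAction.orbit ↥(MulAction.stabilizer Cfsg.M24 ({d, Finset.univ \ d} : Finset (Finset Cfsg.GolayPt))) X₃).ncard = 880 ∧ Cfsg.sextets = MulAction.orbit ↥(MulAction.stabilizer Cfsg.M24 ({d, Finset.univ \ d} : Finset (Finset Cfsg.GolayPt)))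 X₁ ∪ MulAction.orbit ↥(MulAction.stabilizer Cfsg.M24 ({d, Finset.univ \ d} : Finset (Finset Cfsg.GolayPt))) X₂ ∪ MulAction.orbit ↥(MulAction.stabilizer Cfsg.M24 ({d, Finset.univ \ d} : Finset (Finset Cfsg.GolayPt))) X₃ := by
  have hB : CfsgLib.M24Cert.Small [340831, 16436384] := by unfold CfsgLib.M24Cert.Small; decide +kernel
  have hok : CfsgLib.M24Cert.gensOk [340831, 16436384] CfsgLib.M24Cert.stabDPGens = true := by decide +kernel
  have hf : CfsgLib.M24Cert.sexTbl.forestOk CfsgLib.M24Cert.stabDPGens CfsgLib.M24Cert.stabDPOnSex (fun _ => true)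
      [10, 12, 0] = true := by decide +kernel
  have hA : ∃ g ∈ Cfsg.M24, g • CfsgLib.M24Cert.oset [340831, 16436384] =
      ({d, Finset.univ \ d} : Finset (Finset Cfsg.GolayPt)) := by
    obtain ⟨g, hg, rfl⟩ := CfsgLib.Golay.dodecads_transitive hd
    refine ⟨g, hg, ?_⟩
    rw [show CfsgLib.M24Cert.oset [340831, 16436384] = {CfsgLib.Golay.toSet CfsgLib.Golay.baseDodecad,
      Finset.univ \ CfsgLib.Golay.toSet CfsgLib.Golay.baseDodecad} by
        have e : CfsgLib.Golay.toSet 16436384 = Finset.univ \ CfsgLib.Golay.toSet CfsgLib.Golay.baseDodecad := by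
          decide +kernel
        simp [CfsgLib.M24Cert.oset, e, CfsgLib.Golay.baseDodecad],
      Finset.smul_finset_insert, Finset.smul_finset_singleton, Finset.smul_finset_sdiff]
    rw [Finset.eq_univ_of_card (g • (Finset.univ : Finset Cfsg.GolayPt)) (by rw [Finset.card_smul_finset, Finset.card_univ])]
  rw [CfsgLib.M24Cert.sextets_eq]
  simp only [CfsgLib.M24Cert.orbit_eq]
  exact CfsgLib.M24Cert.orbit_three CfsgLib.M24Cert.sexTbl_sorted CfsgLib.M24Cert.sexTbl_closed hB (by decide +kernel)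
    hok hf (by decide +kernel) (by decide +kernel) hA

end Cfsg.Agent.S5617
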