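import Cfsg.Statements.S5618
import Cfsg.Agent.Lib.M24Cert.SixPoints

set_option autoImplicit false
open scoped Pointwise
open Cfsg

namespace Cfsg.Agent.S5618

/-- For a dodecad d of the length-24 code and a hexad C on it (a 6-point intersection of d with an octad): the joint stabiliser of d and C in the code's group is isomorphic to the symmetric group of degree 6, and it acts faithfully both on the six points of C and on the six points of d outside C. -/
theorem result (d : Finset Cfsg.GolayPt) (hd : d ∈ Cfsg.dodecads) (C : Finset Cfsg.GolayPt) (hC : C ∈ Cfsg.hexadsOn d) : Nonempty (↥(MulAction.stabilizer Cfsg.M24 d ⊓ MulAction.stabilizer Cfsg.M24 C) ≃* Equiv.Perm (Fin 6)) ∧ (∀ g ∈ MulAction.stabilizer Cfsg.M24 d ⊓ MulAction.stabilizer Cfsg.M24 C, (∀ p ∈ C, ((g : ↥Cfsg.M24) : Equiv.Perm Cfsg.GolayPt) p = p) → g = 1) ∧ ∀ g ∈ MulAction.stabilizer Cfsg.M24 d ⊓ MulAction.stabilizer Cfsg.M24 C, (∀ p ∈ d \ C, ((g : ↥Cfsg.M24)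 : Equiv.Perm Cfsg.GolayPt) p = p) → g = 1 := by
  obtain ⟨g, hg, hgd, hgC⟩ := CfsgLib.M24Cert.hexad_base hd hC
  have hC' : C = g • CfsgLib.Golay.toSet 4127 := hgC.symm
  have hd' : d = g • CfsgLib.Golay.toSet 340831 := hgd.symm
  have hCd : C ⊆ d := by
    obtain ⟨-, o, -, rfl⟩ := hC
    exact Finset.inter_subset_right
  have k1 : CfsgLib.M24Cert.fixFiveB CfsgLib.M24Cert.hexMap CfsgLib.M24Cert.hexMapInv [0, 1, 2, 3, 4, 12] [340831] = true := by
    decide +kernel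
  have k2 : CfsgLib.M24Cert.fixFiveB CfsgLib.M24Cert.hexCoMap CfsgLib.M24Cert.hexCoMapInv [6, 8, 9, 13, 16, 18] [340831] = true := by
    decide +kernel
  have gen : ∀ (A Ainv pts : List ℕ), CfsgLib.M24Cert.fixFiveB A Ainv pts [340831] = true →
      ∀ s : Finset Cfsg.GolayPt, (∀ p ∈ pts, g (CfsgLib.Golay.pt p) ∈ s) →
      ∀ x ∈ MulAction.stabilizer Cfsg.M24 d, (∀ p ∈ s, ((x : ↥Cfsg.M24) : Equiv.Perm Cfsg.GolayPt) p = p) → x = 1 := by
    intro A Ainv pts key s hpts ⟨x, hx⟩ h1 hfix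
    have h1' : x • d = d := h1
    have e := CfsgLib.M24Cert.eq_one_of_fixFive key (by unfold CfsgLib.M24Cert.Small; decide +kernel) (mul_mem (mul_mem (inv_mem hg) hx) hg)
      (fun p hp => ?_) (fun m hm => ?_)
    · exact Subtype.ext (conj_eq_one_iff.1 (show g⁻¹ * x * (g⁻¹)⁻¹ = 1 by rw [inv_inv]; exact e))
    · show g⁻¹ (x (g (CfsgLib.Golay.pt p))) = CfsgLib.Golay.pt p
      rw [show x (g (CfsgLib.Golay.pt p)) = g (CfsgLib.Golay.pt p) from hfix _ (hpts p hp)]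
      simp
    · rw [List.mem_singleton] at hm
      subst hm
      rw [show CfsgLib.Golay.toSet 340831 = g⁻¹ • d by rw [hd']; simp, mul_smul, mul_smul, smul_inv_smul, h1']
  have hp1 : ∀ p ∈ [0, 1, 2, 3, 4, 12], CfsgLib.Golay.pt p ∈ CfsgLib.Golay.toSet 4127 := by decide +kernel
  have hp2 : ∀ p ∈ [6, 8, 9, 13, 16, 18],
      CfsgLib.Golay.pt p ∈ CfsgLib.Golay.toSet 340831 \ CfsgLib.Golay.toSet 4127 := by decide +kernel
  have f1 := gen _ _ _ k1 C fun p hp => by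
    rw [hC', ← Equiv.Perm.smul_def, Finset.smul_mem_smul_finset_iff]; exact hp1 p hp
  refine ⟨?_, fun x hx hf => f1 x hx.1 hf, fun x hx hf => gen _ _ _ k2 (d \ C) (fun p hp => ?_) x hx.1 hf⟩
  · refine CfsgLib.M24Cert.equiv_perm_six _ C hC.1 (fun x hx => hx.2) (fun x hx => f1 x hx.1)
      (CfsgLib.M24Cert.card_stab_hexad hd hC)
  · rw [hC', hd', ← Finset.smul_finset_sdiff, ← Equiv.Perm.smul_def, Finset.smul_mem_smul_finset_iff]
    exact hp2 p hp

end Cfsg.Agent.S5618
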