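import Cfsg.Statements.S5619
import Cfsg.Agent.Lib.M24Cert.Nine

set_option autoImplicit false
open scoped Pointwise
open Cfsg

namespace Cfsg.Agent.S5619

/-- In the group of the length-24 code, the subgroup fixing a dodecad setwise and three of its points individually (a group of order 72) has a normal Sylow 3-subgroup that is elementary abelian of order 9, and its Sylow 2-subgroups are quaternion of order 8. -/
theorem result (d : Finset Cfsg.GolayPt) (hd : d ∈ Cfsg.dodecads) (p q r : Cfsg.GolayPt) (hp : p ∈ d) (hq : q ∈ d) (hr : r ∈ d) (hpq : p ≠ q) (hpr : p ≠ r) (hqr : q ≠ r) : (∀ Q : Sylow 3 ↥(MulAction.stabilizer Cfsg.M24 d ⊓ MulAction.stabilizer Cfsg.M24 p ⊓ MulAction.stabilizer Cfsg.M24 q ⊓ MulAction.stabilizer Cfsg.M24 r), (Q : Subgroup ↥(MulAction.stabilizer Cfsg.M24 d ⊓ MulAction.stabilizer Cfsg.M24 p ⊓ MulAction.stabilizer Cfsg.M24 q ⊓ MulAction.stabilizer Cfsg.M24 r)).Normal ∧ Nat.card ↥Q = 9 ∧ ∀ x ∈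 (Q : Subgroup ↥(MulAction.stabilizer Cfsg.M24 d ⊓ MulAction.stabilizer Cfsg.M24 p ⊓ MulAction.stabilizer Cfsg.M24 q ⊓ MulAction.stabilizer Cfsg.M24 r)), x ^ 3 = 1) ∧ ∀ P : Sylow 2 ↥(MulAction.stabilizer Cfsg.M24 d ⊓ MulAction.stabilizer Cfsg.M24 p ⊓ MulAction.stabilizer Cfsg.M24 q ⊓ MulAction.stabilizer Cfsg.M24 r), Nonempty (↥P ≃* QuaternionGroup 2) := by
  obtain ⟨g, hg, hgd, hgp, hgq, hgr⟩ : ∃ g ∈ Cfsg.M24, g • CfsgLib.Golay.toSet CfsgLib.Golay.baseDodecad = d ∧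
      g (CfsgLib.Golay.pt 0) = p ∧ g (CfsgLib.Golay.pt 1) = q ∧ g (CfsgLib.Golay.pt 2) = r := by
    obtain ⟨g, hg, rfl⟩ := CfsgLib.Golay.dodecads_transitive hd
    obtain ⟨a, ha, rfl⟩ := Finset.mem_smul_finset.1 hp
    obtain ⟨b, hb, rfl⟩ := Finset.mem_smul_finset.1 hq
    obtain ⟨c, hc, rfl⟩ := Finset.mem_smul_finset.1 hr
    have hcard : 1 < (CfsgLib.Golay.toSet CfsgLib.Golay.baseDodecad \ {a, b, c}).card := by
      have h12 : (CfsgLib.Golay.toSet CfsgLib.Golay.baseDodecad).card = 12 := CfsgLib.Golay.baseDodecad_mem.2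
      have := Finset.le_card_sdiff ({a, b, c} : Finset Cfsg.GolayPt) (CfsgLib.Golay.toSet CfsgLib.Golay.baseDodecad)
      have := (Finset.card_le_three : ({a, b, c} : Finset Cfsg.GolayPt).card ≤ 3)
      omega
    obtain ⟨u, hu, v, hv, huv⟩ := Finset.one_lt_card.1 hcard
    simp only [Finset.mem_sdiff, Finset.mem_insert, Finset.mem_singleton, not_or] at hu hv
    have hnd : [a, b, c, u, v].Nodup := by
      simp only [List.nodup_cons, List.mem_cons, List.not_mem_nil, or_false, not_or, List.nodup_nil, and_true,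
        not_false_iff]
      exact ⟨⟨fun e => hpq (by rw [e]), fun e => hpr (by rw [e]), Ne.symm hu.2.1, Ne.symm hv.2.1⟩,
        ⟨fun e => hqr (by rw [e]), Ne.symm hu.2.2.1, Ne.symm hv.2.2.1⟩, ⟨Ne.symm hu.2.2.2, Ne.symm hv.2.2.2⟩, huv⟩
    obtain ⟨h, hh, -⟩ := CfsgLib.Golay.M12_sharp
      ⟨fun i : Fin 5 => CfsgLib.Golay.pt i.val, fun i j e => Fin.ext (CfsgLib.M24Cert.pt_inj (by omega) (by omega) e)⟩
      ⟨fun i : Fin 5 => [a, b, c, u, v].get ⟨i.val, i.isLt⟩,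
        fun i j e => Fin.ext (Fin.ext_iff.1 ((List.nodup_iff_injective_get.1 hnd) e))⟩
      (by
        show ∀ i : Fin 5, CfsgLib.Golay.pt i.val ∈ CfsgLib.Golay.toSet CfsgLib.Golay.baseDodecad
        decide +kernel)
      (fun i => by
        fin_cases i
        · exact ha
        · exact hb
        · exact hc
        · exact hu.1
        · exact hv.1)
    obtain ⟨hm, hD⟩ := CfsgLib.Golay.mem_M12.1 h.2
    exact ⟨g * h.val, mul_mem hg hm, by rw [mul_smul, hD], congrArg g (hh 0), congrArg g (hh 1), congrArg g (hh 2)⟩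
  refine CfsgLib.M24Cert.nine_sylow ?_
  refine
    { toFun := fun x => ⟨g⁻¹ * (x.val : Equiv.Perm Cfsg.GolayPt) * g, ?_⟩
      invFun := fun y => ⟨⟨g * y.val * g⁻¹, mul_mem (mul_mem hg y.2.1) (inv_mem hg)⟩, ?_⟩
      left_inv := fun x => Subtype.ext (Subtype.ext (by
        show g * (g⁻¹ * (x.val : Equiv.Perm Cfsg.GolayPt) * g) * g⁻¹ = x.val
        group))
      right_inv := fun y => Subtype.ext (by
        show g⁻¹ * (g * y.val * g⁻¹) * g = y.val
        group)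
      map_mul' := fun x y => Subtype.ext (by
        show g⁻¹ * ((x.val : Equiv.Perm Cfsg.GolayPt) * y.val) * g = _
        show _ = g⁻¹ * (x.val : Equiv.Perm Cfsg.GolayPt) * g * (g⁻¹ * (y.val : Equiv.Perm Cfsg.GolayPt) * g)
        group) }
  · obtain ⟨⟨⟨h1, h2⟩, h3⟩, h4⟩ := x.2
    have e1 : (x.val : Equiv.Perm Cfsg.GolayPt) • d = d := h1
    have e2 : (x.val : Equiv.Perm Cfsg.GolayPt) p = p := h2
    have e3 : (x.val : Equiv.Perm Cfsg.GolayPt) q = q := h3
    have e4 : (x.val : Equiv.Perm Cfsg.GolayPt) r = r := h4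
    refine ⟨mul_mem (mul_mem (inv_mem hg) x.val.2) hg, ?_, ?_, ?_, ?_⟩
    · rw [mul_smul, mul_smul, hgd, e1, ← hgd, inv_smul_smul]
    · show g.symm ((x.val : Equiv.Perm Cfsg.GolayPt) (g _)) = _
      rw [hgp, e2, ← hgp, Equiv.symm_apply_apply]
    · show g.symm ((x.val : Equiv.Perm Cfsg.GolayPt) (g _)) = _
      rw [hgq, e3, ← hgq, Equiv.symm_apply_apply]
    · show g.symm ((x.val : Equiv.Perm Cfsg.GolayPt) (g _)) = _
      rw [hgr, e4, ← hgr, Equiv.symm_apply_apply]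
  · obtain ⟨-, h1, h2, h3, h4⟩ := y.2
    refine ⟨⟨⟨?_, ?_⟩, ?_⟩, ?_⟩
    · show (g * y.val * g⁻¹) • d = d
      rw [mul_smul, mul_smul, ← hgd, inv_smul_smul, h1]
    · show g (y.val (g.symm p)) = p
      rw [← hgp, Equiv.symm_apply_apply, h2]
    · show g (y.val (g.symm q)) = q
      rw [← hgq, Equiv.symm_apply_apply, h3]
    · show g (y.val (g.symm r)) = r
      rw [← hgr, Equiv.symm_apply_apply, h4]

end Cfsg.Agent.S5619
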