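import Cfsg.Statements.S5620
import Cfsg.Agent.Lib.Golay.Dodecad
import Cfsg.Agent.Lib.Golay.Octad

set_option autoImplicit false
open scoped Pointwise
open Cfsg

namespace Cfsg.Agent.S5620

/-- Inside the stabiliser of the dodecad of squares (a Mathieu group of degree 12), the stabiliser of the residue 0 (a point of the dodecad) and the stabiliser of the extra point (a point outside the dodecad) are isomorphic but not conjugate; conjugation by a suitable element of the code's group that maps the dodecad of squares onto its complement carries the first onto the second. -/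
theorem result : Nonempty (↥(Cfsg.Spor.M12 ⊓ MulAction.stabilizer (Equiv.Perm Cfsg.GolayPt) (none : Cfsg.GolayPt)) ≃* ↥Cfsg.Spor.M11) ∧ (¬ ∃ k ∈ Cfsg.Spor.M12, MulAut.conj k • Cfsg.Spor.M11 = Cfsg.Spor.M12 ⊓ MulAction.stabilizer (Equiv.Perm Cfsg.GolayPt) (none : Cfsg.GolayPt)) ∧ ∃ g ∈ Cfsg.M24, g • Cfsg.Spor.squareDodecad = Finset.univ \ Cfsg.Spor.squareDodecad ∧ MulAut.conj g • Cfsg.Spor.M11 = Cfsg.Spor.M12 ⊓ MulAction.stabilizer (Equiv.Perm Cfsg.GolayPt) (none : Cfsg.GolayPt) := by
  have hnone : (none : Cfsg.GolayPt) ∈ Finset.univ \ CfsgLib.Golay.toSet CfsgLib.Golay.baseDodecad := by decide +kernel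
  have h0 : CfsgLib.Golay.pt 0 = (some 0 : Cfsg.GolayPt) := by decide +kernel
  have hsq := CfsgLib.Golay.squareDodecad_eq
  have hcd : Finset.univ \ CfsgLib.Golay.toSet CfsgLib.Golay.baseDodecad ∈ Cfsg.dodecads := by
    rw [show Finset.univ \ CfsgLib.Golay.toSet CfsgLib.Golay.baseDodecad = CfsgLib.Golay.toSet 16436384 by decide +kernel]
    exact CfsgLib.Golay.mem_wordsOfWeight.2
      ⟨_, CfsgLib.Golay.mem_golayList_of_inCode (by decide +kernel), by decide +kernel, rfl⟩
  obtain ⟨g, hg, hgd, hg0⟩ := CfsgLib.Golay.dodecad_point_transitive hcd hnone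
  have huniv : ∀ x : Equiv.Perm Cfsg.GolayPt, x • (Finset.univ : Finset Cfsg.GolayPt) = Finset.univ := fun x =>
    Finset.eq_univ_of_card _ (by rw [Finset.card_smul_finset, Finset.card_univ])
  have hcompl : ∀ (x : Equiv.Perm Cfsg.GolayPt) (s : Finset Cfsg.GolayPt), x • (Finset.univ \ s) = Finset.univ \ s ↔ x • s = s := by
    intro x s
    rw [Finset.smul_finset_sdiff, huniv]
    constructor
    · intro h
      have h' := congrArg (fun t => Finset.univ \ t) h
      simpa using h'
    · intro h; rw [h]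
  have key : MulAut.conj g • Cfsg.Spor.M11 = Cfsg.Spor.M12 ⊓ MulAction.stabilizer (Equiv.Perm Cfsg.GolayPt) (none : Cfsg.GolayPt) := by
    ext x
    rw [Subgroup.mem_pointwise_smul_iff_inv_smul_mem, Subgroup.mem_inf, MulAction.mem_stabilizer_iff]
    have e : (MulAut.conj g)⁻¹ • x = g⁻¹ * x * g := by
      show (MulAut.conj g)⁻¹ x = _
      simp
    rw [e, CfsgLib.Golay.mem_M11, CfsgLib.Golay.mem_M12, CfsgLib.Golay.mem_M12]
    constructor
    · rintro ⟨⟨h1, h2⟩, h3⟩
      have hx : x ∈ Cfsg.M24 := by simpa [mul_assoc] using mul_mem (mul_mem hg h1) (inv_mem hg)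
      refine ⟨⟨hx, (hcompl x _).1 ?_⟩, ?_⟩
      · rw [mul_smul, mul_smul, inv_smul_eq_iff, hgd] at h2
        exact h2
      · show x none = none
        rw [← hg0]
        have h3' : g.symm (x (g (CfsgLib.Golay.pt 0))) = CfsgLib.Golay.pt 0 := h3
        exact g.symm.injective (by rw [h3', Equiv.symm_apply_apply])
    · rintro ⟨⟨hx, hxd⟩, hxn⟩
      refine ⟨⟨mul_mem (mul_mem (inv_mem hg) hx) hg, ?_⟩, ?_⟩
      · rw [mul_smul, mul_smul, inv_smul_eq_iff, hgd]
        exact (hcompl x _).2 hxd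
      · show g.symm (x (g (CfsgLib.Golay.pt 0))) = CfsgLib.Golay.pt 0
        have hxn' : x none = none := hxn
        rw [hg0, hxn', ← hg0, Equiv.symm_apply_apply]
  refine ⟨⟨?_⟩, ?_, g, hg, by rw [hsq]; exact hgd, key⟩
  · exact (MulEquiv.subgroupCongr key.symm).trans (Subgroup.equivSMul (MulAut.conj g) Cfsg.Spor.M11).symm
  · rintro ⟨k, hk, hkey⟩
    obtain ⟨-, hkD⟩ := CfsgLib.Golay.mem_M12.1 hk
    set q := k (CfsgLib.Golay.pt 0) with hq
    have hqD : q ∈ CfsgLib.Golay.toSet CfsgLib.Golay.baseDodecad := by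
      have h00 : CfsgLib.Golay.pt 0 ∈ CfsgLib.Golay.toSet CfsgLib.Golay.baseDodecad := by decide +kernel
      have := Finset.smul_mem_smul_finset (a := k) h00
      rwa [hkD] at this
    have hfix : ∀ x ∈ MulAut.conj g • Cfsg.Spor.M11, x q = q := by
      intro x hx
      rw [key, ← hkey, Subgroup.mem_pointwise_smul_iff_inv_smul_mem] at hx
      have e : (MulAut.conj k)⁻¹ • x = k⁻¹ * x * k := by
        show (MulAut.conj k)⁻¹ x = _
        simp
      rw [e, CfsgLib.Golay.mem_M11] at hx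
      have h3 : k.symm (x (k (CfsgLib.Golay.pt 0))) = CfsgLib.Golay.pt 0 := hx.2
      exact k.symm.injective (by rw [hq, h3, Equiv.symm_apply_apply])
    obtain ⟨s, hs, hsq'⟩ : ∃ s, s ∉ CfsgLib.Golay.toSet CfsgLib.Golay.baseDodecad ∧ g s = q := by
      refine ⟨g.symm q, fun h => ?_, g.apply_symm_apply q⟩
      have := Finset.smul_mem_smul_finset (a := g) h
      rw [hgd, Equiv.Perm.smul_def, Equiv.apply_symm_apply, Finset.mem_sdiff] at this
      exact this.2 hqD
    obtain ⟨t, ht, a, ha, b, hb, hne⟩ : ∃ t, t ∉ CfsgLib.Golay.toSet CfsgLib.Golay.baseDodecad ∧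
        ∃ a, a ∉ CfsgLib.Golay.toSet CfsgLib.Golay.baseDodecad ∧ ∃ b, b ∉ CfsgLib.Golay.toSet CfsgLib.Golay.baseDodecad ∧
          [s, t, a, b].Nodup := by
      have hc : ∀ T : Finset Cfsg.GolayPt, T.card ≤ 4 → ∃ z, z ∉ CfsgLib.Golay.toSet CfsgLib.Golay.baseDodecad ∧ z ∉ T := by
        intro T hT
        obtain ⟨z, -, hz⟩ := Finset.exists_mem_notMem_of_card_lt_card
          (s := CfsgLib.Golay.toSet CfsgLib.Golay.baseDodecad ∪ T) (t := Finset.univ)
          (lt_of_le_of_lt (Finset.card_union_le _ _) (by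
            rw [CfsgLib.Golay.baseDodecad_mem.2, Finset.card_univ, show Fintype.card Cfsg.GolayPt = 24 by decide]
            omega))
        exact ⟨z, fun h => hz (Finset.mem_union_left _ h), fun h => hz (Finset.mem_union_right _ h)⟩
      obtain ⟨t, ht, ht'⟩ := hc {s} (by simp)
      obtain ⟨a, ha, ha'⟩ := hc {s, t} (Finset.card_le_two.trans (by omega))
      obtain ⟨b, hb, hb'⟩ := hc {s, t, a} (Finset.card_le_three.trans (by omega))
      simp only [Finset.mem_insert, Finset.mem_singleton, not_or] at ht' ha' hb'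
      refine ⟨t, ht, a, ha, b, hb, ?_⟩
      simp only [List.nodup_cons, List.mem_cons, List.not_mem_nil, or_false, not_or, List.nodup_nil, and_true,
        not_false_iff]
      exact ⟨⟨Ne.symm ht', Ne.symm ha'.1, Ne.symm hb'.1⟩, ⟨Ne.symm ha'.2, Ne.symm hb'.2.1⟩, Ne.symm hb'.2.2⟩
    simp only [List.nodup_cons, List.mem_cons, List.not_mem_nil, or_false, not_or, List.nodup_nil, and_true,
      not_false_iff] at hne
    obtain ⟨⟨st, sa, sb⟩, ⟨ta, tb⟩, ab⟩ := hne
    obtain ⟨x, hx, hxe⟩ := CfsgLib.Golay.M11_map_three_outside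
      ⟨![s, a, b], fun i j e => by fin_cases i <;> fin_cases j <;> simp_all⟩
      ⟨![t, a, b], fun i j e => by fin_cases i <;> fin_cases j <;> simp_all⟩
      (fun i => by fin_cases i <;> assumption) (fun i => by fin_cases i <;> assumption)
    have hxs : x s = t := hxe 0
    have hf := hfix (MulAut.conj g x) (Subgroup.smul_mem_pointwise_smul x (MulAut.conj g) _ hx)
    rw [← hsq', MulAut.conj_apply] at hf
    change g (x (g.symm (g s))) = g s at hf
    rw [Equiv.symm_apply_apply, hxs] at hf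
    exact st (g.injective hf).symm

end Cfsg.Agent.S5620
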