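import Cfsg.Statements.S5625
import Cfsg.Agent.Lib.Golay.Design

set_option autoImplicit false
open Cfsg

namespace Cfsg.Agent.S5625

/-- In any Steiner system S(5, 8, 24) and for any set Y of three points, the blocks meeting Y in exactly 3, 2, 1 and 0 points number 21, 168, 360 and 210 respectively (so there are 759 blocks in all). -/
theorem result (α : Type*) [Fintype α] [DecidableEq α] (hα : Fintype.card α = 24) (B : Set (Finset α)) (hB : Cfsg.IsSteinerSystem 5 8 B) (Y : Finset α) (hY : Y.card = 3) : {b : Finset α | b ∈ B ∧ (b ∩ Y).card = 3}.ncard = 21 ∧ {b : Finset α | b ∈ B ∧ (b ∩ Y).card = 2}.ncard = 168 ∧ {b : Finset α | b ∈ B ∧ (b ∩ Y).card = 1}.ncard = 360 ∧ {b : Finset α | b ∈ B ∧ (b ∩ Y).card = 0}.ncard = 210 := by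
  classical
  have hn : ∀ s : Finset α, s ⊆ Y → ((CfsgLib.Golay.blockFinset B).filter (s ⊆ ·)).card
      = if s.card = 0 then 759 else if s.card = 1 then 253 else if s.card = 2 then 77 else 21 := by
    intro s hs
    have h := Finset.card_le_card hs
    have := CfsgLib.Golay.blocks_through hB s (by omega)
    rw [hα] at this
    rw [hY] at h
    interval_cases hc : s.card <;> norm_num [Nat.choose_eq_descFactorial_div_factorial] at this ⊢ <;> omega
  have hsum : ∀ i : ℕ, ∑ b ∈ CfsgLib.Golay.blockFinset B, (b ∩ Y).card.choose i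
      = ∑ s ∈ Y.powersetCard i, ((CfsgLib.Golay.blockFinset B).filter (s ⊆ ·)).card := by
    intro i
    have h3 := Finset.sum_card_bipartiteAbove_eq_sum_card_bipartiteBelow
      (s := CfsgLib.Golay.blockFinset B) (t := Y.powersetCard i) (fun c T => T ⊆ c)
    simp only [Finset.bipartiteAbove, Finset.bipartiteBelow] at h3
    rw [← h3]
    refine Finset.sum_congr rfl (fun b _ => ?_)
    rw [← Finset.card_powersetCard]
    congr 1
    ext s
    simp only [Finset.mem_powersetCard, Finset.mem_filter, Finset.subset_inter_iff]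
    tauto
  let e : ℕ → ℕ := fun k => ((CfsgLib.Golay.blockFinset B).filter fun b => (b ∩ Y).card = k).card
  have hfib : ∀ i : ℕ, ∑ b ∈ CfsgLib.Golay.blockFinset B, (b ∩ Y).card.choose i
      = ∑ k ∈ Finset.range 4, e k * k.choose i := by
    intro i
    rw [← Finset.sum_fiberwise_of_maps_to (t := Finset.range 4) (g := fun b => (b ∩ Y).card)]
    · refine Finset.sum_congr rfl (fun k _ => ?_)
      rw [Finset.sum_congr rfl (g := fun _ => k.choose i)
        (fun b hb => by rw [(Finset.mem_filter.mp hb).2])]
      rw [Finset.sum_const, smul_eq_mul]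
    · intro b _
      have := Finset.card_le_card (Finset.inter_subset_right : b ∩ Y ⊆ Y)
      simp only [Finset.mem_range, Finset.mem_coe]
      omega
  have hrhs : ∀ i : ℕ, i ≤ 3 → ∑ s ∈ Y.powersetCard i, ((CfsgLib.Golay.blockFinset B).filter (s ⊆ ·)).card
      = (3 : ℕ).choose i * (if i = 0 then 759 else if i = 1 then 253 else if i = 2 then 77 else 21) := by
    intro i hi
    rw [Finset.sum_congr rfl (g := fun _ => if i = 0 then 759 else if i = 1 then 253 else if i = 2 then 77 else 21)]
    · rw [Finset.sum_const, Finset.card_powersetCard, hY, smul_eq_mul]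
    · intro s hs
      rw [Finset.mem_powersetCard] at hs
      rw [hn s hs.1, hs.2]
  have h0 := (hfib 0).symm.trans ((hsum 0).trans (hrhs 0 (by omega)))
  have h1 := (hfib 1).symm.trans ((hsum 1).trans (hrhs 1 (by omega)))
  have h2 := (hfib 2).symm.trans ((hsum 2).trans (hrhs 2 (by omega)))
  have h3 := (hfib 3).symm.trans ((hsum 3).trans (hrhs 3 (by omega)))
  simp [Finset.sum_range_succ, Nat.choose] at h0 h1 h2 h3
  have hset : ∀ k, {b : Finset α | b ∈ B ∧ (b ∩ Y).card = k}.ncard = e k := by
    intro k
    simp only [e]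
    rw [← Set.ncard_coe_finset]
    congr 1
    ext b
    simp [CfsgLib.Golay.mem_blockFinset]
  rw [hset, hset, hset, hset]
  omega

end Cfsg.Agent.S5625
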