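import Cfsg.Statements.S5631
import Cfsg.Agent.Lib.Transvec.Linear

set_option autoImplicit false
open Cfsg

namespace Cfsg.Agent.S5631

open CfsgLib.Transvec Matrix

/-- For a finite field F and n ≥ 13, the stabiliser in SL_n(F) of any proper non-zero subspace W of F^n is a maximal subgroup of SL_n(F). Here SL_n(F) is the kernel of the determinant inside GL_n(F) and the stabiliser is the set of elements of determinant one mapping W onto itself. -/
theorem result {F : Type*} [Field F] [Fintype F] (n : ℕ) (hn : 13 ≤ n) (W : Submodule F (Fin n → F)) (hW0 : W ≠ ⊥) (hW1 : W ≠ ⊤) : Cfsg.Geo.IsMaximalIn (Cfsg.Geo.specialLinear (Fin n) F) (Cfsg.Geo.subspaceStabilizer W ⊓ Cfsg.Geo.specialLinear (Fin n) F) := by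
  refine ⟨lt_of_le_not_ge inf_le_right fun hle => ?_, fun M hHM hMK => ?_⟩
  · obtain ⟨g, hg, hg'⟩ := exists_transv_not_stab hW0 hW1
    exact hg' (hle hg).1
  by_cases hM : M ≤ Cfsg.Geo.subspaceStabilizer W
  · exact Or.inl (le_antisymm (le_inf hM hMK) hHM)
  right
  obtain ⟨g, hgM, hg⟩ := SetLike.not_le_iff_exists.mp hM
  obtain ⟨w, hw, hgw⟩ : ∃ w ∈ W, (g : Matrix (Fin n) (Fin n) F) *ᵥ w ∉ W := by
    by_contra h
    simp only [not_exists, not_and, not_not] at h
    exact hg (mem_subspaceStabilizer_of_maps h)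
  obtain ⟨u, hu⟩ : ∃ u, u = (g : Matrix (Fin n) (Fin n) F) *ᵥ w := ⟨_, rfl⟩
  rw [← hu] at hgw
  have hmem : ∀ v φ : Fin n → F, φ ⬝ᵥ v = 0 → (v ∈ W ∨ ∀ x ∈ W, φ ⬝ᵥ x = 0) → transv v φ ∈ M :=
    fun v φ hd h => hHM ⟨h.elim (transv_mem_stab_of_mem hd) (transv_mem_stab_of_ker hd),
      transv_mem_specialLinear v φ⟩
  have hupairs : ∀ φ : Fin n → F, φ ⬝ᵥ u = 0 → FullPair M u φ := by
    rw [hu]
    exact allPairs_conj hgM fun φ hφ a => hmem w _ (by rw [smul_dotProduct, hφ, smul_zero]) (Or.inl hw)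
  refine le_antisymm hMK (specialLinear_le fun x φ hφ => ?_)
  by_cases hx : x ∈ W
  · exact hmem x φ hφ (Or.inl hx)
  suffices hall : ∀ ψ : Fin n → F, ψ ⬝ᵥ x = 0 → FullPair M x ψ by
    simpa using hall φ hφ 1
  by_cases hcase : u ∈ W ⊔ Submodule.span F {x - u}
  · obtain ⟨w', hw', y, hy, hwy⟩ := Submodule.mem_sup.mp hcase
    obtain ⟨a, rfl⟩ := Submodule.mem_span_singleton.mp hy
    have ha : a ≠ 0 := fun h => hgw (by rw [← hwy, h, zero_smul, add_zero]; exact hw')
    obtain ⟨c, hc⟩ : ∃ c, c = (1 + a) / a := ⟨_, rfl⟩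
    obtain ⟨d, hd⟩ : ∃ d, d = -(a⁻¹) • w' := ⟨_, rfl⟩
    have hdW : d ∈ W := hd ▸ W.smul_mem _ hw'
    have hxe : x = c • u + d := by
      funext i
      have h := congrFun hwy i
      simp only [Pi.add_apply, Pi.smul_apply, Pi.sub_apply, smul_eq_mul] at h
      rw [hc, hd]
      simp only [Pi.add_apply, Pi.smul_apply, smul_eq_mul]
      field_simp
      linear_combination h
    have hc0 : c ≠ 0 := fun h => hx (by rw [hxe, h, zero_smul, zero_add]; exact hdW)
    obtain ⟨ψ, hψ, hψu⟩ := exists_functional (E := Submodule.span F {d}) (u := c • u) (fun h => by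
      obtain ⟨b, hb⟩ := Submodule.mem_span_singleton.mp h
      exact hgw ((Submodule.smul_mem_iff _ hc0).mp (hb ▸ W.smul_mem b hdW)))
    have hψd := hψ d (Submodule.mem_span_singleton_self d)
    have hcu : ∀ φ : Fin n → F, φ ⬝ᵥ (c • u) = 0 → FullPair M (c • u) φ := fun φ hφ => by
      rw [dotProduct_smul, smul_eq_mul, mul_eq_zero, or_iff_right hc0] at hφ
      exact fullPair_smul_left hφ (hupairs φ hφ) c
    have h := allPairs_conj (hmem d ψ hψd (Or.inl hdW)) hcu
    rwa [transv_mulVec hψd, hψu, one_smul, ← hxe] at h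
  · obtain ⟨ψ, hψ, hψu⟩ := exists_functional hcase
    have hd := hψ (x - u) (Submodule.mem_sup_right (Submodule.mem_span_singleton_self _))
    have h := allPairs_conj (hmem (x - u) ψ hd (Or.inr fun y hy => hψ y (Submodule.mem_sup_left hy))) hupairs
    rwa [transv_move hd hψu] at h

end Cfsg.Agent.S5631
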