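import Cfsg.Statements.S5632
import Cfsg.Agent.Lib.Transvec.Linear

set_option autoImplicit false
open Cfsg

namespace Cfsg.Agent.S5632

open CfsgLib.Transvec Matrix

/-- For a finite field F and subspaces 0 < W < U of F^n with dim W + dim U = n, the elements of SL_n(F) stabilising both W and U form a subgroup that is not maximal in SL_n(F): some subgroup lies strictly between it and SL_n(F). -/
theorem result {F : Type*} [Field F] [Fintype F] (n : ℕ) (W U : Submodule F (Fin n → F)) (hW0 : W ≠ ⊥) (hWU : W < U) (hdim : Module.finrank F W + Module.finrank F U = n) : ∃ K : Subgroup (Matrix.GeneralLinearGroup (Fin n) F), Cfsg.Geo.subspaceStabilizer W ⊓ Cfsg.Geo.subspaceStabilizer U ⊓ Cfsg.Geo.specialLinear (Fin n) F < K ∧ K < Cfsg.Geo.specialLinear (Fin n) F := by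
  have hU : U ≠ ⊤ := by
    intro h
    rw [h, finrank_top, Module.finrank_fin_fun] at hdim
    exact hW0 (Submodule.finrank_eq_zero.mp (by omega))
  have hW1 : W ≠ ⊤ := fun h => (hWU.trans_le le_top).ne h
  obtain ⟨v, -, hv⟩ := SetLike.exists_of_lt hU.lt_top
  obtain ⟨u, hu, huW⟩ := SetLike.exists_of_lt hWU
  have huE : u ∉ W ⊔ Submodule.span F {v} := by
    intro h
    obtain ⟨w, hw, y, hy, hwy⟩ := Submodule.mem_sup.mp h
    obtain ⟨a, rfl⟩ := Submodule.mem_span_singleton.mp hy
    by_cases ha : a = 0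
    · exact huW (by rw [← hwy, ha, zero_smul, add_zero]; exact hw)
    · refine hv ((Submodule.smul_mem_iff _ ha).mp ?_)
      have := U.sub_mem hu (hWU.le hw)
      rwa [← hwy, add_sub_cancel_left] at this
  refine ⟨Cfsg.Geo.subspaceStabilizer W ⊓ Cfsg.Geo.specialLinear (Fin n) F,
    lt_of_le_not_ge (le_inf (inf_le_left.trans inf_le_left) inf_le_right) fun hle => ?_,
    lt_of_le_not_ge inf_le_right fun hle => ?_⟩
  · obtain ⟨φ, hφ, hφu⟩ := exists_functional (E := W ⊔ Submodule.span F {v}) (u := u) huE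
    have hd := hφ v (Submodule.mem_sup_right (Submodule.mem_span_singleton_self v))
    have h := mulVec_mem_of_mem_subspaceStabilizer (hle ⟨transv_mem_stab_of_ker hd
      (fun x hx => hφ x (Submodule.mem_sup_left hx)), transv_mem_specialLinear v φ⟩).1.2 hu
    rw [transv_mulVec hd, hφu, one_smul, U.add_mem_iff_right hu] at h
    exact hv h
  · obtain ⟨g, hg, hg'⟩ := exists_transv_not_stab hW0 hW1
    exact hg' (hle hg).1

end Cfsg.Agent.S5632
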