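import Cfsg.Statements.S5633
import Cfsg.Agent.Lib.Transvec.Linear

set_option autoImplicit false
open Cfsg

namespace Cfsg.Agent.S5633

open CfsgLib.Transvec Matrix

/-- For a finite field F and complementary non-zero subspaces W ⊕ U = F^n with dim W < dim U, the elements of SL_n(F) stabilising both W and U form a subgroup that is not maximal in SL_n(F): some subgroup lies strictly between it and SL_n(F). -/
theorem result {F : Type*} [Field F] [Fintype F] (n : ℕ) (W U : Submodule F (Fin n → F)) (hW0 : W ≠ ⊥) (hWU : W ⊓ U = ⊥) (hWU' : W ⊔ U = ⊤) (hdim : Module.finrank F W < Module.finrank F U) : ∃ K : Subgroup (Matrix.GeneralLinearGroup (Fin n) F), Cfsg.Geo.subspaceStabilizer W ⊓ Cfsg.Geo.subspaceStabilizer U ⊓ Cfsg.Geo.specialLinear (Fin n) F < K ∧ K < Cfsg.Geo.specialLinear (Fin n) F := by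
  have hU0 : U ≠ ⊥ := fun h => by rw [h, finrank_bot] at hdim; omega
  obtain ⟨u, hu, hu0⟩ := Submodule.exists_mem_ne_zero_of_ne_bot hU0
  obtain ⟨v, hvW, hv0⟩ := Submodule.exists_mem_ne_zero_of_ne_bot hW0
  have huW : u ∉ W := fun h => hu0 ((Submodule.mem_bot F).mp (hWU ▸ ⟨h, hu⟩))
  have hv : v ∉ U := fun h => hv0 ((Submodule.mem_bot F).mp (hWU ▸ ⟨hvW, h⟩))
  have hW1 : W ≠ ⊤ := fun h => huW (h ▸ Submodule.mem_top)
  have huE : u ∉ W ⊔ Submodule.span F {v} := fun h => by
    rw [sup_eq_left.mpr ((Submodule.span_singleton_le_iff_mem _ _).mpr hvW)] at h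
    exact huW h
  refine ⟨Cfsg.Geo.subspaceStabilizer W ⊓ Cfsg.Geo.specialLinear (Fin n) F,
    lt_of_le_not_ge (le_inf (inf_le_left.trans inf_le_left) inf_le_right) fun hle => ?_,
    lt_of_le_not_ge inf_le_right fun hle => ?_⟩
  · obtain ⟨φ, hφ, hφu⟩ := exists_functional (E := W ⊔ Submodule.span F {v}) (u := u) huE
    have hd := hφ v (Submodule.mem_sup_right (Submodule.mem_span_singleton_self v))
    have h := mulVec_mem_of_mem_subspaceStabilizer (hle ⟨transv_mem_stab_of_ker hd
      (fun x hx => hφ x (Submodule.mem_sup_left hx)), transv_mem_specialLinear v φ⟩).1.2 hu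
    rw [transv_mulVec hd, hφu, one_smul, U.add_mem_iff_right hu] at h
    exact hv h
  · obtain ⟨g, hg, hg'⟩ := exists_transv_not_stab hW0 hW1
    exact hg' (hle hg).1

end Cfsg.Agent.S5633
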