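import Cfsg.Statements.S5634
import Cfsg.Agent.Lib.Classical22.DecompLineSL
import Cfsg.Agent.Lib.Classical22.DecompCoords
-- import your own Cfsg.Agent.* helpers here

set_option autoImplicit false
open Cfsg

namespace Cfsg.Agent.S5634

open Matrix CfsgLib.Transvec CfsgLib.Classical22 CfsgLib.Classical22.Monomial CfsgLib.Classical22.DecompBlocks
open scoped MatrixGroups

/-- For a finite field F with q elements and n ≥ 13, let D be a decomposition of F^n into t ≥ 2 independent subspaces of equal dimension m ≥ 1 spanning F^n. Unless m = 1 and q ≤ 4, or m = 2 and q = 2, the elements of SL_n(F) permuting the members of D form a maximal subgroup of SL_n(F). -/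
theorem result {F : Type*} [Field F] [Fintype F] (n : ℕ) (hn : 13 ≤ n) {t : ℕ} (m : ℕ) (D : Fin t → Submodule F (Fin n → F)) (hD : Cfsg.Geo.IsMDecomposition m D) (h1 : ¬ (m = 1 ∧ Fintype.card F ≤ 4)) (h2 : ¬ (m = 2 ∧ Fintype.card F = 2)) : Cfsg.Geo.IsMaximalIn (Cfsg.Geo.specialLinear (Fin n) F) (Cfsg.Geo.decompositionStabilizer D ⊓ Cfsg.Geo.specialLinear (Fin n) F) := by
  classical
  obtain ⟨e, P, hP⟩ := DecompCoords.exists_coords hD
  obtain ⟨blk, hblkdef⟩ : ∃ blk : Fin n → Fin t, blk = fun l => (e.symm l).1 := ⟨_, rfl⟩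
  rw [← hblkdef] at hP
  have hblk_e : ∀ (j : Fin t) (a : Fin m), blk (e (j, a)) = j := fun j a => by simp [hblkdef]
  have hnm : t * m = n := by simpa using Fintype.card_congr e
  have hm0 := hD.pos
  refine ⟨lt_of_le_not_ge inf_le_right fun hle => ?_, fun M hHM hMK => ?_⟩
  · have h2 := hD.two_le
    obtain ⟨i0, i1, h01⟩ : ∃ i0 i1 : Fin t, i0 ≠ i1 :=
      ⟨⟨0, by omega⟩, ⟨1, by omega⟩, fun h => absurd (congrArg Fin.val h) (by simp)⟩
    obtain ⟨a, ha⟩ : ∃ a, a = e (i0, ⟨0, hm0⟩) := ⟨_, rfl⟩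
    obtain ⟨b, hb⟩ : ∃ b, b = e (i1, ⟨0, hm0⟩) := ⟨_, rfl⟩
    have hab : a ≠ b := fun h => h01 (by rw [← hblk_e i0 ⟨0, hm0⟩, ← ha, h, hb, hblk_e])
    have hd := single_dotProduct_single (F := F) hab 1
    have hmem : P * transv (Pi.single a 1) (Pi.single b 1) * P⁻¹ ∈ Cfsg.Geo.decompositionStabilizer D := by
      refine (hle ?_).1
      rw [mem_specialLinear_iff, Units.val_mul, Units.val_mul, Matrix.det_units_conj]
      exact (mem_specialLinear_iff _).mp (transv_mem_specialLinear _ _)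
    obtain ⟨σ, hσ⟩ := (DecompCoords.mem_stabilizer_iff hD hP _).mp hmem
    have h1 := hσ i1 (Pi.single b 1) (inBlk_single (by rw [hb, hblk_e]) _)
    rw [show P⁻¹ * (P * transv (Pi.single a (1 : F)) (Pi.single b 1) * P⁻¹) * P =
        transv (Pi.single a (1 : F)) (Pi.single b 1) by group, transv_mulVec hd] at h1
    have hva : σ i1 = i0 := by
      by_contra h
      have := h1 a (by rw [ha, hblk_e]; exact Ne.symm h)
      simp [hab] at this
    have hvb : σ i1 = i1 := by
      by_contra h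
      have := h1 b (by rw [hb, hblk_e]; exact Ne.symm h)
      simp [hab.symm] at this
    exact h01 (hva.symm.trans hvb)
  by_cases hM : M ≤ Cfsg.Geo.decompositionStabilizer D
  · exact Or.inl (le_antisymm (le_inf hM hMK) hHM)
  right
  obtain ⟨g, hgM, hgH⟩ := SetLike.not_le_iff_exists.mp hM
  obtain ⟨N, hN⟩ : ∃ N : Subgroup (GL (Fin n) F), ∀ x, x ∈ N ↔ P * x * P⁻¹ ∈ M :=
    ⟨M.comap (MulAut.conj P).toMonoidHom, fun x => Iff.rfl⟩
  have hH : ∀ x : GL (Fin n) F, (x : Matrix (Fin n) (Fin n) F).det = 1 → (∃ σ : Equiv.Perm (Fin t), ∀ i v,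
      InBlk blk i v → InBlk blk (σ i) ((x : Matrix (Fin n) (Fin n) F) *ᵥ v)) → x ∈ N := by
    intro x hx hσ
    refine (hN x).mpr (hHM ⟨(DecompCoords.mem_stabilizer_iff hD hP _).mpr ?_, ?_⟩)
    · rw [show P⁻¹ * (P * x * P⁻¹) * P = x by group]; exact hσ
    · show _ ∈ Cfsg.Geo.specialLinear (Fin n) F
      rw [mem_specialLinear_iff, Units.val_mul, Units.val_mul, Matrix.det_units_conj, hx]
  have hgN : P⁻¹ * g * P ∈ N := (hN _).mpr (by rw [show P * (P⁻¹ * g * P) * P⁻¹ = g by group]; exact hgM)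
  have hgN' := mt (DecompCoords.mem_stabilizer_iff hD hP g).mpr hgH
  have hNle : N ≤ Cfsg.Geo.specialLinear (Fin n) F := fun x hx => by
    have := (mem_specialLinear_iff _).mp (hMK ((hN x).mp hx))
    rw [Units.val_mul, Units.val_mul, Matrix.det_units_conj] at this
    exact (mem_specialLinear_iff _).mpr this
  suffices hle : Cfsg.Geo.specialLinear (Fin n) F ≤ N by
    refine le_antisymm hMK fun x hx => ?_
    have h3 : P⁻¹ * x * P ∈ N := hle (by
      rw [mem_specialLinear_iff, Units.val_mul, Units.val_mul, Matrix.det_units_conj']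
      exact (mem_specialLinear_iff _).mp hx)
    have h4 := (hN _).mp h3
    rwa [show P * (P⁻¹ * x * P) * P⁻¹ = x by group] at h4
  by_cases hm1 : m = 1
  · subst hm1
    have hq : 5 ≤ Fintype.card F := by
      by_contra h
      exact h1 ⟨rfl, by omega⟩
    have hbij : Function.Bijective blk := by
      refine ⟨fun a b h => e.symm.injective (Prod.ext ?_ (Subsingleton.elim _ _)), fun j => ⟨_, hblk_e j 0⟩⟩
      simpa [hblkdef] using h
    obtain ⟨b, hb⟩ : ∃ b : Fin n ≃ Fin t, ∀ l, b l = blk l := ⟨Equiv.ofBijective blk hbij, fun _ => rfl⟩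
    have hiff : ∀ (j : Fin t) (v : Fin n → F), InBlk blk j v ↔ ∀ l, l ≠ b.symm j → v l = 0 := by
      intro j v
      constructor
      · intro h l hl; refine h l fun e => hl ?_; rw [← e, ← hb, Equiv.symm_apply_apply]
      · intro h l hl; refine h l fun e => hl ?_; rw [e, ← hb, Equiv.apply_symm_apply]
    refine DecompLine.le_of_not_isMono (fun σ d hd => hH _ hd ⟨(b.symm.trans σ).trans b, fun i v hv => ?_⟩) hq
      (by simp; omega) hNle hgN fun hmono => hgN' ?_
    · rw [hiff] at hv ⊢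
      intro l hl
      obtain ⟨k, rfl⟩ := σ.surjective l
      rw [mono_mulVec, hv k (fun e => hl (by simp [e])), mul_zero]
    · obtain ⟨σ, d, hx⟩ := hmono.exists_mono
      refine ⟨(b.symm.trans σ).trans b, fun i v hv => ?_⟩
      rw [hiff] at hv ⊢
      intro l hl
      obtain ⟨k, rfl⟩ := σ.surjective l
      rw [hx, mono_mulVec, hv k (fun e => hl (by simp [e])), mul_zero]
  refine DecompBlocks.le_of_not_block_perm hH
    (fun j => ⟨e (j, ⟨0, hm0⟩), e (j, ⟨1, by omega⟩), by simp, hblk_e _ _, hblk_e _ _⟩) ?_ ?_ hgN hgN'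
  · intro a b a' b' hab hab'
    simp only [hblkdef] at hab hab' ⊢
    obtain ⟨s1, hs1⟩ : ∃ s1, s1 = Equiv.swap (e.symm a).1 (e.symm a').1 := ⟨_, rfl⟩
    obtain ⟨σ, hσ⟩ : ∃ σ, σ = Equiv.swap (s1 (e.symm b).1) (e.symm b').1 * s1 := ⟨_, rfl⟩
    have hσa : σ (e.symm a).1 = (e.symm a').1 := by
      rw [hσ, Equiv.Perm.mul_apply, hs1, Equiv.swap_apply_left, Equiv.swap_apply_of_ne_of_ne ?_ hab']
      intro h
      exact hab ((Equiv.swap (e.symm a).1 (e.symm a').1).injective ((Equiv.swap_apply_left _ _).trans h))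
    have hσb : σ (e.symm b).1 = (e.symm b').1 := by rw [hσ, Equiv.Perm.mul_apply, Equiv.swap_apply_left]
    -- permutations inside the blocks
    obtain ⟨τ, hτ⟩ : ∃ τ : Fin t → Equiv.Perm (Fin m), τ = fun j =>
        if j = (e.symm a).1 then Equiv.swap (e.symm a).2 (e.symm a').2
        else if j = (e.symm b).1 then Equiv.swap (e.symm b).2 (e.symm b').2 else 1 := ⟨_, rfl⟩
    refine ⟨(e.symm.trans ((Equiv.prodShear σ τ))).trans e, σ, ?_, ?_, fun l => ?_⟩
    · rw [Equiv.trans_apply, Equiv.trans_apply]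
      show e (σ (e.symm a).1, τ (e.symm a).1 (e.symm a).2) = a'
      rw [hσa, hτ]
      simp
    · rw [Equiv.trans_apply, Equiv.trans_apply]
      show e (σ (e.symm b).1, τ (e.symm b).1 (e.symm b).2) = b'
      rw [hσb, hτ]
      simp [Ne.symm hab]
    · simp [Equiv.prodShear_apply]
  · by_cases h3 : 3 ≤ m
    · exact Or.inl fun j => ⟨e (j, ⟨0, by omega⟩), e (j, ⟨1, by omega⟩), e (j, ⟨2, by omega⟩),
        by simp, by simp, by simp, hblk_e _ _, hblk_e _ _, hblk_e _ _⟩
    · have hm2 : m = 2 := by omega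
      subst hm2
      refine Or.inr ⟨?_, by rw [Fintype.card_fin]; omega⟩
      have hq2 : 2 < Fintype.card F := by
        have h1' : 1 < Fintype.card F := Fintype.one_lt_card
        by_contra h
        exact h2 ⟨rfl, by omega⟩
      obtain ⟨x, hx⟩ := DecompLine.exists_notMem ({0, 1} : Finset F) (lt_of_le_of_lt Finset.card_le_two hq2)
      simp only [Finset.mem_insert, Finset.mem_singleton, not_or] at hx
      exact ⟨x, hx.1, hx.2⟩

end Cfsg.Agent.S5634
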