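import Cfsg.Statements.S5638
import Cfsg.Agent.Lib.Classical22.FieldNormalizer
-- import your own Cfsg.Agent.* helpers here

set_option autoImplicit false
open Cfsg

namespace Cfsg.Agent.S5638

open Matrix Kronecker CfsgLib.Classical22.FieldNormalizer

variable {F : Type*} [Field F]

/-- The companion matrix of `X² + X + 1`. -/
def comp2 : Matrix (Fin 2) (Fin 2) F := !![0, 1; 1, 1]

theorem roots_comp2 (h01 : ∀ x : F, x = 0 ∨ x = 1) (h2 : (2 : F) = 0) (M : Matrix (Fin 2) (Fin 2) F)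
    (hM : M * M = M + 1) : M = comp2 ∨ M = comp2 + 1 := by
  have h00 := congrFun (congrFun hM 0) 0
  have h01' := congrFun (congrFun hM 0) 1
  have h11 := congrFun (congrFun hM 1) 1
  simp [Matrix.mul_apply, Fin.sum_univ_two] at h00 h01' h11
  rw [M.eta_fin_two]
  have h11' : (1 : F) + 1 = 0 := by linear_combination h2
  rcases h01 (M 0 0) with a | a <;> rcases h01 (M 0 1) with b | b <;> rcases h01 (M 1 0) with c | c <;>
    rcases h01 (M 1 1) with d | d <;> simp [a, b, c, d, h11'] at h00 h01' h11 <;>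
    simp [comp2, a, b, c, d, Matrix.one_fin_two, h11']

theorem exists_overgroup [Fintype F] {n n₂ : ℕ} (hn : 13 ≤ n) (hq : Fintype.card F = 2) (e : Fin n ≃ Fin 2 × Fin n₂)
    (P : GL (Fin n) F) :
    ∃ K : Subgroup (GL (Fin n) F), Cfsg.Geo.tensorProductSubgroup 2 n₂ e P ⊓ Cfsg.Geo.specialLinear (Fin n) F < K ∧
      K < Cfsg.Geo.specialLinear (Fin n) F := by
  classical
  have hn2 : n = 2 * n₂ := by simpa using Fintype.card_congr e
  have h01 : ∀ x : F, x = 0 ∨ x = 1 := by
    intro x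
    by_cases hx : x = 0
    · exact Or.inl hx
    · have := FiniteField.pow_card_sub_one_eq_one x hx
      rw [hq] at this
      exact Or.inr (by simpa using this)
  have h2 : (2 : F) = 0 := by simpa [hq] using FiniteField.cast_card_eq_zero F
  have hSL : ∀ g : GL (Fin n) F, g ∈ Cfsg.Geo.specialLinear (Fin n) F := fun g => MonoidHom.mem_ker.2 (Units.ext
    ((h01 _).resolve_left (Matrix.GeneralLinearGroup.det g).ne_zero))
  obtain ⟨φ, hφ⟩ : ∃ φ : Matrix (Fin 2 × Fin n₂) (Fin 2 × Fin n₂) F ≃ₐ[F] Matrix (Fin n) (Fin n) F, ∀ X,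
      φ X = (P : Matrix (Fin n) (Fin n) F) * Matrix.reindexAlgEquiv F F e.symm X *
        ((P⁻¹ : GL (Fin n) F) : Matrix (Fin n) (Fin n) F) :=
    ⟨(Matrix.reindexAlgEquiv F F e.symm).trans (MulSemiringAction.toAlgEquiv F _ (ConjAct.toConjAct P)), fun X => rfl⟩
  obtain ⟨κ, hκ⟩ : ∃ κ : Matrix (Fin 2) (Fin 2) F →ₐ[F] Matrix (Fin n) (Fin n) F, ∀ M, κ M = φ (M ⊗ₖ 1) :=
    ⟨φ.toAlgHom.comp
      { toFun := fun M => M ⊗ₖ (1 : Matrix (Fin n₂) (Fin n₂) F)
        map_one' := Matrix.one_kronecker_one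
        map_mul' := fun A B => by rw [← Matrix.mul_kronecker_mul, mul_one]
        map_zero' := Matrix.zero_kronecker _
        map_add' := fun A B => Matrix.add_kronecker _ _ _
        commutes' := fun c => by
          rw [Algebra.algebraMap_eq_smul_one, Algebra.algebraMap_eq_smul_one, Matrix.smul_kronecker,
            Matrix.one_kronecker_one] }, fun M => rfl⟩
  have hκi : Function.Injective κ := by
    intro A B h
    rw [hκ, hκ] at h
    have h' := φ.injective h
    ext i j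
    simpa using congrFun (congrFun h' (i, ⟨0, by omega⟩)) (j, ⟨0, by omega⟩)
  obtain ⟨C, hC⟩ : ∃ C : Matrix (Fin 2) (Fin 2) F, C = comp2 := ⟨_, rfl⟩
  have hCC : C * C = C + 1 := by
    subst hC
    ext i j
    fin_cases i <;> fin_cases j <;> simp [comp2, Matrix.mul_apply, Fin.sum_univ_two] <;> linear_combination (0 : F) * h2
  have hXX : ∀ X : Matrix (Fin 2) (Fin 2) F, X + X = 0 := fun X => by rw [← two_smul F X, h2, zero_smul]
  let L : Subalgebra F (Matrix (Fin n) (Fin n) F) :=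
    { carrier := {X | ∃ c d : F, X = κ (c • 1 + d • C)}
      mul_mem' := by
        rintro _ _ ⟨a, b, rfl⟩ ⟨c, d, rfl⟩
        refine ⟨a * c + b * d, a * d + b * c + b * d, ?_⟩
        rw [← map_mul]
        congr 1
        simp only [mul_add, add_mul, smul_mul_assoc, mul_smul_comm, one_mul, mul_one, hCC]
        module
      add_mem' := by
        rintro _ _ ⟨a, b, rfl⟩ ⟨c, d, rfl⟩
        refine ⟨a + c, b + d, ?_⟩
        rw [← map_add]; congr 1; module
      algebraMap_mem' := fun c => ⟨c, 0, by rw [zero_smul, add_zero, map_smul, map_one, Algebra.algebraMap_eq_smul_one]⟩ }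
  have hmem : ∀ X, X ∈ L ↔ ∃ c d : F, X = κ (c • 1 + d • C) := fun X => Iff.rfl
  have hC0 : ∀ c d : F, c • (1 : Matrix (Fin 2) (Fin 2) F) + d • C = 0 → c = 0 ∧ d = 0 := by
    intro c d h
    have h00 := congrFun (congrFun h 0) 0
    have h01 := congrFun (congrFun h 0) 1
    simp [hC, comp2] at h00 h01
    exact ⟨h00, h01⟩
  have hL : Cfsg.Geo.IsFieldSubalgebra 2 L := by
    refine ⟨?_, ?_, ?_⟩
    · rintro _ ⟨a, b, rfl⟩ _ ⟨c, d, rfl⟩
      rw [← map_mul, ← map_mul]
      congr 1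
      simp only [mul_add, add_mul, smul_mul_assoc, mul_smul_comm, one_mul, mul_one]
      module
    · rintro _ ⟨c, d, rfl⟩ hne
      obtain ⟨a, b, hab⟩ : ∃ a b : F, (c • 1 + d • C) * (a • 1 + b • C) = 1 := by
        rcases h01 c with rfl | rfl <;> rcases h01 d with rfl | rfl
        · simp at hne
        · refine ⟨1, 1, ?_⟩
          simp only [zero_smul, zero_add, one_smul, mul_add, mul_one, hCC]
          first | (rw [← add_assoc, hXX, zero_add]) | (rw [add_right_comm, hXX, zero_add])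
        · exact ⟨1, 0, by simp⟩
        · refine ⟨0, 1, ?_⟩
          simp only [zero_smul, zero_add, one_smul, add_mul, one_mul, hCC]
          first | (rw [← add_assoc, hXX, zero_add]) | (rw [add_right_comm, hXX, zero_add])
      exact ⟨_, ⟨a, b, rfl⟩, by rw [← map_mul, hab, map_one]⟩
    · obtain ⟨ψ, hψ⟩ : ∃ ψ : (F × F) →ₗ[F] L, ∀ z, (ψ z : Matrix (Fin n) (Fin n) F) = κ (z.1 • 1 + z.2 • C) :=
        ⟨{ toFun := fun z => ⟨κ (z.1 • 1 + z.2 • C), z.1, z.2, rfl⟩
           map_add' := fun z w => Subtype.ext (by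
             change κ _ = κ _ + κ _
             rw [← map_add]; congr 1; simp only [Prod.fst_add, Prod.snd_add]; module)
           map_smul' := fun s z => Subtype.ext (by
             change κ _ = s • κ _
             rw [← map_smul]; congr 1; simp only [Prod.smul_fst, Prod.smul_snd, smul_eq_mul]; module) }, fun z => rfl⟩
      have hb : Function.Bijective ψ := by
        refine ⟨?_, fun X => ?_⟩
        · rw [← LinearMap.ker_eq_bot, LinearMap.ker_eq_bot']
          intro z hz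
          have h := congrArg Subtype.val hz
          rw [hψ] at h
          obtain ⟨h1, h2⟩ := hC0 _ _ (hκi (h.trans (map_zero κ).symm))
          exact Prod.ext h1 h2
        · obtain ⟨c, d, h⟩ := (hmem X.1).1 X.2
          exact ⟨(c, d), Subtype.ext ((hψ _).trans h.symm)⟩
      rw [← (LinearEquiv.ofBijective ψ hb).finrank_eq, Module.finrank_prod, Module.finrank_self]
  have hnorm : ∀ g : GL (Fin n) F, (∀ k ∈ L, (g : Matrix (Fin n) (Fin n) F) * k *
      ((g⁻¹ : GL (Fin n) F) : Matrix (Fin n) (Fin n) F) ∈ L) → g ∈ Cfsg.Geo.subalgebraNormalizer L := by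
    intro g hg k
    refine ⟨hg k, fun hk => ?_⟩
    haveI : Finite L := Module.finite_of_finite F
    have hinj : Function.Injective (fun x : L =>
        (⟨(g : Matrix (Fin n) (Fin n) F) * x * ((g⁻¹ : GL (Fin n) F) : Matrix (Fin n) (Fin n) F), hg _ x.2⟩ : L)) := by
      intro a b hab
      have h := congrArg (fun x : L => ((g⁻¹ : GL (Fin n) F) : Matrix (Fin n) (Fin n) F) * x * g) hab
      exact Subtype.ext (by simpa [mul_assoc] using h)
    obtain ⟨x, hx⟩ := (Finite.injective_iff_surjective.1 hinj) ⟨_, hk⟩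
    have h := congrArg (fun x : L => ((g⁻¹ : GL (Fin n) F) : Matrix (Fin n) (Fin n) F) * x * g) hx
    rw [show k = (x : Matrix (Fin n) (Fin n) F) by simpa [mul_assoc] using h.symm]
    exact x.2
  have hle : Cfsg.Geo.tensorProductSubgroup 2 n₂ e P ≤ Cfsg.Geo.subalgebraNormalizer L := by
    rintro g ⟨_, ⟨y, ⟨a, b, hy⟩, rfl⟩, rfl⟩
    refine hnorm _ ?_
    rintro _ ⟨c, d, rfl⟩
    have hval : ∀ (z : GL (Fin 2 × Fin n₂) F), (((MulAut.conj P).toMonoidHom ((Cfsg.Geo.glReindex e.symm).toMonoidHom z) :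
        GL (Fin n) F) : Matrix (Fin n) (Fin n) F) = φ z := fun z => by rw [hφ]; rfl
    have hconj : φ y.val * κ (c • 1 + d • C) * φ ((y⁻¹ : GL (Fin 2 × Fin n₂) F) : Matrix (Fin 2 × Fin n₂) (Fin 2 × Fin n₂) F) =
        κ ((a : Matrix (Fin 2) (Fin 2) F) * (c • 1 + d • C) * ((a⁻¹ : GL (Fin 2) F) : Matrix (Fin 2) (Fin 2) F)) := by
      rw [hκ, hκ, ← map_mul, ← map_mul]
      congr 1
      have hyi : ((y⁻¹ : GL (Fin 2 × Fin n₂) F) : Matrix (Fin 2 × Fin n₂) (Fin 2 × Fin n₂) F) =
          ((a⁻¹ : GL (Fin 2) F) : Matrix (Fin 2) (Fin 2) F) ⊗ₖ ((b⁻¹ : GL (Fin n₂) F) : Matrix (Fin n₂) (Fin n₂) F) :=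
        Units.inv_eq_of_mul_eq_one_right (by rw [hy, ← Matrix.mul_kronecker_mul, Units.mul_inv, Units.mul_inv,
          Matrix.one_kronecker_one])
      rw [hyi, hy, ← Matrix.mul_kronecker_mul, ← Matrix.mul_kronecker_mul, mul_one, Units.mul_inv]
    rw [hval, ← map_inv, ← map_inv, hval, hconj]
    have hr := roots_comp2 h01 h2 ((a : Matrix (Fin 2) (Fin 2) F) * C * ((a⁻¹ : GL (Fin 2) F) : Matrix (Fin 2) (Fin 2) F))
      (by
        rw [show (a : Matrix (Fin 2) (Fin 2) F) * C * ↑a⁻¹ * ((a : Matrix (Fin 2) (Fin 2) F) * C * ↑a⁻¹) =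
          (a : Matrix (Fin 2) (Fin 2) F) * (C * C) * ↑a⁻¹ by simp [mul_assoc], hCC, mul_add, add_mul, mul_one,
          Units.mul_inv])
    rw [mul_add, add_mul, mul_smul_comm, mul_smul_comm, smul_mul_assoc, smul_mul_assoc, mul_one, Units.mul_inv]
    rcases hr with hr | hr
    · exact ⟨c, d, by rw [hr, ← hC]⟩
    · refine ⟨c + d, d, ?_⟩
      rw [hr, ← hC]; congr 1; module
  obtain ⟨j₀, j₁, hj⟩ : ∃ j₀ j₁ : Fin n₂, j₀ ≠ j₁ :=
    ⟨⟨0, by omega⟩, ⟨1, by omega⟩, fun h => by simp at h⟩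
  obtain ⟨E, hE⟩ : ∃ E : Matrix (Fin n₂) (Fin n₂) F, E = Matrix.single j₀ j₀ 1 := ⟨_, rfl⟩
  have hEE : E * E = E := by rw [hE, Matrix.single_mul_single_same, mul_one]
  obtain ⟨Y, hY⟩ : ∃ Y : Matrix (Fin 2) (Fin 2) F → Matrix (Fin 2 × Fin n₂) (Fin 2 × Fin n₂) F,
      ∀ M, Y M = (1 : Matrix (Fin 2) (Fin 2) F) ⊗ₖ (1 - E) + M ⊗ₖ E := ⟨_, fun M => rfl⟩
  have hYm : ∀ M N, Y M * Y N = Y (M * N) := by
    intro M N
    simp only [hY, add_mul, mul_add, ← Matrix.mul_kronecker_mul, one_mul, mul_one, sub_mul, mul_sub, hEE, sub_self,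
      sub_zero, Matrix.kronecker_zero, add_zero, zero_add]
  have hY1 : Y 1 = 1 := by rw [hY, ← Matrix.kronecker_add, sub_add_cancel, Matrix.one_kronecker_one]
  have hCi : C * (C + 1) = 1 := by
    rw [mul_add, hCC, mul_one]
    first | (rw [← add_assoc, hXX, zero_add]) | (rw [add_right_comm, hXX, zero_add])
  have hCi' : (C + 1) * C = 1 := by
    rw [add_mul, hCC, one_mul]
    first | (rw [← add_assoc, hXX, zero_add]) | (rw [add_right_comm, hXX, zero_add])
  obtain ⟨x, hx⟩ : ∃ x : GL (Fin n) F, (x : Matrix (Fin n) (Fin n) F) = φ (Y C) :=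
    ⟨⟨φ (Y C), φ (Y (C + 1)), by rw [← map_mul, hYm, hCi, hY1, map_one],
      by rw [← map_mul, hYm, hCi', hY1, map_one]⟩, rfl⟩
  have hxL : x ∈ Cfsg.Geo.subalgebraNormalizer L := by
    refine hnorm x ?_
    rintro _ ⟨c, d, rfl⟩
    refine ⟨c, d, ?_⟩
    have hcomm : (x : Matrix (Fin n) (Fin n) F) * κ (c • 1 + d • C) = κ (c • 1 + d • C) * x := by
      rw [hx, hκ, ← map_mul, ← map_mul]
      congr 1
      simp only [hY, add_mul, mul_add, ← Matrix.mul_kronecker_mul, one_mul, mul_one, smul_mul_assoc, mul_smul_comm]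
    rw [hcomm, mul_assoc, Units.mul_inv, mul_one]
  have hxT : x ∉ Cfsg.Geo.tensorProductSubgroup 2 n₂ e P := by
    rintro ⟨_, ⟨y, ⟨a, b, hy⟩, rfl⟩, hg⟩
    have hval : φ y.val = φ (Y C) := by
      rw [← hx, ← hg, hφ]; rfl
    have h := φ.injective hval
    rw [hy, hY] at h
    have key : ∀ i k j, (a : Matrix (Fin 2) (Fin 2) F) i k * (b : Matrix (Fin n₂) (Fin n₂) F) j j =
        (1 : Matrix (Fin 2) (Fin 2) F) i k * (1 - E) j j + C i k * E j j := fun i k j => by
      simpa using congrFun (congrFun h (i, j)) (k, j)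
    have k1 := key 0 1 j₁
    have k2 := key 0 0 j₁
    have k0 := key 0 1 j₀
    simp [hE, hC, comp2, hj, hj.symm, Matrix.single_apply] at k0 k1 k2
    rcases k1 with k1 | k1
    · simp [k1] at k0
    · simp [k1] at k2
  refine ⟨Cfsg.Geo.subalgebraNormalizer L ⊓ Cfsg.Geo.specialLinear (Fin n) F,
    lt_of_le_of_ne (inf_le_inf hle le_rfl) fun heq => ?_, lt_of_le_of_ne inf_le_right fun heq => ?_⟩
  · have h : x ∈ Cfsg.Geo.subalgebraNormalizer L ⊓ Cfsg.Geo.specialLinear (Fin n) F := ⟨hxL, hSL x⟩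
    rw [← heq] at h
    exact hxT h.1
  · let M : Matrix (Fin n) (Fin n) F := Matrix.single ⟨0, by omega⟩ ⟨1, by omega⟩ 1
    have hM2 : M * M = 0 := Matrix.single_mul_single_of_ne _ _ _ _ (by simp) _
    have hM0 : M ≠ 0 := fun h => one_ne_zero (α := F) (by simpa [M] using congrFun (congrFun h ⟨0, by omega⟩) ⟨1, by omega⟩)
    have hMr : Module.finrank F (LinearMap.range M.mulVecLin) ≤ 1 := by
      have h : LinearMap.range M.mulVecLin ≤ Submodule.span F {Pi.single (⟨0, by omega⟩ : Fin n) (1 : F)} := by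
        rintro _ ⟨v, rfl⟩
        refine Submodule.mem_span_singleton.mpr ⟨v ⟨1, by omega⟩, ?_⟩
        rw [mulVecLin_apply, Matrix.single_mulVec, one_mul]
        funext i
        simp [Pi.single_apply, Function.update_apply]
      refine (Submodule.finrank_mono h).trans ((finrank_span_singleton ?_).le)
      simp
    have h : uni M hM2 ∈ Cfsg.Geo.specialLinear (Fin n) F := uni_mem_SL M hM2
    rw [← heq] at h
    exact uni_not_mem hL hM2 hM0 hMr (by omega) one_lt_two h.1

/-- Over the field with 2 elements, for n = 2 n₂ ≥ 13, the stabiliser in SL_n of a tensor decomposition with factors of dimensions 2 and n₂ (the conjugate by any P of the Kronecker-product subgroup transported along any bijection Fin n ≃ Fin 2 × Fin n₂, intersected with SL_n) is not a maximal subgroup: some subgroup lies strictly between it and SL_n. -/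
theorem result {F : Type*} [Field F] [Fintype F] (n : ℕ) (hn : 13 ≤ n) (hq : Fintype.card F = 2) (n₂ : ℕ) (e : Fin n ≃ Fin 2 × Fin n₂) (P : Matrix.GeneralLinearGroup (Fin n) F) : ∃ K : Subgroup (Matrix.GeneralLinearGroup (Fin n) F), Cfsg.Geo.tensorProductSubgroup 2 n₂ e P ⊓ Cfsg.Geo.specialLinear (Fin n) F < K ∧ K < Cfsg.Geo.specialLinear (Fin n) F := by
  exact exists_overgroup hn hq e P

end Cfsg.Agent.S5638
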