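import Cfsg.Statements.S5639
import Cfsg.Agent.Lib.Transvec.LinSubfield
-- import your own Cfsg.Agent.* helpers here

set_option autoImplicit false
open Cfsg

namespace Cfsg.Agent.S5639

open CfsgLib.Transvec Matrix
open scoped MatrixGroups

/-- For a finite field F, a subfield F₀ with |F| = |F₀| ^ r for a prime r, and n ≥ 13, the subfield group (the conjugate by any P of the product of GL_n(F₀) with the non-zero scalars of F, intersected with SL_n(F)) is a maximal subgroup of SL_n(F). -/
theorem result {F : Type*} [Field F] [Fintype F] (n : ℕ) (hn : 13 ≤ n) (F₀ : Subfield F) (r : ℕ) (hr : r.Prime) (hcard : Fintype.card F = Nat.card F₀ ^ r) (P : Matrix.GeneralLinearGroup (Fin n) F) : Cfsg.Geo.IsMaximalIn (Cfsg.Geo.specialLinear (Fin n) F) (Cfsg.Geo.subfieldSubgroup F₀ P ⊓ Cfsg.Geo.specialLinear (Fin n) F) := by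
  classical
  have hlt : F₀ < (⊤ : Subfield F) := by
    refine lt_top_iff_ne_top.mpr fun h => ?_
    have h1 : Nat.card F₀ = Fintype.card F := by
      rw [← Nat.card_eq_fintype_card]
      exact Nat.card_congr (Equiv.subtypeUnivEquiv fun x => by rw [h]; trivial)
    rw [h1] at hcard
    have h2 : 1 < Fintype.card F := Fintype.one_lt_card
    exact absurd ((Nat.pow_eq_self_iff h2).mp hcard.symm) hr.one_lt.ne'
  have hgen : ∀ R : Subfield F, F₀ < R → R = ⊤ := by
    intro R hR'
    letI : Algebra F₀ R := (Subfield.inclusion hR'.le).toAlgebra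
    haveI : IsScalarTower F₀ R F := IsScalarTower.of_algebraMap_eq (fun _ => rfl)
    have hfin : Module.finrank F₀ R * Module.finrank R F = r := by
      rw [Module.finrank_mul_finrank]
      have h1 := Module.natCard_eq_pow_finrank (K := F₀) (V := F)
      rw [Nat.card_eq_fintype_card, hcard] at h1
      exact (Nat.pow_right_injective (Nat.succ_le_of_lt Finite.one_lt_card) h1).symm
    rcases Nat.prime_mul_iff.mp (hfin ▸ hr) with ⟨-, h1⟩ | ⟨-, h1⟩
    · refine top_unique fun x _ => ?_
      obtain ⟨c, hc⟩ := (finrank_eq_one_iff_of_nonzero' (1 : F) one_ne_zero).mp h1 x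
      rw [← hc, Subfield.smul_def, smul_eq_mul, mul_one]
      exact c.2
    · refine absurd (fun x hx => ?_) hR'.not_ge
      obtain ⟨c, hc⟩ := (finrank_eq_one_iff_of_nonzero' (1 : R) one_ne_zero).mp h1 ⟨x, hx⟩
      have hc' : (c : F) * 1 = x := congrArg Subtype.val hc
      rw [← hc', mul_one]
      exact c.2
  obtain ⟨i, j, hij⟩ := Fintype.exists_pair_of_one_lt_card (show 1 < Fintype.card (Fin n) by simp; omega)
  refine ⟨lt_of_le_not_ge inf_le_right fun hle => ?_, fun M hHM hMK => ?_⟩
  · obtain ⟨θ, -, hθ⟩ := SetLike.exists_of_lt hlt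
    -- a transvection with a non-rational scalar, in the coordinates of `P`
    have hd : (Pi.single j θ : Fin n → F) ⬝ᵥ Pi.single i (1 : F) = 0 := single_dotProduct_single hij θ
    have hmem : P * transv (Pi.single i (1 : F)) (Pi.single j θ) * P⁻¹ ∈ Cfsg.Geo.subfieldSubgroup F₀ P := by
      refine (hle ?_).1
      rw [mem_specialLinear_iff, Units.val_mul, Units.val_mul, Matrix.det_units_conj]
      exact (mem_specialLinear_iff _).mp (transv_mem_specialLinear _ _)
    obtain ⟨l, s, hls⟩ := lines_of_mem_subfieldSubgroup hmem (Pi.single j 1)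
    rw [mul_mulVec, mul_mulVec, inv_mulVec_cancel, ← mulVec_smul] at hls
    have h1 := mulVec_injective P hls
    rw [transv_mulVec hd, coeVec_single] at h1
    have hj := congrFun h1 j
    have hi := congrFun h1 i
    simp [hij, hij.symm, coeVec] at hj hi
    refine hθ ?_
    have hsj : (s j : F) ≠ 0 := fun h => by rw [h, mul_zero] at hj; exact one_ne_zero hj
    rw [hi, show l = ((s j : F))⁻¹ from eq_inv_of_mul_eq_one_left hj.symm]
    exact mul_mem (inv_mem (s j).2) (s i).2
  by_cases hM : M ≤ Cfsg.Geo.subfieldSubgroup F₀ P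
  · exact Or.inl (le_antisymm (le_inf hM hMK) hHM)
  right
  obtain ⟨g, hgM, hgH⟩ := SetLike.not_le_iff_exists.mp hM
  obtain ⟨u, hu⟩ : ∃ u : Fin n → F₀, ∀ (l : F) r', (g : Matrix (Fin n) (Fin n) F) *ᵥ ((P : Matrix (Fin n) (Fin n) F) *ᵥ coeVec F₀ u) ≠
      l • ((P : Matrix (Fin n) (Fin n) F) *ᵥ coeVec F₀ r') := by
    by_contra h
    simp only [not_exists, not_forall, not_not] at h
    exact hgH (mem_subfieldSubgroup_of_lines g h)
  let N := M.comap (MulAut.conj P).toMonoidHom
  have hN : ∀ x, x ∈ N ↔ P * x * P⁻¹ ∈ M := fun x => Iff.rfl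
  have hrat : LinSubfield.Rational F₀ N := by
    intro v φ hd
    rw [hN]
    have hd' : coeVec F₀ φ ⬝ᵥ coeVec F₀ v = 0 := by rw [LinSubfield.cv_dot, hd]; rfl
    refine hHM ⟨?_, ?_⟩
    · have e : Matrix.GeneralLinearGroup.map (F₀.subtype : F₀ →+* F) (transv v φ) = transv (coeVec F₀ v) (coeVec F₀ φ) := by
        apply Units.ext
        show ((transv v φ : Matrix (Fin n) (Fin n) F₀)).map (F₀.subtype : F₀ →+* F) = _
        rw [transv_val hd, transv_val hd']
        ext a b
        by_cases hab : a = b <;> simp [vecMulVec_apply, coeVec, hab]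
      rw [← e]
      exact subfieldHom_mem _
    · show _ ∈ Cfsg.Geo.specialLinear (Fin n) F
      rw [mem_specialLinear_iff, Units.val_mul, Units.val_mul, Matrix.det_units_conj]
      exact (mem_specialLinear_iff _).mp (transv_mem_specialLinear _ _)
  obtain ⟨g', hg'⟩ : ∃ g' : GL (Fin n) F, g' = P⁻¹ * g * P := ⟨_, rfl⟩
  have hg'N : g' ∈ N := by
    rw [hN, hg', show P * (P⁻¹ * g * P) * P⁻¹ = g by group]; exact hgM
  have hu0 : u ≠ 0 := fun h => hu 0 0 (by rw [h, coeVec_zero, mulVec_zero, mulVec_zero, zero_smul])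
  obtain ⟨φ, hφ0, hφ, -⟩ := LinSubfield.exists_perp_pair (F₀ := F₀) (show 3 ≤ Fintype.card (Fin n) by simp; omega) u u
  rw [dotProduct_comm] at hφ
  have hd : coeVec F₀ φ ⬝ᵥ coeVec F₀ u = 0 := by rw [LinSubfield.cv_dot, hφ]; rfl
  obtain ⟨a, ha, ha'⟩ := LinSubfield.exists_scal hrat (show 4 ≤ Fintype.card (Fin n) by simp; omega) hgen
    (u := (g' : Matrix (Fin n) (Fin n) F) *ᵥ coeVec F₀ u)
    (ψ := coeVec F₀ φ ᵥ* ((g'⁻¹ : GL (Fin n) F) : Matrix (Fin n) (Fin n) F))
    (fun l r' h => hu l r' (by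
      have h1 := congrArg ((P : Matrix (Fin n) (Fin n) F) *ᵥ ·) h
      simp only [hg', mul_mulVec, mulVec_inv_cancel, mulVec_smul] at h1
      exact h1))
    (fun h => LinSubfield.cv_ne_zero hφ0 (by
      have h1 := congrArg (fun x => x ᵥ* (g' : Matrix (Fin n) (Fin n) F)) h
      simpa [vecMul_vecMul] using h1))
    (by rw [vecMul_inv_dotProduct, hd])
    (fun c => by
      rw [← smul_vecMul, ← conj_transv g' (by rw [smul_dotProduct, hd, smul_zero])]
      exact N.mul_mem (N.mul_mem hg'N (LinSubfield.rat_smul hrat hφ c)) (N.inv_mem hg'N))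
  have hle := LinSubfield.le_of_scal hrat (show 4 ≤ Fintype.card (Fin n) by simp; omega) hgen ha ha'
  refine le_antisymm hMK fun x hx => ?_
  have hx' : P⁻¹ * x * P ∈ N := hle (by
    rw [mem_specialLinear_iff, Units.val_mul, Units.val_mul, Matrix.det_units_conj']
    exact (mem_specialLinear_iff _).mp hx)
  rwa [hN, show P * (P⁻¹ * x * P) * P⁻¹ = x by group] at hx'

end Cfsg.Agent.S5639
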