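import Cfsg.Statements.S5642
import Cfsg.Agent.Lib.Transvec.Symplectic

set_option autoImplicit false
open Cfsg

namespace Cfsg.Agent.S5642

open CfsgLib.Transvec Matrix
open scoped MatrixGroups

variable {ι : Type} [Fintype ι] [DecidableEq ι] {F : Type*} [Field F] {f : (ι → F) → (ι → F) → F}

lemma sT_mem_inter (hf : Cfsg.Geo.IsSymplecticForm f) (v : ι → F) (c : F) :
    sT f v c ∈ Cfsg.Geo.similarityGroup f ⊓ Cfsg.Geo.specialLinear ι F :=
  ⟨⟨1, fun x y => by rw [Units.val_one, one_mul]; exact iso_sT hf v c x y⟩, transv_mem_specialLinear _ _⟩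

/-- If `g` carries every line-hyperplane flag `(v, v^⊥)` to a flag of the same kind then it is a similarity. -/
lemma mem_similarity (hf : Cfsg.Geo.IsSymplecticForm f) (g : GL ι F)
    (h : ∀ v, v ≠ 0 → ∃ a : F, ∀ x, f ((g : Matrix ι ι F) *ᵥ x) ((g : Matrix ι ι F) *ᵥ v) = a * f x v) :
    g ∈ Cfsg.Geo.similarityGroup f := by
  classical
  rcases subsingleton_or_nontrivial (ι → F) with hs | hs
  · exact ⟨1, fun u v => by rw [Subsingleton.elim u 0, Subsingleton.elim v 0]; simp [zero_left' hf]⟩
  obtain ⟨v₀, hv₀⟩ := exists_ne (0 : ι → F)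
  choose a ha using h
  have hane : ∀ v (hv : v ≠ 0), a v hv ≠ 0 := by
    intro v hv h0
    obtain ⟨x, hx⟩ := (hf.nondegenerate _ (mulVec_ne_zero g hv)).1
    have := ha v hv (((g⁻¹ : GL ι F) : Matrix ι ι F) *ᵥ x)
    rw [h0, zero_mul, mulVec_inv_cancel] at this
    exact hx this
  have key : ∀ v w (hv : v ≠ 0) (hw : w ≠ 0), f v w ≠ 0 → a v hv = a w hw := by
    intro v w hv hw hvw
    have h1 := ha w hw v
    have h2 := ha v hv w
    rw [hf.skew, h1, hf.skew w v] at h2
    exact mul_right_cancel₀ hvw (by linear_combination h2)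
  have hall : ∀ v (hv : v ≠ 0), a v hv = a v₀ hv₀ := by
    intro v hv
    obtain ⟨z, -, hz1, hz2⟩ := exists_avoid (⊤ : Submodule F (ι → F)) (φ := fun x => f x v) (ψ := fun x => f x v₀)
      (fun x y => add_left' hf x y v) (fun x y => add_left' hf x y v₀)
      (by obtain ⟨x, hx⟩ := (hf.nondegenerate v hv).1; exact ⟨x, trivial, hx⟩)
      (by obtain ⟨x, hx⟩ := (hf.nondegenerate v₀ hv₀).1; exact ⟨x, trivial, hx⟩)
    have hz : z ≠ 0 := fun h => hz1 (by rw [h, zero_left' hf])
    exact ((key z v hz hv hz1).symm).trans (key z v₀ hz hv₀ hz2)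
  refine ⟨Units.mk0 _ (hane v₀ hv₀), fun u v => ?_⟩
  by_cases hv : v = 0
  · simp [hv, zero_right' hf]
  · rw [ha v hv u, hall v hv, Units.val_mk0]

/-- The similarities of a symplectic form form a maximal subgroup of SL, in dimension at least three. -/
theorem similarity_maximal (hf : Cfsg.Geo.IsSymplecticForm f) (hdim : 3 ≤ Fintype.card ι) :
    Cfsg.Geo.IsMaximalIn (Cfsg.Geo.specialLinear ι F)
      (Cfsg.Geo.similarityGroup f ⊓ Cfsg.Geo.specialLinear ι F) := by
  classical
  haveI : Nonempty ι := Fintype.card_pos_iff.mp (by omega)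
  obtain ⟨u, hu⟩ := exists_ne (0 : ι → F)
  refine ⟨lt_of_le_not_ge inf_le_right fun hle => ?_, fun M hHM hMK => ?_⟩
  · -- a transvection that is not a similarity
    let φ : (ι → F) →ₗ[F] F := toBilin hf.bilinear u
    have hker : ¬ LinearMap.ker φ ≤ Submodule.span F {u} := by
      intro hk
      have h1 := Submodule.finrank_mono hk
      have h2 : Module.finrank F (Submodule.span F ({u} : Set (ι → F))) = 1 := finrank_span_singleton hu
      have h3 := LinearMap.finrank_range_add_finrank_ker φ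
      have h4 := Submodule.finrank_le (LinearMap.range φ)
      rw [Module.finrank_fintype_fun_eq_card] at h3
      rw [Module.finrank_self] at h4
      omega
    obtain ⟨w, hw, hwu⟩ := SetLike.not_le_iff_exists.mp hker
    have huw : f u w = 0 := LinearMap.mem_ker.mp hw
    have hd : fvec f w ⬝ᵥ u = 0 := by rw [fvec_dot hf, huw]
    obtain ⟨c, hc⟩ := (hle (transv_mem_specialLinear u (fvec f w))).1
    have happ : ∀ x, (transv u (fvec f w) : Matrix ι ι F) *ᵥ x = x + f x w • u := fun x => by
      rw [transv_mulVec hd, fvec_dot hf]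
    obtain ⟨y, hy⟩ := (hf.nondegenerate u hu).2
    obtain ⟨x, hx, hxw⟩ := exists_perp_ne hf (W := Submodule.span F ({u} : Set (ι → F))) hwu
    have hxu : f x u = 0 := hx u (Submodule.mem_span_singleton_self u)
    have h1 := hc u y
    have h2 := hc x y
    simp only [happ, add_left' hf, add_right' hf, smul_left' hf, smul_right' hf, hf.alternating, huw, hxu,
      mul_zero, zero_mul, add_zero] at h1 h2
    have hc1 : (c : F) = 1 := (mul_eq_right₀ hy).mp h1.symm
    rw [hc1, one_mul] at h2
    exact mul_ne_zero hxw hy (by linear_combination h2)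
  by_cases hM : M ≤ Cfsg.Geo.similarityGroup f
  · exact Or.inl (le_antisymm (le_inf hM hMK) hHM)
  right
  refine le_antisymm hMK (specialLinear_le ?_)
  obtain ⟨g, hgM, hg⟩ := SetLike.not_le_iff_exists.mp hM
  have hfull : ∀ v, Full f M v := fun v c => hHM (sT_mem_inter hf v c)
  -- some transvection outside the similarity group
  obtain ⟨v, hv, hnot⟩ : ∃ v, v ≠ 0 ∧
      ∀ a : F, ∃ x, f ((g : Matrix ι ι F) *ᵥ x) ((g : Matrix ι ι F) *ᵥ v) ≠ a * f x v := by
    by_contra hcon
    simp only [not_exists, not_and, not_forall, not_exists, not_not] at hcon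
    exact hg (mem_similarity hf g hcon)
  set p := (g : Matrix ι ι F) *ᵥ v with hp
  have hp0 : p ≠ 0 := mulVec_ne_zero g hv
  obtain ⟨w, hw⟩ := fvec_surjective hf (fvec f v ᵥ* ((g⁻¹ : GL ι F) : Matrix ι ι F))
  have hfw : ∀ x, f ((g : Matrix ι ι F) *ᵥ x) w = f x v := fun x => by
    rw [← fvec_dot hf, hw, vecMul_inv_dotProduct, fvec_dot hf]
  have hpw : f p w = 0 := by rw [hp, hfw, hf.alternating]
  have hwp : ∀ a : F, w ≠ a • p := by
    intro a ha
    by_cases h0 : a = 0
    · obtain ⟨x, hx⟩ := (hf.nondegenerate v hv).1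
      exact hx (by rw [← hfw, ha, h0, zero_smul, zero_right' hf])
    · obtain ⟨x, hx⟩ := hnot a⁻¹
      refine hx ?_
      rw [← hfw x, ha, smul_right' hf, ← mul_assoc, inv_mul_cancel₀ h0, one_mul]
  have hT : ∀ c : F, transv p (c • fvec f w) ∈ M := by
    intro c
    have h1 := M.mul_mem (M.mul_mem hgM (hfull v c)) (M.inv_mem hgM)
    have h2 : g * sT f v c * g⁻¹ = transv p (c • fvec f w) := by
      rw [sT, conj_transv g (sT_dot hf v c), smul_vecMul, hw, hp]
    rwa [h2] at h1
  -- every functional vanishing on p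
  have hPt : ∀ φ : ι → F, φ ⬝ᵥ p = 0 → transv p φ ∈ M := by
    intro φ hφ
    obtain ⟨w', rfl⟩ := fvec_surjective hf φ
    rw [fvec_dot hf] at hφ
    by_cases hw' : w' ∈ Submodule.span F ({p} : Set (ι → F))
    · obtain ⟨a, rfl⟩ := Submodule.mem_span_singleton.mp hw'
      have : fvec f (a • p) = a • fvec f p := funext fun j => smul_right' hf a _ p
      rw [this]
      exact hfull p a
    · obtain ⟨h, hh, hi, hwe, hfix⟩ := exists_move_fix hf hfull (Submodule.span F ({p} : Set (ι → F)))
        (v := w) (b := w') (fun h => by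
          obtain ⟨a, ha⟩ := Submodule.mem_span_singleton.mp h
          exact hwp a ha.symm) hw'
        (fun e he => by
          obtain ⟨a, rfl⟩ := Submodule.mem_span_singleton.mp he
          rw [smul_left' hf, smul_left' hf, hpw, hφ])
      have hhp : (h : Matrix ι ι F) *ᵥ p = p := hfix p (Submodule.mem_span_singleton_self p)
      have h1 := M.mul_mem (M.mul_mem hh (hT 1)) (M.inv_mem hh)
      rw [one_smul, conj_transv h (by rw [fvec_dot hf, hpw]), hhp] at h1
      have h2 : fvec f w ᵥ* ((h⁻¹ : GL ι F) : Matrix ι ι F) = fvec f w' := funext fun j => by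
        have h3 : (fvec f w ᵥ* ((h⁻¹ : GL ι F) : Matrix ι ι F)) ⬝ᵥ Pi.single j 1 = fvec f w' ⬝ᵥ Pi.single j 1 := by
          rw [← dotProduct_mulVec, fvec_dot hf, fvec_dot hf, ← hi, mulVec_inv_cancel, hwe]
        simpa using h3
      rwa [h2] at h1
  intro q φ hφ
  by_cases hq : q = 0
  · subst hq
    have : transv (0 : ι → F) φ = 1 := gl_ext fun x => by rw [transv_mulVec hφ]; simp
    rw [this]; exact M.one_mem
  obtain ⟨h, hh, hi, he, -⟩ := exists_move_in hf (M := M) (W := ⊤) (fun x _ => hfull x)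
    (fun z _ hz => by obtain ⟨x, hx⟩ := (hf.nondegenerate z hz).1; exact ⟨x, trivial, hx⟩)
    trivial trivial hp0 hq
  have hd : (φ ᵥ* (h : Matrix ι ι F)) ⬝ᵥ p = 0 := by rw [← dotProduct_mulVec, he, hφ]
  have h1 := M.mul_mem (M.mul_mem hh (hPt _ hd)) (M.inv_mem hh)
  rwa [conj_transv h hd, he, vecMul_vecMul, ← Units.val_mul, mul_inv_cancel, Units.val_one, vecMul_one] at h1

/-- For a finite field F and n ≥ 13, let f be a non-degenerate symplectic form on F^n (so n is even). Then the elements of SL_n(F) that are similarities of f (f(gu, gv) = c f(u, v) for a non-zero scalar c depending on g) form a maximal subgroup of SL_n(F). -/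
theorem result {F : Type*} [Field F] [Fintype F] (n : ℕ) (hn : 13 ≤ n) (f : (Fin n → F) → (Fin n → F) → F) (hf : Cfsg.Geo.IsSymplecticForm f) : Cfsg.Geo.IsMaximalIn (Cfsg.Geo.specialLinear (Fin n) F) (Cfsg.Geo.similarityGroup f ⊓ Cfsg.Geo.specialLinear (Fin n) F) := by
  exact similarity_maximal hf (by rw [Fintype.card_fin]; omega)

end Cfsg.Agent.S5642
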