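import Cfsg.Statements.S5643
import Cfsg.Agent.Lib.Transvec.Unitary

set_option autoImplicit false
open Cfsg

namespace Cfsg.Agent.S5643

open CfsgLib.Transvec CfsgLib.Transvec.Unitary Matrix

/-- For a finite field F and n ≥ 13, let σ be a field automorphism of F of order two and f a non-degenerate unitary form on F^n with respect to σ. Then the elements of SL_n(F) that are similarities of f form a maximal subgroup of SL_n(F). -/
theorem result {F : Type*} [Field F] [Fintype F] (n : ℕ) (hn : 13 ≤ n) (σ : F ≃+* F) (f : (Fin n → F) → (Fin n → F) → F) (hf : Cfsg.Geo.IsUnitaryForm σ f) : Cfsg.Geo.IsMaximalIn (Cfsg.Geo.specialLinear (Fin n) F) (Cfsg.Geo.similarityGroup f ⊓ Cfsg.Geo.specialLinear (Fin n) F) := by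
  have hdim : 5 ≤ Fintype.card (Fin n) := by rw [Fintype.card_fin]; omega
  refine ⟨lt_of_le_not_ge inf_le_right fun hle => ?_, fun M hHM hMK => ?_⟩
  · obtain ⟨v, hv, -, hvs⟩ := exists_iso_perp hf hdim 0
    obtain ⟨w, hwv, -, hw⟩ := exists_perp_two hf hdim v v (Submodule.span F {v})
      (le_trans (finrank_span_le_card _) (by simp))
    have hd : uvec f w ⬝ᵥ v = 0 := by rw [uvec_dot hf, (eq_zero_comm hf).mp hwv]
    obtain ⟨c, hc⟩ := (hle (transv_mem_specialLinear v (uvec f w))).1
    obtain ⟨x, hxv, hxw⟩ := exists_perp_pair hf hw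
    have hv0 : v ≠ 0 := fun h0 => hvs (by rw [h0]; exact Submodule.zero_mem _)
    obtain ⟨y, hy⟩ := (hf.nondegenerate v hv0).2
    have hyv : f y v ≠ 0 := fun h0 => hy ((eq_zero_comm hf).mp h0)
    have happ : ∀ z, (transv v (uvec f w) : Matrix (Fin n) (Fin n) F) *ᵥ z = z + f z w • v := fun z => by
      rw [transv_mulVec hd, uvec_dot hf]
    have hvw : f v w = 0 := (eq_zero_comm hf).mp hwv
    have h1 := hc y v
    rw [happ, happ, hvw, zero_smul, add_zero, hf.add_left, hf.smul_left, hv, mul_zero, add_zero] at h1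
    have hc1 : (c : F) = 1 := (mul_eq_right₀ hyv).mp h1.symm
    have h2 := hc x y
    rw [happ, happ, hc1, one_mul, hf.add_left, hf.smul_left, Unitary.add_right' hf, Unitary.add_right' hf,
      Unitary.smul_right' hf, Unitary.smul_right' hf, hv, hxv] at h2
    exact mul_ne_zero hxw hy (by linear_combination h2)
  by_cases hM : M ≤ Cfsg.Geo.similarityGroup f
  · exact Or.inl (le_antisymm (le_inf hM hMK) hHM)
  right
  obtain ⟨g, hgM, hg⟩ := SetLike.not_le_iff_exists.mp hM
  refine le_antisymm hMK (specialLinear_le (all_pairs_of_not_similarity hf (fun v hv c hc => hHM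
    ⟨⟨1, fun x y => ?_⟩, transv_mem_specialLinear _ _⟩) hdim hgM hg))
  rw [Units.val_one, one_mul]
  exact iso_uT hf hv hc x y

end Cfsg.Agent.S5643
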