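import Cfsg.Statements.S5644
import Cfsg.Agent.Lib.Transvec.OrthOverSL
import Cfsg.Agent.Lib.Transvec.Symplectic
-- import your own Cfsg.Agent.* helpers here

set_option autoImplicit false
open Cfsg

namespace Cfsg.Agent.S5644

open CfsgLib.Transvec CfsgLib.Transvec.OrthOverSL Matrix
open scoped MatrixGroups

/-- For a finite field F of odd order and n ≥ 13, let Q be a non-degenerate quadratic form on F^n (its polar form is non-degenerate). Then the elements of SL_n(F) that are similarities of Q (Q(gv) = c Q(v) for a non-zero scalar c depending on g) form a maximal subgroup of SL_n(F). -/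
theorem result {F : Type*} [Field F] [Fintype F] (n : ℕ) (hn : 13 ≤ n) (hodd : Odd (Fintype.card F)) (Q : (Fin n → F) → F) (hQ : Cfsg.Geo.IsNondegenerateQuadraticForm Q) : Cfsg.Geo.IsMaximalIn (Cfsg.Geo.specialLinear (Fin n) F) (Cfsg.Geo.quadSimilarityGroup Q ⊓ Cfsg.Geo.specialLinear (Fin n) F) := by
  classical
  have h2 : (2 : F) ≠ 0 := fun h => by
    haveI : CharP F 2 := CharTwo.of_one_ne_zero_of_two_eq_zero one_ne_zero h
    have := FiniteField.even_card_iff_char_two.mp (ringChar.eq F 2)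
    rw [Nat.odd_iff] at hodd
    omega
  have hbil := hQ.polar_bilinear
  obtain ⟨B, hBdef⟩ : ∃ B, B = toBilin hbil := ⟨_, rfl⟩
  have hBapp : ∀ x y, B x y = QuadraticMap.polar Q x y := fun x y => by rw [hBdef]; rfl
  have hBQ : ∀ x, B x x = 2 * Q x := fun x => by
    rw [hBapp, QuadraticMap.polar, ← two_smul F x, hQ.smul]; ring
  have hB : IsSymForm B :=
    ⟨fun x y => by rw [hBapp, hBapp, QuadraticMap.polar_comm],
      fun v hv => by obtain ⟨x, hx⟩ := (hQ.nondegenerate v hv).1; exact ⟨x, by rw [hBapp]; exact hx⟩, h2⟩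
  refine ⟨lt_of_le_not_ge inf_le_right fun hle => ?_, fun M hHM hMK => ?_⟩
  · obtain ⟨v, hv⟩ : ∃ v, Q v ≠ 0 := by
      by_contra hcon
      simp only [not_exists, not_not] at hcon
      have hz : ∀ x y, B x y = 0 := fun x y => by rw [hBapp, QuadraticMap.polar, hcon, hcon, hcon]; ring
      obtain ⟨x, hx⟩ := hB.nondeg (Pi.single ⟨0, by omega⟩ 1) (by simp)
      exact hx (hz _ _)
    obtain ⟨z, hz, -, hzv⟩ := exists_sing_avoid hB (Submodule.span F {bvec B v}) (Submodule.span F {v}) (by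
      have := finrank_span_one_le (bvec B v)
      have := finrank_span_one_le v
      simp only [Fintype.card_fin]
      omega)
    have hvz : B v z = 0 := by
      rw [hB.symm, ← bvec_dot]; exact hz _ (Submodule.mem_span_singleton_self _)
    have hd : bvec B z ⬝ᵥ v = 0 := by rw [bvec_dot, hvz]
    obtain ⟨c, hc⟩ := (hle (transv_mem_specialLinear v (bvec B z))).1
    have happ : ∀ x, (transv v (bvec B z) : Matrix (Fin n) (Fin n) F) *ᵥ x = x + B x z • v := fun x => by
      rw [transv_mulVec hd, bvec_dot]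
    have h1 := hc v
    rw [happ, hvz, zero_smul, add_zero] at h1
    have hc1 : (c : F) = 1 := ((mul_eq_right₀ hv).mp h1.symm)
    obtain ⟨x, hx1, hx2⟩ := exists_functional (E := Submodule.span F {bvec B v}) (u := bvec B z) (fun hm => hzv (by
      obtain ⟨k, hk⟩ := Submodule.mem_span_singleton.mp hm
      exact Submodule.mem_span_singleton.mpr ⟨k, bvec_injective hB (by rw [map_smul, hk])⟩))
    have hxv : B x v = 0 := by
      rw [← bvec_dot, dotProduct_comm]; exact hx1 _ (Submodule.mem_span_singleton_self _)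
    have hxz : B x z = 1 := by rw [← bvec_dot, dotProduct_comm, hx2]
    have h3 := hc x
    rw [happ, hc1, one_mul, hxz, one_smul] at h3
    have h4 : B (x + v) (x + v) = B x x := by rw [hBQ, hBQ, h3]
    simp only [map_add, LinearMap.add_apply, hxv, hB.symm v x, hBQ v] at h4
    exact mul_ne_zero h2 hv (by linear_combination h4)
  by_cases hM : M ≤ Cfsg.Geo.quadSimilarityGroup Q
  · exact Or.inl (le_antisymm (le_inf hM hMK) hHM)
  right
  obtain ⟨g, hgM, hg⟩ := SetLike.not_le_iff_exists.mp hM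
  have hX : ∀ a b, B a a = 0 → B b b = 0 → B a b = 0 → oX B a b ∈ M := fun a b ha hb hab => by
    refine hHM ⟨⟨1, fun x => ?_⟩, oX_mem_specialLinear a b⟩
    rw [Units.val_one, one_mul]
    have := oX_iso hB ha hb hab x x
    rw [hBQ, hBQ] at this
    exact mul_left_cancel₀ h2 this
  obtain ⟨T, hT⟩ : ∃ T, T = Matrix.toLin' ((g⁻¹ : GL (Fin n) F) : Matrix (Fin n) (Fin n) F) := ⟨_, rfl⟩
  obtain ⟨B', hB'def⟩ : ∃ B' : LinearMap.BilinForm F (Fin n → F), B' = LinearMap.compl₁₂ B T T := ⟨_, rfl⟩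
  have hB'app : ∀ x y, B' x y = B (((g⁻¹ : GL (Fin n) F) : Matrix _ _ F) *ᵥ x) (((g⁻¹ : GL (Fin n) F) : Matrix _ _ F) *ᵥ y) :=
    fun x y => by simp [hB'def, hT]
  have hB' : IsSymForm B' := by
    refine ⟨fun x y => by rw [hB'app, hB'app, hB.symm], fun v hv => ?_, h2⟩
    obtain ⟨x, hx⟩ := hB.nondeg _ (mulVec_ne_zero g⁻¹ hv)
    exact ⟨(g : Matrix _ _ F) *ᵥ x, by rw [hB'app, inv_mulVec_cancel]; exact hx⟩
  have hconj : ∀ w, bvec B w ᵥ* ((g⁻¹ : GL (Fin n) F) : Matrix _ _ F) = bvec B' ((g : Matrix _ _ F) *ᵥ w) := by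
    intro w
    funext j
    have h : (bvec B w ᵥ* ((g⁻¹ : GL (Fin n) F) : Matrix _ _ F)) ⬝ᵥ Pi.single j 1 =
        bvec B' ((g : Matrix _ _ F) *ᵥ w) ⬝ᵥ Pi.single j 1 := by
      rw [← dotProduct_mulVec, bvec_dot, bvec_dot, hB'app, inv_mulVec_cancel]
    simpa using h
  have hX' : ∀ a b, B' a a = 0 → B' b b = 0 → B' a b = 0 → oX B' a b ∈ M := by
    intro a b ha hb hab
    obtain ⟨a0, rfl⟩ : ∃ a0 : Fin n → F, a = (g : Matrix (Fin n) (Fin n) F) *ᵥ a0 := ⟨_, (mulVec_inv_cancel g a).symm⟩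
    obtain ⟨b0, rfl⟩ : ∃ b0 : Fin n → F, b = (g : Matrix (Fin n) (Fin n) F) *ᵥ b0 := ⟨_, (mulVec_inv_cancel g b).symm⟩
    rw [hB'app, inv_mulVec_cancel] at ha hb
    rw [hB'app, inv_mulVec_cancel, inv_mulVec_cancel] at hab
    have hba : B b0 a0 = 0 := by rw [hB.symm, hab]
    have e : g * oX B a0 b0 * g⁻¹ = oX B' ((g : Matrix _ _ F) *ᵥ a0) ((g : Matrix _ _ F) *ᵥ b0) := by
      rw [oX, oX, show g * (transv a0 (bvec B b0) * transv b0 (-bvec B a0)) * g⁻¹ =
        (g * transv a0 (bvec B b0) * g⁻¹) * (g * transv b0 (-bvec B a0) * g⁻¹) by group,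
        conj_transv _ (by rw [bvec_dot, hab]), conj_transv _ (by rw [neg_dotProduct, bvec_dot, hba, neg_zero]),
        neg_vecMul, hconj, hconj]
    rw [← e]
    exact M.mul_mem (M.mul_mem hgM (hX a0 b0 ha hb hab)) (M.inv_mem hgM)
  have hne : ∀ l : F, ∃ x, bvec B' x ≠ l • bvec B x := by
    intro l
    by_contra hcon
    simp only [not_exists, not_not] at hcon
    have key : ∀ x, Q (((g⁻¹ : GL (Fin n) F) : Matrix _ _ F) *ᵥ x) = l * Q x := fun x => by
      have h1 := congrArg (· ⬝ᵥ x) (hcon x)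
      simp only [smul_dotProduct, bvec_dot, hB'app, hBQ, smul_eq_mul] at h1
      exact mul_left_cancel₀ h2 (by rw [h1]; ring)
    have hl : l ≠ 0 := by
      intro hl
      obtain ⟨i⟩ : Nonempty (Fin n) := ⟨⟨0, by omega⟩⟩
      obtain ⟨y, hy⟩ := hB'.nondeg (Pi.single i 1) (by simp)
      refine hy ?_
      rw [← bvec_dot, hcon, hl, zero_smul, zero_dotProduct]
    refine hg ((Cfsg.Geo.quadSimilarityGroup Q).inv_mem (x := g⁻¹) ⟨Units.mk0 l hl, fun x => key x⟩ |> fun h => ?_)
    rwa [inv_inv] at h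
  obtain ⟨v, z, hz0, hvz, hv, ht⟩ := exists_transv hB hX (by simp; omega) hB' hX' hne
  exact le_antisymm hMK (specialLinear_le (all_transv hB hX (by simp; omega) hz0 hvz hv ht))

end Cfsg.Agent.S5644
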