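import Cfsg.Statements.S5645
import Cfsg.Agent.Lib.Transvec.Stabilizer

set_option autoImplicit false
open Cfsg

namespace Cfsg.Agent.S5645

open CfsgLib.Transvec Matrix
open scoped MatrixGroups

variable {ι : Type} [Fintype ι] [DecidableEq ι] {F : Type*} [Field F] {f : (ι → F) → (ι → F) → F}

/-- A group containing the stabiliser of a totally singular subspace and one more isometry contains every
transvection. -/
theorem all_full (hf : Cfsg.Geo.IsSymplecticForm f) {W : Submodule F (ι → F)} (hW : ∀ u ∈ W, ∀ v ∈ W, f u v = 0)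
    {M : Subgroup (GL ι F)} (hstab : ∀ g, Iso f g → g ∈ Cfsg.Geo.subspaceStabilizer W → g ∈ M)
    {g : GL ι F} (hgM : g ∈ M) (hg : Iso f g) (hgW : g ∉ Cfsg.Geo.subspaceStabilizer W) : ∀ x, Full f M x := by
  have hperp : ∀ v ∈ perp hf W, Full f M v := fun v hv c => hstab _ (iso_sT hf v c)
    (sT_mem_stab_of_perp hf (fun x hx => by rw [hf.skew, (mem_perp_iff hf).mp hv x hx, neg_zero]) c)
  have hWperp : W ≤ perp hf W := fun w hw => (mem_perp_iff hf).mpr (hW w hw)
  obtain ⟨u, hu, huW⟩ : ∃ u, Full f M u ∧ u ∉ perp hf W := by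
    by_contra hcon
    simp only [not_exists, not_and, not_not] at hcon
    exact hgW (mem_subspaceStabilizer_of_maps (maps_of_maps_perp hf hg
      fun x hx => hcon _ (full_conj hf hgM hg (hperp x hx))))
  -- the whole class modulo the orthogonal of W
  have hclass : ∀ u, Full f M u → u ∉ perp hf W → ∀ z ∈ perp hf W, Full f M (u + z) := by
    intro u hu huW z hz
    by_cases h : f u z = 0
    · rw [mem_perp_iff hf] at huW
      simp only [not_forall] at huW
      obtain ⟨w, hw, huw⟩ := huW
      have h1 : Full f M (u + (1 : F) • w) := full_add_smul hf hu (hperp _ (hWperp hw)) huw _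
      rw [one_smul] at h1
      have hwz : f w z = 0 := by rw [hf.skew, (mem_perp_iff hf).mp hz w hw, neg_zero]
      have h2 : f (u + w) (z - w) ≠ 0 := by
        rw [add_left' hf, sub_right' hf, sub_right' hf, h, hwz, hf.alternating, sub_self, add_zero, zero_sub]
        exact neg_ne_zero.mpr huw
      have h3 := full_add_smul hf h1 (hperp _ ((perp hf W).sub_mem hz (hWperp hw))) h2 1
      rwa [one_smul, show u + w + (z - w) = u + z by abel] at h3
    · simpa using full_add_smul hf hu (hperp z hz) h 1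
  intro x
  by_cases hx : x ∈ perp hf W
  · exact hperp x hx
  by_cases hA : ∃ w ∈ W, f u w ≠ 0 ∧ f (x - u) w = 0
  · obtain ⟨w, hw, huw, hxw⟩ := hA
    obtain ⟨z, hz⟩ : ∃ z, z = (f u w)⁻¹ • (x - u) := ⟨_, rfl⟩
    have hzw : f z w = 0 := by rw [hz, smul_left' hf, hxw, mul_zero]
    let σ : (ι → F) →ₗ[F] (ι → F) := LinearMap.id + ((toBilin hf.bilinear).flip w).smulRight z +
      ((toBilin hf.bilinear).flip z).smulRight w
    have hσ : ∀ y, σ y = y + f y w • z + f y z • w := fun y => rfl
    have hiso : ∀ a b, f (σ a) (σ b) = f a b := by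
      intro a b
      have hwz : f w z = 0 := by rw [hf.skew, hzw, neg_zero]
      simp only [hσ, add_left' hf, add_right' hf, smul_left' hf, smul_right' hf, hf.alternating, hzw, hwz,
        hf.skew z b, hf.skew w b]
      ring
    obtain ⟨e, he⟩ : ∃ e, e = glOfInjective σ (injective_of_isometric hf hiso) := ⟨_, rfl⟩
    have hemul : ∀ y, (e : Matrix ι ι F) *ᵥ y = y + f y w • z + f y z • w := fun y => by
      rw [he, glOfInjective_mulVec, hσ]
    have heI : Iso f e := fun a b => by rw [he, glOfInjective_mulVec, glOfInjective_mulVec, hiso]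
    have heM : e ∈ M := hstab e heI (mem_subspaceStabilizer_of_maps fun y hy => by
      rw [hemul, hW y hy w hw, zero_smul, add_zero]; exact W.add_mem hy (W.smul_mem _ hw))
    have hy := full_conj hf heM heI hu
    rw [hemul, hz, smul_inv_smul₀ huw, add_sub_cancel, ← hz] at hy
    have h4 := hclass _ hy (fun h => hx ?_) (-(f u z • w)) ((perp hf W).neg_mem ((perp hf W).smul_mem _ (hWperp hw)))
    · rwa [add_neg_cancel_right] at h4
    · have := (perp hf W).sub_mem h ((perp hf W).smul_mem (f u z) (hWperp hw))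
      rwa [add_sub_cancel_right] at this
  · simp only [not_exists, not_and] at hA
    rw [mem_perp_iff hf] at huW
    simp only [not_forall] at huW
    obtain ⟨w₀, hw₀, huw₀⟩ := huW
    have hk : f (x - u) w₀ ≠ 0 := fun h => hA w₀ hw₀ huw₀ h
    obtain ⟨l, hl⟩ : ∃ l, l = f x w₀ / f u w₀ := ⟨_, rfl⟩
    have hprop : ∀ w ∈ W, f x w = l * f u w := by
      intro w hw
      have h1 : f (x - u) (w - (f (x - u) w / f (x - u) w₀) • w₀) = 0 := by
        rw [sub_right' hf, smul_right' hf, div_mul_cancel₀ _ hk, sub_self]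
      have h2 : f u (w - (f (x - u) w / f (x - u) w₀) • w₀) = 0 := by
        by_contra h
        exact hA _ (W.sub_mem hw (W.smul_mem _ hw₀)) h h1
      rw [sub_right' hf, smul_right' hf, sub_eq_zero, div_mul_eq_mul_div, eq_div_iff hk, sub_left' hf,
        sub_left' hf] at h2
      rw [hl, div_mul_eq_mul_div, eq_div_iff huw₀]
      linear_combination -h2
    have hl0 : l ≠ 0 := fun h => hx ((mem_perp_iff hf).mpr fun w hw => by rw [hprop w hw, h, zero_mul])
    have h5 := hclass _ (full_smul hf hu l) (fun h => huw₀ ?_) (x - l • u)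
      ((mem_perp_iff hf).mpr fun w hw => by rw [sub_left' hf, smul_left' hf, hprop w hw, sub_self])
    · rwa [add_sub_cancel] at h5
    · have := (mem_perp_iff hf).mp h w₀ hw₀
      rw [smul_left' hf, mul_eq_zero] at this
      exact this.resolve_left hl0

/-- The general form of the statement. -/
theorem result_of_le {F : Type*} [Field F] [Fintype F] (m : ℕ) (hm : 3 ≤ m) (W : Submodule F (Fin m ⊕ Fin m → F)) (hW0 : W ≠ ⊥) (hW : Cfsg.Geo.IsTotallySingularFor (Cfsg.sympForm m F) W) : Cfsg.Geo.IsMaximalIn (Cfsg.spGL m F) (Cfsg.Geo.subspaceStabilizer W ⊓ Cfsg.spGL m F) := by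
  have hf := isSymplecticForm_sympForm (F := F) m
  refine ⟨lt_of_le_not_ge inf_le_right fun hle => ?_, fun M hHM hMK => ?_⟩
  · obtain ⟨w, hw, hw0⟩ := Submodule.exists_mem_ne_zero_of_ne_bot hW0
    obtain ⟨y, hy⟩ := (hf.nondegenerate w hw0).2
    have h := mulVec_mem_of_mem_subspaceStabilizer (hle (sT_mem_spGL m y 1)).1 hw
    rw [sT_mulVec hf, one_mul, W.add_mem_iff_right hw] at h
    have h2 : y ∈ W := by
      have := W.smul_mem (Cfsg.sympForm m F w y)⁻¹ h
      rwa [inv_smul_smul₀ hy] at this
    exact hy (hW w hw y h2)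
  by_cases hM : M ≤ Cfsg.Geo.subspaceStabilizer W
  · exact Or.inl (le_antisymm (le_inf hM hMK) hHM)
  right
  obtain ⟨g, hgM, hg⟩ := SetLike.not_le_iff_exists.mp hM
  exact le_antisymm hMK (spGL_le_of_full (all_full hf hW (fun h hi hs => hHM ⟨hs, hi⟩) hgM (hMK hgM) hg))

/-- For a finite field F and m ≥ 7, in the symplectic group Sp_2m(F) of the standard alternating form on F^(2m) (as a subgroup of GL_2m(F)), the stabiliser of any non-zero subspace on which the form vanishes identically is a maximal subgroup. -/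
theorem result {F : Type*} [Field F] [Fintype F] (m : ℕ) (hm : 7 ≤ m) (W : Submodule F (Fin m ⊕ Fin m → F)) (hW0 : W ≠ ⊥) (hW : Cfsg.Geo.IsTotallySingularFor (Cfsg.sympForm m F) W) : Cfsg.Geo.IsMaximalIn (Cfsg.spGL m F) (Cfsg.Geo.subspaceStabilizer W ⊓ Cfsg.spGL m F) :=
  result_of_le m (le_trans (by norm_num) hm) W hW0 hW

end Cfsg.Agent.S5645
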