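import Cfsg.Statements.S5646
import Cfsg.Agent.Lib.Transvec.Stabilizer

set_option autoImplicit false
open Cfsg

namespace Cfsg.Agent.S5646

open CfsgLib.Transvec Matrix
open scoped MatrixGroups

variable {ι : Type} [Fintype ι] [DecidableEq ι] {F : Type*} [Field F] {f : (ι → F) → (ι → F) → F}

/-- A group containing the stabiliser of a non-degenerate subspace, smaller than its orthogonal, and one more
isometry contains every transvection. -/
theorem all_full (hf : Cfsg.Geo.IsSymplecticForm f) {W : Submodule F (ι → F)}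
    (hnd : ∀ w ∈ W, w ≠ 0 → ∃ x ∈ W, f x w ≠ 0) (hdim : 2 * Module.finrank F W < Fintype.card ι)
    {M : Subgroup (GL ι F)} (hstab : ∀ g, Iso f g → g ∈ Cfsg.Geo.subspaceStabilizer W → g ∈ M)
    {g : GL ι F} (hgM : g ∈ M) (hg : Iso f g) (hgW : g ∉ Cfsg.Geo.subspaceStabilizer W) : ∀ x, Full f M x := by
  have hin : ∀ v ∈ W, Full f M v := fun v hv c => hstab _ (iso_sT hf v c) (sT_mem_stab_of_mem hf hv c)
  have hperp : ∀ v ∈ perp hf W, Full f M v := fun v hv c => hstab _ (iso_sT hf v c)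
    (sT_mem_stab_of_perp hf (fun x hx => by rw [hf.skew, (mem_perp_iff hf).mp hv x hx, neg_zero]) c)
  obtain ⟨u, hu, huW, huP⟩ : ∃ u, Full f M u ∧ u ∉ W ∧ u ∉ perp hf W := by
    by_contra hcon
    simp only [not_exists, not_and, not_not] at hcon
    let T := Matrix.toLin' (g : Matrix ι ι F)
    have hun : ((perp hf W).map T : Set (ι → F)) ⊆ (W : Set (ι → F)) ∪ (perp hf W : Set (ι → F)) := by
      rintro _ ⟨x, hx, rfl⟩
      by_cases h : T x ∈ W
      · exact Or.inl h
      · exact Or.inr (hcon _ (by rw [Matrix.toLin'_apply]; exact full_conj hf hgM hg (hperp x hx)) h)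
    rcases AddSubgroupClass.subset_union.mp hun with h | h
    · have h1 := Submodule.finrank_mono (s := (perp hf W).map T) (t := W) h
      rw [finrank_map_gl, finrank_perp hf] at h1
      omega
    · exact hgW (mem_subspaceStabilizer_of_maps (maps_of_maps_perp hf hg
        fun x hx => h ⟨x, hx, Matrix.toLin'_apply _ x⟩))
  obtain ⟨a, ha, b, hb, rfl⟩ := exists_add_perp hf hnd u
  have ha0 : a ≠ 0 := by rintro rfl; exact huP (by rwa [zero_add])
  have hb0 : b ≠ 0 := by rintro rfl; exact huW (by rwa [add_zero])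
  intro x
  obtain ⟨a', ha', b', hb', rfl⟩ := exists_add_perp hf hnd x
  by_cases ha0' : a' = 0
  · rw [ha0', zero_add]; exact hperp _ hb'
  by_cases hb0' : b' = 0
  · rw [hb0', add_zero]; exact hin _ ha'
  obtain ⟨h, hh, hi, he, hfix⟩ := exists_move_in hf hin hnd ha ha' ha0 ha0'
  obtain ⟨k, hk, hki, hke, hkfix⟩ := exists_move_in hf hperp (perp_nondegenerate hf hnd) hb hb' hb0 hb0'
  have := full_conj hf hk hki (full_conj hf hh hi hu)
  rwa [mulVec_add, he, hfix b ((mem_perp_iff hf).mp hb), mulVec_add, hke,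
    hkfix a' (fun w hw => by rw [hf.skew, (mem_perp_iff hf).mp hw a' ha', neg_zero])] at this

/-- The general form of the statement. -/
theorem result_of_le {F : Type*} [Field F] [Fintype F] (m : ℕ) (hm : 3 ≤ m) (W : Submodule F (Fin m ⊕ Fin m → F)) (hW0 : W ≠ ⊥) (hW : Cfsg.Geo.IsNondegenerateOn (Cfsg.sympForm m F) W) (hdim : Module.finrank F W < m) : Cfsg.Geo.IsMaximalIn (Cfsg.spGL m F) (Cfsg.Geo.subspaceStabilizer W ⊓ Cfsg.spGL m F) := by
  have hf := isSymplecticForm_sympForm (F := F) m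
  have hnd : ∀ w ∈ W, w ≠ 0 → ∃ x ∈ W, Cfsg.sympForm m F x w ≠ 0 := fun w hw h => (hW w hw h).1
  have hd : 2 * Module.finrank F W < Fintype.card (Fin m ⊕ Fin m) := by simp; omega
  refine ⟨lt_of_le_not_ge inf_le_right fun hle => ?_, fun M hHM hMK => ?_⟩
  · obtain ⟨a, ha, ha0⟩ := Submodule.exists_mem_ne_zero_of_ne_bot hW0
    obtain ⟨b, hb, hb0⟩ : ∃ b ∈ perp hf W, b ≠ 0 := Submodule.exists_mem_ne_zero_of_ne_bot fun h => by
      have := finrank_perp hf W
      rw [h, finrank_bot] at this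
      omega
    obtain ⟨x, hx, hxa⟩ := hnd a ha ha0
    have h := mulVec_mem_of_mem_subspaceStabilizer (hle (sT_mem_spGL m (a + b) 1)).1 hx
    rw [sT_mulVec hf, one_mul, W.add_mem_iff_right hx, add_right' hf, hf.skew x b,
      (mem_perp_iff hf).mp hb x hx, neg_zero, add_zero] at h
    have h2 : a + b ∈ W := by
      have := W.smul_mem (Cfsg.sympForm m F x a)⁻¹ h
      rwa [inv_smul_smul₀ hxa] at this
    obtain ⟨y, hy, hyb⟩ := hnd b ((W.add_mem_iff_right ha).mp h2) hb0
    exact hyb (by rw [hf.skew, (mem_perp_iff hf).mp hb y hy, neg_zero])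
  by_cases hM : M ≤ Cfsg.Geo.subspaceStabilizer W
  · exact Or.inl (le_antisymm (le_inf hM hMK) hHM)
  right
  obtain ⟨g, hgM, hg⟩ := SetLike.not_le_iff_exists.mp hM
  exact le_antisymm hMK (spGL_le_of_full (all_full hf hnd hd (fun h hi hs => hHM ⟨hs, hi⟩) hgM (hMK hgM) hg))

/-- For a finite field F and m ≥ 7, in the symplectic group Sp_2m(F) of the standard alternating form on F^(2m), the stabiliser of any non-zero subspace W on which the form is non-degenerate and with dim W < m is a maximal subgroup. -/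
theorem result {F : Type*} [Field F] [Fintype F] (m : ℕ) (hm : 7 ≤ m) (W : Submodule F (Fin m ⊕ Fin m → F)) (hW0 : W ≠ ⊥) (hW : Cfsg.Geo.IsNondegenerateOn (Cfsg.sympForm m F) W) (hdim : Module.finrank F W < m) : Cfsg.Geo.IsMaximalIn (Cfsg.spGL m F) (Cfsg.Geo.subspaceStabilizer W ⊓ Cfsg.spGL m F) :=
  result_of_le m (le_trans (by norm_num) hm) W hW0 hW hdim

end Cfsg.Agent.S5646
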