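import Cfsg.Statements.S5649
import Cfsg.Agent.Lib.Transvec.ShortRoot
import Cfsg.Agent.Lib.Transvec.Stabilizer

set_option autoImplicit false
open Cfsg

namespace Cfsg.Agent.S5649

open CfsgLib.Transvec Matrix
open scoped MatrixGroups

variable {ι : Type} [Fintype ι] [DecidableEq ι] {F : Type*} [Field F] {f : (ι → F) → (ι → F) → F}

/-- Inside `A` there is a vector killed by two functionals and avoiding a small subspace. -/
lemma exists_in_avoid (hf : Cfsg.Geo.IsSymplecticForm f) {A E : Submodule F (ι → F)} (p q : ι → F)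
    (hE : Module.finrank F E + 2 < Module.finrank F A) : ∃ k ∈ A, f k p = 0 ∧ f k q = 0 ∧ k ∉ E := by
  let T : A →ₗ[F] F × F := ((((toBilin hf.bilinear).flip p).prod ((toBilin hf.bilinear).flip q))).domRestrict A
  have h1 := LinearMap.finrank_range_add_finrank_ker T
  have h2 := Submodule.finrank_le (LinearMap.range T)
  rw [Module.finrank_prod, Module.finrank_self] at h2
  by_contra hcon
  simp only [not_exists, not_and, not_not] at hcon
  have hle : (LinearMap.ker T).map A.subtype ≤ E := by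
    rintro _ ⟨y, hy, rfl⟩
    have hy' : (f (y : ι → F) p, f (y : ι → F) q) = 0 := LinearMap.mem_ker.mp hy
    rw [Prod.mk_eq_zero] at hy'
    exact hcon y y.2 hy'.1 hy'.2
  have h3 := Submodule.finrank_mono hle
  rw [Submodule.finrank_map_subtype_eq] at h3
  omega

/-- Inside `A` there is a vector killed by one functional and avoiding a small subspace. -/
lemma exists_in_avoid_one (hf : Cfsg.Geo.IsSymplecticForm f) {A E : Submodule F (ι → F)} (p : ι → F)
    (hE : Module.finrank F E + 1 < Module.finrank F A) : ∃ k ∈ A, f k p = 0 ∧ k ∉ E := by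
  let T : A →ₗ[F] F := ((toBilin hf.bilinear).flip p).domRestrict A
  have h1 := LinearMap.finrank_range_add_finrank_ker T
  have h2 := Submodule.finrank_le (LinearMap.range T)
  rw [Module.finrank_self] at h2
  by_contra hcon
  simp only [not_exists, not_and, not_not] at hcon
  have hle : (LinearMap.ker T).map A.subtype ≤ E := by
    rintro _ ⟨y, hy, rfl⟩
    exact hcon y y.2 (LinearMap.mem_ker.mp hy)
  have h3 := Submodule.finrank_mono hle
  rw [Submodule.finrank_map_subtype_eq] at h3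
  omega

/-- The argument for one ordering of the two Lagrangian halves. -/
structure Halves (f : (ι → F) → (ι → F) → F) (M : Subgroup (GL ι F)) (A B : Submodule F (ι → F))
    (pA pB : (ι → F) →ₗ[F] (ι → F)) : Prop where
  projA : ∀ x, pA x ∈ A
  projB : ∀ x, pB x ∈ B
  split : ∀ x, pA x + pB x = x
  singA : ∀ x ∈ A, ∀ y ∈ A, f x y = 0
  singB : ∀ x ∈ B, ∀ y ∈ B, f x y = 0
  dimA : 3 ≤ Module.finrank F A
  dimB : 3 ≤ Module.finrank F B
  mem : ∀ c ∈ A, ∀ d ∈ B, f c d = 0 → ∀ l, sX f c d l ∈ M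

namespace Halves

variable {M : Subgroup (GL ι F)} {A B : Submodule F (ι → F)} {pA pB : (ι → F) →ₗ[F] (ι → F)}

lemma symm (hf : Cfsg.Geo.IsSymplecticForm f) (H : Halves f M A B pA pB) : Halves f M B A pB pA where
  projA := H.projB
  projB := H.projA
  split x := by rw [add_comm]; exact H.split x
  singA := H.singB
  singB := H.singA
  dimA := H.dimB
  dimB := H.dimA
  mem c hc d hd h l := by
    rw [sX_comm hf h]
    exact H.mem d hd c hc (by rw [hf.skew, h, neg_zero]) l

lemma f_left (hf : Cfsg.Geo.IsSymplecticForm f) (H : Halves f M A B pA pB) (x : ι → F) {c : ι → F} (hc : c ∈ A) :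
    f x c = f (pB x) c := by
  conv_lhs => rw [← H.split x]
  rw [add_left' hf, H.singA _ (H.projA x) _ hc, zero_add]

lemma f_right (hf : Cfsg.Geo.IsSymplecticForm f) (H : Halves f M A B pA pB) {d : ι → F} (hd : d ∈ B) (x : ι → F) :
    f d x = f d (pA x) := by
  conv_lhs => rw [← H.split x]
  rw [add_right' hf, H.singB _ hd _ (H.projB x), add_zero]

lemma inter (hf : Cfsg.Geo.IsSymplecticForm f) (H : Halves f M A B pA pB) {x : ι → F} (hA : x ∈ A) (hB : x ∈ B) :
    x = 0 := by
  by_contra hx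
  obtain ⟨y, hy⟩ := (hf.nondegenerate x hx).1
  refine hy ?_
  rw [H.f_left hf y hA]
  exact H.singB _ (H.projB y) _ hB

/-- Replacing the `A`-component of a full vector. -/
lemma move (hf : Cfsg.Geo.IsSymplecticForm f) (H : Halves f M A B pA pB) {c c' d : ι → F} (hc : c ∈ A)
    (hc' : c' ∈ A) (hd : d ∈ B) (hc0 : c ≠ 0) (hc0' : c' ≠ 0) (hpair : f c d = f c' d) (hfull : Full f M (c + d)) :
    Full f M (c' + d) := by
  have step : ∀ {c c' : ι → F}, c ∈ A → c' ∈ A → f c d = f c' d → c ∉ Submodule.span F {c' - c} →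
      Full f M (c + d) → Full f M (c' + d) := by
    intro c c' hc hc' hpair hind hfull
    obtain ⟨x, hx, hxc⟩ := exists_perp_ne hf hind
    have hxc1 := hx (c' - c) (Submodule.mem_span_singleton_self _)
    have hAd : c' - c ∈ A := A.sub_mem hc' hc
    rw [H.f_left hf x hc] at hxc
    rw [H.f_left hf x hAd] at hxc1
    obtain ⟨e, he⟩ : ∃ e, e = (f c (pB x))⁻¹ • pB x := ⟨_, rfl⟩
    have hcne : f c (pB x) ≠ 0 := by rw [hf.skew]; exact neg_ne_zero.mpr hxc
    have heB : e ∈ B := he ▸ B.smul_mem _ (H.projB x)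
    have hce : f c e = 1 := by rw [he, smul_right' hf, inv_mul_cancel₀ hcne]
    have h1e : f (c' - c) e = 0 := by rw [he, smul_right' hf, hf.skew (c' - c) (pB x), hxc1, neg_zero, mul_zero]
    have h := full_conj hf (H.mem _ hAd e heB h1e 1) (iso_sX hf _ _ _) hfull
    rw [sX_mulVec hf h1e, add_left' hf, add_left' hf, hce, H.singB d hd e heB, H.singA c hc _ hAd, sub_right' hf,
      hf.skew d c, hf.skew d c', hpair] at h
    convert h using 1
    module
  by_cases hind : c ∈ Submodule.span F {c' - c}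
  swap
  · exact step hc hc' hpair hind hfull
  have hmul : c' ∈ Submodule.span F {c} := by
    obtain ⟨j, hj⟩ := Submodule.mem_span_singleton.mp hind
    have hj0 : j ≠ 0 := fun h0 => hc0 (by rw [← hj, h0, zero_smul])
    have e1 : c' - c = j⁻¹ • c := by
      conv_rhs => arg 2; rw [← hj]
      rw [inv_smul_smul₀ hj0]
    have : c' = (j⁻¹ + 1) • c := by rw [add_smul, one_smul, ← e1, sub_add_cancel]
    rw [this]
    exact Submodule.smul_mem _ _ (Submodule.mem_span_singleton_self c)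
  obtain ⟨k, hk, hkd, hks⟩ := exists_in_avoid_one hf (A := A) (E := Submodule.span F {c}) d (by
    rw [finrank_span_singleton hc0]; have := H.dimA; omega)
  have hcs : ∀ a : ι → F, a ∈ Submodule.span F {c} → a ≠ 0 → k ∉ Submodule.span F {a} := fun a ha _ hm =>
    hks ((Submodule.span_singleton_le_iff_mem _ _).mpr ha hm)
  have hA3 : c + k ∈ A := A.add_mem hc hk
  have hp3 : f (c + k) d = f c d := by rw [add_left' hf, hkd, add_zero]
  refine step hA3 hc' (by rw [hp3, hpair]) (fun hm => hks ?_)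
    (step hc hA3 hp3.symm (fun hm => ?_) hfull)
  · obtain ⟨j, hj⟩ := Submodule.mem_span_singleton.mp hm
    by_cases hj1 : 1 + j = 0
    · exfalso
      refine hc0' ?_
      have h0 : j • c' = (1 + j) • (c + k) := by rw [add_smul, one_smul]; nth_rewrite 1 [← hj]; module
      rw [hj1, zero_smul] at h0
      exact (smul_eq_zero.mp h0).resolve_left (fun hj0 => by rw [hj0, add_zero] at hj1; exact one_ne_zero hj1)
    · have h0 : (1 + j) • (c + k) = j • c' := by rw [add_smul, one_smul]; nth_rewrite 1 [← hj]; module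
      have hk' : k = (1 + j)⁻¹ • (j • c') - c := by
        rw [← h0, inv_smul_smul₀ hj1, add_sub_cancel_left]
      rw [hk']
      exact Submodule.sub_mem _ (Submodule.smul_mem _ _ (Submodule.smul_mem _ _ hmul))
        (Submodule.mem_span_singleton_self c)
  · rw [add_sub_cancel_left] at hm
    exact hcs c (Submodule.mem_span_singleton_self c) hc0 (by
      obtain ⟨j, hj⟩ := Submodule.mem_span_singleton.mp hm
      have hj0 : j ≠ 0 := fun h0 => hc0 (by rw [← hj, h0, zero_smul])
      exact Submodule.mem_span_singleton.mpr ⟨j⁻¹, by rw [← hj, inv_smul_smul₀ hj0]⟩)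

/-- All vectors of `A` are full as soon as one is. -/
lemma full_of_one (hf : Cfsg.Geo.IsSymplecticForm f) (H : Halves f M A B pA pB) {a : ι → F} (ha : a ∈ A)
    (ha0 : a ≠ 0) (hfull : Full f M a) : ∀ x ∈ A, Full f M x := by
  intro x hx
  by_cases hx0 : x = 0
  · rw [hx0]; exact full_zero hf
  simpa using H.move hf ha hx B.zero_mem ha0 hx0 (by rw [zero_right' hf, zero_right' hf])
    (by rwa [add_zero])

/-- A full vector with a prescribed `B`-component and vanishing pairing. -/
lemma class_zero (hf : Cfsg.Geo.IsSymplecticForm f) (H : Halves f M A B pA pB) {a b b' : ι → F} (ha : a ∈ A)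
    (hb : b ∈ B) (hb' : b' ∈ B) (ha0 : a ≠ 0) (hb0 : b ≠ 0) (hb0' : b' ≠ 0) (hab : f a b = 0)
    (hfull : Full f M (a + b)) : ∃ c ∈ A, c ≠ 0 ∧ f c b = 0 ∧ f c b' = 0 ∧ Full f M (c + b') := by
  obtain ⟨c, hc, hcb, hcb', hc0⟩ := exists_in_avoid hf (A := A) (E := ⊥) b b' (by
    rw [finrank_bot]; have := H.dimA; omega)
  rw [Submodule.mem_bot] at hc0
  have h1 := H.move hf ha hc hb ha0 hc0 (by rw [hab, hcb]) hfull
  rw [add_comm] at h1
  have h2 := (H.symm hf).move hf hb hb' hc hb0 hb0' (by rw [hf.skew b c, hf.skew b' c, hcb, hcb']) h1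
  rw [add_comm] at h2
  exact ⟨c, hc, hc0, hcb, hcb', h2⟩

/-- A full non-zero vector gives a full non-zero vector in one of the halves. -/
lemma exists_pure (hf : Cfsg.Geo.IsSymplecticForm f) (H : Halves f M A B pA pB) (h2' : (2 : F) ≠ 0) {u : ι → F} (hu0 : u ≠ 0)
    (hu : Full f M u) : ∃ x, x ≠ 0 ∧ (x ∈ A ∨ x ∈ B) ∧ Full f M x := by
  rw [← H.split u] at hu
  by_cases hb0 : pB u = 0
  · refine ⟨u, hu0, Or.inl ?_, by rwa [H.split] at hu⟩
    have := H.split u
    rw [hb0, add_zero] at this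
    exact this ▸ H.projA u
  by_cases ha0 : pA u = 0
  · refine ⟨u, hu0, Or.inr ?_, by rwa [H.split] at hu⟩
    have := H.split u
    rw [ha0, zero_add] at this
    exact this ▸ H.projB u
  -- a mixed vector with non-zero invariant and the one we started from
  have key : ∀ a ∈ A, ∀ b ∈ B, f a b ≠ 0 → Full f M (a + b) →
      ∀ c ∈ A, f c b = 0 → Full f M (c + b) → ∃ x, x ≠ 0 ∧ (x ∈ A ∨ x ∈ B) ∧ Full f M x := by
    intro a ha b hb hab h1 c hc hcb h2
    have h3 : f (a + b) (c + b) ≠ 0 := by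
      rw [add_left' hf, add_right' hf, add_right' hf, H.singA a ha c hc, hf.alternating, hf.skew b c, hcb]
      simpa using hab
    have h4 := full_add_smul hf h1 h2 h3 (-1)
    rw [show a + b + (-1 : F) • (c + b) = a - c by module] at h4
    refine ⟨a - c, fun h0 => hab ?_, Or.inl (A.sub_mem ha hc), h4⟩
    rw [sub_eq_zero.mp h0, hcb]
  obtain ⟨a, ha⟩ : ∃ a, a = pA u := ⟨_, rfl⟩
  obtain ⟨b, hb⟩ : ∃ b, b = pB u := ⟨_, rfl⟩
  rw [← ha, ← hb] at hu
  rw [← ha] at ha0
  rw [← hb] at hb0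
  have haA : a ∈ A := ha ▸ H.projA u
  have hbB : b ∈ B := hb ▸ H.projB u
  by_cases hab : f a b = 0
  · -- first reach a non-zero invariant
    obtain ⟨z, hz⟩ := (hf.nondegenerate a ha0).1
    have hza : f (pB z) a ≠ 0 := by rwa [← H.f_left hf z haA]
    obtain ⟨d, hd⟩ : ∃ d, d = (f a (pB z))⁻¹ • pB z := ⟨_, rfl⟩
    have hdB : d ∈ B := hd ▸ B.smul_mem _ (H.projB z)
    have had : f a d = 1 := by
      rw [hd, smul_right' hf, inv_mul_cancel₀]
      rw [hf.skew]; exact neg_ne_zero.mpr hza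
    have hd0 : d ≠ 0 := fun h0 => by rw [h0, zero_right' hf] at had; exact zero_ne_one had
    obtain ⟨c, hc, -, hcb, hcd, hcfull⟩ := H.class_zero hf haA hbB hdB ha0 hb0 hd0 hab hu
    have h3 : f (a + b) (c + d) = 1 := by
      rw [add_left' hf, add_right' hf, add_right' hf, H.singA a haA c hc, H.singB b hbB d hdB, had, hf.skew b c, hcb]
      ring
    have h4 := full_add_smul hf hu hcfull (by rw [h3]; exact one_ne_zero) 1
    rw [one_smul, add_add_add_comm] at h4
    have hinv : f (a + c) (b + d) = 1 := by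
      rw [add_left' hf, add_right' hf, add_right' hf, hab, had, hcb, hcd]; ring
    have hbd : b + d ≠ 0 := fun h0 => by rw [h0, zero_right' hf] at hinv; exact zero_ne_one hinv
    obtain ⟨c', hc', -, -, hc'b, hc'full⟩ := H.class_zero hf haA hbB (B.add_mem hbB hdB) ha0 hb0 hbd hab hu
    exact key _ (A.add_mem haA hc) _ (B.add_mem hbB hdB) (by rw [hinv]; exact one_ne_zero) h4 c' hc' hc'b hc'full
  · -- produce invariant zero from the vector itself
    obtain ⟨k, hk, hkb, hks⟩ := exists_in_avoid_one hf (A := A) (E := Submodule.span F {a}) b (by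
      rw [finrank_span_singleton ha0]; have := H.dimA; omega)
    have hc : a + k ∈ A := A.add_mem haA hk
    have hac : a ∉ Submodule.span F {a + k} := fun hm => by
      obtain ⟨j, hj⟩ := Submodule.mem_span_singleton.mp hm
      have hj0 : j ≠ 0 := fun h0 => ha0 (by rw [← hj, h0, zero_smul])
      refine hks (Submodule.mem_span_singleton.mpr ⟨j⁻¹ - 1, ?_⟩)
      rw [sub_smul, one_smul]
      nth_rewrite 1 [← hj]
      rw [inv_smul_smul₀ hj0, add_sub_cancel_left]
    obtain ⟨z, hz, hza⟩ := exists_perp_ne hf hac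
    have hzc := hz (a + k) (Submodule.mem_span_singleton_self _)
    rw [H.f_left hf z hc] at hzc
    rw [H.f_left hf z haA] at hza
    obtain ⟨d, hd⟩ : ∃ d, d = pB z := ⟨_, rfl⟩
    rw [← hd] at hzc hza
    have hdB : d ∈ B := hd ▸ H.projB z
    have hcd : f (a + k) d = 0 := by rw [hf.skew, hzc, neg_zero]
    have hbc : f b (a + k) = f b a := by rw [add_right' hf, hf.skew b k, hkb, neg_zero, add_zero]
    have hba : f b a ≠ 0 := by rw [hf.skew]; exact neg_ne_zero.mpr hab
    have had : f a d ≠ 0 := by rw [hf.skew]; exact neg_ne_zero.mpr hza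
    have h1 := full_conj hf (H.mem _ hc d hdB hcd 1) (iso_sX hf _ _ _) hu
    rw [sX_mulVec hf hcd, add_left' hf, add_left' hf, H.singA a haA _ hc, H.singB b hbB d hdB, hbc, zero_add,
      add_zero, one_mul, one_mul] at h1
    have h3 : f (a + b) (a + b + f b a • d + f a d • (a + k)) ≠ 0 := by
      simp only [add_left' hf, add_right' hf, smul_right' hf, hf.alternating, H.singA a haA k hk,
        H.singB b hbB d hdB, hf.skew b k, hkb, hf.skew a b, neg_zero]
      intro h0
      exact mul_ne_zero h2' (mul_ne_zero hba had) (by linear_combination h0)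
    have h4 := full_smul hf (full_add_smul hf hu h1 h3 (-1)) (-1)
    rw [show (-1 : F) • (a + b + (-1 : F) • (a + b + f b a • d + f a d • (a + k))) =
      f a d • (a + k) + f b a • d by module] at h4
    have hak : a + k ≠ 0 := fun h0 => hks (Submodule.mem_span_singleton.mpr ⟨-1, by
      rw [neg_one_smul, eq_neg_of_add_eq_zero_right h0]⟩)
    have hd0 : d ≠ 0 := fun h0 => had (by rw [h0, zero_right' hf])
    obtain ⟨c', hc', -, -, hc'b, hc'full⟩ := H.class_zero hf (A.smul_mem _ hc) (B.smul_mem _ hdB) hbB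
      (smul_ne_zero had hak) (smul_ne_zero hba hd0) hb0
      (by rw [smul_left' hf, smul_right' hf, hcd, mul_zero, mul_zero]) h4
    exact key a haA b hbB hab hu c' hc' hc'b hc'full

/-- Everything is full as soon as one non-zero vector is. -/
theorem spread (hf : Cfsg.Geo.IsSymplecticForm f) (H : Halves f M A B pA pB) (h2' : (2 : F) ≠ 0) {J : GL ι F}
    (hJ : J ∈ M) (hJi : Iso f J) (hJA : ∀ x ∈ A, (J : Matrix ι ι F) *ᵥ x ∈ B)
    (hJB : ∀ x ∈ B, (J : Matrix ι ι F) *ᵥ x ∈ A) {u : ι → F} (hu0 : u ≠ 0) (hu : Full f M u) :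
    ∀ x, Full f M x := by
  obtain ⟨p, hp0, hp, hpfull⟩ := H.exists_pure hf h2' hu0 hu
  have hall : (∀ x ∈ A, Full f M x) ∧ ∀ x ∈ B, Full f M x := by
    rcases hp with hp | hp
    · exact ⟨H.full_of_one hf hp hp0 hpfull,
        (H.symm hf).full_of_one hf (hJA p hp) (mulVec_ne_zero J hp0) (full_conj hf hJ hJi hpfull)⟩
    · exact ⟨H.full_of_one hf (hJB p hp) (mulVec_ne_zero J hp0) (full_conj hf hJ hJi hpfull),
        (H.symm hf).full_of_one hf hp hp0 hpfull⟩
  intro x
  rw [← H.split x]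
  obtain ⟨a, ha⟩ : ∃ a, a = pA x := ⟨_, rfl⟩
  obtain ⟨b, hb⟩ : ∃ b, b = pB x := ⟨_, rfl⟩
  have haA : a ∈ A := ha ▸ H.projA x
  have hbB : b ∈ B := hb ▸ H.projB x
  rw [← ha, ← hb]
  by_cases hb0 : b = 0
  · rw [hb0, add_zero]; exact hall.1 a haA
  by_cases hab : f a b = 0
  · obtain ⟨z, hz⟩ := (hf.nondegenerate b hb0).1
    have hzb : f (pA z) b ≠ 0 := by
      rw [hf.skew, ← H.f_right hf hbB z, hf.skew, neg_neg]; exact hz
    have h1 := full_add_smul hf (hall.1 _ (H.projA z)) (hall.2 b hbB) hzb 1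
    rw [one_smul] at h1
    have h3 : f (pA z + b) (a - pA z) ≠ 0 := by
      rw [add_left' hf, H.singA _ (H.projA z) _ (A.sub_mem haA (H.projA z)), sub_right' hf, hf.skew b a, hab,
        hf.skew b (pA z)]
      simpa using hzb
    have h4 := full_add_smul hf h1 (hall.1 _ (A.sub_mem haA (H.projA z))) h3 1
    rwa [one_smul, show pA z + b + (a - pA z) = a + b by abel] at h4
  · simpa using full_add_smul hf (hall.1 a haA) (hall.2 b hbB) hab 1

/-- A short root element with a fixed vector and a moved partner gives all transvections at the fixed vector. -/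
lemma full_of_move (hf : Cfsg.Geo.IsSymplecticForm f) (H : Halves f M A B pA pB) (h2' : (2 : F) ≠ 0)
    {u w c d : ι → F} (huw : f u w = 0) (hX : ∀ l, sX f u w l ∈ M) (hc : c ∈ A) (hdB : d ∈ B) (hcd : f c d = 0)
    (huc : f u c = 0) (hud : f u d = 0) (hwc : f w c ≠ 0) (hwd : f w d ≠ 0) : Full f M u := by
  obtain ⟨α, hα⟩ : ∃ α, α = f w c := ⟨_, rfl⟩
  obtain ⟨β, hβ⟩ : ∃ β, β = f w d := ⟨_, rfl⟩
  have hα0 : α ≠ 0 := hα ▸ hwc
  have hβ0 : β ≠ 0 := hβ ▸ hwd
  have hh := H.mem c hc d hdB hcd 1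
  obtain ⟨w', hw'⟩ : ∃ w', w' = w + α • d + β • c := ⟨_, rfl⟩
  have hX' : ∀ l, sX f u w' l ∈ M := by
    intro l
    have h1 := M.mul_mem (M.mul_mem hh (hX l)) (M.inv_mem hh)
    rw [conj_sX hf (iso_sX hf _ _ _), sX_mulVec hf hcd, sX_mulVec hf hcd, huc, hud, one_mul, one_mul, one_mul,
      zero_smul, zero_smul, add_zero, add_zero, ← hα, ← hβ, ← hw'] at h1
    exact h1
  have huw' : f u w' = 0 := by simp [hw', add_right' hf, smul_right' hf, huw, huc, hud]
  obtain ⟨k, hk⟩ : ∃ k, k = f w w' := ⟨_, rfl⟩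
  have hk2 : k = 2 * (α * β) := by
    rw [hk, hw', add_right' hf, add_right' hf, smul_right' hf, smul_right' hf, hf.alternating, ← hα, ← hβ]
    ring
  have hsq : ∀ l, sT f u (2 * l ^ 2 * k) ∈ M := by
    intro l
    have huw2 : f u (w + w') = 0 := by rw [add_right' hf, huw, huw', add_zero]
    have h1 := M.mul_mem (hX' l) (hX l)
    have h3 := M.mul_mem (hX l) (hX' l)
    rw [sX_mul_right hf huw' huw, add_comm w' w] at h1
    rw [sX_mul_right hf huw huw'] at h3
    have h4 := M.mul_mem (M.inv_mem h3) h1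
    rw [_root_.mul_inv_rev, mul_assoc, inv_mul_cancel_left, sT_inv hf, sT_mul hf, hf.skew w' w, ← hk] at h4
    rwa [show -(l ^ 2 * -k) + l ^ 2 * k = 2 * l ^ 2 * k by ring] at h4
  intro c₀
  have hk0 : k ≠ 0 := hk2 ▸ mul_ne_zero h2' (mul_ne_zero hα0 hβ0)
  obtain ⟨s, hs⟩ : ∃ s, s = c₀ / (4 * k) := ⟨_, rfl⟩
  have h5 := M.mul_mem (M.mul_mem (hsq (s + 1)) (M.inv_mem (hsq s))) (M.inv_mem (hsq 1))
  rw [sT_inv hf, sT_inv hf, sT_mul hf, sT_mul hf] at h5
  have h4ne : (4 : F) ≠ 0 := by rw [show (4 : F) = 2 * 2 by norm_num]; exact mul_ne_zero h2' h2'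
  rwa [show 2 * (s + 1) ^ 2 * k + -(2 * s ^ 2 * k) + -(2 * 1 ^ 2 * k) = c₀ by
    rw [hs]; field_simp; ring] at h5

/-- A vector of `A` orthogonal to one vector of `B` and not to another. -/
lemma exists_sep_left (hf : Cfsg.Geo.IsSymplecticForm f) (H : Halves f M A B pA pB) {p q : ι → F} (hp : p ∈ B)
    (hq : q ∈ B) (hind : q ∉ Submodule.span F {p}) : ∃ c ∈ A, f c p = 0 ∧ f c q ≠ 0 := by
  obtain ⟨z, hz, hzq⟩ := exists_perp_ne hf hind
  have hzp := hz p (Submodule.mem_span_singleton_self _)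
  have e : ∀ y ∈ B, f (pA z) y = f z y := fun y hy => by rw [hf.skew, ← H.f_right hf hy z, hf.skew, neg_neg]
  exact ⟨pA z, H.projA z, (e p hp).trans hzp, by rw [e q hq]; exact hzq⟩

/-- A short root element with one end in `B`. -/
lemma full_of_half (hf : Cfsg.Geo.IsSymplecticForm f) (H : Halves f M A B pA pB) (h2' : (2 : F) ≠ 0)
    {u w : ι → F} (hw : w ∈ B) (hw0 : w ≠ 0) (hu : pA u ≠ 0) (hu' : pB u ≠ 0) (huw : f u w = 0)
    (hX : ∀ l, sX f u w l ∈ M) : ∃ x, x ≠ 0 ∧ Full f M x := by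
  have hwu : f w u = 0 := by rw [hf.skew, huw, neg_zero]
  by_cases hm : pB u ∈ Submodule.span F {w}
  · -- a transvection
    obtain ⟨k, hk⟩ := Submodule.mem_span_singleton.mp hm
    have hk0 : k ≠ 0 := fun h0 => hu' (by rw [← hk, h0, zero_smul])
    have hAw : f (pA u) w = 0 := by
      have e : f (pA u + pB u) w = 0 := by rw [H.split]; exact huw
      rwa [add_left' hf, H.singB _ (H.projB u) w hw, add_zero] at e
    refine ⟨w, hw0, fun c => ?_⟩
    have h1 := M.mul_mem (hX (c / (2 * k))) (M.inv_mem (H.mem _ (H.projA u) w hw hAw (c / (2 * k))))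
    rw [sX_inv hf hAw] at h1
    convert h1 using 1
    refine gl_ext fun x => ?_
    rw [sT_mulVec hf, mul_mulVec, sX_mulVec hf hAw, sX_mulVec hf huw]
    have hue : u = pA u + k • w := by rw [hk, H.split]
    obtain ⟨p, hp⟩ : ∃ p, p = pA u := ⟨_, rfl⟩
    rw [← hp] at hue hAw ⊢
    subst hue
    simp only [add_left' hf, add_right' hf, smul_left' hf, smul_right' hf, hf.alternating, hAw,
      show f w p = 0 by rw [hf.skew, hAw, neg_zero]]
    match_scalars <;> field_simp <;> ring
  obtain ⟨c₀, hc₀, hc₀w, hc₀u⟩ := H.exists_sep_left hf hw (H.projB u) hm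
  obtain ⟨c, hc, hcw, hcu, hcA⟩ : ∃ c ∈ A, f c w = 0 ∧ f c (pB u) ≠ 0 ∧ pA u ∉ Submodule.span F {c} := by
    by_cases h : pA u ∈ Submodule.span F {c₀}
    swap
    · exact ⟨c₀, hc₀, hc₀w, hc₀u, h⟩
    obtain ⟨k, hk, hkw, hku, hk0⟩ := exists_in_avoid hf (A := A) (E := ⊥) w (pB u)
      (by rw [finrank_bot]; have := H.dimA; omega)
    rw [Submodule.mem_bot] at hk0
    refine ⟨c₀ + k, A.add_mem hc₀ hk, by rw [add_left' hf, hc₀w, hkw, add_zero],
      by rw [add_left' hf, hku, add_zero]; exact hc₀u, fun h' => ?_⟩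
    obtain ⟨i, hi⟩ := Submodule.mem_span_singleton.mp h
    obtain ⟨j, hj⟩ := Submodule.mem_span_singleton.mp h'
    have e : f (i • c₀) (pB u) = f (j • (c₀ + k)) (pB u) := by rw [hi, hj]
    rw [smul_left' hf, smul_left' hf, add_left' hf, hku, add_zero] at e
    have hij := mul_right_cancel₀ hc₀u e
    rw [← hij, smul_add, hi, add_eq_left, smul_eq_zero] at hj
    exact hu (by rw [← hi, hj.resolve_right hk0, zero_smul])
  obtain ⟨d, hd, hdc, hdu⟩ := (H.symm hf).exists_sep_left hf hc (H.projA u) hcA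
  refine ⟨w, hw0, H.full_of_move hf h2' hwu (fun l => by rw [sX_comm hf hwu]; exact hX l) hc hd
    (by rw [hf.skew, hdc, neg_zero]) (by rw [hf.skew, hcw, neg_zero]) (H.singB w hw d hd) ?_ ?_⟩
  · rw [H.f_left hf u hc, hf.skew]; exact neg_ne_zero.mpr hcu
  · rw [hf.skew, H.f_right hf hd u]; exact neg_ne_zero.mpr hdu

/-- The second end has the same `A`-component up to a scalar. -/
lemma full_of_left (hf : Cfsg.Geo.IsSymplecticForm f) (H : Halves f M A B pA pB) (h2' : (2 : F) ≠ 0)
    {u w : ι → F} (hu : pA u ≠ 0) (hu' : pB u ≠ 0) (huw : f u w = 0) (hX : ∀ l, sX f u w l ∈ M)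
    (hA : pA w ∈ Submodule.span F {pA u}) (hB : pB w ∉ Submodule.span F {pB u}) : ∃ x, x ≠ 0 ∧ Full f M x := by
  obtain ⟨c, hc, hcu, hcw⟩ := H.exists_sep_left hf (H.projB u) (H.projB w) hB
  obtain ⟨d, hd, hdu, hdc, hd0⟩ := exists_in_avoid hf (A := B) (E := ⊥) (pA u) c
    (by rw [finrank_bot]; have := H.dimB; omega)
  rw [Submodule.mem_bot] at hd0
  obtain ⟨j, hj⟩ := Submodule.mem_span_singleton.mp hA
  have huc : f u c = 0 := by rw [H.f_left hf u hc, hf.skew, hcu, neg_zero]
  have hud : f u d = 0 := by rw [hf.skew, H.f_right hf hd u, hdu, neg_zero]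
  have hwd : f w d = 0 := by rw [hf.skew, H.f_right hf hd w, ← hj, smul_right' hf, hdu, mul_zero, neg_zero]
  have hcd : f c d = 0 := by rw [hf.skew, hdc, neg_zero]
  obtain ⟨α, hα⟩ : ∃ α, α = f w c := ⟨_, rfl⟩
  have hα0 : α ≠ 0 := by rw [hα, H.f_left hf w hc, hf.skew]; exact neg_ne_zero.mpr hcw
  have hhM := H.mem c hc d hd hcd 1
  refine H.full_of_half hf h2' hd hd0 hu hu' hud fun l => ?_
  have h1 := M.mul_mem (M.mul_mem hhM (hX (l / α))) (M.inv_mem hhM)
  rw [conj_sX hf (iso_sX hf _ _ _), sX_mulVec hf hcd, sX_mulVec hf hcd, huc, hud, hwd, one_mul, ← hα] at h1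
  have h2 := M.mul_mem h1 (M.inv_mem (hX (l / α)))
  rw [sX_inv hf huw] at h2
  convert h2 using 1
  refine gl_ext fun x => ?_
  have huw' : f u (w + α • d) = 0 := by rw [add_right' hf, smul_right' hf, huw, hud, mul_zero, add_zero]
  have hwu : f w u = 0 := by rw [hf.skew, huw, neg_zero]
  simp only [mul_zero, zero_mul, zero_smul, add_zero, one_mul]
  rw [mul_mulVec, sX_mulVec hf huw, sX_mulVec hf huw', sX_mulVec hf hud]
  simp only [add_left' hf, add_right' hf, smul_left' hf, smul_right' hf, hf.alternating, huw, hwu, hud, hwd]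
  match_scalars <;> field_simp <;> ring

/-- Both components of the second end are new. -/
lemma full_of_both (hf : Cfsg.Geo.IsSymplecticForm f) (H : Halves f M A B pA pB) (h2' : (2 : F) ≠ 0)
    {u w : ι → F} (huw : f u w = 0) (hX : ∀ l, sX f u w l ∈ M)
    (hA : pA w ∉ Submodule.span F {pA u}) (hB : pB w ∉ Submodule.span F {pB u}) :
    Full f M u ∨ ∀ c ∈ A, f c (pB u) = 0 → c ∈ Submodule.span F ({pA u, pA w} : Set (ι → F)) := by
  refine or_iff_not_imp_right.mpr fun h => ?_
  simp only [not_forall] at h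
  obtain ⟨z, hzA, hzu, hzE⟩ := h
  obtain ⟨c₀, hc₀, hc₀u, hc₀w⟩ := H.exists_sep_left hf (H.projB u) (H.projB w) hB
  obtain ⟨c, hc, hcu, hcw, hcE⟩ : ∃ c ∈ A, f c (pB u) = 0 ∧ f c (pB w) ≠ 0 ∧
      c ∉ Submodule.span F ({pA u, pA w} : Set (ι → F)) := by
    by_cases h1 : c₀ ∈ Submodule.span F ({pA u, pA w} : Set (ι → F))
    swap
    · exact ⟨c₀, hc₀, hc₀u, hc₀w, h1⟩
    by_cases h3 : f z (pB w) = 0
    swap
    · exact ⟨z, hzA, hzu, h3, hzE⟩
    exact ⟨c₀ + z, A.add_mem hc₀ hzA, by rw [add_left' hf, hc₀u, hzu, add_zero],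
      by rw [add_left' hf, h3, add_zero]; exact hc₀w, fun h4 => hzE ((Submodule.add_mem_iff_right _ h1).mp h4)⟩
  have hw : pA w ∉ Submodule.span F ({pA u, c} : Set (ι → F)) := by
    intro hm
    obtain ⟨i, j, hij⟩ := Submodule.mem_span_pair.mp hm
    by_cases hj : j = 0
    · exact hA (Submodule.mem_span_singleton.mpr ⟨i, by rw [← hij, hj, zero_smul, add_zero]⟩)
    · refine hcE ?_
      rw [Submodule.mem_span_pair]
      exact ⟨-(j⁻¹ * i), j⁻¹, by rw [← hij, smul_add, smul_smul, inv_smul_smul₀ hj, neg_smul]; abel⟩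
  obtain ⟨z', hz', hz'w⟩ := exists_perp_ne hf hw
  refine H.full_of_move hf h2' huw hX hc (H.projB z') ?_ ?_ ?_ ?_ ?_
  · rw [hf.skew, ← H.f_left hf z' hc, hz' c (Submodule.subset_span (by simp)), neg_zero]
  · rw [H.f_left hf u hc, hf.skew, hcu, neg_zero]
  · rw [hf.skew, H.f_right hf (H.projB z') u, ← H.f_left hf z' (H.projA u),
      hz' _ (Submodule.subset_span (by simp)), neg_zero]
  · rw [H.f_left hf w hc, hf.skew]; exact neg_ne_zero.mpr hcw
  · rw [hf.skew, H.f_right hf (H.projB z') w, ← H.f_left hf z' (H.projA w)]; exact neg_ne_zero.mpr hz'w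

/-- A short root element of a mixed vector and a suitable partner. -/
lemma exists_full (hf : Cfsg.Geo.IsSymplecticForm f) (H : Halves f M A B pA pB) (h2' : (2 : F) ≠ 0)
    {g : GL ι F} (hgM : g ∈ M) (hg : Iso f g) {a : ι → F} (ha : a ∈ A)
    (hu : pA ((g : Matrix ι ι F) *ᵥ a) ≠ 0 ∧ pB ((g : Matrix ι ι F) *ᵥ a) ≠ 0) :
    ∃ x, x ≠ 0 ∧ Full f M x := by
  classical
  obtain ⟨u, hu'⟩ : ∃ u, u = (g : Matrix ι ι F) *ᵥ a := ⟨_, rfl⟩
  rw [← hu'] at hu
  have ha0 : a ≠ 0 := fun h => hu.1 (by rw [hu', h, mulVec_zero, map_zero])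
  obtain ⟨P, hP⟩ : ∃ P, P = Submodule.span F ({pA u, pB u} : Set (ι → F)) := ⟨_, rfl⟩
  -- a partner off the plane of the two components
  obtain ⟨d, hdB, had, hdP⟩ : ∃ d ∈ B, f d a = 0 ∧ (g : Matrix ι ι F) *ᵥ d ∉ P := by
    obtain ⟨P', hP'⟩ : ∃ P', P' = P.comap (Matrix.toLin' (g : Matrix ι ι F)) ⊓ B := ⟨_, rfl⟩
    have h1 : Module.finrank F P' + 1 < Module.finrank F B := by
      have hle : P' ⊔ Submodule.span F {a} ≤ P.comap (Matrix.toLin' (g : Matrix ι ι F)) := by
        refine sup_le (hP' ▸ inf_le_left) ((Submodule.span_singleton_le_iff_mem _ _).mpr ?_)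
        rw [Submodule.mem_comap, Matrix.toLin'_apply, ← hu', ← H.split u, hP]
        exact Submodule.add_mem _ (Submodule.subset_span (by simp)) (Submodule.subset_span (by simp))
      have h3 := Submodule.finrank_sup_add_finrank_inf_eq P' (Submodule.span F {a})
      have h4 : P' ⊓ Submodule.span F {a} = ⊥ := eq_bot_iff.mpr fun x hx => by
        obtain ⟨hx1, hx2⟩ := hx
        obtain ⟨k, rfl⟩ := Submodule.mem_span_singleton.mp hx2
        exact (Submodule.mem_bot F).mpr (H.inter hf (A.smul_mem k ha) (hP' ▸ hx1 : k • a ∈ P.comap _ ⊓ B).2)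
      rw [h4, finrank_bot, finrank_span_singleton ha0] at h3
      have h5 := Submodule.finrank_mono hle
      have h6 : Module.finrank F (P.comap (Matrix.toLin' (g : Matrix ι ι F))) ≤ 2 := by
        rw [← finrank_map_gl g]
        refine (Submodule.finrank_mono (Submodule.map_comap_le _ _)).trans ?_
        rw [hP]
        refine le_trans (finrank_span_le_card _) ?_
        rw [Set.toFinset_insert, Set.toFinset_singleton]
        exact Finset.card_le_two
      have := H.dimB
      omega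
    obtain ⟨d, hd, hda, hdP⟩ := exists_in_avoid_one hf a h1
    exact ⟨d, hd, hda, fun h => hdP (hP' ▸ ⟨h, hd⟩)⟩
  obtain ⟨w, hw⟩ : ∃ w, w = (g : Matrix ι ι F) *ᵥ d := ⟨_, rfl⟩
  rw [← hw] at hdP
  have had' : f a d = 0 := by rw [hf.skew, had, neg_zero]
  have huw : f u w = 0 := by rw [hu', hw, hg, had']
  have hwu : f w u = 0 := by rw [hf.skew, huw, neg_zero]
  have hX : ∀ l, sX f u w l ∈ M := fun l => by
    rw [hu', hw, ← conj_sX hf hg]
    exact M.mul_mem (M.mul_mem hgM (H.mem a ha d hdB had' l)) (M.inv_mem hgM)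
  have hsmul : ∀ {x p : ι → F}, x ∈ Submodule.span F {p} → p ∈ P → x ∈ P := fun {x p} hx hp =>
    (Submodule.span_singleton_le_iff_mem _ _).mpr hp hx
  have hAP : pA u ∈ P := hP ▸ Submodule.subset_span (by simp)
  have hBP : pB u ∈ P := hP ▸ Submodule.subset_span (by simp)
  by_cases hA : pA w ∈ Submodule.span F {pA u}
  · refine H.full_of_left hf h2' hu.1 hu.2 huw hX hA fun hB => hdP ?_
    rw [← H.split w]
    exact P.add_mem (hsmul hA hAP) (hsmul hB hBP)
  by_cases hB : pB w ∈ Submodule.span F {pB u}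
  · exact (H.symm hf).full_of_left hf h2' hu.2 hu.1 huw hX hB hA
  rcases H.full_of_both hf h2' huw hX hA hB with h | h1
  · exact ⟨u, fun h0 => hu.1 (by rw [h0, map_zero]), h⟩
  by_cases hwA : pA u ∈ Submodule.span F {pA w}
  · obtain ⟨k, hk⟩ := Submodule.mem_span_singleton.mp hwA
    exact absurd (Submodule.mem_span_singleton.mpr ⟨k⁻¹, by
      rw [← hk, inv_smul_smul₀ fun h0 => hu.1 (by rw [← hk, h0, zero_smul])]⟩) hA
  by_cases hwB : pB u ∈ Submodule.span F {pB w}
  · obtain ⟨k, hk⟩ := Submodule.mem_span_singleton.mp hwB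
    exact absurd (Submodule.mem_span_singleton.mpr ⟨k⁻¹, by
      rw [← hk, inv_smul_smul₀ fun h0 => hu.2 (by rw [← hk, h0, zero_smul])]⟩) hB
  rcases H.full_of_both hf h2' hwu (fun l => by rw [sX_comm hf hwu]; exact hX l) hwA hwB with h | h3
  · exact ⟨w, fun h0 => hdP (h0 ▸ P.zero_mem), h⟩
  -- the two orthogonals would coincide
  exfalso
  obtain ⟨z, hz, hzu, hzw⟩ := H.exists_sep_left hf (H.projB u) (H.projB w) hB
  obtain ⟨E, hE⟩ : ∃ E, E = Submodule.span F ({pA u, pA w} : Set (ι → F)) := ⟨_, rfl⟩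
  have hE2 : Module.finrank F E ≤ 2 := by
    rw [hE]
    refine le_trans (finrank_span_le_card _) ?_
    rw [Set.toFinset_insert, Set.toFinset_singleton]
    exact Finset.card_le_two
  obtain ⟨Q, hQ⟩ : ∃ Q, Q = A ⊓ LinearMap.ker ((toBilin hf.bilinear).flip (pB w)) := ⟨_, rfl⟩
  have hQE : Q ≤ E := fun x hx => by
    rw [hQ] at hx
    rw [hE, show ({pA u, pA w} : Set (ι → F)) = {pA w, pA u} from Set.pair_comm _ _]
    exact h3 x hx.1 hx.2
  have hQ2 : 2 ≤ Module.finrank F Q := by
    let φ : A →ₗ[F] F := ((toBilin hf.bilinear).flip (pB w)).domRestrict A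
    have e1 := LinearMap.finrank_range_add_finrank_ker φ
    have e2 := Submodule.finrank_le (LinearMap.range φ)
    rw [Module.finrank_self] at e2
    have e3 : (LinearMap.ker φ).map A.subtype ≤ Q := by
      rintro _ ⟨y, hy, rfl⟩
      rw [hQ]
      exact ⟨y.2, LinearMap.mem_ker.mp hy⟩
    have e4 := Submodule.finrank_mono e3
    rw [Submodule.finrank_map_subtype_eq] at e4
    have := H.dimA
    omega
  have hzQ : z ∈ Q := by
    rw [Submodule.eq_of_le_of_finrank_le hQE (hE2.trans hQ2), hE]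
    exact h1 z hz hzu
  rw [hQ] at hzQ
  exact hzw hzQ.2

end Halves

/-- The general form of the statement. -/
theorem result_of_le {F : Type*} [Field F] [Fintype F] (m : ℕ) (hm : 3 ≤ m) (hodd : Odd (Fintype.card F)) (D : Fin 2 → Submodule F (Fin m ⊕ Fin m → F)) (hD : Cfsg.Geo.IsMDecomposition m D) (hts : ∀ i, Cfsg.Geo.IsTotallySingularFor (Cfsg.sympForm m F) (D i)) : Cfsg.Geo.IsMaximalIn (Cfsg.spGL m F) (Cfsg.Geo.decompositionStabilizer D ⊓ Cfsg.spGL m F) := by
  classical
  have hf := isSymplecticForm_sympForm (F := F) m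
  have h2' : (2 : F) ≠ 0 := fun h => by
    haveI : CharP F 2 := CharTwo.of_one_ne_zero_of_two_eq_zero one_ne_zero h
    have := FiniteField.even_card_iff_char_two.mp (ringChar.eq F 2)
    rw [Nat.odd_iff] at hodd
    omega
  have hint : DirectSum.IsInternal D :=
    DirectSum.isInternal_submodule_of_iSupIndep_of_iSup_eq_top hD.indep hD.iSup_eq_top
  have hsplit : ∀ x, dcomp hint 0 x + dcomp hint 1 x = x := fun x => by
    conv_rhs => rw [← sum_dcomp hint x, Fin.sum_univ_two]
  have hmaps : ∀ (g : GL (Fin m ⊕ Fin m) F) (σ : Equiv.Perm (Fin 2)),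
      (∀ i, ∀ x ∈ D i, (g : Matrix _ _ F) *ᵥ x ∈ D (σ i)) → g ∈ Cfsg.Geo.decompositionStabilizer D :=
    fun g σ h => ⟨σ, fun i => map_gl_eq_of_le g (by rw [hD.finrank_eq, hD.finrank_eq]) (h i)⟩
  have hX : ∀ c ∈ D 0, ∀ d ∈ D 1, Cfsg.sympForm m F c d = 0 → ∀ l, sX (Cfsg.sympForm m F) c d l ∈
      Cfsg.Geo.decompositionStabilizer D ⊓ Cfsg.spGL m F := by
    intro c hc d hd hcd l
    refine ⟨hmaps _ 1 fun i x hx => ?_, iso_sX hf c d l⟩
    rw [sX_mulVec hf hcd, Equiv.Perm.one_apply]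
    fin_cases i
    · simp only [Fin.zero_eta] at hx ⊢
      rw [hts 0 x hx c hc, mul_zero, zero_smul, add_zero]
      exact (D 0).add_mem hx ((D 0).smul_mem _ hc)
    · simp only [Fin.mk_one] at hx ⊢
      rw [hts 1 x hx d hd, mul_zero, zero_smul, add_zero]
      exact (D 1).add_mem hx ((D 1).smul_mem _ hd)
  -- an isometry interchanging the two halves
  obtain ⟨J, hJi, hJ0, hJ1⟩ : ∃ J, Iso (Cfsg.sympForm m F) J ∧ (∀ x ∈ D 0, (J : Matrix _ _ F) *ᵥ x ∈ D 1) ∧
      ∀ x ∈ D 1, (J : Matrix _ _ F) *ᵥ x ∈ D 0 := by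
    let b := Module.finBasisOfFinrankEq F (D 0) (hD.finrank_eq 0)
    let T : D 1 →ₗ[F] (Fin m → F) := LinearMap.pi fun i => ((toBilin hf.bilinear) (b i : Fin m ⊕ Fin m → F)).domRestrict (D 1)
    have hTi : Function.Injective T := by
      rw [injective_iff_map_eq_zero]
      intro y hy
      by_contra hy0
      have hy' : (y : Fin m ⊕ Fin m → F) ≠ 0 := fun h => hy0 (Subtype.ext h)
      obtain ⟨z, hz⟩ := (hf.nondegenerate _ hy').1
      refine hz ?_
      rw [← hsplit z, add_left' hf, hts 1 _ (dcomp_mem hint 1 z) _ y.2, add_zero]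
      have hspan : (⟨_, dcomp_mem hint 0 z⟩ : D 0) ∈ Submodule.span F (Set.range b) := by rw [b.span_eq]; trivial
      refine Submodule.span_induction (p := fun (w : D 0) _ => Cfsg.sympForm m F (w : Fin m ⊕ Fin m → F) y = 0)
        ?_ (zero_left' hf _) ?_ ?_ hspan
      · rintro _ ⟨i, rfl⟩; exact congrFun hy i
      · intro u v _ _ hu hv; rw [Submodule.coe_add, add_left' hf, hu, hv, add_zero]
      · intro a u _ hu; rw [Submodule.coe_smul, smul_left' hf, hu, mul_zero]
    have hTs : Function.Surjective T :=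
      (LinearMap.injective_iff_surjective_of_finrank_eq_finrank (by rw [hD.finrank_eq, Module.finrank_fin_fun])).mp hTi
    choose g hg using fun i => hTs (Pi.single i 1)
    obtain ⟨e, he⟩ : ∃ e : Fin m → (Fin m ⊕ Fin m → F), ∀ i, e i = (b i : Fin m ⊕ Fin m → F) := ⟨_, fun _ => rfl⟩
    obtain ⟨g', hg'⟩ : ∃ g' : Fin m → (Fin m ⊕ Fin m → F), ∀ i, g' i = (g i : Fin m ⊕ Fin m → F) := ⟨_, fun _ => rfl⟩
    have heD : ∀ i, e i ∈ D 0 := fun i => he i ▸ (b i).2
    have hgD : ∀ i, g' i ∈ D 1 := fun i => hg' i ▸ (g i).2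
    have heg : ∀ i j, Cfsg.sympForm m F (e i) (g' j) = (Pi.single j 1 : Fin m → F) i := fun i j => by
      rw [← congrFun (hg j) i, he, hg']; rfl
    -- expansion in the dual bases
    obtain ⟨B, hB⟩ : ∃ B, B = toBilin hf.bilinear := ⟨_, rfl⟩
    have hBapp : ∀ x y, B x y = Cfsg.sympForm m F x y := fun x y => by rw [hB]; rfl
    have hexp : ∀ x, x = ∑ i, B x (g' i) • e i - ∑ i, B x (e i) • g' i := by
      intro x
      refine sub_eq_zero.mp ?_
      by_contra hne
      obtain ⟨z, hz⟩ := (hf.nondegenerate _ hne).1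
      refine hz ?_
      rw [← hsplit z]
      have key : ∀ y, (y ∈ D 0 ∨ y ∈ D 1) →
          Cfsg.sympForm m F y (x - (∑ i, B x (g' i) • e i - ∑ i, B x (e i) • g' i)) = 0 := by
        have base : ∀ j, Cfsg.sympForm m F (e j) (x - (∑ i, B x (g' i) • e i - ∑ i, B x (e i) • g' i)) = 0 ∧
            Cfsg.sympForm m F (g' j) (x - (∑ i, B x (g' i) • e i - ∑ i, B x (e i) • g' i)) = 0 := by
          intro j
          simp only [← hBapp, map_sub, map_sum, map_smul, smul_eq_mul]
          simp only [hBapp, hts 0 _ (heD _) _ (heD _), hts 1 _ (hgD _) _ (hgD _), hf.skew (g' _) (e _), heg,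
            hf.skew (e j) x, hf.skew (g' j) x]
          simp [Pi.single_apply]
        have hgspan : ∀ y : D 1, (y : Fin m ⊕ Fin m → F) = ∑ i, T y i • g' i := fun y => by
          have : y = ∑ i, T y i • g i := hTi (by
            rw [map_sum]
            simp only [map_smul, hg]
            funext k
            simp [Finset.sum_apply, Pi.single_apply])
          conv_lhs => rw [this]
          simp [hg']
        rintro y (hy | hy)
        · have hspan : (⟨y, hy⟩ : D 0) ∈ Submodule.span F (Set.range b) := by rw [b.span_eq]; trivial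
          refine Submodule.span_induction (p := fun (w : D 0) _ => Cfsg.sympForm m F (w : Fin m ⊕ Fin m → F) _ = 0)
            ?_ (zero_left' hf _) ?_ ?_ hspan
          · rintro _ ⟨i, rfl⟩; rw [← he]; exact (base i).1
          · intro u v _ _ hu hv; rw [Submodule.coe_add, add_left' hf, hu, hv, add_zero]
          · intro a u _ hu; rw [Submodule.coe_smul, smul_left' hf, hu, mul_zero]
        · have h := hgspan ⟨y, hy⟩
          simp only at h
          rw [h, ← hBapp, map_sum, LinearMap.sum_apply]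
          refine Finset.sum_eq_zero fun i _ => ?_
          rw [map_smul, LinearMap.smul_apply, hBapp, (base i).2, smul_zero]
      rw [add_left' hf, key _ (Or.inl (dcomp_mem hint 0 z)), key _ (Or.inr (dcomp_mem hint 1 z)), add_zero]
    let σ : (Fin m ⊕ Fin m → F) →ₗ[F] (Fin m ⊕ Fin m → F) :=
      ∑ i, ((B.flip (g' i)).smulRight (g' i) + (B.flip (e i)).smulRight (e i))
    have hσ : ∀ x, σ x = ∑ i, (B x (g' i) • g' i + B x (e i) • e i) := fun x => by simp [σ]
    have hiso : ∀ x y, Cfsg.sympForm m F (σ x) (σ y) = Cfsg.sympForm m F x y := by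
      intro x y
      conv_rhs => rw [hexp x, hexp y]
      simp only [hσ, ← hBapp]
      simp only [map_sum, map_add, map_sub, map_smul, LinearMap.sum_apply, LinearMap.add_apply, LinearMap.sub_apply,
        LinearMap.smul_apply, smul_eq_mul]
      simp only [hBapp, hts 0 _ (heD _) _ (heD _), hts 1 _ (hgD _) _ (hgD _), hf.skew (g' _) (e _), heg]
      simp [Finset.sum_add_distrib, Finset.sum_sub_distrib, Pi.single_apply, Finset.mul_sum]
      ring
    refine ⟨glOfInjective σ (injective_of_isometric hf hiso), fun u v => by simpa using hiso u v, fun x hx => ?_,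
      fun x hx => ?_⟩ <;> rw [glOfInjective_mulVec, hσ] <;> refine Submodule.sum_mem _ fun i _ => ?_
    · rw [hBapp x (e i), hts 0 x hx _ (heD i), zero_smul, add_zero]; exact (D 1).smul_mem _ (hgD i)
    · rw [hBapp x (g' i), hts 1 x hx _ (hgD i), zero_smul, zero_add]; exact (D 0).smul_mem _ (heD i)
  refine ⟨lt_of_le_not_ge inf_le_right fun hle => ?_, fun M hHM hMK => ?_⟩
  · obtain ⟨a, ha, ha0⟩ := Submodule.exists_mem_ne_zero_of_ne_bot (p := D 0) fun h => by
      have := hD.finrank_eq 0; rw [h, finrank_bot] at this; omega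
    obtain ⟨z, hz⟩ := (hf.nondegenerate a ha0).2
    obtain ⟨b, hb⟩ : ∃ b, b = dcomp hint 1 z := ⟨_, rfl⟩
    have hab : Cfsg.sympForm m F a b ≠ 0 := by
      rw [← hsplit z, add_right' hf, hts 0 a ha _ (dcomp_mem hint 0 z), zero_add, ← hb] at hz
      exact hz
    have hbD : b ∈ D 1 := hb ▸ dcomp_mem hint 1 z
    obtain ⟨σ, hσ⟩ := (hle (sT_mem_spGL m b 1)).1
    have h : (sT (Cfsg.sympForm m F) b 1 : Matrix _ _ F) *ᵥ a ∈ D (σ 0) := by
      rw [← hσ 0]; exact Submodule.mem_map.mpr ⟨a, ha, by rw [Matrix.toLin'_apply]⟩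
    rw [sT_mulVec hf, one_mul] at h
    have h0 := dcomp_of_mem hint h 0
    have h1 := dcomp_of_mem hint h 1
    rw [map_add, map_smul, dcomp_of_mem hint ha, dcomp_of_mem hint hbD] at h0 h1
    by_cases hs : σ 0 = 0
    · rw [hs] at h1
      simp at h1
      rcases h1 with h1 | h1
      · exact hab h1
      · exact hab (by rw [h1, zero_right' hf])
    · rw [if_neg (Ne.symm hs)] at h0
      simp at h0
      exact ha0 h0
  by_cases hM : M ≤ Cfsg.Geo.decompositionStabilizer D
  · exact Or.inl (le_antisymm (le_inf hM hMK) hHM)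
  right
  obtain ⟨g, hgM, hgD⟩ := SetLike.not_le_iff_exists.mp hM
  have hgi : Iso (Cfsg.sympForm m F) g := hMK hgM
  have H : Halves (Cfsg.sympForm m F) M (D 0) (D 1) (dcomp hint 0) (dcomp hint 1) :=
    ⟨fun x => dcomp_mem hint 0 x, fun x => dcomp_mem hint 1 x, hsplit, hts 0, hts 1,
      by rw [hD.finrank_eq]; omega, by rw [hD.finrank_eq]; omega, fun c hc d hd h l => hHM (hX c hc d hd h l)⟩
  have hJM : J ∈ M := hHM ⟨hmaps J (Equiv.swap 0 1) (fun i x hx => by
    fin_cases i
    · simpa using hJ0 x hx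
    · simpa using hJ1 x hx), hJi⟩
  obtain ⟨u, hu0, hu⟩ : ∃ u, u ≠ 0 ∧ Full (Cfsg.sympForm m F) M u := by
    by_contra hcon
    -- every element of a half is sent into a half
    have hpure : ∀ i, ∀ x ∈ D i, (g : Matrix _ _ F) *ᵥ x ∈ D 0 ∨ (g : Matrix _ _ F) *ᵥ x ∈ D 1 := by
      intro i x hx
      by_contra h
      simp only [not_or] at h
      have hne : dcomp hint 0 ((g : Matrix _ _ F) *ᵥ x) ≠ 0 ∧ dcomp hint 1 ((g : Matrix _ _ F) *ᵥ x) ≠ 0 := by
        refine ⟨fun h0 => h.2 ?_, fun h0 => h.1 ?_⟩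
        · rw [← hsplit ((g : Matrix _ _ F) *ᵥ x), h0, zero_add]; exact dcomp_mem hint 1 _
        · rw [← hsplit ((g : Matrix _ _ F) *ᵥ x), h0, add_zero]; exact dcomp_mem hint 0 _
      fin_cases i
      · exact hcon (H.exists_full hf h2' hgM hgi hx hne)
      · exact hcon ((H.symm hf).exists_full hf h2' hgM hgi hx hne.symm)
    have hwhole : ∀ i, ∃ j, ∀ x ∈ D i, (g : Matrix _ _ F) *ᵥ x ∈ D j := by
      intro i
      have hsub : (D i ≤ (D 0).comap (Matrix.toLin' (g : Matrix _ _ F))) ∨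
          (D i ≤ (D 1).comap (Matrix.toLin' (g : Matrix _ _ F))) :=
        AddSubgroupClass.subset_union.mp fun x hx => by simpa [Matrix.toLin'_apply] using hpure i x hx
      rcases hsub with h | h
      · exact ⟨0, fun x hx => by simpa [Matrix.toLin'_apply] using h hx⟩
      · exact ⟨1, fun x hx => by simpa [Matrix.toLin'_apply] using h hx⟩
    choose s hs using hwhole
    have himg : ∀ i, (D i).map (Matrix.toLin' (g : Matrix _ _ F)) = D (s i) := fun i =>
      map_gl_eq_of_le g (by rw [hD.finrank_eq, hD.finrank_eq]) (hs i)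
    have hsne : s 0 ≠ s 1 := by
      intro h
      have h01 : D 0 = D 1 := by
        have := (himg 0).trans ((congrArg D h).trans (himg 1).symm)
        exact Submodule.map_injective_of_injective (fun x y hxy => mulVec_injective g (by simpa using hxy)) this
      obtain ⟨a, ha, ha0⟩ := Submodule.exists_mem_ne_zero_of_ne_bot (p := D 0) fun h => by
        have := hD.finrank_eq 0; rw [h, finrank_bot] at this; omega
      exact ha0 (H.inter hf ha (h01 ▸ ha))
    have hsinj : Function.Injective s := by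
      intro i j hij
      fin_cases i <;> fin_cases j <;> simp_all
    exact hgD ⟨Equiv.ofBijective s hsinj.bijective_of_finite, himg⟩
  exact le_antisymm hMK (spGL_le_of_full (H.spread hf h2' hJM hJi hJ0 hJ1 hu0 hu))

/-- For a finite field F of odd order and m ≥ 7, let D be a decomposition of F^(2m) into two complementary subspaces of dimension m on each of which the standard alternating form vanishes identically. Then the elements of Sp_2m(F) preserving or interchanging the two subspaces form a maximal subgroup of Sp_2m(F). -/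
theorem result {F : Type*} [Field F] [Fintype F] (m : ℕ) (hm : 7 ≤ m) (hodd : Odd (Fintype.card F)) (D : Fin 2 → Submodule F (Fin m ⊕ Fin m → F)) (hD : Cfsg.Geo.IsMDecomposition m D) (hts : ∀ i, Cfsg.Geo.IsTotallySingularFor (Cfsg.sympForm m F) (D i)) : Cfsg.Geo.IsMaximalIn (Cfsg.spGL m F) (Cfsg.Geo.decompositionStabilizer D ⊓ Cfsg.spGL m F) :=
  result_of_le m (le_trans (by norm_num) hm) hodd D hD hts

end Cfsg.Agent.S5649
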