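import Cfsg.Statements.S5650
import Cfsg.Agent.Lib.Transvec.SpSubfield

set_option autoImplicit false
open Cfsg

namespace Cfsg.Agent.S5650

open CfsgLib.Transvec CfsgLib.Transvec.SpSubfield Matrix
open scoped MatrixGroups

/-- The general form of the statement. -/
theorem result_of_le {F : Type*} [Field F] [Fintype F] (m : ℕ) (hm : 3 ≤ m) (F₀ : Subfield F) (r : ℕ) (hr : r.Prime) (hcard : Fintype.card F = Nat.card F₀ ^ r) (P : Matrix.GeneralLinearGroup (Fin m ⊕ Fin m) F) (ζ : F) (hζ : ζ ≠ 0) (hP : Cfsg.Geo.IsFormRationalStructure (Cfsg.sympForm m F) F₀ ζ P) : Cfsg.Geo.IsMaximalIn (Cfsg.spGL m F) (Cfsg.Geo.subfieldSubgroup F₀ P ⊓ Cfsg.spGL m F) := by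
  classical
  have hf := isSymplecticForm_sympForm (F := F) m
  obtain ⟨f, hfdef⟩ : ∃ f : (Fin m ⊕ Fin m → F) → (Fin m ⊕ Fin m → F) → F,
      ∀ x y, f x y = ζ * Cfsg.sympForm m F x y := ⟨_, fun _ _ => rfl⟩
  have hg : Cfsg.Geo.IsSymplecticForm f := by
    refine ⟨⟨fun x y v => ?_, fun c x v => ?_, fun v x y => ?_, fun c v x => ?_⟩, fun v w => ?_, fun v => ?_,
      fun v hv => ?_⟩
    · rw [hfdef, hfdef, hfdef, add_left' hf]; ring
    · rw [hfdef, hfdef, smul_left' hf]; ring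
    · rw [hfdef, hfdef, hfdef, add_right' hf]; ring
    · rw [hfdef, hfdef, smul_right' hf]; ring
    · rw [hfdef, hfdef, hf.skew v w]; ring
    · rw [hfdef, hf.alternating, mul_zero]
    · obtain ⟨⟨x, hx⟩, ⟨y, hy⟩⟩ := hf.nondegenerate v hv
      exact ⟨⟨x, by rw [hfdef]; exact mul_ne_zero hζ hx⟩, ⟨y, by rw [hfdef]; exact mul_ne_zero hζ hy⟩⟩
  have hiso : ∀ h, Iso f h ↔ h ∈ Cfsg.spGL m F := fun h => by
    rw [mem_spGL_iff]
    refine ⟨fun hh u v => ?_, fun hh u v => by rw [hfdef, hfdef, hh]⟩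
    have := hh u v
    rw [hfdef, hfdef] at this
    exact mul_left_cancel₀ hζ this
  have hR : ∀ u v : Fin m ⊕ Fin m → F₀, f (rv P u) (rv P v) ∈ F₀ := fun u v => by
    rw [hfdef]; exact hP _ _ (fun i => (u i).2) (fun i => (v i).2)
  have hdim : 6 ≤ Fintype.card (Fin m ⊕ Fin m) := by simp; omega
  have hlt : F₀ < (⊤ : Subfield F) := by
    refine lt_top_iff_ne_top.mpr fun h => ?_
    have h1 : Nat.card F₀ = Fintype.card F := by
      rw [← Nat.card_eq_fintype_card]
      exact Nat.card_congr (Equiv.subtypeUnivEquiv fun x => by rw [h]; trivial)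
    rw [h1] at hcard
    have h2 : 1 < Fintype.card F := Fintype.one_lt_card
    exact absurd ((Nat.pow_eq_self_iff h2).mp hcard.symm) hr.one_lt.ne'
  have hgen : ∀ R : Subfield F, F₀ < R → R = ⊤ := by
    intro R hR'
    letI : Algebra F₀ R := (Subfield.inclusion hR'.le).toAlgebra
    haveI : IsScalarTower F₀ R F := IsScalarTower.of_algebraMap_eq (fun _ => rfl)
    have hfin : Module.finrank F₀ R * Module.finrank R F = r := by
      rw [Module.finrank_mul_finrank]
      have h1 := Module.natCard_eq_pow_finrank (K := F₀) (V := F)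
      rw [Nat.card_eq_fintype_card, hcard] at h1
      exact (Nat.pow_right_injective (Nat.succ_le_of_lt Finite.one_lt_card) h1).symm
    rcases Nat.prime_mul_iff.mp (hfin ▸ hr) with ⟨-, h1⟩ | ⟨-, h1⟩
    · refine top_unique fun x _ => ?_
      obtain ⟨c, hc⟩ := (finrank_eq_one_iff_of_nonzero' (1 : F) one_ne_zero).mp h1 x
      rw [← hc, Subfield.smul_def, smul_eq_mul, mul_one]
      exact c.2
    · refine absurd (fun x hx => ?_) hR'.not_ge
      obtain ⟨c, hc⟩ := (finrank_eq_one_iff_of_nonzero' (1 : R) one_ne_zero).mp h1 ⟨x, hx⟩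
      have hc' : (c : F) * 1 = x := congrArg Subtype.val hc
      rw [← hc', mul_one]
      exact c.2
  refine ⟨lt_of_le_not_ge inf_le_right fun hle => ?_, fun M hHM hMK => ?_⟩
  · obtain ⟨θ, -, hθ⟩ := SetLike.exists_of_lt hlt
    have hB := isSymplectic_rForm hg hR
    obtain ⟨r₀, hr₀⟩ : ∃ r₀ : Fin m ⊕ Fin m → F₀, r₀ ≠ 0 := ⟨Pi.single (.inl ⟨0, by omega⟩) 1, by simp⟩
    obtain ⟨x', hx'⟩ := (hB.nondegenerate r₀ hr₀).1
    obtain ⟨x, hx⟩ : ∃ x, rForm hR x r₀ = 1 :=
      ⟨(rForm hR x' r₀)⁻¹ • x', by rw [smul_left' hB, inv_mul_cancel₀ hx']⟩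
    have hxr : f (rv P x) (rv P r₀) = 1 := congrArg Subtype.val hx
    obtain ⟨l, s, hls⟩ := lines_of_mem_subfieldSubgroup (hle ((hiso _).mp (iso_sT hg (rv P r₀) θ))).1 x
    change (sT f (rv P r₀) θ : Matrix _ _ F) *ᵥ rv P x = l • rv P s at hls
    rw [sT_mulVec hg, hxr, mul_one] at hls
    have h1 := congrArg (fun z => f z (rv P r₀)) hls
    have h2 := congrArg (fun z => f (rv P x) z) hls
    simp only [add_left' hg, smul_left' hg, hg.alternating, mul_zero, add_zero, hxr] at h1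
    simp only [add_right' hg, smul_right' hg, hg.alternating, zero_add, hxr, mul_one] at h2
    have hl : l ∈ F₀ := by rw [eq_inv_of_mul_eq_one_left h1.symm]; exact inv_mem (hR _ _)
    exact hθ (h2 ▸ mul_mem hl (hR _ _))
  by_cases hM : M ≤ Cfsg.Geo.subfieldSubgroup F₀ P
  · exact Or.inl (le_antisymm (le_inf hM hMK) hHM)
  right
  obtain ⟨g, hgM, hgH⟩ := SetLike.not_le_iff_exists.mp hM
  have hMh : ∀ h : GL (Fin m ⊕ Fin m) F₀, Iso (rForm hR) h → subfieldHom F₀ P h ∈ M := fun h hh =>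
    hHM ⟨subfieldHom_mem h, (hiso _).mp (iso_hom hg hR hh)⟩
  obtain ⟨u, hu⟩ : ∃ u : Fin m ⊕ Fin m → F₀, ∀ (l : F) r', (g : Matrix _ _ F) *ᵥ rv P u ≠ l • rv P r' := by
    by_contra h
    simp only [not_exists, not_forall, not_not] at h
    exact hgH (mem_subfieldSubgroup_of_lines g h)
  have hB := isSymplectic_rForm hg hR
  have hvM : sT f ((g : Matrix _ _ F) *ᵥ rv P u) 1 ∈ M := by
    rw [← conj_sT_iso hg ((hiso g).mpr (hMK hgM))]
    refine M.mul_mem (M.mul_mem hgM ?_) (M.inv_mem hgM)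
    have e : subfieldHom F₀ P (sT (rForm hR) u 1) = sT f (rv P u) 1 := gl_ext_rv (P := P) fun w => by
      rw [hom_rv, sT_mulVec hB, rv_add, rv_smul, sT_mulVec hg]
      simp [rForm]
    rw [← e]
    exact hMh _ (iso_sT hB u 1)
  refine le_antisymm hMK fun h hh => ?_
  exact iso_mem_of_full hg (all_full hg hR hdim hgen hMh hu hvM) ((hiso h).mpr hh)

/-- For a finite field F, a subfield F₀ with |F| = |F₀| ^ r for a prime r, and m ≥ 7, let P be an invertible matrix and ζ a non-zero scalar such that ζ times the standard alternating form takes values in F₀ on the F₀-span of the columns of P. Then the elements of Sp_2m(F) lying in the subfield group of P (the conjugate by P of the product of GL_2m(F₀) with the scalars) form a maximal subgroup of Sp_2m(F). -/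
theorem result {F : Type*} [Field F] [Fintype F] (m : ℕ) (hm : 7 ≤ m) (F₀ : Subfield F) (r : ℕ) (hr : r.Prime) (hcard : Fintype.card F = Nat.card F₀ ^ r) (P : Matrix.GeneralLinearGroup (Fin m ⊕ Fin m) F) (ζ : F) (hζ : ζ ≠ 0) (hP : Cfsg.Geo.IsFormRationalStructure (Cfsg.sympForm m F) F₀ ζ P) : Cfsg.Geo.IsMaximalIn (Cfsg.spGL m F) (Cfsg.Geo.subfieldSubgroup F₀ P ⊓ Cfsg.spGL m F) :=
  result_of_le m (le_trans (by norm_num) hm) F₀ r hr hcard P ζ hζ hP

end Cfsg.Agent.S5650
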