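import Cfsg.Statements.S5652
import Cfsg.Agent.Lib.Transvec.QuadCharTwo

set_option autoImplicit false
open Cfsg

namespace Cfsg.Agent.S5652

open CfsgLib.Transvec Matrix

/-- The general form of the statement. -/
theorem result_of_le {F : Type*} [Field F] [Fintype F] (m : ℕ) (hm : 3 ≤ m) (heven : ¬ Odd (Fintype.card F)) (Q : (Fin m ⊕ Fin m → F) → F) (hQ : Cfsg.Geo.IsNondegenerateQuadraticForm Q) (hpol : ∀ u v, QuadraticMap.polar Q u v = Cfsg.sympForm m F u v) : Cfsg.Geo.IsMaximalIn (Cfsg.spGL m F) (Cfsg.Geo.quadSimilarityGroup Q ⊓ Cfsg.spGL m F) := by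
  classical
  haveI : CharP F 2 := by
    have h2 : ringChar F = 2 := FiniteField.even_card_iff_char_two.mpr
      (Nat.even_iff.mp (Nat.not_odd_iff_even.mp heven))
    rw [← h2]; exact ringChar.charP F
  have hf := isSymplecticForm_sympForm (F := F) m
  have hQf : ∀ u v, Q (u + v) = Q u + Q v + Cfsg.sympForm m F u v := fun u v => by
    rw [← hpol]; simp only [QuadraticMap.polar]; ring
  have hdim : 5 ≤ Fintype.card (Fin m ⊕ Fin m) := by simp; omega
  -- similarities in the symplectic group are isometries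
  have hiso : ∀ g ∈ Cfsg.Geo.quadSimilarityGroup Q ⊓ Cfsg.spGL m F,
      ∀ v, Q ((g : Matrix _ _ F) *ᵥ v) = Q v := by
    rintro g ⟨⟨c, hc⟩, hg⟩ v
    obtain ⟨u, hu⟩ : ∃ u : Fin m ⊕ Fin m → F, u ≠ 0 :=
      ⟨Pi.single (.inl ⟨0, by omega⟩) 1, by simp⟩
    obtain ⟨x, hx⟩ := (hf.nondegenerate u hu).1
    have h := hc (x + u)
    rw [mulVec_add, hQf, hQf, hc, hc, (mem_spGL_iff m g).mp hg] at h
    have h1 : (c : F) = 1 := by
      have : Cfsg.sympForm m F x u * ((c : F) - 1) = 0 := by linear_combination -h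
      exact sub_eq_zero.mp ((mul_eq_zero.mp this).resolve_left hx)
    rw [hc v, h1, one_mul]
  refine ⟨lt_of_le_not_ge inf_le_right fun hle => ?_, fun M hHM hMK => ?_⟩
  · obtain ⟨x, hx0, hx⟩ := exists_singular hf hQ.smul hQf hdim
    obtain ⟨y, hy⟩ := (hf.nondegenerate x hx0).1
    have h := hiso _ (hle (sT_mem_spGL m x 1)) y
    rw [quad_sT hf hQ.smul hQf, hx, mul_zero, add_zero, mul_one, one_mul, add_eq_left] at h
    exact hy (pow_eq_zero_iff two_ne_zero |>.mp h)
  by_cases hM : M ≤ Cfsg.Geo.quadSimilarityGroup Q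
  · exact Or.inl (le_antisymm (le_inf hM hMK) hHM)
  right
  obtain ⟨g, hgM, hg⟩ := SetLike.not_le_iff_exists.mp hM
  refine le_antisymm hMK (spGL_le_of_full
    (full_of_quad hf hQ.smul hQf (fun h hh => hHM ⟨⟨1, fun v => by rw [Units.val_one, one_mul, hh]⟩,
      iso_of_quad hf hQ.smul hQf hh⟩) hdim hgM (hMK hgM) ?_))
  by_contra h
  simp only [not_exists, not_not] at h
  exact hg ⟨1, fun v => by rw [Units.val_one, one_mul, h]⟩

/-- For a finite field F of characteristic two and m ≥ 7, let Q be a non-degenerate quadratic form on F^(2m) whose polar form is the standard alternating form. Then the elements of Sp_2m(F) that are similarities of Q (they are exactly the isometries of Q) form a maximal subgroup of Sp_2m(F). -/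
theorem result {F : Type*} [Field F] [Fintype F] (m : ℕ) (hm : 7 ≤ m) (heven : ¬ Odd (Fintype.card F)) (Q : (Fin m ⊕ Fin m → F) → F) (hQ : Cfsg.Geo.IsNondegenerateQuadraticForm Q) (hpol : ∀ u v, QuadraticMap.polar Q u v = Cfsg.sympForm m F u v) : Cfsg.Geo.IsMaximalIn (Cfsg.spGL m F) (Cfsg.Geo.quadSimilarityGroup Q ⊓ Cfsg.spGL m F) :=
  result_of_le m (le_trans (by norm_num) hm) heven Q hQ hpol

end Cfsg.Agent.S5652
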