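import Cfsg.Statements.S5656
import Cfsg.Agent.Lib.Classical22.DecompCoords
import Cfsg.Agent.Lib.Transvec.HermForm
-- import your own Cfsg.Agent.* helpers here

set_option autoImplicit false
open Cfsg

namespace Cfsg.Agent.S5656

open Matrix CfsgLib.Transvec CfsgLib.Transvec.Unitary CfsgLib.Classical22.Monomial CfsgLib.Classical22.DecompBlocks
open CfsgLib.Classical22.DecompCoords

theorem plane_basis {F : Type*} [Field F] [Fintype F] (hq : Fintype.card F = 4) {n : ℕ} {σ : F ≃+* F}
    (hσ : ∀ x, σ x = x ^ 2) {f : (Fin n → F) → (Fin n → F) → F} (hf : Cfsg.Geo.IsUnitaryForm σ f)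
    {W : Submodule F (Fin n → F)} (hd : Module.finrank F W = 2)
    (hnd : ∀ w ∈ W, w ≠ 0 → ∃ x ∈ W, f w x ≠ 0) :
    ∃ u : Fin 2 → (Fin n → F), (∀ k, u k ∈ W) ∧ ∀ k l, f (u k) (u l) = if k = l then 1 else 0 := by
  classical
  have hcube : ∀ a : F, a ≠ 0 → a ^ 3 = 1 := fun a ha => by
    have := FiniteField.pow_card_sub_one_eq_one a ha
    rwa [hq] at this
  have h2 : (2 : F) = 0 := by
    have h := FiniteField.cast_card_eq_zero F
    rw [hq] at h
    simp only [Nat.cast_ofNat] at h
    exact mul_self_eq_zero.1 (by linear_combination h)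
  have h01 : ∀ v, f v v = 0 ∨ f v v = 1 := by
    intro v
    rcases eq_or_ne (f v v) 0 with h | h
    · exact Or.inl h
    · right
      have h1 : f v v = f v v ^ 2 := by
        conv_lhs => rw [hf.herm, hσ]
      exact mul_left_cancel₀ h (by linear_combination -h1)
  obtain ⟨ω, hω0, hω1⟩ : ∃ ω : F, ω ≠ 0 ∧ ω ≠ 1 := by
    by_contra hc
    push Not at hc
    have hsub : (Finset.univ : Finset F) ⊆ {0, 1} := fun x _ => by
      by_cases hx : x = 0
      · simp [hx]
      · simp [hc x hx]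
    have := (Finset.card_le_card hsub).trans (Finset.card_le_two)
    rw [Finset.card_univ, hq] at this
    omega
  obtain ⟨u, hu, huu⟩ : ∃ u ∈ W, f u u = 1 := by
    by_contra hc
    push Not at hc
    have hiso : ∀ v ∈ W, f v v = 0 := fun v hv => (h01 v).resolve_right (hc v hv)
    obtain ⟨v, hv, hv0⟩ := W.exists_mem_ne_zero_of_ne_bot (fun h => by rw [h, finrank_bot] at hd; omega)
    obtain ⟨x, hx, hx0⟩ := hnd v hv hv0
    have key : ∀ c : F, σ c * f v x + c * σ (f v x) = 0 := by
      intro c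
      have h := hiso (v + c • x) (W.add_mem hv (W.smul_mem c hx))
      rw [hf.add_left, hf.smul_left, add_right' hf, add_right' hf, smul_right' hf, smul_right' hf, hiso v hv,
        hiso x hx, hf.herm x v] at h
      linear_combination h
    have k1 := key 1
    have k2 := key ω
    rw [hσ, hσ] at k1 k2
    have hfv : f v x = 1 := mul_left_cancel₀ hx0 (by linear_combination k1 - (f v x) * h2)
    rw [hfv] at k2
    refine hω1 (mul_left_cancel₀ hω0 (?_ : ω * ω = ω * 1))
    linear_combination k2 - ω * h2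
  obtain ⟨v, hv, hvu⟩ : ∃ v ∈ W, v ∉ Submodule.span F {u} := by
    by_contra hc
    push Not at hc
    have h1 := Submodule.finrank_mono (show W ≤ Submodule.span F {u} from hc)
    have h3 := finrank_span_le_card (R := F) ({u} : Set (Fin n → F))
    simp only [Set.toFinset_singleton, Finset.card_singleton] at h3
    omega
  obtain ⟨w, hw⟩ : ∃ w, w = v + (-(f v u)) • u := ⟨_, rfl⟩
  have hwW : w ∈ W := hw ▸ W.add_mem hv (W.smul_mem _ hu)
  have hwu : f w u = 0 := by rw [hw, hf.add_left, hf.smul_left, huu]; ring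
  have huw : f u w = 0 := by rw [hf.herm, hwu, map_zero]
  have hw0 : w ≠ 0 := fun h => hvu (Submodule.mem_span_singleton.2 ⟨f v u, by
    rw [hw, neg_smul, ← sub_eq_add_neg, sub_eq_zero] at h; exact h.symm⟩)
  have hli : W = Submodule.span F (Set.range ![u, w]) := by
    have hind : LinearIndependent F ![u, w] := by
      rw [LinearIndependent.pair_iff]
      intro a b hab
      have ha : a = 0 := by
        have h := congrArg (fun z => f z u) hab
        simp only [hf.add_left, hf.smul_left, huu, hwu, zero_left' hf, mul_zero, add_zero, mul_one] at h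
        exact h
      rw [ha, zero_smul, zero_add, smul_eq_zero] at hab
      exact ⟨ha, hab.resolve_right hw0⟩
    refine (Submodule.eq_of_le_of_finrank_eq ?_ ?_).symm
    · rw [Submodule.span_le]
      rintro _ ⟨k, rfl⟩
      fin_cases k
      · exact hu
      · exact hwW
    · rw [finrank_span_eq_card hind, hd, Fintype.card_fin]
  have hww : f w w = 1 := (h01 w).resolve_left fun h0 => by
    obtain ⟨x, hx, hx0⟩ := hnd w hwW hw0
    rw [hli, Submodule.mem_span_range_iff_exists_fun] at hx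
    obtain ⟨c, rfl⟩ := hx
    apply hx0
    simp [Fin.sum_univ_two, add_right' hf, smul_right' hf, hwu, h0]
  refine ⟨![u, w], fun k => by fin_cases k <;> assumption, fun k l => ?_⟩
  fin_cases k <;> fin_cases l <;> simp [huu, hww, huw, hwu]

theorem exists_overgroup {F : Type*} [Field F] [Fintype F] (n : ℕ) (hF : Fintype.card F = 4) (hn : 13 ≤ n) {t : ℕ}
    {D : Fin t → Submodule F (Fin n → F)} (hD : Cfsg.Geo.IsNondegenerateMDecomposition (Cfsg.hermForm n F 2) 2 D) :
    ∃ K : Subgroup (GL (Fin n) F),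
      Cfsg.Geo.decompositionStabilizer D ⊓ (Cfsg.GU n F 2 ⊓ Cfsg.Geo.specialLinear (Fin n) F) < K ∧
      K < Cfsg.GU n F 2 ⊓ Cfsg.Geo.specialLinear (Fin n) F := by
  classical
  have hF' : Fintype.card F = 2 ^ 2 := hF
  obtain ⟨σ, hσ, hinv, hne⟩ := exists_frob hF'
  have hf := isUnitaryForm_hermForm (n := n) hσ hinv hne
  obtain ⟨e, -, -⟩ := exists_coords hD.decomp
  have hcard : t * 2 = n := by simpa using Fintype.card_congr e
  choose u hu hou using fun j => plane_basis hF hσ hf (hD.decomp.finrank_eq j) (fun w hw hw0 => (hD.nondegenerate j w hw hw0).2)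
  obtain ⟨U, hU⟩ : ∃ U : Matrix (Fin n) (Fin n) F, ∀ x, U *ᵥ x = ∑ l, x l • u (e.symm l).1 (e.symm l).2 := by
    refine ⟨Matrix.of fun i l => u (e.symm l).1 (e.symm l).2 i, fun x => ?_⟩
    funext i
    rw [Finset.sum_apply]
    simp [Matrix.mulVec, dotProduct, mul_comm]
  have hdual : ∀ (x : Fin n → F) l, Cfsg.hermForm n F 2 (U *ᵥ x) (u (e.symm l).1 (e.symm l).2) = x l := by
    intro x l
    have hsum : ∀ (s : Finset (Fin n)) (z : Fin n → F), Cfsg.hermForm n F 2 (∑ i ∈ s, x i • u (e.symm i).1 (e.symm i).2) z =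
        ∑ i ∈ s, x i * Cfsg.hermForm n F 2 (u (e.symm i).1 (e.symm i).2) z := by
      intro s z
      induction s using Finset.induction_on with
      | empty => simp [zero_left' hf]
      | insert i s hi ih => rw [Finset.sum_insert hi, Finset.sum_insert hi, hf.add_left, hf.smul_left, ih]
    rw [hU, hsum, Finset.sum_eq_single l]
    · rw [hou, if_pos rfl, mul_one]
    · intro i _ hi
      by_cases hb : (e.symm i).1 = (e.symm l).1
      · rw [hb, hou, if_neg (fun h => hi (e.symm.injective (Prod.ext hb h))), mul_zero]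
      · rw [hD.orthogonal _ _ hb _ (hu _ _) _ (hu _ _), mul_zero]
    · intro h; exact absurd (Finset.mem_univ _) h
  have hUi : Function.Injective U.mulVec := fun x y hxy => funext fun l => by
    rw [← hdual x l, ← hdual y l]; exact congrArg (fun z => Cfsg.hermForm n F 2 z _) hxy
  obtain ⟨P, hPU⟩ : ∃ P : GL (Fin n) F, (P : Matrix (Fin n) (Fin n) F) = U :=
    ⟨(Matrix.mulVec_injective_iff_isUnit.1 hUi).unit, rfl⟩
  have hP : ∀ (j : Fin t) (x : Fin n → F), (P : Matrix (Fin n) (Fin n) F) *ᵥ x ∈ D j ↔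
      InBlk (fun l => (e.symm l).1) j x := by
    intro j x
    rw [hPU]
    constructor
    · intro hx l hl
      rw [← hdual x l]
      exact hD.orthogonal j _ (Ne.symm hl) _ hx _ (hu _ _)
    · intro hx
      rw [hU]
      refine (D j).sum_mem fun l _ => ?_
      by_cases hl : (e.symm l).1 = j
      · exact (D j).smul_mem _ (hl ▸ hu _ _)
      · rw [hx l hl, zero_smul]
        exact (D j).zero_mem
  have hiso : ∀ x y, Cfsg.hermForm n F 2 ((P : Matrix (Fin n) (Fin n) F) *ᵥ x) ((P : Matrix (Fin n) (Fin n) F) *ᵥ y) =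
      Cfsg.hermForm n F 2 x y := by
    intro x y
    have hsum : ∀ (s : Finset (Fin n)) (z : Fin n → F), Cfsg.hermForm n F 2 z (∑ i ∈ s, y i • u (e.symm i).1 (e.symm i).2) =
        ∑ i ∈ s, σ (y i) * Cfsg.hermForm n F 2 z (u (e.symm i).1 (e.symm i).2) := by
      intro s z
      induction s using Finset.induction_on with
      | empty => simp [zero_right' hf]
      | insert i s hi ih => rw [Finset.sum_insert hi, Finset.sum_insert hi, add_right' hf, smul_right' hf, ih]
    rw [hPU, hU y, hsum, hermForm_eq hσ]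
    exact Finset.sum_congr rfl fun i _ => by rw [hdual, mul_comm]
  let W : Subgroup (GL (Fin n) F) :=
    { carrier := {g | IsMono (P⁻¹ * g * P)}
      one_mem' := by
        show IsMono (P⁻¹ * 1 * P)
        rw [mul_one, inv_mul_cancel, ← mono_one]
        exact isMono_mono _ _
      mul_mem' := fun {a b} ha hb => by
        show IsMono (P⁻¹ * (a * b) * P)
        rw [show P⁻¹ * (a * b) * P = (P⁻¹ * a * P) * (P⁻¹ * b * P) by group]
        exact IsMono.mul ha hb
      inv_mem' := fun {a} ha => by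
        show IsMono (P⁻¹ * a⁻¹ * P)
        rw [show P⁻¹ * a⁻¹ * P = (P⁻¹ * a * P)⁻¹ by group]
        exact IsMono.inv ha }
  have hPinv : ∀ x y, Cfsg.hermForm n F 2 (((P⁻¹ : GL (Fin n) F) : Matrix (Fin n) (Fin n) F) *ᵥ x)
      (((P⁻¹ : GL (Fin n) F) : Matrix (Fin n) (Fin n) F) *ᵥ y) = Cfsg.hermForm n F 2 x y := fun x y => by
    rw [← hiso, mulVec_inv_cancel, mulVec_inv_cancel]
  have hcube : ∀ a : F, a ≠ 0 → a ^ 3 = 1 := fun a ha => by
    have := FiniteField.pow_card_sub_one_eq_one a ha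
    rwa [hF] at this
  have hle : Cfsg.Geo.decompositionStabilizer D ⊓ (Cfsg.GU n F 2 ⊓ Cfsg.Geo.specialLinear (Fin n) F) ≤
      W ⊓ (Cfsg.GU n F 2 ⊓ Cfsg.Geo.specialLinear (Fin n) F) := by
    rintro y ⟨hy, hy'⟩
    refine ⟨fun c => ?_, hy'⟩
    obtain ⟨s, hs⟩ := (mem_stabilizer_iff hD.decomp hP y).1 hy
    obtain ⟨⟨j, k⟩, rfl⟩ := e.surjective c
    obtain ⟨z, hz⟩ : ∃ z, z = ((P⁻¹ * y * P : GL (Fin n) F) : Matrix (Fin n) (Fin n) F) *ᵥ Pi.single (e (j, k)) 1 := ⟨_, rfl⟩
    have hzz : Cfsg.hermForm n F 2 z z = 1 := by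
      rw [hz, mul_mulVec, mul_mulVec, hPinv]
      have h : ∀ a b, Cfsg.hermForm n F 2 ((y : Matrix (Fin n) (Fin n) F) *ᵥ a) ((y : Matrix (Fin n) (Fin n) F) *ᵥ b) =
          Cfsg.hermForm n F 2 a b := hy'.1
      rw [h, hiso, hermForm_basis hσ, if_pos rfl]
    have hzb : InBlk (fun l => (e.symm l).1) (s j) z := hz ▸ hs j _ (inBlk_single (by simp) 1)
    have hzs : z (e (s j, 0)) ^ 3 + z (e (s j, 1)) ^ 3 = 1 := by
      rw [← hzz, Cfsg.hermForm, ← Equiv.sum_comp e, Fintype.sum_prod_type, Finset.sum_eq_single (s j)]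
      · rw [Fin.sum_univ_two]; ring
      · intro i _ hi
        refine Finset.sum_eq_zero fun k' _ => ?_
        rw [hzb _ (by simpa using hi), zero_mul]
      · intro h; exact absurd (Finset.mem_univ _) h
    have hcol : ∀ l, (P⁻¹ * y * P : GL (Fin n) F).1 l (e (j, k)) = z l := fun l => by
      rw [hz, Matrix.mulVec_single_one]; rfl
    have h2 : (2 : F) = 0 := by
      have h := FiniteField.cast_card_eq_zero F
      rw [hF] at h
      simp only [Nat.cast_ofNat] at h
      exact mul_self_eq_zero.1 (by linear_combination h)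
    by_cases h0 : z (e (s j, 0)) = 0
    · refine ⟨e (s j, 1), fun l hl => ?_⟩
      rw [hcol]
      obtain ⟨⟨i, k'⟩, rfl⟩ := e.surjective l
      by_cases hi : i = s j
      · subst hi
        fin_cases k'
        · exact h0
        · exact absurd rfl hl
      · exact hzb _ (by simpa using hi)
    · refine ⟨e (s j, 0), fun l hl => ?_⟩
      rw [hcol]
      obtain ⟨⟨i, k'⟩, rfl⟩ := e.surjective l
      by_cases hi : i = s j
      · subst hi
        fin_cases k'
        · exact absurd rfl hl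
        · by_contra h1
          have e1 : z (e (s j, 1)) ^ 3 = 1 := hcube _ h1
          rw [hcube _ h0, e1] at hzs
          exact one_ne_zero (by linear_combination -hzs + h2)
      · exact hzb _ (by simpa using hi)
  refine ⟨W ⊓ (Cfsg.GU n F 2 ⊓ Cfsg.Geo.specialLinear (Fin n) F), lt_of_le_of_ne hle fun heq => ?_,
    lt_of_le_of_ne inf_le_right fun heq => ?_⟩
  · obtain ⟨j₀, hj₀⟩ : ∃ j : Fin t, j.val = 0 := ⟨⟨0, by omega⟩, rfl⟩
    obtain ⟨j₁, hj₁⟩ : ∃ j : Fin t, j.val = 1 := ⟨⟨1, by omega⟩, rfl⟩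
    obtain ⟨j₂, hj₂⟩ : ∃ j : Fin t, j.val = 2 := ⟨⟨2, by omega⟩, rfl⟩
    have h01 : j₀ ≠ j₁ := fun h => by rw [h] at hj₀; omega
    have h02 : j₀ ≠ j₂ := fun h => by rw [h] at hj₀; omega
    have h12 : j₁ ≠ j₂ := fun h => by rw [h] at hj₁; omega
    obtain ⟨π, hπ⟩ : ∃ π : Equiv.Perm (Fin n),
        π = Equiv.swap (e (j₀, 0)) (e (j₁, 0)) * Equiv.swap (e (j₁, 0)) (e (j₂, 0)) := ⟨_, rfl⟩
    obtain ⟨g, hg⟩ : ∃ g : GL (Fin n) F, g = mono π 1 := ⟨_, rfl⟩
    have hgi : ∀ x y, Cfsg.hermForm n F 2 ((g : Matrix (Fin n) (Fin n) F) *ᵥ x) ((g : Matrix (Fin n) (Fin n) F) *ᵥ y) =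
        Cfsg.hermForm n F 2 x y := by
      intro x y
      simp only [Cfsg.hermForm]
      rw [← Equiv.sum_comp π]
      refine Finset.sum_congr rfl fun i _ => ?_
      rw [hg, mono_mulVec, mono_mulVec]; simp
    have hgd : Matrix.GeneralLinearGroup.det g = 1 := Units.ext (by
      rw [Matrix.GeneralLinearGroup.val_det_apply, hg, det_mono, hπ, map_mul, Equiv.Perm.sign_swap
        (fun h => h01 (congrArg Prod.fst (e.injective h))), Equiv.Perm.sign_swap
        (fun h => h12 (congrArg Prod.fst (e.injective h)))]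
      simp)
    have hmem : P * g * P⁻¹ ∈ W ⊓ (Cfsg.GU n F 2 ⊓ Cfsg.Geo.specialLinear (Fin n) F) := by
      refine ⟨?_, ?_, MonoidHom.mem_ker.2 (by rw [map_mul, map_mul, hgd, mul_one, map_inv, mul_inv_cancel])⟩
      · show IsMono (P⁻¹ * (P * g * P⁻¹) * P)
        rw [show P⁻¹ * (P * g * P⁻¹) * P = g by group, hg]
        exact isMono_mono _ _
      · intro x y
        show Cfsg.hermForm n F 2 (((P * g * P⁻¹ : GL (Fin n) F) : Matrix (Fin n) (Fin n) F) *ᵥ x)
          (((P * g * P⁻¹ : GL (Fin n) F) : Matrix (Fin n) (Fin n) F) *ᵥ y) = Cfsg.hermForm n F 2 x y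
        rw [mul_mulVec, mul_mulVec, mul_mulVec, mul_mulVec, hiso, hgi, hPinv]
    rw [← heq] at hmem
    obtain ⟨s, hs⟩ := (mem_stabilizer_iff hD.decomp hP _).1 hmem.1
    rw [show P⁻¹ * (P * g * P⁻¹) * P = g by group, hg] at hs
    have hπ0 : π (e (j₀, 1)) = e (j₀, 1) := by
      rw [hπ, Equiv.Perm.mul_apply, Equiv.swap_apply_of_ne_of_ne (a := e (j₁, 0)) (b := e (j₂, 0)),
        Equiv.swap_apply_of_ne_of_ne] <;>
        simp [e.injective.eq_iff]
    have hπ1 : π (e (j₀, 0)) = e (j₁, 0) := by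
      rw [hπ, Equiv.Perm.mul_apply, Equiv.swap_apply_of_ne_of_ne (a := e (j₁, 0)), Equiv.swap_apply_left] <;>
        simp [e.injective.eq_iff, h01, h02]
    have hb : ∀ k j', π (e (j₀, k)) = e (j', k) → s j₀ = j' := by
      intro k j' hk
      by_contra hne
      have h := hs j₀ (Pi.single (e (j₀, k)) 1) (inBlk_single (by simp) 1) (e (j', k)) (by simpa using Ne.symm hne)
      rw [mono_mulVec_single, hk, Pi.single_eq_same] at h
      simp at h
    exact h01 ((hb 1 j₀ hπ0).symm.trans (hb 0 j₁ hπ1))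
  · obtain ⟨a, ha⟩ : ∃ a : Fin 4 → Fin n, ∀ i, (a i).val = i.val := ⟨fun i => ⟨i.val, by omega⟩, fun i => rfl⟩
    have hai : Function.Injective a := fun i j h => Fin.ext (by rw [← ha i, ← ha j, h])
    obtain ⟨v, hv⟩ : ∃ v : Fin n → F, v = ∑ i, Pi.single (a i) 1 := ⟨_, rfl⟩
    have hva : ∀ i, v (a i) = 1 := fun i => by
      rw [hv, Finset.sum_apply, Finset.sum_eq_single i]
      · simp
      · intro b _ hb; simp [hai.eq_iff, hb.symm]
      · simp
    have h2 : (2 : F) = 0 := by
      have h := FiniteField.cast_card_eq_zero F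
      rw [hF] at h
      simp only [Nat.cast_ofNat] at h
      exact mul_self_eq_zero.1 (by linear_combination h)
    have hPv : ∀ x, Cfsg.hermForm n F 2 (Pi.single x 1) v = σ (v x) := fun x => hermForm_single hσ x v
    have hvv : Cfsg.hermForm n F 2 v v = 0 := by
      have hlin : ∀ (s : Finset (Fin 4)), Cfsg.hermForm n F 2 (∑ i ∈ s, Pi.single (a i) 1) v = ∑ i ∈ s, σ (v (a i)) := by
        intro s
        induction s using Finset.induction_on with
        | empty => simp [zero_left' hf]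
        | insert i s hi ih => rw [Finset.sum_insert hi, Finset.sum_insert hi, hf.add_left, ih, hPv]
      conv_lhs => arg 4; rw [hv]
      rw [hlin]
      simp only [hva, map_one, Fin.sum_univ_four]
      linear_combination 2 * h2
    have hvv' : Cfsg.hermForm n F 2 ((P : Matrix (Fin n) (Fin n) F) *ᵥ v) ((P : Matrix (Fin n) (Fin n) F) *ᵥ v) = 0 := by
      rw [hiso, hvv]
    have hT := uT_mem_SU hσ hinv hne hvv' (c := 1) (by rw [map_one]; linear_combination h2)
    rw [← heq] at hT
    obtain ⟨i₀, hi₀⟩ : ∃ i, i = a 0 := ⟨_, rfl⟩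
    obtain ⟨i, hi⟩ := hT.1 i₀
    have hcol : ∀ l, (P⁻¹ * uT (Cfsg.hermForm n F 2) ((P : Matrix (Fin n) (Fin n) F) *ᵥ v) 1 * P : GL (Fin n) F).1 l i₀ =
        (Pi.single i₀ 1 + v : Fin n → F) l := by
      intro l
      have h : ((P⁻¹ * uT (Cfsg.hermForm n F 2) ((P : Matrix (Fin n) (Fin n) F) *ᵥ v) 1 * P : GL (Fin n) F) :
          Matrix (Fin n) (Fin n) F) *ᵥ Pi.single i₀ 1 = Pi.single i₀ 1 + v := by
        apply mulVec_injective P
        dsimp only
        rw [mul_mulVec, mul_mulVec, mulVec_inv_cancel, uT_mulVec hf hvv', hiso, hPv, hi₀, hva, map_one, one_mul,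
          one_smul, Matrix.mulVec_add]
      rw [← h, Matrix.mulVec_single_one]; rfl
    have key : ∀ j : Fin 4, j ≠ 0 → a j = i := by
      intro j hj
      by_contra hne
      have h := hi (a j) hne
      rw [hcol, Pi.add_apply, hva, Pi.single_eq_of_ne (by rw [hi₀]; exact fun h => hj (hai h)), zero_add] at h
      exact one_ne_zero h
    exact absurd (hai ((key 1 (by decide)).trans (key 2 (by decide)).symm)) (by decide)

/-- Let F be the field with 4 elements (q = 2) and n ≥ 13. Let D be a decomposition of F^n into t pairwise orthogonal 2-dimensional subspaces, each non-degenerate for the standard unitary form Σ u_i v_i². Then the elements of SU_n(2) permuting the members of D form a subgroup that is not maximal: some subgroup lies strictly between it and SU_n(2). -/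
theorem result {F : Type*} [Field F] [Fintype F] (n : ℕ) (hF : Fintype.card F = 4) (hn : 13 ≤ n) {t : ℕ} (D : Fin t → Submodule F (Fin n → F)) (hD : Cfsg.Geo.IsNondegenerateMDecomposition (Cfsg.hermForm n F 2) 2 D) : ∃ K : Subgroup (Matrix.GeneralLinearGroup (Fin n) F), Cfsg.Geo.decompositionStabilizer D ⊓ (Cfsg.GU n F 2 ⊓ Cfsg.Geo.specialLinear (Fin n) F) < K ∧ K < (Cfsg.GU n F 2 ⊓ Cfsg.Geo.specialLinear (Fin n) F) := by
  exact exists_overgroup n hF hn hD

end Cfsg.Agent.S5656
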