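import Cfsg.Statements.S5671
import Cfsg.Agent.Lib.Classical22.TensorRefine
import Cfsg.Agent.Lib.Transvec.HermForm
import Cfsg.Agent.S5656
-- import your own Cfsg.Agent.* helpers here

set_option autoImplicit false
open Cfsg

namespace Cfsg.Agent.S5671

open Matrix CfsgLib.Transvec CfsgLib.Transvec.Unitary CfsgLib.Classical22.TensorRefine

theorem isotropic {F : Type*} [Field F] {b : ℕ} (hb : 2 ≤ b) {f : (Fin b → F) → (Fin b → F) → F}
    (hal : ∀ x y v, f (x + y) v = f x v + f y v) (hsl : ∀ (c : F) (x v : Fin b → F), f (c • x) v = c * f x v)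
    (har : ∀ v x y, f v (x + y) = f v x + f v y) (hsym : ∀ x y, f x y = 0 → f y x = 0)
    (h01 : ∀ v, f v v = 0 ∨ f v v = 1) (h2 : (2 : F) = 0) : ∃ y : Fin b → F, y ≠ 0 ∧ f y y = 0 := by
  obtain ⟨v, hv⟩ : ∃ v : Fin b → F, v ≠ 0 := ⟨Pi.single ⟨0, by omega⟩ 1, by simp⟩
  rcases h01 v with h | h
  · exact ⟨v, hv, h⟩
  obtain ⟨φ, hφ⟩ : ∃ φ : (Fin b → F) →ₗ[F] F, ∀ x, φ x = f x v :=
    ⟨{ toFun := fun x => f x v, map_add' := fun a c => hal a c v, map_smul' := fun c a => hsl c a v }, fun x => rfl⟩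
  obtain ⟨w, hw, hw0⟩ := (LinearMap.ker φ).exists_mem_ne_zero_of_ne_bot (fun h0 => by
    have h1 := LinearMap.finrank_range_add_finrank_ker φ
    have h2 := Submodule.finrank_le (LinearMap.range φ)
    rw [h0, finrank_bot, Module.finrank_fin_fun] at h1
    rw [Module.finrank_self] at h2
    omega)
  rw [LinearMap.mem_ker, hφ] at hw
  rcases h01 w with h' | h'
  · exact ⟨w, hw0, h'⟩
  refine ⟨v + w, fun he => ?_, by rw [hal, har, har, h, h', hw, hsym _ _ hw]; linear_combination h2⟩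
  have h0 := hsl 0 v v
  rw [zero_smul, zero_mul] at h0
  have h1 := hal v w v
  rw [he, h0, h, hw] at h1
  exact one_ne_zero (α := F) (by linear_combination -h1)

theorem exists_overgroup {F : Type*} [Field F] [Fintype F] (n : ℕ) (hF : Fintype.card F = 4) (hn : 13 ≤ n) (n₂ : ℕ)
    (e : Fin n ≃ Fin 2 × Fin n₂) (P : Matrix.GeneralLinearGroup (Fin n) F)
    (f₁ : (Fin 2 → F) → (Fin 2 → F) → F) (f₂ : (Fin n₂ → F) → (Fin n₂ → F) → F)
    (hf₁ : Cfsg.Geo.IsUnitaryFormPow 2 f₁) (hf₂ : Cfsg.Geo.IsUnitaryFormPow 2 f₂)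
    (hT : Cfsg.Geo.IsTensorFormStructure (fun x : F => x ^ 2) (Cfsg.hermForm n F 2) f₁ f₂ e P) :
    ∃ K : Subgroup (Matrix.GeneralLinearGroup (Fin n) F),
      Cfsg.Geo.tensorProductSubgroup 2 n₂ e P ⊓ (Cfsg.GU n F 2 ⊓ Cfsg.Geo.specialLinear (Fin n) F) < K ∧
        K < (Cfsg.GU n F 2 ⊓ Cfsg.Geo.specialLinear (Fin n) F) := by
  classical
  have hn2 : n = 2 * n₂ := by simpa using Fintype.card_congr e
  have hF' : Fintype.card F = 2 ^ 2 := hF
  obtain ⟨σ, hσ, hinv, hne⟩ := exists_frob hF'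
  have hf := isUnitaryForm_hermForm (n := n) hσ hinv hne
  have u₁ : Cfsg.Geo.IsUnitaryForm σ f₁ :=
    ⟨hne, hinv, hf₁.add_left, hf₁.smul_left, fun v w => by rw [hσ]; exact hf₁.herm v w, hf₁.nondegenerate⟩
  have u₂ : Cfsg.Geo.IsUnitaryForm σ f₂ :=
    ⟨hne, hinv, hf₂.add_left, hf₂.smul_left, fun v w => by rw [hσ]; exact hf₂.herm v w, hf₂.nondegenerate⟩
  have h2 : (2 : F) = 0 := by
    have h := FiniteField.cast_card_eq_zero F
    rw [hF] at h
    simp only [Nat.cast_ofNat] at h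
    exact mul_self_eq_zero.1 (by linear_combination h)
  have hcube : ∀ a : F, a ≠ 0 → a ^ 3 = 1 := fun a ha => by
    have := FiniteField.pow_card_sub_one_eq_one a ha
    rwa [hF] at this
  have hfix : ∀ a : F, σ a = a → a ≠ 0 → a = 1 := fun a h h0 => by
    rw [hσ] at h
    exact mul_left_cancel₀ h0 (by linear_combination h)
  obtain ⟨c, hc, hcT⟩ := hT
  obtain ⟨τ, hτ⟩ : ∃ τ : (Fin 2 → F) →ₗ[F] (Fin n₂ → F) →ₗ[F] (Fin n → F), ∀ u y,
      τ u y = (P : Matrix (Fin n) (Fin n) F) *ᵥ ((fun p => u p.1 * y p.2) ∘ e) := by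
    refine ⟨LinearMap.mk₂ F (fun u y => (P : Matrix (Fin n) (Fin n) F) *ᵥ ((fun p => u p.1 * y p.2) ∘ e)) ?_ ?_ ?_ ?_,
      fun u y => rfl⟩
    · intro a b y; rw [← Matrix.mulVec_add]; congr 1; funext l; simp [add_mul]
    · intro k a y; rw [← Matrix.mulVec_smul]; congr 1; funext l; simp [mul_assoc]
    · intro a y z; rw [← Matrix.mulVec_add]; congr 1; funext l; simp [mul_add]
    · intro k a y; rw [← Matrix.mulVec_smul]; congr 1; funext l; simp [mul_left_comm]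
  obtain ⟨u, -, hu⟩ := Cfsg.Agent.S5656.plane_basis hF hσ u₁ (W := (⊤ : Submodule F (Fin 2 → F)))
    (by rw [finrank_top, Module.finrank_fin_fun]) (fun w _ hw => by
      obtain ⟨x, hx⟩ := (u₁.nondegenerate w hw).2
      exact ⟨x, Submodule.mem_top, hx⟩)
  have hsym₂ : ∀ x y, f₂ x y = 0 → f₂ y x = 0 := fun x y h => by rw [u₂.herm, h, map_zero]
  obtain ⟨y₀, hy₀, h00⟩ := isotropic (show 2 ≤ n₂ by omega) u₂.add_left u₂.smul_left (add_right' u₂) hsym₂
    (fun v => (eq_or_ne (f₂ v v) 0).imp_right (hfix _ (u₂.herm v v).symm)) h2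
  obtain ⟨y₁, h10⟩ := (u₂.nondegenerate y₀ hy₀).1
  refine CfsgLib.Classical22.TensorRefine.exists_overgroup (σ := σ) le_rfl (Cfsg.hermForm n F 2) hf.add_left
    (add_right' hf) f₁ f₂ u₁.smul_left (smul_right' u₁) u₂.add_left u₂.smul_left
    (fun y hy => (u₂.nondegenerate y hy).2) τ hc ?_ _ _ (fun g hg => hg.1) ?_ u hu ?_ hy₀ h00 h10 ?_
  · intro a a' y y'
    have hfun : (fun x : F => x ^ 2) = σ := funext fun x => (hσ x).symm
    rw [hτ, hτ, hcT, hfun, formOfGram_kronecker σ (map_mul σ),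
      ← form_eq u₁.add_left u₁.smul_left (add_right' u₁) (smul_right' u₁),
      ← form_eq u₂.add_left u₂.smul_left (add_right' u₂) (smul_right' u₂)]
  · intro g hg
    obtain ⟨A, B, hA, hB, hAB⟩ := tensor_mem e P hg
    exact ⟨A, B, hA, hB, fun a y => by rw [hτ, hτ, hAB]⟩
  · intro v s hs hv i
    obtain ⟨L, hL⟩ : ∃ L : (Fin 2 → F) →ₗ[F] (Fin 2 → F), ∀ α, L α = α 0 • u 0 + α 1 • u 1 :=
      ⟨(LinearMap.proj 0).smulRight (u 0) + (LinearMap.proj 1).smulRight (u 1), fun α => rfl⟩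
    have hLu : ∀ α k, f₁ (L α) (u k) = α k := fun α k => by
      rw [hL, u₁.add_left, u₁.smul_left, u₁.smul_left, hu, hu]
      fin_cases k <;> simp
    have hLi : Function.Injective L := fun α β h => funext fun k => by rw [← hLu α k, ← hLu β k, h]
    obtain ⟨α, hα⟩ := LinearMap.injective_iff_surjective.1 hLi (v i)
    have hs1 : s = 1 := hfix s (by
      have h := u₁.herm (v i) (v i)
      rw [hv, if_pos rfl] at h
      exact h.symm) hs
    have hnorm : α 0 ^ 3 + α 1 ^ 3 = 1 := by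
      have h := hv i i
      rw [if_pos rfl, hs1, ← hα] at h
      rw [← h, hL]
      simp [u₁.add_left, u₁.smul_left, add_right' u₁, smul_right' u₁, hu, hσ]
      ring
    by_cases h0 : α 0 = 0
    · exact ⟨1, α 1, by rw [← hα, hL, h0, zero_smul, zero_add]⟩
    · by_cases h1 : α 1 = 0
      · exact ⟨0, α 0, by rw [← hα, hL, h1, zero_smul, add_zero]⟩
      · rw [hcube _ h0, hcube _ h1] at hnorm
        exact absurd (show (1 : F) = 0 by linear_combination -hnorm + h2) one_ne_zero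
  · intro v hv
    refine ⟨uT (Cfsg.hermForm n F 2) v 1, uT_mem_SU hσ hinv hne hv (by rw [map_one]; linear_combination h2), fun x => ?_⟩
    rw [uT_mulVec hf hv, one_mul]

/-- Let F be the field with 4 elements (q = 2) and n = 2 n₂ ≥ 13. Suppose the standard unitary form Σ u_i v_i² on F^n is similar, through P and e, to the tensor product of non-degenerate unitary forms f₁ on F^2 and f₂ on F^(n₂). Then the elements of SU_n(2) in the stabiliser of this tensor decomposition form a subgroup that is not maximal: some subgroup lies strictly between it and SU_n(2). -/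
theorem result {F : Type*} [Field F] [Fintype F] (n : ℕ) (hF : Fintype.card F = 4) (hn : 13 ≤ n) (n₂ : ℕ) (e : Fin n ≃ Fin 2 × Fin n₂) (P : Matrix.GeneralLinearGroup (Fin n) F) (f₁ : (Fin 2 → F) → (Fin 2 → F) → F) (f₂ : (Fin n₂ → F) → (Fin n₂ → F) → F) (hf₁ : Cfsg.Geo.IsUnitaryFormPow 2 f₁) (hf₂ : Cfsg.Geo.IsUnitaryFormPow 2 f₂) (hT : Cfsg.Geo.IsTensorFormStructure (fun x : F => x ^ 2) (Cfsg.hermForm n F 2) f₁ f₂ e P) : ∃ K : Subgroup (Matrix.GeneralLinearGroup (Fin n) F), Cfsg.Geo.tensorProductSubgroup 2 n₂ e P ⊓ (Cfsg.GU n F 2 ⊓ Cfsg.Geo.specialLinear (Fin n) F) < K ∧ K < (Cfsg.GU n F 2 ⊓ Cfsg.Geo.specialLinear (Fin n) F) := by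
  exact exists_overgroup n hF hn n₂ e P f₁ f₂ hf₁ hf₂ hT

end Cfsg.Agent.S5671
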