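import Cfsg.Statements.S5673
import Cfsg.Agent.Lib.Techniques.AschOmega.OddClass
import Cfsg.Agent.Lib.Techniques.AschOmega.Odd
-- import your own Cfsg.Agent.* helpers here

set_option autoImplicit false
open Cfsg

namespace Cfsg.Agent.S5673

/-- Subgroup structure of the odd-dimensional orthogonal groups. Let F be a finite field of odd order and m ≥ 3, let Q be the standard quadratic form x₀² + Σ x_i y_i on F^(2m+1), and let Ω be the commutator subgroup of its isometry group, viewed inside GL_(2m+1)(F). Let H be a subgroup of Ω whose product with the scalar matrices in Ω is not all of Ω. Then either H is contained in a member of one of the geometric classes of subgroups of the isometry group (with the conditions built into InOrthogonalOddClass), or H is in the residual class: modulo scalars it is almost simple, and the perfect preimage of its socle acts absolutely irreducibly, is realisable over no proper subfield, and fixes no non-degenerate unitary form. -/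
theorem result {F : Type*} [Field F] [Fintype F] (hodd : Odd (Fintype.card F)) (m : ℕ) (hm : 3 ≤ m) (H : Subgroup (Matrix.GeneralLinearGroup (Unit ⊕ (Fin m ⊕ Fin m)) F)) (hH : H ≤ Cfsg.Geo.omegaGL (Cfsg.quadFormOdd m F)) (hproper : H ⊔ (Cfsg.Geo.scalars (Unit ⊕ (Fin m ⊕ Fin m)) F ⊓ Cfsg.Geo.omegaGL (Cfsg.quadFormOdd m F)) ≠ Cfsg.Geo.omegaGL (Cfsg.quadFormOdd m F)) : (∃ M : Subgroup (Matrix.GeneralLinearGroup (Unit ⊕ (Fin m ⊕ Fin m)) F), Cfsg.Geo.InOrthogonalOddClass m F M ∧ H ≤ M) ∨ Cfsg.Geo.InOrthogonalResidualClass H := by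
  have h2 : (2 : F) ≠ 0 := CfsgLib.Classical22.OrthType.two_ne_zero_of_odd rfl hodd
  have hiso : H ≤ Cfsg.isometryGroup F (Cfsg.quadFormOdd m F) :=
    hH.trans (CfsgLib.Techniques.AschOmega.omega_le_isometry _)
  rw [← CfsgLib.Classical.coe_qOdd] at hH hiso
  rcases CfsgLib.Techniques.AschOmega.odd_class (n := 2 * m + 1) (by simp; omega) (by omega) ⟨m, rfl⟩
      (CfsgLib.Classical.qOdd m F) (CfsgLib.Classical22.OrthType.polarNondeg_qOdd' h2 m) h2
      CfsgLib.Techniques.AschOmega.polarMat_qOdd_mem hiso (hH.trans (CfsgLib.Techniques.AschOmega.omega_le_special _))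
    with h | h
  swap
  · exact Or.inr h
  left
  unfold Cfsg.Geo.InOrthogonalOddClass
  rw [← CfsgLib.Classical.coe_qOdd]
  cases h with
  | singular W h0 hs hle => exact ⟨_, Or.inl ⟨W, h0, hs, rfl⟩, le_inf hle hiso⟩
  | nondeg W h0 h1 hnd hle => exact ⟨_, Or.inr (Or.inl ⟨W, h0, h1, hnd, rfl⟩), le_inf hle hiso⟩
  | blocks t k D hk hD hle => exact ⟨_, Or.inr (Or.inr (Or.inl ⟨t, k, D, hk, hD, rfl⟩)), le_inf hle hiso⟩
  | lines t D hq hD hle => exact ⟨_, Or.inr (Or.inr (Or.inr (Or.inl ⟨t, D, hq, hD, rfl⟩))), le_inf hle hiso⟩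
  | field r K hr hne hK hsa hle =>
    exact ⟨_, Or.inr (Or.inr (Or.inr (Or.inr (Or.inl ⟨r, K, hr, by simpa [two_mul, add_comm] using hne, hK, hsa, rfl⟩)))),
      le_inf hle hiso⟩
  | tensor n₁ n₂ e P f₁ f₂ h3 hlt hs₁ hs₂ hf hle =>
    exact ⟨_, Or.inr (Or.inr (Or.inr (Or.inr (Or.inr (Or.inl ⟨n₁, n₂, e, P, f₁, f₂, h3, hlt, hs₁, hs₂, hf, rfl⟩))))),
      le_inf hle hiso⟩
  | subfield F₀ r P hr hcard hP hle =>
    exact ⟨_, Or.inr (Or.inr (Or.inr (Or.inr (Or.inr (Or.inr (Or.inl ⟨F₀, r, P, hr, hcard, hP, rfl⟩)))))),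
      le_inf hle hiso⟩
  | wreath k t e P c h3 ht hne hc hG hle =>
    exact ⟨_, Or.inr (Or.inr (Or.inr (Or.inr (Or.inr (Or.inr (Or.inr ⟨k, t, e, P, _, h3, ht, hne,
      CfsgLib.Classical22.Asch.formOfGram_symmetric (G := (1 : Matrix (Fin k) (Fin k) F))
        (by rw [Matrix.det_one]; exact one_ne_zero) Matrix.transpose_one,
      CfsgLib.Techniques.AschOmega.isTensorPower_of_scalar
        (CfsgLib.Techniques.AschPrime.IsSesq.of_bilinear (CfsgLib.Techniques.AschOmega.polar_bilin _)) hc hG,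
      rfl⟩)))))), le_inf hle hiso⟩

end Cfsg.Agent.S5673
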