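import Cfsg.Statements.S5674
import Cfsg.Agent.Lib.Classical22.OrthMaxSingular
import Cfsg.Agent.Lib.Classical22.OrthMaxMatrix
-- import your own Cfsg.Agent.* helpers here

set_option autoImplicit false
open Cfsg

namespace Cfsg.Agent.S5674

open CfsgLib.Classical CfsgLib.Classical22

theorem maximal_odd {ι : Type} [Fintype ι] [DecidableEq ι] {F : Type*} [Field F] [Fintype F]
    (q : QuadraticForm F (ι → F)) (hQ : PolarNondeg q) {m : ℕ} (hm : 2 ≤ m) (hc : Fintype.card ι = 2 * m + 1)
    (W : Submodule F (ι → F)) (hW0 : W ≠ ⊥) (hW : ∀ w ∈ W, q w = 0) :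
    Cfsg.Geo.IsMaximalIn (Cfsg.Geo.omegaGL ⇑q) (Cfsg.Geo.subspaceStabilizer W ⊓ Cfsg.Geo.omegaGL ⇑q) := by
  have hV : Module.finrank F (ι → F) = 2 * m + 1 := by rw [Module.finrank_pi, hc]
  have hk := two_mul_finrank_singular q hQ hW
  refine isMaximalIn_omegaGL q hQ (by omega) (comap_subspaceStabilizer q W) (fun h => ?_)
    fun M hM _ hne => eichGroup_le_of_singular q hQ (by omega) hW ?_ hM hne
  · rw [eq_top_of_invariant q hQ (by omega) hW0 h, finrank_top] at hk
    omega
  by_cases hlt : 2 * Module.finrank F W + 3 ≤ Module.finrank F (ι → F)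
  · exact Or.inl hlt
  refine Or.inr fun U hU hle => (Submodule.eq_of_le_of_finrank_le hle ?_).symm
  have := two_mul_finrank_singular q hQ hU
  omega

/-- Let F be a finite field of odd order, m ≥ 6, Q the standard quadratic form x₀² + Σ x_i y_i on F^(2m+1) and Ω the commutator subgroup of its isometry group inside GL_(2m+1)(F). The elements of Ω stabilising a non-zero subspace on which Q vanishes form a maximal subgroup of Ω. -/
theorem result {F : Type*} [Field F] [Fintype F] (hodd : Odd (Fintype.card F)) (m : ℕ) (hm : 6 ≤ m) (W : Submodule F (Unit ⊕ (Fin m ⊕ Fin m) → F)) (hW0 : W ≠ ⊥) (hW : Cfsg.Geo.IsTotallySingularQuad (Cfsg.quadFormOdd m F) W) : Cfsg.Geo.IsMaximalIn (Cfsg.Geo.omegaGL (Cfsg.quadFormOdd m F)) (Cfsg.Geo.subspaceStabilizer W ⊓ Cfsg.Geo.omegaGL (Cfsg.quadFormOdd m F)) := by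
  have h2 : (2 : F) ≠ 0 := Ring.two_ne_zero fun h => Nat.not_even_iff_odd.2 hodd
    (Nat.even_iff.2 (FiniteField.even_card_iff_char_two.1 h))
  have h := maximal_odd (qOdd m F) (polarNondeg_qOdd h2 m) (m := m) (by omega) (by simp; omega) W hW0
    (fun w hw => by rw [coe_qOdd]; exact hW w hw)
  rwa [coe_qOdd] at h

end Cfsg.Agent.S5674
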