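import Cfsg.Statements.S5675
import Cfsg.Agent.Lib.Classical22.OrthMaxSubspace
import Cfsg.Agent.Lib.Classical.OmegaOdd
-- import your own Cfsg.Agent.* helpers here

set_option autoImplicit false
open Cfsg

namespace Cfsg.Agent.S5675

open CfsgLib.Classical CfsgLib.Classical22

theorem maximal_odd {ι : Type} [Fintype ι] [DecidableEq ι] {F : Type*} [Field F] [Fintype F]
    (q : QuadraticForm F (ι → F)) (hQ : PolarNondeg q) {m : ℕ} (hm : 6 ≤ m) (hc : Fintype.card ι = 2 * m + 1)
    (W : Submodule F (ι → F)) (hW0 : W ≠ ⊥) (hev : Even (Module.finrank F W))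
    (hW : Cfsg.Geo.IsNondegenerateOn (QuadraticMap.polar q) W)
    (hex : ¬ (Fintype.card F ≤ 3 ∧ Module.finrank F W = 2 ∧ Cfsg.Geo.IsPlusTypeOn ⇑q W)) :
    Cfsg.Geo.IsMaximalIn (Cfsg.Geo.omegaGL ⇑q) (Cfsg.Geo.subspaceStabilizer W ⊓ Cfsg.Geo.omegaGL ⇑q) := by
  obtain ⟨j, hj⟩ := hev
  have hV : Module.finrank F (ι → F) = 2 * m + 1 := by rw [Module.finrank_pi, hc]
  refine isMaximalIn_nondeg q hQ (by omega) hW hW0 (fun h => ?_) (fun h => by omega) hex fun h => ?_
  · rw [h, finrank_top] at hj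
    omega
  · have h2 := h.2.1
    rw [finrank_qPerp q hQ] at h2
    omega

/-- Let F be a finite field of odd order q, m ≥ 6, Q the standard quadratic form on F^(2m+1) and Ω the commutator subgroup of its isometry group. Let W be a non-zero subspace of even dimension on which the polar form of Q is non-degenerate; exclude the case q = 3, dim W = 2 with Q vanishing on some line of W (a plus-type plane). Then the elements of Ω stabilising W (equivalently, stabilising its orthogonal complement, of odd dimension) form a maximal subgroup of Ω. -/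
theorem result {F : Type*} [Field F] [Fintype F] (hodd : Odd (Fintype.card F)) (m : ℕ) (hm : 6 ≤ m) (W : Submodule F (Unit ⊕ (Fin m ⊕ Fin m) → F)) (hW0 : W ≠ ⊥) (hev : Even (Module.finrank F W)) (hW : Cfsg.Geo.IsNondegenerateOn (QuadraticMap.polar (Cfsg.quadFormOdd m F)) W) (hex : ¬ (Fintype.card F = 3 ∧ Module.finrank F W = 2 ∧ Cfsg.Geo.IsPlusTypeOn (Cfsg.quadFormOdd m F) W)) : Cfsg.Geo.IsMaximalIn (Cfsg.Geo.omegaGL (Cfsg.quadFormOdd m F)) (Cfsg.Geo.subspaceStabilizer W ⊓ Cfsg.Geo.omegaGL (Cfsg.quadFormOdd m F)) := by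
  have h2 : (2 : F) ≠ 0 := Ring.two_ne_zero fun h => Nat.not_even_iff_odd.2 hodd
    (Nat.even_iff.2 (FiniteField.even_card_iff_char_two.1 h))
  have h := maximal_odd (qOdd m F) (polarNondeg_qOdd h2 m) (m := m) hm (by simp; omega) W hW0 hev
    (by rw [coe_qOdd]; exact hW) (fun h => hex ⟨?_, h.2.1, by rw [← coe_qOdd]; exact h.2.2⟩)
  · rwa [coe_qOdd] at h
  · have h1 := Fintype.one_lt_card (α := F)
    have := h.1
    obtain ⟨j, hj⟩ := hodd
    omega

end Cfsg.Agent.S5675
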