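import Cfsg.Statements.S5677
import Cfsg.Agent.Lib.Classical22.OrthDecompMax
import Cfsg.Agent.Lib.Classical22.DecompCoords
import Cfsg.Agent.Lib.Classical.OmegaOdd
-- import your own Cfsg.Agent.* helpers here

set_option autoImplicit false
open Cfsg

namespace Cfsg.Agent.S5677

/-- Let F be a finite field of odd order q, m ≥ 6, Q the standard quadratic form on F^(2m+1) and Ω the commutator subgroup of its isometry group. Let D be a decomposition of F^(2m+1) into t ≥ 2 pairwise orthogonal, pairwise Q-isometric subspaces of equal dimension k > 1 on which the polar form is non-degenerate. Unless q = 3 and k = 3, the elements of Ω permuting the members of D form a maximal subgroup of Ω. -/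
theorem result {F : Type*} [Field F] [Fintype F] (hodd : Odd (Fintype.card F)) (m : ℕ) (hm : 6 ≤ m) {t : ℕ} (k : ℕ) (hk : 1 < k) (D : Fin t → Submodule F (Unit ⊕ (Fin m ⊕ Fin m) → F)) (hD : Cfsg.Geo.IsOrthogonalMDecomposition (Cfsg.quadFormOdd m F) k D) (hex : ¬ (Fintype.card F = 3 ∧ k = 3)) : Cfsg.Geo.IsMaximalIn (Cfsg.Geo.omegaGL (Cfsg.quadFormOdd m F)) (Cfsg.Geo.decompositionStabilizer D ⊓ Cfsg.Geo.omegaGL (Cfsg.quadFormOdd m F)) := by
  have h2 : (2 : F) ≠ 0 := by
    intro h
    haveI : CharP F 2 := CharTwo.of_one_ne_zero_of_two_eq_zero one_ne_zero h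
    have := FiniteField.even_card_of_char_two (ringChar.eq F 2)
    rw [Nat.odd_iff] at hodd
    omega
  have hc := CfsgLib.Classical22.OrthDecomp.card_eq_mul hD.decomp.decomp
  simp only [Fintype.card_sum, Fintype.card_unit, Fintype.card_fin] at hc
  have hk3 : 3 ≤ k := by
    by_contra h
    obtain rfl : k = 2 := by omega
    omega
  have hqk : 5 ≤ Fintype.card F ∨ 4 ≤ k := by
    have h1 : 1 < Fintype.card F := Fintype.one_lt_card
    rw [Nat.odd_iff] at hodd
    omega
  rw [← CfsgLib.Classical.coe_qOdd] at hD ⊢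
  refine CfsgLib.Classical22.OrthDecomp.isMaximalIn_decomp h2 _ ?_ ?_ hk3 hqk hD
  · intro v hv
    funext x
    rcases x with u | i | i
    · have h := hv (Pi.single CfsgLib.Classical.oZ 1)
      rw [CfsgLib.Classical.polar_oZ, mul_eq_zero] at h
      exact h.resolve_left h2
    · simpa [CfsgLib.Classical.qOdd_polar, Pi.single_apply] using hv (Pi.single (CfsgLib.Classical.oR i) 1)
    · simpa [CfsgLib.Classical.qOdd_polar, Pi.single_apply] using hv (Pi.single (CfsgLib.Classical.oL i) 1)
  · simp only [Fintype.card_sum, Fintype.card_unit, Fintype.card_fin]; omega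

end Cfsg.Agent.S5677
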