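import Cfsg.Statements.S5679
import Cfsg.Agent.Lib.Classical22.Frame.Transfer
import Cfsg.Agent.Lib.Classical.OmegaOdd
-- import your own Cfsg.Agent.* helpers here

set_option autoImplicit false
open Cfsg

namespace Cfsg.Agent.S5679

/-- Let F be a field of odd prime order p, m ≥ 6, Q the standard quadratic form on F^(2m+1) and Ω the commutator subgroup of its isometry group. Let D be a decomposition of F^(2m+1) into pairwise orthogonal lines on which Q takes non-zero values lying in one square class (pairwise Q-isometric non-degenerate 1-spaces). Then the elements of Ω permuting these lines form a maximal subgroup of Ω. -/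
theorem result {F : Type*} [Field F] [Fintype F] (hodd : Odd (Fintype.card F)) (m : ℕ) (hm : 6 ≤ m) (hprime : (Fintype.card F).Prime) {t : ℕ} (D : Fin t → Submodule F (Unit ⊕ (Fin m ⊕ Fin m) → F)) (hD : Cfsg.Geo.IsOrthogonalMDecomposition (Cfsg.quadFormOdd m F) 1 D) : Cfsg.Geo.IsMaximalIn (Cfsg.Geo.omegaGL (Cfsg.quadFormOdd m F)) (Cfsg.Geo.decompositionStabilizer D ⊓ Cfsg.Geo.omegaGL (Cfsg.quadFormOdd m F)) := by
  have h2 : (2 : F) ≠ 0 := by
    intro h
    haveI : CharP F 2 := CharTwo.of_one_ne_zero_of_two_eq_zero one_ne_zero h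
    have := FiniteField.even_card_of_char_two (ringChar.eq F 2)
    rw [Nat.odd_iff] at hodd
    omega
  have hc := CfsgLib.Classical22.OrthDecomp.card_eq_mul hD.decomp.decomp
  simp only [Fintype.card_sum, Fintype.card_unit, Fintype.card_fin, mul_one] at hc
  rw [← CfsgLib.Classical.coe_qOdd] at hD ⊢
  refine CfsgLib.Classical22.Frame.isMaximalIn_frame h2 _ ?_ (by omega) hD fun H hM _ =>
    (CfsgLib.Classical22.Frame.base_of_mono_le h2 hprime (by omega) hM).odd_dichotomy ⟨m, by omega⟩
  intro v hv
  funext x
  rcases x with u | i | i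
  · have h := hv (Pi.single CfsgLib.Classical.oZ 1)
    rw [CfsgLib.Classical.polar_oZ, mul_eq_zero] at h
    exact h.resolve_left h2
  · simpa [CfsgLib.Classical.qOdd_polar, Pi.single_apply] using hv (Pi.single (CfsgLib.Classical.oR i) 1)
  · simpa [CfsgLib.Classical.qOdd_polar, Pi.single_apply] using hv (Pi.single (CfsgLib.Classical.oL i) 1)

end Cfsg.Agent.S5679
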