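import Cfsg.Statements.S5680
import Cfsg.Agent.Lib.Classical22.OrthFieldPrime.Main
import Cfsg.Agent.Lib.Classical22.OrthField.Main
import Cfsg.Agent.Lib.Classical.OmegaOdd

set_option autoImplicit false
open Cfsg

namespace Cfsg.Agent.S5680

/-- Let F be a finite field of odd order, m ≥ 6, Q the standard quadratic form on F^(2m+1) and Ω the commutator subgroup of its isometry group. Let K be a subfield of the algebra of (2m+1) × (2m+1) matrices over F containing the scalars, of prime degree r over F with r ≠ 2m + 1, whose elements are self-adjoint for the polar form of Q. Then the elements of Ω normalising K form a maximal subgroup of Ω. -/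
theorem result {F : Type*} [Field F] [Fintype F] (hodd : Odd (Fintype.card F)) (m : ℕ) (hm : 6 ≤ m) (r : ℕ) (hr : r.Prime) (hrn : 2 * m + 1 ≠ r) (K : Subalgebra F (Matrix (Unit ⊕ (Fin m ⊕ Fin m)) (Unit ⊕ (Fin m ⊕ Fin m)) F)) (hK : Cfsg.Geo.IsFieldSubalgebra r K) (hsa : Cfsg.Geo.IsSelfAdjointFor (QuadraticMap.polar (Cfsg.quadFormOdd m F)) K) : Cfsg.Geo.IsMaximalIn (Cfsg.Geo.omegaGL (Cfsg.quadFormOdd m F)) (Cfsg.Geo.subalgebraNormalizer K ⊓ Cfsg.Geo.omegaGL (Cfsg.quadFormOdd m F)) := by
  have h2 : (2 : F) ≠ 0 := fun h => by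
    haveI : CharP F 2 := CharTwo.of_one_ne_zero_of_two_eq_zero one_ne_zero h
    have := FiniteField.even_card_of_char_two (ringChar.eq F 2)
    rw [Nat.odd_iff] at hodd
    omega
  have hQ : Cfsg.Geo.IsNondegenerateQuadraticForm (Cfsg.quadFormOdd m F) := by
    rw [← CfsgLib.Classical.coe_qOdd]
    refine ⟨fun c v => ?_, ⟨fun x y v => ?_, fun c x v => ?_, fun v x y => ?_, fun c v x => ?_⟩, fun v hv => ?_⟩
    · rw [QuadraticMap.map_smul, smul_eq_mul, sq]
    · exact QuadraticMap.polar_add_left _ x y v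
    · rw [QuadraticMap.polar_smul_left, smul_eq_mul]
    · exact QuadraticMap.polar_add_right _ v x y
    · rw [QuadraticMap.polar_smul_right, smul_eq_mul]
    · obtain ⟨x, hx⟩ : ∃ x, QuadraticMap.polar (CfsgLib.Classical.qOdd m F) v x ≠ 0 := by
        by_contra hc
        push Not at hc
        exact hv (CfsgLib.Classical.polarNondeg_qOdd h2 m v hc)
      exact ⟨⟨x, by rwa [QuadraticMap.polar_comm]⟩, ⟨x, hx⟩⟩
  have hcard : Fintype.card (Unit ⊕ (Fin m ⊕ Fin m)) = 2 * m + 1 := by simp; omega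
  obtain ⟨d, hd⟩ : r ∣ 2 * m + 1 := hcard ▸ CfsgLib.Classical22.OrthField.degree_dvd hr K hK
  have hdodd : Odd d := by
    have h : Odd (r * d) := hd ▸ odd_two_mul_add_one m
    exact (Nat.odd_mul.1 h).2
  have hd1 : d ≠ 1 := fun h => hrn (by rw [hd, h, mul_one])
  by_cases hd3 : d = 3
  · subst hd3
    exact CfsgLib.Classical22.OrthField.PrimeDeg.isMaximalIn_orthFieldPrime hr (by omega) h2 (by omega) _ hQ K hK hsa
  · refine CfsgLib.Classical22.OrthField.isMaximalIn_orthField_of_le hr h2 ?_ _ hQ K hK hsa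
    rw [hcard, hd, mul_comm]
    refine Nat.mul_le_mul_left r ?_
    obtain ⟨c, rfl⟩ := hdodd
    omega

end Cfsg.Agent.S5680
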