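import Cfsg.Statements.S5681
import Cfsg.Agent.Lib.Classical22.OrthOrthTensor.Statement
import Cfsg.Agent.Lib.Classical.OmegaOdd
-- import your own Cfsg.Agent.* helpers here

set_option autoImplicit false
open Cfsg

namespace Cfsg.Agent.S5681

/-- Let F be a finite field of odd order q, m ≥ 6, Q the standard quadratic form on F^(2m+1) and Ω the commutator subgroup of its isometry group. Suppose the polar form of Q is similar, through a change of basis P and a bijection of index sets e, to the tensor product of non-degenerate symmetric bilinear forms f₁ on F^(n₁) and f₂ on F^(n₂) with 3 ≤ n₁ < n₂. Unless q = 3 and n₁ = 3, the elements of Ω in the stabiliser of this tensor decomposition form a maximal subgroup of Ω. -/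
theorem result {F : Type*} [Field F] [Fintype F] (hodd : Odd (Fintype.card F)) (m : ℕ) (hm : 6 ≤ m) (n₁ n₂ : ℕ) (h1 : 3 ≤ n₁) (h12 : n₁ < n₂) (hex : ¬ (Fintype.card F = 3 ∧ n₁ = 3)) (e : (Unit ⊕ (Fin m ⊕ Fin m)) ≃ Fin n₁ × Fin n₂) (P : Matrix.GeneralLinearGroup (Unit ⊕ (Fin m ⊕ Fin m)) F) (f₁ : (Fin n₁ → F) → (Fin n₁ → F) → F) (f₂ : (Fin n₂ → F) → (Fin n₂ → F) → F) (hf₁ : Cfsg.Geo.IsSymmetricForm f₁) (hf₂ : Cfsg.Geo.IsSymmetricForm f₂) (hT : Cfsg.Geo.IsTensorFormStructure id (QuadraticMap.polar (Cfsg.quadFormOdd m F)) f₁ f₂ e P) : Cfsg.Geo.IsMaximalIn (Cfsg.Geo.omegaGL (Cfsg.quadFormOdd m F)) (Cfsg.Geo.tensorProductSubgroup n₁ n₂ e P ⊓ Cfsg.Geo.omegaGL (Cfsg.quadFormOdd m F)) := by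
  classical
  rw [← CfsgLib.Classical.coe_qOdd] at hT ⊢
  have hc : 2 * m + 1 = n₁ * n₂ := by
    have h := Fintype.card_congr e
    simp only [Fintype.card_sum, Fintype.card_unit, Fintype.card_fin, Fintype.card_prod] at h
    omega
  have ho : Odd (n₁ * n₂) := hc ▸ odd_two_mul_add_one m
  rw [Nat.odd_mul] at ho
  obtain ⟨k₁, hk₁⟩ := ho.1
  obtain ⟨k₂, hk₂⟩ := ho.2
  refine CfsgLib.Classical22.TensorMax.OO.isMaximalIn_orthTensor (CfsgLib.Classical.qOdd m F) hodd e P hf₁ hf₂ hT h1 h12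
    (by omega) (fun h3 => ?_) ?_ (Or.inl ⟨k₁, hk₁⟩)
  · have hq : Fintype.card F ≠ 3 := fun hq => hex ⟨hq, h3⟩
    obtain ⟨i, hi⟩ := hodd
    have := Fintype.one_lt_card (α := F)
    omega
  · by_cases h3 : n₁ = 3
    · exact Or.inl h3
    · exact Or.inr (Or.inl (by omega))

end Cfsg.Agent.S5681
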