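import Cfsg.Statements.S5686
import Cfsg.Agent.Lib.Classical22.OrthParity
import Cfsg.Agent.Lib.Classical22.OrthMaxMatrix
-- import your own Cfsg.Agent.* helpers here

set_option autoImplicit false
open Cfsg

namespace Cfsg.Agent.S5686

open CfsgLib.Classical CfsgLib.Classical22

/-- Let F be a finite field with q elements, n ≥ 13 even, Q a non-degenerate quadratic form on F^n of plus type (some subspace of dimension n/2 is totally singular), and Ω the commutator subgroup of the isometry group of Q, viewed inside GL_n(F). The elements of Ω stabilising a subspace of dimension n/2 − 1 on which Q vanishes form a subgroup that is not maximal: some subgroup lies strictly between it and Ω. -/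
theorem result {F : Type*} [Field F] [Fintype F] {n : ℕ} (hn : 13 ≤ n) (heven : Even n) (Q : (Fin n → F) → F) (hQ : Cfsg.Geo.IsNondegenerateQuadraticForm Q) (hplus : Cfsg.Geo.IsPlusTypeOn Q ⊤) (W : Submodule F (Fin n → F)) (hW : Cfsg.Geo.IsTotallySingularQuad Q W) (hdim : 2 * (Module.finrank F W + 1) = n) : ∃ K : Subgroup (Matrix.GeneralLinearGroup (Fin n) F), Cfsg.Geo.subspaceStabilizer W ⊓ Cfsg.Geo.omegaGL Q < K ∧ K < Cfsg.Geo.omegaGL Q := by
  obtain ⟨q, rfl, hq⟩ := exists_quadraticForm hQ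
  obtain ⟨j, hj⟩ := heven
  have hV : Module.finrank F (Fin n → F) = n := by simp
  obtain ⟨U0, -, hU0, hU0d⟩ := hplus
  rw [finrank_top, hV] at hU0d
  obtain ⟨m, hm⟩ : ∃ m, m = Module.finrank F U0 := ⟨_, rfl⟩
  obtain ⟨φ, hφ⟩ := (finrank_le_iff_exists_linearMap (R := F) (M := W) (M' := U0)).1 (by omega)
  obtain ⟨g, hg, hgφ⟩ := witt_quad q hq W (U0.subtype.comp φ) (U0.injective_subtype.comp hφ)
    (fun a => by rw [hW a a.2]; exact hU0 _ (φ a).2)
  obtain ⟨U, hUdef⟩ : ∃ U, U = U0.map (⟨g, hg⟩⁻¹ : qAut q).1.toLinearMap := ⟨_, rfl⟩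
  have hUd : Module.finrank F U = m := hUdef ▸ (LinearEquiv.finrank_map_eq _ U0).trans hm.symm
  have hUs : ∀ u ∈ U, q u = 0 := hUdef ▸ map_singular q hU0 _
  have hWU : W ≤ U := fun w hw => hUdef ▸ ⟨g w, by rw [hgφ ⟨w, hw⟩]; exact (φ ⟨w, hw⟩).2,
    qInv_apply_self q ⟨g, hg⟩ w⟩
  refine exists_between_omegaGL q hq (by simp; omega) (comap_subspaceStabilizer q W)
    (K := qStab q U ⊓ eichGroup q) (lt_of_le_not_ge ?_ fun hle => ?_) (lt_of_le_not_ge inf_le_right fun hle => ?_)
  · rintro h ⟨hh, he⟩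
    have hle : W ≤ U ⊓ U.map h.1.toLinearMap := fun w hw =>
      ⟨hWU hw, (h⁻¹).1 w, hWU (apply_mem_of_qStab q (inv_mem hh) hw), qApply_inv_self q h w⟩
    have hd := Submodule.finrank_mono hle
    have e := map_eq_of_codim_le_one q hq (m := m) (by omega) (by omega) hUd hUs he (by omega)
    exact ⟨mem_qStab_of_maps q fun v hv => e ▸ ⟨v, hv, rfl⟩, he⟩
  · obtain ⟨u, huU, huW⟩ := SetLike.not_le_iff_exists.1 fun h : U ≤ W => by
      have := Submodule.finrank_mono h
      omega
    obtain ⟨x, hxW, hx0⟩ := Submodule.exists_mem_ne_zero_of_ne_bot (p := W) fun h => by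
      rw [h, finrank_bot] at hdim
      omega
    obtain ⟨y, huy, hxy⟩ := exists_polar_sep q hq (a := x) (b := u) fun s hs => by
      rcases eq_or_ne s 0 with rfl | hs0
      · exact hx0 (by rw [← hs, zero_smul])
      · exact huW (by
          have := W.smul_mem s⁻¹ (hs ▸ hxW)
          rwa [smul_smul, inv_mul_cancel₀ hs0, one_smul] at this)
    have h := apply_mem_of_qStab q
      (hle ⟨eich_mem_qStab_singular q hUs huy huU, eich_mem q (hUs u huU) huy⟩).1 hxW
    rw [eich_apply q (hUs u huU) huy, polar_zero_of_singular q hUs (hWU hxW) huU, zero_smul, add_zero, mul_zero,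
      add_zero, W.sub_mem_iff_right hxW] at h
    have h' := W.smul_mem (QuadraticMap.polar q x y)⁻¹ h
    rw [smul_smul, inv_mul_cancel₀ hxy, one_smul] at h'
    exact huW h'
  · have hU0' : U ≠ ⊥ := fun h => by
      rw [h, finrank_bot] at hUd
      omega
    rw [eq_top_of_invariant q hq (by omega) hU0' (hle.trans inf_le_left), finrank_top] at hUd
    omega

end Cfsg.Agent.S5686
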