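import Cfsg.Statements.S5687
import Cfsg.Agent.Lib.Classical22.OrthMaxSingular
import Cfsg.Agent.Lib.Classical22.OrthMaxMatrix
-- import your own Cfsg.Agent.* helpers here

set_option autoImplicit false
open Cfsg

namespace Cfsg.Agent.S5687

open CfsgLib.Classical CfsgLib.Classical22

/-- Let F be a finite field with q elements, n ≥ 13 even, Q a non-degenerate quadratic form on F^n of minus type (no subspace of dimension n/2 is totally singular), and Ω the commutator subgroup of the isometry group of Q, viewed inside GL_n(F). The elements of Ω stabilising a non-zero subspace on which Q vanishes form a maximal subgroup of Ω. -/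
theorem result {F : Type*} [Field F] [Fintype F] {n : ℕ} (hn : 13 ≤ n) (heven : Even n) (Q : (Fin n → F) → F) (hQ : Cfsg.Geo.IsNondegenerateQuadraticForm Q) (hminus : ¬ Cfsg.Geo.IsPlusTypeOn Q ⊤) (W : Submodule F (Fin n → F)) (hW0 : W ≠ ⊥) (hW : Cfsg.Geo.IsTotallySingularQuad Q W) : Cfsg.Geo.IsMaximalIn (Cfsg.Geo.omegaGL Q) (Cfsg.Geo.subspaceStabilizer W ⊓ Cfsg.Geo.omegaGL Q) := by
  obtain ⟨q, rfl, hq⟩ := exists_quadraticForm hQ
  obtain ⟨j, hj⟩ := heven
  have hV : Module.finrank F (Fin n → F) = n := by simp
  have hbound : ∀ U : Submodule F (Fin n → F), (∀ u ∈ U, q u = 0) → 2 * Module.finrank F U < n := fun U hU => by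
    have h := two_mul_finrank_singular q hq hU
    have hne : 2 * Module.finrank F U ≠ n := fun he => hminus ⟨U, le_top, hU, by rw [he, finrank_top, hV]⟩
    omega
  have hk := hbound W hW
  refine isMaximalIn_omegaGL q hq (by simp; omega) (comap_subspaceStabilizer q W) (fun h => ?_)
    fun M hM _ hne => eichGroup_le_of_singular q hq (by omega) hW ?_ hM hne
  · rw [eq_top_of_invariant q hq (by omega) hW0 h, finrank_top] at hk
    omega
  by_cases hlt : 2 * Module.finrank F W + 3 ≤ Module.finrank F (Fin n → F)
  · exact Or.inl hlt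
  refine Or.inr fun U hU hle => (Submodule.eq_of_le_of_finrank_le hle ?_).symm
  have := hbound U hU
  omega

end Cfsg.Agent.S5687
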