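import Cfsg.Statements.S5688
import Cfsg.Agent.Lib.Classical22.OrthMaxSubspace
-- import your own Cfsg.Agent.* helpers here

set_option autoImplicit false
open Cfsg

namespace Cfsg.Agent.S5688

open CfsgLib.Classical CfsgLib.Classical22

/-- Let F be a finite field with q elements, n ≥ 13 even, Q a non-degenerate quadratic form on F^n of plus type (some subspace of dimension n/2 is totally singular), and Ω the commutator subgroup of the isometry group of Q, viewed inside GL_n(F). Let W be a non-zero proper subspace with dim W ≠ n/2 on which the polar form of Q is non-degenerate. Exclude the case q ≤ 3 in which W, or its orthogonal complement, is a plane containing a line on which Q vanishes. Then the elements of Ω stabilising W form a maximal subgroup of Ω. -/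
theorem result {F : Type*} [Field F] [Fintype F] {n : ℕ} (hn : 13 ≤ n) (heven : Even n) (Q : (Fin n → F) → F) (hQ : Cfsg.Geo.IsNondegenerateQuadraticForm Q) (hplus : Cfsg.Geo.IsPlusTypeOn Q ⊤) (W : Submodule F (Fin n → F)) (hW0 : W ≠ ⊥) (hW1 : W ≠ ⊤) (hdim : 2 * Module.finrank F W ≠ n) (hW : Cfsg.Geo.IsNondegenerateOn (QuadraticMap.polar Q) W) (hex : ¬ (Fintype.card F ≤ 3 ∧ (∃ U : Submodule F (Fin n → F), Module.finrank F U = 2 ∧ Cfsg.Geo.IsNondegenerateOn (QuadraticMap.polar Q) U ∧ Cfsg.Geo.IsPlusTypeOn Q U ∧ (U = W ∨ (Cfsg.Geo.AreOrthogonalFor (QuadraticMap.polar Q) U W ∧ Module.finrank F U + Module.finrank F W = n))))) : Cfsg.Geo.IsMaximalIn (Cfsg.Geo.omegaGL Q) (Cfsg.Geo.subspaceStabilizer W ⊓ Cfsg.Geo.omegaGL Q) := by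
  obtain ⟨q, rfl, hq⟩ := exists_quadraticForm hQ
  have hV : Module.finrank F (Fin n → F) = n := by simp
  refine isMaximalIn_nondeg q hq (by simpa using hn) hW hW0 hW1 (fun h => absurd (by simpa using h) hdim)
    (fun h => hex ⟨h.1, W, h.2.1, hW, h.2.2, Or.inl rfl⟩) fun h => ?_
  refine hex ⟨h.1, qPerp q W, h.2.1, fun z hz hz0 => ?_, h.2.2,
    Or.inr ⟨fun u hu v hv => (QuadraticMap.polar_comm q u v).trans ((mem_qPerp q).1 hu v hv), ?_⟩⟩
  · by_contra hc
    refine hz0 (ndOn_qPerp q hq (ndOn_of_isNondegenerateOn q hW) z hz fun y hy => ?_)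
    by_contra hzy
    exact hc ⟨⟨y, hy, by rwa [QuadraticMap.polar_comm]⟩, y, hy, hzy⟩
  · rw [finrank_qPerp q hq, hV, Nat.sub_add_cancel]
    exact (Submodule.finrank_le W).trans hV.le

end Cfsg.Agent.S5688
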