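import Cfsg.Statements.S5691
import Cfsg.Agent.Lib.Classical22.OrthMaxPoint
import Cfsg.Agent.Lib.Classical22.OrthMaxMatrix
-- import your own Cfsg.Agent.* helpers here

set_option autoImplicit false
open Cfsg

namespace Cfsg.Agent.S5691

open CfsgLib.Classical CfsgLib.Classical22

/-- Let F be a finite field with q elements, n ≥ 13 even, Q a non-degenerate quadratic form on F^n (of either type), and Ω the commutator subgroup of the isometry group of Q, viewed inside GL_n(F). Suppose q is even and v is a vector with Q(v) ≠ 0. Then the elements of Ω stabilising the line spanned by v form a maximal subgroup of Ω. -/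
theorem result {F : Type*} [Field F] [Fintype F] {n : ℕ} (hn : 13 ≤ n) (heven : Even n) (Q : (Fin n → F) → F) (hQ : Cfsg.Geo.IsNondegenerateQuadraticForm Q) (hchar : ¬ Odd (Fintype.card F)) (v : (Fin n → F)) (hv : Q v ≠ 0) : Cfsg.Geo.IsMaximalIn (Cfsg.Geo.omegaGL Q) (Cfsg.Geo.subspaceStabilizer (Submodule.span F {v}) ⊓ Cfsg.Geo.omegaGL Q) := by
  obtain ⟨q, rfl, hq⟩ := exists_quadraticForm hQ
  have hV : Module.finrank F (Fin n → F) = n := by simp
  have h2 : (2 : F) = 0 := by
    have h1 := FiniteField.even_card_iff_char_two (F := F)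
    have h3 : ringChar F = 2 := h1.2 (Nat.even_iff.1 (Nat.not_odd_iff_even.1 hchar))
    exact_mod_cast (ringChar.spec F 2).2 (by rw [h3])
  have hv0 : v ≠ 0 := fun h => hv (by rw [h, map_zero])
  refine isMaximalIn_omegaGL q hq (by simp; omega) (comap_subspaceStabilizer q _) (fun h => ?_)
    fun M hM _ hne => eichGroup_le_of_point q h2 hq (by omega) hv hM hne
  have h1 := congrArg (fun W : Submodule F (Fin n → F) => Module.finrank F W)
    (eq_top_of_invariant q hq (by omega) (Submodule.span_singleton_eq_bot.not.2 hv0) h)
  simp only [finrank_top, hV, finrank_span_singleton hv0] at h1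
  omega

end Cfsg.Agent.S5691
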