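import Cfsg.Statements.S5694
import Cfsg.Agent.Lib.Classical22.OrthDecompTwoMax
-- import your own Cfsg.Agent.* helpers here

set_option autoImplicit false
open Cfsg

namespace Cfsg.Agent.S5694

/-- Let F be a finite field with q elements, n ≥ 13 even, Q a non-degenerate quadratic form on F^n of minus type (no subspace of dimension n/2 is totally singular), and Ω the commutator subgroup of the isometry group of Q, viewed inside GL_n(F). Let D be a decomposition of F^n into t ≥ 2 pairwise orthogonal, pairwise Q-isometric subspaces of equal dimension k ≥ 2 on which the polar form is non-degenerate, such that: if k is odd, q is odd and the discriminant of Q is a square; if k is even, t is odd and no member is of plus type. Unless q = 3 and k ∈ {2, 3}, the elements of Ω permuting the members of D form a maximal subgroup of Ω. -/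
theorem result {F : Type*} [Field F] [Fintype F] {n : ℕ} (hn : 13 ≤ n) (heven : Even n) (Q : (Fin n → F) → F) (hQ : Cfsg.Geo.IsNondegenerateQuadraticForm Q) (hminus : ¬ Cfsg.Geo.IsPlusTypeOn Q ⊤) {t : ℕ} (k : ℕ) (hk : 2 ≤ k) (D : Fin t → Submodule F (Fin n → F)) (hD : Cfsg.Geo.IsOrthogonalMDecomposition Q k D) (hko : Odd k → (Odd (Fintype.card F) ∧ Cfsg.Geo.HasSquareDiscriminant Q)) (hke : Even k → (Odd t ∧ ∀ i, ¬ Cfsg.Geo.IsPlusTypeOn Q (D i))) (hex : ¬ (Fintype.card F = 3 ∧ (k = 2 ∨ k = 3))) : Cfsg.Geo.IsMaximalIn (Cfsg.Geo.omegaGL Q) (Cfsg.Geo.decompositionStabilizer D ⊓ Cfsg.Geo.omegaGL Q) := by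
  obtain ⟨q, rfl, hq⟩ := CfsgLib.Classical22.exists_quadraticForm hQ
  have hcard : 12 ≤ Fintype.card (Fin n) := by
    simp only [Fintype.card_fin]
    omega
  by_cases h2 : (2 : F) = 0
  · haveI : CharP F 2 := CharTwo.of_one_ne_zero_of_two_eq_zero one_ne_zero h2
    have heq := FiniteField.even_card_of_char_two (ringChar.eq F 2)
    rcases Nat.lt_or_ge k 3 with hk3 | hk3
    · obtain rfl : k = 2 := by omega
      exact CfsgLib.Classical22.OrthDecomp.isMaximalIn_decomp_plane_two h2 q hq (le_trans (by norm_num) hcard) hD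
        (Or.inr (hke (by decide)).2)
    · have hk4 : 4 ≤ k := by
        rcases Nat.even_or_odd k with he' | ho
        · obtain ⟨r, rfl⟩ := he'
          omega
        · have := (hko ho).1
          rw [Nat.odd_iff] at this
          omega
      exact CfsgLib.Classical22.OrthDecomp.isMaximalIn_decomp_two h2 q hq (by omega) hk4 hD
        fun _ hk4' hp => (hke (hk4' ▸ by decide)).2 ⟨0, by have := hD.decomp.decomp.two_le; omega⟩ (hp _)
  · have hodd : Fintype.card F % 2 = 1 := FiniteField.odd_card_of_char_ne_two fun hc => h2 (by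
      haveI : CharP F 2 := hc ▸ ringChar.charP F
      exact CharTwo.two_eq_zero)
    have h1 : 1 < Fintype.card F := Fintype.one_lt_card
    rcases Nat.lt_or_ge k 3 with hk3 | hk3
    · obtain rfl : k = 2 := by omega
      have hne3 : Fintype.card F ≠ 3 := fun h => hex ⟨h, Or.inl rfl⟩
      exact CfsgLib.Classical22.OrthDecomp.isMaximalIn_decomp_plane h2 q hq (le_trans (by norm_num) hcard) hD
        (Or.inr ⟨by omega, (hke (by decide)).2⟩)
    · refine CfsgLib.Classical22.OrthDecomp.isMaximalIn_decomp h2 q hq (by omega) hk3 ?_ hD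
      by_cases hk4 : 4 ≤ k
      · exact Or.inr hk4
      · have : Fintype.card F ≠ 3 := fun h => hex ⟨h, Or.inr (by omega)⟩
        exact Or.inl (by omega)

end Cfsg.Agent.S5694
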