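import Cfsg.Statements.S5697
import Cfsg.Agent.Lib.Classical22.OrthMaxPairStab
-- import your own Cfsg.Agent.* helpers here

set_option autoImplicit false
open Cfsg

namespace Cfsg.Agent.S5697

open CfsgLib.Classical CfsgLib.Classical22

/-- Let F be a finite field with q elements, n ≥ 13 even, Q a non-degenerate quadratic form on F^n of plus type (some subspace of dimension n/2 is totally singular), and Ω the commutator subgroup of the isometry group of Q, viewed inside GL_n(F). Suppose n/2 is even and let D be a decomposition of F^n into two complementary subspaces of dimension n/2 on each of which Q vanishes. Then the elements of Ω preserving or interchanging the two subspaces form a maximal subgroup of Ω. -/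
theorem result {F : Type*} [Field F] [Fintype F] {n : ℕ} (hn : 13 ≤ n) (heven : Even n) (Q : (Fin n → F) → F) (hQ : Cfsg.Geo.IsNondegenerateQuadraticForm Q) (hplus : Cfsg.Geo.IsPlusTypeOn Q ⊤) (k : ℕ) (hk : 2 * k = n) (hke : Even k) (D : Fin 2 → Submodule F (Fin n → F)) (hD : Cfsg.Geo.IsMDecomposition k D) (hts : ∀ i, Cfsg.Geo.IsTotallySingularQuad Q (D i)) : Cfsg.Geo.IsMaximalIn (Cfsg.Geo.omegaGL Q) (Cfsg.Geo.decompositionStabilizer D ⊓ Cfsg.Geo.omegaGL Q) := by
  obtain ⟨q, rfl, hq⟩ := exists_quadraticForm hQ
  have hV : Module.finrank F (Fin n → F) = n := by simp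
  have hP := singPair_of_decomposition q hD hts
  have hd := hD.finrank_eq
  have hmem := mem_comap_decompositionStabilizer_two q (D := D) ((hd 0).trans (hd 1).symm)
  refine isMaximalIn_omegaGL q hq (by simp; omega) rfl (fun hle => ?_) fun M hM hME hne => ?_
  · obtain ⟨g, hg, hgA, b, hb, hbB, hbA⟩ := exists_moving_half hP hq (by rw [hd]; omega)
    rcases (hmem g).1 (hle hg) with h | h
    · exact hbB (h.2 b hb)
    · exact hbA (h.2 b hb)
  · obtain ⟨g, hgM, hg⟩ := SetLike.not_le_iff_exists.1 hne
    obtain ⟨J, hJ, hJA, hJB⟩ := hP.exists_swap q hq (hd 0) (hd 1) hke (by omega)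
    rw [hmem, not_or] at hg
    exact eichGroup_le_of_singPair q hP hq (by rw [hd]; omega) (by rw [hd]; omega)
      (fun a ha b hb hab => hM ⟨(hmem _).2 (Or.inl (eich_maps_pair hP ha hb hab)),
        eich_mem q (hP.singA a ha) hab⟩) (hM ⟨(hmem J).2 (Or.inr ⟨hJA, hJB⟩), hJ⟩) hJA hJB hgM hg

end Cfsg.Agent.S5697
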