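import Cfsg.Statements.S5698
import Cfsg.Agent.Lib.Classical22.OrthMaxPairStab
-- import your own Cfsg.Agent.* helpers here

set_option autoImplicit false
open Cfsg

namespace Cfsg.Agent.S5698

open CfsgLib.Classical CfsgLib.Classical22

/-- Let F be a finite field with q elements, n ≥ 13 even, Q a non-degenerate quadratic form on F^n of plus type (some subspace of dimension n/2 is totally singular), and Ω the commutator subgroup of the isometry group of Q, viewed inside GL_n(F). Suppose n/2 is odd and let D be a decomposition of F^n into two complementary subspaces of dimension n/2 on each of which Q vanishes. Then the elements of Ω preserving or interchanging the two subspaces form a subgroup that is not maximal: some subgroup lies strictly between it and Ω. -/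
theorem result {F : Type*} [Field F] [Fintype F] {n : ℕ} (hn : 13 ≤ n) (heven : Even n) (Q : (Fin n → F) → F) (hQ : Cfsg.Geo.IsNondegenerateQuadraticForm Q) (hplus : Cfsg.Geo.IsPlusTypeOn Q ⊤) (k : ℕ) (hk : 2 * k = n) (hko : Odd k) (D : Fin 2 → Submodule F (Fin n → F)) (hD : Cfsg.Geo.IsMDecomposition k D) (hts : ∀ i, Cfsg.Geo.IsTotallySingularQuad Q (D i)) : ∃ K : Subgroup (Matrix.GeneralLinearGroup (Fin n) F), Cfsg.Geo.decompositionStabilizer D ⊓ Cfsg.Geo.omegaGL Q < K ∧ K < Cfsg.Geo.omegaGL Q := by
  obtain ⟨q, rfl, hq⟩ := exists_quadraticForm hQ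
  have hV : Module.finrank F (Fin n → F) = n := by simp
  have hP := singPair_of_decomposition q hD hts
  have hd := hD.finrank_eq
  have hmem := mem_comap_decompositionStabilizer_two q (D := D) ((hd 0).trans (hd 1).symm)
  refine exists_between_omegaGL q hq (by simp; omega) rfl (K := qStab q (D 0) ⊓ eichGroup q)
    (lt_of_le_not_ge ?_ fun hle => ?_) (lt_of_le_not_ge inf_le_right fun hle => ?_)
  · rintro g ⟨hg, hge⟩
    refine ⟨?_, hge⟩
    rcases (hmem g).1 hg with h | h
    · exact mem_qStab_of_maps q h.1
    exfalso
    have e : (D 0).map g.1.toLinearMap = D 1 := Submodule.eq_of_le_of_finrank_eq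
      (Submodule.map_le_iff_le_comap.2 h.1) ((LinearEquiv.finrank_map_eq g.1 _).trans ((hd 0).trans (hd 1).symm))
    rw [eichGroup_eq_commutator q hq (by omega)] at hge
    have hev := even_codim_map q hq (m := k) (by omega) (hd 0) hP.singA hge
    rw [e, hP.compl.inf_eq_bot, finrank_bot, Nat.sub_zero] at hev
    exact Nat.not_even_iff_odd.2 hko hev
  · obtain ⟨g, hg, hgA, b, hb, hbB, hbA⟩ := exists_moving_half hP hq (by rw [hd]; omega)
    rcases (hmem g).1 (hle ⟨mem_qStab_of_maps q hgA, hg⟩).1 with h | h
    · exact hbB (h.2 b hb)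
    · exact hbA (h.2 b hb)
  · have h0 : D 0 ≠ ⊥ := fun h0 => by
      have := hd 0
      rw [h0, finrank_bot] at this
      omega
    have := hd 0
    rw [eq_top_of_invariant q hq (by omega) h0 (hle.trans inf_le_left), finrank_top] at this
    omega

end Cfsg.Agent.S5698
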