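import Cfsg.Statements.S5699
import Cfsg.Agent.Lib.Classical22.OrthMaxSubspace
-- import your own Cfsg.Agent.* helpers here

set_option autoImplicit false
open Cfsg

namespace Cfsg.Agent.S5699

open CfsgLib.Classical CfsgLib.Classical22

/-- Let F be a finite field with q elements, n ≥ 13 even, Q a non-degenerate quadratic form on F^n (of either type), and Ω the commutator subgroup of the isometry group of Q, viewed inside GL_n(F). Let D be a decomposition of F^n into two orthogonal subspaces of odd dimension n/2 on which the polar form is non-degenerate and which are not Q-isometric to each other. Then the elements of Ω permuting (necessarily fixing) the two subspaces form a maximal subgroup of Ω. -/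
theorem result {F : Type*} [Field F] [Fintype F] {n : ℕ} (hn : 13 ≤ n) (heven : Even n) (Q : (Fin n → F) → F) (hQ : Cfsg.Geo.IsNondegenerateQuadraticForm Q) (k : ℕ) (hk : 2 * k = n) (hko : Odd k) (D : Fin 2 → Submodule F (Fin n → F)) (hD : Cfsg.Geo.IsNondegenerateMDecomposition (QuadraticMap.polar Q) k D) (hni : ¬ Cfsg.Geo.AreIsometricFor Q (D 0) (D 1)) : Cfsg.Geo.IsMaximalIn (Cfsg.Geo.omegaGL Q) (Cfsg.Geo.decompositionStabilizer D ⊓ Cfsg.Geo.omegaGL Q) := by
  obtain ⟨q, rfl, hq⟩ := exists_quadraticForm hQ
  have hV : Module.finrank F (Fin n → F) = n := by simp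
  have hd := hD.decomp.finrank_eq
  have hD0 := ndOn_of_isNondegenerateOn q (hD.nondegenerate 0)
  have hperp : qPerp q (D 0) = D 1 := by
    refine (Submodule.eq_of_le_of_finrank_le (fun z hz => (mem_qPerp q).2 fun w hw =>
      hD.orthogonal 0 1 (by decide) w hw z hz) ?_).symm
    rw [finrank_qPerp q hq, hd, hd, hV]
    omega
  have hmax := isMaximalIn_nondeg q hq (by simpa using hn) (hD.nondegenerate 0)
    (fun h => by
      have := hd 0
      rw [h, finrank_bot] at this
      omega)
    (fun h => by
      have := hd 0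
      rw [h, finrank_top] at this
      omega)
    (fun _ φ hφ => by
      refine hni ?_
      obtain ⟨f, hf⟩ : ∃ f : D 0 →ₗ[F] D 1, f = (φ ∘ₗ (D 0).subtype).codRestrict (D 1)
          (fun z => hperp ▸ (hφ z z.2).1) := ⟨_, rfl⟩
      have hfQ : ∀ z : D 0, q (f z : Fin n → F) = q (z : Fin n → F) := fun z => by
        rw [hf]
        exact (hφ z z.2).2
      have hinj : Function.Injective f := (injective_iff_map_eq_zero f).2 fun z hz => by
        refine Subtype.ext (hD0 z z.2 fun y hy => ?_)
        have e : ∀ w : D 0, q (w : Fin n → F) = q (f w : Fin n → F) := fun w => (hfQ w).symm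
        have e1 := e (z + ⟨y, hy⟩)
        rw [map_add, hz, zero_add, Submodule.coe_add, ← e ⟨y, hy⟩, quad_add, e z, hz, Submodule.coe_zero,
          map_zero, zero_add] at e1
        exact add_eq_left.1 e1
      exact ⟨LinearEquiv.ofBijective f
        ⟨hinj, (LinearMap.injective_iff_surjective_of_finrank_eq_finrank ((hd 0).trans (hd 1).symm)).1 hinj⟩, hfQ⟩)
    (fun h => by
      have h2 := h.2.1
      rw [hd] at h2
      omega)
    (fun h => by
      have h2 := h.2.1
      rw [hperp, hd] at h2
      omega)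
  convert hmax using 1
  ext g
  refine and_congr_left fun hg => ?_
  rw [omegaGL_eq_map q hq (by simp; omega)] at hg
  obtain ⟨a, -, rfl⟩ := hg
  change (∃ σ : Equiv.Perm (Fin 2), ∀ i, (D i).map (Matrix.toLin' (qHom q a : Matrix _ _ F)) = D (σ i)) ↔
    qHom q a ∈ Cfsg.Geo.subspaceStabilizer (D 0)
  rw [← Subgroup.mem_comap, comap_subspaceStabilizer, toLin'_qHom]
  constructor
  · rintro ⟨σ, hσ⟩
    refine mem_qStab_of_maps q fun z hz => ?_
    rcases Fin.exists_fin_two.1 ⟨σ 0, rfl⟩ with h | h
    · exact h ▸ hσ 0 ▸ ⟨z, hz, rfl⟩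
    · exfalso
      refine hni ⟨((a.1.submoduleMap (D 0)).trans (LinearEquiv.ofEq _ _ ((hσ 0).trans (congrArg D h)))), ?_⟩
      exact fun w => qAut_map a w
  · intro h
    refine ⟨1, Fin.forall_fin_two.2 ⟨?_, ?_⟩⟩
    · exact Submodule.eq_of_le_of_finrank_eq
        (by rintro _ ⟨z, hz, rfl⟩; exact apply_mem_of_qStab q h hz) (LinearEquiv.finrank_map_eq a.1 _)
    · exact Submodule.eq_of_le_of_finrank_eq
        (by rintro _ ⟨z, hz, rfl⟩; exact hperp ▸ apply_mem_of_qStab q (qPerp_invariant q h) (hperp.symm ▸ hz))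
        (LinearEquiv.finrank_map_eq a.1 _)

end Cfsg.Agent.S5699
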