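import Cfsg.Statements.S5701
import Cfsg.Agent.Lib.Classical22.OrthField.Main

set_option autoImplicit false
open Cfsg

namespace Cfsg.Agent.S5701

/-- Let F be a finite field with q elements, n ≥ 13 even, Q a non-degenerate quadratic form on F^n (of either type), and Ω the commutator subgroup of the isometry group of Q, viewed inside GL_n(F). Suppose q is odd. Let K be a subfield of the algebra of n × n matrices over F containing the scalars, of prime degree r over F with n/r ≥ 3, whose elements are self-adjoint for the polar form of Q. Then the elements of Ω normalising K form a maximal subgroup of Ω. -/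
theorem result {F : Type*} [Field F] [Fintype F] {n : ℕ} (hn : 13 ≤ n) (heven : Even n) (Q : (Fin n → F) → F) (hQ : Cfsg.Geo.IsNondegenerateQuadraticForm Q) (hodd : Odd (Fintype.card F)) (r : ℕ) (hr : r.Prime) (hnr : 3 * r ≤ n) (K : Subalgebra F (Matrix (Fin n) (Fin n) F)) (hK : Cfsg.Geo.IsFieldSubalgebra r K) (hsa : Cfsg.Geo.IsSelfAdjointFor (QuadraticMap.polar Q) K) : Cfsg.Geo.IsMaximalIn (Cfsg.Geo.omegaGL Q) (Cfsg.Geo.subalgebraNormalizer K ⊓ Cfsg.Geo.omegaGL Q) := by
  have h2 : (2 : F) ≠ 0 := fun h => by
    haveI : CharP F 2 := CharTwo.of_one_ne_zero_of_two_eq_zero one_ne_zero h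
    have := FiniteField.even_card_of_char_two (ringChar.eq F 2)
    rw [Nat.odd_iff] at hodd
    omega
  have hdvd : ∃ a, n = a * r := by
    refine ⟨n / r, (Nat.div_mul_cancel ?_).symm⟩
    simpa using CfsgLib.Classical22.OrthField.degree_dvd hr K hK
  obtain ⟨a, rfl⟩ := hdvd
  have ha : 3 ≤ a := Nat.le_of_mul_le_mul_right hnr hr.pos
  refine CfsgLib.Classical22.OrthField.isMaximalIn_orthField hr h2 ?_ (fun h => ?_) Q hQ K hK hsa
  · rw [Fintype.card_fin]
    refine Nat.mul_le_mul_right _ ?_
    by_contra h3
    have ha3 : a = 3 := by omega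
    subst ha3
    rcases hr.eq_two_or_odd with h | h
    · omega
    · obtain ⟨c, hc⟩ := heven
      omega
  · rw [Fintype.card_fin]
    subst h
    omega

end Cfsg.Agent.S5701
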