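import Cfsg.Statements.S5703
import Cfsg.Agent.Lib.Classical22.C6Plus.Max

set_option autoImplicit false
open Cfsg

namespace Cfsg.Agent.S5703

/-- Let p be an odd prime, F the field with p elements, n ≥ 13 even, Q a non-degenerate quadratic form on F^n of plus type and Ω the commutator subgroup of its isometry group. Let R be a 2-subgroup of GL_n(F) of exponent 4 in which every characteristic abelian subgroup is cyclic, of order 2^(1+2k) with centre of order 2 and containing an elementary abelian subgroup of order 2^(k+1) (plus type), acting absolutely irreducibly and consisting of isometries of Q. Then the elements of Ω normalising R form a maximal subgroup of Ω. -/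
theorem result {F : Type*} [Field F] [Fintype F] {n : ℕ} (hn : 13 ≤ n) (heven : Even n) (Q : (Fin n → F) → F) (hQ : Cfsg.Geo.IsNondegenerateQuadraticForm Q) (hplus : Cfsg.Geo.IsPlusTypeOn Q ⊤) (p k : ℕ) (hp : p.Prime) (hpo : Odd p) (hF : Fintype.card F = p) (R : Subgroup (Matrix.GeneralLinearGroup (Fin n) F)) (hR : Cfsg.Geo.IsSymplecticTypeGroup 2 R) (hirr : Cfsg.Geo.ActsAbsolutelyIrreducibly (Cfsg.Geo.matrixSet R)) (hRD : R ≤ Cfsg.isometryGroup F Q) (hcard : Nat.card R = 2 ^ (1 + 2 * k)) (hZ : Nat.card (Subgroup.center R) = 2) (hpt : Cfsg.Geo.IsOfPlusType k R) : Cfsg.Geo.IsMaximalIn (Cfsg.Geo.omegaGL Q) (Cfsg.Geo.subgroupNormalizer R ⊓ Cfsg.Geo.omegaGL Q) := by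
  classical
  obtain ⟨q, rfl, hQ'⟩ := CfsgLib.Classical22.exists_quadraticForm hQ
  haveI : Nonempty (Fin n) := ⟨⟨0, by omega⟩⟩
  have h2 : (2 : F) ≠ 0 := Ring.two_ne_zero fun h => by
    haveI := ringChar.of_eq h
    obtain ⟨j, -, hj⟩ := FiniteField.card F 2
    rw [hF] at hj
    have := hpo
    rw [hj] at this
    exact (Nat.not_even_iff_odd.2 this) (Nat.even_pow.2 ⟨even_two, j.ne_zero⟩)
  obtain ⟨A, hAc, hAsq, hAcard⟩ := hpt
  have h4 : 4 ≤ k := by
    by_contra hk
    have hspan : (⊤ : Submodule F (Matrix (Fin n) (Fin n) F)) ≤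
        Submodule.span F ((fun g : GL (Fin n) F => (g : Matrix (Fin n) (Fin n) F)) '' (R : Set (GL (Fin n) F))) := by
      rw [← Algebra.top_toSubmodule, ← show CfsgLib.Aschbacher.alg R = ⊤ from
        CfsgLib.Classical22.Asch.full_of_absIrr hirr, CfsgLib.Aschbacher.alg_toSubmodule]
      refine Submodule.span_le.2 ?_
      rintro _ ⟨x, hx, rfl⟩
      exact Submodule.subset_span ⟨x, hx, rfl⟩
    have h1 := Submodule.finrank_mono hspan
    rw [finrank_top, Module.finrank_matrix, Module.finrank_self, mul_one, Fintype.card_fin] at h1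
    haveI : Fintype ((fun g : GL (Fin n) F => (g : Matrix (Fin n) (Fin n) F)) '' (R : Set (GL (Fin n) F))) :=
      Fintype.ofFinite _
    have h3 := finrank_span_le_card (R := F)
      ((fun g : GL (Fin n) F => (g : Matrix (Fin n) (Fin n) F)) '' (R : Set (GL (Fin n) F)))
    rw [← Set.ncard_eq_toFinset_card'] at h3
    have h5 := Set.ncard_image_le (f := fun g : GL (Fin n) F => (g : Matrix (Fin n) (Fin n) F))
      (s := (R : Set (GL (Fin n) F))) (Set.toFinite _)
    have h6 : Set.ncard (R : Set (GL (Fin n) F)) = Nat.card R := (Nat.card_coe_set_eq _).symm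
    rw [h6, hcard] at h5
    have h7 : 2 ^ (1 + 2 * k) ≤ 2 ^ 7 := Nat.pow_le_pow_right (by norm_num) (by omega)
    have h8 : 13 * 13 ≤ n * n := Nat.mul_le_mul hn hn
    omega
  have S := CfsgLib.Classical22.C6Plus.sign_of_type h2 hR hirr hcard hZ h4
  exact CfsgLib.Classical22.C6Plus.isMaximalIn ⟨S, hQ', hRD⟩ hp hF (A := A.map R.subtype)
    (Subgroup.map_subtype_le A)
    (by
      rintro _ ⟨a, ha, rfl⟩ _ ⟨b, hb, rfl⟩
      exact congrArg Subtype.val (congrArg Subtype.val (hAc.is_comm.comm (⟨a, ha⟩ : A) ⟨b, hb⟩)))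
    (by rintro _ ⟨a, ha, rfl⟩; exact congrArg Subtype.val (hAsq a ha))
    (by rw [← hAcard]; exact (Nat.card_congr (A.equivMapOfInjective R.subtype R.subtype_injective).toEquiv).symm)

end Cfsg.Agent.S5703
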