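import Cfsg.Statements.S5704
import Cfsg.Agent.Lib.Classical22.SympTensorStatement
-- import your own Cfsg.Agent.* helpers here

set_option autoImplicit false
open Cfsg

namespace Cfsg.Agent.S5704

/-- Let F be a finite field with q elements, n ≥ 13 even, Q a non-degenerate quadratic form on F^n of plus type (some subspace of dimension n/2 is totally singular), and Ω the commutator subgroup of the isometry group of Q, viewed inside GL_n(F). Suppose that, through a change of basis P and a bijection of index sets e, the polar form of Q is similar to the tensor product of non-degenerate symplectic forms f₁ on F^(n₁) and f₂ on F^(n₂) with n₁ < n₂, and Q vanishes on the images of all pure tensors. Unless q = 2 and n₁ = 2, the elements of Ω in the stabiliser of this tensor decomposition form a maximal subgroup of Ω. -/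
theorem result {F : Type*} [Field F] [Fintype F] {n : ℕ} (hn : 13 ≤ n) (heven : Even n) (Q : (Fin n → F) → F) (hQ : Cfsg.Geo.IsNondegenerateQuadraticForm Q) (hplus : Cfsg.Geo.IsPlusTypeOn Q ⊤) (n₁ n₂ : ℕ) (h12 : n₁ < n₂) (hex : ¬ (Fintype.card F = 2 ∧ n₁ = 2)) (e : (Fin n) ≃ Fin n₁ × Fin n₂) (P : Matrix.GeneralLinearGroup (Fin n) F) (f₁ : (Fin n₁ → F) → (Fin n₁ → F) → F) (f₂ : (Fin n₂ → F) → (Fin n₂ → F) → F) (hf₁ : Cfsg.Geo.IsSymplecticForm f₁) (hf₂ : Cfsg.Geo.IsSymplecticForm f₂) (hT : Cfsg.Geo.IsTensorFormStructure id (QuadraticMap.polar Q) f₁ f₂ e P) (hpure : (∀ (x₁ : Fin n₁ → F) (x₂ : Fin n₂ → F), Q (Matrix.mulVec (P : Matrix (Fin n) (Fin n) F) ((fun a : Fin n₁ × Fin n₂ => x₁ a.1 * x₂ a.2) ∘ e)) = 0)) : Cfsg.Geo.IsMaximalIn (Cfsg.Geo.omegaGL Q) (Cfsg.Geo.tensorProductSubgroup n₁ n₂ e P ⊓ Cfsg.Geo.omegaGL Q) := by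
  obtain ⟨k₁, hk₁⟩ := CfsgLib.Classical22.TensorMax.SympO.even_dim hf₁
  obtain ⟨k₂, hk₂⟩ := CfsgLib.Classical22.TensorMax.SympO.even_dim hf₂
  have hcard : n = n₁ * n₂ := by simpa using Fintype.card_congr e
  have ha : 2 ≤ n₁ := by
    rcases Nat.eq_zero_or_pos n₁ with h | h
    · rw [h, zero_mul] at hcard; omega
    · omega
  have hb : 5 ≤ n₂ := by
    rcases Nat.lt_or_ge n₂ 5 with h | h
    · exfalso
      have : n₁ * n₂ ≤ 2 * 4 := Nat.mul_le_mul (by omega) (by omega)
      omega
    · exact h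
  refine CfsgLib.Classical22.TensorMax.SympO.isMaximalIn_tensor Q hQ e P hf₁ hf₂ hT hpure ha (by omega) hb ?_
  by_cases ha3 : 3 ≤ n₁
  · exact Or.inl ha3
  · right
    by_contra hc
    push Not at hc
    classical
    refine hex ⟨?_, by omega⟩
    rw [← Finset.card_univ, show (Finset.univ : Finset F) = {0, 1} from ?_, Finset.card_pair zero_ne_one]
    ext x
    simp only [Finset.mem_univ, Finset.mem_insert, Finset.mem_singleton, true_iff]
    rcases eq_or_ne x 0 with h | h
    · exact Or.inl h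
    · exact Or.inr (hc x h)

end Cfsg.Agent.S5704
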