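import Cfsg.Statements.S5706
import Cfsg.Agent.Lib.Classical22.TensorPower.EvenFull
import Cfsg.Agent.Lib.Classical22.TensorPower.PlusOdd

set_option autoImplicit false
open Cfsg

namespace Cfsg.Agent.S5706

/-- Let F be a finite field with q elements, n ≥ 13 even, Q a non-degenerate quadratic form on F^n of plus type (some subspace of dimension n/2 is totally singular), and Ω the commutator subgroup of the isometry group of Q, viewed inside GL_n(F). Suppose that, through a change of basis P and a bijection of index sets e, the polar form of Q is similar to the t-fold tensor power (t ≥ 2) of a non-degenerate symplectic form f₁ on F^k, that Q vanishes on the images of all pure tensors, that t is even if q is odd, that (q, k) is neither (2, 2) nor (3, 2), and that k ≥ 6 if q is even. Then the elements of Ω in the stabiliser of this decomposition form a maximal subgroup of Ω. -/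
theorem result {F : Type*} [Field F] [Fintype F] {n : ℕ} (hn : 13 ≤ n) (heven : Even n) (Q : (Fin n → F) → F) (hQ : Cfsg.Geo.IsNondegenerateQuadraticForm Q) (hplus : Cfsg.Geo.IsPlusTypeOn Q ⊤) (k t : ℕ) (ht : 2 ≤ t) (hqt : Odd (Fintype.card F) → Even t) (hex1 : ¬ (Fintype.card F = 2 ∧ k = 2)) (hex2 : ¬ (Fintype.card F = 3 ∧ k = 2)) (hex3 : ¬ Odd (Fintype.card F) → 6 ≤ k) (e : (Fin n) ≃ (Fin t → Fin k)) (P : Matrix.GeneralLinearGroup (Fin n) F) (f₁ : (Fin k → F) → (Fin k → F) → F) (hf₁ : Cfsg.Geo.IsSymplecticForm f₁) (hT : Cfsg.Geo.IsTensorPowerFormStructure id (QuadraticMap.polar Q) f₁ e P) (hpure : (∀ xs : Fin t → (Fin k → F), Q (Matrix.mulVec (P : Matrix (Fin n) (Fin n) F) ((fun a : Fin t → Fin k => ∏ i, xs i (a i)) ∘ e)) = 0)) : Cfsg.Geo.IsMaximalIn (Cfsg.Geo.omegaGL Q) (Cfsg.Geo.tensorWreathSubgroup k t e P ⊓ Cfsg.Geo.omegaGL Q) := by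
  obtain ⟨T, rfl⟩ : ∃ T, t = T + 1 := ⟨t - 1, by omega⟩
  refine CfsgLib.Classical22.TPow.isMaximalIn_of_dich Q hQ e P hf₁ hT hpure fun Q' PQ => ?_
  have hcard : n = k ^ (T + 1) := by simpa using Fintype.card_congr e
  by_cases hodd : Odd (Fintype.card F)
  · have h2 : (2 : F) ≠ 0 := fun h => by
      haveI := CharTwo.of_one_ne_zero_of_two_eq_zero (R := F) one_ne_zero h
      have := FiniteField.even_card_of_char_two (F := F) (ringChar.eq F 2)
      rw [Nat.odd_iff] at hodd
      omega
    refine CfsgLib.Classical22.TPow.plus_dich_odd PQ hf₁ h2 ?_ (hqt hodd) (hcard ▸ hn)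
    have hk2 : 2 ≤ k := by
      by_contra h
      have : k ^ (T + 1) ≤ 1 := pow_le_one₀ (Nat.zero_le k) (by omega)
      omega
    obtain ⟨r, rfl⟩ : Even k := (Nat.even_pow.mp (hcard ▸ heven)).1
    rcases Nat.lt_or_ge (r + r) 4 with h | h
    · refine Or.inr ⟨by omega, ?_⟩
      rw [Nat.card_eq_fintype_card]
      have := Fintype.one_lt_card (α := F)
      obtain ⟨j, hj⟩ := hodd
      have : Fintype.card F ≠ 3 := fun h3 => hex2 ⟨h3, by omega⟩
      omega
    · exact Or.inl h
  · have hc : (2 : F) = 0 := by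
      have h := FiniteField.even_card_iff_char_two (F := F)
      have hr : ringChar F = 2 := h.mpr (Nat.even_iff.mp (Nat.not_odd_iff_even.mp hodd))
      haveI : CharP F 2 := hr ▸ ringChar.charP F
      exact CharTwo.two_eq_zero
    exact CfsgLib.Classical22.TPow.plus_dich_even PQ hf₁ hc (hex3 hodd) (by omega)

end Cfsg.Agent.S5706
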