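import Cfsg.Statements.S5708
import Cfsg.Agent.Lib.Classical22.OrthPower.Square
import Cfsg.Agent.Lib.Classical22.OrthFour.Statement
import Cfsg.Agent.Lib.Classical22.OrthMaxMatrix

set_option autoImplicit false
open Cfsg

namespace Cfsg.Agent.S5708

/-- Let F be a finite field with q elements, n ≥ 13 even, Q a non-degenerate quadratic form on F^n of plus type (some subspace of dimension n/2 is totally singular), and Ω the commutator subgroup of the isometry group of Q, viewed inside GL_n(F). Suppose q is odd and that, through a change of basis P and a bijection of index sets e, the polar form of Q is similar to the t-fold tensor power (t ≥ 2) of a non-degenerate symmetric bilinear form f₁ on F^k with k even, where either k ≥ 6 and f₁ has a totally isotropic subspace of dimension k/2 (plus type), or k ≥ 4 and it has none (minus type). Then the elements of Ω in the stabiliser of this decomposition form a maximal subgroup of Ω. -/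
theorem result {F : Type*} [Field F] [Fintype F] {n : ℕ} (hn : 13 ≤ n) (heven : Even n) (Q : (Fin n → F) → F) (hQ : Cfsg.Geo.IsNondegenerateQuadraticForm Q) (hplus : Cfsg.Geo.IsPlusTypeOn Q ⊤) (hodd : Odd (Fintype.card F)) (k t : ℕ) (ht : 2 ≤ t) (hke : Even k) (e : (Fin n) ≃ (Fin t → Fin k)) (P : Matrix.GeneralLinearGroup (Fin n) F) (f₁ : (Fin k → F) → (Fin k → F) → F) (hf₁ : Cfsg.Geo.IsSymmetricForm f₁) (hsize : (6 ≤ k ∧ Cfsg.Geo.IsPlusTypeOn (fun v : Fin k → F => f₁ v v) ⊤) ∨ (4 ≤ k ∧ ¬ Cfsg.Geo.IsPlusTypeOn (fun v : Fin k → F => f₁ v v) ⊤)) (hT : Cfsg.Geo.IsTensorPowerFormStructure id (QuadraticMap.polar Q) f₁ e P) : Cfsg.Geo.IsMaximalIn (Cfsg.Geo.omegaGL Q) (Cfsg.Geo.tensorWreathSubgroup k t e P ⊓ Cfsg.Geo.omegaGL Q) := by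
  obtain ⟨q, rfl, -⟩ := CfsgLib.Classical22.exists_quadraticForm hQ
  obtain ⟨T, rfl⟩ : ∃ T, t = T + 2 := ⟨t - 2, by omega⟩
  have h2 : (2 : F) ≠ 0 := fun h => by
    haveI := CharTwo.of_one_ne_zero_of_two_eq_zero (R := F) one_ne_zero h
    have := FiniteField.even_card_of_char_two (F := F) (ringChar.eq F 2)
    rw [Nat.odd_iff] at hodd
    omega
  by_cases hk5 : 5 ≤ k
  · rcases Nat.eq_zero_or_pos T with hT0 | hT1
    · subst hT0
      exact CfsgLib.Classical22.OPow.isMaximalIn_orthSquare q hodd e P hf₁ hT hk5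
    · exact CfsgLib.Classical22.OPow.isMaximalIn_orthPower_even q e P hf₁ hT h2 hk5 hke hT1
  · obtain rfl : k = 4 := by
      obtain ⟨r, rfl⟩ := hke
      rcases hsize with ⟨h, -⟩ | ⟨h, -⟩ <;> omega
    rcases hsize with ⟨h, -⟩ | ⟨-, h⟩
    · omega
    · exact CfsgLib.Classical22.OFour.isMaximalIn_orthFour q e P hf₁
        (CfsgLib.Classical22.OFour.noLine_of_not_plus hf₁ h) hT h2

end Cfsg.Agent.S5708
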