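import Cfsg.Statements.S5709
import Cfsg.Agent.Lib.Classical22.OrthOrthTensor.Statement
-- import your own Cfsg.Agent.* helpers here

set_option autoImplicit false
open Cfsg

namespace Cfsg.Agent.S5709

/-- Let F be a finite field with q elements, n ≥ 13 even, Q a non-degenerate quadratic form on F^n of minus type (no subspace of dimension n/2 is totally singular), and Ω the commutator subgroup of the isometry group of Q, viewed inside GL_n(F). Suppose q is odd and that, through a change of basis P and a bijection of index sets e, the polar form of Q is similar to the tensor product of non-degenerate symmetric bilinear forms f₁ on F^(n₁), n₁ odd and at least 3, and f₂ on F^(n₂), n₂ even and at least 4 with no totally isotropic subspace of dimension n₂/2 (minus type). Unless q = 3 and n₁ = 3, the elements of Ω in the stabiliser of this tensor decomposition form a maximal subgroup of Ω. -/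
theorem result {F : Type*} [Field F] [Fintype F] {n : ℕ} (hn : 13 ≤ n) (heven : Even n) (Q : (Fin n → F) → F) (hQ : Cfsg.Geo.IsNondegenerateQuadraticForm Q) (hminus : ¬ Cfsg.Geo.IsPlusTypeOn Q ⊤) (hodd : Odd (Fintype.card F)) (n₁ n₂ : ℕ) (h1 : 3 ≤ n₁) (h1o : Odd n₁) (h2 : 4 ≤ n₂) (h2e : Even n₂) (hex : ¬ (Fintype.card F = 3 ∧ n₁ = 3)) (e : (Fin n) ≃ Fin n₁ × Fin n₂) (P : Matrix.GeneralLinearGroup (Fin n) F) (f₁ : (Fin n₁ → F) → (Fin n₁ → F) → F) (f₂ : (Fin n₂ → F) → (Fin n₂ → F) → F) (hf₁ : Cfsg.Geo.IsSymmetricForm f₁) (hf₂ : Cfsg.Geo.IsSymmetricForm f₂) (hf₂m : ¬ Cfsg.Geo.IsPlusTypeOn (fun v : Fin n₂ → F => f₂ v v) ⊤) (hT : Cfsg.Geo.IsTensorFormStructure id (QuadraticMap.polar Q) f₁ f₂ e P) : Cfsg.Geo.IsMaximalIn (Cfsg.Geo.omegaGL Q) (Cfsg.Geo.tensorProductSubgroup n₁ n₂ e P ⊓ Cfsg.Geo.omegaGL Q) := by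
  classical
  obtain ⟨q, rfl, -⟩ := CfsgLib.Classical22.exists_quadraticForm hQ
  have hc : n = n₁ * n₂ := by simpa using Fintype.card_congr e
  obtain ⟨k₁, hk₁⟩ := h1o
  obtain ⟨k₂, hk₂⟩ := h2e
  have hq : n₁ = 3 → 3 < Fintype.card F := fun h3 => by
    have hq : Fintype.card F ≠ 3 := fun hq => hex ⟨hq, h3⟩
    obtain ⟨i, hi⟩ := hodd
    have := Fintype.one_lt_card (α := F)
    omega
  rcases Nat.lt_or_ge n₁ n₂ with hlt | hge
  · have hb : 5 ≤ n₂ := by
      by_contra h
      have : n₁ * n₂ ≤ 3 * 4 := Nat.mul_le_mul (by omega) (by omega)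
      omega
    refine CfsgLib.Classical22.TensorMax.OO.isMaximalIn_orthTensor q hodd e P hf₁ hf₂ hT h1 hlt hb hq ?_
      (Or.inl ⟨k₁, hk₁⟩)
    by_cases h3 : n₁ = 3
    · exact Or.inl h3
    · exact Or.inr (Or.inl (by omega))
  · rw [CfsgLib.Classical22.TensorMax.OO.tensorProduct_swap e P]
    refine CfsgLib.Classical22.TensorMax.OO.isMaximalIn_orthTensor q hodd _ P hf₂ hf₁
      (CfsgLib.Classical22.TensorMax.OO.isTensorFormStructure_swap hT) (by omega) (by omega) (by omega)
      (fun h => absurd h (by omega)) ?_ (Or.inr ⟨k₁, hk₁⟩)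
    by_cases h4 : n₂ = 4
    · refine Or.inr (Or.inr fun x y hx hxx hyy hxy => ?_)
      by_contra hy
      refine hf₂m ⟨Submodule.span F ({x, y} : Set (Fin n₂ → F)), le_top, fun w hw => ?_, ?_⟩
      · obtain ⟨s, t, rfl⟩ := Submodule.mem_span_pair.mp hw
        simp only [hf₂.bilinear.add_left, hf₂.bilinear.add_right, hf₂.bilinear.smul_left, hf₂.bilinear.smul_right,
          hxx, hyy, hxy, hf₂.symm y x]
        ring
      · rw [CfsgLib.Classical22.TensorMax.OO.finrank_line hf₂ ⟨hxx, hyy, hxy, hx, hy⟩, finrank_top,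
          Module.finrank_fin_fun]
        omega
    · exact Or.inr (Or.inl (by omega))

end Cfsg.Agent.S5709
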