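import Cfsg.Statements.S5712
import Cfsg.Agent.Lib.SpTwoOver.Four
import Cfsg.Agent.Lib.SpTwoOver.Core
import Cfsg.Agent.Lib.Classical.SpSimple
import Cfsg.Agent.Lib.Classical22.SymIndex
import Cfsg.Agent.S0247
import Cfsg.Agent.Lib.Fusion.CentralModStab
-- import your own Cfsg.Agent.* helpers here

set_option autoImplicit false
open Cfsg

namespace Cfsg.Agent.S5712

open Matrix CfsgLib.Transvec CfsgLib.SpTwoOver CfsgLib.SpFour CfsgLib.Classical
open scoped MatrixGroups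

theorem form_eq {F : Type*} [Field F] [CharP F 2] {n : ℕ} :
    (fun u v : (Fin n ⊕ Fin n → F) => ∑ i : Fin n, (u (Sum.inl i) * v (Sum.inr i) + u (Sum.inr i) * v (Sum.inl i))) =
      Cfsg.sympForm n F := by
  funext u v
  simp [Cfsg.sympForm, Matrix.J, Matrix.fromBlocks_mulVec, dotProduct, Fintype.sum_sum_type,
    Finset.sum_add_distrib, Matrix.neg_mulVec, CharTwo.neg_eq]

/-- Subgroups of order divisible by 60 and at least 120 of the symmetric group of degree 6. -/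
theorem six_cases {Γ : Type*} [Group Γ] (e : Γ ≃* Equiv.Perm (Fin 6)) {K : Subgroup Γ} {k : ℕ} (hk : 2 ≤ k)
    (hK : Nat.card K = 60 * k) :
    K = ⊤ ∨ Nonempty (↥K ≃* ↥(alternatingGroup (Fin 6))) ∨ Nonempty (↥K ≃* Equiv.Perm (Fin 5)) := by
  classical
  set M := K.map e.toMonoidHom with hM
  have eK : ↥K ≃* ↥M := e.subgroupMap K
  have hMc : Nat.card M = 60 * k := by rw [← Nat.card_congr eK.toEquiv, hK]
  have hidx := Subgroup.card_mul_index M
  rw [hMc, Nat.card_perm, Nat.card_eq_fintype_card, Fintype.card_fin,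
    show (6 : ℕ).factorial = 720 by decide] at hidx
  have hle : M.index ≤ 6 := by
    by_contra h
    have : 120 * 7 ≤ 60 * k * M.index := Nat.mul_le_mul (by omega) (by omega)
    omega
  by_cases h2 : M.index ≤ 2
  · have h0 : M.index ≠ 0 := Subgroup.index_ne_zero_of_finite
    rcases (show M.index = 1 ∨ M.index = 2 by omega) with h | h
    · refine Or.inl ?_
      rw [Subgroup.index_eq_one] at h
      apply Subgroup.map_injective (f := e.toMonoidHom) e.injective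
      rw [Subgroup.map_top_of_surjective _ e.surjective]
      exact h
    · exact Or.inr (Or.inl ⟨eK.trans (MulEquiv.subgroupCongr (Equiv.Perm.eq_alternatingGroup_of_index_eq_two h))⟩)
  · have h6 : 6 ≤ M.index := by
      have := CfsgLib.Classical22.card_le_index (Ω := Fin 6) (by simp) (H := M) (by omega)
      simpa using this
    obtain ⟨φ, c, hc⟩ := CfsgLib.Classical22.exists_aut (Ω := Fin 6) (by simp) (H := M) (by simp; omega)
    have hmap : M.map φ.toMonoidHom = MulAction.stabilizer (Equiv.Perm (Fin 6)) c := by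
      ext g
      constructor
      · rintro ⟨h, hh, rfl⟩
        exact (hc h).1 hh
      · intro hg
        exact ⟨φ.symm g, (hc _).2 (by rw [φ.apply_symm_apply]; exact hg), φ.apply_symm_apply g⟩
    exact Or.inr (Or.inr ⟨((eK.trans (φ.subgroupMap M)).trans (MulEquiv.subgroupCongr hmap)).trans
      ((CfsgLib.Classical22.stabilizerMulEquiv c).trans (Equiv.permCongrHom (Fintype.equivFinOfCardEq (by
        rw [Fintype.card_subtype_compl, Fintype.card_subtype_eq, Fintype.card_fin]))))⟩)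

/-- Let F be a finite field of characteristic two, n ≥ 2, V = F^{2n} with the non-degenerate alternating form f(u, v) = Σ (u_i v_{n+i} + u_{n+i} v_i), and G the group of invertible matrices preserving f. Let a ≠ 0 be a vector, H its stabilizer in G, and X a subgroup of O₂(H) of order |F|^{2n−2} no element of which is a transvection (no element g has g − 1 of rank one). If L is a subgroup of G containing X that acts irreducibly on V (no proper non-zero L-invariant subspace), then L = G, or, for some quadratic form Q on V whose polar form is f, L is the isometry group of Q or its subgroup of the isometries g for which g − 1 has even rank, or |F| = 2, n = 2 and L is isomorphic to the alternating group of degree 6 or to the symmetric group of degree 5. -/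
theorem result {F : Type*} [Field F] [Fintype F] [CharP F 2] {n : ℕ} (hn : 2 ≤ n) (a : (Fin n ⊕ Fin n → F)) (ha : a ≠ 0)
    (X : Subgroup (GL (Fin n ⊕ Fin n) F)) (hXG : X ≤ Cfsg.preserving (Units.coeHom (Matrix (Fin n ⊕ Fin n) (Fin n ⊕ Fin n) F)) (fun u v : (Fin n ⊕ Fin n → F) => ∑ i : Fin n, (u (Sum.inl i) * v (Sum.inr i) + u (Sum.inr i) * v (Sum.inl i))))
    (hXO : ∀ H : Subgroup (GL (Fin n ⊕ Fin n) F),
      (∀ g : GL (Fin n ⊕ Fin n) F, g ∈ H ↔ (g ∈ Cfsg.preserving (Units.coeHom (Matrix (Fin n ⊕ Fin n) (Fin n ⊕ Fin n) F)) (fun u v : (Fin n ⊕ Fin n → F) => ∑ i : Fin n, (u (Sum.inl i) * v (Sum.inr i) + u (Sum.inr i) * v (Sum.inl i))) ∧ Matrix.mulVec (g : Matrix (Fin n ⊕ Fin n) (Fin n ⊕ Fin n) F) a = a)) →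
      X ≤ (Cfsg.pCore 2 ↥H).map H.subtype)
    (hcard : Nat.card ↥X = Fintype.card F ^ (2 * n - 2))
    (hntv : ∀ x ∈ X, ((x : Matrix (Fin n ⊕ Fin n) (Fin n ⊕ Fin n) F) - 1).rank ≠ 1)
    (L : Subgroup (GL (Fin n ⊕ Fin n) F)) (hXL : X ≤ L) (hLG : L ≤ Cfsg.preserving (Units.coeHom (Matrix (Fin n ⊕ Fin n) (Fin n ⊕ Fin n) F)) (fun u v : (Fin n ⊕ Fin n → F) => ∑ i : Fin n, (u (Sum.inl i) * v (Sum.inr i) + u (Sum.inr i) * v (Sum.inl i))))
    (hirr : ∀ W : Submodule F (Fin n ⊕ Fin n → F), (∀ g ∈ L, ∀ w ∈ W, Matrix.mulVec (g : Matrix (Fin n ⊕ Fin n) (Fin n ⊕ Fin n) F) w ∈ W) → W = ⊥ ∨ W = ⊤) :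
    L = Cfsg.preserving (Units.coeHom (Matrix (Fin n ⊕ Fin n) (Fin n ⊕ Fin n) F)) (fun u v : (Fin n ⊕ Fin n → F) => ∑ i : Fin n, (u (Sum.inl i) * v (Sum.inr i) + u (Sum.inr i) * v (Sum.inl i))) ∨
    (∃ Q : QuadraticForm F (Fin n ⊕ Fin n → F), (∀ u v, QuadraticMap.polar ⇑Q u v = (fun u v : (Fin n ⊕ Fin n → F) => ∑ i : Fin n, (u (Sum.inl i) * v (Sum.inr i) + u (Sum.inr i) * v (Sum.inl i))) u v) ∧
      (L = Cfsg.isometryGroup F ⇑Q ∨
        ∀ g : GL (Fin n ⊕ Fin n) F, g ∈ L ↔ (g ∈ Cfsg.isometryGroup F ⇑Q ∧ Even ((g : Matrix (Fin n ⊕ Fin n) (Fin n ⊕ Fin n) F) - 1).rank))) ∨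
    (Fintype.card F = 2 ∧ n = 2 ∧ (Nonempty (↥L ≃* ↥(alternatingGroup (Fin 6))) ∨ Nonempty (↥L ≃* Equiv.Perm (Fin 5)))) := by
  classical
  have hsum : ∀ u v : Fin n ⊕ Fin n → F, (∑ i : Fin n, (u (Sum.inl i) * v (Sum.inr i) + u (Sum.inr i) * v (Sum.inl i))) =
      Cfsg.sympForm n F u v := fun u v => congrFun (congrFun form_eq u) v
  simp only [hsum] at hXG hXO hLG ⊢
  set f := Cfsg.sympForm n F with hfdef
  have hf : Cfsg.Geo.IsSymplecticForm f := isSymplecticForm_sympForm n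
  have hι : Fintype.card (Fin n ⊕ Fin n) = 2 * n := by simp [two_mul]
  set G := Cfsg.preserving (Units.coeHom (Matrix (Fin n ⊕ Fin n) (Fin n ⊕ Fin n) F)) f with hG
  have hGi : ∀ g, g ∈ G ↔ Iso f g := fun g => Iff.rfl
  have hiso : ∀ g ∈ L, Iso f g := fun g hg => hLG hg
  let Hs : Subgroup (GL (Fin n ⊕ Fin n) F) :=
    { carrier := {g | g ∈ G ∧ (g : Matrix (Fin n ⊕ Fin n) (Fin n ⊕ Fin n) F) *ᵥ a = a}
      mul_mem' := fun {g h} hg hh => ⟨G.mul_mem hg.1 hh.1, by rw [mul_mulVec, hh.2, hg.2]⟩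
      one_mem' := ⟨G.one_mem, by simp⟩
      inv_mem' := fun {g} hg => ⟨G.inv_mem hg.1, by conv_lhs => rw [← hg.2, inv_mulVec_cancel]⟩ }
  have hXN := hXO Hs fun g => Iff.rfl
  have hNp : IsPGroup 2 ↥((Cfsg.pCore 2 ↥Hs).map Hs.subtype) := (CfsgLib.Cores.isPGroup_pCore 2).map _
  haveI : (Cfsg.pCore 2 ↥Hs).Normal := CfsgLib.Fusion.pCore_normal_inst 2
  have hfix : ∀ k ∈ (Cfsg.pCore 2 ↥Hs).map Hs.subtype,
      Iso f k ∧ (k : Matrix (Fin n ⊕ Fin n) (Fin n ⊕ Fin n) F) *ᵥ a = a := by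
    rintro _ ⟨k, -, rfl⟩
    exact k.2
  have hnorm : ∀ g : GL (Fin n ⊕ Fin n) F, Iso f g → (g : Matrix (Fin n ⊕ Fin n) (Fin n ⊕ Fin n) F) *ᵥ a = a →
      ∀ k ∈ (Cfsg.pCore 2 ↥Hs).map Hs.subtype, g * k * g⁻¹ ∈ (Cfsg.pCore 2 ↥Hs).map Hs.subtype := by
    rintro g hg hga _ ⟨k, hk, rfl⟩
    let g' : Hs := ⟨g, hg, hga⟩
    refine ⟨g' * k * g'⁻¹, Subgroup.Normal.conj_mem inferInstance k hk g', ?_⟩
    rw [map_mul, map_mul, map_inv]
    rfl
  have h4 : 4 ≤ Fintype.card (Fin n ⊕ Fin n) := by omega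
  obtain ⟨φ, hφ⟩ := exists_sieg hf h4 ha hXL
    (fun x hx b hab => exists_Rt hf hab (hfix x (hXN hx)).1 (hfix x (hXN hx)).2
      (fun y hy => perp_trivial hf h4 ha hNp hfix hnorm (hXN hx) hy))
    (by rw [hcard, hι]) hntv
  have H : Hyp f L a := ⟨hf, ha, hiso, ⟨φ, hφ⟩, hirr, h4⟩
  by_cases hT : ∃ d, d ≠ 0 ∧ sT f a d ∈ L
  · obtain ⟨d, hd0, hd⟩ := hT
    exact Or.inl (le_antisymm hLG fun g hg => iso_mem_of_full hf (H.full_of_transvection hd0 hd) hg)
  have hN : NoT f L a := fun c hc => by_contra fun h => hT ⟨c, h, hc⟩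
  by_cases hbig : 2 < Fintype.card F ∨ 4 < Fintype.card (Fin n ⊕ Fin n)
  · exact Or.inr (Or.inl (H.orth hN hbig))
  have hF : Fintype.card F = 2 := by
    have := Fintype.one_lt_card (α := F)
    omega
  have hn2 : n = 2 := by omega
  by_cases hTr : Triangle f L a
  swap
  · exact Or.inr (Or.inl (orth_four H hF (by omega) hN hTr))
  obtain ⟨k, hk2, hk⟩ := large H hF (by omega) hN hTr
  subst hn2
  obtain ⟨e6⟩ := Cfsg.Agent.S0247.result hF
  have e : ↥G ≃* Matrix.symplecticGroup (Fin 2) F :=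
    (MulEquiv.ofBijective (spToSpGL : Matrix.symplecticGroup (Fin 2) F →* Cfsg.spGL 2 F)
      ⟨fun x y h => Subtype.ext (congrArg (fun y : Cfsg.spGL 2 F => y.1.1) h),
        fun x => ⟨⟨x.1.1, mem_sp_iff.2 x.2⟩, Subtype.ext (Units.ext rfl)⟩⟩).symm
  have eL : ↥(L.subgroupOf G) ≃* ↥L := Subgroup.subgroupOfEquivOfLe hLG
  rcases six_cases (e.trans e6) (K := L.subgroupOf G) hk2 (by rw [Nat.card_congr eL.toEquiv, hk]) with h | ⟨⟨h⟩⟩ | ⟨⟨h⟩⟩
  · exact Or.inl (le_antisymm hLG (Subgroup.subgroupOf_eq_top.1 h))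
  · exact Or.inr (Or.inr ⟨hF, rfl, Or.inl ⟨eL.symm.trans h⟩⟩)
  · exact Or.inr (Or.inr ⟨hF, rfl, Or.inr ⟨eL.symm.trans h⟩⟩)

end Cfsg.Agent.S5712
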