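import Cfsg.Statements.S5728
-- import your own Cfsg.Agent.* helpers here

set_option autoImplicit false
open Cfsg

namespace Cfsg.Agent.S5728

/-- An elusive transitive action. Let p = 2^s − 1 be a prime and let F be the field with p² elements. Inside the group of affine maps x ↦ a·x + b of F (a ≠ 0), consider the subgroup of maps with both coefficients in the prime field. Then every element of prime order of the affine group is conjugate, within the affine group, to an element of that subgroup; equivalently, in the transitive action of the affine group on the cosets of that subgroup (of degree p(p + 1)) every element of prime order fixes a point. -/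
theorem result (p s : ℕ) [Fact p.Prime] (hs : p = 2 ^ s - 1)
    (g : Equiv.Perm (GaloisField p 2)) (hg : g ∈ Cfsg.affineGroup (GaloisField p 2)) (hord : (orderOf g).Prime) :
    ∃ x ∈ Cfsg.affineGroup (GaloisField p 2), ∃ a b : ZMod p, a ≠ 0 ∧
      ∀ y : GaloisField p 2, (x * g * x⁻¹) y = algebraMap (ZMod p) (GaloisField p 2) a * y + algebraMap (ZMod p) (GaloisField p 2) b := by
  classical
  have hp : p.Prime := Fact.out
  letI : Fintype (GaloisField p 2) := Fintype.ofFinite _
  have hK : Fintype.card (GaloisField p 2) = p ^ 2 := by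
    rw [← Nat.card_eq_fintype_card]; exact GaloisField.card p 2 (by norm_num)
  obtain ⟨A, B, hgf⟩ := hg
  have hsub : ∀ a : GaloisField p 2, a ^ p = a → ∃ c : ZMod p, algebraMap (ZMod p) (GaloisField p 2) c = a := by
    intro a ha
    let P : Polynomial (GaloisField p 2) := Polynomial.X ^ p - Polynomial.X
    let s : Finset (GaloisField p 2) := Finset.univ.image (algebraMap (ZMod p) (GaloisField p 2))
    have hP0 : P ≠ 0 := FiniteField.X_pow_card_sub_X_ne_zero _ hp.one_lt
    have hss : s ⊆ P.roots.toFinset := fun x hx => by
      obtain ⟨c, -, rfl⟩ := Finset.mem_image.mp hx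
      rw [Multiset.mem_toFinset, Polynomial.mem_roots hP0]
      simp [P, ← map_pow, ZMod.pow_card]
    have hs' : s.card = p := by
      rw [Finset.card_image_of_injective _ (algebraMap (ZMod p) (GaloisField p 2)).injective, Finset.card_univ, ZMod.card]
    have heq := Finset.eq_of_subset_of_card_le hss (by
      rw [hs']
      refine (Multiset.toFinset_card_le _).trans ((Polynomial.card_roots' _).trans ?_)
      rw [FiniteField.X_pow_card_sub_X_natDegree_eq _ hp.one_lt])
    have hroot : a ∈ s := by
      rw [heq, Multiset.mem_toFinset, Polynomial.mem_roots hP0]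
      simp [P, ha]
    obtain ⟨c, -, hc⟩ := Finset.mem_image.mp hroot
    exact ⟨c, hc⟩
  by_cases hA : (A : GaloisField p 2) = 1
  · -- a translation
    have hB : B ≠ 0 := by
      rintro rfl
      have : g = 1 := Equiv.ext fun x => by rw [hgf, hA, one_mul, add_zero]; rfl
      rw [this, orderOf_one] at hord; exact Nat.not_prime_one hord
    refine ⟨Equiv.mulLeft₀ B⁻¹ (inv_ne_zero hB), ⟨Units.mk0 B⁻¹ (inv_ne_zero hB), 0, fun x => by simp⟩, 1, 1, one_ne_zero, fun y => ?_⟩
    rw [Equiv.Perm.mul_apply, Equiv.Perm.mul_apply, hgf, map_one, hA]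
    simp only [one_mul, Equiv.mulLeft₀_apply, Equiv.Perm.inv_def, Equiv.mulLeft₀_symm_apply]
    field_simp
  · -- a homothety
    set c : GaloisField p 2 := B / (1 - A) with hc
    have h1A : (1 : GaloisField p 2) - A ≠ 0 := sub_ne_zero.mpr (Ne.symm hA)
    have hfix : ∀ y, g (y + c) - c = (A : GaloisField p 2) * y := fun y => by
      rw [hgf, hc]; field_simp; ring
    have hpow : ∀ (k : ℕ) (y : GaloisField p 2), (g ^ k) (y + c) = (A : GaloisField p 2) ^ k * y + c := by
      intro k
      induction k with
      | zero => intro y; simp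
      | succ k ih =>
        intro y
        rw [pow_succ', Equiv.Perm.mul_apply, ih, pow_succ', mul_assoc, ← hfix ((A : GaloisField p 2) ^ k * y), sub_add_cancel]
    have hr : (A : GaloisField p 2) ^ orderOf g = 1 := by
      have h := hpow (orderOf g) 1
      rw [pow_orderOf_eq_one, Equiv.Perm.one_apply, mul_one] at h
      exact (add_right_cancel h).symm
    have hq : (A : GaloisField p 2) ^ (p ^ 2 - 1) = 1 := by
      rw [← hK]; exact FiniteField.pow_card_sub_one_eq_one _ A.ne_zero
    have hord' : orderOf (A : GaloisField p 2) = orderOf g := by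
      rcases hord.eq_one_or_self_of_dvd _ (orderOf_dvd_of_pow_eq_one hr) with h | h
      · exact absurd (orderOf_eq_one_iff.mp h) hA
      · exact h
    have hdvd : orderOf g ∣ (p - 1) * 2 ^ s := by
      rw [← hord']
      have e : p ^ 2 - 1 = (p - 1) * 2 ^ s := by
        have h2 : 2 ^ s = p + 1 := by
          have := hp.two_le; omega
        rw [h2, mul_comm, ← Nat.sq_sub_sq, one_pow]
      exact e ▸ orderOf_dvd_of_pow_eq_one hq
    have hAp : (A : GaloisField p 2) ^ p = A := by
      rcases hord.dvd_mul.mp hdvd with h | h
      · have h1 : (A : GaloisField p 2) ^ (p - 1) = 1 := orderOf_dvd_iff_pow_eq_one.mp (by rw [hord']; exact h)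
        calc (A : GaloisField p 2) ^ p = (A : GaloisField p 2) ^ (p - 1 + 1) := by congr 1; have := hp.two_le; omega
          _ = A := by rw [pow_succ, h1, one_mul]
      · have h2 : orderOf g = 2 := (Nat.prime_dvd_prime_iff_eq hord Nat.prime_two).mp (hord.dvd_of_dvd_pow h)
        rw [h2] at hr
        rcases sq_eq_one_iff.mp hr with h3 | h3
        · exact absurd h3 hA
        · rw [h3]
          rcases hp.eq_two_or_odd' with h4 | h4
          · subst h4
            rw [neg_one_sq]
            haveI : CharP (GaloisField 2 2) 2 := charP_of_injective_algebraMap (algebraMap (ZMod 2) (GaloisField 2 2)).injective 2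
            exact (CharTwo.neg_eq (1 : GaloisField 2 2)).symm
          · exact h4.neg_one_pow
    obtain ⟨a, ha⟩ := hsub _ hAp
    refine ⟨Equiv.addRight (-c), ⟨1, -c, fun x => by simp⟩, a, 0, fun h0 => A.ne_zero (by rw [← ha, h0, map_zero]), fun y => ?_⟩
    rw [map_zero, add_zero, ha, Equiv.Perm.mul_apply, Equiv.Perm.mul_apply, ← hfix]
    simp [sub_eq_add_neg]

end Cfsg.Agent.S5728
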