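import Cfsg.Statements.S5729
-- import your own Cfsg.Agent.* helpers here

set_option autoImplicit false
open Cfsg

namespace Cfsg.Agent.S5729

/-- Burnside's count: the sum of the fixed-point numbers. -/
private theorem sum_fix {G X : Type*} [Group G] [Fintype G] [MulAction G X] [Fintype X] :
    ∃ r : ℕ, (Nonempty X → 1 ≤ r) ∧ (r = 1 → MulAction.IsPretransitive G X) ∧ (MulAction.IsPretransitive G X → Nonempty X → r = 1) ∧
      ∑ g : G, Nat.card (MulAction.fixedBy X g) = r * Fintype.card G := by
  classical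
  refine ⟨Fintype.card (MulAction.orbitRel.Quotient G X), fun ⟨x⟩ => Fintype.card_pos_iff.mpr ⟨Quotient.mk _ x⟩, fun h => ?_, fun h ⟨x⟩ => ?_, ?_⟩
  · haveI : Subsingleton (MulAction.orbitRel.Quotient G X) := Fintype.card_le_one_iff_subsingleton.mp h.le
    refine ⟨fun a b => ?_⟩
    have := MulAction.orbitRel_apply.mp (Quotient.exact (s := MulAction.orbitRel G X) (Subsingleton.elim (Quotient.mk _ b) (Quotient.mk _ a)))
    exact this
  · haveI := h
    refine Fintype.card_eq_one_iff.mpr ⟨Quotient.mk _ x, fun q => ?_⟩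
    induction q using Quotient.inductionOn with
    | h a => exact Quotient.sound (MulAction.orbitRel_apply.mpr (MulAction.exists_smul_eq G x a))
  · rw [← MulAction.sum_card_fixedBy_eq_card_orbits_mul_card_group]
    exact Finset.sum_congr rfl fun g _ => Nat.card_eq_fintype_card

/-- Let a finite group G act faithfully and transitively on a set with n ≥ 3 points. Then either G is a Frobenius permutation group (Frobenius as a permutation group: transitive, some non-identity element fixes a point, and no non-identity element fixes two points) of order n(n − 1) and exactly |G|/n of its elements are derangements (fix no point), or the number of derangements is greater than |G|/n. -/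
theorem result {G Ω : Type*} [Group G] [Finite G] [MulAction G Ω] [FaithfulSMul G Ω] [Fintype Ω] (htr : MulAction.IsPretransitive G Ω) (hn : 3 ≤ Fintype.card Ω) :
    ((MulAction.IsPretransitive G Ω ∧ (∃ g : G, g ≠ 1 ∧ ∃ ω : Ω, g • ω = ω) ∧ ∀ g : G, g ≠ 1 → Nat.card (MulAction.fixedBy Ω g) ≤ 1) ∧ Nat.card G = Fintype.card Ω * (Fintype.card Ω - 1) ∧ Fintype.card Ω * Nat.card {g : G // ∀ ω : Ω, g • ω ≠ ω} = Nat.card G) ∨
    Nat.card G < Fintype.card Ω * Nat.card {g : G // ∀ ω : Ω, g • ω ≠ ω} := by
  classical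
  haveI := Fintype.ofFinite G
  haveI := htr
  haveI : Nonempty Ω := Fintype.card_pos_iff.mp (by omega)
  obtain ⟨r₁, -, -, hr₁, hs₁⟩ := sum_fix (G := G) (X := Ω)
  rw [hr₁ htr inferInstance, one_mul] at hs₁
  obtain ⟨r, hrpos, -, -, hs⟩ := sum_fix (G := G) (X := Ω × Ω)
  have hsq : ∀ g : G, Nat.card (MulAction.fixedBy (Ω × Ω) g) = Nat.card (MulAction.fixedBy Ω g) ^ 2 := fun g => by
    rw [sq, ← Nat.card_prod]
    exact Nat.card_congr ⟨fun x => (⟨x.1.1, congrArg Prod.fst x.2⟩, ⟨x.1.2, congrArg Prod.snd x.2⟩),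
      fun x => ⟨(x.1.1, x.2.1), Prod.ext x.1.2 x.2.2⟩, fun _ => rfl, fun _ => rfl⟩
  simp only [hsq] at hs
  -- at least two orbits on pairs
  obtain ⟨a, b, hab⟩ := Fintype.exists_pair_of_one_lt_card (α := Ω) (by omega)
  have hr2 : 2 ≤ r := by
    by_contra hlt
    obtain ⟨r', -, hr', -, hs'⟩ := sum_fix (G := G) (X := Ω × Ω)
    simp only [hsq] at hs'
    have : r' = r := Nat.eq_of_mul_eq_mul_right Fintype.card_pos (hs'.symm.trans hs)
    have h1 : r = 1 := by have := hrpos inferInstance; omega
    haveI := hr' (this.trans h1)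
    obtain ⟨g, hg⟩ := MulAction.exists_smul_eq G (a, a) (a, b)
    exact hab ((congrArg Prod.fst hg).symm.trans (congrArg Prod.snd hg))
  obtain ⟨π, hπ⟩ : ∃ π : G → ℕ, ∀ g, π g = Nat.card (MulAction.fixedBy Ω g) := ⟨_, fun _ => rfl⟩
  simp only [← hπ] at hs hs₁
  set n := Fintype.card Ω
  have hle : ∀ g, π g ≤ n := fun g => by
    rw [hπ, Nat.card_eq_fintype_card]; exact Fintype.card_subtype_le _
  have hzero : ∀ g, π g = 0 ↔ ∀ ω : Ω, g • ω ≠ ω := fun g => by
    rw [hπ, Nat.card_eq_zero]
    simp [MulAction.mem_fixedBy, Finite.of_fintype, isEmpty_subtype, not_infinite_iff_finite.mpr inferInstance]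
  have hD : Nat.card {g : G // ∀ ω : Ω, g • ω ≠ ω} = (Finset.univ.filter fun g => π g = 0).card := by
    rw [Nat.card_eq_fintype_card, Fintype.card_subtype]
    congr 1; ext g; simp [hzero]
  set D := (Finset.univ.filter fun g => π g = 0).card
  -- the quadratic count
  have hid : (∑ g, ((π g : ℤ) - 1) * ((π g : ℤ) - n)) = ((r : ℤ) - 1) * Fintype.card G := by
    have e : ∀ g, ((π g : ℤ) - 1) * ((π g : ℤ) - n) = ((π g ^ 2 : ℕ) : ℤ) - (n + 1) * (π g : ℤ) + n := fun g => by
      push_cast; ring
    simp only [e, Finset.sum_add_distrib, Finset.sum_sub_distrib, Finset.sum_const, Finset.card_univ, nsmul_eq_mul]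
    rw [← Nat.cast_sum, hs, ← Finset.mul_sum, ← Nat.cast_sum, hs₁]
    push_cast; ring
  have hsplit : (∑ g, ((π g : ℤ) - 1) * ((π g : ℤ) - n)) =
      (n : ℤ) * D + ∑ g ∈ Finset.univ.filter (fun g => ¬ π g = 0), ((π g : ℤ) - 1) * ((π g : ℤ) - n) := by
    rw [← Finset.sum_filter_add_sum_filter_not Finset.univ (fun g => π g = 0)]
    congr 1
    rw [Finset.sum_congr rfl (g := fun _ => (n : ℤ)) (fun g hg => by rw [(Finset.mem_filter.mp hg).2]; push_cast; ring)]
    rw [Finset.sum_const, nsmul_eq_mul, mul_comm]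
  have hneg : ∀ g ∈ Finset.univ.filter (fun g => ¬ π g = 0), ((π g : ℤ) - 1) * ((π g : ℤ) - n) ≤ 0 := fun g hg => by
    have h1 := (Finset.mem_filter.mp hg).2
    exact mul_nonpos_of_nonneg_of_nonpos (by omega) (by have := hle g; omega)
  have hsum := Finset.sum_nonpos hneg
  rw [hD, Nat.card_eq_fintype_card (α := G)]
  by_cases hstrict : Fintype.card G < n * D
  · exact Or.inr hstrict
  left
  have hGpos : 0 < Fintype.card G := Fintype.card_pos
  have hrG : (Fintype.card G : ℤ) ≤ ((r : ℤ) - 1) * Fintype.card G := by nlinarith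
  have hnD : ((n * D : ℕ) : ℤ) ≤ Fintype.card G := by exact_mod_cast Nat.le_of_not_lt hstrict
  push_cast at hnD
  have heq : n * D = Fintype.card G := by
    have : (n : ℤ) * D = Fintype.card G := by linarith
    exact_mod_cast this
  have hr : r = 2 := by
    have : ((r : ℤ) - 2) * Fintype.card G ≤ 0 := by nlinarith
    have hG' : (0 : ℤ) < Fintype.card G := by exact_mod_cast hGpos
    have := nonpos_of_mul_nonpos_left this hG'
    omega
  have hall := (Finset.sum_eq_zero_iff_of_nonpos hneg).mp (by
    have : ((n : ℤ) * D) = Fintype.card G := by exact_mod_cast heq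
    rw [hr] at hid; push_cast at hid; linarith)
  have hone : ∀ g : G, g ≠ 1 → Nat.card (MulAction.fixedBy Ω g) ≤ 1 := fun g hg => by
    rw [← hπ]
    by_contra h
    rcases mul_eq_zero.mp (hall g (Finset.mem_filter.mpr ⟨Finset.mem_univ g, by omega⟩)) with h1 | h1
    · omega
    · apply hg
      have h2 : π g = n := by omega
      rw [hπ, Nat.card_coe_set_eq] at h2
      have huniv : MulAction.fixedBy Ω g = Set.univ :=
        Set.eq_of_subset_of_ncard_le (Set.subset_univ _) (by rw [Set.ncard_univ, Nat.card_eq_fintype_card, h2])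
      exact eq_of_smul_eq_smul fun x : Ω => by rw [one_smul]; exact (huniv ▸ Set.mem_univ x :)
  have hG : Fintype.card G = n * (n - 1) := by
    have h1 : ∑ g : G, π g ^ 2 = n ^ 2 + ∑ g ∈ (Finset.univ : Finset G).erase 1, π g := by
      rw [← Finset.add_sum_erase _ _ (Finset.mem_univ (1 : G))]
      congr 1
      · rw [hπ, show MulAction.fixedBy Ω (1 : G) = Set.univ from Set.eq_univ_of_forall fun x => one_smul G x,
          Nat.card_coe_set_eq, Set.ncard_univ, Nat.card_eq_fintype_card]
      · refine Finset.sum_congr rfl fun g hg => ?_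
        have := hone g (Finset.ne_of_mem_erase hg)
        rw [← hπ] at this
        interval_cases h : π g <;> rfl
    have h2 : ∑ g : G, π g = n + ∑ g ∈ (Finset.univ : Finset G).erase 1, π g := by
      rw [← Finset.add_sum_erase _ _ (Finset.mem_univ (1 : G))]
      congr 1
      rw [hπ, show MulAction.fixedBy Ω (1 : G) = Set.univ from Set.eq_univ_of_forall fun x => one_smul G x,
          Nat.card_coe_set_eq, Set.ncard_univ, Nat.card_eq_fintype_card]
    rw [hs, hr] at h1
    rw [hs₁] at h2
    obtain ⟨k, hk⟩ : ∃ k, n = k + 1 := ⟨n - 1, by omega⟩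
    rw [hk, Nat.add_sub_cancel]
    nlinarith
  refine ⟨⟨htr, ?_, hone⟩, hG, heq⟩
  have hstab : 1 < Nat.card (MulAction.stabilizer G a) := by
    have h1 := (MulAction.stabilizer G a).card_mul_index
    rw [MulAction.index_stabilizer_of_transitive, Nat.card_eq_fintype_card (α := G), hG, Nat.card_eq_fintype_card (α := Ω), mul_comm n] at h1
    have := Nat.eq_of_mul_eq_mul_right (by omega) h1
    omega
  haveI : Nontrivial (MulAction.stabilizer G a) := Finite.one_lt_card_iff_nontrivial.mp hstab
  obtain ⟨g, hg⟩ := exists_ne (1 : MulAction.stabilizer G a)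
  exact ⟨g, fun h => hg (Subtype.ext h), a, g.2⟩

end Cfsg.Agent.S5729
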