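import Cfsg.Statements.S5736
import Cfsg.Agent.Lib.BinaryPSL.Odd
import Cfsg.Agent.Lib.BinaryPSL.Even

set_option autoImplicit false
open Cfsg

namespace Cfsg.Agent.S5736

open CfsgLib.BinaryPSL CfsgLib.Fusion

theorem cube_root_iff {F : Type*} [Field F] [Fintype F] [CharP F 2] {a : ℕ} (ha : Fintype.card F = 2 ^ a) :
    (∀ ω : F, ω * ω + ω + 1 ≠ 0) ↔ Odd a := by
  classical
  have h2 : (2 : F) = 0 := CharTwo.two_eq_zero
  have hunits : Nat.card Fˣ = 2 ^ a - 1 := by
    rw [Nat.card_eq_fintype_card, Fintype.card_units, ha]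
  have hmod : ∀ k : ℕ, 2 ^ (2 * k) % 3 = 1 := fun k => by
    rw [pow_mul, Nat.pow_mod]
    norm_num
  constructor
  · intro hroot
    by_contra hodd
    obtain ⟨k, rfl⟩ := Nat.not_odd_iff_even.1 hodd
    have h3 : 3 ∣ Nat.card Fˣ := by
      have := hmod k
      rw [two_mul] at this
      rw [hunits]
      exact (Nat.modEq_iff_dvd' Nat.one_le_two_pow).1 (show 1 % 3 = 2 ^ (k + k) % 3 by omega)
    haveI : Fact (Nat.Prime 3) := ⟨Nat.prime_three⟩
    obtain ⟨u, hu⟩ := exists_prime_orderOf_dvd_card' 3 h3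
    have h1 : ((u : F) - 1) * ((u : F) * u + u + 1) = 0 := by
      have := congrArg Units.val (pow_orderOf_eq_one u)
      rw [hu, Units.val_pow_eq_pow_val, Units.val_one] at this
      linear_combination this
    rcases mul_eq_zero.1 h1 with h | h
    · have : u = 1 := Units.ext (sub_eq_zero.1 h)
      rw [this, orderOf_one] at hu
      omega
    · exact hroot _ h
  · intro hodd ω hω
    obtain ⟨k, rfl⟩ := hodd
    have hω0 : ω ≠ 0 := by
      rintro rfl
      simp at hω
    have hne : Units.mk0 ω hω0 ≠ 1 := fun e => by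
      have e' : ω = 1 := congrArg Units.val e
      rw [e'] at hω
      exact one_ne_zero (show (1 : F) = 0 by linear_combination hω - h2)
    haveI : Fact (Nat.Prime 3) := ⟨Nat.prime_three⟩
    have h3 : orderOf (Units.mk0 ω hω0) = 3 := orderOf_eq_prime (Units.ext (by
      simp only [Units.val_pow_eq_pow_val, Units.val_mk0, Units.val_one]
      linear_combination (ω - 1) * hω)) hne
    have hd : 3 ∣ 2 ^ (2 * k + 1) - 1 := hunits ▸ h3 ▸ orderOf_dvd_natCard _
    have h := hmod k
    rw [pow_succ] at hd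
    omega

/-- Let F be a finite field with q ≥ 4 elements, q ≠ 5, let G = PSL₂(F) and let H be a proper subgroup of G. Then the action of G on the cosets of H is binary if and only if H is trivial, or q is a power of 2 and H is a Sylow 2-subgroup, or q = 2^a with a odd and H has order 3. Here an action is binary (relational complexity 2) when, for every n ≥ 2 and all n-tuples I, J of points, if for every pair of positions some group element carries the corresponding pair of entries of I to those of J, then a single group element carries I to J. -/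
theorem result {F : Type*} [Field F] [Fintype F] (h4 : 4 ≤ Fintype.card F) (h5 : Fintype.card F ≠ 5)
    (H : Subgroup (Matrix.ProjectiveSpecialLinearGroup (Fin 2) F)) (hH : H ≠ ⊤) :
    (∀ (n : ℕ) (I J : Fin n → Matrix.ProjectiveSpecialLinearGroup (Fin 2) F ⧸ H), 2 ≤ n →
        (∀ i j : Fin n, i ≠ j → ∃ g : Matrix.ProjectiveSpecialLinearGroup (Fin 2) F, g • I i = J i ∧ g • I j = J j) → ∃ g : Matrix.ProjectiveSpecialLinearGroup (Fin 2) F, ∀ i, g • I i = J i) ↔
      (H = ⊥ ∨ ((∃ a : ℕ, Fintype.card F = 2 ^ a) ∧ ∃ P : Sylow 2 (Matrix.ProjectiveSpecialLinearGroup (Fin 2) F), H = P) ∨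
        ((∃ a : ℕ, Odd a ∧ Fintype.card F = 2 ^ a) ∧ Nat.card H = 3)) := by
  classical
  by_cases h2 : (2 : F) = 0
  swap
  · have hodd : Fintype.card F % 2 = 1 := FiniteField.odd_card_of_char_ne_two fun h => h2 (by
      have := ringChar.Nat.cast_ringChar (R := F)
      rw [h] at this
      exact_mod_cast this)
    have hnot : ∀ a : ℕ, Fintype.card F ≠ 2 ^ a := fun a e => by
      rcases a with _ | a
      · rw [pow_zero] at e; omega
      · rw [pow_succ] at e; omega
    refine ⟨fun hb => Or.inl (eq_bot_of_isBin h2 (by omega) hH hb), ?_⟩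
    rintro (rfl | ⟨⟨a, ha⟩, -⟩ | ⟨⟨a, -, ha⟩, -⟩)
    · exact isBin_of_ti _ (fun g h => absurd (bot_inf_eq _) h) (fun g k a ha ha1 => absurd (Subgroup.mem_bot.1 ha) ha1)
    · exact absurd ha (hnot a)
    · exact absurd ha (hnot a)
  haveI : CharP F 2 := CharTwo.of_one_ne_zero_of_two_eq_zero one_ne_zero h2
  obtain ⟨n, -, hn⟩ := FiniteField.card F 2
  have hL := CfsgLib.LocalEven.RankOne.likeL2_psl (F := F) (p := 2) n.pos hn
  have hsyl : ∀ g, ∃ P : Sylow 2 (Matrix.ProjectiveSpecialLinearGroup (Fin 2) F),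
      conjSub g (upperGroup F) = P := fun g => by
    have hc : Nat.card (conjSub g (upperGroup F)) = 2 ^ (n : ℕ) := by rw [card_conjSub, card_upperGroup, hn]
    obtain ⟨P, hP⟩ := (IsPGroup.of_card hc).exists_le_sylow
    exact ⟨P, Subgroup.eq_of_le_of_card_ge hP (by rw [hc, hL.card P])⟩
  constructor
  · intro hb
    by_cases hne : H = ⊥
    · exact Or.inl hne
    rcases cases_of_isBin h4 hH hne hb with ⟨g, rfl⟩ | ⟨hroot, h3⟩
    · exact Or.inr (Or.inl ⟨⟨n, hn⟩, hsyl g⟩)
    · exact Or.inr (Or.inr ⟨⟨n, (cube_root_iff hn).1 hroot, hn⟩, h3⟩)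
  · rintro (rfl | ⟨-, P, rfl⟩ | ⟨⟨a, ha, hq⟩, h3⟩)
    · exact isBin_of_ti _ (fun g h => absurd (bot_inf_eq _) h) (fun g k a ha ha1 => absurd (Subgroup.mem_bot.1 ha) ha1)
    · obtain ⟨P0, hP0⟩ := hsyl 1
      obtain ⟨g, rfl⟩ := MulAction.exists_smul_eq (Matrix.ProjectiveSpecialLinearGroup (Fin 2) F) P0 P
      have e : ((g • P0 : Sylow 2 (Matrix.ProjectiveSpecialLinearGroup (Fin 2) F)) :
          Subgroup (Matrix.ProjectiveSpecialLinearGroup (Fin 2) F)) = conjSub g (upperGroup F) := by
        rw [Sylow.coe_subgroup_smul, ← hP0, conjSub_one]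
        rfl
      rw [e]
      exact isBin_upper g
    · exact isBin_three ((cube_root_iff hq).2 ha) h3

end Cfsg.Agent.S5736
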