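import Cfsg.Statements.S5739
import Cfsg.Agent.Lib.Classical22.Singer
-- import your own Cfsg.Agent.* helpers here

set_option autoImplicit false
open Cfsg

namespace Cfsg.Agent.S5739

/-- Let F ⊆ K be finite fields with |F| = q and [K : F] = n ≥ 2, and let M ≤ GL_F(K) be the Singer group of multiplications by non-zero elements of K. If g ∈ GL_F(K) does not normalise M, then the order of M ∩ gMg⁻¹ divides q^r − 1 for some proper divisor r of n. In particular, when n is prime, that order divides q − 1. -/
theorem result {F K : Type*} [Field F] [Fintype F] [Field K] [Fintype K] [Algebra F K] (n : ℕ) (hn : 2 ≤ n) (hdim : Module.finrank F K = n)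
    (g : (Module.End F K)ˣ) (hg : ((Units.map ((Algebra.lmul F K : K →ₐ[F] Module.End F K) : K →* Module.End F K)).range).map (MulAut.conj g).toMonoidHom ≠ (Units.map ((Algebra.lmul F K : K →ₐ[F] Module.End F K) : K →* Module.End F K)).range) :
    ∃ r : ℕ, 1 ≤ r ∧ r ∣ n ∧ r < n ∧ Nat.card ↥(((Units.map ((Algebra.lmul F K : K →ₐ[F] Module.End F K) : K →* Module.End F K)).range).map (MulAut.conj g).toMonoidHom ⊓ (Units.map ((Algebra.lmul F K : K →ₐ[F] Module.End F K) : K →* Module.End F K)).range) ∣ Fintype.card F ^ r - 1 := by
  haveI : FiniteDimensional F K := Module.Finite.of_finite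
  obtain ⟨L, hL, hcard⟩ := CfsgLib.Classical22.card_singer_inter_conj hg
  let M : IntermediateField F K := L.toIntermediateField fun x hx => by
    rcases eq_or_ne x 0 with rfl | h0
    · rwa [inv_zero]
    · have e : x⁻¹ = x ^ (Fintype.card K - 2) := by
        refine inv_eq_of_mul_eq_one_right ?_
        rw [← pow_succ', show Fintype.card K - 2 + 1 = Fintype.card K - 1 by
          have := Fintype.one_lt_card (α := K); omega, FiniteField.pow_card_sub_one_eq_one x h0]
      rw [e]; exact L.pow_mem hx _
  refine ⟨Module.finrank F M, Module.finrank_pos, ?_, ?_, ?_⟩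
  · rw [← hdim, ← Module.finrank_mul_finrank F M K]
    exact Dvd.intro _ rfl
  · rw [← hdim]
    refine lt_of_le_of_ne (Submodule.finrank_le L.toSubmodule) fun h => hL ?_
    exact Algebra.toSubmodule_eq_top.mp (Submodule.eq_top_of_finrank_eq h)
  · have e : Nat.card L = Fintype.card F ^ Module.finrank F M := by
      rw [show Nat.card L = Nat.card M from rfl, Module.natCard_eq_pow_finrank (K := F), Nat.card_eq_fintype_card]
    exact dvd_of_eq (Nat.eq_sub_of_add_eq (hcard.trans e))

end Cfsg.Agent.S5739
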