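import Cfsg.Statements.S5742
import Cfsg.Agent.Lib.Known.E6Fi22.Main
import Cfsg.Agent.Lib.Fi22P.Out
-- import your own Cfsg.Agent.* helpers here

set_option autoImplicit false
open Cfsg

namespace Cfsg.Agent.S5742

/-- The simple group ²E₆(2) (the twisted group of type E₆ over the field with 4 elements) contains at least three pairwise non-conjugate subgroups isomorphic to the Fischer group Fi₂₂. -/
theorem result {K : Type*} [Field K] [Fintype K] (hK : Fintype.card K = 4) :
    ∃ H : Fin 3 → Subgroup (Cfsg.Lie.twistedE6 K 2),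
      (∀ i, Cfsg.Spor.IsoFi22 (H i)) ∧
      (∀ i j, i ≠ j → ∀ g : (Cfsg.Lie.twistedE6 K 2), (H i).map (MulAut.conj g).toMonoidHom ≠ H j) := by
  have h2 : (2 : K) = 0 := by
    have h := FiniteField.cast_card_eq_zero K
    rw [hK] at h
    have h4 : (2 : K) * 2 = 0 := by rw [← h]; norm_num
    exact mul_self_eq_zero.1 h4
  have : CharP K 2 := (CharP.charP_iff_prime_eq_zero Nat.prime_two).2 (by exact_mod_cast h2)
  obtain ⟨C⟩ := CfsgLib.Chev.TwE6.nonempty_ctx (K := K) (q := 2)
    Nat.prime_two.isPrimePow (by rw [hK]; rfl)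
  obtain ⟨w, hw⟩ : ∃ w : K, w ^ 2 + w + 1 = 0 := by
    classical
    obtain ⟨w, hw⟩ : ((Finset.univ : Finset K) \ {0, 1}).Nonempty := Finset.card_pos.1 (by
      have := Finset.le_card_sdiff ({0, 1} : Finset K) Finset.univ
      have := (Finset.card_insert_le (0 : K) {1})
      simp only [Finset.card_univ, hK, Finset.card_singleton] at *
      omega)
    simp only [Finset.mem_sdiff, Finset.mem_insert, Finset.mem_singleton, not_or] at hw
    refine ⟨w, ?_⟩
    have h3 : w ^ 3 = 1 := by
      have := FiniteField.pow_card_sub_one_eq_one w hw.2.1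
      rwa [hK] at this
    refine (mul_eq_zero.1 (show (w - 1) * (w ^ 2 + w + 1) = 0 by
      linear_combination h3)).resolve_left (sub_ne_zero.2 hw.2.2)
  obtain ⟨F, -⟩ := CfsgLib.J3.exists_fld hK w hw
  refine CfsgLib.Chev.E6Fi22.three F C fun α => ?_
  have hc := CfsgLib.Fi22P.Out.card_out
  have h1 : (QuotientGroup.mk α : Cfsg.Out Cfsg.Spor.Fi22) ^ 2 = 1 := by
    rw [← hc]
    exact pow_card_eq_one'
  rw [sq, ← QuotientGroup.mk_mul, QuotientGroup.eq_one_iff] at h1
  obtain ⟨m, hm⟩ := h1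
  exact ⟨m, hm.symm⟩

end Cfsg.Agent.S5742
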