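import Cfsg.Statements.S5744
import Cfsg.Agent.Lib.Known.E6Fi22.Orth
-- import your own Cfsg.Agent.* helpers here

set_option autoImplicit false
open Cfsg

namespace Cfsg.Agent.S5744

/-- The simple group ²E₆(2) (the twisted group of type E₆ over the field with 4 elements) contains at least three pairwise non-conjugate subgroups isomorphic to the orthogonal group Ω₇(3) (the commutator subgroup of the isometry group of x₀² + x₁y₁ + x₂y₂ + x₃y₃ over the field with 3 elements). -/
theorem result {K : Type*} [Field K] [Fintype K] (hK : Fintype.card K = 4) :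
    ∃ H : Fin 3 → Subgroup (Cfsg.Lie.twistedE6 K 2),
      (∀ i, Nonempty ((H i) ≃* Cfsg.Omega (ZMod 3) (Cfsg.quadFormOdd 3 (ZMod 3)))) ∧
      (∀ i j, i ≠ j → ∀ g : (Cfsg.Lie.twistedE6 K 2), (H i).map (MulAut.conj g).toMonoidHom ≠ H j) := by
  have h2 : (2 : K) = 0 := by
    have h := FiniteField.cast_card_eq_zero K
    rw [hK] at h
    have h4 : (2 : K) * 2 = 0 := by rw [← h]; norm_num
    exact mul_self_eq_zero.1 h4
  have : CharP K 2 := (CharP.charP_iff_prime_eq_zero Nat.prime_two).2 (by exact_mod_cast h2)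
  obtain ⟨C⟩ := CfsgLib.Chev.TwE6.nonempty_ctx (K := K) (q := 2)
    Nat.prime_two.isPrimePow (by rw [hK]; rfl)
  obtain ⟨w, hw⟩ : ∃ w : K, w ^ 2 + w + 1 = 0 := by
    classical
    obtain ⟨w, hw⟩ : ((Finset.univ : Finset K) \ {0, 1}).Nonempty := Finset.card_pos.1 (by
      have := Finset.le_card_sdiff ({0, 1} : Finset K) Finset.univ
      have := (Finset.card_insert_le (0 : K) {1})
      simp only [Finset.card_univ, hK, Finset.card_singleton] at *
      omega)
    simp only [Finset.mem_sdiff, Finset.mem_insert, Finset.mem_singleton, not_or] at hw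
    refine ⟨w, ?_⟩
    have h3 : w ^ 3 = 1 := by
      have := FiniteField.pow_card_sub_one_eq_one w hw.2.1
      rwa [hK] at this
    refine (mul_eq_zero.1 (show (w - 1) * (w ^ 2 + w + 1) = 0 by
      linear_combination h3)).resolve_left (sub_ne_zero.2 hw.2.2)
  obtain ⟨F, -⟩ := CfsgLib.J3.exists_fld hK w hw
  obtain ⟨H, hH, hconj⟩ := CfsgLib.Chev.E6Fi22.three_orth F C
  obtain ⟨e⟩ := CfsgLib.Fi22P.subK_iso
  have hz : Subgroup.center (Cfsg.Omega (ZMod 3) (Cfsg.quadFormOdd 3 (ZMod 3))) = ⊥ := by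
    rw [← CfsgLib.Classical.coe_qOdd]
    exact CfsgLib.Classical.center_Omega_qOdd le_rfl (by decide)
  refine ⟨H, fun i => ?_, hconj⟩
  obtain ⟨eH⟩ := hH i
  exact ⟨eH.trans (e.trans ((QuotientGroup.quotientMulEquivOfEq hz).trans QuotientGroup.quotientBot))⟩

end Cfsg.Agent.S5744
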