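import Cfsg.Statements.S5746
import Cfsg.Agent.Lib.G2FourJ2.Cosets

set_option autoImplicit false
open Cfsg

namespace Cfsg.Agent.S5746

/-- The Chevalley group G₂(4) (over the field with 4 elements) has a maximal subgroup H isomorphic to the Hall–Janko group J₂ such that for every x outside H the intersection H ∩ xHx⁻¹ is a maximal subgroup of H; that is, the action of G₂(4) on the cosets of H is extremely primitive. -/
theorem result {F : Type*} [Field F] [Fintype F] (hF : Fintype.card F = 4) :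
    ∃ H : Subgroup (Cfsg.Lie.chevG2.group F), IsCoatom H ∧ Cfsg.Spor.IsoJ2 H ∧
      ∀ x : Cfsg.Lie.chevG2.group F, x ∉ H → IsCoatom ((H ⊓ H.map (MulAut.conj x).toMonoidHom).subgroupOf H) := by
  have h2 : (2 : F) = 0 := by
    have h : ((Fintype.card F : ℕ) : F) = 0 := Nat.cast_card_eq_zero F
    rw [hF] at h
    have : (2 : F) * 2 = 0 := by rw [← h]; norm_num
    exact mul_self_eq_zero.1 this
  haveI : CharP F 2 := CharTwo.of_one_ne_zero_of_two_eq_zero one_ne_zero h2
  obtain ⟨K, -⟩ := CfsgLib.G2FourJ2.exists_omega hF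
  obtain ⟨φ, hinj, -, hroot⟩ := CfsgLib.Spectrum.G2.exists_embedding F
  let D : CfsgLib.G2FourJ2.Setup K := ⟨φ, hinj, CfsgLib.G2FourJ2.range_eq K hroot⟩
  exact ⟨D.H, CfsgLib.G2FourJ2.isCoatom_H D hF, CfsgLib.G2FourJ2.nonempty_j2 D hF,
    fun x hx => CfsgLib.G2FourJ2.isCoatom_inf D hF hx⟩

end Cfsg.Agent.S5746
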