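import Cfsg.Statements.S5748
import Cfsg.Agent.Lib.Classical22.CTZassenhaus
import Cfsg.Agent.Lib.Classical22.CTPSL
import Cfsg.Agent.S1230
-- import your own Cfsg.Agent.* helpers here

set_option autoImplicit false
open Cfsg

namespace Cfsg.Agent.S5748

open CfsgLib.Classical22.CT

/-- A finite non-abelian simple group in which commuting is a transitive relation on the non-identity elements (equivalently, every non-identity element has abelian centraliser) is isomorphic to PSL₂ over a field with 2^f elements for some f ≥ 2; conversely these groups have that property. -/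
theorem result {G : Type*} [Group G] [Finite G] [IsSimpleGroup G] (hG : ¬ IsMulCommutative G) :
    (∀ a b c : G, a ≠ 1 → b ≠ 1 → c ≠ 1 → Commute a b → Commute b c → Commute a c) ↔
    ∃ (F : Type) (_ : Field F) (_ : Fintype F) (f : ℕ), 2 ≤ f ∧ Fintype.card F = 2 ^ f ∧ Nonempty (G ≃* Matrix.ProjectiveSpecialLinearGroup (Fin 2) F) := by
  constructor
  · intro hCT
    obtain ⟨t, D⟩ := exists_data hCT hG
    obtain ⟨T, hT⟩ := D.sylow
    have : Fact (Nat.Prime 2) := ⟨Nat.prime_two⟩
    have hnn : ¬ (T : Subgroup G).Normal := by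
      intro hn
      rcases hn.eq_bot_or_eq_top with h | h
      · exact D.T_not_cyclic T (by rw [h]; infer_instance)
      · exact hG ⟨⟨fun a b => D.comm (hT (h ▸ Subgroup.mem_top a)) (hT (h ▸ Subgroup.mem_top b))⟩⟩
    have hC : ∀ s : G, orderOf s = 2 → IsMulCommutative (Subgroup.centralizer ({s} : Set G)) ∧
        ∀ c ∈ Subgroup.centralizer ({s} : Set G), c ^ 2 = 1 := by
      intro s hs
      have hs1 : s ≠ 1 := fun e => by rw [e, orderOf_one] at hs; omega
      refine ⟨⟨⟨fun a b => Subtype.ext (cent_comm hCT hs1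
        (Subgroup.mem_centralizer_singleton_iff.mp a.2)
        (Subgroup.mem_centralizer_singleton_iff.mp b.2))⟩⟩, fun c hc => ?_⟩
      obtain ⟨g, rfl⟩ := isConj_iff.mp (D.all_conj hs)
      rw [Subgroup.mem_centralizer_singleton_iff] at hc
      have h := D.elementary (u := g⁻¹ * c * g) (Subgroup.mem_centralizer_singleton_iff.mpr (by
        calc g⁻¹ * c * g * t = g⁻¹ * (c * (g * t * g⁻¹)) * g := by group
          _ = g⁻¹ * (g * t * g⁻¹ * c) * g := by rw [hc]
          _ = t * (g⁻¹ * c * g) := by group))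
      rw [pow_two]
      calc c * c = g * (g⁻¹ * c * g * (g⁻¹ * c * g)) * g⁻¹ := by group
        _ = 1 := by rw [h]; group
    obtain ⟨F, i1, i2, hF, e⟩ := Cfsg.Agent.S1230.result T (D.T_not_cyclic T) hnn hC
    obtain ⟨f, hf⟩ := IsPGroup.iff_card.mp T.isPGroup'
    refine ⟨F, i1, i2, f, ?_, hF.trans hf, e⟩
    by_contra hlt
    apply D.T_not_cyclic T
    obtain rfl | rfl : f = 0 ∨ f = 1 := by omega
    · have : (T : Subgroup G) = ⊥ := Subgroup.eq_bot_of_card_eq _ (by rw [hf, pow_zero])
      rw [this]
      infer_instance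
    · exact isCyclic_of_prime_card (p := 2) (by rw [hf, pow_one])
  · rintro ⟨F, i1, i2, f, hf, hF, ⟨e⟩⟩ a b c ha hb hc hab hbc
    have h2 : (2 : F) = 0 := by
      have h := Nat.cast_card_eq_zero F
      rw [hF, Nat.cast_pow, Nat.cast_two] at h
      exact pow_eq_zero_iff (by omega) |>.mp h
    have h := psl_two_ct h2 (a := e a) (b := e b) (c := e c)
      (fun h => hb (e.map_eq_one_iff.mp h)) (hab.map e) (hbc.map e)
    simpa using h.map e.symm

end Cfsg.Agent.S5748
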