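import Cfsg.Statements.S5754
-- import your own Cfsg.Agent.* helpers here

set_option autoImplicit false
open Cfsg

namespace Cfsg.Agent.S5754

/-- The reflection in an anisotropic vector. -/
private noncomputable def refl {F V : Type*} [Field F] [AddCommGroup V] [Module F V] (Q : QuadraticForm F V)
    (w : V) (hw : Q w ≠ 0) : Q.IsometryEquiv Q :=
  let f : V →ₗ[F] V :=
    { toFun := fun x => x - ((Q w)⁻¹ * QuadraticMap.polar Q x w) • w
      map_add' := fun x y => by simp only [QuadraticMap.polar_add_left]; module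
      map_smul' := fun c x => by simp only [QuadraticMap.polar_smul_left, smul_eq_mul, RingHom.id_apply]; module }
  have hpol : QuadraticMap.polar Q w w = 2 * Q w := by
    simp only [QuadraticMap.polar_self, nsmul_eq_mul, Nat.cast_ofNat]
  have hinv : ∀ x, f (f x) = x := fun x => by
    simp only [f, LinearMap.coe_mk, AddHom.coe_mk, QuadraticMap.polar_sub_left, QuadraticMap.polar_smul_left, smul_eq_mul, hpol]
    have e : (Q w)⁻¹ * (QuadraticMap.polar Q x w - (Q w)⁻¹ * QuadraticMap.polar Q x w * (2 * Q w)) =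
        -((Q w)⁻¹ * QuadraticMap.polar Q x w) := by field_simp; ring
    rw [e]; module
  { toLinearEquiv := LinearEquiv.ofLinear f f (LinearMap.ext hinv) (LinearMap.ext hinv)
    map_app' := fun x => by
      change Q (x - ((Q w)⁻¹ * QuadraticMap.polar Q x w) • w) = Q x
      rw [sub_eq_add_neg, QuadraticMap.map_add Q, ← neg_smul, QuadraticMap.map_smul, QuadraticMap.polar_smul_right]
      simp only [smul_eq_mul]; field_simp; ring }

private theorem refl_apply {F V : Type*} [Field F] [AddCommGroup V] [Module F V] (Q : QuadraticForm F V)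
    (w : V) (hw : Q w ≠ 0) (x : V) : refl Q w hw x = x - ((Q w)⁻¹ * QuadraticMap.polar Q x w) • w := rfl

/-- Vectors with equal norms and polar products are carried to each other by an isometry. -/
private theorem witt {F V : Type*} [Field F] [AddCommGroup V] [Module F V] (Q : QuadraticForm F V)
    (hQ : Q.Anisotropic) {n : ℕ} (a b : Fin n → V) (h1 : ∀ i, Q (a i) = Q (b i))
    (h2 : ∀ i j, QuadraticMap.polar Q (a i) (a j) = QuadraticMap.polar Q (b i) (b j)) :
    ∀ k, k ≤ n → ∃ φ : Q.IsometryEquiv Q, ∀ i : Fin n, i.val < k → φ (a i) = b i := by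
  intro k
  induction k with
  | zero => exact fun _ => ⟨QuadraticMap.IsometryEquiv.refl Q, fun i hi => absurd hi (Nat.not_lt_zero _)⟩
  | succ k ih =>
    intro hk
    obtain ⟨φ, hφ⟩ := ih (Nat.le_of_succ_le hk)
    set j : Fin n := ⟨k, hk⟩
    by_cases hw : φ (a j) - b j = 0
    · refine ⟨φ, fun i hi => ?_⟩
      rcases Nat.lt_succ_iff_lt_or_eq.mp hi with h | h
      · exact hφ i h
      · rw [show i = j from Fin.ext h]; exact sub_eq_zero.mp hw
    have hw' : Q (φ (a j) - b j) ≠ 0 := fun h => hw (hQ _ h)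
    refine ⟨φ.trans (refl Q _ hw'), fun i hi => ?_⟩
    change refl Q _ hw' (φ (a i)) = b i
    rw [refl_apply]
    have hpφ : ∀ x y, QuadraticMap.polar Q (φ x) (φ y) = QuadraticMap.polar Q x y := fun x y => by
      simp only [QuadraticMap.polar, ← map_add, QuadraticMap.IsometryEquiv.map_app]
    have hsub : Q (φ (a j) - b j) = Q (φ (a j)) + Q (b j) - QuadraticMap.polar Q (φ (a j)) (b j) := by
      rw [sub_eq_add_neg, QuadraticMap.map_add Q, QuadraticMap.map_neg, QuadraticMap.polar_neg_right]; ring
    rcases Nat.lt_succ_iff_lt_or_eq.mp hi with h | h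
    · rw [QuadraticMap.polar_sub_right, hpφ, h2, hφ i h, sub_self, mul_zero, zero_smul, sub_zero]
    · rw [show i = j from Fin.ext h, QuadraticMap.polar_sub_right, QuadraticMap.polar_self, nsmul_eq_mul, Nat.cast_ofNat]
      have e : (Q (φ (a j) - b j))⁻¹ * (2 * Q (φ (a j)) - QuadraticMap.polar Q (φ (a j)) (b j)) = 1 := by
        rw [show 2 * Q (φ (a j)) - QuadraticMap.polar Q (φ (a j)) (b j) = Q (φ (a j) - b j) by
          rw [hsub, QuadraticMap.IsometryEquiv.map_app, h1]; ring]
        exact inv_mul_cancel₀ hw'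
      rw [e, one_smul, sub_sub_cancel]

/-- Let V be a finite-dimensional vector space over a finite field F carrying an anisotropic quadratic form Q (Q(v) = 0 only for v = 0). Then the group of all maps v ↦ φ(v) + c, with φ an isometry of Q and c ∈ V, acts on V as a binary permutation group: given n ≥ 2 and two n-tuples u, u' of vectors such that every pair of corresponding entries of u is carried to that of u' by such a map, one such map carries u to u'. -/
theorem result {F V : Type*} [Field F] [Finite F] [AddCommGroup V] [Module F V] [Module.Finite F V]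
    (Q : QuadraticForm F V) (hQ : Q.Anisotropic) (n : ℕ) (hn : 2 ≤ n) (u u' : Fin n → V)
    (h2 : ∀ i j : Fin n, i ≠ j → ∃ (φ : Q.IsometryEquiv Q) (c : V), φ (u i) + c = u' i ∧ φ (u j) + c = u' j) :
    ∃ (φ : Q.IsometryEquiv Q) (c : V), ∀ i, φ (u i) + c = u' i := by
  obtain ⟨i0, hi0⟩ : ∃ i0 : Fin n, i0.val = 0 := ⟨⟨0, by omega⟩, rfl⟩
  have hQd : ∀ i j, Q (u i - u j) = Q (u' i - u' j) := fun i j => by
    rcases eq_or_ne i j with rfl | hij
    · simp
    · obtain ⟨φ, c, hi, hj⟩ := h2 i j hij
      rw [← hi, ← hj, add_sub_add_right_eq_sub, ← map_sub, QuadraticMap.IsometryEquiv.map_app]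
  have h1 : ∀ i, Q (u i - u i0) = Q (u' i - u' i0) := fun i => hQd i i0
  have hp : ∀ i j, QuadraticMap.polar Q (u i - u i0) (u j - u i0) = QuadraticMap.polar Q (u' i - u' i0) (u' j - u' i0) := by
    have e : ∀ x y : V, QuadraticMap.polar Q x y = Q x + Q y - Q (x - y) := fun x y => by
      rw [sub_eq_add_neg x, QuadraticMap.map_add Q, QuadraticMap.map_neg, QuadraticMap.polar_neg_right]; ring
    intro i j
    rw [e, e, sub_sub_sub_cancel_right, sub_sub_sub_cancel_right, h1, h1, hQd]
  obtain ⟨φ, hφ⟩ := witt Q hQ _ _ h1 hp n le_rfl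
  refine ⟨φ, u' i0 - φ (u i0), fun i => ?_⟩
  have := hφ i i.isLt
  rw [map_sub] at this
  rw [← add_sub_assoc, add_comm, add_sub_assoc, this]; abel

end Cfsg.Agent.S5754
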