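import Cfsg.Statements.S5763
import Cfsg.Agent.Lib.Classical22.Pairing8
-- import your own Cfsg.Agent.* helpers here

set_option autoImplicit false
open Cfsg

namespace Cfsg.Agent.S5763

/-- In the symmetric group on 8 letters any two Sylow 2-subgroups have non-trivial intersection: for a Sylow 2-subgroup H and every element x, H ∩ xHx⁻¹ ≠ 1. -/
theorem result (H : Sylow 2 (Equiv.Perm (Fin 8))) (x : Equiv.Perm (Fin 8)) :
    (H : Subgroup (Equiv.Perm (Fin 8))) ⊓ (H : Subgroup (Equiv.Perm (Fin 8))).map (MulAut.conj x).toMonoidHom ≠ ⊥ := by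
  open CfsgLib.Classical22.Pairing8 in
  obtain ⟨m, hm, hmx, hH⟩ := exists_pairing (Fintype.card_fin 8) H
  have hconj : (x * m * x⁻¹) * (x * m * x⁻¹) = 1 := by
    rw [show x * m * x⁻¹ * (x * m * x⁻¹) = x * (m * m) * x⁻¹ by group, hm]; group
  have hconjx : ∀ y, (x * m * x⁻¹) y ≠ y := fun y h => hmx (x⁻¹ y) (by
    rw [Equiv.Perm.mul_apply, Equiv.Perm.mul_apply] at h
    exact x.eq_symm_apply.mpr h)
  obtain ⟨g, hg1, ⟨hgm, hgn⟩, hc1, hc2⟩ := CfsgLib.Classical22.Pairing8.exists_common (Fintype.card_fin 8) hm hmx hconj hconjx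
  intro hbot
  apply hg1
  rw [← Subgroup.mem_bot, ← hbot]
  refine ⟨hH g hgm hc1, x⁻¹ * g * x, hH _ ?_ ?_, by simp [mul_assoc]⟩
  · calc x⁻¹ * g * x * m = x⁻¹ * (g * (x * m * x⁻¹)) * x := by group
      _ = x⁻¹ * ((x * m * x⁻¹) * g) * x := by rw [hgn]
      _ = m * (x⁻¹ * g * x) := by group
  · have happ : ∀ y, (x * m * x⁻¹) (x y) = x (m y) := fun y => by simp
    rcases hc2 with h | ⟨h2, h⟩
    · refine Or.inl fun y => ?_
      rcases h (x y) with e | e
      · left; simp [e]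
      · right; simp only [Equiv.Perm.mul_apply]; rw [e, happ]; simp
    · refine Or.inr ⟨?_, fun y => ⟨fun e => (h (x y)).1 ?_, fun e => (h (x y)).2 ?_⟩⟩
      · rw [show x⁻¹ * g * x * (x⁻¹ * g * x) = x⁻¹ * (g * g) * x by group, h2]; group
      · simp only [Equiv.Perm.mul_apply] at e; exact Equiv.Perm.inv_eq_iff_eq.mp e
      · simp only [Equiv.Perm.mul_apply] at e; rw [happ]; exact Equiv.Perm.inv_eq_iff_eq.mp e

end Cfsg.Agent.S5763
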