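import Cfsg.Statements.S5778
import Cfsg.Agent.Lib.Techniques.AschPrimeU.Rows
import Cfsg.Agent.Lib.Techniques.AschPrimeU.ThreeSymp

set_option autoImplicit false
open Cfsg

namespace Cfsg.Agent.S5778

open CfsgLib.Techniques.AschPrimeU

/-- Every maximal subgroup of SU_3(q), q ≥ 3, is of one of the listed geometric types or lies in the residual class. Let F be the field with q² elements, f the standard unitary form Σ u_i v_i^q on F^3, and H a maximal subgroup of SU_3(q) (the determinant-one isometries of f, inside GL_3(F)). Then H is the intersection with SU_3(q) of one of: the stabiliser of a non-zero subspace on which f vanishes; the stabiliser of a non-degenerate 1-space; for q ≠ 5, the stabiliser of a decomposition into three mutually orthogonal non-degenerate 1-spaces; for q ≠ 3, 5, the normaliser of an adjoint-closed degree-3 subfield of the matrix algebra; a subfield group of odd prime index whose F₀-structure carries f; for q odd,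 q ≥ 7, a subfield group of index 2 whose F₀-structure carries f; for q = p ≡ 2 mod 3 prime with p ≥ 11, the normaliser of an absolutely irreducible subgroup of order 27 with centre of order 3, exponent 3 and all characteristic abelian subgroups cyclic, contained in the similarity group of f — or else H lies in the residual class of the unitary case. -/
theorem result {F : Type*} [Field F] [Fintype F] (q : ℕ) (hF : Fintype.card F = q ^ 2) (hq : 3 ≤ q) (H : Subgroup (Matrix.GeneralLinearGroup (Fin 3) F)) (hH : Cfsg.Geo.IsMaximalIn (Cfsg.GU 3 F q ⊓ Cfsg.Geo.specialLinear (Fin 3) F) H) :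
    (∃ W : Submodule F (Fin 3 → F), W ≠ ⊥ ∧ Cfsg.Geo.IsTotallySingularFor (Cfsg.hermForm 3 F q) W ∧ H = Cfsg.Geo.subspaceStabilizer W ⊓ (Cfsg.GU 3 F q ⊓ Cfsg.Geo.specialLinear (Fin 3) F)) ∨
    (∃ W : Submodule F (Fin 3 → F), W ≠ ⊥ ∧ Cfsg.Geo.IsNondegenerateOn (Cfsg.hermForm 3 F q) W ∧ 2 * Module.finrank F W < 3 ∧ H = Cfsg.Geo.subspaceStabilizer W ⊓ (Cfsg.GU 3 F q ⊓ Cfsg.Geo.specialLinear (Fin 3) F)) ∨
    (q ≠ 5 ∧ ∃ D : Fin 3 → Submodule F (Fin 3 → F), Cfsg.Geo.IsNondegenerateMDecomposition (Cfsg.hermForm 3 F q) 1 D ∧ H = Cfsg.Geo.decompositionStabilizer D ⊓ (Cfsg.GU 3 F q ⊓ Cfsg.Geo.specialLinear (Fin 3) F)) ∨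
    (q ≠ 3 ∧ q ≠ 5 ∧ ∃ K : Subalgebra F (Matrix (Fin 3) (Fin 3) F), Cfsg.Geo.IsFieldSubalgebra 3 K ∧ Cfsg.Geo.IsAdjointClosedFor (Cfsg.hermForm 3 F q) K ∧ H = Cfsg.Geo.subalgebraNormalizer K ⊓ (Cfsg.GU 3 F q ⊓ Cfsg.Geo.specialLinear (Fin 3) F)) ∨
    (∃ (F₀ : Subfield F) (r : ℕ) (P : Matrix.GeneralLinearGroup (Fin 3) F), r.Prime ∧ Odd r ∧ Fintype.card F = Nat.card F₀ ^ r ∧ Cfsg.Geo.IsFormRationalStructure (Cfsg.hermForm 3 F q) F₀ 1 P ∧ H = Cfsg.Geo.subfieldSubgroup F₀ P ⊓ (Cfsg.GU 3 F q ⊓ Cfsg.Geo.specialLinear (Fin 3) F)) ∨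
    (Odd q ∧ 7 ≤ q ∧ ∃ (F₀ : Subfield F) (P : Matrix.GeneralLinearGroup (Fin 3) F), Fintype.card F = Nat.card F₀ ^ 2 ∧ Cfsg.Geo.IsFormRationalStructure (Cfsg.hermForm 3 F q) F₀ 1 P ∧ H = Cfsg.Geo.subfieldSubgroup F₀ P ⊓ (Cfsg.GU 3 F q ⊓ Cfsg.Geo.specialLinear (Fin 3) F)) ∨
    (∃ (p : ℕ) (R : Subgroup (Matrix.GeneralLinearGroup (Fin 3) F)), p.Prime ∧ q = p ∧ p % 3 = 2 ∧ 11 ≤ p ∧ Cfsg.Geo.IsSymplecticTypeGroup 3 R ∧ Cfsg.Geo.ActsAbsolutelyIrreducibly (Cfsg.Geo.matrixSet R) ∧ R ≤ Cfsg.Geo.similarityGroup (Cfsg.hermForm 3 F q) ∧ Nat.card R = 27 ∧ Nat.card (Subgroup.center R) = 3 ∧ H = Cfsg.Geo.subgroupNormalizer R ⊓ (Cfsg.GU 3 F q ⊓ Cfsg.Geo.specialLinear (Fin 3) F)) ∨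
    Cfsg.Geo.InUnitaryResidualClass H := by
  classical
  rcases su_max (n := 3) (by norm_num) (by decide) (Or.inl hq) hF hH with h | h | h | h | h |
    ⟨hodd, F₀, P, hc, hform, heq, -⟩ | ⟨p, d, R, hp, hchar, hqd, hd0, hdvd, hnep, hdiv, -, hST, hR, hRle, hcard, hcen, hexp, hle⟩ | h
  · exact Or.inl (h)
  · exact Or.inr (Or.inl (h))
  · refine Or.inr (Or.inr (Or.inl (⟨fun h5 => ?_, h⟩)))
    obtain ⟨D, hD, heq⟩ := h
    subst h5
    exact not_maximal_decomp_three_five hF hD hH heq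
  · refine Or.inr (Or.inr (Or.inr (Or.inl (⟨fun h3 => ?_, fun h5 => ?_, h⟩))))
    · obtain ⟨K, hK, hadj, heq⟩ := h
      subst h3
      exact not_maximal_field_three_three hF hK hadj hH heq
    · obtain ⟨K, hK, hadj, heq⟩ := h
      subst h5
      exact not_maximal_field_three_five hF hK hadj hH heq
  · exact Or.inr (Or.inr (Or.inr (Or.inr (Or.inl (h)))))
  · refine Or.inr (Or.inr (Or.inr (Or.inr (Or.inr (Or.inl (⟨hodd, ?_, F₀, P, hc, hform, heq⟩))))))
    by_contra h7
    obtain ⟨k, hk⟩ := hodd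
    rcases (show q = 3 ∨ q = 5 by omega) with rfl | rfl
    · exact not_maximal_subfield_three_three hF hc hform hH heq
    · exact not_maximal_subfield_three_five hF hc hform hH heq
  · have hd1 : d = 1 := by
      have := Nat.le_of_dvd (by norm_num) hdvd
      omega
    subst hd1
    rw [pow_one] at hqd
    subst hqd
    have hmod : q % 3 = 2 := by
      have := Nat.mod_eq_zero_of_dvd hdiv
      rw [pow_one] at this
      omega
    have hne5 : q ≠ 5 := by
      intro h5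
      subst h5
      exact not_maximal_symp_three_five hF hR hRle (hcard.trans (by norm_num)) hcen hexp hH hle
    have h11 : 11 ≤ q := by
      by_contra h
      interval_cases q <;> first | omega | (norm_num at hp; done) | simp at hmod
    refine Or.inr (Or.inr (Or.inr (Or.inr (Or.inr (Or.inr (Or.inl (⟨q, R, hp, rfl, hmod, h11, hST, hR, fun x hx => ⟨1, fun u v => by rw [Units.val_one, one_mul]; exact hRle hx u v⟩, hcard.trans (by norm_num), hcen, ?_⟩)))))))
    haveI := hchar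
    rcases hH.2 (Cfsg.Geo.subgroupNormalizer R ⊓ (Cfsg.GU 3 F q ⊓ Cfsg.Geo.specialLinear (Fin 3) F))
      (le_inf hle hH.1.le) inf_le_right with h | h
    · exact h.symm
    · obtain ⟨v, φ, hv, hφ, hφv, hmem⟩ := exists_transv_mem_SU (show 2 ≤ 3 by norm_num) hF
      exact absurd (inf_eq_right.mp h hmem)
        (transv_not_mem_normalizer_three (by simp) hp (by omega) hR (hcard.trans (by norm_num)) hcen hexp hv hφ hφv)
  · exact Or.inr (Or.inr (Or.inr (Or.inr (Or.inr (Or.inr (Or.inr (h)))))))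

end Cfsg.Agent.S5778
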