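import Cfsg.Statements.S5781
import Cfsg.Agent.Lib.Techniques.AschSL.Main
import Cfsg.Agent.Lib.Techniques.AschSL.FourFive

set_option autoImplicit false
open Cfsg

namespace Cfsg.Agent.S5781

open CfsgLib.Techniques.AschSL

/-- Every maximal subgroup of SL_4(q) is of one of the listed geometric types or lies in the residual class. Let F be a finite field with q elements and H a maximal subgroup of SL_4(F) (inside GL_4(F)). Then H is the intersection with SL_4(F) of one of: the stabiliser of a proper non-zero subspace; for q ≥ 7, the stabiliser of a decomposition into four independent lines; for q ≥ 4, the stabiliser of a decomposition into two independent planes; the normaliser of a degree-2 subfield of the matrix algebra; a subfield group for a subfield F₀ with |F| = |F₀|^r, r prime; for q = p ≡ 1 mod 4 prime, the normaliser of an absolutely irreducible 2-subgroup R of exponent 4 with centre of order 4, all of whose characteristic abelian subgroups are cyclic, of order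 2^(2+2m) for some m (here |R| = 64), with 4 dividing p − 1; for q odd, the similarity group of a non-degenerate quadratic form; the similarity group of a non-degenerate symplectic form; the similarity group of a non-degenerate unitary form — or else H lies in the residual class of the linear case. -/
theorem result {F : Type*} [Field F] [Fintype F] (H : Subgroup (Matrix.GeneralLinearGroup (Fin 4) F)) (hH : Cfsg.Geo.IsMaximalIn (Cfsg.Geo.specialLinear (Fin 4) F) H) :
    (∃ W : Submodule F (Fin 4 → F), W ≠ ⊥ ∧ W ≠ ⊤ ∧ H = Cfsg.Geo.subspaceStabilizer W ⊓ Cfsg.Geo.specialLinear (Fin 4) F) ∨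
    (7 ≤ Fintype.card F ∧ ∃ D : Fin 4 → Submodule F (Fin 4 → F), Cfsg.Geo.IsMDecomposition 1 D ∧ H = Cfsg.Geo.decompositionStabilizer D ⊓ Cfsg.Geo.specialLinear (Fin 4) F) ∨
    (4 ≤ Fintype.card F ∧ ∃ D : Fin 2 → Submodule F (Fin 4 → F), Cfsg.Geo.IsMDecomposition 2 D ∧ H = Cfsg.Geo.decompositionStabilizer D ⊓ Cfsg.Geo.specialLinear (Fin 4) F) ∨
    (∃ K : Subalgebra F (Matrix (Fin 4) (Fin 4) F), Cfsg.Geo.IsFieldSubalgebra 2 K ∧ H = Cfsg.Geo.subalgebraNormalizer K ⊓ Cfsg.Geo.specialLinear (Fin 4) F) ∨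
    (∃ (F₀ : Subfield F) (r : ℕ) (P : Matrix.GeneralLinearGroup (Fin 4) F), r.Prime ∧ Fintype.card F = Nat.card F₀ ^ r ∧ H = Cfsg.Geo.subfieldSubgroup F₀ P ⊓ Cfsg.Geo.specialLinear (Fin 4) F) ∨
    (∃ (p : ℕ) (R : Subgroup (Matrix.GeneralLinearGroup (Fin 4) F)), p.Prime ∧ Fintype.card F = p ∧ p % 4 = 1 ∧ Cfsg.Geo.IsLinearSymplecticTypeData 2 R ∧ H = Cfsg.Geo.subgroupNormalizer R ⊓ Cfsg.Geo.specialLinear (Fin 4) F) ∨
    (Odd (Fintype.card F) ∧ ∃ Q : (Fin 4 → F) → F, Cfsg.Geo.IsNondegenerateQuadraticForm Q ∧ H = Cfsg.Geo.quadSimilarityGroup Q ⊓ Cfsg.Geo.specialLinear (Fin 4) F) ∨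
    (∃ f : (Fin 4 → F) → (Fin 4 → F) → F, Cfsg.Geo.IsSymplecticForm f ∧ H = Cfsg.Geo.similarityGroup f ⊓ Cfsg.Geo.specialLinear (Fin 4) F) ∨
    (∃ (σ : F ≃+* F) (f : (Fin 4 → F) → (Fin 4 → F) → F), Cfsg.Geo.IsUnitaryForm σ f ∧ H = Cfsg.Geo.similarityGroup f ⊓ Cfsg.Geo.specialLinear (Fin 4) F) ∨
    Cfsg.Geo.InLinearResidualClass H := by
  classical
  rcases sl_max_gen (by norm_num) hH with h | ⟨t, m, D, hD, htm, heq⟩ | ⟨r, K, hr, hrn, hK, heq⟩ |
    ⟨n₁, n₂, e, P, h1, h2, h12, heq⟩ | h | ⟨r, m, R, hR, hrm, heq⟩ | ⟨m, t, e, P, hm, ht, hmt, heq⟩ | h | h | h | h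
  · exact Or.inl (h)
  · have ht2 := hD.two_le
    have hm1 := hD.pos
    have hmle : m ≤ 2 := by nlinarith
    interval_cases m
    · obtain rfl : t = 4 := by omega
      rcases lines_cases (by norm_num) hH hD heq with h | h | h | h
      · have h5 : Fintype.card F ≠ 5 := fun h5 => not_maximal_lines h5 hD hH heq
        have h6 : Fintype.card F ≠ 6 := by
          intro h6
          have := FiniteField.isPrimePow_card F
          rw [h6] at this
          obtain ⟨p, hp, hu⟩ := isPrimePow_iff_unique_prime_dvd.mp this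
          have := (hu 2 ⟨Nat.prime_two, by norm_num⟩).trans (hu 3 ⟨Nat.prime_three, by norm_num⟩).symm
          omega
        exact Or.inr (Or.inl (⟨by omega, D, hD, heq⟩))
      · exact Or.inl (h)
      · exact Or.inr (Or.inr (Or.inr (Or.inr (Or.inr (Or.inr (Or.inl (h)))))))
      · exact Or.inr (Or.inr (Or.inr (Or.inr (Or.inr (Or.inr (Or.inr (Or.inr (Or.inl (h)))))))))
    · obtain rfl : t = 2 := by omega
      by_cases h4 : 4 ≤ Fintype.card F
      · exact Or.inr (Or.inr (Or.inl (⟨h4, D, hD, heq⟩)))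
      · have h1 := Fintype.one_lt_card (α := F)
        exact Or.inr (Or.inr (Or.inr (Or.inr (Or.inr (Or.inr (Or.inr (Or.inl (planes_cases (by norm_num) hH hD heq (by omega)))))))))
  · have hrle : r ≤ 4 := Nat.le_of_dvd (by norm_num) hrn
    interval_cases r <;> first | omega | (norm_num at hr; done) | skip
    · exact Or.inr (Or.inr (Or.inr (Or.inl (⟨K, hK, heq⟩))))
  · exfalso
    have : n₁ ≤ 2 := by nlinarith
    interval_cases n₁
    omega
  · exact Or.inr (Or.inr (Or.inr (Or.inr (Or.inl (h)))))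
  · have hr := hR.symplecticType.prime
    have hr2 := hr.two_le
    have hm1 : 1 ≤ m := Nat.one_le_iff_ne_zero.mpr (by rintro rfl; simp at hrm)
    have hdvd : r ∣ 4 := hrm ▸ dvd_pow_self r (by omega)
    have hrle : r ≤ 4 := Nat.le_of_dvd (by norm_num) hdvd
    obtain rfl : r = 2 := by interval_cases r <;> first | omega | (norm_num at hr; done)
    obtain ⟨p, hp, -, ha, hb⟩ := symplecticType_field (by norm_num) hR
    obtain ⟨hq, hmod⟩ := ha rfl
    exact Or.inr (Or.inr (Or.inr (Or.inr (Or.inr (Or.inl (⟨p, R, hp, hq, hmod, hR, heq⟩))))))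
  · exfalso
    have hmle : m ≤ 4 := hmt ▸ Nat.le_self_pow (by omega) m
    have htle : t ≤ 4 := hmt ▸ (Nat.lt_pow_self (by omega : 1 < m)).le
    interval_cases m <;> interval_cases t <;> simp_all
  · exact Or.inr (Or.inr (Or.inr (Or.inr (Or.inr (Or.inr (Or.inl (h)))))))
  · exact Or.inr (Or.inr (Or.inr (Or.inr (Or.inr (Or.inr (Or.inr (Or.inl (h.2))))))))
  · exact Or.inr (Or.inr (Or.inr (Or.inr (Or.inr (Or.inr (Or.inr (Or.inr (Or.inl (h)))))))))
  · exact Or.inr (Or.inr (Or.inr (Or.inr (Or.inr (Or.inr (Or.inr (Or.inr (Or.inr (h)))))))))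

end Cfsg.Agent.S5781
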