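import Cfsg.Statements.S5789
import Cfsg.Agent.S5645
import Cfsg.Agent.S5647
import Cfsg.Agent.Lib.Classical22.UnitOverFinal
import Cfsg.Agent.Lib.Classical22.FieldMaxStart
import Cfsg.Agent.Lib.SpFour.Field
import Cfsg.Agent.Lib.SpFour.Subfield
import Cfsg.Agent.Lib.SpFour.Quad
-- import your own Cfsg.Agent.* helpers here

set_option autoImplicit false
set_option linter.all false
open Cfsg

namespace Cfsg.Agent.S5789

open CfsgLib.Transvec CfsgLib.Transvec.SpSubfield Matrix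
open scoped MatrixGroups

variable {F : Type*} [Field F] [Fintype F]

theorem singular_maximal (W : Submodule F (Fin 2 ⊕ Fin 2 → F)) (hW0 : W ≠ ⊥)
    (hW : Cfsg.Geo.IsTotallySingularFor (Cfsg.sympForm 2 F) W) :
    Cfsg.Geo.IsMaximalIn (Cfsg.spGL 2 F) (Cfsg.Geo.subspaceStabilizer W ⊓ Cfsg.spGL 2 F) := by
  have hf := isSymplecticForm_sympForm (F := F) 2
  refine ⟨lt_of_le_not_ge inf_le_right fun hle => ?_, fun M hHM hMK => ?_⟩
  · obtain ⟨w, hw, hw0⟩ := Submodule.exists_mem_ne_zero_of_ne_bot hW0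
    obtain ⟨y, hy⟩ := (hf.nondegenerate w hw0).2
    have h := mulVec_mem_of_mem_subspaceStabilizer (hle (sT_mem_spGL 2 y 1)).1 hw
    rw [sT_mulVec hf, one_mul, W.add_mem_iff_right hw] at h
    have h2 : y ∈ W := by
      have := W.smul_mem (Cfsg.sympForm 2 F w y)⁻¹ h
      rwa [inv_smul_smul₀ hy] at this
    exact hy (hW w hw y h2)
  by_cases hM : M ≤ Cfsg.Geo.subspaceStabilizer W
  · exact Or.inl (le_antisymm (le_inf hM hMK) hHM)
  right
  obtain ⟨g, hgM, hg⟩ := SetLike.not_le_iff_exists.mp hM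
  exact le_antisymm hMK (spGL_le_of_full (Cfsg.Agent.S5645.all_full hf hW (fun h hi hs => hHM ⟨hs, hi⟩) hgM (hMK hgM) hg))

theorem decomposition_maximal {c₀ : F} (hc0 : c₀ ≠ 0) (hc1 : c₀ ≠ 1) (D : Fin 2 → Submodule F (Fin 2 ⊕ Fin 2 → F))
    (hD : Cfsg.Geo.IsNondegenerateMDecomposition (Cfsg.sympForm 2 F) 2 D) :
    Cfsg.Geo.IsMaximalIn (Cfsg.spGL 2 F) (Cfsg.Geo.decompositionStabilizer D ⊓ Cfsg.spGL 2 F) := by
  classical
  have hf := isSymplecticForm_sympForm (F := F) 2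
  have hint : DirectSum.IsInternal D :=
    DirectSum.isInternal_submodule_of_iSupIndep_of_iSup_eq_top hD.decomp.indep hD.decomp.iSup_eq_top
  have hnd : ∀ i, ∀ w ∈ D i, w ≠ 0 → ∃ x ∈ D i, Cfsg.sympForm 2 F x w ≠ 0 :=
    fun i w hw hw0 => (hD.nondegenerate i w hw hw0).1
  have horth : ∀ i j, i ≠ j → ∀ u ∈ D i, ∀ v ∈ D j, Cfsg.sympForm 2 F u v = 0 := hD.orthogonal
  have hdim : ∀ i j, Module.finrank F (D i) = Module.finrank F (D j) :=
    fun i j => by rw [hD.decomp.finrank_eq, hD.decomp.finrank_eq]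
  have hspare : ∀ i, ∀ u ∈ D i, u ≠ 0 → ∃ a ∈ D i, Cfsg.sympForm 2 F u a = 0 ∧ a ≠ 0 ∧ a ≠ u :=
    fun i u hu hu0 => ⟨c₀ • u, (D i).smul_mem _ hu, by rw [smul_right' hf, hf.alternating, mul_zero],
      smul_ne_zero hc0 hu0, fun h => hc1 (smul_left_injective F hu0 (by simpa using h))⟩
  refine ⟨lt_of_le_not_ge inf_le_right fun hle => ?_, fun M hHM hMK => ?_⟩
  · let i : Fin 2 := ⟨0, two_pos⟩
    let j : Fin 2 := ⟨1, one_lt_two⟩
    have hij : i ≠ j := fun h => by simpa [i, j] using congrArg Fin.val h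
    have hex' : ∀ l : Fin 2, ∃ v ∈ D l, v ≠ 0 := fun l => Submodule.exists_mem_ne_zero_of_ne_bot fun h => by
      have h1 := hD.decomp.finrank_eq l
      rw [h, finrank_bot] at h1
      exact absurd hD.decomp.pos (by omega)
    obtain ⟨v, hv, hv0⟩ := hex' i
    obtain ⟨w, hw, hw0⟩ := hex' j
    obtain ⟨x, hx, hvx⟩ := exists_pair hf (hnd i) hv hv0
    obtain ⟨σ, hσ⟩ := (hle (sT_mem_spGL 2 (v + w) 1)).1
    have h1 : (sT (Cfsg.sympForm 2 F) (v + w) 1 : Matrix (Fin 2 ⊕ Fin 2) (Fin 2 ⊕ Fin 2) F) *ᵥ x ∈ D (σ i) := by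
      rw [← hσ i]; exact Submodule.mem_map.mpr ⟨x, hx, by rw [Matrix.toLin'_apply]⟩
    rw [sT_mulVec hf, add_right' hf, horth i j hij x hx w hw, add_zero, hf.skew x v, hvx] at h1
    have hj := dcomp_of_mem hint h1 j
    have hi := dcomp_of_mem hint h1 i
    rw [map_add, map_smul, map_add, dcomp_of_mem hint hx, dcomp_of_mem hint hv, dcomp_of_mem hint hw,
      if_neg hij.symm, if_neg hij.symm, if_pos rfl] at hj
    rw [map_add, map_smul, map_add, dcomp_of_mem hint hx, dcomp_of_mem hint hv, dcomp_of_mem hint hw,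
      if_pos rfl, if_pos rfl, if_neg hij] at hi
    simp only [one_mul, neg_smul, one_smul, zero_add, add_zero] at hi hj
    by_cases hσi : i = σ i
    · rw [if_neg (by rw [← hσi]; exact hij.symm)] at hj
      exact hw0 (neg_eq_zero.mp hj)
    · rw [if_neg hσi, ← sub_eq_add_neg, sub_eq_zero] at hi
      rw [hi, hf.alternating] at hvx
      exact zero_ne_one hvx
  by_cases hM : M ≤ Cfsg.Geo.decompositionStabilizer D
  · exact Or.inl (le_antisymm (le_inf hM hMK) hHM)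
  right
  obtain ⟨g, hgM, hg⟩ := SetLike.not_le_iff_exists.mp hM
  exact le_antisymm hMK (spGL_le_of_full
    (Cfsg.Agent.S5647.all_full hf hint horth hnd hdim hspare (fun h hi hs => hHM ⟨hs, hi⟩) hgM (hMK hgM) hg))

theorem field_maximal [CharP F 2] {c₀ : F} (hc0 : c₀ ≠ 0) (hc1 : c₀ ≠ 1)
    (K : Subalgebra F (Matrix (Fin 2 ⊕ Fin 2) (Fin 2 ⊕ Fin 2) F)) (hK : Cfsg.Geo.IsFieldSubalgebra 2 K)
    (hsa : Cfsg.Geo.IsSelfAdjointFor (Cfsg.sympForm 2 F) K)
    (halt : ∀ k ∈ K, ∀ v : (Fin 2 ⊕ Fin 2 → F), (Cfsg.sympForm 2 F) (Matrix.mulVec k v) v = 0) :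
    Cfsg.Geo.IsMaximalIn (Cfsg.spGL 2 F) (Cfsg.Geo.subalgebraNormalizer K ⊓ Cfsg.spGL 2 F) := by
  classical
  have hf := isSymplecticForm_sympForm (F := F) 2
  haveI : Nontrivial K := Module.nontrivial_of_finrank_pos (R := F) (by rw [hK.finrank_eq]; norm_num)
  letI : CommRing K := { (inferInstance : Ring K) with mul_comm := fun a b => Subtype.ext (hK.comm _ a.2 _ b.2) }
  have hfield : IsField K :=
    { exists_pair_ne := exists_pair_ne K
      mul_comm := mul_comm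
      mul_inv_cancel := fun {a} ha => by
        obtain ⟨y, hy, h⟩ := hK.inv _ a.2 (fun h0 => ha (Subtype.ext h0))
        exact ⟨⟨y, hy⟩, Subtype.ext h⟩ }
  letI : Field K := hfield.toField
  letI modK : Module K (Fin 2 ⊕ Fin 2 → F) :=
    Module.compHom _ (((Matrix.toLinAlgEquiv' : Matrix (Fin 2 ⊕ Fin 2) (Fin 2 ⊕ Fin 2) F ≃ₐ[F] _).toAlgHom.comp
      K.val).toRingHom)
  letI : SMul K (Fin 2 ⊕ Fin 2 → F) := modK.toDistribMulAction.toSMul
  have hsmul : ∀ (a : K) (x : Fin 2 ⊕ Fin 2 → F), a • x = (a : Matrix (Fin 2 ⊕ Fin 2) (Fin 2 ⊕ Fin 2) F) *ᵥ x :=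
    fun a x => rfl
  haveI : IsScalarTower F K (Fin 2 ⊕ Fin 2 → F) := IsScalarTower.of_algebraMap_smul fun c x => by
    refine (hsmul _ x).trans ?_
    change (algebraMap F (Matrix (Fin 2 ⊕ Fin 2) (Fin 2 ⊕ Fin 2) F) c) *ᵥ x = c • x
    rw [Algebra.algebraMap_eq_smul_one, smul_mulVec, one_mulVec]
  have hK2 : Module.finrank F K = 2 := hK.finrank_eq
  haveI : FiniteDimensional F K := Module.finite_of_finrank_pos (by rw [hK2]; norm_num)
  have hadd : ∀ (k l : K) (x : Fin 2 ⊕ Fin 2 → F), (k + l) • x = k • x + l • x := fun k l x => add_smul k l x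
  have hmul : ∀ (k l : K) (x : Fin 2 ⊕ Fin 2 → F), k • l • x = (k * l) • x := fun k l x => (mul_smul k l x).symm
  have halg : ∀ (t : F) (x : Fin 2 ⊕ Fin 2 → F), algebraMap F K t • x = t • x := fun t x => algebraMap_smul K t x
  have hassoc : ∀ (b : F) (k : K) (x : Fin 2 ⊕ Fin 2 → F), (b • k) • x = b • k • x := fun b k x => smul_assoc b k x
  -- a quadratic generator
  obtain ⟨θ, hθ⟩ : ∃ θ : K, ∀ t : F, θ ≠ algebraMap F K t := by
    by_contra h
    simp only [not_exists, not_forall, not_not] at h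
    have := LinearMap.finrank_range_le (Algebra.linearMap F K)
    rw [LinearMap.range_eq_top.mpr (fun k => (h k).imp fun t e => e.symm), finrank_top, hK2, Module.finrank_self] at this
    omega
  have hspan : ∀ η : K, (∀ t : F, η ≠ algebraMap F K t) → ∀ k : K, ∃ a b : F, k = algebraMap F K a + b • η := by
    intro η hη k
    have hind : LinearIndependent F ![(1 : K), η] := (LinearIndependent.pair_iff' one_ne_zero).mpr fun a e =>
      hη a (by rw [Algebra.algebraMap_eq_smul_one, e])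
    have hk : k ∈ Submodule.span F (Set.range ![(1 : K), η]) := by
      rw [hind.span_eq_top_of_card_eq_finrank (by rw [Fintype.card_fin, hK2])]; trivial
    rw [Matrix.range_cons, Matrix.range_cons, Matrix.range_empty, Set.union_empty, Set.singleton_union] at hk
    obtain ⟨a, b, h⟩ := Submodule.mem_span_pair.mp hk
    exact ⟨a, b, by rw [Algebra.algebraMap_eq_smul_one, h]⟩
  haveI : CharP K 2 := charP_of_injective_algebraMap (algebraMap F K).injective 2
  obtain ⟨d, c, hdc⟩ := hspan θ hθ (θ * θ)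
  have hc : c ≠ 0 := by
    rintro rfl
    rw [zero_smul, add_zero] at hdc
    obtain ⟨r, hr⟩ := FiniteField.isSquare_of_char_two (ringChar.eq F 2) d
    rw [hr, map_mul] at hdc
    exact hθ r (CharTwo.sq_injective (by simpa [sq] using hdc))
  obtain ⟨η, hη⟩ : ∃ η : K, η = c⁻¹ • θ := ⟨_, rfl⟩
  obtain ⟨δ, hδ⟩ : ∃ δ : F, δ = d * (c⁻¹ * c⁻¹) := ⟨_, rfl⟩
  have hη' : ∀ t : F, η ≠ algebraMap F K t := fun t e => hθ (c * t) (by
    rw [map_mul, ← e, hη, Algebra.smul_def, ← mul_assoc, ← map_mul, mul_inv_cancel₀ hc, map_one, one_mul])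
  have hsq : η * η = η + algebraMap F K δ := by
    rw [hη, hδ, smul_mul_smul_comm, hdc, smul_add, smul_smul, mul_assoc, inv_mul_cancel₀ hc, mul_one,
      Algebra.algebraMap_eq_smul_one, Algebra.algebraMap_eq_smul_one, smul_smul, mul_comm (c⁻¹ * c⁻¹) d, add_comm]
  have hirr : ∀ t : F, t * t + t + δ ≠ 0 := fun t h => by
    have h1 : (η + algebraMap F K t) * (η + algebraMap F K (t + 1)) = 0 := by
      have h2 := congrArg (algebraMap F K) h
      rw [map_add, map_add, map_mul, map_zero] at h2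
      rw [map_add, map_one]
      linear_combination hsq + h2 + (η + η * algebraMap F K t) * CharTwo.two_eq_zero (R := K)
    rcases mul_eq_zero.mp h1 with e | e
    · exact hη' t (CharTwo.add_eq_zero.mp e)
    · exact hη' (t + 1) (CharTwo.add_eq_zero.mp e)
  obtain ⟨J, hJ⟩ : ∃ J : (Fin 2 ⊕ Fin 2 → F) →ₗ[F] (Fin 2 ⊕ Fin 2 → F), ∀ x, J x = η • x :=
    ⟨Matrix.toLin' (η : Matrix _ _ F), fun x => by rw [hsmul, Matrix.toLin'_apply]⟩
  have E : CfsgLib.SpFour.Quad2 (Cfsg.sympForm 2 F) J δ :=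
    ⟨hf, fun x => by rw [hJ, hJ, hmul, hsq, hadd, halg],
      fun x y => by rw [hJ, hJ, hsmul, hsmul]; exact hsa _ η.2 x y,
      fun x => by rw [hJ, hsmul]; exact halt _ η.2 x, hirr⟩
  have hact : ∀ (a b : F) (x : Fin 2 ⊕ Fin 2 → F), (algebraMap F K a + b • η) • x = a • x + b • J x := fun a b x => by
    rw [hadd, halg, hassoc, hJ]
  refine ⟨lt_of_le_not_ge inf_le_right fun hle => ?_, fun M hHM hMK => ?_⟩
  · obtain ⟨a, ha⟩ := exists_ne (0 : Fin 2 ⊕ Fin 2 → F)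
    obtain ⟨x, hx⟩ := (hf.nondegenerate a ha).1
    obtain ⟨k', hk', h'⟩ :=
      CfsgLib.Classical22.UnitOver.semi_of_mem_normalizer (hle (sT_mem_spGL 2 a 1)).1 η.2
    have h1 : ∀ y, (sT (Cfsg.sympForm 2 F) a 1 : Matrix (Fin 2 ⊕ Fin 2) (Fin 2 ⊕ Fin 2) F) *ᵥ J y =
        k' *ᵥ ((sT (Cfsg.sympForm 2 F) a 1 : Matrix (Fin 2 ⊕ Fin 2) (Fin 2 ⊕ Fin 2) F) *ᵥ y) := fun y => by
      rw [hJ, hsmul]; exact h' y
    have h2 := h1 a
    rw [sT_fix hf (E.alt a), sT_fix hf (hf.alternating a), hJ] at h2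
    have h3 : η = ⟨k', hk'⟩ := smul_left_injective K ha (h2.trans (hsmul ⟨k', hk'⟩ a).symm)
    have h3' : ∀ y, k' *ᵥ y = J y := fun y => by rw [hJ, hsmul, h3]
    have h4 := h1 x
    rw [h3', sT_mulVec hf, sT_mulVec hf, one_mul, one_mul, map_add, map_smul, add_right_inj] at h4
    refine E.ne_smul ha ((Cfsg.sympForm 2 F x a)⁻¹ * Cfsg.sympForm 2 F (J x) a) ?_
    rw [mul_smul, h4, inv_smul_smul₀ hx]
  by_cases hM : M ≤ Cfsg.Geo.subalgebraNormalizer K
  · exact Or.inl (le_antisymm (le_inf hM hMK) hHM)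
  right
  obtain ⟨g, hgM, hg⟩ := SetLike.not_le_iff_exists.mp hM
  have hcen : ∀ h : GL (Fin 2 ⊕ Fin 2) F, Iso (Cfsg.sympForm 2 F) h →
      (∀ x, (h : Matrix _ _ F) *ᵥ J x = J ((h : Matrix _ _ F) *ᵥ x)) → h ∈ M := fun h hi hc =>
    hHM ⟨CfsgLib.Classical22.UnitOver.mem_normalizer_of_semi fun k hk => ⟨k, hk, fun x => by
      obtain ⟨a, b, e⟩ := hspan η hη' ⟨k, hk⟩
      have e' : ∀ y, k *ᵥ y = a • y + b • J y := fun y => by
        rw [← hact, ← e, hsmul]
      rw [e', e', mulVec_add, mulVec_smul, mulVec_smul, hc]⟩, hi⟩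
  obtain ⟨v, hv⟩ : ∃ v, (g : Matrix _ _ F) *ᵥ J v ∉
      Submodule.span F ({(g : Matrix _ _ F) *ᵥ v, J ((g : Matrix _ _ F) *ᵥ v)} : Set (Fin 2 ⊕ Fin 2 → F)) := by
    by_contra hcon
    simp only [not_exists, not_not] at hcon
    have hlines : ∀ (v : Fin 2 ⊕ Fin 2 → F) (k : K), ∃ k' : K,
        (g : Matrix (Fin 2 ⊕ Fin 2) (Fin 2 ⊕ Fin 2) F) *ᵥ (k • v) =
          k' • ((g : Matrix (Fin 2 ⊕ Fin 2) (Fin 2 ⊕ Fin 2) F) *ᵥ v) := fun v k => by
      obtain ⟨p, q, hpq⟩ := Submodule.mem_span_pair.mp (hcon v)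
      obtain ⟨a, b, rfl⟩ := hspan η hη' k
      refine ⟨algebraMap F K (a + b * p) + (b * q) • η, ?_⟩
      rw [hact, hact, mulVec_add, mulVec_smul, mulVec_smul, ← hpq]
      module
    have hdim : ∀ v : Fin 2 ⊕ Fin 2 → F, ∃ w, w ∉ Submodule.span K {v} := by
      intro v
      have htop : Submodule.span F ({v, J v} : Set (Fin 2 ⊕ Fin 2 → F)) ≠ ⊤ := fun e => by
        have h1 := finrank_span_le_card (R := F) ({v, J v} : Set (Fin 2 ⊕ Fin 2 → F))
        rw [e, finrank_top, Module.finrank_fintype_fun_eq_card, Set.toFinset_insert, Set.toFinset_singleton,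
          Fintype.card_sum, Fintype.card_fin] at h1
        have h2 : ({v, J v} : Finset (Fin 2 ⊕ Fin 2 → F)).card ≤ 2 := Finset.card_le_two
        omega
      obtain ⟨w, hw⟩ := SetLike.exists_not_mem_of_ne_top _ htop
      refine ⟨w, fun h => hw ?_⟩
      obtain ⟨k, rfl⟩ := Submodule.mem_span_singleton.mp h
      obtain ⟨a, b, rfl⟩ := hspan η hη' k
      exact Submodule.mem_span_pair.mpr ⟨a, b, (hact a b v).symm⟩
    refine hg (CfsgLib.Classical22.UnitOver.mem_normalizer_of_semi fun k hk => ?_)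
    obtain ⟨k', hk'⟩ := CfsgLib.Classical22.FieldMax.semi_of_lines hdim hlines ⟨k, hk⟩
    exact ⟨k', k'.2, fun x => ((congrArg _ (hsmul ⟨k, hk⟩ x).symm).trans (hk' x)).trans (hsmul k' _)⟩
  exact le_antisymm hMK (spGL_le_of_full (E.full_of_move hcen (by simp) hc0 hc1 hgM (hMK hgM) hv))

theorem subfield_maximal [CharP F 2] (F₀ : Subfield F) (r : ℕ)
    (P : Matrix.GeneralLinearGroup (Fin 2 ⊕ Fin 2) F) (ζ : F) (hr : r.Prime) (hcard : Fintype.card F = Nat.card F₀ ^ r)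
    (hζ : ζ ≠ 0) (hP : Cfsg.Geo.IsFormRationalStructure (Cfsg.sympForm 2 F) F₀ ζ P) :
    Cfsg.Geo.IsMaximalIn (Cfsg.spGL 2 F) (Cfsg.Geo.subfieldSubgroup F₀ P ⊓ Cfsg.spGL 2 F) := by
  classical
  have hf := isSymplecticForm_sympForm (F := F) 2
  obtain ⟨f, hfdef⟩ : ∃ f : (Fin 2 ⊕ Fin 2 → F) → (Fin 2 ⊕ Fin 2 → F) → F,
      ∀ x y, f x y = ζ * Cfsg.sympForm 2 F x y := ⟨_, fun _ _ => rfl⟩
  have hg : Cfsg.Geo.IsSymplecticForm f := by
    refine ⟨⟨fun x y v => ?_, fun c x v => ?_, fun v x y => ?_, fun c v x => ?_⟩, fun v w => ?_, fun v => ?_,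
      fun v hv => ?_⟩
    · rw [hfdef, hfdef, hfdef, add_left' hf]; ring
    · rw [hfdef, hfdef, smul_left' hf]; ring
    · rw [hfdef, hfdef, hfdef, add_right' hf]; ring
    · rw [hfdef, hfdef, smul_right' hf]; ring
    · rw [hfdef, hfdef, hf.skew v w]; ring
    · rw [hfdef, hf.alternating, mul_zero]
    · obtain ⟨⟨x, hx⟩, ⟨y, hy⟩⟩ := hf.nondegenerate v hv
      exact ⟨⟨x, by rw [hfdef]; exact mul_ne_zero hζ hx⟩, ⟨y, by rw [hfdef]; exact mul_ne_zero hζ hy⟩⟩
  have hiso : ∀ h, Iso f h ↔ h ∈ Cfsg.spGL 2 F := fun h => by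
    rw [mem_spGL_iff]
    refine ⟨fun hh u v => ?_, fun hh u v => by rw [hfdef, hfdef, hh]⟩
    have := hh u v
    rw [hfdef, hfdef] at this
    exact mul_left_cancel₀ hζ this
  have hR : ∀ u v : Fin 2 ⊕ Fin 2 → F₀, f (rv P u) (rv P v) ∈ F₀ := fun u v => by
    rw [hfdef]; exact hP _ _ (fun i => (u i).2) (fun i => (v i).2)
  have hdim : Fintype.card (Fin 2 ⊕ Fin 2) = 4 := by simp
  have hlt : F₀ < (⊤ : Subfield F) := by
    refine lt_top_iff_ne_top.mpr fun h => ?_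
    have h1 : Nat.card F₀ = Fintype.card F := by
      rw [← Nat.card_eq_fintype_card]
      exact Nat.card_congr (Equiv.subtypeUnivEquiv fun x => by rw [h]; trivial)
    rw [h1] at hcard
    have h2 : 1 < Fintype.card F := Fintype.one_lt_card
    exact absurd ((Nat.pow_eq_self_iff h2).mp hcard.symm) hr.one_lt.ne'
  have hgen : ∀ R : Subfield F, F₀ < R → R = ⊤ := by
    intro R hR'
    letI : Algebra F₀ R := (Subfield.inclusion hR'.le).toAlgebra
    haveI : IsScalarTower F₀ R F := IsScalarTower.of_algebraMap_eq (fun _ => rfl)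
    have hfin : Module.finrank F₀ R * Module.finrank R F = r := by
      rw [Module.finrank_mul_finrank]
      have h1 := Module.natCard_eq_pow_finrank (K := F₀) (V := F)
      rw [Nat.card_eq_fintype_card, hcard] at h1
      exact (Nat.pow_right_injective (Nat.succ_le_of_lt Finite.one_lt_card) h1).symm
    rcases Nat.prime_mul_iff.mp (hfin ▸ hr) with ⟨-, h1⟩ | ⟨-, h1⟩
    · refine top_unique fun x _ => ?_
      obtain ⟨c, hc⟩ := (finrank_eq_one_iff_of_nonzero' (1 : F) one_ne_zero).mp h1 x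
      rw [← hc, Subfield.smul_def, smul_eq_mul, mul_one]
      exact c.2
    · refine absurd (fun x hx => ?_) hR'.not_ge
      obtain ⟨c, hc⟩ := (finrank_eq_one_iff_of_nonzero' (1 : R) one_ne_zero).mp h1 ⟨x, hx⟩
      have hc' : (c : F) * 1 = x := congrArg Subtype.val hc
      rw [← hc', mul_one]
      exact c.2
  refine ⟨lt_of_le_not_ge inf_le_right fun hle => ?_, fun M hHM hMK => ?_⟩
  · obtain ⟨θ, -, hθ⟩ := SetLike.exists_of_lt hlt
    have hB := isSymplectic_rForm hg hR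
    obtain ⟨r₀, hr₀⟩ : ∃ r₀ : Fin 2 ⊕ Fin 2 → F₀, r₀ ≠ 0 := ⟨Pi.single (.inl ⟨0, by omega⟩) 1, by simp⟩
    obtain ⟨x', hx'⟩ := (hB.nondegenerate r₀ hr₀).1
    obtain ⟨x, hx⟩ : ∃ x, rForm hR x r₀ = 1 :=
      ⟨(rForm hR x' r₀)⁻¹ • x', by rw [smul_left' hB, inv_mul_cancel₀ hx']⟩
    have hxr : f (rv P x) (rv P r₀) = 1 := congrArg Subtype.val hx
    obtain ⟨l, s, hls⟩ := lines_of_mem_subfieldSubgroup (hle ((hiso _).mp (iso_sT hg (rv P r₀) θ))).1 x
    change (sT f (rv P r₀) θ : Matrix _ _ F) *ᵥ rv P x = l • rv P s at hls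
    rw [sT_mulVec hg, hxr, mul_one] at hls
    have h1 := congrArg (fun z => f z (rv P r₀)) hls
    have h2 := congrArg (fun z => f (rv P x) z) hls
    simp only [add_left' hg, smul_left' hg, hg.alternating, mul_zero, add_zero, hxr] at h1
    simp only [add_right' hg, smul_right' hg, hg.alternating, zero_add, hxr, mul_one] at h2
    have hl : l ∈ F₀ := by rw [eq_inv_of_mul_eq_one_left h1.symm]; exact inv_mem (hR _ _)
    exact hθ (h2 ▸ mul_mem hl (hR _ _))
  by_cases hM : M ≤ Cfsg.Geo.subfieldSubgroup F₀ P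
  · exact Or.inl (le_antisymm (le_inf hM hMK) hHM)
  right
  obtain ⟨g, hgM, hgH⟩ := SetLike.not_le_iff_exists.mp hM
  have hMh : ∀ h : GL (Fin 2 ⊕ Fin 2) F₀, Iso (rForm hR) h → subfieldHom F₀ P h ∈ M := fun h hh =>
    hHM ⟨subfieldHom_mem h, (hiso _).mp (iso_hom hg hR hh)⟩
  obtain ⟨u, hu⟩ : ∃ u : Fin 2 ⊕ Fin 2 → F₀, ∀ (l : F) r', (g : Matrix _ _ F) *ᵥ rv P u ≠ l • rv P r' := by
    by_contra h
    simp only [not_exists, not_forall, not_not] at h
    exact hgH (mem_subfieldSubgroup_of_lines g h)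
  have hB := isSymplectic_rForm hg hR
  have hvM : sT f ((g : Matrix _ _ F) *ᵥ rv P u) 1 ∈ M := by
    rw [← conj_sT_iso hg ((hiso g).mpr (hMK hgM))]
    refine M.mul_mem (M.mul_mem hgM ?_) (M.inv_mem hgM)
    have e : subfieldHom F₀ P (sT (rForm hR) u 1) = sT f (rv P u) 1 := gl_ext_rv (P := P) fun w => by
      rw [hom_rv, sT_mulVec hB, rv_add, rv_smul, sT_mulVec hg]
      simp [rForm]
    rw [← e]
    exact hMh _ (iso_sT hB u 1)
  refine le_antisymm hMK fun h hh => ?_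
  exact iso_mem_of_full hg (CfsgLib.SpFour.all_full hg hR hdim hMh hvM hu hgen) ((hiso h).mpr hh)

theorem quad_maximal [CharP F 2] (Q : (Fin 2 ⊕ Fin 2 → F) → F) (hQ : Cfsg.Geo.IsNondegenerateQuadraticForm Q)
    (hpol : ∀ u v, QuadraticMap.polar Q u v = Cfsg.sympForm 2 F u v) :
    Cfsg.Geo.IsMaximalIn (Cfsg.spGL 2 F) (Cfsg.Geo.quadSimilarityGroup Q ⊓ Cfsg.spGL 2 F) := by
  classical
  have hf := isSymplecticForm_sympForm (F := F) 2
  have hQf : ∀ u v, Q (u + v) = Q u + Q v + Cfsg.sympForm 2 F u v := fun u v => by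
    rw [← hpol]; simp only [QuadraticMap.polar]; ring
  have hdim : Fintype.card (Fin 2 ⊕ Fin 2) = 4 := by simp
  -- similarities in the symplectic group are isometries
  have hiso : ∀ g ∈ Cfsg.Geo.quadSimilarityGroup Q ⊓ Cfsg.spGL 2 F,
      ∀ v, Q ((g : Matrix _ _ F) *ᵥ v) = Q v := by
    rintro g ⟨⟨c, hc⟩, hg⟩ v
    obtain ⟨u, hu⟩ : ∃ u : Fin 2 ⊕ Fin 2 → F, u ≠ 0 :=
      ⟨Pi.single (.inl ⟨0, by omega⟩) 1, by simp⟩
    obtain ⟨x, hx⟩ := (hf.nondegenerate u hu).1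
    have h := hc (x + u)
    rw [mulVec_add, hQf, hQf, hc, hc, (mem_spGL_iff 2 g).mp hg] at h
    have h1 : (c : F) = 1 := by
      have : Cfsg.sympForm 2 F x u * ((c : F) - 1) = 0 := by linear_combination -h
      exact sub_eq_zero.mp ((mul_eq_zero.mp this).resolve_left hx)
    rw [hc v, h1, one_mul]
  refine ⟨lt_of_le_not_ge inf_le_right fun hle => ?_, fun M hHM hMK => ?_⟩
  · obtain ⟨x, hx0, hx⟩ := CfsgLib.SpFour.exists_singular hf hQ.smul hQf hdim
    obtain ⟨y, hy⟩ := (hf.nondegenerate x hx0).1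
    have h := hiso _ (hle (sT_mem_spGL 2 x 1)) y
    rw [quad_sT hf hQ.smul hQf, hx, mul_zero, add_zero, mul_one, one_mul, add_eq_left] at h
    exact hy (pow_eq_zero_iff two_ne_zero |>.mp h)
  by_cases hM : M ≤ Cfsg.Geo.quadSimilarityGroup Q
  · exact Or.inl (le_antisymm (le_inf hM hMK) hHM)
  right
  obtain ⟨g, hgM, hg⟩ := SetLike.not_le_iff_exists.mp hM
  refine le_antisymm hMK (spGL_le_of_full
    (CfsgLib.SpFour.full_of_quad hf hQ.smul hQf (fun h hh => hHM ⟨⟨1, fun v => by rw [Units.val_one, one_mul, hh]⟩,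
      iso_of_quad hf hQ.smul hQf hh⟩) hdim hgM (hMK hgM) ?_))
  by_contra h
  simp only [not_exists, not_not] at h
  exact hg ⟨1, fun v => by rw [Units.val_one, one_mul, h]⟩


/-- Maximal subgroups of Sp_4(q) of geometric type, q ≥ 4 even. Let F be a finite field of even order q ≥ 4, f the standard alternating form on F^4 (coordinates Fin 2 ⊕ Fin 2) and Sp_4(F) its isometry group inside GL_4(F). Each of the following, intersected with Sp_4(F), is a maximal subgroup of Sp_4(F): (1) the stabiliser of any non-zero totally isotropic subspace (totally isotropic 1-spaces and 2-spaces); (2) the stabiliser of any decomposition of F^4 into two mutually orthogonal non-degenerate 2-spaces; (3) the normaliser of any degree-2 subfield K of the matrix algebra whose elements are self-adjoint for f with f(k v, v) = 0 for all k in K and all v; (4) every subfield group for a subfield F₀ with |F| = |F₀|^r, r prime, whose F₀-structure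 carries a non-zero scalar multiple of f; (5) the similarity group of any non-degenerate quadratic form whose polar form is f (either Witt type); its intersection with Sp_4(F) is the orthogonal group of that form. -/
theorem result {F : Type*} [Field F] [Fintype F] (heven : ¬ Odd (Fintype.card F)) (h4 : 4 ≤ Fintype.card F) :
    (∀ W : Submodule F (Fin 2 ⊕ Fin 2 → F), W ≠ ⊥ → Cfsg.Geo.IsTotallySingularFor (Cfsg.sympForm 2 F) W → Cfsg.Geo.IsMaximalIn (Cfsg.spGL 2 F) (Cfsg.Geo.subspaceStabilizer W ⊓ Cfsg.spGL 2 F)) ∧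
    (∀ D : Fin 2 → Submodule F (Fin 2 ⊕ Fin 2 → F), Cfsg.Geo.IsNondegenerateMDecomposition (Cfsg.sympForm 2 F) 2 D → Cfsg.Geo.IsMaximalIn (Cfsg.spGL 2 F) (Cfsg.Geo.decompositionStabilizer D ⊓ Cfsg.spGL 2 F)) ∧
    (∀ K : Subalgebra F (Matrix (Fin 2 ⊕ Fin 2) (Fin 2 ⊕ Fin 2) F), Cfsg.Geo.IsFieldSubalgebra 2 K → Cfsg.Geo.IsSelfAdjointFor (Cfsg.sympForm 2 F) K → (∀ k ∈ K, ∀ v : (Fin 2 ⊕ Fin 2 → F), (Cfsg.sympForm 2 F) (Matrix.mulVec k v) v = 0) → Cfsg.Geo.IsMaximalIn (Cfsg.spGL 2 F) (Cfsg.Geo.subalgebraNormalizer K ⊓ Cfsg.spGL 2 F)) ∧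
    (∀ (F₀ : Subfield F) (r : ℕ) (P : Matrix.GeneralLinearGroup (Fin 2 ⊕ Fin 2) F) (ζ : F), r.Prime → Fintype.card F = Nat.card F₀ ^ r → ζ ≠ 0 → Cfsg.Geo.IsFormRationalStructure (Cfsg.sympForm 2 F) F₀ ζ P → Cfsg.Geo.IsMaximalIn (Cfsg.spGL 2 F) (Cfsg.Geo.subfieldSubgroup F₀ P ⊓ Cfsg.spGL 2 F)) ∧
    (∀ Q : (Fin 2 ⊕ Fin 2 → F) → F, Cfsg.Geo.IsNondegenerateQuadraticForm Q → (∀ u v : (Fin 2 ⊕ Fin 2 → F), QuadraticMap.polar Q u v = (Cfsg.sympForm 2 F) u v) → Cfsg.Geo.IsMaximalIn (Cfsg.spGL 2 F) (Cfsg.Geo.quadSimilarityGroup Q ⊓ Cfsg.spGL 2 F)) := by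
  haveI : CharP F 2 := by
    have h2 : ringChar F = 2 := FiniteField.even_card_iff_char_two.mpr
      (Nat.even_iff.mp (Nat.not_odd_iff_even.mp heven))
    rw [← h2]; exact ringChar.charP F
  obtain ⟨c₀, hc0, hc1⟩ : ∃ c : F, c ≠ 0 ∧ c ≠ 1 := by
    classical
    by_contra h
    simp only [not_exists, not_and, not_not] at h
    have h1 := Finset.card_le_card (fun x (_ : x ∈ (Finset.univ : Finset F)) => show x ∈ ({0, 1} : Finset F) by
      by_cases hx : x = 0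
      · simp [hx]
      · simp [h x hx])
    have h2 : ({0, 1} : Finset F).card ≤ 2 := Finset.card_le_two
    rw [Finset.card_univ] at h1
    omega
  exact ⟨fun W => singular_maximal W, fun D => decomposition_maximal hc0 hc1 D,
    fun K => field_maximal hc0 hc1 K, fun F₀ r P ζ => subfield_maximal F₀ r P ζ, fun Q => quad_maximal Q⟩

end Cfsg.Agent.S5789
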