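import Cfsg.Statements.S5787
import Cfsg.Agent.Lib.Classical22.Asch.SpSmall
import Cfsg.Agent.Lib.Classical22.Asch.SpFourCases
-- import your own Cfsg.Agent.* helpers here

set_option autoImplicit false
open Cfsg

namespace Cfsg.Agent.S5787

open CfsgLib.Classical22.Asch

/-- Every maximal subgroup of Sp_4(q), q odd, is of one of the listed geometric types or lies in the residual class. Let F be a finite field of odd order q, f the standard alternating form on F^4 (coordinates Fin 2 ⊕ Fin 2), and H a maximal subgroup of the isometry group Sp_4(F) (inside GL_4(F)). Then H is the intersection with Sp_4(F) of one of: the stabiliser of a non-zero totally isotropic subspace; the stabiliser of a decomposition into two orthogonal non-degenerate 2-spaces; for q ≥ 5, of a decomposition into two totally isotropic 2-spaces; the normaliser of a degree-2 subfield K of the matrix algebra, self-adjoint with f(k v,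 v) = 0; for q ≥ 5, the normaliser of a degree-2 subfield closed under adjoints but not self-adjoint; a subfield group whose F₀-structure carries a non-zero multiple of f, |F| = |F₀|^r with r prime; for q = p prime, the normaliser of an absolutely irreducible symplectic-type 2-group of exponent 4, order 32, centre of order 2 and minus type inside the similarity group of f — or else H lies in the residual class of the symplectic case. -/
theorem result {F : Type*} [Field F] [Fintype F] (hodd : Odd (Fintype.card F)) (H : Subgroup (Matrix.GeneralLinearGroup (Fin 2 ⊕ Fin 2) F)) (hH : Cfsg.Geo.IsMaximalIn (Cfsg.spGL 2 F) H) :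
    (∃ W : Submodule F (Fin 2 ⊕ Fin 2 → F), W ≠ ⊥ ∧ Cfsg.Geo.IsTotallySingularFor (Cfsg.sympForm 2 F) W ∧ H = Cfsg.Geo.subspaceStabilizer W ⊓ Cfsg.spGL 2 F) ∨
    (∃ D : Fin 2 → Submodule F (Fin 2 ⊕ Fin 2 → F), Cfsg.Geo.IsNondegenerateMDecomposition (Cfsg.sympForm 2 F) 2 D ∧ H = Cfsg.Geo.decompositionStabilizer D ⊓ Cfsg.spGL 2 F) ∨
    (5 ≤ Fintype.card F ∧ ∃ D : Fin 2 → Submodule F (Fin 2 ⊕ Fin 2 → F), Cfsg.Geo.IsMDecomposition 2 D ∧ (∀ i, Cfsg.Geo.IsTotallySingularFor (Cfsg.sympForm 2 F) (D i)) ∧ H = Cfsg.Geo.decompositionStabilizer D ⊓ Cfsg.spGL 2 F) ∨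
    (∃ K : Subalgebra F (Matrix (Fin 2 ⊕ Fin 2) (Fin 2 ⊕ Fin 2) F), Cfsg.Geo.IsFieldSubalgebra 2 K ∧ Cfsg.Geo.IsSelfAdjointFor (Cfsg.sympForm 2 F) K ∧ (∀ k ∈ K, ∀ v : (Fin 2 ⊕ Fin 2 → F), (Cfsg.sympForm 2 F) (Matrix.mulVec k v) v = 0) ∧ H = Cfsg.Geo.subalgebraNormalizer K ⊓ Cfsg.spGL 2 F) ∨
    (5 ≤ Fintype.card F ∧ ∃ K : Subalgebra F (Matrix (Fin 2 ⊕ Fin 2) (Fin 2 ⊕ Fin 2) F), Cfsg.Geo.IsFieldSubalgebra 2 K ∧ Cfsg.Geo.IsAdjointClosedFor (Cfsg.sympForm 2 F) K ∧ ¬ Cfsg.Geo.IsSelfAdjointFor (Cfsg.sympForm 2 F) K ∧ H = Cfsg.Geo.subalgebraNormalizer K ⊓ Cfsg.spGL 2 F) ∨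
    (∃ (F₀ : Subfield F) (r : ℕ) (P : Matrix.GeneralLinearGroup (Fin 2 ⊕ Fin 2) F) (ζ : F), r.Prime ∧ Fintype.card F = Nat.card F₀ ^ r ∧ ζ ≠ 0 ∧ Cfsg.Geo.IsFormRationalStructure (Cfsg.sympForm 2 F) F₀ ζ P ∧ H = Cfsg.Geo.subfieldSubgroup F₀ P ⊓ Cfsg.spGL 2 F) ∨
    (∃ (p : ℕ) (R : Subgroup (Matrix.GeneralLinearGroup (Fin 2 ⊕ Fin 2) F)), p.Prime ∧ Fintype.card F = p ∧ Cfsg.Geo.IsSymplecticTypeGroup 2 R ∧ Cfsg.Geo.ActsAbsolutelyIrreducibly (Cfsg.Geo.matrixSet R) ∧ R ≤ Cfsg.Geo.similarityGroup (Cfsg.sympForm 2 F) ∧ Nat.card R = 32 ∧ Nat.card (Subgroup.center R) = 2 ∧ Cfsg.Geo.IsOfMinusType 2 R ∧ H = Cfsg.Geo.subgroupNormalizer R ⊓ Cfsg.spGL 2 F) ∨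
    Cfsg.Geo.InSymplecticResidualClass H := by
  rcases sp_max_cases le_rfl hH with ((⟨W, h0, hts, heq⟩ | ⟨W, h0, hnd, hlt, heq⟩ | ⟨t, k, D, hD, heq⟩ |
      ⟨D, -, hD, hts, heq⟩ | ⟨F₀, r, P, ζ, hr, hc, hζ, hP, heq⟩ |
      ⟨R, p, k, hk, hst, habs, hsim, hp, hpo, hcp, hcard, hcen, hmin, heq⟩ |
      ⟨Q, heven, hQ, hpol, heq⟩) | ⟨r, K, hr, hK, hsa, halt, heq⟩ | ⟨K, -, hK, hac, hns, heq⟩ |
      ⟨n₁, n₂, e, P, f₁, f₂, -, h3, hf₁, hf₂, hT, heq⟩ | ⟨k, t, e, P, f₁, -, ht, h3, hne, hf₁, hT, heq⟩) | hres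
  · exact Or.inl ⟨W, h0, hts, heq⟩
  · exfalso
    obtain ⟨j, hj⟩ := even_of_nondegenerate hnd
    have h1 : Module.finrank F W ≠ 0 := fun h => h0 (Submodule.finrank_eq_zero.mp h)
    omega
  · obtain ⟨⟨j, hj⟩, htk, ht2, hk2⟩ := decomp_params hD
    have hk : k ≤ 2 := by nlinarith
    obtain rfl : k = 2 := by omega
    obtain rfl : t = 2 := by omega
    exact Or.inr (Or.inl ⟨D, hD, heq⟩)
  · rcases four_lagrangian_cases hH hodd hD hts heq with h5 | ⟨D', hD', heq'⟩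
    · exact Or.inr (Or.inr (Or.inl ⟨h5, D, hD, hts, heq⟩))
    · exact Or.inr (Or.inl ⟨D', hD', heq'⟩)
  · exact Or.inr (Or.inr (Or.inr (Or.inr (Or.inr (Or.inl ⟨F₀, r, P, ζ, hr, hc, hζ, hP, heq⟩)))))
  · obtain rfl : k = 2 := Nat.pow_right_injective (le_refl 2) (by simpa using hk.symm)
    exact Or.inr (Or.inr (Or.inr (Or.inr (Or.inr (Or.inr (Or.inl ⟨p, R, hp, hcp, hst, habs, hsim, by simpa using hcard, hcen, hmin, heq⟩))))))
  · exact absurd hodd heven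
  · have hr2 := field_dvd_half (by norm_num) hK hsa halt
    have hle := Nat.le_of_dvd (by norm_num) hr2
    obtain rfl : r = 2 := by have := hr.two_le; omega
    exact Or.inr (Or.inr (Or.inr (Or.inl ⟨K, hK, hsa, halt, heq⟩)))
  · rcases four_field_cases hH hodd hK hac hns heq with h5 | ⟨hq, R, hst, habs, hsim, hcard, hcen, hmin, heq'⟩
    · exact Or.inr (Or.inr (Or.inr (Or.inr (Or.inl ⟨h5, K, hK, hac, hns, heq⟩))))
    · exact Or.inr (Or.inr (Or.inr (Or.inr (Or.inr (Or.inr (Or.inl ⟨3, R, Nat.prime_three, hq, hst, habs, hsim, hcard, hcen, hmin, heq'⟩))))))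
  · exfalso
    obtain ⟨⟨j, hj⟩, hn⟩ := tensor_params e hf₁
    have hn1 : n₁ ≤ 1 := by nlinarith
    interval_cases n₁ <;> omega
  · exfalso
    have hkt := wreath_params e
    have hk1 : k ≠ 0 ∧ k ≠ 1 := by
      constructor <;> rintro rfl
      · rw [zero_pow (by omega)] at hkt; omega
      · rw [one_pow] at hkt; omega
    have hle : k ^ 3 ≤ k ^ t := Nat.pow_le_pow_right (by omega) h3
    have := Nat.pow_le_pow_left (show 2 ≤ k by omega) 3
    omega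
  · exact Or.inr (Or.inr (Or.inr (Or.inr (Or.inr (Or.inr (Or.inr (hres)))))))

end Cfsg.Agent.S5787
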