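import Cfsg.Statements.S5813
import Cfsg.Agent.S5674
import Cfsg.Agent.Lib.Classical22.OrthMaxSubspace
import Cfsg.Agent.Lib.Classical22.OrthMaxThree
import Cfsg.Agent.Lib.Classical22.OrthSubfieldMatrix
import Cfsg.Agent.Lib.Classical22.Frame.Transfer
-- import your own Cfsg.Agent.* helpers here

set_option autoImplicit false
open Cfsg

namespace Cfsg.Agent.S5813

open CfsgLib.Classical CfsgLib.Classical22

theorem maximal_nondeg {ι : Type} [Fintype ι] [DecidableEq ι] {F : Type*} [Field F] [Fintype F]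
    (h2 : (2 : F) ≠ 0) (q : QuadraticForm F (ι → F)) (hQ : PolarNondeg q) (hc : Fintype.card ι = 7)
    (W : Submodule F (ι → F)) (hW0 : W ≠ ⊥) (he : Even (Module.finrank F W))
    (hW : Cfsg.Geo.IsNondegenerateOn (QuadraticMap.polar q) W)
    (hex : ¬ (Fintype.card F = 3 ∧ Module.finrank F W = 2 ∧ Cfsg.Geo.IsPlusTypeOn ⇑q W)) :
    Cfsg.Geo.IsMaximalIn (Cfsg.Geo.omegaGL ⇑q) (Cfsg.Geo.subspaceStabilizer W ⊓ Cfsg.Geo.omegaGL ⇑q) := by
  have hV : Module.finrank F (ι → F) = 7 := by rw [Module.finrank_pi, hc]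
  have hWnd := ndOn_of_isNondegenerateOn q hW
  have hW7 := Submodule.finrank_le W
  have hW1 : 1 ≤ Module.finrank F W := Submodule.one_le_finrank_iff.2 hW0
  have hd := finrank_qPerp q hQ W
  obtain ⟨k, hk⟩ := he
  refine isMaximalIn_omegaGL q hQ (by omega) (comap_subspaceStabilizer q W) (fun h => ?_) fun M hM hME hne => ?_
  · have := congrArg (fun U : Submodule F (ι → F) => Module.finrank F U) (eq_top_of_invariant q hQ (by omega) hW0 h)
    simp only [finrank_top] at this
    omega
  rcases (show Module.finrank F W = 2 ∨ Module.finrank F W = 4 ∨ Module.finrank F W = 6 by omega) with hd' | hd' | hd'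
  · have hst : qStab q (qPerp q W) = qStab q W := le_antisymm
      (fun g hg => qPerp_qPerp q hQ W ▸ qPerp_invariant q hg) fun g hg => qPerp_invariant q hg
    refine eichGroup_le_of_nondeg q hQ (ndOn_qPerp q hQ hWnd) (by omega) (by omega) (fun g _ hg => ?_) ?_
      (by rwa [hst]) hME (by rwa [hst])
    · have h1 := Submodule.finrank_mono (show (qPerp q W).map g.1.toLinearMap ≤ W by
        rintro _ ⟨z, hz, rfl⟩
        exact qPerp_qPerp q hQ W ▸ hg z hz)
      rw [LinearEquiv.finrank_map_eq] at h1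
      omega
    · rintro ⟨h3, h22, x, hx, hx0, hQx⟩
      rw [qPerp_qPerp q hQ W] at hx
      have : 3 ≤ Fintype.card F := by
        have h1 : 1 < Fintype.card F := Fintype.one_lt_card
        have h2' : Fintype.card F ≠ 2 := fun h => h2 (by
          have := FiniteField.cast_card_eq_zero (K := F)
          rw [h] at this
          exact_mod_cast this)
        omega
      refine hex ⟨by omega, hd', Submodule.span F {x}, (Submodule.span_singleton_le_iff_mem _ _).2 hx,
        fun z hz => ?_, ?_⟩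
      · obtain ⟨t, rfl⟩ := Submodule.mem_span_singleton.1 hz
        rw [quad_smul, hQx, mul_zero]
      · rw [finrank_span_singleton hx0, hd']
  · exact eichGroup_le_of_four_three q hQ h2 hWnd hd' hV hM hME hne
  · refine eichGroup_le_of_nondeg q hQ hWnd (by omega) (by omega) (fun g _ hg => ?_)
      (fun h => by have := h.2.1; omega) hM hME hne
    have h1 := Submodule.finrank_mono (show W.map g.1.toLinearMap ≤ qPerp q W by
      rintro _ ⟨z, hz, rfl⟩
      exact hg z hz)
    rw [LinearEquiv.finrank_map_eq] at h1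
    omega


/-- Maximal subgroups of Ω_7(q) of geometric type, q odd. Let F be a finite field of odd order q, Q the standard quadratic form x₀² + Σ x_i y_i on F^7 (coordinates Unit ⊕ (Fin 3 ⊕ Fin 3)), and Ω = Ω_7(q) the commutator subgroup of its isometry group, inside GL_7(F). Each of the following, intersected with Ω, is a maximal subgroup of Ω: (1) the stabiliser of any non-zero subspace on which Q vanishes identically (totally singular 1-, 2- and 3-spaces); (2) the stabiliser of any non-zero even-dimensional subspace W on which the polar form of Q is non-degenerate (equivalently of its odd-dimensional orthogonal complement), except when q = 3 and W is a 2-space containing a non-zero singular vector (a plus-type plane); (3) for q = p prime, the stabiliser of any decomposition of F^7 into seven pairwise orthogonal, pairwise Q-isometric non-degenerate 1-spaces; (4) every subfield group for a subfield F₀ with |F| = |F₀|^r, r prime, whose F₀-structure carries Q. -/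
theorem result {F : Type*} [Field F] [Fintype F] (hodd : Odd (Fintype.card F)) :
    (∀ W : Submodule F (Unit ⊕ (Fin 3 ⊕ Fin 3) → F), W ≠ ⊥ → Cfsg.Geo.IsTotallySingularQuad (Cfsg.quadFormOdd 3 F) W → Cfsg.Geo.IsMaximalIn (Cfsg.Geo.omegaGL (Cfsg.quadFormOdd 3 F)) (Cfsg.Geo.subspaceStabilizer W ⊓ Cfsg.Geo.omegaGL (Cfsg.quadFormOdd 3 F))) ∧
    (∀ W : Submodule F (Unit ⊕ (Fin 3 ⊕ Fin 3) → F), W ≠ ⊥ → Even (Module.finrank F W) → Cfsg.Geo.IsNondegenerateOn (QuadraticMap.polar (Cfsg.quadFormOdd 3 F)) W → ¬ (Fintype.card F = 3 ∧ Module.finrank F W = 2 ∧ Cfsg.Geo.IsPlusTypeOn (Cfsg.quadFormOdd 3 F) W) → Cfsg.Geo.IsMaximalIn (Cfsg.Geo.omegaGL (Cfsg.quadFormOdd 3 F)) (Cfsg.Geo.subspaceStabilizer W ⊓ Cfsg.Geo.omegaGL (Cfsg.quadFormOdd 3 F))) ∧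
    ((Fintype.card F).Prime → ∀ D : Fin 7 → Submodule F (Unit ⊕ (Fin 3 ⊕ Fin 3) → F), Cfsg.Geo.IsOrthogonalMDecomposition (Cfsg.quadFormOdd 3 F) 1 D → Cfsg.Geo.IsMaximalIn (Cfsg.Geo.omegaGL (Cfsg.quadFormOdd 3 F)) (Cfsg.Geo.decompositionStabilizer D ⊓ Cfsg.Geo.omegaGL (Cfsg.quadFormOdd 3 F))) ∧
    (∀ (F₀ : Subfield F) (r : ℕ) (P : Matrix.GeneralLinearGroup (Unit ⊕ (Fin 3 ⊕ Fin 3)) F), r.Prime → Fintype.card F = Nat.card F₀ ^ r → Cfsg.Geo.IsQuadFormRationalStructure (Cfsg.quadFormOdd 3 F) F₀ P → Cfsg.Geo.IsMaximalIn (Cfsg.Geo.omegaGL (Cfsg.quadFormOdd 3 F)) (Cfsg.Geo.subfieldSubgroup F₀ P ⊓ Cfsg.Geo.omegaGL (Cfsg.quadFormOdd 3 F))) := by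
  have h2 : (2 : F) ≠ 0 := Ring.two_ne_zero fun h => Nat.not_even_iff_odd.2 hodd
    (Nat.even_iff.2 (FiniteField.even_card_iff_char_two.1 h))
  rw [← coe_qOdd]
  have hQ := polarNondeg_qOdd (F := F) h2 3
  refine ⟨fun W hW0 hW => S5674.maximal_odd (qOdd 3 F) hQ (m := 3) (by omega) (by simp) W hW0 hW,
    fun W hW0 he hW hex => maximal_nondeg h2 (qOdd 3 F) hQ (by simp) W hW0 he hW hex,
    fun hprime D hD => Frame.isMaximalIn_frame h2 _ hQ le_rfl hD fun H hM _ =>
      (Frame.base_of_mono_le h2 hprime le_rfl hM).odd_dichotomy ⟨3, rfl⟩,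
    fun F₀ r P hr hcard hP => OrthSubfield.isMaximalIn_subfield (qOdd 3 F) hQ (by simp) F₀ hr hcard P one_ne_zero
      (by simpa only [one_mul] using hP)⟩

end Cfsg.Agent.S5813
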