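import Cfsg.Statements.S5825
import Cfsg.Agent.Lib.Classical22.OrthMaxSingular
import Cfsg.Agent.Lib.Classical22.OrthMaxPoint
import Cfsg.Agent.Lib.Classical22.OrthMaxHalf
import Cfsg.Agent.Lib.Classical22.OrthField.Main
import Cfsg.Agent.Lib.Classical22.OrthSubfieldMatrix
-- import your own Cfsg.Agent.* helpers here

set_option autoImplicit false
open Cfsg

namespace Cfsg.Agent.S5825

open CfsgLib.Classical CfsgLib.Classical22

open CfsgLib.Classical22.OrthType in
/-- One of two orthogonal four dimensional halves contains a singular plane. -/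
theorem exists_plane {F : Type*} [Field F] [Fintype F] (q : QuadraticForm F (Fin 8 → F)) (hq : PolarNondeg q)
    (hno : ∀ T : Submodule F (Fin 8 → F), (∀ t ∈ T, q t = 0) → Module.finrank F T ≠ 4)
    {W : Submodule F (Fin 8 → F)} (hW : NdOn q W) (hd : Module.finrank F W = 4) :
    (∃ U ≤ W, (∀ u ∈ U, q u = 0) ∧ Module.finrank F U = 2) ∨
      ∃ U ≤ qPerp q W, (∀ u ∈ U, q u = 0) ∧ Module.finrank F U = 2 := by
  by_contra hc
  rw [not_or] at hc
  have hd' : Module.finrank F (qPerp q W) = 4 := by
    rw [finrank_qPerp q hq, hd, Module.finrank_fin_fun]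
  have hneg : ∀ {A : Submodule F (Fin 8 → F)}, NdOn q A → Module.finrank F A = 4 →
      (¬ ∃ U ≤ A, (∀ u ∈ U, q u = 0) ∧ Module.finrank F U = 2) → PolarNondeg (res q A) ∧ Sg (res q A) (-1) := by
    intro A hA hdA hAU
    have hnd : PolarNondeg (res q A) := polarNondeg_comp q hA
    have he : Even (Module.finrank F A) := by rw [hdA]; exact ⟨2, rfl⟩
    obtain ⟨ε, hε, hs⟩ := sg_cases hnd he
    refine ⟨hnd, ?_⟩
    rcases hε with rfl | rfl
    · obtain ⟨U, hU, hUd⟩ := (sg_one_iff hnd he).1 hs
      refine absurd ⟨U.map A.subtype, Submodule.map_subtype_le A U, ?_, ?_⟩ hAU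
      · rintro _ ⟨u, hu, rfl⟩
        exact hU u hu
      · rw [Submodule.finrank_map_subtype_eq]
        omega
    · exact hs
  obtain ⟨hn1, hs1⟩ := hneg hW hd hc.1
  obtain ⟨hn2, hs2⟩ := hneg (ndOn_qPerp q hq hW) hd' hc.2
  have h1 : (-1 : F) ≠ 0 := neg_ne_zero.2 one_ne_zero
  obtain ⟨e, he⟩ := (hs1.smul hn1 h1).isom hs2 (polarNondeg_smul hn1 h1) hn2 (by rw [hd, hd'])
  obtain ⟨ψ, hψ⟩ : ∃ ψ : W →ₗ[F] (Fin 8 → F), ∀ w : W, ψ w = (w : Fin 8 → F) + (e w : Fin 8 → F) :=
    ⟨W.subtype + (qPerp q W).subtype ∘ₗ e.toLinearMap, fun w => rfl⟩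
  refine hno (LinearMap.range ψ) ?_ ?_
  · rintro _ ⟨w, rfl⟩
    rw [hψ, quad_add, show q (e w : Fin 8 → F) = -q (w : Fin 8 → F) by simpa using he w,
      (mem_qPerp q).1 (e w).2 w w.2]
    ring
  · rw [LinearMap.finrank_range_of_inj, hd]
    refine (injective_iff_map_eq_zero _).2 fun w hw => Subtype.ext ?_
    rw [hψ] at hw
    refine (Submodule.eq_bot_iff _).1 (inf_qPerp_eq_bot q hW) _ ⟨w.2, ?_⟩
    rw [eq_neg_of_add_eq_zero_left hw]
    exact (qPerp q W).neg_mem (e w).2

/-- Maximal subgroups of Ω_8^-(q) of geometric type (any q). Let F be a finite field with q elements, Q a non-degenerate quadratic form on F^8 (non-degenerate polar form) of minus type (Witt index 3: no totally singular 4-space), and Ω = Ω_8^-(q) the commutator subgroup of the isometry group of Q, inside GL_8(F). Each of the following, intersected with Ω, is a maximal subgroup of Ω: (1) the stabiliser of any non-zero subspace on which Q vanishes identically (totally singular 1-, 2- and 3-spaces); (2) for q odd, the stabiliser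 of any proper subspace of odd dimension (1, 3, 5 or 7) on which the polar form of Q is non-degenerate; (3) the stabiliser of any non-degenerate 2-space of minus type (containing no non-zero singular vector); (4) for q ≥ 4, the stabiliser of any non-degenerate 2-space of plus type (containing a non-zero singular vector); (5) the stabiliser of any non-degenerate 4-space (its orthogonal complement is then a non-degenerate 4-space of the opposite type); (6) for q even, the stabiliser of the 1-space spanned by any non-singular vector v (Q(v) ≠ 0); (7) for q odd, the normaliser of any degree-2 subfield K of the matrix algebra whose elements are self-adjoint for the polar form of Q (Q is then the trace of a quadratic form over K); (8) every subfield group for a subfield F₀ of odd prime index r in F whose F₀-structure carries a non-zero scalar multiple of Q. -/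
theorem result {F : Type*} [Field F] [Fintype F] (Q : (Fin 8 → F) → F) (hQ : Cfsg.Geo.IsNondegenerateQuadraticForm Q) (hminus : ¬ Cfsg.Geo.IsPlusTypeOn Q ⊤) :
    (∀ W : Submodule F (Fin 8 → F), W ≠ ⊥ → Cfsg.Geo.IsTotallySingularQuad Q W → Cfsg.Geo.IsMaximalIn (Cfsg.Geo.omegaGL Q) (Cfsg.Geo.subspaceStabilizer W ⊓ Cfsg.Geo.omegaGL Q)) ∧
    (Odd (Fintype.card F) → ∀ W : Submodule F (Fin 8 → F), W ≠ ⊥ → W ≠ ⊤ → Odd (Module.finrank F W) → Cfsg.Geo.IsNondegenerateOn (QuadraticMap.polar Q) W → Cfsg.Geo.IsMaximalIn (Cfsg.Geo.omegaGL Q) (Cfsg.Geo.subspaceStabilizer W ⊓ Cfsg.Geo.omegaGL Q)) ∧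
    (∀ W : Submodule F (Fin 8 → F), Module.finrank F W = 2 → Cfsg.Geo.IsNondegenerateOn (QuadraticMap.polar Q) W → ¬ Cfsg.Geo.IsPlusTypeOn Q W → Cfsg.Geo.IsMaximalIn (Cfsg.Geo.omegaGL Q) (Cfsg.Geo.subspaceStabilizer W ⊓ Cfsg.Geo.omegaGL Q)) ∧
    (4 ≤ Fintype.card F → ∀ W : Submodule F (Fin 8 → F), Module.finrank F W = 2 → Cfsg.Geo.IsNondegenerateOn (QuadraticMap.polar Q) W → Cfsg.Geo.IsPlusTypeOn Q W → Cfsg.Geo.IsMaximalIn (Cfsg.Geo.omegaGL Q) (Cfsg.Geo.subspaceStabilizer W ⊓ Cfsg.Geo.omegaGL Q)) ∧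
    (∀ W : Submodule F (Fin 8 → F), Module.finrank F W = 4 → Cfsg.Geo.IsNondegenerateOn (QuadraticMap.polar Q) W → Cfsg.Geo.IsMaximalIn (Cfsg.Geo.omegaGL Q) (Cfsg.Geo.subspaceStabilizer W ⊓ Cfsg.Geo.omegaGL Q)) ∧
    (¬ Odd (Fintype.card F) → ∀ v : (Fin 8 → F), Q v ≠ 0 → Cfsg.Geo.IsMaximalIn (Cfsg.Geo.omegaGL Q) (Cfsg.Geo.subspaceStabilizer (Submodule.span F {v}) ⊓ Cfsg.Geo.omegaGL Q)) ∧
    (Odd (Fintype.card F) → ∀ K : Subalgebra F (Matrix (Fin 8) (Fin 8) F), Cfsg.Geo.IsFieldSubalgebra 2 K → Cfsg.Geo.IsSelfAdjointFor (QuadraticMap.polar Q) K → Cfsg.Geo.IsMaximalIn (Cfsg.Geo.omegaGL Q) (Cfsg.Geo.subalgebraNormalizer K ⊓ Cfsg.Geo.omegaGL Q)) ∧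
    (∀ (F₀ : Subfield F) (r : ℕ) (P : Matrix.GeneralLinearGroup (Fin 8) F) (ζ : F), r.Prime → Odd r → Fintype.card F = Nat.card F₀ ^ r → ζ ≠ 0 → Cfsg.Geo.IsQuadFormRationalStructure (fun v : Fin 8 → F => ζ * Q v) F₀ P → Cfsg.Geo.IsMaximalIn (Cfsg.Geo.omegaGL Q) (Cfsg.Geo.subfieldSubgroup F₀ P ⊓ Cfsg.Geo.omegaGL Q)) := by
  obtain ⟨q, rfl, hq⟩ := exists_quadraticForm hQ
  have hV : Module.finrank F (Fin 8 → F) = 8 := Module.finrank_fin_fun F
  have hbound : ∀ U : Submodule F (Fin 8 → F), (∀ u ∈ U, q u = 0) → 2 * Module.finrank F U < 8 := fun U hU => by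
    have h := two_mul_finrank_singular q hq hU
    have hne : 2 * Module.finrank F U ≠ 8 := fun he => hminus ⟨U, le_top, hU, by rw [he, finrank_top, hV]⟩
    omega
  have h8 : 8 ≤ Fintype.card (Fin 8) := by simp
  refine ⟨fun W hW0 hW => ?_, fun hodd W hW0 hW1 hWo hW => ?_, fun W hd hW hWm => ?_, fun hq4 W hd hW hWp => ?_,
    fun W hd hW => ?_, fun hchar v hv => ?_, fun hodd K hK hsa => ?_, fun F₀ r P ζ hr hro hcard hζ hP => ?_⟩
  · -- totally singular subspaces
    have hk := hbound W hW
    refine isMaximalIn_omegaGL q hq (by simp) (comap_subspaceStabilizer q W) (fun h => ?_)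
      fun M hM _ hne => eichGroup_le_of_singular q hq (by omega) hW ?_ hM hne
    · rw [eq_top_of_invariant q hq (by omega) hW0 h, finrank_top] at hk
      omega
    by_cases hlt : 2 * Module.finrank F W + 3 ≤ Module.finrank F (Fin 8 → F)
    · exact Or.inl hlt
    refine Or.inr fun U hU hle => (Submodule.eq_of_le_of_finrank_le hle ?_).symm
    have := hbound U hU
    omega
  · -- non-degenerate subspaces of odd dimension
    obtain ⟨k, hk⟩ := hWo
    have hd := finrank_qPerp q hq W
    refine isMaximalIn_nondeg_of_le q hq (Or.inr ⟨h8, ?_⟩) hW hW0 hW1 (fun h => ?_) (fun h => ?_) fun h => ?_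
    · rw [Fintype.card_fin]; omega
    · rw [Fintype.card_fin] at h; omega
    · have := h.2.1; omega
    · have := h.2.1; omega
  · -- elliptic planes
    have hdp := finrank_qPerp q hq W
    refine isMaximalIn_nondeg_of_le q hq (Or.inr ⟨h8, by rw [Fintype.card_fin]; omega⟩) hW
      (fun h => by rw [h, finrank_bot] at hd; omega) (fun h => by rw [h, finrank_top] at hd; omega)
      (fun h => by rw [Fintype.card_fin] at h; omega) (fun h => hWm h.2.2) fun h => ?_
    have := h.2.1
    omega
  · -- hyperbolic planes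
    have hdp := finrank_qPerp q hq W
    refine isMaximalIn_nondeg_of_le q hq (Or.inr ⟨h8, by rw [Fintype.card_fin]; omega⟩) hW
      (fun h => by rw [h, finrank_bot] at hd; omega) (fun h => by rw [h, finrank_top] at hd; omega)
      (fun h => by rw [Fintype.card_fin] at h; omega) (fun h => by have := h.1; omega) fun h => ?_
    have := h.2.1
    omega
  · -- halves
    have hWn := ndOn_of_isNondegenerateOn q hW
    have hno : ∀ T : Submodule F (Fin 8 → F), (∀ t ∈ T, q t = 0) → Module.finrank F T ≠ 4 := fun T hT he => by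
      have := hbound T hT
      omega
    refine isMaximalIn_omegaGL q hq (by simp) (comap_subspaceStabilizer q W) (fun h => ?_) fun M hM _ hne => ?_
    · have := congrArg (fun U : Submodule F (Fin 8 → F) => Module.finrank F U)
        (eq_top_of_invariant q hq (by omega) (fun h0 => by rw [h0, finrank_bot] at hd; omega) h)
      simp only [finrank_top] at this
      omega
    rcases exists_plane q hq hno hWn hd with ⟨U, hU, hUs, hUd⟩ | ⟨U, hU, hUs, hUd⟩
    · exact eichGroup_le_of_half q hq hV hno hWn hd hU hUs hUd hM hne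
    · have hst : qStab q (qPerp q W) = qStab q W := le_antisymm
        (fun g hg => qPerp_qPerp q hq W ▸ qPerp_invariant q hg) fun g hg => qPerp_invariant q hg
      exact eichGroup_le_of_half q hq hV hno (ndOn_qPerp q hq hWn) (by rw [finrank_qPerp q hq, hd, hV]) hU hUs hUd
        (by rwa [hst]) (by rwa [hst])
  · -- non-singular points
    have h2 : (2 : F) = 0 := by
      have h1 := FiniteField.even_card_iff_char_two (F := F)
      have h3 : ringChar F = 2 := h1.2 (Nat.even_iff.1 (Nat.not_odd_iff_even.1 hchar))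
      exact_mod_cast (ringChar.spec F 2).2 (by rw [h3])
    have hv0 : v ≠ 0 := fun h => hv (by rw [h, map_zero])
    refine isMaximalIn_omegaGL q hq (by simp) (comap_subspaceStabilizer q _) (fun h => ?_)
      fun M hM _ hne => eichGroup_le_of_point q h2 hq (by omega) hv hM hne
    have h1 := congrArg (fun W : Submodule F (Fin 8 → F) => Module.finrank F W)
      (eq_top_of_invariant q hq (by omega) (Submodule.span_singleton_eq_bot.not.2 hv0) h)
    simp only [finrank_top, hV, finrank_span_singleton hv0] at h1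
    omega
  · -- extension field
    have h2 : (2 : F) ≠ 0 := fun h => by
      haveI : CharP F 2 := CharTwo.of_one_ne_zero_of_two_eq_zero one_ne_zero h
      have := FiniteField.even_card_of_char_two (ringChar.eq F 2)
      rw [Nat.odd_iff] at hodd
      omega
    exact OrthField.isMaximalIn_orthField_of_le Nat.prime_two h2 (by simp) _ hQ K hK hsa
  · -- subfields
    exact OrthSubfield.isMaximalIn_subfield q hq (by simp) F₀ hr hcard P hζ hP

end Cfsg.Agent.S5825
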