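import Cfsg.Statements.S5826
import Cfsg.Agent.Lib.Techniques.AschEven.Norm
-- import your own Cfsg.Agent.* helpers here

set_option autoImplicit false
open Cfsg CfsgLib.Techniques.AschEven CfsgLib.Techniques.AschOmega CfsgLib.Techniques.AschPrime
open CfsgLib.Classical22 CfsgLib.Classical22.Asch

namespace Cfsg.Agent.S5826

/-- Every maximal subgroup of Ω_8^-(q) is of one of the listed geometric types or lies in the residual class. Let F be a finite field with q elements, Q a non-degenerate quadratic form on F^8 of minus type (no totally singular 4-space), Ω the commutator subgroup of its isometry group, and H a maximal subgroup of Ω (inside GL_8(F)). Then H is the intersection with Ω of one of: the stabiliser of a non-zero totally singular subspace; for q odd, the stabiliser of a non-degenerate subspace of odd dimension; the stabiliser of a non-degenerate 2-space of minus type; for q ≥ 4, the stabiliser of a non-degenerate 2-space of plus type; the stabiliser of a non-degenerate 4-space;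 for q even, the stabiliser of the span of a non-singular vector; the normaliser of a degree-2 subfield of the matrix algebra; a subfield group of odd prime index whose F₀-structure carries a non-zero multiple of Q — or else H lies in the residual class of the orthogonal case (modulo scalars H is almost simple, with absolutely irreducible perfect socle preimage realisable over no proper subfield and fixing no non-degenerate unitary form). -/
theorem result {F : Type*} [Field F] [Fintype F] (Q : (Fin 8 → F) → F) (hQ : Cfsg.Geo.IsNondegenerateQuadraticForm Q) (hminus : ¬ Cfsg.Geo.IsPlusTypeOn Q ⊤) (H : Subgroup (Matrix.GeneralLinearGroup (Fin 8) F)) (hH : Cfsg.Geo.IsMaximalIn (Cfsg.Geo.omegaGL Q) H) :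
    (∃ W : Submodule F (Fin 8 → F), W ≠ ⊥ ∧ Cfsg.Geo.IsTotallySingularQuad Q W ∧ H = Cfsg.Geo.subspaceStabilizer W ⊓ Cfsg.Geo.omegaGL Q) ∨
    (Odd (Fintype.card F) ∧ ∃ W : Submodule F (Fin 8 → F), W ≠ ⊥ ∧ W ≠ ⊤ ∧ Odd (Module.finrank F W) ∧ Cfsg.Geo.IsNondegenerateOn (QuadraticMap.polar Q) W ∧ H = Cfsg.Geo.subspaceStabilizer W ⊓ Cfsg.Geo.omegaGL Q) ∨
    (∃ W : Submodule F (Fin 8 → F), Module.finrank F W = 2 ∧ Cfsg.Geo.IsNondegenerateOn (QuadraticMap.polar Q) W ∧ ¬ Cfsg.Geo.IsPlusTypeOn Q W ∧ H = Cfsg.Geo.subspaceStabilizer W ⊓ Cfsg.Geo.omegaGL Q) ∨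
    (4 ≤ Fintype.card F ∧ ∃ W : Submodule F (Fin 8 → F), Module.finrank F W = 2 ∧ Cfsg.Geo.IsNondegenerateOn (QuadraticMap.polar Q) W ∧ Cfsg.Geo.IsPlusTypeOn Q W ∧ H = Cfsg.Geo.subspaceStabilizer W ⊓ Cfsg.Geo.omegaGL Q) ∨
    (∃ W : Submodule F (Fin 8 → F), Module.finrank F W = 4 ∧ Cfsg.Geo.IsNondegenerateOn (QuadraticMap.polar Q) W ∧ H = Cfsg.Geo.subspaceStabilizer W ⊓ Cfsg.Geo.omegaGL Q) ∨
    (¬ Odd (Fintype.card F) ∧ ∃ v : (Fin 8 → F), Q v ≠ 0 ∧ H = Cfsg.Geo.subspaceStabilizer (Submodule.span F {v}) ⊓ Cfsg.Geo.omegaGL Q) ∨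
    (∃ K : Subalgebra F (Matrix (Fin 8) (Fin 8) F), Cfsg.Geo.IsFieldSubalgebra 2 K ∧ H = Cfsg.Geo.subalgebraNormalizer K ⊓ Cfsg.Geo.omegaGL Q) ∨
    (∃ (F₀ : Subfield F) (r : ℕ) (P : Matrix.GeneralLinearGroup (Fin 8) F) (ζ : F), r.Prime ∧ Odd r ∧ Fintype.card F = Nat.card F₀ ^ r ∧ ζ ≠ 0 ∧ Cfsg.Geo.IsQuadFormRationalStructure (fun v : Fin 8 → F => ζ * Q v) F₀ P ∧ H = Cfsg.Geo.subfieldSubgroup F₀ P ⊓ Cfsg.Geo.omegaGL Q) ∨
    Cfsg.Geo.InOrthogonalResidualClass H := by
  classical
  obtain ⟨q, rfl, hQ'⟩ := exists_quadraticForm hQ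
  have hcard : Fintype.card (Fin 8) = 2 * 4 := by simp
  have hn5 : 5 ≤ Fintype.card (Fin 8) := by simp
  have hiso : H ≤ Cfsg.isometryGroup F ⇑q := hH.1.le.trans (omega_le_isometry _)
  have hsg : CfsgLib.Classical22.OrthType.Sg q ((-1)) :=
    (minus_iff_sg hQ' ⟨4, by simp⟩).1 hminus
  rcases even_class hQ' hcard (by norm_num) (by norm_num) hiso with h | h
  swap
  · iterate 8 right
    exact h
  cases h with
  | singular W h0 hs hle =>
    exact Or.inl ⟨W, h0, hs, eq_inf_of_le hH hle (not_omega_le_subspace q hQ' hn5 h0 (ts_ne_top hQ' (by simp) hs))⟩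
  | nondeg W h0 h1 hnd hle =>
    rcases nondeg_small hQ' (by norm_num) hcard hiso h0 h1 hnd hle with ⟨U, hU0, hU1, hU, hUd, hexc, hUle⟩ | ⟨hev, v, hv, hvle⟩
    · have hUn := isNondegenerateOn_of_ndOn hU
      have hUeq := eq_inf_of_le hH hUle (not_omega_le_subspace q hQ' hn5 hU0 hU1)
      have hUpos : Module.finrank F U ≠ 0 := fun h => hU0 (Submodule.finrank_eq_zero.1 h)
      rcases Nat.even_or_odd (Module.finrank F U) with he | ho
      swap
      · exact Or.inr (Or.inl ⟨odd_card_of_two (two_ne_zero_of_odd_dim hU ho), U, hU0, hU1, ho, hUn, hUeq⟩)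
      obtain ⟨u, hu⟩ := he
      rcases (show Module.finrank F U = 2 ∨ Module.finrank F U = 4 by omega) with e2 | e4
      · by_cases hp : Cfsg.Geo.IsPlusTypeOn ⇑q U
        · iterate 3 right
          left
          exact ⟨hexc e2 hp, U, e2, hUn, hp, hUeq⟩
        · iterate 2 right
          left
          exact ⟨U, e2, hUn, hp, hUeq⟩
      · iterate 4 right
        left
        exact ⟨U, e4, hUn, hUeq⟩
    · iterate 5 right
      left
      exact ⟨hev, v, hv, eq_inf_of_le hH hvle (point_proper hQ' hn5 hv)⟩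
  | point v h2 hv hle =>
    iterate 5 right
    left
    exact ⟨two_eq_zero_iff.1 h2, v, hv, eq_inf_of_le hH hle (point_proper hQ' hn5 hv)⟩
  | blocks t k D hD hirr hle =>
    have htk : 8 = t * k := by simpa using OrthDecomp.card_eq_mul hD.decomp.decomp
    have ht := hD.decomp.decomp.two_le
    exfalso
    rcases Nat.even_or_odd k with hk | hk
    · obtain ⟨ε, hε, -, hs⟩ := blocks_sign_even hD hk
      obtain ⟨j, rfl⟩ := hk
      have hkj : j ≤ 2 := by nlinarith
      have hte : Even t := by interval_cases j <;> exact ⟨t / 2, by omega⟩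
      have he := CfsgLib.Classical22.OrthType.sg_unique hs hsg
      rcases hε with rfl | rfl <;> simp [hte.neg_one_pow] at he
    · obtain ⟨-, s, η, hts, hη, -, hs⟩ := blocks_sign_odd hQ' hD hk ⟨4, by simp⟩
      have hk1 : k = 1 := by
        obtain ⟨j, rfl⟩ := hk
        have : j ≤ 1 := by nlinarith
        interval_cases j <;> omega
      subst hk1
      obtain rfl : s = 4 := by omega
      have he := CfsgLib.Classical22.OrthType.sg_unique hs hsg
      rcases hη with rfl | rfl <;> norm_num at he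
  | pair D hD hs hirr hle =>
    exact absurd ⟨D 0, le_top, hs 0, by rw [hD.finrank_eq, finrank_top, Module.finrank_pi, hcard]⟩ hminus
  | fieldSA r K hr hne hK hsa hle =>
    have hr8 : r ∣ 2 ^ 3 := by simpa using (sa_degree hn5 hr hK).1
    obtain rfl : r = 2 := (Nat.prime_dvd_prime_iff_eq hr Nat.prime_two).1 (hr.dvd_of_dvd_pow hr8)
    iterate 6 right
    left
    exact ⟨K, hK, eq_inf_of_le hH hle (not_omega_le_field q hQ' hn5 (by norm_num) hK)⟩
  | fieldU K hK hac hnsa hsim hle =>
    iterate 6 right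
    left
    exact ⟨K, hK, eq_inf_of_le hH hle (not_omega_le_field q hQ' hn5 (by norm_num) hK)⟩
  | tensorSym a b e P G₁ G₂ ha hab h2 hd₁ hd₂ hs₁ hs₂ hG hirr hle =>
    have h8 : 8 = a * b := by simpa using Fintype.card_congr e
    have := Nat.mul_le_mul ha (ha.trans hab)
    omega
  | tensorAlt b e P f₁ f₂ hs₁ hs₂ hf hz hle =>
    exact absurd (tensorAlt_plus (by simpa using Fintype.card_congr e) hz) hminus
  | subfield F₀ r P ζ hr hc hζ hP hle =>
    rcases hr.eq_two_or_odd' with rfl | hro
    · exact absurd (plus_of_index_two hQ' (by norm_num) hcard hc hζ hP) hminus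
    · iterate 7 right
      left
      exact ⟨F₀, r, P, ζ, hr, hro, hc, hζ, hP,
        eq_inf_of_le hH hle (not_omega_le_subfield_scaled hQ' (by simp) hr hc hζ hP)⟩
  | eight h8 hp => exact absurd hp hminus

end Cfsg.Agent.S5826
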