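import Cfsg.Statements.S5834
import Cfsg.Agent.S5674
import Cfsg.Agent.Lib.Classical22.OrthMaxSubspace
import Cfsg.Agent.Lib.Classical22.OrthDecompMax
import Cfsg.Agent.Lib.Classical22.OrthSubfieldMatrix
import Cfsg.Agent.Lib.Classical22.OrthFieldThree.Main
import Cfsg.Agent.Lib.Classical22.OrthWreathThree.Main
import Cfsg.Agent.Lib.Classical22.Frame.Transfer

set_option autoImplicit false
open Cfsg

namespace Cfsg.Agent.S5834

open CfsgLib.Classical CfsgLib.Classical22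

theorem maximal_nondeg {ι : Type} [Fintype ι] [DecidableEq ι] {F : Type*} [Field F] [Fintype F]
    (h2 : (2 : F) ≠ 0) (q : QuadraticForm F (ι → F)) (hQ : PolarNondeg q) (hc : Fintype.card ι = 9)
    (W : Submodule F (ι → F)) (hW0 : W ≠ ⊥) (he : Even (Module.finrank F W))
    (hW : Cfsg.Geo.IsNondegenerateOn (QuadraticMap.polar q) W)
    (hex : ¬ (Fintype.card F = 3 ∧ Module.finrank F W = 2 ∧ Cfsg.Geo.IsPlusTypeOn ⇑q W)) :
    Cfsg.Geo.IsMaximalIn (Cfsg.Geo.omegaGL ⇑q) (Cfsg.Geo.subspaceStabilizer W ⊓ Cfsg.Geo.omegaGL ⇑q) := by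
  have hV : Module.finrank F (ι → F) = 9 := by rw [Module.finrank_pi, hc]
  have hd := finrank_qPerp q hQ W
  obtain ⟨k, hk⟩ := he
  have h3 : 3 ≤ Fintype.card F := by
    have h1 : 1 < Fintype.card F := Fintype.one_lt_card
    have h2' : Fintype.card F ≠ 2 := fun h => h2 (by
      have := FiniteField.cast_card_eq_zero (K := F)
      rw [h] at this
      exact_mod_cast this)
    omega
  refine isMaximalIn_nondeg_of_le q hQ (Or.inl (by omega)) hW hW0 (fun h => ?_) (fun h => by omega)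
    (fun h => hex ⟨by omega, h.2.1, h.2.2⟩) (fun h => by omega)
  rw [h, finrank_top] at hk
  omega

/-- Maximal subgroups of Ω_9(q) of geometric type, q odd. Let F be a finite field of odd order q, Q the standard quadratic form x₀² + Σ x_i y_i on F^9 (coordinates Unit ⊕ (Fin 4 ⊕ Fin 4)), and Ω = Ω_9(q) the commutator subgroup of its isometry group, inside GL_9(F). Each of the following, intersected with Ω, is a maximal subgroup of Ω: (1) the stabiliser of any non-zero subspace on which Q vanishes identically (totally singular 1- to 4-spaces); (2) the stabiliser of any non-zero even-dimensional subspace W (dimension 2, 4, 6 or 8) on which the polar form of Q is non-degenerate (equivalently of its odd-dimensional orthogonal complement), except when q = 3 and W is a 2-space containing a non-zero singular vector (a plus-type plane); (3) for q = p prime, the stabiliser of any decomposition of F^9 into nine pairwise orthogonal,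 pairwise Q-isometric non-degenerate 1-spaces; (4) for q ≥ 5, the stabiliser of any decomposition of F^9 into three pairwise orthogonal, pairwise Q-isometric non-degenerate 3-spaces; (5) the normaliser of any degree-3 subfield K of the matrix algebra whose elements are self-adjoint for the polar form of Q (Q is then the trace of a quadratic form over K); (6) every subfield group for a subfield F₀ with |F| = |F₀|^r, r prime, whose F₀-structure carries Q; (7) for q ≥ 5, the stabiliser of any decomposition of the polar form of Q as the tensor square of a non-degenerate symmetric bilinear form on F^3 up to a scalar (tensor-wreath subgroup). -/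
theorem result {F : Type*} [Field F] [Fintype F] (hodd : Odd (Fintype.card F)) :
    (∀ W : Submodule F (Unit ⊕ (Fin 4 ⊕ Fin 4) → F), W ≠ ⊥ → Cfsg.Geo.IsTotallySingularQuad (Cfsg.quadFormOdd 4 F) W → Cfsg.Geo.IsMaximalIn (Cfsg.Geo.omegaGL (Cfsg.quadFormOdd 4 F)) (Cfsg.Geo.subspaceStabilizer W ⊓ Cfsg.Geo.omegaGL (Cfsg.quadFormOdd 4 F))) ∧
    (∀ W : Submodule F (Unit ⊕ (Fin 4 ⊕ Fin 4) → F), W ≠ ⊥ → Even (Module.finrank F W) → Cfsg.Geo.IsNondegenerateOn (QuadraticMap.polar (Cfsg.quadFormOdd 4 F)) W → ¬ (Fintype.card F = 3 ∧ Module.finrank F W = 2 ∧ Cfsg.Geo.IsPlusTypeOn (Cfsg.quadFormOdd 4 F) W) → Cfsg.Geo.IsMaximalIn (Cfsg.Geo.omegaGL (Cfsg.quadFormOdd 4 F)) (Cfsg.Geo.subspaceStabilizer W ⊓ Cfsg.Geo.omegaGL (Cfsg.quadFormOdd 4 F))) ∧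
    ((Fintype.card F).Prime → ∀ D : Fin 9 → Submodule F (Unit ⊕ (Fin 4 ⊕ Fin 4) → F), Cfsg.Geo.IsOrthogonalMDecomposition (Cfsg.quadFormOdd 4 F) 1 D → Cfsg.Geo.IsMaximalIn (Cfsg.Geo.omegaGL (Cfsg.quadFormOdd 4 F)) (Cfsg.Geo.decompositionStabilizer D ⊓ Cfsg.Geo.omegaGL (Cfsg.quadFormOdd 4 F))) ∧
    (5 ≤ Fintype.card F → ∀ D : Fin 3 → Submodule F (Unit ⊕ (Fin 4 ⊕ Fin 4) → F), Cfsg.Geo.IsOrthogonalMDecomposition (Cfsg.quadFormOdd 4 F) 3 D → Cfsg.Geo.IsMaximalIn (Cfsg.Geo.omegaGL (Cfsg.quadFormOdd 4 F)) (Cfsg.Geo.decompositionStabilizer D ⊓ Cfsg.Geo.omegaGL (Cfsg.quadFormOdd 4 F))) ∧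
    (∀ K : Subalgebra F (Matrix (Unit ⊕ (Fin 4 ⊕ Fin 4)) (Unit ⊕ (Fin 4 ⊕ Fin 4)) F), Cfsg.Geo.IsFieldSubalgebra 3 K → Cfsg.Geo.IsSelfAdjointFor (QuadraticMap.polar (Cfsg.quadFormOdd 4 F)) K → Cfsg.Geo.IsMaximalIn (Cfsg.Geo.omegaGL (Cfsg.quadFormOdd 4 F)) (Cfsg.Geo.subalgebraNormalizer K ⊓ Cfsg.Geo.omegaGL (Cfsg.quadFormOdd 4 F))) ∧
    (∀ (F₀ : Subfield F) (r : ℕ) (P : Matrix.GeneralLinearGroup (Unit ⊕ (Fin 4 ⊕ Fin 4)) F), r.Prime → Fintype.card F = Nat.card F₀ ^ r → Cfsg.Geo.IsQuadFormRationalStructure (Cfsg.quadFormOdd 4 F) F₀ P → Cfsg.Geo.IsMaximalIn (Cfsg.Geo.omegaGL (Cfsg.quadFormOdd 4 F)) (Cfsg.Geo.subfieldSubgroup F₀ P ⊓ Cfsg.Geo.omegaGL (Cfsg.quadFormOdd 4 F))) ∧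
    (5 ≤ Fintype.card F → ∀ (e : (Unit ⊕ (Fin 4 ⊕ Fin 4)) ≃ (Fin 2 → Fin 3)) (P : Matrix.GeneralLinearGroup (Unit ⊕ (Fin 4 ⊕ Fin 4)) F) (f₁ : (Fin 3 → F) → (Fin 3 → F) → F), Cfsg.Geo.IsSymmetricForm f₁ → Cfsg.Geo.IsTensorPowerFormStructure id (QuadraticMap.polar (Cfsg.quadFormOdd 4 F)) f₁ e P → Cfsg.Geo.IsMaximalIn (Cfsg.Geo.omegaGL (Cfsg.quadFormOdd 4 F)) (Cfsg.Geo.tensorWreathSubgroup 3 2 e P ⊓ Cfsg.Geo.omegaGL (Cfsg.quadFormOdd 4 F))) := by
  have h2 : (2 : F) ≠ 0 := Ring.two_ne_zero fun h => Nat.not_even_iff_odd.2 hodd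
    (Nat.even_iff.2 (FiniteField.even_card_iff_char_two.1 h))
  rw [← coe_qOdd]
  have hQ := polarNondeg_qOdd (F := F) h2 4
  have hQ₀ : Cfsg.Geo.IsNondegenerateQuadraticForm ⇑(qOdd 4 F) :=
    ⟨fun c v => by rw [(qOdd 4 F).map_smul, smul_eq_mul, sq],
      ⟨fun x y v => QuadraticMap.polar_add_left _ x y v,
        fun c x v => (QuadraticMap.polar_smul_left _ c x v).trans (smul_eq_mul _ _),
        fun v x y => QuadraticMap.polar_add_right _ v x y,
        fun c v x => (QuadraticMap.polar_smul_right _ c v x).trans (smul_eq_mul _ _)⟩,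
      fun v hv => by
        obtain ⟨x, hx⟩ := not_forall.1 fun h => hv (hQ v h)
        exact ⟨⟨x, by rwa [QuadraticMap.polar_comm]⟩, ⟨x, hx⟩⟩⟩
  exact ⟨fun W hW0 hW => S5674.maximal_odd (qOdd 4 F) hQ (m := 4) (by omega) (by simp) W hW0 hW,
    fun W hW0 he hW hex => maximal_nondeg h2 (qOdd 4 F) hQ (by simp) W hW0 he hW hex,
    fun hprime D hD => Frame.isMaximalIn_frame h2 _ hQ (by omega) hD fun H hM _ =>
      (Frame.base_of_mono_le h2 hprime (by omega) hM).odd_dichotomy ⟨4, rfl⟩,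
    fun h5 D hD => OrthDecomp.isMaximalIn_decomp h2 (qOdd 4 F) hQ (by simp) (le_refl 3) (Or.inl h5) hD,
    fun K hK hsa => OrthField.Cubic.isMaximalIn_orthFieldThree h2 (by simp) _ hQ₀ K hK hsa,
    fun F₀ r P hr hcard hP => OrthSubfield.isMaximalIn_subfield (qOdd 4 F) hQ (by simp) F₀ hr hcard P one_ne_zero
      (by simpa only [one_mul] using hP),
    fun h5 e P f₁ hf hP => WrThree.isMaximalIn_orthWreathThree h2 h5 _ hQ₀ e P f₁ hf hP⟩

end Cfsg.Agent.S5834
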