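import Cfsg.Statements.S5835
import Cfsg.Agent.Lib.Techniques.AschOmega.Refine
import Cfsg.Agent.Lib.Techniques.AschOmega.Odd
-- import your own Cfsg.Agent.* helpers here

set_option autoImplicit false
open Cfsg CfsgLib.Techniques.AschOmega CfsgLib.Techniques.AschPrime

namespace Cfsg.Agent.S5835

/-- Every maximal subgroup of Ω_9(q), q odd, is of one of the listed geometric types or lies in the residual class. Let F be a finite field of odd order q, Q the standard quadratic form x₀² + Σ x_i y_i on F^9 (coordinates Unit ⊕ (Fin 4 ⊕ Fin 4)), Ω the commutator subgroup of its isometry group, and H a maximal subgroup of Ω (inside GL_9(F)). Then H is the intersection with Ω of one of: the stabiliser of a non-zero totally singular subspace; the stabiliser of a non-zero non-degenerate subspace of even dimension (not a plus-type plane when q = 3); for q prime, the stabiliser of a decomposition into nine pairwise orthogonal, pairwise isometric non-degenerate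 1-spaces; for q ≥ 5, the stabiliser of a decomposition into three pairwise orthogonal, pairwise isometric non-degenerate 3-spaces; the normaliser of a degree-3 subfield of the matrix algebra, self-adjoint for the polar form; a subfield group (|F| = |F₀|^r, r prime) whose F₀-structure carries Q; for q ≥ 5, the stabiliser of a tensor decomposition of the polar form as a tensor square of a symmetric form on F^3 — or else H lies in the residual class of the orthogonal case (modulo scalars H is almost simple, with absolutely irreducible perfect socle preimage realisable over no proper subfield and fixing no non-degenerate unitary form). -/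
theorem result {F : Type*} [Field F] [Fintype F] (hodd : Odd (Fintype.card F)) (H : Subgroup (Matrix.GeneralLinearGroup (Unit ⊕ (Fin 4 ⊕ Fin 4)) F)) (hH : Cfsg.Geo.IsMaximalIn (Cfsg.Geo.omegaGL (Cfsg.quadFormOdd 4 F)) H) :
    (∃ W : Submodule F (Unit ⊕ (Fin 4 ⊕ Fin 4) → F), W ≠ ⊥ ∧ Cfsg.Geo.IsTotallySingularQuad (Cfsg.quadFormOdd 4 F) W ∧ H = Cfsg.Geo.subspaceStabilizer W ⊓ Cfsg.Geo.omegaGL (Cfsg.quadFormOdd 4 F)) ∨
    (∃ W : Submodule F (Unit ⊕ (Fin 4 ⊕ Fin 4) → F), W ≠ ⊥ ∧ Even (Module.finrank F W) ∧ Cfsg.Geo.IsNondegenerateOn (QuadraticMap.polar (Cfsg.quadFormOdd 4 F)) W ∧ ¬ (Fintype.card F = 3 ∧ Module.finrank F W = 2 ∧ Cfsg.Geo.IsPlusTypeOn (Cfsg.quadFormOdd 4 F) W) ∧ H = Cfsg.Geo.subspaceStabilizer W ⊓ Cfsg.Geo.omegaGL (Cfsg.quadFormOdd 4 F)) ∨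
    ((Fintype.card F).Prime ∧ ∃ D : Fin 9 → Submodule F (Unit ⊕ (Fin 4 ⊕ Fin 4) → F), Cfsg.Geo.IsOrthogonalMDecomposition (Cfsg.quadFormOdd 4 F) 1 D ∧ H = Cfsg.Geo.decompositionStabilizer D ⊓ Cfsg.Geo.omegaGL (Cfsg.quadFormOdd 4 F)) ∨
    (5 ≤ Fintype.card F ∧ ∃ D : Fin 3 → Submodule F (Unit ⊕ (Fin 4 ⊕ Fin 4) → F), Cfsg.Geo.IsOrthogonalMDecomposition (Cfsg.quadFormOdd 4 F) 3 D ∧ H = Cfsg.Geo.decompositionStabilizer D ⊓ Cfsg.Geo.omegaGL (Cfsg.quadFormOdd 4 F)) ∨
    (∃ K : Subalgebra F (Matrix (Unit ⊕ (Fin 4 ⊕ Fin 4)) (Unit ⊕ (Fin 4 ⊕ Fin 4)) F), Cfsg.Geo.IsFieldSubalgebra 3 K ∧ Cfsg.Geo.IsSelfAdjointFor (QuadraticMap.polar (Cfsg.quadFormOdd 4 F)) K ∧ H = Cfsg.Geo.subalgebraNormalizer K ⊓ Cfsg.Geo.omegaGL (Cfsg.quadFormOdd 4 F)) ∨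
    (∃ (F₀ : Subfield F) (r : ℕ) (P : Matrix.GeneralLinearGroup (Unit ⊕ (Fin 4 ⊕ Fin 4)) F), r.Prime ∧ Fintype.card F = Nat.card F₀ ^ r ∧ Cfsg.Geo.IsQuadFormRationalStructure (Cfsg.quadFormOdd 4 F) F₀ P ∧ H = Cfsg.Geo.subfieldSubgroup F₀ P ⊓ Cfsg.Geo.omegaGL (Cfsg.quadFormOdd 4 F)) ∨
    (5 ≤ Fintype.card F ∧ ∃ (e : (Unit ⊕ (Fin 4 ⊕ Fin 4)) ≃ (Fin 2 → Fin 3)) (P : Matrix.GeneralLinearGroup (Unit ⊕ (Fin 4 ⊕ Fin 4)) F) (f₁ : (Fin 3 → F) → (Fin 3 → F) → F), Cfsg.Geo.IsSymmetricForm f₁ ∧ Cfsg.Geo.IsTensorPowerFormStructure id (QuadraticMap.polar (Cfsg.quadFormOdd 4 F)) f₁ e P ∧ H = Cfsg.Geo.tensorWreathSubgroup 3 2 e P ⊓ Cfsg.Geo.omegaGL (Cfsg.quadFormOdd 4 F)) ∨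
    Cfsg.Geo.InOrthogonalResidualClass H := by
  classical
  have h2 : (2 : F) ≠ 0 := CfsgLib.Classical22.OrthType.two_ne_zero_of_odd rfl hodd
  rw [← CfsgLib.Classical.coe_qOdd] at hH ⊢
  obtain ⟨q, hq⟩ : ∃ q, q = CfsgLib.Classical.qOdd 4 F := ⟨_, rfl⟩
  have hQ := hq ▸ CfsgLib.Classical22.OrthType.polarNondeg_qOdd' h2 4
  rw [← hq] at hH ⊢
  have hcard : Fintype.card (Unit ⊕ (Fin 4 ⊕ Fin 4)) = 9 := by simp
  have hiso : H ≤ Cfsg.isometryGroup F ⇑q := hH.1.le.trans (omega_le_isometry _)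
  rcases odd_class hcard (by norm_num) (by decide) q hQ h2 (fun F₀ => hq ▸ polarMat_qOdd_mem F₀) hiso
      (hH.1.le.trans (omega_le_special _)) with h | h
  swap
  · iterate 7 right
    exact h
  cases h with
  | singular W h0 hs hle =>
    refine Or.inl ⟨W, h0, hs, eq_inf_of_le hH hle (not_omega_le_subspace q hQ (by simp) h0 fun htop => ?_)⟩
    have h1 := CfsgLib.Classical22.two_mul_finrank_singular q hQ hs
    rw [htop, finrank_top, Module.finrank_pi, hcard] at h1
    omega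
  | nondeg W h0 h1 hnd hle =>
    obtain ⟨U, hU0, hU1, hUe, hUnd, hexc, hUle⟩ := nondeg_even hQ h2 (by rw [hcard]; decide) (by simp) hiso h0 h1 hnd hle
    exact Or.inr (Or.inl ⟨U, hU0, hUe, hUnd, hexc, eq_inf_of_le hH hUle (not_omega_le_subspace q hQ (by simp) hU0 hU1)⟩)
  | lines t D hp hD hle =>
    obtain rfl : t = 9 := by
      have := hcard ▸ CfsgLib.Classical22.OrthDecomp.card_eq_mul hD.decomp.decomp
      omega
    exact Or.inr (Or.inr (Or.inl ⟨hp, D, hD, eq_inf_of_le hH hle (not_omega_le_lines q hQ (by simp) hD)⟩))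
  | blocks t k D hk hD hle =>
    have htk : 9 = t * k := hcard ▸ CfsgLib.Classical22.OrthDecomp.card_eq_mul hD.decomp.decomp
    have ht := hD.decomp.decomp.two_le
    obtain rfl : k = 3 := by
      have hk9 : k ≤ 4 := by
        by_contra hk5
        have : 2 * 5 ≤ t * k := Nat.mul_le_mul ht (by omega)
        omega
      interval_cases k <;> omega
    obtain rfl : t = 3 := by omega
    by_cases hq5 : 5 ≤ Fintype.card F
    · exact Or.inr (Or.inr (Or.inr (Or.inl ⟨hq5, D, hD,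
        eq_inf_of_le hH hle (not_omega_le_blocks q hQ (by simp) le_rfl hD)⟩)))
    have hq3 : Fintype.card F = 3 := by
      have := Fintype.one_lt_card (α := F)
      obtain ⟨a, ha⟩ := hodd
      omega
    obtain ⟨D', hD', hst⟩ := blocks_to_lines hq3 hcard hD
    exact Or.inr (Or.inr (Or.inl ⟨hq3 ▸ Nat.prime_three, D', hD', eq_inf_of_le hH ((le_inf hle hiso).trans hst)
      (not_omega_le_lines q hQ (by simp) hD')⟩))
  | field r K hr hne hK hsa hle =>
    obtain rfl : r = 3 := by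
      have h9 : r ∣ 3 ^ 2 := by simpa using hcard ▸ field_dvd hK
      exact (Nat.prime_dvd_prime_iff_eq hr Nat.prime_three).mp (hr.dvd_of_dvd_pow h9)
    exact Or.inr (Or.inr (Or.inr (Or.inr (Or.inl ⟨K, hK, hsa,
      eq_inf_of_le hH hle (not_omega_le_field q hQ (by simp) (by norm_num) hK)⟩))))
  | tensor n₁ n₂ e P f₁ f₂ h3 hlt hs₁ hs₂ hf hle =>
    have h9 : 9 = n₁ * n₂ := by simpa using Fintype.card_congr e
    have : 3 * 4 ≤ n₁ * n₂ := Nat.mul_le_mul h3 (by omega)
    omega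
  | subfield F₀ r P hr hc hP hle =>
    exact Or.inr (Or.inr (Or.inr (Or.inr (Or.inr (Or.inl ⟨F₀, r, P, hr, hc, hP, eq_inf_of_le hH hle
      (not_omega_le_subfield q hQ (by simp)
        (CfsgLib.Classical22.OrthSubfield.eq_top_of_prime_degree F₀ hr hc).1 hP)⟩)))))
  | wreath k t e P c h3 ht hne hc hG hle =>
    have h9 : 9 = k ^ t := by simpa using Fintype.card_congr e
    obtain rfl : t = 2 := by
      by_contra ht2
      have : 3 ^ 3 ≤ k ^ t := (Nat.pow_le_pow_right (by norm_num) (by omega)).trans (Nat.pow_le_pow_left h3 t)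
      omega
    obtain rfl : k = 3 := by nlinarith
    have hq5 : 5 ≤ Fintype.card F := by
      have := Fintype.one_lt_card (α := F)
      obtain ⟨a, ha⟩ := hodd
      omega
    exact Or.inr (Or.inr (Or.inr (Or.inr (Or.inr (Or.inr (Or.inl ⟨hq5, e, P, _,
      CfsgLib.Classical22.Asch.formOfGram_symmetric (G := (1 : Matrix (Fin 3) (Fin 3) F))
        (by rw [Matrix.det_one]; exact one_ne_zero) Matrix.transpose_one,
      isTensorPower_of_scalar (CfsgLib.Techniques.AschPrime.IsSesq.of_bilinear (polar_bilin _)) hc hG,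
      eq_inf_of_le hH hle (not_omega_le_square q h2 hQ (by simp) hG)⟩))))))

end Cfsg.Agent.S5835
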