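import Cfsg.Statements.S5847
import Cfsg.Agent.Lib.Techniques.AschEven.Norm
-- import your own Cfsg.Agent.* helpers here

set_option autoImplicit false
open Cfsg CfsgLib.Techniques.AschEven CfsgLib.Techniques.AschOmega CfsgLib.Techniques.AschPrime
open CfsgLib.Classical22 CfsgLib.Classical22.Asch

namespace Cfsg.Agent.S5847

/-- Every maximal subgroup of Ω_10^+(q) is of one of the listed geometric types or lies in the residual class. Let F be a finite field with q elements (characteristic p), Q a non-degenerate quadratic form on F^10 of plus type (Witt index 5: some totally singular 5-space), Ω the commutator subgroup of its isometry group, and H a maximal subgroup of Ω (inside GL_10(F)). Then H is the intersection with Ω of one of: the stabiliser of a non-zero totally singular subspace of dimension ≠ 4; for q odd, the stabiliser of a non-degenerate subspace of odd dimension ≠ 5; the stabiliser of a non-degenerate 2-space of minus type; for q ≥ 4, the stabiliser of a non-degenerate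 2-space of plus type; the stabiliser of a non-degenerate 4-space; for q even, the stabiliser of the span of a non-singular vector; for q = p prime with p ≡ 1 mod 4, the stabiliser of a decomposition into 10 pairwise orthogonal, pairwise isometric non-degenerate 1-spaces; for q ≥ 7, the stabiliser of a decomposition into 5 pairwise orthogonal, pairwise isometric non-degenerate 2-spaces; for q ≡ 1 mod 4, the stabiliser of a decomposition into 2 pairwise orthogonal, pairwise isometric non-degenerate 5-spaces; for q ≡ 3 mod 4, the stabiliser of a decomposition into two orthogonal, non-isometric non-degenerate 5-spaces; for q odd, the normaliser of a degree-2 subfield of the matrix algebra, self-adjoint for the polar form; a subfield group (|F| = |F₀|^r, r prime) whose F₀-structure carries a non-zero multiple of Q — or else H lies in the residual class of the orthogonal case (modulo scalars H is almost simple, with absolutely irreducible perfect socle preimage realisable over no proper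 subfield and fixing no non-degenerate unitary form). -/
theorem result {F : Type*} [Field F] [Fintype F] (Q : (Fin 10 → F) → F) (hQ : Cfsg.Geo.IsNondegenerateQuadraticForm Q) (hplus : Cfsg.Geo.IsPlusTypeOn Q ⊤) (H : Subgroup (Matrix.GeneralLinearGroup (Fin 10) F)) (hH : Cfsg.Geo.IsMaximalIn (Cfsg.Geo.omegaGL Q) H) :
    (∃ W : Submodule F (Fin 10 → F), W ≠ ⊥ ∧ Cfsg.Geo.IsTotallySingularQuad Q W ∧ Module.finrank F W ≠ 4 ∧ H = Cfsg.Geo.subspaceStabilizer W ⊓ Cfsg.Geo.omegaGL Q) ∨
    (Odd (Fintype.card F) ∧ ∃ W : Submodule F (Fin 10 → F), W ≠ ⊥ ∧ W ≠ ⊤ ∧ Odd (Module.finrank F W) ∧ 2 * Module.finrank F W ≠ 10 ∧ Cfsg.Geo.IsNondegenerateOn (QuadraticMap.polar Q) W ∧ H = Cfsg.Geo.subspaceStabilizer W ⊓ Cfsg.Geo.omegaGL Q) ∨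
    (∃ W : Submodule F (Fin 10 → F), Module.finrank F W = 2 ∧ Cfsg.Geo.IsNondegenerateOn (QuadraticMap.polar Q) W ∧ ¬ Cfsg.Geo.IsPlusTypeOn Q W ∧ H = Cfsg.Geo.subspaceStabilizer W ⊓ Cfsg.Geo.omegaGL Q) ∨
    (4 ≤ Fintype.card F ∧ ∃ W : Submodule F (Fin 10 → F), Module.finrank F W = 2 ∧ Cfsg.Geo.IsNondegenerateOn (QuadraticMap.polar Q) W ∧ Cfsg.Geo.IsPlusTypeOn Q W ∧ H = Cfsg.Geo.subspaceStabilizer W ⊓ Cfsg.Geo.omegaGL Q) ∨
    (∃ W : Submodule F (Fin 10 → F), Module.finrank F W = 4 ∧ Cfsg.Geo.IsNondegenerateOn (QuadraticMap.polar Q) W ∧ H = Cfsg.Geo.subspaceStabilizer W ⊓ Cfsg.Geo.omegaGL Q) ∨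
    (¬ Odd (Fintype.card F) ∧ ∃ v : (Fin 10 → F), Q v ≠ 0 ∧ H = Cfsg.Geo.subspaceStabilizer (Submodule.span F {v}) ⊓ Cfsg.Geo.omegaGL Q) ∨
    ((∃ p : ℕ, p.Prime ∧ Fintype.card F = p ∧ (p % 4 = 1)) ∧ ∃ D : Fin 10 → Submodule F (Fin 10 → F), Cfsg.Geo.IsOrthogonalMDecomposition Q 1 D ∧ H = Cfsg.Geo.decompositionStabilizer D ⊓ Cfsg.Geo.omegaGL Q) ∨
    (7 ≤ Fintype.card F ∧ ∃ D : Fin 5 → Submodule F (Fin 10 → F), Cfsg.Geo.IsOrthogonalMDecomposition Q 2 D ∧ H = Cfsg.Geo.decompositionStabilizer D ⊓ Cfsg.Geo.omegaGL Q) ∨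
    (Fintype.card F % 4 = 1 ∧ ∃ D : Fin 2 → Submodule F (Fin 10 → F), Cfsg.Geo.IsOrthogonalMDecomposition Q 5 D ∧ H = Cfsg.Geo.decompositionStabilizer D ⊓ Cfsg.Geo.omegaGL Q) ∨
    (Fintype.card F % 4 = 3 ∧ ∃ D : Fin 2 → Submodule F (Fin 10 → F), Cfsg.Geo.IsNondegenerateMDecomposition (QuadraticMap.polar Q) 5 D ∧ ¬ Cfsg.Geo.AreIsometricFor Q (D 0) (D 1) ∧ H = Cfsg.Geo.decompositionStabilizer D ⊓ Cfsg.Geo.omegaGL Q) ∨
    (Odd (Fintype.card F) ∧ ∃ K : Subalgebra F (Matrix (Fin 10) (Fin 10) F), Cfsg.Geo.IsFieldSubalgebra 2 K ∧ Cfsg.Geo.IsSelfAdjointFor (QuadraticMap.polar Q) K ∧ H = Cfsg.Geo.subalgebraNormalizer K ⊓ Cfsg.Geo.omegaGL Q) ∨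
    (∃ (F₀ : Subfield F) (r : ℕ) (P : Matrix.GeneralLinearGroup (Fin 10) F) (ζ : F), r.Prime ∧ Fintype.card F = Nat.card F₀ ^ r ∧ ζ ≠ 0 ∧ Cfsg.Geo.IsQuadFormRationalStructure (fun v : Fin 10 → F => ζ * Q v) F₀ P ∧ H = Cfsg.Geo.subfieldSubgroup F₀ P ⊓ Cfsg.Geo.omegaGL Q) ∨
    Cfsg.Geo.InOrthogonalResidualClass H := by
  classical
  obtain ⟨q, rfl, hQ'⟩ := exists_quadraticForm hQ
  have hcard : Fintype.card (Fin 10) = 2 * 5 := by simp
  have hn5 : 5 ≤ Fintype.card (Fin 10) := by simp
  have hiso : H ≤ Cfsg.isometryGroup F ⇑q := hH.1.le.trans (omega_le_isometry _)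
  have hsg : CfsgLib.Classical22.OrthType.Sg q (1) :=
    (plus_iff_sg hQ' ⟨5, by simp⟩).1 hplus
  rcases even_class hQ' hcard (by norm_num) (by norm_num) hiso with h | h
  swap
  · iterate 12 right
    exact h
  cases h with
  | singular W h0 hs hle =>
    by_cases h4 : Module.finrank F W = 4
    · obtain ⟨U, hU0, hUs, hUd, hUle⟩ := singular_extend hQ' (by norm_num) hcard hplus hs (by omega) hH.1.le hle
      exact Or.inl ⟨U, hU0, hUs, by omega, eq_inf_of_le hH hUle (not_omega_le_subspace q hQ' hn5 hU0 (ts_ne_top hQ' (by simp) hUs))⟩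
    exact Or.inl ⟨W, h0, hs, h4, eq_inf_of_le hH hle (not_omega_le_subspace q hQ' hn5 h0 (ts_ne_top hQ' (by simp) hs))⟩
  | nondeg W h0 h1 hnd hle =>
    rcases nondeg_small hQ' (by norm_num) hcard hiso h0 h1 hnd hle with ⟨U, hU0, hU1, hU, hUd, hexc, hUle⟩ | ⟨hev, v, hv, hvle⟩
    · have hUn := isNondegenerateOn_of_ndOn hU
      have hUeq := eq_inf_of_le hH hUle (not_omega_le_subspace q hQ' hn5 hU0 hU1)
      have hUpos : Module.finrank F U ≠ 0 := fun h => hU0 (Submodule.finrank_eq_zero.1 h)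
      rcases Nat.even_or_odd (Module.finrank F U) with he | ho
      swap
      · have h2 := two_ne_zero_of_odd_dim hU ho
        by_cases h5 : Module.finrank F U = 5
        · have hp := perp_pair hQ' hU (by norm_num) h5 (by simp)
          have hpl := pair_le hiso hp.decomp hUle
          have hpeq := eq_inf_of_le hH hpl (not_omega_le_two q hQ' hn5 hp.decomp)
          have hio := pair_odd hQ' hU ⟨2, rfl⟩ h5 (by simp) hsg
          by_cases hi : Cfsg.Geo.AreIsometricFor ⇑q U (qPerp q U)
          · have hmod : Fintype.card F % 4 = 1 := (sq_neg_one_iff h2).1.1 (by simpa using hio.1 hi)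
            iterate 8 right
            left
            exact ⟨hmod, ![U, qPerp q U], orth_of_pair hp hi, hpeq⟩
          · have hmod : Fintype.card F % 4 = 3 := (sq_neg_one_iff h2).2.1 (by
              have h := fun h' => hi (hio.2 h')
              simpa using h)
            iterate 9 right
            left
            exact ⟨hmod, ![U, qPerp q U], hp, hi, hpeq⟩
        exact Or.inr (Or.inl ⟨odd_card_of_two h2, U, hU0, hU1, ho, by omega, hUn, hUeq⟩)
      obtain ⟨u, hu⟩ := he
      rcases (show Module.finrank F U = 2 ∨ Module.finrank F U = 4 by omega) with e2 | e4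
      · by_cases hp : Cfsg.Geo.IsPlusTypeOn ⇑q U
        · iterate 3 right
          left
          exact ⟨hexc e2 hp, U, e2, hUn, hp, hUeq⟩
        · iterate 2 right
          left
          exact ⟨U, e2, hUn, hp, hUeq⟩
      · iterate 4 right
        left
        exact ⟨U, e4, hUn, hUeq⟩
    · iterate 5 right
      left
      exact ⟨hev, v, hv, eq_inf_of_le hH hvle (point_proper hQ' hn5 hv)⟩
  | point v h2 hv hle =>
    iterate 5 right
    left
    exact ⟨two_eq_zero_iff.1 h2, v, hv, eq_inf_of_le hH hle (point_proper hQ' hn5 hv)⟩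
  | blocks t k D hD hirr hle =>
    have htk : 10 = t * k := by simpa using OrthDecomp.card_eq_mul hD.decomp.decomp
    have ht := hD.decomp.decomp.two_le
    have hk0 := hD.decomp.decomp.pos
    have hk5 : k ≤ 5 := by nlinarith
    have hd := OrthDecomp.data_of_decomp q hD
    rcases (show k = 1 ∨ k = 2 ∨ k = 5 by interval_cases k <;> omega) with rfl | rfl | rfl
    · obtain rfl : t = 10 := by omega
      obtain ⟨h2, s, η, hts, hη, hη1, hs⟩ := blocks_sign_odd hQ' hD ⟨0, rfl⟩ ⟨5, by simp⟩
      obtain rfl : s = 5 := by omega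
      have he := CfsgLib.Classical22.OrthType.sg_unique hs hsg
      have hmod : Fintype.card F % 4 = 1 := (sq_neg_one_iff h2).1.1 (by
        rcases hη with rfl | rfl
        · exact hη1.1 rfl
        · norm_num at he)
      by_cases hp : (Fintype.card F).Prime
      · iterate 6 right
        left
        exact ⟨⟨_, hp, rfl, hmod⟩, D, hD, eq_inf_of_le hH hle (not_omega_le_orth q hQ' hn5 hD)⟩
      · obtain ⟨F₀, r, P, ζ, hr, hc, hζ, hP, hsub⟩ := lines_subfield hp h2 hD hiso hle
        iterate 11 right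
        left
        exact ⟨F₀, r, P, ζ, hr, hc, hζ, hP,
          eq_inf_of_le hH hsub (not_omega_le_subfield_scaled hQ' (by simp) hr hc hζ hP)⟩
    · obtain rfl : t = 5 := by omega
      obtain ⟨ε, hε, hall, hs⟩ := blocks_sign_even hD ⟨1, rfl⟩
      have he := CfsgLib.Classical22.OrthType.sg_unique hs hsg
      obtain rfl : ε = 1 := by rcases hε with rfl | rfl <;> norm_num at he <;> rfl
      have hp : ∀ i, Cfsg.Geo.IsPlusTypeOn ⇑q (D i) := fun i =>
        (plusTypeOn_iff (hd.nd i) ⟨1, hd.dim i⟩).2 (hall i)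
      by_cases hq7 : 7 ≤ Fintype.card F
      · iterate 7 right
        left
        exact ⟨hq7, D, hD, eq_inf_of_le hH hle (not_omega_le_orth q hQ' hn5 hD)⟩
      have h6 := card_ne_six (F := F)
      rcases (show Fintype.card F ≤ 3 ∨ Fintype.card F = 4 ∨ Fintype.card F = 5 by omega) with h3 | h4 | h5
      · exact absurd hirr (planes_plus_small h3 hD hp hiso hle)
      · obtain ⟨F₀, r, P, ζ, hr, hc, hζ, hP, hsub⟩ := planes_four h4 hD hp hiso hle
        iterate 11 right
        left
        exact ⟨F₀, r, P, ζ, hr, hc, hζ, hP,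
          eq_inf_of_le hH hsub (not_omega_le_subfield_scaled hQ' (by simp) hr hc hζ hP)⟩
      · have h2 : (2 : F) ≠ 0 := fun h => two_eq_zero_iff.1 h (by rw [h5]; decide)
        obtain ⟨D', hD', hst⟩ := planes_to_lines h2 (n := 10) (by simp) hD
          fun i => five_plus_frame h5 (hd.nd i) (hd.dim i) (hp i)
        iterate 6 right
        left
        exact ⟨⟨5, Nat.prime_five, h5, rfl⟩, D', hD',
          eq_inf_of_le hH ((le_inf hle hiso).trans hst) (not_omega_le_orth q hQ' hn5 hD')⟩
    · obtain rfl : t = 2 := by omega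
      obtain ⟨h2, s, η, hts, hη, hη1, hs⟩ := blocks_sign_odd hQ' hD ⟨2, rfl⟩ ⟨5, by simp⟩
      obtain rfl : s = 1 := by omega
      have he := CfsgLib.Classical22.OrthType.sg_unique hs hsg
      rw [pow_one] at he
      subst he
      have hmod : Fintype.card F % 4 = 1 := (sq_neg_one_iff h2).1.1 (by
        exact hη1.1 rfl)
      iterate 8 right
      left
      exact ⟨hmod, D, hD, eq_inf_of_le hH hle (not_omega_le_orth q hQ' hn5 hD)⟩
  | pair D hD hs hirr hle =>
    exact (pair_false hQ' (by norm_num) ⟨2, rfl⟩ hcard hD hs hH.1.le hirr hle).elim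
  | fieldSA r K hr hne hK hsa hle =>
    have hr10 : r ∣ 2 * 5 := by simpa using (sa_degree hn5 hr hK).1
    rcases (Nat.Prime.dvd_mul hr).1 hr10 with h | h
    swap
    · exact absurd ((Nat.prime_dvd_prime_iff_eq hr Nat.prime_five).1 h) hne
    obtain rfl : r = 2 := (Nat.prime_dvd_prime_iff_eq hr Nat.prime_two).1 h
    have h2 : (2 : F) ≠ 0 := fun h2 => absurd (dvd_of_selfAdjoint_two hQ' h2 hK hsa) (by simp)
    iterate 10 right
    left
    exact ⟨odd_card_of_two h2, K, hK, hsa, eq_inf_of_le hH hle (not_omega_le_field q hQ' hn5 (by norm_num) hK)⟩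
  | fieldU K hK hac hnsa hsim hle =>
    exact (fieldU_plus_false hQ' ⟨2, rfl⟩ hcard hplus hK hac hsim).elim
  | tensorSym a b e P G₁ G₂ ha hab h2 hd₁ hd₂ hs₁ hs₂ hG hirr hle =>
    have h10 : 10 = a * b := by simpa using Fintype.card_congr e
    obtain rfl : a = 3 := by
      by_contra hne
      have := Nat.mul_le_mul (show 4 ≤ a by omega) (show 4 ≤ b by omega)
      omega
    omega
  | tensorAlt b e P f₁ f₂ hs₁ hs₂ hf hz hle =>
    have hb : 10 = 2 * b := by simpa using Fintype.card_congr e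
    obtain ⟨u, hu⟩ := (alt_gram hs₂ hf).1
    omega
  | subfield F₀ r P ζ hr hc hζ hP hle =>
    iterate 11 right
    left
    exact ⟨F₀, r, P, ζ, hr, hc, hζ, hP,
      eq_inf_of_le hH hle (not_omega_le_subfield_scaled hQ' (by simp) hr hc hζ hP)⟩
  | eight h8 hp => simp at h8

end Cfsg.Agent.S5847
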