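import Cfsg.Statements.S5858
import Cfsg.Agent.S5674
import Cfsg.Agent.Lib.Classical22.OrthMaxSubspace
import Cfsg.Agent.Lib.Classical22.OrthSubfieldMatrix
import Cfsg.Agent.Lib.Classical22.Frame.Transfer
-- import your own Cfsg.Agent.* helpers here

set_option autoImplicit false
open Cfsg

namespace Cfsg.Agent.S5858

open CfsgLib.Classical CfsgLib.Classical22

/-- Maximal subgroups of Ω_11(q) of geometric type, q odd. Let F be a finite field of odd order q, Q the standard quadratic form x₀² + Σ x_i y_i on F^11 (coordinates Unit ⊕ (Fin 5 ⊕ Fin 5)), and Ω = Ω_11(q) the commutator subgroup of its isometry group, inside GL_11(F). Each of the following, intersected with Ω, is a maximal subgroup of Ω: (1) the stabiliser of any non-zero subspace on which Q vanishes identically (totally singular 1- to 5-spaces); (2) the stabiliser of any non-zero even-dimensional subspace W (dimension 2 to 10) on which the polar form of Q is non-degenerate (equivalently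 of its odd-dimensional orthogonal complement), except when q = 3 and W is a 2-space containing a non-zero singular vector (a plus-type plane); (3) for q = p prime, the stabiliser of any decomposition of F^11 into eleven pairwise orthogonal, pairwise Q-isometric non-degenerate 1-spaces; (4) every subfield group for a subfield F₀ with |F| = |F₀|^r, r prime, whose F₀-structure carries Q. -/
theorem result {F : Type*} [Field F] [Fintype F] (hodd : Odd (Fintype.card F)) :
    (∀ W : Submodule F (Unit ⊕ (Fin 5 ⊕ Fin 5) → F), W ≠ ⊥ → Cfsg.Geo.IsTotallySingularQuad (Cfsg.quadFormOdd 5 F) W → Cfsg.Geo.IsMaximalIn (Cfsg.Geo.omegaGL (Cfsg.quadFormOdd 5 F)) (Cfsg.Geo.subspaceStabilizer W ⊓ Cfsg.Geo.omegaGL (Cfsg.quadFormOdd 5 F))) ∧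
    (∀ W : Submodule F (Unit ⊕ (Fin 5 ⊕ Fin 5) → F), W ≠ ⊥ → Even (Module.finrank F W) → Cfsg.Geo.IsNondegenerateOn (QuadraticMap.polar (Cfsg.quadFormOdd 5 F)) W → ¬ (Fintype.card F = 3 ∧ Module.finrank F W = 2 ∧ Cfsg.Geo.IsPlusTypeOn (Cfsg.quadFormOdd 5 F) W) → Cfsg.Geo.IsMaximalIn (Cfsg.Geo.omegaGL (Cfsg.quadFormOdd 5 F)) (Cfsg.Geo.subspaceStabilizer W ⊓ Cfsg.Geo.omegaGL (Cfsg.quadFormOdd 5 F))) ∧
    ((Fintype.card F).Prime → ∀ D : Fin 11 → Submodule F (Unit ⊕ (Fin 5 ⊕ Fin 5) → F), Cfsg.Geo.IsOrthogonalMDecomposition (Cfsg.quadFormOdd 5 F) 1 D → Cfsg.Geo.IsMaximalIn (Cfsg.Geo.omegaGL (Cfsg.quadFormOdd 5 F)) (Cfsg.Geo.decompositionStabilizer D ⊓ Cfsg.Geo.omegaGL (Cfsg.quadFormOdd 5 F))) ∧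
    (∀ (F₀ : Subfield F) (r : ℕ) (P : Matrix.GeneralLinearGroup (Unit ⊕ (Fin 5 ⊕ Fin 5)) F), r.Prime → Fintype.card F = Nat.card F₀ ^ r → Cfsg.Geo.IsQuadFormRationalStructure (Cfsg.quadFormOdd 5 F) F₀ P → Cfsg.Geo.IsMaximalIn (Cfsg.Geo.omegaGL (Cfsg.quadFormOdd 5 F)) (Cfsg.Geo.subfieldSubgroup F₀ P ⊓ Cfsg.Geo.omegaGL (Cfsg.quadFormOdd 5 F))) := by
  have h2 : (2 : F) ≠ 0 := Ring.two_ne_zero fun h => Nat.not_even_iff_odd.2 hodd
    (Nat.even_iff.2 (FiniteField.even_card_iff_char_two.1 h))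
  rw [← coe_qOdd]
  have hQ := polarNondeg_qOdd (F := F) h2 5
  have hV : Module.finrank F (Unit ⊕ (Fin 5 ⊕ Fin 5) → F) = 11 := by simp
  have h3 : Fintype.card F ≤ 3 → Fintype.card F = 3 := fun h => by
    have h1 := Fintype.one_lt_card (α := F)
    obtain ⟨j, hj⟩ := hodd
    omega
  refine ⟨fun W hW0 hW => S5674.maximal_odd (qOdd 5 F) hQ (m := 5) (by omega) (by simp) W hW0 hW,
    fun W hW0 he hW hex => ?_,
    fun hprime D hD => Frame.isMaximalIn_frame h2 _ hQ (by omega) hD fun H hM _ =>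
      (Frame.base_of_mono_le h2 hprime (by omega) hM).odd_dichotomy ⟨5, rfl⟩,
    fun F₀ r P hr hcard hP => OrthSubfield.isMaximalIn_subfield (qOdd 5 F) hQ (by simp) F₀ hr hcard P one_ne_zero
      (by simpa only [one_mul] using hP)⟩
  obtain ⟨j, hj⟩ := he
  refine isMaximalIn_nondeg_of_le (qOdd 5 F) hQ (Or.inl (by simp)) hW hW0 (fun h => ?_) (fun h => ?_)
    (fun h => hex ⟨h3 h.1, h.2.1, h.2.2⟩) fun h => ?_
  · rw [h, finrank_top, hV] at hj
    omega
  · simp only [Fintype.card_sum, Fintype.card_unit, Fintype.card_fin] at h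
    omega
  · have h' := h.2.1
    rw [finrank_qPerp _ hQ, hV] at h'
    rw [hj] at h'
    omega

end Cfsg.Agent.S5858
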