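import Cfsg.Statements.S5871
import Cfsg.Agent.Lib.Techniques.AschEven.Norm
import Cfsg.Agent.Lib.Techniques.AschSL.Small
-- import your own Cfsg.Agent.* helpers here

set_option autoImplicit false
open Cfsg CfsgLib.Techniques.AschEven CfsgLib.Techniques.AschOmega CfsgLib.Techniques.AschPrime
open CfsgLib.Classical22 CfsgLib.Classical22.Asch

namespace Cfsg.Agent.S5871

/-- Every maximal subgroup of Ω_12^+(q) is of one of the listed geometric types or lies in the residual class. Let F be a finite field with q elements (characteristic p), Q a non-degenerate quadratic form on F^12 of plus type (Witt index 6: some totally singular 6-space), Ω the commutator subgroup of its isometry group, and H a maximal subgroup of Ω (inside GL_12(F)). Then H is the intersection with Ω of one of: the stabiliser of a non-zero totally singular subspace of dimension ≠ 5; for q odd, the stabiliser of a non-degenerate subspace of odd dimension; the stabiliser of a non-degenerate 2-space of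 minus type; for q ≥ 4, the stabiliser of a non-degenerate 2-space of plus type; the stabiliser of a non-degenerate 4-space; for q even, the stabiliser of the span of a non-singular vector; for q = p an odd prime, the stabiliser of a decomposition into 12 pairwise orthogonal, pairwise isometric non-degenerate 1-spaces; for q ≥ 7, the stabiliser of a decomposition into 6 pairwise orthogonal, pairwise isometric non-degenerate 2-spaces of plus type; for q ≠ 3, the stabiliser of a decomposition into 6 pairwise orthogonal, pairwise isometric non-degenerate 2-spaces of minus type; for q odd with q ≥ 5, the stabiliser of a decomposition into 4 pairwise orthogonal, pairwise isometric non-degenerate 3-spaces; for q ≥ 3, the stabiliser of a decomposition into 3 pairwise orthogonal, pairwise isometric non-degenerate 4-spaces; the stabiliser of a decomposition into 2 pairwise orthogonal, pairwise isometric non-degenerate 6-spaces; of a decomposition into two totally singular 6-spaces;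 the normaliser of a degree-2 subfield of the matrix algebra; the normaliser of a degree-3 subfield of the matrix algebra; the normaliser of a degree-2 subfield K, adjoint-closed but not self-adjoint, acting by similarities of Q; for q ≥ 3, the stabiliser of a tensor decomposition of Q into alternating forms on F^2 and F^6 (Q vanishing on pure tensors); a subfield group (|F| = |F₀|^r, r prime) whose F₀-structure carries a non-zero multiple of Q — or else H lies in the residual class of the orthogonal case (modulo scalars H is almost simple, with absolutely irreducible perfect socle preimage realisable over no proper subfield and fixing no non-degenerate unitary form). -/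
theorem result {F : Type*} [Field F] [Fintype F] (Q : (Fin 12 → F) → F) (hQ : Cfsg.Geo.IsNondegenerateQuadraticForm Q) (hplus : Cfsg.Geo.IsPlusTypeOn Q ⊤) (H : Subgroup (Matrix.GeneralLinearGroup (Fin 12) F)) (hH : Cfsg.Geo.IsMaximalIn (Cfsg.Geo.omegaGL Q) H) :
    (∃ W : Submodule F (Fin 12 → F), W ≠ ⊥ ∧ Cfsg.Geo.IsTotallySingularQuad Q W ∧ Module.finrank F W ≠ 5 ∧ H = Cfsg.Geo.subspaceStabilizer W ⊓ Cfsg.Geo.omegaGL Q) ∨
    (Odd (Fintype.card F) ∧ ∃ W : Submodule F (Fin 12 → F), W ≠ ⊥ ∧ W ≠ ⊤ ∧ Odd (Module.finrank F W) ∧ 2 * Module.finrank F W ≠ 12 ∧ Cfsg.Geo.IsNondegenerateOn (QuadraticMap.polar Q) W ∧ H = Cfsg.Geo.subspaceStabilizer W ⊓ Cfsg.Geo.omegaGL Q) ∨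
    (∃ W : Submodule F (Fin 12 → F), Module.finrank F W = 2 ∧ Cfsg.Geo.IsNondegenerateOn (QuadraticMap.polar Q) W ∧ ¬ Cfsg.Geo.IsPlusTypeOn Q W ∧ H = Cfsg.Geo.subspaceStabilizer W ⊓ Cfsg.Geo.omegaGL Q) ∨
    (4 ≤ Fintype.card F ∧ ∃ W : Submodule F (Fin 12 → F), Module.finrank F W = 2 ∧ Cfsg.Geo.IsNondegenerateOn (QuadraticMap.polar Q) W ∧ Cfsg.Geo.IsPlusTypeOn Q W ∧ H = Cfsg.Geo.subspaceStabilizer W ⊓ Cfsg.Geo.omegaGL Q) ∨
    (∃ W : Submodule F (Fin 12 → F), Module.finrank F W = 4 ∧ Cfsg.Geo.IsNondegenerateOn (QuadraticMap.polar Q) W ∧ H = Cfsg.Geo.subspaceStabilizer W ⊓ Cfsg.Geo.omegaGL Q) ∨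
    (¬ Odd (Fintype.card F) ∧ ∃ v : (Fin 12 → F), Q v ≠ 0 ∧ H = Cfsg.Geo.subspaceStabilizer (Submodule.span F {v}) ⊓ Cfsg.Geo.omegaGL Q) ∨
    ((∃ p : ℕ, p.Prime ∧ Odd p ∧ Fintype.card F = p) ∧ ∃ D : Fin 12 → Submodule F (Fin 12 → F), Cfsg.Geo.IsOrthogonalMDecomposition Q 1 D ∧ H = Cfsg.Geo.decompositionStabilizer D ⊓ Cfsg.Geo.omegaGL Q) ∨
    (7 ≤ Fintype.card F ∧ ∃ D : Fin 6 → Submodule F (Fin 12 → F), Cfsg.Geo.IsOrthogonalMDecomposition Q 2 D ∧ (∀ i, Cfsg.Geo.IsPlusTypeOn Q (D i)) ∧ H = Cfsg.Geo.decompositionStabilizer D ⊓ Cfsg.Geo.omegaGL Q) ∨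
    (Fintype.card F ≠ 3 ∧ ∃ D : Fin 6 → Submodule F (Fin 12 → F), Cfsg.Geo.IsOrthogonalMDecomposition Q 2 D ∧ (∀ i, ¬ Cfsg.Geo.IsPlusTypeOn Q (D i)) ∧ H = Cfsg.Geo.decompositionStabilizer D ⊓ Cfsg.Geo.omegaGL Q) ∨
    (Odd (Fintype.card F) ∧ 5 ≤ Fintype.card F ∧ ∃ D : Fin 4 → Submodule F (Fin 12 → F), Cfsg.Geo.IsOrthogonalMDecomposition Q 3 D ∧ H = Cfsg.Geo.decompositionStabilizer D ⊓ Cfsg.Geo.omegaGL Q) ∨
    (3 ≤ Fintype.card F ∧ ∃ D : Fin 3 → Submodule F (Fin 12 → F), Cfsg.Geo.IsOrthogonalMDecomposition Q 4 D ∧ H = Cfsg.Geo.decompositionStabilizer D ⊓ Cfsg.Geo.omegaGL Q) ∨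
    (∃ D : Fin 2 → Submodule F (Fin 12 → F), Cfsg.Geo.IsOrthogonalMDecomposition Q 6 D ∧ H = Cfsg.Geo.decompositionStabilizer D ⊓ Cfsg.Geo.omegaGL Q) ∨
    (∃ D : Fin 2 → Submodule F (Fin 12 → F), Cfsg.Geo.IsMDecomposition 6 D ∧ (∀ i, Cfsg.Geo.IsTotallySingularQuad Q (D i)) ∧ H = Cfsg.Geo.decompositionStabilizer D ⊓ Cfsg.Geo.omegaGL Q) ∨
    (∃ K : Subalgebra F (Matrix (Fin 12) (Fin 12) F), Cfsg.Geo.IsFieldSubalgebra 2 K ∧ H = Cfsg.Geo.subalgebraNormalizer K ⊓ Cfsg.Geo.omegaGL Q) ∨
    (∃ K : Subalgebra F (Matrix (Fin 12) (Fin 12) F), Cfsg.Geo.IsFieldSubalgebra 3 K ∧ H = Cfsg.Geo.subalgebraNormalizer K ⊓ Cfsg.Geo.omegaGL Q) ∨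
    (∃ K : Subalgebra F (Matrix (Fin 12) (Fin 12) F), Cfsg.Geo.IsFieldSubalgebra 2 K ∧ Cfsg.Geo.IsAdjointClosedFor (QuadraticMap.polar Q) K ∧ ¬ Cfsg.Geo.IsSelfAdjointFor (QuadraticMap.polar Q) K ∧ (∀ k ∈ K, ∃ c : F, ∀ v : (Fin 12 → F), Q (Matrix.mulVec k v) = c * Q v) ∧ H = Cfsg.Geo.subalgebraNormalizer K ⊓ Cfsg.Geo.omegaGL Q) ∨
    (3 ≤ Fintype.card F ∧ ∃ (e : Fin 12 ≃ Fin 2 × Fin 6) (P : Matrix.GeneralLinearGroup (Fin 12) F) (f₁ : (Fin 2 → F) → (Fin 2 → F) → F) (f₂ : (Fin 6 → F) → (Fin 6 → F) → F), Cfsg.Geo.IsSymplecticForm f₁ ∧ Cfsg.Geo.IsSymplecticForm f₂ ∧ Cfsg.Geo.IsTensorFormStructure id (QuadraticMap.polar Q) f₁ f₂ e P ∧ (∀ (x₁ : Fin 2 → F) (x₂ : Fin 6 → F), Q (Matrix.mulVec (P : Matrix (Fin 12) (Fin 12) F) ((fun a : Fin 2 × Fin 6 => x₁ a.1 * x₂ a.2) ∘ e)) = 0) ∧ H = Cfsg.Geo.tensorProductSubgroup 2 6 e P ⊓ Cfsg.Geo.omegaGL Q) ∨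
    (∃ (F₀ : Subfield F) (r : ℕ) (P : Matrix.GeneralLinearGroup (Fin 12) F) (ζ : F), r.Prime ∧ Fintype.card F = Nat.card F₀ ^ r ∧ ζ ≠ 0 ∧ Cfsg.Geo.IsQuadFormRationalStructure (fun v : Fin 12 → F => ζ * Q v) F₀ P ∧ H = Cfsg.Geo.subfieldSubgroup F₀ P ⊓ Cfsg.Geo.omegaGL Q) ∨
    Cfsg.Geo.InOrthogonalResidualClass H := by
  classical
  obtain ⟨q, rfl, hQ'⟩ := exists_quadraticForm hQ
  have hcard : Fintype.card (Fin 12) = 2 * 6 := by simp
  have hn5 : 5 ≤ Fintype.card (Fin 12) := by simp
  have hiso : H ≤ Cfsg.isometryGroup F ⇑q := hH.1.le.trans (omega_le_isometry _)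
  have hsg : CfsgLib.Classical22.OrthType.Sg q (1) :=
    (plus_iff_sg hQ' ⟨6, by simp⟩).1 hplus
  rcases even_class hQ' hcard (by norm_num) (by norm_num) hiso with h | h
  swap
  · iterate 18 right
    exact h
  cases h with
  | singular W h0 hs hle =>
    by_cases h5 : Module.finrank F W = 5
    · obtain ⟨U, hU0, hUs, hUd, hUle⟩ := singular_extend hQ' (by norm_num) hcard hplus hs (by omega) hH.1.le hle
      exact Or.inl ⟨U, hU0, hUs, by omega, eq_inf_of_le hH hUle (not_omega_le_subspace q hQ' hn5 hU0 (ts_ne_top hQ' (by simp) hUs))⟩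
    exact Or.inl ⟨W, h0, hs, h5, eq_inf_of_le hH hle (not_omega_le_subspace q hQ' hn5 h0 (ts_ne_top hQ' (by simp) hs))⟩
  | nondeg W h0 h1 hnd hle =>
    rcases nondeg_small hQ' (by norm_num) hcard hiso h0 h1 hnd hle with ⟨U, hU0, hU1, hU, hUd, hexc, hUle⟩ | ⟨hev, v, hv, hvle⟩
    · have hUn := isNondegenerateOn_of_ndOn hU
      have hUeq := eq_inf_of_le hH hUle (not_omega_le_subspace q hQ' hn5 hU0 hU1)
      have hUpos : Module.finrank F U ≠ 0 := fun h => hU0 (Submodule.finrank_eq_zero.1 h)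
      rcases Nat.even_or_odd (Module.finrank F U) with he | ho
      swap
      · obtain ⟨u, hu⟩ := id ho
        exact Or.inr (Or.inl ⟨odd_card_of_two (two_ne_zero_of_odd_dim hU ho), U, hU0, hU1, ho, by omega, hUn, hUeq⟩)
      obtain ⟨u, hu⟩ := he
      rcases (show Module.finrank F U = 2 ∨ Module.finrank F U = 4 ∨ Module.finrank F U = 6 by omega) with e2 | e4 | e6
      · by_cases hp : Cfsg.Geo.IsPlusTypeOn ⇑q U
        · iterate 3 right
          left
          exact ⟨hexc e2 hp, U, e2, hUn, hp, hUeq⟩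
        · iterate 2 right
          left
          exact ⟨U, e2, hUn, hp, hUeq⟩
      · iterate 4 right
        left
        exact ⟨U, e4, hUn, hUeq⟩
      · have hp := perp_pair hQ' hU (by norm_num) e6 (by simp)
        have hD := orth_of_pair hp (pair_even_plus hQ' hU ⟨3, rfl⟩ (by norm_num) e6 (by simp) hsg)
        iterate 11 right
        left
        exact ⟨![U, qPerp q U], hD,
          eq_inf_of_le hH (pair_le hiso hp.decomp hUle) (not_omega_le_orth q hQ' hn5 hD)⟩
    · iterate 5 right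
      left
      exact ⟨hev, v, hv, eq_inf_of_le hH hvle (point_proper hQ' hn5 hv)⟩
  | point v h2 hv hle =>
    iterate 5 right
    left
    exact ⟨two_eq_zero_iff.1 h2, v, hv, eq_inf_of_le hH hle (point_proper hQ' hn5 hv)⟩
  | blocks t k D hD hirr hle =>
    have htk : 12 = t * k := by simpa using OrthDecomp.card_eq_mul hD.decomp.decomp
    have ht := hD.decomp.decomp.two_le
    have hk0 := hD.decomp.decomp.pos
    have hk6 : k ≤ 6 := by nlinarith
    have hd := OrthDecomp.data_of_decomp q hD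
    have hno := not_omega_le_orth q hQ' hn5 hD
    rcases (show k = 1 ∨ k = 2 ∨ k = 3 ∨ k = 4 ∨ k = 6 by interval_cases k <;> omega) with rfl | rfl | rfl | rfl | rfl
    · obtain rfl : t = 12 := by omega
      have h2 := two_ne_zero_of_odd_dim (hd.nd 0) (by rw [hd.dim]; decide)
      by_cases hp : (Fintype.card F).Prime
      · iterate 6 right
        left
        exact ⟨⟨_, hp, odd_card_of_two h2, rfl⟩, D, hD, eq_inf_of_le hH hle hno⟩
      · obtain ⟨F₀, r, P, ζ, hr, hc, hζ, hP, hsub⟩ := lines_subfield hp h2 hD hiso hle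
        iterate 17 right
        left
        exact ⟨F₀, r, P, ζ, hr, hc, hζ, hP,
          eq_inf_of_le hH hsub (not_omega_le_subfield_scaled hQ' (by simp) hr hc hζ hP)⟩
    · obtain rfl : t = 6 := by omega
      obtain ⟨ε, hε, hall, -⟩ := blocks_sign_even hD ⟨1, rfl⟩
      rcases hε with rfl | rfl
      · have hp : ∀ i, Cfsg.Geo.IsPlusTypeOn ⇑q (D i) := fun i =>
          (plusTypeOn_iff (hd.nd i) ⟨1, hd.dim i⟩).2 (hall i)
        by_cases hq7 : 7 ≤ Fintype.card F
        · iterate 7 right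
          left
          exact ⟨hq7, D, hD, hp, eq_inf_of_le hH hle hno⟩
        have h6 := card_ne_six (F := F)
        rcases (show Fintype.card F ≤ 3 ∨ Fintype.card F = 4 ∨ Fintype.card F = 5 by omega) with h3 | h4 | h5
        · exact absurd hirr (planes_plus_small h3 hD hp hiso hle)
        · obtain ⟨F₀, r, P, ζ, hr, hc, hζ, hP, hsub⟩ := planes_four h4 hD hp hiso hle
          iterate 17 right
          left
          exact ⟨F₀, r, P, ζ, hr, hc, hζ, hP,
            eq_inf_of_le hH hsub (not_omega_le_subfield_scaled hQ' (by simp) hr hc hζ hP)⟩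
        · have h2 : (2 : F) ≠ 0 := fun h => two_eq_zero_iff.1 h (by rw [h5]; decide)
          obtain ⟨D', hD', hst⟩ := planes_to_lines h2 (n := 12) (by simp) hD
            fun i => five_plus_frame h5 (hd.nd i) (hd.dim i) (hp i)
          iterate 6 right
          left
          exact ⟨⟨5, Nat.prime_five, by decide, h5⟩, D', hD',
            eq_inf_of_le hH ((le_inf hle hiso).trans hst) (not_omega_le_orth q hQ' hn5 hD')⟩
      · have hp : ∀ i, ¬ Cfsg.Geo.IsPlusTypeOn ⇑q (D i) := fun i =>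
          (not_plusTypeOn_iff (hd.nd i) ⟨1, hd.dim i⟩).2 (hall i)
        by_cases hq3 : Fintype.card F = 3
        · have h2 : (2 : F) ≠ 0 := fun h => two_eq_zero_iff.1 h (by rw [hq3]; decide)
          obtain ⟨D', hD', hst⟩ := planes_to_lines h2 (n := 12) (by simp) hD
            fun i => three_minus_frame hq3 (hd.nd i) (hd.dim i) (hp i)
          iterate 6 right
          left
          exact ⟨⟨3, Nat.prime_three, by decide, hq3⟩, D', hD',
            eq_inf_of_le hH ((le_inf hle hiso).trans hst) (not_omega_le_orth q hQ' hn5 hD')⟩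
        · iterate 8 right
          left
          exact ⟨hq3, D, hD, hp, eq_inf_of_le hH hle hno⟩
    · obtain rfl : t = 4 := by omega
      have h2 := two_ne_zero_of_odd_dim (hd.nd 0) (by rw [hd.dim]; decide)
      have hodd := odd_card_of_two h2
      by_cases hq5 : 5 ≤ Fintype.card F
      · iterate 9 right
        left
        exact ⟨hodd, hq5, D, hD, eq_inf_of_le hH hle hno⟩
      have hq3 : Fintype.card F = 3 := by
        have := Fintype.one_lt_card (α := F)
        obtain ⟨j, hj⟩ := hodd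
        omega
      obtain ⟨D', hD', hst⟩ := blocks_to_lines hq3 (by simp : Fintype.card (Fin 12) = 12) hD
      iterate 6 right
      left
      exact ⟨⟨3, Nat.prime_three, by decide, hq3⟩, D', hD',
        eq_inf_of_le hH ((le_inf hle hiso).trans hst) (not_omega_le_orth q hQ' hn5 hD')⟩
    · obtain rfl : t = 3 := by omega
      by_cases hq3 : 3 ≤ Fintype.card F
      · iterate 10 right
        left
        exact ⟨hq3, D, hD, eq_inf_of_le hH hle hno⟩
      have hq2 : Fintype.card F = 2 := by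
        have := Fintype.one_lt_card (α := F)
        omega
      obtain ⟨ε, hε, hall, hs⟩ := blocks_sign_even hD ⟨2, rfl⟩
      have he := CfsgLib.Classical22.OrthType.sg_unique hs hsg
      obtain rfl : ε = 1 := by rcases hε with rfl | rfl <;> norm_num at he <;> rfl
      obtain ⟨D', hD', hmin, hst⟩ := fours_to_planes hq2 hQ' hD
        (fun i => (plusTypeOn_iff (hd.nd i) ⟨2, hd.dim i⟩).2 (hall i)) (s := 6) rfl
      iterate 8 right
      left
      exact ⟨by omega, D', hD', hmin,
        eq_inf_of_le hH ((le_inf hle hiso).trans hst) (not_omega_le_orth q hQ' hn5 hD')⟩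
    · obtain rfl : t = 2 := by omega
      iterate 11 right
      left
      exact ⟨D, hD, eq_inf_of_le hH hle hno⟩
  | pair D hD hs hirr hle =>
    iterate 12 right
    left
    exact ⟨D, hD, hs, eq_inf_of_le hH hle (not_omega_le_two q hQ' hn5 hD)⟩
  | fieldSA r K hr hne hK hsa hle =>
    have hr12 : r ∣ 2 ^ 2 * 3 := by simpa using (sa_degree hn5 hr hK).1
    rcases (Nat.Prime.dvd_mul hr).1 hr12 with h | h
    · obtain rfl : r = 2 := (Nat.prime_dvd_prime_iff_eq hr Nat.prime_two).1 (hr.dvd_of_dvd_pow h)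
      iterate 13 right
      left
      exact ⟨K, hK, eq_inf_of_le hH hle (not_omega_le_field q hQ' hn5 (by norm_num) hK)⟩
    · obtain rfl : r = 3 := (Nat.prime_dvd_prime_iff_eq hr Nat.prime_three).1 h
      iterate 14 right
      left
      exact ⟨K, hK, eq_inf_of_le hH hle (not_omega_le_field q hQ' hn5 (by norm_num) hK)⟩
  | fieldU K hK hac hnsa hsim hle =>
    iterate 15 right
    left
    exact ⟨K, hK, hac, hnsa, hsim, eq_inf_of_le hH hle (not_omega_le_field q hQ' hn5 (by norm_num) hK)⟩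
  | tensorSym a b e P G₁ G₂ ha hab h2 hd₁ hd₂ hs₁ hs₂ hG hirr hle =>
    have h12 : 12 = a * b := by simpa using Fintype.card_congr e
    obtain rfl : a = 3 := by
      by_contra hne
      have := Nat.mul_le_mul (show 4 ≤ a by omega) (show 4 ≤ b by omega)
      omega
    obtain rfl : b = 4 := by omega
    obtain ⟨D, hD, hDp, -⟩ := tensorSym_blocks h2 hd₁ hd₂ hs₁ hG hiso hle
    obtain ⟨ε, hε, hall, hs⟩ := blocks_sign_even hD ⟨2, rfl⟩
    have he := CfsgLib.Classical22.OrthType.sg_unique hs hsg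
    obtain rfl : ε = 1 := by rcases hε with rfl | rfl <;> norm_num at he <;> rfl
    obtain ⟨e', P', f₁, f₂, hf₁, hf₂, hf, hz, hle'⟩ := tensorSym_to_alt h2 hd₁ hd₂ hs₁ hs₂ hG
      ((hDp 0).1 ((plusTypeOn_iff (OrthDecomp.data_of_decomp q hD |>.nd 0) ⟨2, hD.decomp.decomp.finrank_eq 0⟩).2 (hall 0)))
      hiso (hH.1.le.trans (omega_le_special _)) hle
    have hq3 : 3 ≤ Fintype.card F := by
      have := Fintype.one_lt_card (α := F)
      obtain ⟨j, hj⟩ := odd_card_of_two h2
      omega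
    iterate 16 right
    left
    exact ⟨hq3, e', P', f₁, f₂, hf₁, hf₂, hf, hz,
      eq_inf_of_le hH hle' (not_omega_le_tensorAlt hQ' (by norm_num) hf₂ hf hz)⟩
  | tensorAlt b e P f₁ f₂ hs₁ hs₂ hf hz hle =>
    have hb : 12 = 2 * b := by simpa using Fintype.card_congr e
    obtain rfl : b = 6 := by omega
    by_cases hq3 : 3 ≤ Fintype.card F
    · iterate 16 right
      left
      exact ⟨hq3, e, P, f₁, f₂, hs₁, hs₂, hf, hz,
        eq_inf_of_le hH hle (not_omega_le_tensorAlt hQ' (by norm_num) hs₂ hf hz)⟩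
    obtain ⟨K, hK, hKle⟩ := CfsgLib.Techniques.AschSL.tensor_two_small (F := F) (by
      have := Fintype.one_lt_card (α := F); omega) (by norm_num : 0 < 6) e P
    iterate 13 right
    left
    exact ⟨K, hK, eq_inf_of_le hH (hle.trans hKle) (not_omega_le_field q hQ' hn5 (by norm_num) hK)⟩
  | subfield F₀ r P ζ hr hc hζ hP hle =>
    iterate 17 right
    left
    exact ⟨F₀, r, P, ζ, hr, hc, hζ, hP,
      eq_inf_of_le hH hle (not_omega_le_subfield_scaled hQ' (by simp) hr hc hζ hP)⟩
  | eight h8 hp => simp at h8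

end Cfsg.Agent.S5871
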