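import Cfsg.Statements.S5874
import Cfsg.Agent.Lib.Techniques.AschEven.Norm
-- import your own Cfsg.Agent.* helpers here

set_option autoImplicit false
open Cfsg CfsgLib.Techniques.AschEven CfsgLib.Techniques.AschOmega CfsgLib.Techniques.AschPrime
open CfsgLib.Classical22 CfsgLib.Classical22.Asch

namespace Cfsg.Agent.S5874

/-- Every maximal subgroup of Ω_12^-(q) is of one of the listed geometric types or lies in the residual class. Let F be a finite field with q elements (characteristic p), Q a non-degenerate quadratic form on F^12 of minus type (Witt index 5: no totally singular 6-space), Ω the commutator subgroup of its isometry group, and H a maximal subgroup of Ω (inside GL_12(F)). Then H is the intersection with Ω of one of: the stabiliser of a non-zero totally singular subspace; for q odd, the stabiliser of a non-degenerate subspace of odd dimension; the stabiliser of a non-degenerate 2-space of minus type; for q ≥ 4, the stabiliser of a non-degenerate 2-space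 of plus type; the stabiliser of a non-degenerate 4-space; the stabiliser of a non-degenerate 6-space; for q even, the stabiliser of the span of a non-singular vector; the stabiliser of a decomposition into 3 pairwise orthogonal, pairwise isometric non-degenerate 4-spaces of minus type; the normaliser of a degree-2 subfield of the matrix algebra; the normaliser of a degree-3 subfield of the matrix algebra; for q odd with q ≥ 5, the stabiliser of a tensor decomposition of the polar form into symmetric forms on F^3 and F^4 (minus type); a subfield group (|F| = |F₀|^r, r odd prime) whose F₀-structure carries a non-zero multiple of Q — or else H lies in the residual class of the orthogonal case (modulo scalars H is almost simple, with absolutely irreducible perfect socle preimage realisable over no proper subfield and fixing no non-degenerate unitary form). -/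
theorem result {F : Type*} [Field F] [Fintype F] (Q : (Fin 12 → F) → F) (hQ : Cfsg.Geo.IsNondegenerateQuadraticForm Q) (hminus : ¬ Cfsg.Geo.IsPlusTypeOn Q ⊤) (H : Subgroup (Matrix.GeneralLinearGroup (Fin 12) F)) (hH : Cfsg.Geo.IsMaximalIn (Cfsg.Geo.omegaGL Q) H) :
    (∃ W : Submodule F (Fin 12 → F), W ≠ ⊥ ∧ Cfsg.Geo.IsTotallySingularQuad Q W ∧ H = Cfsg.Geo.subspaceStabilizer W ⊓ Cfsg.Geo.omegaGL Q) ∨
    (Odd (Fintype.card F) ∧ ∃ W : Submodule F (Fin 12 → F), W ≠ ⊥ ∧ W ≠ ⊤ ∧ Odd (Module.finrank F W) ∧ 2 * Module.finrank F W ≠ 12 ∧ Cfsg.Geo.IsNondegenerateOn (QuadraticMap.polar Q) W ∧ H = Cfsg.Geo.subspaceStabilizer W ⊓ Cfsg.Geo.omegaGL Q) ∨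
    (∃ W : Submodule F (Fin 12 → F), Module.finrank F W = 2 ∧ Cfsg.Geo.IsNondegenerateOn (QuadraticMap.polar Q) W ∧ ¬ Cfsg.Geo.IsPlusTypeOn Q W ∧ H = Cfsg.Geo.subspaceStabilizer W ⊓ Cfsg.Geo.omegaGL Q) ∨
    (4 ≤ Fintype.card F ∧ ∃ W : Submodule F (Fin 12 → F), Module.finrank F W = 2 ∧ Cfsg.Geo.IsNondegenerateOn (QuadraticMap.polar Q) W ∧ Cfsg.Geo.IsPlusTypeOn Q W ∧ H = Cfsg.Geo.subspaceStabilizer W ⊓ Cfsg.Geo.omegaGL Q) ∨
    (∃ W : Submodule F (Fin 12 → F), Module.finrank F W = 4 ∧ Cfsg.Geo.IsNondegenerateOn (QuadraticMap.polar Q) W ∧ H = Cfsg.Geo.subspaceStabilizer W ⊓ Cfsg.Geo.omegaGL Q) ∨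
    (∃ W : Submodule F (Fin 12 → F), Module.finrank F W = 6 ∧ Cfsg.Geo.IsNondegenerateOn (QuadraticMap.polar Q) W ∧ H = Cfsg.Geo.subspaceStabilizer W ⊓ Cfsg.Geo.omegaGL Q) ∨
    (¬ Odd (Fintype.card F) ∧ ∃ v : (Fin 12 → F), Q v ≠ 0 ∧ H = Cfsg.Geo.subspaceStabilizer (Submodule.span F {v}) ⊓ Cfsg.Geo.omegaGL Q) ∨
    (∃ D : Fin 3 → Submodule F (Fin 12 → F), Cfsg.Geo.IsOrthogonalMDecomposition Q 4 D ∧ (∀ i, ¬ Cfsg.Geo.IsPlusTypeOn Q (D i)) ∧ H = Cfsg.Geo.decompositionStabilizer D ⊓ Cfsg.Geo.omegaGL Q) ∨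
    (∃ K : Subalgebra F (Matrix (Fin 12) (Fin 12) F), Cfsg.Geo.IsFieldSubalgebra 2 K ∧ H = Cfsg.Geo.subalgebraNormalizer K ⊓ Cfsg.Geo.omegaGL Q) ∨
    (∃ K : Subalgebra F (Matrix (Fin 12) (Fin 12) F), Cfsg.Geo.IsFieldSubalgebra 3 K ∧ H = Cfsg.Geo.subalgebraNormalizer K ⊓ Cfsg.Geo.omegaGL Q) ∨
    (Odd (Fintype.card F) ∧ 5 ≤ Fintype.card F ∧ ∃ (e : Fin 12 ≃ Fin 3 × Fin 4) (P : Matrix.GeneralLinearGroup (Fin 12) F) (f₁ : (Fin 3 → F) → (Fin 3 → F) → F) (f₂ : (Fin 4 → F) → (Fin 4 → F) → F), Cfsg.Geo.IsSymmetricForm f₁ ∧ Cfsg.Geo.IsSymmetricForm f₂ ∧ ¬ Cfsg.Geo.IsPlusTypeOn (fun v : Fin 4 → F => f₂ v v) ⊤ ∧ Cfsg.Geo.IsTensorFormStructure id (QuadraticMap.polar Q) f₁ f₂ e P ∧ H = Cfsg.Geo.tensorProductSubgroup 3 4 e P ⊓ Cfsg.Geo.omegaGL Q) ∨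
    (∃ (F₀ : Subfield F) (r : ℕ) (P : Matrix.GeneralLinearGroup (Fin 12) F) (ζ : F), r.Prime ∧ Odd r ∧ Fintype.card F = Nat.card F₀ ^ r ∧ ζ ≠ 0 ∧ Cfsg.Geo.IsQuadFormRationalStructure (fun v : Fin 12 → F => ζ * Q v) F₀ P ∧ H = Cfsg.Geo.subfieldSubgroup F₀ P ⊓ Cfsg.Geo.omegaGL Q) ∨
    Cfsg.Geo.InOrthogonalResidualClass H := by
  classical
  obtain ⟨q, rfl, hQ'⟩ := exists_quadraticForm hQ
  have hcard : Fintype.card (Fin 12) = 2 * 6 := by simp
  have hn5 : 5 ≤ Fintype.card (Fin 12) := by simp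
  have hiso : H ≤ Cfsg.isometryGroup F ⇑q := hH.1.le.trans (omega_le_isometry _)
  have hsg : CfsgLib.Classical22.OrthType.Sg q ((-1)) :=
    (minus_iff_sg hQ' ⟨6, by simp⟩).1 hminus
  rcases even_class hQ' hcard (by norm_num) (by norm_num) hiso with h | h
  swap
  · iterate 12 right
    exact h
  cases h with
  | singular W h0 hs hle =>
    exact Or.inl ⟨W, h0, hs, eq_inf_of_le hH hle (not_omega_le_subspace q hQ' hn5 h0 (ts_ne_top hQ' (by simp) hs))⟩
  | nondeg W h0 h1 hnd hle =>
    rcases nondeg_small hQ' (by norm_num) hcard hiso h0 h1 hnd hle with ⟨U, hU0, hU1, hU, hUd, hexc, hUle⟩ | ⟨hev, v, hv, hvle⟩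
    · have hUn := isNondegenerateOn_of_ndOn hU
      have hUeq := eq_inf_of_le hH hUle (not_omega_le_subspace q hQ' hn5 hU0 hU1)
      have hUpos : Module.finrank F U ≠ 0 := fun h => hU0 (Submodule.finrank_eq_zero.1 h)
      rcases Nat.even_or_odd (Module.finrank F U) with he | ho
      swap
      · obtain ⟨u, hu⟩ := id ho
        exact Or.inr (Or.inl ⟨odd_card_of_two (two_ne_zero_of_odd_dim hU ho), U, hU0, hU1, ho, by omega, hUn, hUeq⟩)
      obtain ⟨u, hu⟩ := he
      rcases (show Module.finrank F U = 2 ∨ Module.finrank F U = 4 ∨ Module.finrank F U = 6 by omega) with e2 | e4 | e6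
      · by_cases hp : Cfsg.Geo.IsPlusTypeOn ⇑q U
        · iterate 3 right
          left
          exact ⟨hexc e2 hp, U, e2, hUn, hp, hUeq⟩
        · iterate 2 right
          left
          exact ⟨U, e2, hUn, hp, hUeq⟩
      · iterate 4 right
        left
        exact ⟨U, e4, hUn, hUeq⟩
      · iterate 5 right
        left
        exact ⟨U, e6, hUn, hUeq⟩
    · iterate 6 right
      left
      exact ⟨hev, v, hv, eq_inf_of_le hH hvle (point_proper hQ' hn5 hv)⟩
  | point v h2 hv hle =>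
    iterate 6 right
    left
    exact ⟨two_eq_zero_iff.1 h2, v, hv, eq_inf_of_le hH hle (point_proper hQ' hn5 hv)⟩
  | blocks t k D hD hirr hle =>
    have htk : 12 = t * k := by simpa using OrthDecomp.card_eq_mul hD.decomp.decomp
    have ht := hD.decomp.decomp.two_le
    have hk6 : k ≤ 6 := by nlinarith
    have hk0 := hD.decomp.decomp.pos
    rcases Nat.even_or_odd k with hk | hk
    · obtain ⟨ε, hε, hall, hs⟩ := blocks_sign_even hD hk
      have he := CfsgLib.Classical22.OrthType.sg_unique hs hsg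
      obtain ⟨j, hj⟩ := hk
      rcases (show k = 2 ∨ k = 4 ∨ k = 6 by omega) with rfl | rfl | rfl
      · obtain rfl : t = 6 := by omega
        rcases hε with rfl | rfl <;> norm_num at he
      · obtain rfl : t = 3 := by omega
        rcases hε with rfl | rfl
        · norm_num at he
        iterate 7 right
        left
        exact ⟨D, hD, fun i => (not_plusTypeOn_iff (OrthDecomp.data_of_decomp q hD |>.nd i)
          ⟨2, hD.decomp.decomp.finrank_eq i⟩).2 (hall i), eq_inf_of_le hH hle (not_omega_le_orth q hQ' hn5 hD)⟩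
      · obtain rfl : t = 2 := by omega
        rcases hε with rfl | rfl <;> norm_num at he
    · obtain ⟨-, s, η, hts, hη, -, hs⟩ := blocks_sign_odd hQ' hD hk ⟨6, by simp⟩
      have he := CfsgLib.Classical22.OrthType.sg_unique hs hsg
      have hse : s = 2 ∨ s = 6 := by
        subst hts
        obtain ⟨j, rfl⟩ := hk
        have hj2 : j ≤ 2 := by omega
        interval_cases j <;> omega
      rcases hse with rfl | rfl <;> rcases hη with rfl | rfl <;> norm_num at he
  | pair D hD hs hirr hle =>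
    exact absurd ⟨D 0, le_top, hs 0, by rw [hD.finrank_eq, finrank_top, Module.finrank_pi, hcard]⟩ hminus
  | fieldSA r K hr hne hK hsa hle =>
    have hr12 : r ∣ 2 ^ 2 * 3 := by simpa using (sa_degree hn5 hr hK).1
    rcases (Nat.Prime.dvd_mul hr).1 hr12 with h | h
    · obtain rfl : r = 2 := (Nat.prime_dvd_prime_iff_eq hr Nat.prime_two).1 (hr.dvd_of_dvd_pow h)
      iterate 8 right
      left
      exact ⟨K, hK, eq_inf_of_le hH hle (not_omega_le_field q hQ' hn5 (by norm_num) hK)⟩
    · obtain rfl : r = 3 := (Nat.prime_dvd_prime_iff_eq hr Nat.prime_three).1 h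
      iterate 9 right
      left
      exact ⟨K, hK, eq_inf_of_le hH hle (not_omega_le_field q hQ' hn5 (by norm_num) hK)⟩
  | fieldU K hK hac hnsa hsim hle =>
    iterate 8 right
    left
    exact ⟨K, hK, eq_inf_of_le hH hle (not_omega_le_field q hQ' hn5 (by norm_num) hK)⟩
  | tensorSym a b e P G₁ G₂ ha hab h2 hd₁ hd₂ hs₁ hs₂ hG hirr hle =>
    have h12 : 12 = a * b := by simpa using Fintype.card_congr e
    obtain rfl : a = 3 := by
      by_contra hne
      have := Nat.mul_le_mul (show 4 ≤ a by omega) (show 4 ≤ b by omega)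
      omega
    obtain rfl : b = 4 := by omega
    obtain ⟨D, hD, hDp, hD3⟩ := tensorSym_blocks h2 hd₁ hd₂ hs₁ hG hiso hle
    obtain ⟨ε, hε, hall, hs⟩ := blocks_sign_even hD ⟨2, rfl⟩
    have he := CfsgLib.Classical22.OrthType.sg_unique hs hsg
    obtain rfl : ε = -1 := by rcases hε with rfl | rfl <;> [norm_num at he; rfl]
    have hnp : ∀ i, ¬ Cfsg.Geo.IsPlusTypeOn ⇑q (D i) := fun i =>
      (not_plusTypeOn_iff (OrthDecomp.data_of_decomp q hD |>.nd i) ⟨2, hD.decomp.decomp.finrank_eq i⟩).2 (hall i)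
    by_cases hq3 : Fintype.card F = 3
    · iterate 7 right
      left
      exact ⟨D, hD, hnp, eq_inf_of_le hH (hD3 hq3) (not_omega_le_orth q hQ' hn5 hD)⟩
    have hq5 : 5 ≤ Fintype.card F := by
      have := Fintype.one_lt_card (α := F)
      obtain ⟨j, hj⟩ := odd_card_of_two h2
      omega
    iterate 10 right
    left
    exact ⟨odd_card_of_two h2, hq5, e, P, _, _, formOfGram_symmetric hd₁ hs₁, formOfGram_symmetric hd₂ hs₂,
      fun h => hnp 0 ((hDp 0).2 h),
      isTensorFormStructure (IsSesq.of_bilinear (polar_bilin q)) one_ne_zero (hG.trans (one_smul F _).symm),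
      eq_inf_of_le hH hle (not_omega_le_tensorSym hQ' h2 hd₁ hs₁ hG)⟩
  | tensorAlt b e P f₁ f₂ hs₁ hs₂ hf hz hle =>
    exact absurd (tensorAlt_plus (by simpa using Fintype.card_congr e) hz) hminus
  | subfield F₀ r P ζ hr hc hζ hP hle =>
    rcases hr.eq_two_or_odd' with rfl | hro
    · exact absurd (plus_of_index_two hQ' (by norm_num) hcard hc hζ hP) hminus
    · iterate 11 right
      left
      exact ⟨F₀, r, P, ζ, hr, hro, hc, hζ, hP,
        eq_inf_of_le hH hle (not_omega_le_subfield_scaled hQ' (by simp) hr hc hζ hP)⟩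
  | eight h8 hp => exact absurd hp hminus

end Cfsg.Agent.S5874
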