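import Cfsg.Statements.S5885
import Cfsg.Agent.Lib.Classical22.SecondMaximal
import Mathlib.GroupTheory.GroupAction.Quotient
-- import your own Cfsg.Agent.* helpers here

set_option autoImplicit false
open Cfsg

namespace Cfsg.Agent.S5885

/-- Let n be an odd positive integer such that every primitive permutation group of degree n contains the alternating group (so the symmetric and alternating groups are the only primitive groups of degree n). Let G be a finite group, M a maximal subgroup of G of index n, and H a maximal subgroup of M. Then H is a second maximal subgroup of G: H is maximal in every maximal subgroup K of G containing H. -/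
theorem result {G : Type*} [Group G]
    [Finite G] (n : ℕ) (hodd : Odd n)
    (hA : ∀ P : Subgroup (Equiv.Perm (Fin n)), MulAction.IsPreprimitive P (Fin n) → alternatingGroup (Fin n) ≤ P)
    (M : Subgroup G) (hM : IsCoatom M) (hn : M.index = n) (H : Subgroup G) (hHM : H ≤ M)
    (hmax : IsCoatom (H.subgroupOf M)) (K : Subgroup G) (hK : IsCoatom K) (hHK : H ≤ K) :
    IsCoatom (H.subgroupOf K) := by
  classical
  rcases eq_or_ne K M with rfl | hKM
  · exact hmax
  have hmaxM : ∀ S : Subgroup G, H ≤ S → S ≤ M → S = H ∨ S = M := by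
    intro S h1 h2
    rcases eq_or_lt_of_le h1 with h | h
    · exact Or.inl h.symm
    · refine Or.inr (le_antisymm h2 ?_)
      have hlt : H.subgroupOf M < S.subgroupOf M := by
        refine lt_of_le_of_ne (fun x hx => h1 hx) fun he => h.ne ?_
        rw [Subgroup.subgroupOf_inj, inf_eq_left.mpr hHM, inf_eq_left.mpr h2] at he
        exact he
      exact Subgroup.subgroupOf_eq_top.mp (hmax.2 _ hlt)
  have hHeq : K ⊓ M = H := by
    rcases hmaxM (K ⊓ M) (le_inf hHK hHM) inf_le_right with h | h
    · exact h
    · exfalso
      have : M ≤ K := by rw [← h]; exact inf_le_left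
      rcases this.lt_or_eq with h' | h'
      · exact hK.1 (hM.2 _ h')
      · exact hKM h'.symm
  haveI : Nontrivial (G ⧸ M) := by
    rw [← Finite.one_lt_card_iff_nontrivial]
    exact Subgroup.one_lt_index_of_ne_top hM.1
  haveI : Fintype (G ⧸ M) := Fintype.ofFinite _
  have hcard : Nat.card (G ⧸ M) = n := hn
  let e : G ⧸ M ≃ Fin n := Finite.equivFinOfCardEq hcard
  let φ : G →* Equiv.Perm (Fin n) := e.permCongrHom.toMonoidHom.comp (MulAction.toPermHom G (G ⧸ M))
  have hφ : ∀ (g : G) (x : G ⧸ M), φ g (e x) = e (g • x) := by
    intro g x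
    simp [φ]
  haveI : MulAction.IsPreprimitive G (G ⧸ M) := by
    rw [← MulAction.isCoatom_stabilizer_iff_preprimitive G (((1 : G) : G ⧸ M)),
      MulAction.stabilizer_quotient]
    exact hM
  let f : (G ⧸ M) →ₑ[fun g : G => (⟨φ g, g, rfl⟩ : φ.range)] Fin n :=
    { toFun := e, map_smul' := fun g x => (hφ g x).symm }
  have hprim : MulAction.IsPreprimitive φ.range (Fin n) :=
    MulAction.IsPreprimitive.of_surjective (f := f) e.surjective
  have halt : ∀ σ : Equiv.Perm (G ⧸ M), σ ∈ alternatingGroup (G ⧸ M) →
      ∃ g : G, ∀ x, g • x = σ x := by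
    intro σ hσ
    have hmem : e.permCongr σ ∈ alternatingGroup (Fin n) := by
      rw [Equiv.Perm.mem_alternatingGroup, Equiv.Perm.sign_permCongr]
      exact hσ
    obtain ⟨g, hg⟩ := hA _ hprim hmem
    refine ⟨g, fun x => e.injective ?_⟩
    rw [← hφ, hg, Equiv.permCongr_apply, Equiv.symm_apply_apply]
  have hodd' : Odd (Fintype.card (G ⧸ M)) := by rw [← Nat.card_eq_fintype_card, hcard]; exact hodd
  have hstab : MulAction.stabilizer G (((1 : G) : G ⧸ M)) = M := MulAction.stabilizer_quotient _
  constructor
  · intro htop
    rw [Subgroup.subgroupOf_eq_top] at htop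
    have hle : K ≤ M := htop.trans hHM
    rcases hle.lt_or_eq with h | h
    · exact hM.1 (hK.2 _ h)
    · exact hKM h
  · intro L hL
    have hHL : K ⊓ M ≤ L.map K.subtype := by
      rw [hHeq]
      intro x hx
      exact ⟨⟨x, hHK hx⟩, hL.le hx, rfl⟩
    have key := CfsgLib.Classical22.SecondMaximal.eq_or_eq_of_between hodd' halt
      (((1 : G) : G ⧸ M)) K hK (by rw [hstab, hHeq]; exact hmaxM) (L.map K.subtype)
      (by rw [hstab]; exact hHL) (Subgroup.map_subtype_le L)
    rw [hstab, hHeq] at key
    rcases key with h | h
    · exfalso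
      apply hL.ne
      have : (L.map K.subtype).comap K.subtype = H.comap K.subtype := by rw [h]
      rw [Subgroup.comap_map_eq_self_of_injective K.subtype_injective] at this
      exact this.symm
    · rw [← Subgroup.map_le_map_iff_of_injective K.subtype_injective |>.trans top_le_iff, h,
        ← MonoidHom.range_eq_map, Subgroup.range_subtype]

end Cfsg.Agent.S5885
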