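import Cfsg.Statements.S5894
import Cfsg.Agent.Lib.Classical22.Wreath
-- import your own Cfsg.Agent.* helpers here

set_option autoImplicit false
open Cfsg

namespace Cfsg.Agent.S5894

open scoped Pointwise

/-- For every m ≥ 2 the symmetric group on 2m letters has a maximal subgroup M of index 2m together with a maximal subgroup H of M that is not second maximal: some maximal subgroup K of the symmetric group contains H without H being maximal in K. (One may take M the stabiliser of a letter, H ≅ S_m × S_{m−1} inside it, and K ≅ S_m ≀ S₂ the stabiliser of a partition into two m-sets, with H < S_m × S_m < K.) So the prime-index hypothesis in the second-maximality criterion cannot be relaxed to any even index ≥ 4. -/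
theorem result (m : ℕ) (hm : 2 ≤ m) :
    ∃ M H K : Subgroup (Equiv.Perm (Fin (2 * m))), IsCoatom M ∧ M.index = 2 * m ∧ H ≤ M ∧ IsCoatom (H.subgroupOf M) ∧
      IsCoatom K ∧ H ≤ K ∧ ¬ IsCoatom (H.subgroupOf K) := by
  classical
  let n := 2 * m
  let a : Fin n := ⟨0, by omega⟩
  let O : Set (Fin n) := {i | i.val < m}
  let f : Fin n → Fin 2 := fun i => if i.val < m then 0 else 1
  have hfO : ∀ i, i ∈ O ↔ f i = 0 := fun i => by
    by_cases h : i.val < m <;> simp [O, f, h]
  have hcard : ∀ j : Fin 2, Nat.card {x : Fin n // f x = j} = m := by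
    intro j
    fin_cases j
    · refine (Nat.card_congr ?_).trans (Nat.card_fin m)
      exact ⟨fun x => ⟨x.1.val, by have := (hfO x.1).mpr x.2; exact this⟩, fun i => ⟨⟨i.val, by omega⟩, by simp [f]⟩,
        fun x => rfl, fun i => rfl⟩
    · refine (Nat.card_congr ?_).trans (Nat.card_fin m)
      exact ⟨fun x => ⟨x.1.val - m, by have := x.1.isLt; omega⟩, fun i => ⟨⟨i.val + m, by omega⟩, by simp [f]⟩,
        fun x => by
          have h : ¬ x.1.val < m := fun h => by have := x.2; simp [f, h] at this
          ext; simp; omega,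
        fun i => by ext; simp⟩
  let M := MulAction.stabilizer (Equiv.Perm (Fin n)) a
  let SO := MulAction.stabilizer (Equiv.Perm (Fin n)) O
  let K := CfsgLib.Classical22.blockStab f
  have haO : a ∈ O := show (0 : ℕ) < m by omega
  have hSO : ∀ g, g ∈ SO ↔ ∀ i, g i ∈ O ↔ i ∈ O := by
    intro g
    rw [MulAction.mem_stabilizer_iff]
    constructor
    · intro h i
      conv_lhs => rw [← h]
      exact Set.smul_mem_smul_set_iff
    · intro h; ext i
      rw [Set.mem_smul_set_iff_inv_smul_mem]
      simpa using (h (g⁻¹ i)).symm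
  have hSOK : SO ≤ K := by
    intro g hg x y
    have h : ∀ i, f (g i) = f i := fun i => by
      have := (hSO g).mp hg i
      simp only [f, O, Set.mem_setOf_eq] at this ⊢
      simp [this]
    rw [h, h]
  haveI : Nontrivial (Fin n) := Fin.nontrivial_iff_two_le.mpr (by omega)
  have hMco : IsCoatom M := by
    show IsCoatom (MulAction.stabilizer (Equiv.Perm (Fin n)) a)
    rw [← MulAction.stabilizer_singleton]
    refine Equiv.Perm.isCoatom_stabilizer (Set.singleton_nonempty a) ⟨⟨m, by omega⟩, ?_⟩ ?_
    · simp [a, Fin.ext_iff]; omega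
    · simp [n]; omega
  refine ⟨M, M ⊓ SO, K, hMco, ?_, inf_le_left, ?_, ?_, inf_le_right.trans hSOK, ?_⟩
  · rw [MulAction.index_stabilizer_of_transitive]; simp [n]
  · -- inside the point stabiliser
    let Ω' := {x : Fin n // x ≠ a}
    let O' : Set Ω' := {x | x.1 ∈ O}
    have hfix : ∀ g : M, ∀ x, x ≠ a ↔ (g : Equiv.Perm (Fin n)) x ≠ a := fun g x => by
      rw [not_iff_not]
      exact ⟨fun h => h.symm ▸ g.2, fun h => (g : Equiv.Perm (Fin n)).injective (h.trans g.2.symm)⟩
    let e : M ≃* Equiv.Perm Ω' :=
      { toFun := fun g => (g : Equiv.Perm (Fin n)).subtypePerm fun x => (hfix g x).symm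
        invFun := fun s => ⟨Equiv.Perm.ofSubtype s, Equiv.Perm.ofSubtype_apply_of_not_mem s (by simp)⟩
        left_inv := fun g => Subtype.ext (Equiv.Perm.ofSubtype_subtypePerm _ fun x hx h => hx (h ▸ g.2))
        right_inv := fun s => by
          ext x
          simp [Equiv.Perm.ofSubtype_apply_of_mem, x.2]
        map_mul' := fun g h => by ext x; rfl }
    have hco : IsCoatom (MulAction.stabilizer (Equiv.Perm Ω') O') := by
      refine Equiv.Perm.isCoatom_stabilizer ⟨⟨⟨1, by omega⟩, by simp [a, Fin.ext_iff]⟩, ?_⟩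
        ⟨⟨⟨m, by omega⟩, by simp [a, Fin.ext_iff]; omega⟩, ?_⟩ ?_
      · show (1 : ℕ) < m; omega
      · show ¬ ((⟨m, _⟩ : Fin n) : ℕ) < m; simp
      · intro h
        have h1 : Nat.card Ω' = n - 1 := by
          rw [Nat.card_eq_fintype_card, Fintype.card_subtype_compl, Fintype.card_fin, Fintype.card_subtype_eq]
        omega
    have hcomap : (M ⊓ SO).subgroupOf M = (MulAction.stabilizer (Equiv.Perm Ω') O').comap e.toMonoidHom := by
      ext g
      have hmem : ∀ s : Equiv.Perm Ω', s ∈ MulAction.stabilizer (Equiv.Perm Ω') O' ↔ ∀ x, s x ∈ O' ↔ x ∈ O' := by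
        intro s
        rw [MulAction.mem_stabilizer_iff]
        constructor
        · intro h i
          conv_lhs => rw [← h]
          exact Set.smul_mem_smul_set_iff
        · intro h; ext i
          rw [Set.mem_smul_set_iff_inv_smul_mem]
          simpa using (h (s⁻¹ i)).symm
      rw [Subgroup.mem_subgroupOf, Subgroup.mem_inf, and_iff_right g.2, Subgroup.mem_comap, hSO, hmem]
      refine ⟨fun h x => h x.1, fun h x => ?_⟩
      by_cases hx : x = a
      · rw [hx, show (g : Equiv.Perm (Fin n)) a = a from g.2]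
      · exact h ⟨x, hx⟩
    rw [hcomap]
    exact (e.comapSubgroup.isCoatom_iff _).mpr hco
  · exact CfsgLib.Classical22.isCoatom_blockStab hm hcard ⟨0, 1, by simp⟩
  · intro hco
    let b : Fin n := ⟨1, by omega⟩
    have hab : a ≠ b := by simp [a, b, Fin.ext_iff]
    have hsw : Equiv.swap a b ∈ SO := (hSO _).mpr fun i => by
      rcases eq_or_ne i a with rfl | hia
      · rw [Equiv.swap_apply_left]; exact iff_of_true (show (1 : ℕ) < m by omega) haO
      · rcases eq_or_ne i b with rfl | hib
        · rw [Equiv.swap_apply_right]; exact iff_of_true haO (show (1 : ℕ) < m by omega)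
        · rw [Equiv.swap_apply_of_ne_of_ne hia hib]
    have hlt : (M ⊓ SO).subgroupOf K < SO.subgroupOf K := by
      refine lt_of_le_of_ne (Subgroup.comap_mono inf_le_right) fun h => ?_
      have h1 : (⟨_, hSOK hsw⟩ : K) ∈ SO.subgroupOf K := hsw
      rw [← h] at h1
      exact hab ((Equiv.swap_apply_left a b).symm.trans h1.1).symm
    obtain ⟨g, hg, hgf⟩ := CfsgLib.Classical22.exists_lift hcard (Equiv.swap 0 1)
    have h2 : g ∈ SO := by
      have h3 : (⟨g, hg⟩ : K) ∈ SO.subgroupOf K := hco.2 _ hlt ▸ Subgroup.mem_top _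
      exact h3
    have h3 := ((hSO g).mp h2 a).mpr haO
    rw [hfO, hgf, (hfO a).mp haO, Equiv.swap_apply_left] at h3
    exact absurd h3 (by decide)

end Cfsg.Agent.S5894
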