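import Cfsg.Statements.S5902
import Cfsg.Agent.Lib.Classical22.Complement
-- import your own Cfsg.Agent.* helpers here

set_option autoImplicit false
open Cfsg

namespace Cfsg.Agent.S5902

/-- Let G be a finite group, X a subgroup whose own subgroup lattice is complemented, and suppose X lies in exactly one maximal subgroup M of G. Then every subgroup H of G not contained in the normal core of M has a complement in the subgroup lattice of G (some C with H ⊔ C = G and H ⊓ C = 1); in particular the subgroup lattice of G modulo the normal core of M is complemented. -/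
theorem result {G : Type*} [Group G] [Finite G] (X M : Subgroup G)
    (hK : ComplementedLattice (Subgroup X))
    (hM : IsCoatom M) (hXM : X ≤ M) (huniq : ∀ M' : Subgroup G, IsCoatom M' → X ≤ M' → M' = M) :
    (∀ H : Subgroup G, ¬ H ≤ M.normalCore → ∃ C : Subgroup G, H ⊔ C = ⊤ ∧ H ⊓ C = ⊥) ∧
    ComplementedLattice (Subgroup (G ⧸ M.normalCore)) := by
  open CfsgLib.Classical22 in
  have main : ∀ H : Subgroup G, ¬ H ≤ M.normalCore → ∃ C : Subgroup G, H ⊔ C = ⊤ ∧ H ⊓ C = ⊥ := by
    intro H hH
    obtain ⟨g, hg⟩ := exists_conj_not_le hH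
    refine exists_complement_conj g (exists_complement_of_interval (T := ⊥) bot_le (fun Y _ hY => ?_) huniq hg (inf_bot_eq _))
    obtain ⟨C, hC⟩ := exists_isCompl (Y.subgroupOf X)
    refine ⟨C.map X.subtype, bot_le, Subgroup.map_subtype_le C, ?_, ?_⟩
    · have := congrArg (Subgroup.map X.subtype) hC.sup_eq_top
      rwa [Subgroup.map_sup, Subgroup.map_subgroupOf_eq_of_le hY, ← MonoidHom.range_eq_map, Subgroup.range_subtype] at this
    · have := congrArg (Subgroup.map X.subtype) hC.inf_eq_bot
      rwa [Subgroup.map_inf _ _ _ X.subtype_injective, Subgroup.map_subgroupOf_eq_of_le hY, Subgroup.map_bot] at this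
  refine ⟨main, ⟨fun Hb => ?_⟩⟩
  set π := QuotientGroup.mk' M.normalCore
  have hπ : Function.Surjective π := QuotientGroup.mk'_surjective _
  have hker : π.ker = M.normalCore := QuotientGroup.ker_mk' _
  have hNle : M.normalCore ≤ Hb.comap π := fun x hx => by
    rw [Subgroup.mem_comap, show π x = 1 from (QuotientGroup.eq_one_iff x).mpr hx]; exact Hb.one_mem
  by_cases hle : Hb.comap π ≤ M.normalCore
  · refine ⟨⊤, ?_⟩
    have : Hb = ⊥ := by
      rw [← Subgroup.map_comap_eq_self_of_surjective hπ Hb, Subgroup.map_eq_bot_iff, hker]; exact hle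
    rw [this]; exact isCompl_bot_top
  obtain ⟨C, hC1, hC2⟩ := main _ hle
  refine ⟨C.map π, IsCompl.of_eq ?_ ?_⟩
  · rw [eq_bot_iff]
    rintro x ⟨hxH, c, hc, rfl⟩
    have hc1 : c ∈ Hb.comap π ⊓ C := ⟨hxH, hc⟩
    rw [hC2, Subgroup.mem_bot] at hc1
    rw [Subgroup.mem_bot, hc1, map_one]
  · have h := congrArg (Subgroup.map π) hC1
    rwa [Subgroup.map_sup, Subgroup.map_comap_eq_self_of_surjective hπ, Subgroup.map_top_of_surjective π hπ] at h

end Cfsg.Agent.S5902
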