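import Cfsg.Statements.S5903
import Cfsg.Agent.Lib.Classical22.Complement
-- import your own Cfsg.Agent.* helpers here

set_option autoImplicit false
open Cfsg

namespace Cfsg.Agent.S5903

/-- Let G be a finite simple group, X a subgroup lying in exactly one maximal subgroup M of G, and N a subgroup of prime order with N ≤ X that is central in M. If the subgroup lattice of X/N is complemented, then the subgroup lattice of G is complemented. -/
theorem result {G : Type*} [Group G] [Finite G] [IsSimpleGroup G] (X M N : Subgroup G)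
    (hM : IsCoatom M) (hXM : X ≤ M) (huniq : ∀ M' : Subgroup G, IsCoatom M' → X ≤ M' → M' = M)
    (hNX : N ≤ X) (hN : (Nat.card N).Prime) (hcen : ∀ n ∈ N, ∀ m ∈ M, m * n = n * m)
    [(N.subgroupOf X).Normal] (hK : ComplementedLattice (Subgroup (X ⧸ N.subgroupOf X))) :
    ComplementedLattice (Subgroup G) := by
  open CfsgLib.Classical22 in
  have key : ∀ H : Subgroup G, ¬ H ≤ M → H ⊓ N = ⊥ → ∃ C : Subgroup G, H ⊔ C = ⊤ ∧ H ⊓ C = ⊥ := by
    intro H hH hHN
    refine exists_complement_of_interval hNX (fun Y hNY hYX => ?_) huniq hH hHN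
    set π := QuotientGroup.mk' (N.subgroupOf X)
    have hπ : Function.Surjective π := QuotientGroup.mk'_surjective _
    have hker : π.ker = N.subgroupOf X := QuotientGroup.ker_mk' _
    have hYk : (Y.subgroupOf X ⊔ π.ker) = Y.subgroupOf X := sup_eq_left.mpr (by
      rw [hker]; exact fun x hx => hNY hx)
    obtain ⟨C, hC⟩ := exists_isCompl ((Y.subgroupOf X).map π)
    refine ⟨(C.comap π).map X.subtype, ?_, Subgroup.map_subtype_le _, ?_, ?_⟩
    · intro x hx
      have h1 : (⟨x, hNX hx⟩ : X) ∈ π.ker := hker.symm ▸ hx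
      exact ⟨⟨x, hNX hx⟩, π.ker_le_comap C h1, rfl⟩
    · have h1 : Y.subgroupOf X ⊔ C.comap π = ⊤ := by
        have h := congrArg (Subgroup.comap π) hC.sup_eq_top
        rwa [← Subgroup.comap_sup_eq _ _ _ hπ, Subgroup.comap_map_eq, hYk, Subgroup.comap_top] at h
      have := congrArg (Subgroup.map X.subtype) h1
      rwa [Subgroup.map_sup, Subgroup.map_subgroupOf_eq_of_le hYX, ← MonoidHom.range_eq_map, Subgroup.range_subtype] at this
    · have h1 : Y.subgroupOf X ⊓ C.comap π = N.subgroupOf X := by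
        have h := congrArg (Subgroup.comap π) hC.inf_eq_bot
        rwa [Subgroup.comap_inf, Subgroup.comap_map_eq, hYk, MonoidHom.comap_bot, hker] at h
      have := congrArg (Subgroup.map X.subtype) h1
      rwa [Subgroup.map_inf _ _ _ X.subtype_injective, Subgroup.map_subgroupOf_eq_of_le hYX,
        Subgroup.map_subgroupOf_eq_of_le hNX] at this
  refine ⟨fun H => ?_⟩
  by_cases hbot : H = ⊥
  · exact ⟨⊤, hbot ▸ isCompl_bot_top⟩
  by_cases htop : H = ⊤
  · exact ⟨⊥, htop ▸ isCompl_top_bot⟩
  by_cases hex : ∃ g : G, ¬ H.map (MulAut.conj g).toMonoidHom ≤ M ∧ ¬ N ≤ H.map (MulAut.conj g).toMonoidHom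
  · obtain ⟨g, hg1, hg2⟩ := hex
    obtain ⟨C, h1, h2⟩ := exists_complement_conj g (key _ hg1 (by
      haveI : Fact (Nat.card N).Prime := ⟨hN⟩
      rcases Subgroup.eq_bot_or_eq_top_of_prime_card ((H.map (MulAut.conj g).toMonoidHom).subgroupOf N) with h | h
      · rwa [Subgroup.subgroupOf_eq_bot, disjoint_iff] at h
      · exact absurd (Subgroup.subgroupOf_eq_top.mp h) hg2))
    exact ⟨C, IsCompl.of_eq h2 h1⟩
  exfalso
  simp only [not_exists, not_and, not_not] at hex
  -- all conjugates of `N` normalise `H`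
  have hnorm : ∀ g : G, ∀ n ∈ N, g⁻¹ * n * g ∈ Subgroup.normalizer (H : Set G) := by
    intro g n hn
    by_cases hle : H.map (MulAut.conj g).toMonoidHom ≤ M
    · rw [Subgroup.mem_normalizer_iff]
      have hc : ∀ h ∈ H, g⁻¹ * n * g * h * (g⁻¹ * n * g)⁻¹ = h := by
        intro h hh
        have := hcen n hn _ (hle ⟨h, hh, rfl⟩)
        simp only [MulEquiv.coe_toMonoidHom, MulAut.conj_apply] at this
        calc g⁻¹ * n * g * h * (g⁻¹ * n * g)⁻¹ = g⁻¹ * (n * (g * h * g⁻¹)) * n⁻¹ * g := by group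
          _ = g⁻¹ * ((g * h * g⁻¹) * n) * n⁻¹ * g := by rw [← this]
          _ = h := by group
      intro h
      refine ⟨fun hh => (hc h hh).symm ▸ hh, fun hh => ?_⟩
      have h2 := hc _ hh
      have h3 : g⁻¹ * n * g * h * (g⁻¹ * n * g)⁻¹ = h := mul_left_cancel (mul_right_cancel h2)
      rwa [h3] at hh
    · obtain ⟨h, hh, e⟩ := hex g hle hn
      apply Subgroup.le_normalizer
      simp only [MulEquiv.coe_toMonoidHom, MulAut.conj_apply] at e
      rw [show g⁻¹ * n * g = h by rw [← e]; group]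
      exact hh
  have hnc : Subgroup.normalClosure (N : Set G) = ⊤ := by
    refine Subgroup.normalClosure_normal.eq_bot_or_eq_top.resolve_left fun h => ?_
    have hN' : N = ⊥ := le_bot_iff.mp (h ▸ Subgroup.le_normalClosure)
    rw [hN', Subgroup.card_bot] at hN
    exact Nat.not_prime_one hN
  have htop' : Subgroup.normalizer (H : Set G) = ⊤ := by
    rw [eq_top_iff, ← hnc]
    refine (Subgroup.closure_le _).mpr ?_
    intro x hx
    obtain ⟨n, hn, hx⟩ := Group.mem_conjugatesOfSet_iff.mp hx
    obtain ⟨c, rfl⟩ := isConj_iff.mp hx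
    simpa using hnorm c⁻¹ n hn
  have hHn : H.Normal := Subgroup.normalizer_eq_top_iff.mp htop'
  exact hHn.eq_bot_or_eq_top.elim hbot htop

end Cfsg.Agent.S5903
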