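import Cfsg.Statements.S5904
-- import your own Cfsg.Agent.* helpers here

set_option autoImplicit false
open scoped Pointwise
open Cfsg

namespace Cfsg.Agent.S5904

/-- Let Ω be a finite set with more than two elements and O ⊆ Ω a subset with exactly as many elements as its complement. Then the setwise stabilizer of O in the symmetric group on Ω is not a maximal subgroup (it is properly contained in the stabilizer of the partition {O, Ω ∖ O}, which is proper). -/
theorem result {Ω : Type*} [Fintype Ω] [DecidableEq Ω] (hΩ : 2 < Fintype.card Ω)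
    (O : Set Ω) (hO : Nat.card O = Nat.card ↥Oᶜ) :
    ¬ IsCoatom (MulAction.stabilizer (Equiv.Perm Ω) O) := by
  classical
  open scoped Pointwise in
  intro hco
  have e : O ≃ (↥Oᶜ) := Classical.choice (Finite.card_eq.mp hO)
  let g : Equiv.Perm Ω := (Equiv.Set.sumCompl O).symm.trans
    ((Equiv.sumComm _ _).trans ((Equiv.sumCongr e.symm e).trans (Equiv.Set.sumCompl O)))
  have hg1 : ∀ x ∈ O, g x ∉ O := fun x hx => by
    have : g x = (e ⟨x, hx⟩ : Ω) := by simp [g, Equiv.Set.sumCompl_symm_apply_of_mem hx]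
    rw [this]; exact (e ⟨x, hx⟩).2
  have hg2 : ∀ x, x ∉ O → g x ∈ O := fun x hx => by
    have : g x = (e.symm ⟨x, hx⟩ : Ω) := by simp [g, Equiv.Set.sumCompl_symm_apply_of_notMem hx]
    rw [this]; exact (e.symm ⟨x, hx⟩).2
  have hgO : g • O = Oᶜ := by
    ext y
    simp only [Set.mem_smul_set, Equiv.Perm.smul_def, Set.mem_compl_iff]
    refine ⟨?_, fun hy => ⟨g⁻¹ y, ?_, by simp⟩⟩
    · rintro ⟨x, hx, rfl⟩; exact hg1 x hx
    · by_contra h
      have := hg2 _ h
      simp at this
      exact hy this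
  let K := MulAction.stabilizer (Equiv.Perm Ω) ({O, Oᶜ} : Set (Set Ω))
  have hne : O ≠ Oᶜ := fun h => by
    rcases isEmpty_or_nonempty Ω with hE | hE
    · rw [Fintype.card_eq_zero] at hΩ; omega
    · have h' := Set.ext_iff.mp h (Classical.arbitrary Ω)
      rw [Set.mem_compl_iff] at h'
      exact iff_not_self h'
  have hle : MulAction.stabilizer (Equiv.Perm Ω) O ≤ K := fun s hs => by
    rw [MulAction.mem_stabilizer_iff] at hs ⊢
    rw [Set.smul_set_insert, Set.smul_set_singleton, Set.smul_set_compl, hs]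
  have hgK : g ∈ K := by
    rw [MulAction.mem_stabilizer_iff, Set.smul_set_insert, Set.smul_set_singleton, Set.smul_set_compl, hgO,
      compl_compl, Set.pair_comm]
  have hlt : MulAction.stabilizer (Equiv.Perm Ω) O < K := lt_of_le_of_ne hle fun h => by
    have : g ∈ MulAction.stabilizer (Equiv.Perm Ω) O := h ▸ hgK
    rw [MulAction.mem_stabilizer_iff, hgO] at this
    exact hne this.symm
  have htop : K = ⊤ := hco.2 K hlt
  have hcard : 2 ≤ Nat.card O := by
    have := Nat.card_congr (Equiv.Set.sumCompl O)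
    rw [Nat.card_sum, ← hO, Nat.card_eq_fintype_card (α := Ω)] at this
    omega
  obtain ⟨x, hx, z, hz, hxz⟩ : ∃ x ∈ O, ∃ z ∈ O, x ≠ z := by
    rw [Nat.card_coe_set_eq] at hcard
    exact (Set.one_lt_ncard (Set.toFinite O)).mp hcard
  have hy : g x ∉ O := hg1 x hx
  have hmem : Equiv.swap x (g x) • O ∈ ({O, Oᶜ} : Set (Set Ω)) := by
    have h : Equiv.swap x (g x) ∈ K := htop ▸ Subgroup.mem_top _
    rw [← MulAction.mem_stabilizer_iff.mp h]
    exact Set.smul_mem_smul_set (Set.mem_insert _ _)
  have hgx : g x ∈ Equiv.swap x (g x) • O := ⟨x, hx, Equiv.swap_apply_left _ _⟩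
  have hzz : z ∈ Equiv.swap x (g x) • O := ⟨z, hz, Equiv.swap_apply_of_ne_of_ne hxz.symm (fun h => hy (h ▸ hz))⟩
  rcases hmem with h | h
  · exact hy (h ▸ hgx)
  · rw [Set.mem_singleton_iff] at h
    exact (h ▸ hzz) hz

end Cfsg.Agent.S5904
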