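import Cfsg.Statements.S5908
import Cfsg.Agent.Lib.Classical.SmallIso.SUThreeTwo
-- import your own Cfsg.Agent.* helpers here

set_option autoImplicit false
open Cfsg

namespace Cfsg.Agent.S5908

/-- The subgroup lattice of PSU₃(2) (the solvable group of order 72, realised over the field with 4 elements) is not complemented: some subgroup H has no subgroup X with H ⊔ X = ⊤ and H ⊓ X = ⊥. -/
theorem result {F : Type*} [Field F] [Fintype F] (hF : Fintype.card F = 4) :
    ¬ ComplementedLattice (Subgroup (Cfsg.PSU 3 F 2)) := by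
  classical
  intro hC
  obtain ⟨N, hN, -, -, ⟨φ⟩⟩ := CfsgLib.Classical.SmallIso.su_three_two hF
  obtain ⟨π, hπ⟩ : ∃ π : Cfsg.PSU 3 F 2 →* QuaternionGroup 2, Function.Surjective π :=
    ⟨φ.toMonoidHom.comp (QuotientGroup.mk' N), φ.surjective.comp (QuotientGroup.mk'_surjective N)⟩
  obtain ⟨H, hH⟩ : ∃ H : Subgroup (Cfsg.PSU 3 F 2), ∀ x, x ∈ H ↔ π x ∈ Subgroup.zpowers (QuaternionGroup.a 1) :=
    ⟨(Subgroup.zpowers (QuaternionGroup.a 1)).comap π, fun x => Subgroup.mem_comap⟩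
  obtain ⟨X, hX⟩ := hC.exists_isCompl H
  have hsmall : ∀ x ∈ X, x ∈ H := by
    intro x hx
    rcases hπx : π x with i | i
    · rw [hH, hπx]
      refine ⟨(i.val : ℤ), ?_⟩
      show QuaternionGroup.a 1 ^ ((i.val : ℕ) : ℤ) = QuaternionGroup.a i
      rw [zpow_natCast, QuaternionGroup.a_one_pow, ZMod.natCast_zmod_val]
    · exfalso
      have h2 : x ^ 2 ∈ H := by
        rw [hH, map_pow, hπx, pow_two, QuaternionGroup.xa_mul_xa]
        refine ⟨2, ?_⟩
        simp
      have h1 : x ^ 2 = 1 := Subgroup.mem_bot.1 (hX.disjoint.le_bot ⟨h2, X.pow_mem hx 2⟩)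
      have h3 := congrArg π h1
      rw [map_pow, map_one, hπx, pow_two, QuaternionGroup.xa_mul_xa] at h3
      rw [QuaternionGroup.one_def] at h3
      exact absurd h3 (by simp; decide)
  have hXH : X ≤ H := hsmall
  have htop : H = ⊤ := by rw [← sup_eq_left.2 hXH]; exact hX.sup_eq_top
  obtain ⟨x, hx⟩ := hπ (QuaternionGroup.xa 0)
  have h : x ∈ H := htop ▸ Subgroup.mem_top x
  rw [hH, hx] at h
  obtain ⟨k, hk⟩ := Subgroup.mem_zpowers_iff.1 h
  have := Int.emod_nonneg k (show (4 : ℤ) ≠ 0 by norm_num)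
  rw [← zpow_mod_orderOf, QuaternionGroup.orderOf_a_one] at hk
  obtain ⟨j, hj⟩ : ∃ j : ℕ, (j : ℤ) = k % ((2 * 2 : ℕ) : ℤ) := ⟨(k % ((2 * 2 : ℕ) : ℤ)).toNat, Int.toNat_of_nonneg (by simpa using this)⟩
  rw [← hj, zpow_natCast, QuaternionGroup.a_one_pow] at hk
  simp at hk

end Cfsg.Agent.S5908
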