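import Cfsg.Statements.S5910
-- import your own Cfsg.Agent.* helpers here

set_option autoImplicit false
open Cfsg

namespace Cfsg.Agent.S5910

namespace Aff

/-- Addition on the four pair labels. -/
def xor4 (i j : Fin 4) : Fin 4 := ![![0, 1, 2, 3], ![1, 0, 3, 2], ![2, 3, 0, 1], ![3, 2, 1, 0]] i j

/-- The ternary affine operation `x + y + z` of the eight points of `AG(3,2)`. -/
def op (x y z : Fin 4 × Fin 2) : Fin 4 × Fin 2 := (xor4 (xor4 x.1 y.1) z.1, x.2 + y.2 + z.2)

/-- The affine group of `AG(3,2)`. -/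
def aff : Subgroup (Equiv.Perm (Fin 4 × Fin 2)) where
  carrier := {g | ∀ x y z, g (op x y z) = op (g x) (g y) (g z)}
  one_mem' := fun _ _ _ => rfl
  mul_mem' := fun {g h} hg hh x y z => by
    change g (h (op x y z)) = op (g (h x)) (g (h y)) (g (h z))
    rw [hh, hg]
  inv_mem' := fun {g} hg x y z => by
    apply g.injective
    rw [hg, Equiv.Perm.inv_def]
    simp only [Equiv.apply_symm_apply]

/-- Pair flips. -/
def flips (ε : Fin 4 → Fin 2) : Equiv.Perm (Fin 4 × Fin 2) :=
  Equiv.prodCongrRight fun i => Equiv.addRight (ε i)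

/-- Pair permutations. -/
def lift (π : Equiv.Perm (Fin 4)) : Equiv.Perm (Fin 4 × Fin 2) := Equiv.prodCongrLeft fun _ => π

theorem lift_affine : ∀ (π : Equiv.Perm (Fin 4)) (i j k : Fin 4), π (xor4 (xor4 i j) k) = xor4 (xor4 (π i) (π j)) (π k) := by
  decide +kernel

theorem flips_affine : ∀ ε : Fin 4 → Fin 2, ε 0 + ε 1 + ε 2 + ε 3 = 0 →
    ∀ i j k : Fin 4, ε (xor4 (xor4 i j) k) = ε i + ε j + ε k := by
  decide +kernel

theorem sign_lift : ∀ π : Equiv.Perm (Fin 4), Equiv.Perm.sign (lift π) = 1 := fun π => by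
  rw [lift, Equiv.Perm.sign_prodCongrLeft]
  simp

theorem sign_flips : ∀ ε : Fin 4 → Fin 2, Equiv.Perm.sign (flips ε) = 1 → ε 0 + ε 1 + ε 2 + ε 3 = 0 := by
  intro ε
  rw [flips, Equiv.Perm.sign_prodCongrRight, Fin.prod_univ_four]
  have h : ∀ a : Fin 2, Equiv.Perm.sign (Equiv.addRight a) = if a = 0 then 1 else -1 := by decide
  rw [h, h, h, h]
  generalize ε 0 = a; generalize ε 1 = b; generalize ε 2 = c; generalize ε 3 = d
  revert a b c d
  decide

/-- Even pair-preserving permutations are affine. -/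
theorem mem_aff {g : Equiv.Perm (Fin 4 × Fin 2)} (hg : ∀ x y : Fin 4 × Fin 2, x.1 = y.1 ↔ (g x).1 = (g y).1)
    (hs : Equiv.Perm.sign g = 1) : g ∈ aff := by
  have hp : ∀ i e, (g (i, e)).1 = (g (i, 0)).1 := fun i e => (hg _ _).mp rfl
  let π : Equiv.Perm (Fin 4) := Equiv.ofBijective (fun i => (g (i, 0)).1)
    (Finite.injective_iff_bijective.mp fun i j h => (hg (i, 0) (j, 0)).mpr h)
  let ε : Fin 4 → Fin 2 := fun i => (g (i, 0)).2
  have hge : g = lift π * flips ε := by
    refine Equiv.ext fun ⟨i, e⟩ => ?_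
    change g (i, e) = ((g (i, 0)).1, e + ε i)
    refine Prod.ext (hp i e) ?_
    rcases Fin.exists_fin_two.mp ⟨e, rfl⟩ with rfl | rfl
    · exact (zero_add _).symm
    · have hne : (g (i, 1)).2 ≠ (g (i, 0)).2 := fun h => by
        have := g.injective (Prod.ext (hp i 1) h)
        simp at this
      change _ = 1 + ε i
      revert hne
      generalize (g (i, 1)).2 = u
      change u ≠ ε i → _
      generalize ε i = v
      revert u v
      decide
  have hε : ε 0 + ε 1 + ε 2 + ε 3 = 0 := sign_flips ε (by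
    rw [hge, map_mul, sign_lift, one_mul] at hs; exact hs)
  intro x y z
  rw [hge]
  change (π (op x y z).1, (op x y z).2 + ε (op x y z).1) = op (π x.1, x.2 + ε x.1) (π y.1, y.2 + ε y.1) (π z.1, z.2 + ε z.1)
  refine Prod.ext (lift_affine π _ _ _) ?_
  change x.2 + y.2 + z.2 + ε (xor4 (xor4 x.1 y.1) z.1) = x.2 + ε x.1 + (y.2 + ε y.1) + (z.2 + ε z.1)
  rw [flips_affine ε hε]
  abel

/-- The witness outside the wreath product. -/
def extra : Equiv.Perm (Fin 4 × Fin 2) := Equiv.swap (0, 1) (1, 0) * Equiv.swap (2, 1) (3, 0)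

theorem extra_mem : extra ∈ aff := by
  change ∀ x y z, extra (op x y z) = op (extra x) (extra y) (extra z)
  decide +kernel

theorem extra_facts : Equiv.Perm.sign extra = 1 ∧ (extra (0, 0)).1 ≠ (extra (0, 1)).1 := by decide +kernel

/-- An even permutation that is not affine. -/
def three : Equiv.Perm (Fin 4 × Fin 2) := Equiv.swap (0, 0) (1, 0) * Equiv.swap (1, 0) (2, 1)

theorem three_facts : Equiv.Perm.sign three = 1 ∧
    ¬ (∀ x y z, three (op x y z) = op (three x) (three y) (three z)) := by decide +kernel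

end Aff

/-- Let Ω be a set with 8 elements and f : Ω → Fin 4 a labelling whose four fibres all have size 2 (a partition of the 8 points into 4 pairs). Then the group of even permutations preserving this partition, (S₂ ≀ S₄) ∩ A₈, is not a maximal subgroup of the alternating group A₈ (it lies in a subgroup isomorphic to the affine group AGL₃(2)). -/
theorem result {Ω : Type*} [Fintype Ω] [DecidableEq Ω] (h8 : Fintype.card Ω = 8)
    (f : Ω → Fin 4) (hf : ∀ i : Fin 4, Nat.card {x : Ω // f x = i} = 2) :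
    ¬ IsCoatom ((Subgroup.closure {g : Equiv.Perm Ω | ∀ x y : Ω, f x = f y ↔ f (g x) = f (g y)} ⊓ alternatingGroup Ω).subgroupOf (alternatingGroup Ω)) := by
  classical
  intro hco
  let e₀ : ∀ i, {x : Ω // f x = i} ≃ Fin 2 := fun i => (Finite.equivFinOfCardEq (hf i))
  let e : Fin 4 × Fin 2 ≃ Ω := ((Equiv.sigmaEquivProd (Fin 4) (Fin 2)).symm.trans (Equiv.sigmaCongrRight fun i => (e₀ i).symm)).trans (Equiv.sigmaFiberEquiv f)
  have hfe : ∀ x, f (e x) = x.1 := fun x => ((e₀ x.1).symm x.2).2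
  let K : Subgroup (Equiv.Perm Ω) := (Aff.aff.map e.permCongrHom.toMonoidHom) ⊓ alternatingGroup Ω
  have happ : ∀ (u : Equiv.Perm (Fin 4 × Fin 2)) x, e.permCongrHom u (e x) = e (u x) := fun u x => by
    simp [Equiv.permCongrHom, Equiv.permCongr_apply]
  have hsign : ∀ u : Equiv.Perm (Fin 4 × Fin 2), Equiv.Perm.sign (e.permCongrHom u) = Equiv.Perm.sign u := fun u =>
    Equiv.Perm.sign_permCongr e u
  set W : Subgroup (Equiv.Perm Ω) := Subgroup.closure {g : Equiv.Perm Ω | ∀ x y : Ω, f x = f y ↔ f (g x) = f (g y)} with hW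
  have hWmem : ∀ g ∈ W, ∀ x y : Ω, f x = f y ↔ f (g x) = f (g y) := fun g hg => by
    induction hg using Subgroup.closure_induction with
    | mem z hz => exact hz
    | one => exact fun _ _ => Iff.rfl
    | mul a b _ _ ha hb => exact fun x y => (hb x y).trans (ha (b x) (b y))
    | inv a _ ha => exact fun x y => by simpa using (ha (a⁻¹ x) (a⁻¹ y)).symm
  have hle : (W ⊓ alternatingGroup Ω).subgroupOf (alternatingGroup Ω) < K.subgroupOf (alternatingGroup Ω) := by
    refine lt_of_le_of_ne (fun g hg => ?_) fun h => ?_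
    · refine ⟨⟨e.permCongrHom.symm (g : Equiv.Perm Ω), Aff.mem_aff (fun x y => ?_) ?_, e.permCongrHom.apply_symm_apply _⟩, g.2⟩
      · have key : ∀ z, e ((e.permCongrHom.symm (g : Equiv.Perm Ω)) z) = (g : Equiv.Perm Ω) (e z) := fun z => by
          rw [← happ, e.permCongrHom.apply_symm_apply]
        rw [← hfe x, ← hfe y, ← hfe, ← hfe, key, key]
        exact hWmem _ hg.1 _ _
      · rw [← hsign, e.permCongrHom.apply_symm_apply]; exact g.2
    · have h1 : e.permCongrHom Aff.extra ∈ alternatingGroup Ω := by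
        rw [Equiv.Perm.mem_alternatingGroup, hsign]; exact Aff.extra_facts.1
      have h2 : (⟨_, h1⟩ : alternatingGroup Ω) ∈ K.subgroupOf (alternatingGroup Ω) := ⟨⟨_, Aff.extra_mem, rfl⟩, h1⟩
      rw [← h] at h2
      have h3 := (hWmem _ h2.1 (e (0, 0)) (e (0, 1))).mp (by rw [hfe, hfe])
      change f (e.permCongrHom Aff.extra (e (0, 0))) = f (e.permCongrHom Aff.extra (e (0, 1))) at h3
      rw [happ, happ, hfe, hfe] at h3
      exact Aff.extra_facts.2 h3
  have htop := hco.2 _ hle
  have h1 : e.permCongrHom Aff.three ∈ alternatingGroup Ω := by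
    rw [Equiv.Perm.mem_alternatingGroup, hsign]; exact Aff.three_facts.1
  obtain ⟨⟨u, hu, hue⟩, -⟩ := Subgroup.subgroupOf_eq_top.mp htop h1
  exact Aff.three_facts.2 (e.permCongrHom.injective hue ▸ hu)

end Cfsg.Agent.S5910
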