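import Cfsg.Statements.S5911
import Cfsg.Agent.Lib.Classical22.SymIndex
-- import your own Cfsg.Agent.* helpers here

set_option autoImplicit false
open Cfsg

namespace Cfsg.Agent.S5911

/-- Let Ω be a finite set whose size n is not 6. Then every subgroup of the symmetric group on Ω of index n is the stabilizer of a point. -/
theorem result {Ω : Type*} [Fintype Ω] [DecidableEq Ω] (h6 : Fintype.card Ω ≠ 6)
    (H : Subgroup (Equiv.Perm Ω)) (hH : H.index = Fintype.card Ω) :
    ∃ x : Ω, H = MulAction.stabilizer (Equiv.Perm Ω) x := by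
  classical
  by_cases h5 : 5 ≤ Fintype.card Ω
  · exact CfsgLib.Classical22.eq_stabilizer_of_index h5 h6 hH
  have h0 : Fintype.card Ω ≠ 0 := hH ▸ Subgroup.index_ne_zero_of_finite
  haveI : Nonempty Ω := Fintype.card_pos_iff.mp (by omega)
  have hidx : ∀ x : Ω, (MulAction.stabilizer (Equiv.Perm Ω) x).index = Fintype.card Ω := fun x => by
    rw [MulAction.index_stabilizer_of_transitive, Nat.card_eq_fintype_card]
  have hord : ∀ x : Ω, Nat.card H = Nat.card (MulAction.stabilizer (Equiv.Perm Ω) x) := fun x => by
    have e := H.card_mul_index.trans (MulAction.stabilizer (Equiv.Perm Ω) x).card_mul_index.symm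
    rw [hH, hidx] at e
    exact Nat.eq_of_mul_eq_mul_right (Nat.pos_of_ne_zero h0) e
  suffices hsuff : ∃ x, H ≤ MulAction.stabilizer (Equiv.Perm Ω) x by
    obtain ⟨x, hx⟩ := hsuff
    exact ⟨x, Subgroup.eq_of_le_of_card_ge hx (hord x).ge⟩
  have hcardH : Nat.card H * Fintype.card Ω = (Fintype.card Ω).factorial := by
    have e := H.card_mul_index
    rwa [hH, Nat.card_perm, Nat.card_eq_fintype_card (α := Ω)] at e
  obtain ⟨x⟩ := ‹Nonempty Ω›
  rcases (show Fintype.card Ω ≤ 2 ∨ Fintype.card Ω = 3 ∨ Fintype.card Ω = 4 by omega) with h | h | h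
  · have h1 : Nat.card H = 1 := by
      rcases (show Fintype.card Ω = 1 ∨ Fintype.card Ω = 2 by omega) with e | e <;> rw [e] at hcardH
      · rw [Nat.factorial_one] at hcardH; omega
      · rw [Nat.factorial_two] at hcardH; omega
    exact ⟨x, by rw [Subgroup.card_eq_one.mp h1]; exact bot_le⟩
  all_goals
    -- the fixed point of a characteristic cyclic subgroup
    obtain ⟨p, hp, hpn, hp2⟩ : ∃ p, p.Prime ∧ p + 1 = Fintype.card Ω ∧ (p = 2 ∨ p = 3) := by
      refine ⟨Fintype.card Ω - 1, ?_, by omega, by omega⟩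
      rw [h]; norm_num
    haveI := Fact.mk hp
    obtain ⟨P⟩ := Sylow.nonempty (p := p) (G := H)
    have hHc : Nat.card H = p.factorial := by
      rw [← hpn, Nat.factorial_succ, mul_comm] at hcardH
      exact Nat.eq_of_mul_eq_mul_left (Nat.succ_pos p) hcardH
    have hP : Nat.card (P : Subgroup H) = p := by
      rw [P.card_eq_multiplicity, hHc]
      rcases hp2 with rfl | rfl
      · simp [Nat.factorial, Nat.Prime.factorization_self Nat.prime_two]
      · rw [show Nat.factorial 3 = 3 * 2 from rfl, Nat.factorization_mul (by norm_num) (by norm_num)]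
        simp [Nat.Prime.factorization_self Nat.prime_three, Nat.factorization_eq_zero_of_not_dvd (by norm_num : ¬ 3 ∣ 2)]
    have hN : (P : Subgroup H).Normal := by
      rcases hp2 with rfl | rfl
      · have : (P : Subgroup H) = ⊤ := Subgroup.eq_top_of_card_eq _ (by rw [hP, hHc]; rfl)
        rw [this]; infer_instance
      · exact Subgroup.normal_of_index_eq_two (by
          have := (P : Subgroup H).card_mul_index
          rw [hP, hHc, show Nat.factorial 3 = 6 from rfl] at this; omega)
    -- fixed points of `P` form a single point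
    let π : (P : Subgroup H) →* Equiv.Perm Ω := H.subtype.comp (P : Subgroup H).subtype
    obtain ⟨g, hg⟩ := exists_prime_orderOf_dvd_card' (G := (P : Subgroup H)) p (by rw [hP])
    have hπ : orderOf (π g) = p := by
      rw [orderOf_injective π (H.subtype_injective.comp (P : Subgroup H).subtype_injective), hg]
    obtain ⟨k, hk⟩ := Equiv.Perm.cycleType_prime_order (hπ ▸ hp)
    rw [hπ] at hk
    have hsum : (π g).support.card = (k + 1) * p := by rw [← Equiv.Perm.sum_cycleType, hk, Multiset.sum_replicate, smul_eq_mul]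
    have hk0 : k = 0 := by
      have hle := hsum ▸ (π g).support.card_le_univ
      rcases Nat.eq_zero_or_pos k with hk0 | hk0
      · exact hk0
      · have : 2 * p ≤ (k + 1) * p := Nat.mul_le_mul_right p (by omega)
        have := hp.two_le; omega
    subst hk0
    have hsc : ((π g).supportᶜ).card = 1 := by rw [Finset.card_compl, hsum]; omega
    obtain ⟨a, ha⟩ := Finset.card_eq_one.mp hsc
    have hfix : ∀ y, π g y = y ↔ y = a := fun y => by
      have h := Finset.ext_iff.mp ha y
      rwa [Finset.mem_compl, Equiv.Perm.mem_support, not_not, Finset.mem_singleton] at h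
    have hgen : ∀ q : (P : Subgroup H), q ∈ Subgroup.zpowers g := fun q => by
      rw [show Subgroup.zpowers g = ⊤ from Subgroup.eq_top_of_card_eq _ (by rw [Nat.card_zpowers, hg, hP])]
      trivial
    refine ⟨a, fun u hu => ?_⟩
    have hmem : (⟨u, hu⟩ : H)⁻¹ * (g : H) * (⟨u, hu⟩ : H)⁻¹⁻¹ ∈ (P : Subgroup H) := hN.conj_mem _ g.2 _
    obtain ⟨i, hi⟩ := Subgroup.mem_zpowers_iff.mp (hgen ⟨_, hmem⟩)
    have hga : (π g) (u a) = u a := by
      have h1 : π (g ^ i) a = a := by
        rw [map_zpow]; exact Equiv.Perm.zpow_apply_eq_self_of_apply_eq_self ((hfix a).mpr rfl) i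
      rw [hi] at h1
      have h2 : u⁻¹ ((π g) (u a)) = a := by simpa [π] using h1
      exact (Equiv.Perm.inv_eq_iff_eq).mp h2
    exact (hfix _).mp hga

end Cfsg.Agent.S5911
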