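import Cfsg.Statements.S5912
import Cfsg.Agent.Lib.Classical22.SymSix
-- import your own Cfsg.Agent.* helpers here

set_option autoImplicit false
open Cfsg

namespace Cfsg.Agent.S5912

/-- The symmetric group on a 6-element set Ω has exactly two conjugacy classes of subgroups of index 6: there are two non-conjugate subgroups of index 6 (a point stabilizer and a transitive subgroup isomorphic to S₅), and every subgroup of index 6 is conjugate to one of them. -/
theorem result {Ω : Type*} [Fintype Ω] [DecidableEq Ω] (h6 : Fintype.card Ω = 6) :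
    ∃ H₁ H₂ : Subgroup (Equiv.Perm Ω), H₁.index = 6 ∧ H₂.index = 6 ∧
      (¬ ∃ g : Equiv.Perm Ω, Subgroup.map (MulAut.conj g).toMonoidHom H₁ = H₂) ∧
      ∀ H : Subgroup (Equiv.Perm Ω), H.index = 6 →
        ∃ g : Equiv.Perm Ω, Subgroup.map (MulAut.conj g).toMonoidHom H₁ = H ∨ Subgroup.map (MulAut.conj g).toMonoidHom H₂ = H := by
  obtain ⟨φ, hne, hall⟩ := CfsgLib.Classical22.index_six_list h6
  haveI : Nonempty Ω := Fintype.card_pos_iff.mp (by omega)
  obtain ⟨a₀⟩ := ‹Nonempty Ω›
  have hconj : ∀ (a : Ω) (k : Equiv.Perm Ω), (MulAction.stabilizer (Equiv.Perm Ω) a).map (MulAut.conj k).toMonoidHom =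
      MulAction.stabilizer (Equiv.Perm Ω) (k a) := fun a k => (MulAction.stabilizer_smul_eq_stabilizer_map_conj k a).symm
  refine ⟨MulAction.stabilizer (Equiv.Perm Ω) a₀, (MulAction.stabilizer (Equiv.Perm Ω) a₀).comap φ.toMonoidHom, ?_,
    (CfsgLib.Classical22.index_comap_stabilizer φ a₀).trans h6, ?_, fun H hH => ?_⟩
  · rw [MulAction.index_stabilizer_of_transitive, Nat.card_eq_fintype_card, h6]
  · rintro ⟨g, hg⟩
    rw [hconj] at hg
    exact hne _ _ hg.symm
  · rcases hall H hH with ⟨a, rfl⟩ | ⟨c, rfl⟩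
    · exact ⟨Equiv.swap a₀ a, Or.inl (by rw [hconj, Equiv.swap_apply_left])⟩
    · refine ⟨φ.symm (Equiv.swap a₀ c), Or.inr (Subgroup.map_injective (f := φ.toMonoidHom) φ.injective ?_)⟩
      rw [Subgroup.map_map, Subgroup.map_comap_eq_self_of_surjective φ.surjective,
        show φ.toMonoidHom.comp (MulAut.conj (φ.symm (Equiv.swap a₀ c))).toMonoidHom =
          (MulAut.conj (Equiv.swap a₀ c)).toMonoidHom.comp φ.toMonoidHom from MonoidHom.ext fun x => by simp,
        ← Subgroup.map_map, Subgroup.map_comap_eq_self_of_surjective φ.surjective, hconj, Equiv.swap_apply_left]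

end Cfsg.Agent.S5912
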