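import Cfsg.Statements.S5913
-- import your own Cfsg.Agent.* helpers here

set_option autoImplicit false
open Cfsg

namespace Cfsg.Agent.S5913

/-- Let S be a non-abelian simple group and n a natural number. Every normal subgroup N of the direct power S^n (functions Fin n → S) is a subproduct: there is a set T of coordinates such that N consists exactly of the elements whose coordinates outside T are trivial. In particular the minimal normal subgroups of S^n are its n factors. -/
theorem result {S : Type*} [Group S] [IsSimpleGroup S] (hS : ¬ IsMulCommutative S) (n : ℕ)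
    (N : Subgroup (Fin n → S)) [N.Normal] :
    ∃ T : Finset (Fin n), ∀ x : Fin n → S, x ∈ N ↔ ∀ i, i ∉ T → x i = 1 := by
  classical
  refine ⟨Finset.univ.filter fun i => ∃ x ∈ N, x i ≠ 1, fun x => ⟨fun hx i hi => ?_, fun hx => ?_⟩⟩
  · by_contra h
    exact hi (Finset.mem_filter.mpr ⟨Finset.mem_univ i, x, hx, h⟩)
  have hsingle : ∀ i, (∃ x ∈ N, x i ≠ 1) → ∀ s : S, Pi.mulSingle i s ∈ N := by
    rintro i ⟨y, hy, hyi⟩
    set K : Subgroup S := N.comap (MonoidHom.mulSingle (fun _ : Fin n => S) i)
    have hKn : K.Normal := Subgroup.Normal.comap inferInstance _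
    obtain ⟨s, hs⟩ : ∃ s : S, y i * s ≠ s * y i := by
      by_contra hcon
      simp only [not_exists, not_not] at hcon
      have hz : y i ∈ Subgroup.center S := Subgroup.mem_center_iff.mpr fun s => (hcon s).symm
      rcases (inferInstance : (Subgroup.center S).Normal).eq_bot_or_eq_top with h | h
      · rw [h] at hz; exact hyi hz
      · exact hS ⟨⟨fun a b => Subgroup.mem_center_iff.mp (h ▸ Subgroup.mem_top b) a⟩⟩
    have hmem : y i * s * (y i)⁻¹ * s⁻¹ ∈ K := by
      have h1 : y * Pi.mulSingle i s * y⁻¹ * (Pi.mulSingle i s)⁻¹ ∈ N := by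
        rw [show y * Pi.mulSingle i s * y⁻¹ * (Pi.mulSingle i s)⁻¹ =
          y * (Pi.mulSingle i s * y⁻¹ * (Pi.mulSingle i s)⁻¹) by group]
        exact N.mul_mem hy (Subgroup.Normal.conj_mem inferInstance _ (N.inv_mem hy) _)
      have e : y * Pi.mulSingle i s * y⁻¹ * (Pi.mulSingle i s)⁻¹ = Pi.mulSingle i (y i * s * (y i)⁻¹ * s⁻¹) := by
        funext j
        by_cases hj : j = i
        · subst hj; simp
        · simp [hj]
      rw [Subgroup.mem_comap, MonoidHom.mulSingle_apply, ← e]
      exact h1
    intro t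
    have htop : K = ⊤ := hKn.eq_bot_or_eq_top.resolve_left fun h => by
      rw [h, Subgroup.mem_bot] at hmem
      exact hs (mul_inv_eq_iff_eq_mul.mp (mul_inv_eq_one.mp hmem))
    have : t ∈ K := htop ▸ Subgroup.mem_top t
    exact this
  refine Subgroup.pi_mem_of_mulSingle_mem x fun i => ?_
  by_cases h : ∃ y ∈ N, y i ≠ 1
  · exact hsingle i h _
  · rw [hx i (fun hi => h (Finset.mem_filter.mp hi).2), Pi.mulSingle_one]
    exact N.one_mem

end Cfsg.Agent.S5913
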