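import Cfsg.Statements.S5938
import Cfsg.Agent.Lib.Classical22.PSLMaxSmall
-- import your own Cfsg.Agent.* helpers here

set_option autoImplicit false
open Cfsg

namespace Cfsg.Agent.S5938

/-- Let p be a prime with p ≡ ±1 (mod 8) and F a field with p elements. Then PSL_2(F) has a maximal subgroup isomorphic to the symmetric group S_4. -/
theorem result {F : Type*} [Field F] [Fintype F] (p : ℕ) [Fact p.Prime] (hF : Fintype.card F = p) (hp : p % 8 = 1 ∨ p % 8 = 7) : ∃ H : Subgroup (Matrix.ProjectiveSpecialLinearGroup (Fin 2) F), IsCoatom H ∧ Nonempty (H ≃* Equiv.Perm (Fin 4)) := by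
  have h2 : p ≠ 2 := by omega
  obtain ⟨p', _⟩ := CharP.exists F
  haveI : Fact p'.Prime := ⟨CharP.char_is_prime F p'⟩
  obtain ⟨⟨j, hj0⟩, -, hj⟩ := FiniteField.card F p'
  simp only [PNat.mk_coe] at hj
  obtain ⟨rfl, -⟩ := (Nat.Prime.pow_eq_iff (Fact.out (p := p.Prime))).1 (hj.symm.trans hF)
  have h20 : (2 : F) ≠ 0 := Ring.two_ne_zero (by rw [ringChar.eq F p']; exact h2)
  obtain ⟨H, ⟨e⟩⟩ := CfsgLib.Classical.Dickson.exists_sym_four_odd (F := F) h20 (by rw [hF]; exact hp)
  have hc : Nat.card H = 24 := by rw [Nat.card_congr e.toEquiv, Nat.card_perm, Nat.card_fin]; rfl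
  refine ⟨H, CfsgLib.Classical22.small_coatom p' h2 H
    (CfsgLib.Classical22.smallWitness_perm_four.of_hom e.symm.toMonoidHom e.symm.injective) ?_ (by omega)
    (fun _ => hc.ge) (fun _ h => ?_) (Or.inl hF), ⟨e⟩⟩
  · rw [hc]
    have : 7 ≤ p' := by have := (Fact.out (p := p'.Prime)).two_le; omega
    exact CfsgLib.Classical22.card_psl_gt hF this (by norm_num)
  · rw [hc] at h; norm_num at h

end Cfsg.Agent.S5938
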