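import Cfsg.Statements.S5939
import Cfsg.Agent.Lib.Classical22.PSLMaxSmall
-- import your own Cfsg.Agent.* helpers here

set_option autoImplicit false
open Cfsg

namespace Cfsg.Agent.S5939

/-- Let p be a prime and F a finite field of characteristic p such that either F has p elements and p ≡ ±1 (mod 10), or F has p² elements and p ≡ ±3 (mod 10). Then PSL_2(F) has a maximal subgroup isomorphic to the alternating group A_5. -/
theorem result {F : Type*} [Field F] [Fintype F] (p : ℕ) [Fact p.Prime] [CharP F p] (h : (Fintype.card F = p ∧ (p % 10 = 1 ∨ p % 10 = 9)) ∨ (Fintype.card F = p ^ 2 ∧ (p % 10 = 3 ∨ p % 10 = 7))) : ∃ H : Subgroup (Matrix.ProjectiveSpecialLinearGroup (Fin 2) F), IsCoatom H ∧ Nonempty (H ≃* alternatingGroup (Fin 5)) := by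
  have h2 : p ≠ 2 := by omega
  have hp5 : ∀ {x : ℕ}, x ^ 2 % 5 ≠ 0 → x ^ 2 % 5 = 1 ∨ x ^ 2 % 5 = 4 := fun {x} hx => by
    rw [Nat.pow_mod] at hx ⊢
    have := Nat.mod_lt x (show 0 < 5 by norm_num)
    interval_cases x % 5 <;> simp_all
  obtain ⟨q, hF⟩ : ∃ q, Fintype.card F = q := ⟨_, rfl⟩
  have hp3 : 3 ≤ p := by have := (Fact.out (p := p.Prime)).two_le; omega
  have hq9 : 9 ≤ q := by
    rcases h with ⟨h1, h1'⟩ | ⟨h1, -⟩ <;> rw [hF] at h1 <;> subst h1
    · have := (Fact.out (p := q.Prime)).two_le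
      omega
    · exact (Nat.mul_le_mul hp3 hp3).trans (sq p).ge
  have h5 : 5 ∣ q * (q ^ 2 - 1) := by
    refine dvd_mul_of_dvd_right ?_ q
    have hq1 : 1 ≤ q ^ 2 := Nat.one_le_pow _ _ (by omega)
    have : q ^ 2 % 5 = 1 := by
      rcases h with ⟨h1, h10⟩ | ⟨h1, h10⟩ <;> rw [hF] at h1 <;> subst h1
      · rw [Nat.pow_mod]
        rcases (show q % 5 = 1 ∨ q % 5 = 4 by omega) with h | h <;> simp [h]
      · rw [← pow_mul, Nat.pow_mod]
        rcases (show p % 5 = 3 ∨ p % 5 = 2 by omega) with h | h <;> simp [h]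
    omega
  obtain ⟨H, ⟨e⟩⟩ := (CfsgLib.Classical.Dickson.alt_five_iff hF).2 h5
  have hc : Nat.card H = 60 := by rw [Nat.card_congr e.toEquiv, nat_card_alternatingGroup, Nat.card_fin]; rfl
  refine ⟨H, CfsgLib.Classical22.small_coatom p h2 H
    (CfsgLib.Classical22.smallWitness_alt_five.of_hom e.symm.toMonoidHom e.symm.injective) ?_ (by omega)
    (fun _ => by omega) (fun _ _ => hc.ge) ?_, ⟨e⟩⟩
  · rw [hc]
    exact CfsgLib.Classical22.card_psl_gt hF hq9 (by norm_num)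
  · rcases h with ⟨h1, -⟩ | ⟨h1, h10⟩
    · exact Or.inl h1
    · refine Or.inr ⟨h1, fun hd => ?_⟩
      rw [hc] at hd
      have hd5 : 5 ∣ p * ((p - 1) * (p + 1)) := (show 5 ∣ 60 by norm_num).trans hd
      rcases (Nat.Prime.dvd_mul (by norm_num : Nat.Prime 5)).1 hd5 with hd' | hd'
      · omega
      · rcases (Nat.Prime.dvd_mul (by norm_num : Nat.Prime 5)).1 hd' with hd' | hd' <;> omega

end Cfsg.Agent.S5939
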