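import Cfsg.Statements.S5940
import Cfsg.Agent.Lib.Classical22.PSLMaxSmall
-- import your own Cfsg.Agent.* helpers here

set_option autoImplicit false
open Cfsg

namespace Cfsg.Agent.S5940

/-- Let p ≥ 5 be a prime with p ≡ ±3 (mod 8) and p ≢ ±1 (mod 10), and F a field with p elements. Then PSL_2(F) has a maximal subgroup isomorphic to the alternating group A_4. -/
theorem result {F : Type*} [Field F] [Fintype F] (p : ℕ) [Fact p.Prime] (hF : Fintype.card F = p) (h5 : 5 ≤ p) (h8 : p % 8 = 3 ∨ p % 8 = 5) (h10 : p % 10 ≠ 1 ∧ p % 10 ≠ 9) : ∃ H : Subgroup (Matrix.ProjectiveSpecialLinearGroup (Fin 2) F), IsCoatom H ∧ Nonempty (H ≃* alternatingGroup (Fin 4)) := by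
  have h2 : p ≠ 2 := by omega
  obtain ⟨p', _⟩ := CharP.exists F
  haveI : Fact p'.Prime := ⟨CharP.char_is_prime F p'⟩
  obtain ⟨⟨j, hj0⟩, -, hj⟩ := FiniteField.card F p'
  simp only [PNat.mk_coe] at hj
  obtain ⟨rfl, -⟩ := (Nat.Prime.pow_eq_iff (Fact.out (p := p.Prime))).1 (hj.symm.trans hF)
  have h20 : (2 : F) ≠ 0 := Ring.two_ne_zero (by rw [ringChar.eq F p']; exact h2)
  obtain ⟨H, ⟨e⟩⟩ := CfsgLib.Classical.Dickson.exists_alt_four_odd (F := F) h20
  have hc : Nat.card H = 12 := by rw [Nat.card_congr e.toEquiv, nat_card_alternatingGroup, Nat.card_fin]; rfl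
  refine ⟨H, CfsgLib.Classical22.small_coatom p' h2 H
    (CfsgLib.Classical22.smallWitness_alt_four.of_hom e.symm.toMonoidHom e.symm.injective) ?_ hc.ge
    (fun hS => ?_) (fun hA _ => ?_) (Or.inl hF), ⟨e⟩⟩
  · rw [hc]
    exact CfsgLib.Classical22.card_psl_gt hF h5 (by norm_num)
  · have h16 := (CfsgLib.Classical.Dickson.sym_four_iff hF).1 hS
    have : p' % 16 < 16 := Nat.mod_lt _ (by norm_num)
    rw [Nat.pow_mod] at h16
    interval_cases hr : p' % 16 <;> omega
  · obtain ⟨M, ⟨f⟩, hlt⟩ := hA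
    exfalso
    have h60 := (CfsgLib.Classical.Dickson.alt_five_iff hF).1 ⟨M, ⟨f⟩⟩
    rcases (Nat.Prime.dvd_mul (by norm_num : Nat.Prime 5)).1 h60 with hd | hd
    · obtain rfl : p' = 5 := ((Nat.prime_dvd_prime_iff_eq (by norm_num) Fact.out).1 hd).symm
      have hG := CfsgLib.Classical.Dickson.gcd_mul_card_PSL hF
      rw [Nat.card_congr f.toEquiv, nat_card_alternatingGroup, Nat.card_fin] at hlt
      norm_num [Nat.factorial] at hG hlt
      omega
    · have h1 : 1 ≤ p' ^ 2 := Nat.one_le_pow _ _ (by omega)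
      have h6 : p' ^ 2 % 5 = 1 := by omega
      have : p' % 5 < 5 := Nat.mod_lt _ (by norm_num)
      rw [Nat.pow_mod] at h6
      interval_cases hr : p' % 5 <;> omega

end Cfsg.Agent.S5940
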