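import Cfsg.Statements.S5943
import Cfsg.Agent.Lib.Classical22.PSLMaxSubfield
-- import your own Cfsg.Agent.* helpers here

set_option autoImplicit false
open Cfsg

namespace Cfsg.Agent.S5943

/-- Let K and F be finite fields of characteristic 2 with #K = q > 2 and #F = q^r for a prime r. Then PSL_2(F) has a maximal subgroup isomorphic to PSL_2(K) (which equals PGL_2(K) in characteristic 2). -/
theorem result {F K : Type*} [Field F] [Fintype F] [Field K] [Fintype K] (q r : ℕ) (hK : Fintype.card K = q) (hF : Fintype.card F = q ^ r) (hq : Even q) (hq2 : q ≠ 2) (hr : r.Prime) : ∃ H : Subgroup (Matrix.ProjectiveSpecialLinearGroup (Fin 2) F), IsCoatom H ∧ Nonempty (H ≃* Matrix.ProjectiveSpecialLinearGroup (Fin 2) K) := by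
  obtain ⟨σ⟩ := CfsgLib.Classical.Dickson.exists_hom_of_card_pow (F := F) (K := K) r (by rw [hK, hF])
  refine ⟨(CfsgLib.Classical.Dickson.pslMap σ).range, ?_,
    ⟨(MonoidHom.ofInjective (CfsgLib.Classical.Dickson.pslMap_injective σ)).symm⟩⟩
  exact CfsgLib.Classical22.subfield_coatom hK hF hr _
    (Or.inr (Or.inr ⟨⟨(MonoidHom.ofInjective (CfsgLib.Classical.Dickson.pslMap_injective σ)).symm⟩, hq, hq2⟩))

end Cfsg.Agent.S5943
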