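import Cfsg.Statements.S5945
import Cfsg.Agent.Lib.Classical22.SymSix
-- import your own Cfsg.Agent.* helpers here

set_option autoImplicit false
open Cfsg

namespace Cfsg.Agent.S5945

/-- The symmetric group S_6 has exactly 12 subgroups of index 6; each of them is isomorphic to S_5, and at least one of them is not the stabilizer of any point. -/
theorem result : Nat.card {H : Subgroup (Equiv.Perm (Fin 6)) // H.index = 6} = 12 ∧ (∀ H : Subgroup (Equiv.Perm (Fin 6)), H.index = 6 → Nonempty (H ≃* Equiv.Perm (Fin 5))) ∧ ∃ H : Subgroup (Equiv.Perm (Fin 6)), H.index = 6 ∧ ∀ a : Fin 6, H ≠ MulAction.stabilizer (Equiv.Perm (Fin 6)) a := by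
  open CfsgLib.Classical22 in
  have h6 : Fintype.card (Fin 6) = 6 := Fintype.card_fin 6
  open CfsgLib.Classical22 in
  obtain ⟨φ, hne, hall⟩ := index_six_list h6
  have hi1 : ∀ a : Fin 6, (MulAction.stabilizer (Equiv.Perm (Fin 6)) a).index = 6 := fun a => by
    rw [MulAction.index_stabilizer_of_transitive, Nat.card_fin]
  have hi2 : ∀ c : Fin 6, ((MulAction.stabilizer (Equiv.Perm (Fin 6)) c).comap φ.toMonoidHom).index = 6 := fun c =>
    (CfsgLib.Classical22.index_comap_stabilizer φ c).trans h6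
  refine ⟨?_, fun H hH => ?_, _, hi2 0, hne 0⟩
  · let F : Fin 6 ⊕ Fin 6 → {H : Subgroup (Equiv.Perm (Fin 6)) // H.index = 6} :=
      Sum.elim (fun a => ⟨_, hi1 a⟩) (fun c => ⟨_, hi2 c⟩)
    have hinj := CfsgLib.Classical22.stabilizer_injective (Ω := Fin 6) (by simp)
    have hF : Function.Bijective F := by
      refine ⟨?_, fun ⟨H, hH⟩ => ?_⟩
      · rintro (a | a) (b | b) h <;> have h' := congrArg Subtype.val h
        · exact congrArg Sum.inl (hinj h')
        · exact absurd h'.symm (hne b a)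
        · exact absurd h' (hne a b)
        · exact congrArg Sum.inr (hinj (Subgroup.comap_injective φ.surjective h'))
      · rcases hall H hH with ⟨a, rfl⟩ | ⟨c, rfl⟩
        · exact ⟨Sum.inl a, rfl⟩
        · exact ⟨Sum.inr c, rfl⟩
    rw [← Nat.card_eq_of_bijective F hF, Nat.card_sum, Nat.card_fin]
  · have key : ∀ a : Fin 6, Nonempty (MulAction.stabilizer (Equiv.Perm (Fin 6)) a ≃* Equiv.Perm (Fin 5)) := fun a =>
      ⟨(CfsgLib.Classical22.stabilizerMulEquiv a).trans (finSuccAboveEquiv a).symm.permCongrHom⟩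
    rcases hall H hH with ⟨a, rfl⟩ | ⟨c, rfl⟩
    · exact key a
    · exact ⟨(φ.subgroupMap _).trans ((MulEquiv.subgroupCongr (Subgroup.map_comap_eq_self_of_surjective φ.surjective _)).trans (key c).some)⟩

end Cfsg.Agent.S5945
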