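import Cfsg.Statements.S5952
-- import your own Cfsg.Agent.* helpers here

set_option autoImplicit false
open Cfsg

namespace Cfsg.Agent.S5952

/-- Which dimensions of invariant subspaces a semisimple linear map has. Let `V` be a finite-dimensional vector space over a field `F` and `f` an invertible semisimple linear map of `V`. Suppose `V` is the internal direct sum of the fixed space `C_V(f)` (the eigenspace for 1) and subspaces `U_1, …, U_s`, each `f`-invariant of dimension `a ≥ 1` on which `f` acts irreducibly (no `f`-invariant subspaces other than 0 and `U_j`). Let `0 < m < dim V` and `ℓ = m mod a`. Then `f` leaves some `m`-dimensional subspace invariant if and only if `dim C_V(f) ≥ m`, or `a ≤ m` and `dim C_V(f) ≥ ℓ`. -/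
theorem result {F V : Type*} [Field F] [AddCommGroup V] [Module F V]
    [FiniteDimensional F V] (f : V →ₗ[F] V) (hf : Function.Bijective f) (hss : Module.End.IsSemisimple f)
    {s a : ℕ} (ha : 1 ≤ a) (U : Fin s → Submodule F V)
    (hUinv : ∀ j, (U j).map f ≤ U j) (hUdim : ∀ j, Module.finrank F ↥(U j) = a)
    (hUirr : ∀ j, ∀ W : Submodule F V, W ≤ U j → W.map f ≤ W → W = ⊥ ∨ W = U j)
    (hdec : DirectSum.IsInternal (fun o : Option (Fin s) => o.elim (Module.End.eigenspace f 1) U))
    (m : ℕ) (hm : 0 < m) (hmV : m < Module.finrank F V) :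
    (∃ W : Submodule F V, Module.finrank F ↥W = m ∧ W.map f ≤ W) ↔
    (m ≤ Module.finrank F ↥(Module.End.eigenspace f 1) ∨
      (a ≤ m ∧ m % a ≤ Module.finrank F ↥(Module.End.eigenspace f 1))) := by
  classical
  set C := Module.End.eigenspace f 1 with hCdef
  set g : Option (Fin s) → Submodule F V := fun o => o.elim C U with hg
  have hind : iSupIndep g := hdec.submodule_iSupIndep
  have htop : ⨆ o, g o = ⊤ := hdec.submodule_iSup_eq_top
  have hC : C.map f ≤ C := by
    rintro _ ⟨x, hx, rfl⟩
    rw [SetLike.mem_coe, hCdef, Module.End.mem_eigenspace_iff, one_smul] at hx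
    rw [hx, hCdef, Module.End.mem_eigenspace_iff, one_smul, hx]
  -- the partial sums
  let A : Finset (Fin s) → Submodule F V := fun T => C ⊔ ⨆ j ∈ T, U j
  have hAinv : ∀ T, (A T).map f ≤ A T := fun T => by
    rw [Submodule.map_sup]
    refine sup_le_sup hC ?_
    simp only [Submodule.map_iSup]
    exact iSup₂_mono fun j _ => hUinv j
  have hAins : ∀ T j, A (insert j T) = A T ⊔ U j := fun T j => by
    simp only [A, Finset.iSup_insert]; ac_rfl
  have hdis : ∀ T j, j ∉ T → A T ⊓ U j = ⊥ := fun T j hj => by
    rw [← disjoint_iff]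
    refine (hind (some j)).symm.mono_left (sup_le ?_ (iSup₂_le fun i hi => ?_))
    · exact le_iSup₂_of_le none (by simp) le_rfl
    · exact le_iSup₂_of_le (some i) (fun e => hj (Option.some_injective _ e ▸ hi)) le_rfl
  have hA0 : A ∅ = C :=
    le_antisymm (sup_le le_rfl (iSup₂_le fun i hi => absurd hi (Finset.notMem_empty i))) le_sup_left
  have hAdim : ∀ T, Module.finrank F (A T) = Module.finrank F C + T.card * a := fun T => by
    induction T using Finset.induction_on with
    | empty => rw [hA0, Finset.card_empty, zero_mul, add_zero]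
    | insert j T hj ih =>
      have h := Submodule.finrank_sup_add_finrank_inf_eq (A T) (U j)
      rw [hdis T j hj, finrank_bot, ← hAins, hUdim, ih] at h
      rw [Finset.card_insert_of_notMem hj, add_mul, one_mul]; omega
  have hAuniv : A Finset.univ = ⊤ := by
    rw [eq_top_iff, ← htop]
    refine iSup_le fun o => ?_
    cases o with
    | none => exact le_sup_left
    | some i => exact le_sup_of_le_right (le_iSup₂_of_le i (Finset.mem_univ i) le_rfl)
  constructor
  · rintro ⟨W, hWm, hW⟩
    have key : ∀ T, ∃ k, Module.finrank F (W ⊓ A T : Submodule F V) = Module.finrank F (W ⊓ C : Submodule F V) + k * a := fun T => by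
      induction T using Finset.induction_on with
      | empty => exact ⟨0, by rw [zero_mul, add_zero, hA0]⟩
      | insert j T hj ih =>
        obtain ⟨k, hk⟩ := ih
        set W' := W ⊓ A (insert j T)
        have hle : A T ≤ A (insert j T) := hAins T j ▸ le_sup_left
        have hW'inv : W'.map f ≤ W' := (Submodule.map_inf_le _).trans (inf_le_inf hW (hAinv _))
        have hU' : ((W' ⊔ A T) ⊓ U j).map f ≤ (W' ⊔ A T) ⊓ U j :=
          (Submodule.map_inf_le _).trans (inf_le_inf (by rw [Submodule.map_sup]; exact sup_le_sup hW'inv (hAinv T)) (hUinv j))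
        have hsum : W' ⊔ A T = A T ⊔ (W' ⊔ A T) ⊓ U j := by
          refine le_antisymm ?_ (sup_le le_sup_right inf_le_left)
          rw [inf_comm (W' ⊔ A T) (U j), ← sup_inf_assoc_of_le (U j) (le_sup_right : A T ≤ W' ⊔ A T), ← hAins]
          exact le_inf (sup_le inf_le_right hle) le_rfl
        have hWT : W' ⊓ A T = W ⊓ A T := by rw [inf_assoc, inf_eq_right.mpr hle]
        have h1 := Submodule.finrank_sup_add_finrank_inf_eq W' (A T)
        rw [hWT] at h1
        have h2 := Submodule.finrank_sup_add_finrank_inf_eq (A T) ((W' ⊔ A T) ⊓ U j)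
        rw [← hsum, show A T ⊓ ((W' ⊔ A T) ⊓ U j) = ⊥ from le_bot_iff.mp ((inf_le_inf le_rfl inf_le_right).trans (hdis T j hj).le), finrank_bot] at h2
        rcases hUirr j _ inf_le_right hU' with h | h
        · refine ⟨k, ?_⟩
          rw [h, finrank_bot] at h2
          omega
        · refine ⟨k + 1, ?_⟩
          rw [h, hUdim] at h2
          rw [add_mul, one_mul]
          omega
    obtain ⟨k, hk⟩ := key Finset.univ
    rw [hAuniv, inf_top_eq, hWm] at hk
    have hWC : Module.finrank F (W ⊓ C : Submodule F V) ≤ Module.finrank F C := Submodule.finrank_mono inf_le_right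
    rcases Nat.eq_zero_or_pos k with rfl | hk0
    · left; omega
    · right
      have : a ≤ k * a := Nat.le_mul_of_pos_left a hk0
      refine ⟨by omega, ?_⟩
      rw [hk, Nat.add_mul_mod_self_right]
      exact (Nat.mod_le _ _).trans hWC
  · intro h
    have hn : Module.finrank F V = Module.finrank F C + s * a := by
      rw [← finrank_top F V, ← hAuniv, hAdim, Finset.card_univ, Fintype.card_fin]
    obtain ⟨k, hks, hka, hkC⟩ : ∃ k, k ≤ s ∧ k * a ≤ m ∧ m - k * a ≤ Module.finrank F C := by
      rcases h with h | ⟨ham, h⟩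
      · exact ⟨0, Nat.zero_le _, by simp, by simpa using h⟩
      · by_cases hks : m / a ≤ s
        · refine ⟨m / a, hks, Nat.div_mul_le_self m a, ?_⟩
          have := Nat.div_add_mod' m a; omega
        · refine ⟨s, le_rfl, ?_, by omega⟩
          exact (Nat.mul_le_mul_right a (le_of_not_ge hks)).trans (Nat.div_mul_le_self m a)
    obtain ⟨T, -, hT⟩ := Finset.exists_subset_card_eq (n := k) (s := (Finset.univ : Finset (Fin s))) (by rw [Finset.card_univ, Fintype.card_fin]; exact hks)
    -- a part of the fixed space
    obtain ⟨C', hC', hC'dim⟩ : ∃ C' ≤ C, Module.finrank F C' = m - k * a := by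
      let b := Module.finBasis F C
      refine ⟨(Submodule.span F (Set.range (b ∘ Fin.castLE hkC))).map C.subtype, Submodule.map_subtype_le _ _, ?_⟩
      rw [Submodule.finrank_map_subtype_eq, finrank_span_eq_card (b.linearIndependent.comp _ (Fin.castLE_injective hkC)), Fintype.card_fin]
    refine ⟨C' ⊔ ⨆ j ∈ T, U j, ?_, ?_⟩
    · have hSdim : Module.finrank F (⨆ j ∈ T, U j : Submodule F V) = k * a ∧ C ⊓ (⨆ j ∈ T, U j) = ⊥ := by
        have hd : C ⊓ (⨆ j ∈ T, U j) = ⊥ := by
          rw [← disjoint_iff]
          exact (hind none).mono_right (iSup₂_le fun i _ => le_iSup₂_of_le (some i) (by simp) le_rfl)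
        have h1 := Submodule.finrank_sup_add_finrank_inf_eq C (⨆ j ∈ T, U j)
        rw [hd, finrank_bot] at h1
        have h2 := hAdim T
        simp only [A] at h2
        rw [hT] at h2
        exact ⟨by omega, hd⟩
      have h1 := Submodule.finrank_sup_add_finrank_inf_eq C' (⨆ j ∈ T, U j)
      rw [show C' ⊓ (⨆ j ∈ T, U j) = ⊥ from le_bot_iff.mp ((inf_le_inf_right _ hC').trans hSdim.2.le), finrank_bot, hSdim.1, hC'dim] at h1
      omega
    · rw [Submodule.map_sup]
      refine sup_le_sup ?_ ?_
      · rintro _ ⟨x, hx, rfl⟩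
        have hx1 := hC' hx
        rw [hCdef, Module.End.mem_eigenspace_iff, one_smul] at hx1
        rw [hx1]; exact hx
      · simp only [Submodule.map_iSup]
        exact iSup₂_mono fun j _ => hUinv j

end Cfsg.Agent.S5952
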