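import Cfsg.Statements.S5955
import Cfsg.Agent.Lib.Classical22.PrimeOrderSympIsoWitness
import Cfsg.Agent.Lib.Classical22.PrimeOrderSympIsoInvol
import Cfsg.Agent.Lib.Classical22.PrimeOrderSubspaces
import Cfsg.Agent.Lib.Classical.GLPrimeClassData
-- import your own Cfsg.Agent.* helpers here

set_option autoImplicit false
open scoped MatrixGroups
open Cfsg

namespace Cfsg.Agent.S5955

open CfsgLib.Classical22 CfsgLib.Classical22.PrimeMaps CfsgLib.Classical22.PrimeMaps.Symp Module CfsgLib.Classical in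
theorem involution_case {F : Type*} [Field F] [Fintype F] {q d m : ℕ} (hq : Fintype.card F = q) (h2 : (2 : F) ≠ 0)
    (hqo : Odd q) (hd : 1 ≤ d) (hm : m ≤ d) :
    (∀ (L : (Fin d ⊕ Fin d → F) →ₗ[F] (Fin d ⊕ Fin d → F)) (z : F), (∀ v, L (L v) = z • v) →
      (∀ u v, spBilin d F (L u) (L v) = spBilin d F u v) → (∀ w : F, L ≠ w • LinearMap.id) →
      ∃ W : Submodule F (Fin d ⊕ Fin d → F), finrank F W = m ∧ Iso (spBilin d F) W ∧ PrimeMaps.Inv L W) ↔ (Even m ∨ q % 4 = 1) := by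
  classical
  haveI : Nonempty (Fin d ⊕ Fin d) := ⟨Sum.inl ⟨0, by omega⟩⟩
  have hns : q % 4 = 3 → ∀ w : F, w * w ≠ -1 := fun h w hw => by
    have := FiniteField.isSquare_neg_one_iff.1 (⟨w, hw.symm⟩ : IsSquare (-1 : F))
    rw [hq] at this
    exact this h
  constructor
  · intro h
    by_contra hcon
    push Not at hcon
    obtain ⟨hmo, hq4⟩ := hcon
    have hq3 : q % 4 = 3 := by
      have := Nat.odd_iff.1 hqo
      omega
    obtain ⟨J, hJ⟩ : ∃ J : Matrix.symplecticGroup (Fin d) F,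
        (J : Matrix (Fin d ⊕ Fin d) (Fin d ⊕ Fin d) F) = Matrix.J (Fin d) F := ⟨⟨_, SymplecticGroup.J_mem _ _⟩, rfl⟩
    obtain ⟨L, hL⟩ : ∃ L, L = Matrix.toLin' (J : Matrix (Fin d ⊕ Fin d) (Fin d ⊕ Fin d) F) := ⟨_, rfl⟩
    have hLL : ∀ v, L (L v) = (-1 : F) • v := fun v => by
      rw [hL, Matrix.toLin'_apply, Matrix.toLin'_apply, Matrix.mulVec_mulVec, hJ, Matrix.J_squared,
        Matrix.neg_mulVec, Matrix.one_mulVec, neg_one_smul]
    obtain ⟨W, hWd, -, hW⟩ := h L (-1) hLL (fun u v => by rw [hL]; exact form_sp J u v) fun w hw => by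
      obtain ⟨v, hv⟩ := exists_ne (0 : Fin d ⊕ Fin d → F)
      have e := hLL v
      rw [hw] at e
      simp only [LinearMap.smul_apply, LinearMap.id_apply, smul_smul] at e
      exact hns hq3 w (smul_left_injective F hv e)
    obtain ⟨g, hg⟩ : ∃ g : W →ₗ[F] W, ∀ v, (g v : Fin d ⊕ Fin d → F) = L v := ⟨L.restrict hW, fun v => rfl⟩
    have hgg : g ∘ₗ g = (-1 : F) • LinearMap.id := LinearMap.ext fun v => Subtype.ext (by
      simp only [LinearMap.comp_apply, hg, hLL]
      rfl)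
    have hdet := congrArg LinearMap.det hgg
    rw [LinearMap.det_comp, LinearMap.det_smul, LinearMap.det_id, mul_one, hWd,
      (Nat.not_even_iff_odd.1 hmo).neg_one_pow] at hdet
    exact hns hq3 _ hdet
  · intro h L z hL hB hns'
    have hA : (spBilin d F).IsAlt := spBilin_isAlt
    have hz2 : z * z = 1 := by
      obtain ⟨v, hv⟩ := exists_ne (0 : Fin d ⊕ Fin d → F)
      obtain ⟨w, hw⟩ : ∃ w, spBilin d F v w ≠ 0 := by
        by_contra hcon
        push Not at hcon
        exact hv (sympForm_nondeg hcon)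
      have h1 : spBilin d F (L (L v)) (L (L w)) = spBilin d F v w := by rw [hB, hB]
      rw [hL, hL, map_smul, map_smul, LinearMap.smul_apply, smul_eq_mul, smul_eq_mul, ← mul_assoc] at h1
      exact mul_right_cancel₀ hw (h1.trans (one_mul _).symm)
    rcases mul_self_eq_one_iff.1 hz2 with rfl | rfl
    · -- involution
      have hLr : ∀ v, (L ^ 2) v = v := fun v => by rw [pow_two, Module.End.mul_apply, hL, one_smul]
      have hr2 : ((2 : ℕ) : F) ≠ 0 := by exact_mod_cast h2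
      have hXn := fixed_nd hr2 hLr hB (X := ⊤) (fun _ _ => Submodule.mem_top) nd_top
      rw [top_inf_eq] at hXn
      obtain ⟨h1, -, h3, h4⟩ := compl_in hA hXn (le_top : fixed L ≤ ⊤)
      rw [finrank_top, finrank_std] at h4
      have hY : ∀ v ∈ (⊤ : Submodule F _) ⊓ (spBilin d F).orthogonal (fixed L), L v = -v := fun v hv => by
        have hinv := inv_orth two_pos hLr hB (W := fixed L) fun w hw => by rw [mem_fixed.1 hw]; exact hw
        have hfx : v + L v ∈ fixed L := mem_fixed.2 (by rw [map_add, hL, one_smul, add_comm])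
        have hin : v + L v ∈ (⊤ : Submodule F _) ⊓ (spBilin d F).orthogonal (fixed L) :=
          ⟨Submodule.mem_top, Submodule.add_mem _ hv.2 (hinv v hv.2)⟩
        have h0 : v + L v = 0 := (Submodule.mem_bot F).1 (h1 ▸ ⟨hfx, hin⟩)
        exact (eq_neg_of_add_eq_zero_right h0)
      obtain ⟨e₁, he₁⟩ := even_finrank hA hXn
      obtain ⟨e₂, he₂⟩ := even_finrank hA (h3 nd_top)
      obtain ⟨U, hUY, hUi, hUd⟩ := exists_iso hA (h3 nd_top) (j := m - min m e₁) (by omega)
      obtain ⟨W, hW, hWi, hWd⟩ := combine (f := L) hA hXn le_rfl inf_le_right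
        (fun v hv => by rw [hY v (hUY hv)]; exact U.neg_mem hv) hUi hUY (j := min m e₁) (by omega)
      exact ⟨W, by rw [hWd, hUd]; omega, hWi, hW⟩
    · -- a map of square `-1`
      have hq4 : q % 4 = 1 ∨ (q % 4 = 3 ∧ Even m) := by
        have := Nat.odd_iff.1 hqo
        by_cases hc : q % 4 = 1
        · exact Or.inl hc
        · exact Or.inr ⟨by omega, h.resolve_right hc⟩
      rcases hq4 with h1 | ⟨h3, g, hg⟩
      · obtain ⟨s, hs⟩ := FiniteField.isSquare_neg_one_iff.2 (show Fintype.card F % 4 ≠ 3 by omega)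
        have hiso : ∀ e : F, e * e = -1 → Iso (spBilin d F) (LinearMap.ker (L - e • LinearMap.id)) := by
          intro e he u hu v hv
          rw [LinearMap.mem_ker, LinearMap.sub_apply, LinearMap.smul_apply, LinearMap.id_apply, sub_eq_zero] at hu hv
          have h1 := hB u v
          rw [hu, hv, map_smul, map_smul, LinearMap.smul_apply, smul_eq_mul, smul_eq_mul, ← mul_assoc, he] at h1
          have : (2 : F) * spBilin d F u v = 0 := by linear_combination -h1
          exact (mul_eq_zero.1 this).resolve_left h2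
        have hsup : LinearMap.ker (L - s • LinearMap.id) ⊔ LinearMap.ker (L - (-s) • LinearMap.id) = ⊤ := by
          refine eq_top_iff.2 fun v _ => ?_
          have hs0 : s ≠ 0 := fun h => by rw [h, mul_zero] at hs; exact one_ne_zero (neg_eq_zero.1 hs)
          have e : v = (2 * s)⁻¹ • (s • v + L v) + (2 * s)⁻¹ • (s • v - L v) := by
            rw [← smul_add, add_add_sub_cancel, ← two_smul F (s • v), smul_smul, smul_smul, mul_assoc,
              inv_mul_cancel₀ (mul_ne_zero h2 hs0), one_smul]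
          rw [e]
          refine Submodule.add_mem_sup (Submodule.smul_mem _ _ ?_) (Submodule.smul_mem _ _ ?_)
          · rw [LinearMap.mem_ker, LinearMap.sub_apply, LinearMap.smul_apply, LinearMap.id_apply, map_add, map_smul,
              hL, smul_add, smul_smul, ← hs]
            module
          · rw [LinearMap.mem_ker, LinearMap.sub_apply, LinearMap.smul_apply, LinearMap.id_apply, map_sub, map_smul,
              hL, smul_sub, smul_smul, neg_mul, ← hs]
            module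
        have hdim := Submodule.finrank_sup_add_finrank_inf_eq (LinearMap.ker (L - s • LinearMap.id))
          (LinearMap.ker (L - (-s) • LinearMap.id))
        rw [hsup, finrank_top, finrank_std] at hdim
        obtain ⟨e, he, hle⟩ : ∃ e : F, e * e = -1 ∧ m ≤ finrank F (LinearMap.ker (L - e • LinearMap.id)) := by
          by_cases hc : m ≤ finrank F (LinearMap.ker (L - s • LinearMap.id))
          · exact ⟨s, hs.symm, hc⟩
          · exact ⟨-s, by rw [neg_mul_neg, hs], by omega⟩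
        obtain ⟨W, hW, hWd⟩ := exists_finrank_eq _ hle
        refine ⟨W, hWd, fun u hu v hv => hiso e he u (hW hu) v (hW hv), fun w hw => ?_⟩
        have h1 := hW hw
        rw [LinearMap.mem_ker, LinearMap.sub_apply, LinearMap.smul_apply, LinearMap.id_apply, sub_eq_zero] at h1
        rw [h1]
        exact W.smul_mem e hw
      · obtain ⟨W, hW, hWi, -, hWd⟩ := exists_iso_quad (f := L) hA (hq ▸ hqo) h2 (hns h3)
          (fun v => by rw [hL, neg_one_smul]) hB g ⊤ (fun _ _ => Submodule.mem_top) nd_top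
          (by rw [finrank_top, finrank_std]; omega)
        exact ⟨W, by rw [hWd]; omega, hWi, hW⟩

open CfsgLib.Classical22 CfsgLib.Classical22.PrimeMaps CfsgLib.Classical22.PrimeMaps.Symp Module CfsgLib.Classical CfsgLib.Classical.InvIdx in
theorem odd_necessity {F : Type*} [Field F] [Fintype F] {p q d m r i c : ℕ} [Fact p.Prime] [CharP F p] [hr : Fact r.Prime]
    (hq : Fintype.card F = q) (hrp : r ≠ p) (hr2 : r ≠ 2) (hm : 1 ≤ m) (hmd : m ≤ d)
    (hi : i = orderOf (q : ZMod r)) (hc : c = blockDim i)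
    (hdvd : r ∣ Nat.card (IsoSpace F d m))
    (h : ∀ f : (Fin d ⊕ Fin d → F) →ₗ[F] (Fin d ⊕ Fin d → F), (∀ v, (f ^ r) v = v) →
      (∀ u v, spBilin d F (f u) (f v) = spBilin d F u v) → finrank F (fixed f) < 2 * d →
      ∃ W : Submodule F (Fin d ⊕ Fin d → F), finrank F W = m ∧ Iso (spBilin d F) W ∧ PrimeMaps.Inv f W) :
    i ≤ m ∧ 2 * (m % i) ≤ (2 * d) % c ∧ (Odd i ∨ (r - 1) / i + 2 * (m / i) ≤ (2 * d) / i) := by
  classical
  have hrF : (r : F) ≠ 0 := natCast_ne_zero_of_ne (p := p) hrp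
  obtain ⟨hi0, -⟩ := order_facts (F := F) (p := p) (r := r) hq hrp
  rw [← hi] at hi0
  have hiF : i = orderOf (Fintype.card F : ZMod r) := by rw [hq, hi]
  have hc0 : 0 < c := hc ▸ blockDim_pos hi0
  have hce : Even c := hc ▸ blockDim_even i
  obtain ⟨j, hjm, hjd⟩ := window_of_dvd hmd hdvd
  rw [← hiF, ← hc] at hjd
  have hcn : c ≤ 2 * d := (Nat.le_of_dvd (by omega) hjd).trans (by omega)
  have hk2m : (2 * d) % c < 2 * m := by
    obtain ⟨s, hs⟩ := hjd
    rw [show 2 * d = 2 * j + c * s by omega, Nat.add_mul_mod_self_left]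
    exact lt_of_le_of_lt (Nat.mod_le _ _) (by omega)
  have hmlt := Nat.mod_lt (2 * d) hc0
  have hnc := Nat.div_add_mod (2 * d) c
  obtain ⟨fM, hfM, hBM, hkM, -⟩ := exists_element (d := d) (r := r) hrF (hiF ▸ hi0) (l := 2 * d / c)
    (by rw [← hiF, ← hc]; exact Nat.mul_div_le _ c)
  rw [← hiF, ← hc] at hkM
  obtain ⟨W, hWd, hWi, hW⟩ := h fM hfM hBM (by
    have : c * 1 ≤ c * (2 * d / c) := Nat.mul_le_mul_left c (Nat.div_pos hcn hc0)
    omega)
  obtain ⟨s, hs⟩ := (order_spec hrF hfM hW).1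
  rw [hWd, ← hiF] at hs
  have hXn := fixed_nd hrF hfM hBM (X := ⊤) (fun _ _ => Submodule.mem_top) nd_top
  rw [top_inf_eq] at hXn
  have hwf := iso_le_half spBilin_isAlt hXn (U := W ⊓ fixed fM) inf_le_right fun x hx y hy => hWi x hx.1 y hy.1
  have hwm : finrank F (W ⊓ fixed fM : Submodule F _) ≤ m := hWd ▸ Submodule.finrank_mono inf_le_left
  have him : i ≤ m := by
    by_contra hcon
    rcases Nat.eq_zero_or_pos s with hs0 | hs0
    · subst hs0; omega
    · have : i * 1 ≤ i * s := Nat.mul_le_mul_left i hs0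
      omega
  refine ⟨him, ?_, ?_⟩
  · have : m % i ≤ finrank F (W ⊓ fixed fM : Submodule F _) := by
      rw [show m = finrank F (W ⊓ fixed fM : Submodule F _) + i * s by omega, Nat.add_mul_mod_self_left]
      exact Nat.mod_le _ _
    omega
  by_contra hcon
  push Not at hcon
  obtain ⟨hev, hlt⟩ := hcon
  rw [Nat.not_odd_iff_even] at hev
  have hci : c = i := by rw [hc, blockDim, if_pos hev]
  subst hci
  have hcr : c ∣ r - 1 := by
    rw [hi]
    refine orderOf_dvd_of_pow_eq_one (ZMod.pow_card_sub_one_eq_one fun h0 => ?_)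
    have : orderOf (q : ZMod r) = 0 := by
      rw [h0]
      exact orderOf_eq_zero_iff'.2 fun m hm => by rw [zero_pow hm.ne']; exact zero_ne_one
    omega
  obtain ⟨T, hT⟩ : ∃ T, T = (r - 1) / c := ⟨_, rfl⟩
  rw [← hT] at hlt
  obtain ⟨-, P, hP0, hPi, hPd, hPc, hPp⟩ := CfsgLib.Classical.GLPrimeData.exists_factors (p := p) hq r c T hr.out hrp hi
    (by rw [hT]; exact Nat.div_mul_cancel hcr)
  have hD : Data F r c T P := ⟨hr.out, hr2, hrF, hP0, hPi, hPd, hPc, hPp⟩
  obtain ⟨n', hn'⟩ : ∃ n', n' = 2 * d / c := ⟨_, rfl⟩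
  obtain ⟨m', hm'⟩ : ∃ m', m' = m / c := ⟨_, rfl⟩
  rw [← hn', ← hm'] at hlt
  have hm1 : 1 ≤ m' := hm' ▸ Nat.div_pos him hi0
  have h2m : 2 * m' ≤ n' := by
    rw [hm', hn', Nat.le_div_iff_mul_le hi0, mul_assoc]
    have := Nat.div_mul_le_self m c
    omega
  obtain ⟨D, hD'⟩ : ∃ D, D = n' - 2 * m' + 1 := ⟨_, rfl⟩
  have hT0 : 0 < T := by omega
  obtain ⟨b, hb⟩ : ∃ b : Fin T → ℕ, ∀ j, b j =
      (if (j : ℕ) < D then 1 else 0) + (if j = ⟨0, hT0⟩ then 2 * (m' - 1) else 0) := ⟨_, fun j => rfl⟩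
  have hsum : ∑ j, b j = n' - 1 := by
    rw [Finset.sum_congr rfl fun j _ => hb j, Finset.sum_add_distrib, Finset.sum_ite_eq' Finset.univ (⟨0, hT0⟩ : Fin T),
      if_pos (Finset.mem_univ _), Fin.sum_univ_eq_sum_range (fun j => if j < D then 1 else 0), ← Finset.sum_filter,
      show (Finset.range T).filter (· < D) = Finset.range D from Finset.ext fun x => by simp; omega,
      Finset.sum_const, Finset.card_range, smul_eq_mul]
    omega
  have hhalf : ∑ j, b j / 2 = m' - 1 := by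
    rw [Finset.sum_congr rfl fun j (_ : j ∈ Finset.univ) => show b j / 2 = if j = ⟨0, hT0⟩ then m' - 1 else 0 by
      rw [hb]; split_ifs <;> omega, Finset.sum_ite_eq', if_pos (Finset.mem_univ _)]
  obtain ⟨e, he⟩ : Even ((2 * d) % c + c) := by
    refine Even.add ?_ hce
    rw [Nat.even_iff, Nat.mod_mod_of_dvd _ hce.two_dvd]
    omega
  have hn1 : c * (n' - 1) + c = c * n' := by rw [← Nat.mul_succ, Nat.succ_eq_add_one, Nat.sub_add_cancel (by omega)]
  rw [← hn'] at hnc
  obtain ⟨f, hf, hB, hfk, hbound⟩ := exists_typed (d := d) hD hiF hi0 hev b (h := e) (by rw [hsum]; omega)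
  obtain ⟨U, hUd, hUi, hU⟩ := h f hf hB (by
    have : c * 1 ≤ c * (n' - 1) := Nat.mul_le_mul_left c (by omega)
    omega)
  have hle := hbound U hU hUi
  rw [hhalf, hUd] at hle
  have h1 : c * (m' - 1) + c = c * m' := by rw [← Nat.mul_succ, Nat.succ_eq_add_one, Nat.sub_add_cancel hm1]
  have h2 : c * m' ≤ m := hm' ▸ Nat.mul_div_le m c
  omega

open CfsgLib.Classical22 CfsgLib.Classical22.PrimeMaps CfsgLib.Classical22.PrimeMaps.Symp Module CfsgLib.Classical CfsgLib.Classical.InvIdx in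
theorem odd_sufficiency {F : Type*} [Field F] [Fintype F] {p q d m r i c : ℕ} [Fact p.Prime] [CharP F p] [hr : Fact r.Prime]
    (hq : Fintype.card F = q) (hrp : r ≠ p) (hr2 : r ≠ 2) (hmd : m ≤ d)
    (hi : i = orderOf (q : ZMod r)) (hc : c = blockDim i)
    (hcond : 2 * (m % i) ≤ (2 * d) % c ∧ (Odd i ∨ (r - 1) / i + 2 * (m / i) ≤ (2 * d) / i))
    (f : (Fin d ⊕ Fin d → F) →ₗ[F] (Fin d ⊕ Fin d → F)) (hf : ∀ v, (f ^ r) v = v)
    (hB : ∀ u v, spBilin d F (f u) (f v) = spBilin d F u v) :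
    ∃ W : Submodule F (Fin d ⊕ Fin d → F), finrank F W = m ∧ Iso (spBilin d F) W ∧ PrimeMaps.Inv f W := by
  classical
  have hrF : (r : F) ≠ 0 := natCast_ne_zero_of_ne (p := p) hrp
  obtain ⟨hi0, -⟩ := order_facts (F := F) (p := p) (r := r) hq hrp
  rw [← hi] at hi0
  have hiF : i = orderOf (Fintype.card F : ZMod r) := by rw [hq, hi]
  have hc0 : 0 < c := hc ▸ blockDim_pos hi0
  have hA : (spBilin d F).IsAlt := spBilin_isAlt
  have hXn := fixed_nd hrF hf hB (X := ⊤) (fun _ _ => Submodule.mem_top) nd_top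
  rw [top_inf_eq] at hXn
  obtain ⟨Y, hYdef⟩ : ∃ Y, Y = (⊤ : Submodule F _) ⊓ (spBilin d F).orthogonal (fixed f) := ⟨_, rfl⟩
  obtain ⟨h1, -, h3, h4⟩ := compl_in hA hXn (le_top : fixed f ≤ ⊤)
  rw [← hYdef] at h1 h3 h4
  rw [finrank_top, finrank_std] at h4
  have hY : PrimeMaps.Inv f Y := hYdef ▸ fun w hw => ⟨Submodule.mem_top,
    inv_orth hr.out.pos hf hB (fun x hx => by rw [mem_fixed.1 hx]; exact hx) w hw.2⟩
  have hYfix : ∀ w ∈ Y, f w = w → w = 0 := fun w hw hfw =>
    (Submodule.mem_bot F).1 (h1 ▸ ⟨mem_fixed.2 hfw, hw⟩)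
  obtain ⟨k', hk'⟩ : ∃ k', finrank F (fixed f) = k' := ⟨_, rfl⟩
  rw [hk'] at h4
  obtain ⟨e, he⟩ := dvd_sub_fixed hA hrF hf hB (X := ⊤) (fun _ _ => Submodule.mem_top) nd_top
  rw [top_inf_eq, hk', finrank_top, finrank_std, ← hiF, ← hc] at he
  have hkk : k' % c = (2 * d) % c := by
    rw [show 2 * d = k' + c * e by omega, Nat.add_mul_mod_self_left]
  have hkmod := Nat.mod_le k' c
  have hmm := Nat.div_add_mod m i
  suffices ∃ g U, PrimeMaps.Inv f U ∧ Iso (spBilin d F) U ∧ U ≤ Y ∧ finrank F U = g * i ∧ g * i ≤ m ∧ 2 * (m - g * i) ≤ k' by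
    obtain ⟨g, U, hU, hUi, hUY, hUd, hgm, hj⟩ := this
    obtain ⟨W, hW, hWi, hWd⟩ := combine hA hXn le_rfl (hYdef ▸ inf_le_right) hU hUi hUY (j := m - g * i)
      (by rw [hk']; exact hj)
    exact ⟨W, by rw [hWd, hUd]; omega, hWi, hW⟩
  obtain ⟨m', hm'⟩ : ∃ m', m' = m / i := ⟨_, rfl⟩
  rw [← hm'] at hmm hcond
  rcases Nat.even_or_odd i with hev | hodd
  · have hci : c = i := by rw [hc, blockDim, if_pos hev]
    subst hci
    have hcond2 := hcond.2.resolve_left (Nat.not_odd_iff_even.2 hev)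
    have hcr : c ∣ r - 1 := by
      rw [hi]
      refine orderOf_dvd_of_pow_eq_one (ZMod.pow_card_sub_one_eq_one fun h0 => ?_)
      have : orderOf (q : ZMod r) = 0 := by
        rw [h0]
        exact orderOf_eq_zero_iff'.2 fun m hm => by rw [zero_pow hm.ne']; exact zero_ne_one
      omega
    obtain ⟨T, hT⟩ : ∃ T, T = (r - 1) / c := ⟨_, rfl⟩
    rw [← hT] at hcond2
    obtain ⟨-, P, hP0, hPi, hPd, hPc, hPp⟩ := CfsgLib.Classical.GLPrimeData.exists_factors (p := p) hq r c T hr.out hrp hi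
      (by rw [hT]; exact Nat.div_mul_cancel hcr)
    have hD : Data F r c T P := ⟨hr.out, hr2, hrF, hP0, hPi, hPd, hPc, hPp⟩
    obtain ⟨g, hg⟩ : ∃ g, g = min m' ((e + 1 - T) / 2) := ⟨_, rfl⟩
    obtain ⟨U, hU, hUi, hUY, hUd⟩ := exists_iso_even hr2 hA hrF hf hB hiF hi0 hev hD g e Y hY (h3 nd_top) hYfix
      (by rw [mul_comm]; omega) (by omega)
    refine ⟨g, U, hU, hUi, hUY, hUd, ?_, ?_⟩
    · have : g * c ≤ m' * c := Nat.mul_le_mul_right c (by omega)
      rw [mul_comm m'] at this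
      omega
    · obtain ⟨u, hu⟩ : ∃ u, u = k' / c := ⟨_, rfl⟩
      have hku : c * u + (2 * d) % c = k' := hkk ▸ hu ▸ Nat.div_add_mod k' c
      have hn : 2 * d / c = e + u := by
        rw [show 2 * d = (2 * d) % c + c * (e + u) by rw [mul_add]; omega, Nat.add_mul_div_left _ _ hi0,
          Nat.div_eq_of_lt (Nat.mod_lt _ hi0), zero_add]
      rw [hn] at hcond2
      have h5 : 2 * (m' - g) ≤ u := by omega
      have h6 : c * (2 * (m' - g)) ≤ c * u := Nat.mul_le_mul_left c h5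
      have h7 : c * (2 * (m' - g)) + 2 * (g * c) = 2 * (c * m') := by
        rw [show g * c = c * g by ring, ← mul_left_comm c 2 g, ← mul_add, ← mul_left_comm c 2 m', ← mul_add,
          Nat.sub_add_cancel (by omega)]
      omega
  · have hci : c = 2 * i := by rw [hc, blockDim, if_neg (Nat.not_even_iff_odd.2 hodd)]
    subst hci
    obtain ⟨g, hg⟩ : ∃ g, g = min m' e := ⟨_, rfl⟩
    have hge : g * i ≤ e * i := Nat.mul_le_mul_right i (by omega)
    have hgm : g * i ≤ m' * i := Nat.mul_le_mul_right i (by omega)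
    rw [mul_assoc, mul_comm i e] at he
    rw [mul_comm i m'] at hmm
    obtain ⟨U, hU, hUi, hUY, hUd⟩ := exists_iso_odd hr2 hA hrF hf hB hiF hi0 hodd g Y hY (h3 nd_top) hYfix (by omega)
    refine ⟨g, U, hU, hUi, hUY, hUd, by omega, ?_⟩
    rcases le_total m' e with h | h
    · rw [hg, min_eq_left h]
      omega
    · rw [hg, min_eq_right h]
      omega

/-- Elements of prime order of PSp_n(q) with no fixed totally isotropic `m`-space. Here `T = PSp_n(q)` with `n = 2d ≥ 4`, `(n, q) ≠ (4, 2)`, realised through the symplectic matrices over the field `F` with `q` elements (preserving the standard alternating form); an element of `T` of prime order `r` is such a matrix `x` with `x^r` scalar and `x` not scalar. For `r ≠ p` let `i` be the multiplicative order of `q` modulo `r`, `c = i` for `i` even and `c = 2i` for `i` odd, and write `k = n mod c`, `ℓ = m mod i`, `ℓ' = m mod c`, `n' = ⌊n/i⌋`, `m' = ⌊m/i⌋`, `t = (r−1)/i`. Let `1 ≤ m ≤ n/2` and let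 `r` be a prime dividing the number of totally isotropic `m`-spaces. Then every element of `T` of order `r` fixes a totally isotropic `m`-space if and only if either (i) `r = 2 ≠ p` and (`m` is even or `q ≡ 1 (mod 4)`); or (ii) `r ≠ p`, `r > 2`, `i ≤ m`, `k ≥ 2ℓ`, and (`i` is odd or `n' − 2m' ≥ t`). -/
theorem result {F : Type*} [Field F] [Fintype F] {p : ℕ} [Fact p.Prime] [CharP F p] {q : ℕ} (hq : Fintype.card F = q)
    (d m : ℕ) (hd : 2 ≤ d) (hT : (d, q) ≠ (2, 2)) (hm : 1 ≤ m) (hmd : m ≤ d)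
    (r : ℕ) [Fact r.Prime]
    (hrΩ : r ∣ Nat.card {W : Submodule F (Fin d ⊕ Fin d → F) // Module.finrank F ↥W = m ∧ (∀ u ∈ W, ∀ v ∈ W, Cfsg.sympForm d F u v = 0)})
    (i c : ℕ) (hi : i = orderOf (q : ZMod r)) (hc : c = if Even i then i else 2 * i) :
    (∀ x : ↥(Matrix.symplecticGroup (Fin d) F),
      (∃ z : F, ((x ^ r : ↥(Matrix.symplecticGroup (Fin d) F)) : Matrix (Fin d ⊕ Fin d) (Fin d ⊕ Fin d) F) = z • (1 : Matrix (Fin d ⊕ Fin d) (Fin d ⊕ Fin d) F)) →
      (∀ z : F, (x : Matrix (Fin d ⊕ Fin d) (Fin d ⊕ Fin d) F) ≠ z • (1 : Matrix (Fin d ⊕ Fin d) (Fin d ⊕ Fin d) F)) →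
      ∃ W : Submodule F (Fin d ⊕ Fin d → F), Module.finrank F ↥W = m ∧ (∀ u ∈ W, ∀ v ∈ W, Cfsg.sympForm d F u v = 0) ∧
        W.map (Matrix.toLin' (x : Matrix (Fin d ⊕ Fin d) (Fin d ⊕ Fin d) F)) ≤ W) ↔
    ((r = 2 ∧ p ≠ 2 ∧ (Even m ∨ q % 4 = 1)) ∨
     (r ≠ p ∧ 2 < r ∧ i ≤ m ∧ 2 * (m % i) ≤ (2 * d) % c ∧ (Odd i ∨ (r - 1) / i + 2 * (m / i) ≤ (2 * d) / i))) := by
  classical
  open CfsgLib.Classical22 CfsgLib.Classical22.PrimeMaps CfsgLib.Classical22.PrimeMaps.Symp Module CfsgLib.Classical in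
  have hr : r.Prime := Fact.out
  have hcb : c = blockDim i := hc
  by_cases hrp : r = p
  · subst hrp
    exact absurd hrΩ (not_dvd_char (p := r) hmd)
  have hrF : (r : F) ≠ 0 := natCast_ne_zero_of_ne (p := p) hrp
  haveI : Nonempty (Fin d ⊕ Fin d) := ⟨Sum.inl ⟨0, by omega⟩⟩
  have toX : ∀ (L : (Fin d ⊕ Fin d → F) →ₗ[F] (Fin d ⊕ Fin d → F)),
      (∀ u v, spBilin d F (L u) (L v) = spBilin d F u v) →
      ∃ x : Matrix.symplecticGroup (Fin d) F, Matrix.toLin' (x : Matrix (Fin d ⊕ Fin d) (Fin d ⊕ Fin d) F) = L := by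
    intro L hB
    obtain ⟨x, hx⟩ := spMk_exists L hB
    exact ⟨x, LinearMap.ext fun v => by rw [Matrix.toLin'_apply, hx]⟩
  have scal : ∀ (x : Matrix.symplecticGroup (Fin d) F) (z : F) (n : ℕ),
      (((x ^ n : Matrix.symplecticGroup (Fin d) F) : Matrix (Fin d ⊕ Fin d) (Fin d ⊕ Fin d) F) = z • 1) ↔
      ∀ v, ((Matrix.toLin' (x : Matrix (Fin d ⊕ Fin d) (Fin d ⊕ Fin d) F)) ^ n) v = z • v := by
    intro x z n
    rw [SubmonoidClass.coe_pow, ← Matrix.toLin'_pow, ← Matrix.toLin'.injective.eq_iff, map_smul, Matrix.toLin'_one,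
      LinearMap.ext_iff]
    rfl
  by_cases hr2 : r = 2
  · subst hr2
    have h2 : (2 : F) ≠ 0 := by exact_mod_cast hrF
    have hqo : Odd q := by
      obtain ⟨k, hp', hk⟩ := FiniteField.card F p
      rw [← hq, hk]
      exact (hp'.odd_of_ne_two fun h => hrp h.symm).pow
    rw [show ((2 = 2 ∧ p ≠ 2 ∧ (Even m ∨ q % 4 = 1)) ∨ (2 ≠ p ∧ 2 < 2 ∧ i ≤ m ∧ 2 * (m % i) ≤ (2 * d) % c ∧
        (Odd i ∨ (2 - 1) / i + 2 * (m / i) ≤ (2 * d) / i))) = (Even m ∨ q % 4 = 1) from
      propext ⟨fun h => h.elim (fun h => h.2.2) fun h => absurd h.2.1 (lt_irrefl 2),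
        fun h => Or.inl ⟨rfl, fun h' => hrp h'.symm, h⟩⟩, ← involution_case (d := d) hq h2 hqo (by omega) hmd]
    constructor
    · intro h L z hL hB hns
      obtain ⟨x, hx⟩ := toX L hB
      obtain ⟨W, hWd, hWi, hW⟩ := h x ⟨z, (scal x z 2).2 fun v => by rw [hx, pow_two, Module.End.mul_apply, hL]⟩
        fun w hw => hns w (by rw [← hx, hw, map_smul, Matrix.toLin'_one])
      rw [hx] at hW
      exact ⟨W, hWd, hWi, fun w hw => hW (Submodule.mem_map_of_mem hw)⟩
    · intro h x ⟨z, hz⟩ hns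
      obtain ⟨W, hWd, hWi, hW⟩ := h _ z (fun v => by
        rw [← (scal x z 2).1 hz v, pow_two, Module.End.mul_apply]) (form_sp x) fun w hw => hns w (by
        apply Matrix.toLin'.injective
        rw [hw, map_smul, Matrix.toLin'_one])
      exact ⟨W, hWd, hWi, Submodule.map_le_iff_le_comap.2 hW⟩
  · have hrhs : ((r = 2 ∧ p ≠ 2 ∧ (Even m ∨ q % 4 = 1)) ∨ (r ≠ p ∧ 2 < r ∧ i ≤ m ∧ 2 * (m % i) ≤ (2 * d) % c ∧
        (Odd i ∨ (r - 1) / i + 2 * (m / i) ≤ (2 * d) / i))) ↔ (i ≤ m ∧ 2 * (m % i) ≤ (2 * d) % c ∧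
        (Odd i ∨ (r - 1) / i + 2 * (m / i) ≤ (2 * d) / i)) :=
      ⟨fun h => (h.resolve_left fun h => hr2 h.1).2.2, fun h => Or.inr ⟨hrp, by have := hr.two_le; omega, h⟩⟩
    rw [hrhs]
    obtain ⟨k, hk⟩ := hr.odd_of_ne_two hr2
    constructor
    · intro h
      refine odd_necessity (p := p) hq hrp hr2 hm hmd hi hcb hrΩ fun f hf hB hlt => ?_
      obtain ⟨x, hx⟩ := toX f hB
      obtain ⟨W, hWd, hWi, hW⟩ := h x ⟨1, (scal x 1 r).2 fun v => by rw [hx, hf, one_smul]⟩ (fun z hz => by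
        rw [hz, map_smul, Matrix.toLin'_one] at hx
        obtain ⟨v, hv⟩ := exists_ne (0 : Fin d ⊕ Fin d → F)
        obtain ⟨w, hw⟩ : ∃ w, spBilin d F v w ≠ 0 := by
          by_contra hcon
          push Not at hcon
          exact hv (sympForm_nondeg hcon)
        have h2 := hB v w
        rw [← hx] at h2
        simp only [LinearMap.smul_apply, LinearMap.id_apply, map_smul, smul_eq_mul, ← mul_assoc] at h2
        have hz2 : z * z = 1 := mul_right_cancel₀ hw (h2.trans (one_mul _).symm)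
        have h1 := hf v
        rw [← hx, _root_.smul_pow, ← Module.End.one_eq_id, one_pow, hk, pow_succ, pow_mul, sq, hz2, one_pow,
          one_mul] at h1
        have hz1 : z = 1 := smul_left_injective F hv (h1.trans (one_smul F v).symm)
        have htop : fixed f = ⊤ := eq_top_iff.2 fun u _ => mem_fixed.2 (by rw [← hx, hz1, one_smul]; rfl)
        rw [htop, finrank_top, finrank_std] at hlt
        omega)
      rw [hx] at hW
      exact ⟨W, hWd, hWi, fun w hw => hW (Submodule.mem_map_of_mem hw)⟩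
    · rintro ⟨-, hcond⟩ x ⟨z, hz⟩ -
      obtain ⟨L, hL⟩ : ∃ L, L = Matrix.toLin' (x : Matrix (Fin d ⊕ Fin d) (Fin d ⊕ Fin d) F) := ⟨_, rfl⟩
      have hLr : ∀ v, (L ^ r) v = z • v := hL ▸ (scal x z r).1 hz
      have hLB : ∀ u v, spBilin d F (L u) (L v) = spBilin d F u v := hL ▸ form_sp x
      have hz2 : z * z = 1 := by
        obtain ⟨v, hv⟩ := exists_ne (0 : Fin d ⊕ Fin d → F)
        obtain ⟨w, hw⟩ : ∃ w, spBilin d F v w ≠ 0 := by
          by_contra hcon
          push Not at hcon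
          exact hv (sympForm_nondeg hcon)
        have h2 := form_pow (B := spBilin d F) hLB r v w
        rw [hLr, hLr, map_smul, map_smul, LinearMap.smul_apply, smul_eq_mul, smul_eq_mul, ← mul_assoc] at h2
        exact mul_right_cancel₀ hw (h2.trans (one_mul _).symm)
      obtain ⟨W, hWd, hWi, hW⟩ := odd_sufficiency (p := p) hq hrp hr2 hmd hi hcb hcond (z • L) (fun v => by
          rw [_root_.smul_pow, LinearMap.smul_apply, hLr, smul_smul, ← pow_succ, hk, pow_succ, pow_succ, mul_assoc,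
            hz2, mul_one, pow_mul, sq, hz2, one_pow, one_smul]) (fun u v => by
          rw [LinearMap.smul_apply, LinearMap.smul_apply, map_smul, map_smul, LinearMap.smul_apply, hLB, smul_eq_mul,
            smul_eq_mul, ← mul_assoc, hz2, one_mul])
      refine ⟨W, hWd, hWi, ?_⟩
      rw [← hL, Submodule.map_le_iff_le_comap]
      intro w hw
      have h1 := W.smul_mem z (hW w hw)
      rw [LinearMap.smul_apply, smul_smul, hz2, one_smul] at h1
      exact h1

end Cfsg.Agent.S5955
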