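import Cfsg.Statements.S5956
import Cfsg.Agent.Lib.Classical22.PrimeOrderSympNondeg
import Cfsg.Agent.Lib.Classical22.PrimeOrderSympUnipotent
import Cfsg.Agent.Lib.Classical22.PrimeOrderSubspaces
-- import your own Cfsg.Agent.* helpers here

set_option autoImplicit false
open scoped MatrixGroups
open Cfsg

namespace Cfsg.Agent.S5956

open CfsgLib.Classical22 CfsgLib.Classical22.PrimeMaps CfsgLib.Classical22.PrimeMaps.Symp Module CfsgLib.Classical in
theorem unipotent_case {F : Type*} [Field F] [Fintype F] {p d m : ℕ} [hp : Fact p.Prime] [CharP F p] (h2 : (2 : F) ≠ 0)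
    (hme : Even m) (hmd : m ≤ 2 * d) :
    (∀ f : (Fin d ⊕ Fin d → F) →ₗ[F] (Fin d ⊕ Fin d → F), (∀ v, (f ^ p) v = v) →
      (∀ u v, spBilin d F (f u) (f v) = spBilin d F u v) → finrank F (fixed f) < 2 * d →
      ∃ W : Submodule F (Fin d ⊕ Fin d → F), finrank F W = m ∧ Nd (spBilin d F) W ∧ PrimeMaps.Inv f W) ↔
    (∀ μ : Multiset ℕ, (∀ a ∈ μ, 0 < a ∧ a ≤ p) → (∀ a : ℕ, Odd a → Even (μ.count a)) → μ.sum = 2 * d →
        ∃ ν : Multiset ℕ, ν ≤ μ ∧ ν.sum = m ∧ ∀ a : ℕ, Odd a → Even (ν.count a)) := by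
  classical
  constructor
  · intro h μ hμ hμp hμs
    obtain ⟨d', f, hd, hB, hfp, hr⟩ := hasModel_partition (F := F) (p := p) h2 μ hμ hμp
    obtain rfl : d' = d := by omega
    by_cases htriv : finrank F (fixed f) = 2 * d'
    · have hz : NilPart.prank μ 1 = 0 := by
        have h1 := hr 1
        have h3 := LinearMap.finrank_range_add_finrank_ker (f - 1)
        rw [show LinearMap.ker (f - 1) = fixed f from rfl, htriv, finrank_std] at h3
        rw [pow_one] at h1
        omega
      have hall : μ = Multiset.replicate (2 * d') 1 := by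
        have hcard := card_add_prank_one fun b hb => (hμ b hb).1
        refine Multiset.eq_replicate.2 ⟨by omega, fun b hb => ?_⟩
        have := Multiset.single_le_sum (fun x _ => Nat.zero_le x) (b - 1) (Multiset.mem_map_of_mem (fun a => a - 1) hb)
        have := (hμ b hb).1
        rw [NilPart.prank] at hz
        omega
      refine ⟨Multiset.replicate m 1, hall ▸ (Multiset.replicate_le_replicate 1).2 hmd, by simp, fun a _ => ?_⟩
      rw [Multiset.count_replicate]
      split_ifs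
      exacts [hme, ⟨0, rfl⟩]
    · obtain ⟨W, hWd, hWn, hW⟩ := h f (fun v => by
        have e := sub_one_pow (p := p) f
        rw [hfp, eq_comm, sub_eq_zero] at e
        rw [e]; rfl) hB (lt_of_le_of_ne ((Submodule.finrank_le _).trans finrank_std.le) htriv)
      have hN : ∀ x, ((f - 1) ^ p) x = 0 := fun x => by rw [hfp]; rfl
      obtain ⟨g1, g2, g3, g4⟩ := compl_in spBilin_isAlt hWn (le_top : W ≤ ⊤)
      have hC : PrimeMaps.Inv f ((⊤ : Submodule F _) ⊓ (spBilin d' F).orthogonal W) := fun x hx => by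
        refine ⟨Submodule.mem_top, inv_orth hp.out.pos (fun v => ?_) hB hW x hx.2⟩
        have e := sub_one_pow (p := p) f
        rw [hfp, eq_comm, sub_eq_zero] at e
        rw [e]; rfl
      obtain ⟨α, a1, a2, a3, a4, -⟩ := unip_partition h2 spBilin_isAlt hB W hW hWn (p := p) fun x _ => hN x
      obtain ⟨β, b1, b2, -, b4, -⟩ := unip_partition h2 spBilin_isAlt hB _ hC (g3 nd_top) (p := p) fun x _ => hN x
      have hNi : ∀ {U : Submodule F (Fin d' ⊕ Fin d' → F)}, PrimeMaps.Inv f U → PrimeMaps.Inv (f - 1) U := fun hU x hx => by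
        rw [LinearMap.sub_apply, Module.End.one_apply]; exact Submodule.sub_mem _ (hU x hx) hx
      have hab : α + β = μ := NilPart.eq_of_prank (fun a ha => (Multiset.mem_add.1 ha).elim (fun h => (a1 a h).1)
        fun h => (b1 a h).1) (fun a ha => (hμ a ha).1) fun k => by
        rw [NilPart.prank_add, ← a4, ← b4, ← NilPart.rank_add (hNi hW) (hNi hC) g1, g2, Submodule.map_top, hr]
      exact ⟨α, hab ▸ Multiset.le_add_right α β, a3.trans hWd, a2⟩
  · intro h f hf hB hlt
    have hN : ∀ x, ((f - 1) ^ p) x = 0 := fun x => by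
      rw [sub_one_pow f, LinearMap.sub_apply, hf, Module.End.one_apply, sub_self]
    obtain ⟨μ, m1, m2, m3, -, m5⟩ := unip_partition h2 spBilin_isAlt hB ⊤ (fun _ _ => Submodule.mem_top) nd_top (p := p)
      fun x _ => hN x
    rw [finrank_top, finrank_std] at m3
    obtain ⟨ν, hν, hνs, hνp⟩ := h μ m1 m2 m3
    obtain ⟨W, hW, hWn, -, hWd⟩ := m5 ν hν hνp
    exact ⟨W, hWd.trans hνs, hWn, hW⟩

open CfsgLib.Classical22 CfsgLib.Classical22.PrimeMaps CfsgLib.Classical22.PrimeMaps.Symp Module CfsgLib.Classical in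
theorem semisimple_case {F : Type*} [Field F] [Fintype F] {p q d m r i c : ℕ} [Fact p.Prime] [CharP F p] [hr : Fact r.Prime]
    (hq : Fintype.card F = q) (hrp : r ≠ p) (hr2 : r ≠ 2) (hm : 0 < m) (hme : Even m) (hmd : m < d)
    (hi : i = orderOf (q : ZMod r)) (hc : c = blockDim i) (hdvd : r ∣ Nat.card (NdSpace F d m)) :
    (∀ f : (Fin d ⊕ Fin d → F) →ₗ[F] (Fin d ⊕ Fin d → F), (∀ v, (f ^ r) v = v) →
      (∀ u v, spBilin d F (f u) (f v) = spBilin d F u v) → finrank F (fixed f) < 2 * d →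
      ∃ W : Submodule F (Fin d ⊕ Fin d → F), finrank F W = m ∧ Nd (spBilin d F) W ∧ PrimeMaps.Inv f W) ↔
    (c ≤ m ∧ m % c ≤ (2 * d) % c) := by
  classical
  have hrF : (r : F) ≠ 0 := natCast_ne_zero_of_ne (p := p) hrp
  obtain ⟨hi0, -⟩ := order_facts (F := F) (p := p) (r := r) hq hrp
  rw [← hi] at hi0
  have hiF : i = orderOf (Fintype.card F : ZMod r) := by rw [hq, hi]
  have hc0 : 0 < c := hc ▸ blockDim_pos hi0
  have hce : Even c := hc ▸ blockDim_even i
  obtain ⟨hm2, hm2d⟩ := hme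
  obtain ⟨j, hjm, hjd⟩ := nd_window (p := p) (h := hm2) (d := d) hrp (by omega)
    (by rwa [show 2 * hm2 = m by omega])
  rw [← hiF, ← hc] at hjd
  have hcn : c ≤ 2 * d := (Nat.le_of_dvd (by omega) hjd).trans (by omega)
  have hkm : (2 * d) % c < m := by
    obtain ⟨s, hs⟩ := hjd
    rw [show 2 * d = 2 * j + c * s by omega, Nat.add_mul_mod_self_left]
    exact lt_of_le_of_lt (Nat.mod_le _ _) (by omega)
  have hmlt := Nat.mod_lt (2 * d) hc0
  have hnc := Nat.div_add_mod (2 * d) c
  constructor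
  · intro h
    obtain ⟨fM, hfM, hBM, hkM, -⟩ := exists_element (d := d) (r := r) hrF (hiF ▸ hi0) (l := 2 * d / c)
      (by rw [← hiF, ← hc]; exact Nat.mul_div_le _ c)
    rw [← hiF, ← hc] at hkM
    obtain ⟨W, hWd, hWn, hW⟩ := h fM hfM hBM (by
      have : c * 1 ≤ c * (2 * d / c) := Nat.mul_le_mul_left c (Nat.div_pos hcn hc0)
      omega)
    obtain ⟨s, hs⟩ := dvd_sub_fixed spBilin_isAlt hrF hfM hBM hW hWn
    rw [hWd, ← hiF, ← hc] at hs
    have hwf : finrank F (W ⊓ fixed fM : Submodule F _) ≤ finrank F (fixed fM) := Submodule.finrank_mono inf_le_right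
    have hwm : finrank F (W ⊓ fixed fM : Submodule F _) ≤ m := hWd ▸ Submodule.finrank_mono inf_le_left
    refine ⟨?_, ?_⟩
    · by_contra hcon
      rcases Nat.eq_zero_or_pos s with hs0 | hs0
      · subst hs0; omega
      · have : c * 1 ≤ c * s := Nat.mul_le_mul_left c hs0
        omega
    · rw [show m = finrank F (W ⊓ fixed fM : Submodule F _) + c * s by omega, Nat.add_mul_mod_self_left]
      exact (Nat.mod_le _ _).trans (by omega)
  · rintro ⟨-, hmk⟩ f hf hB -
    obtain ⟨k', hk'⟩ : ∃ k', finrank F (fixed f) = k' := ⟨_, rfl⟩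
    obtain ⟨e, he⟩ := dvd_sub_fixed spBilin_isAlt hrF hf hB (X := ⊤) (fun _ _ => Submodule.mem_top) nd_top
    rw [top_inf_eq, hk', finrank_top, finrank_std, ← hiF, ← hc] at he
    have hk2 : k' ≤ 2 * d := hk' ▸ (Submodule.finrank_le _).trans finrank_std.le
    have hkk : k' % c = (2 * d) % c := by
      rw [show 2 * d = k' + c * e by omega, Nat.add_mul_mod_self_left]
    have hkmod := Nat.mod_le k' c
    have hmm := Nat.div_add_mod m c
    obtain ⟨s, hs⟩ : ∃ s, s = min (m / c) e := ⟨_, rfl⟩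
    have hsm : c * s ≤ c * (m / c) := Nat.mul_le_mul_left c (by omega)
    have hse : c * s ≤ c * e := Nat.mul_le_mul_left c (by omega)
    have hj : m - c * s ≤ k' := by
      rcases le_total (m / c) e with h | h
      · rw [hs, min_eq_left h]; omega
      · rw [hs, min_eq_right h]; omega
    obtain ⟨W, hW, hWn, -, -, hWd⟩ := exists_sub hr2 spBilin_isAlt hrF hf hB hiF hi0 (X := ⊤)
      (fun _ _ => Submodule.mem_top) nd_top (m - c * s) s
      (Even.tsub ⟨hm2, hm2d⟩ (hce.mul_right s)) (by rw [top_inf_eq, hk']; exact hj)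
      (by rw [top_inf_eq, hk', finrank_top, finrank_std, ← hc, mul_comm s]; omega)
    rw [← hc, mul_comm s] at hWd
    exact ⟨W, by omega, hWn, hW⟩

/-- Elements of prime order of PSp_n(q) with no fixed nondegenerate `m`-space. Here `T = PSp_n(q)` with `n = 2d ≥ 4`, `(n, q) ≠ (4, 2)`, realised through the symplectic matrices over the field `F` with `q` elements (preserving the standard alternating form); an element of `T` of prime order `r` is such a matrix `x` with `x^r` scalar and `x` not scalar. For `r ≠ p` let `i` be the multiplicative order of `q` modulo `r`, `c = i` for `i` even and `c = 2i` for `i` odd, and write `k = n mod c`, `ℓ = m mod i`, `ℓ' = m mod c`, `n' = ⌊n/i⌋`, `m' = ⌊m/i⌋`, `t = (r−1)/i`. Let `m` be even with `2 ≤ m < n/2` and let `r` be a prime dividing the number of nondegenerate `m`-spaces. Then every element of `T` of order `r` fixes a nondegenerate `m`-space if and only if one of: (i) `r = p > 2` and every partition of `n` into parts of size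 at most `p` in which every odd part has even multiplicity contains (as a sub-multiset) a partition of `m` in which every odd part has even multiplicity; (ii) `r = p = 2` and (`n ≡ 2 (mod 4)` or `m ≡ 0 (mod 4)`); (iii) `r = 2 ≠ p`; (iv) `r ≠ p`, `r > 2`, `c ≤ m` and `k ≥ ℓ'`. -/
theorem result {F : Type*} [Field F] [Fintype F] {p : ℕ} [Fact p.Prime] [CharP F p] {q : ℕ} (hq : Fintype.card F = q)
    (d m : ℕ) (hd : 2 ≤ d) (hT : (d, q) ≠ (2, 2)) (hm : 2 ≤ m) (hme : Even m) (hmd : m < d)
    (r : ℕ) [Fact r.Prime]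
    (hrΩ : r ∣ Nat.card {W : Submodule F (Fin d ⊕ Fin d → F) // Module.finrank F ↥W = m ∧ (∀ u ∈ W, u ≠ 0 → ∃ v ∈ W, Cfsg.sympForm d F u v ≠ 0)})
    (i c : ℕ) (hi : i = orderOf (q : ZMod r)) (hc : c = if Even i then i else 2 * i) :
    (∀ x : ↥(Matrix.symplecticGroup (Fin d) F),
      (∃ z : F, ((x ^ r : ↥(Matrix.symplecticGroup (Fin d) F)) : Matrix (Fin d ⊕ Fin d) (Fin d ⊕ Fin d) F) = z • (1 : Matrix (Fin d ⊕ Fin d) (Fin d ⊕ Fin d) F)) →
      (∀ z : F, (x : Matrix (Fin d ⊕ Fin d) (Fin d ⊕ Fin d) F) ≠ z • (1 : Matrix (Fin d ⊕ Fin d) (Fin d ⊕ Fin d) F)) →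
      ∃ W : Submodule F (Fin d ⊕ Fin d → F), Module.finrank F ↥W = m ∧ (∀ u ∈ W, u ≠ 0 → ∃ v ∈ W, Cfsg.sympForm d F u v ≠ 0) ∧
        W.map (Matrix.toLin' (x : Matrix (Fin d ⊕ Fin d) (Fin d ⊕ Fin d) F)) ≤ W) ↔
    ((r = p ∧ 2 < p ∧ (∀ μ : Multiset ℕ, (∀ a ∈ μ, 0 < a ∧ a ≤ p) → (∀ a : ℕ, Odd a → Even (μ.count a)) → μ.sum = 2 * d →
        ∃ ν : Multiset ℕ, ν ≤ μ ∧ ν.sum = m ∧ ∀ a : ℕ, Odd a → Even (ν.count a))) ∨
     (r = p ∧ p = 2 ∧ ((2 * d) % 4 = 2 ∨ m % 4 = 0)) ∨
     (r = 2 ∧ p ≠ 2) ∨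
     (r ≠ p ∧ 2 < r ∧ c ≤ m ∧ m % c ≤ (2 * d) % c)) := by
  classical
  open CfsgLib.Classical22 CfsgLib.Classical22.PrimeMaps CfsgLib.Classical22.PrimeMaps.Symp Module CfsgLib.Classical in
  have hr : r.Prime := Fact.out
  have hcb : c = blockDim i := hc
  haveI : Nonempty (Fin d ⊕ Fin d) := ⟨Sum.inl ⟨0, by omega⟩⟩
  obtain ⟨hm2, hm2d⟩ := hme
  have scal : ∀ (x : Matrix.symplecticGroup (Fin d) F) (z : F) (n : ℕ),
      (((x ^ n : Matrix.symplecticGroup (Fin d) F) : Matrix (Fin d ⊕ Fin d) (Fin d ⊕ Fin d) F) = z • 1) ↔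
      ∀ v, ((Matrix.toLin' (x : Matrix (Fin d ⊕ Fin d) (Fin d ⊕ Fin d) F)) ^ n) v = z • v := by
    intro x z n
    rw [SubmonoidClass.coe_pow, ← Matrix.toLin'_pow, ← Matrix.toLin'.injective.eq_iff, map_smul, Matrix.toLin'_one,
      LinearMap.ext_iff]
    rfl
  have hsq : ∀ (L : (Fin d ⊕ Fin d → F) →ₗ[F] (Fin d ⊕ Fin d → F)) (z : F) (n : ℕ),
      (∀ u v, spBilin d F (L u) (L v) = spBilin d F u v) → (∀ v, (L ^ n) v = z • v) → z * z = 1 := by
    intro L z n hLB hLr
    obtain ⟨v, hv⟩ := exists_ne (0 : Fin d ⊕ Fin d → F)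
    obtain ⟨w, hw⟩ : ∃ w, spBilin d F v w ≠ 0 := by
      by_contra hcon
      push Not at hcon
      exact hv (sympForm_nondeg hcon)
    have h2 := form_pow (B := spBilin d F) hLB n v w
    rw [hLr, hLr, map_smul, map_smul, LinearMap.smul_apply, smul_eq_mul, smul_eq_mul, ← mul_assoc] at h2
    exact mul_right_cancel₀ hw (h2.trans (one_mul _).symm)
  by_cases hr2 : r = 2
  · subst hr2
    by_cases hp2 : p = 2
    · subst hp2
      have h2 : (2 : F) = 0 := CharP.cast_eq_zero F 2
      constructor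
      · intro h
        refine Or.inr (Or.inl ⟨rfl, rfl, ?_⟩)
        by_contra hcon
        push Not at hcon
        obtain ⟨e, he⟩ : ∃ e, d = e + e := ⟨d / 2, by omega⟩
        subst he
        obtain ⟨f, hff, hB, hns, hW4⟩ := exists_derangement_two (F := F) e (by omega) h2
        obtain ⟨x, hx⟩ := spMk_exists f hB
        have hxf : Matrix.toLin' (x : Matrix (Fin (e + e) ⊕ Fin (e + e)) (Fin (e + e) ⊕ Fin (e + e)) F) = f :=
          LinearMap.ext fun v => by rw [Matrix.toLin'_apply, hx]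
        obtain ⟨W, hWd, hWn, hW⟩ := h x ⟨1, (scal x 1 2).2 fun v => by
            rw [hxf, pow_two, Module.End.mul_apply, hff, one_smul]⟩
          fun w hw => hns w (by rw [← hxf, hw, map_smul, Matrix.toLin'_one])
        rw [hxf] at hW
        have := hW4 W (fun v hv => hW (Submodule.mem_map_of_mem hv)) (nd_iff.2 hWn)
        omega
      · intro h
        rintro x ⟨z, hz⟩ -
        have hcond : (2 * d) % 4 = 2 ∨ m % 4 = 0 := by
          rcases h with h | h | h | h
          exacts [absurd h.2.1 (lt_irrefl 2), h.2.2, absurd rfl h.2, absurd h.2.1 (lt_irrefl 2)]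
        have hL := (scal x z 2).1 hz
        have hz2 := hsq _ z 2 (form_sp x) hL
        obtain ⟨W, hW, hWn, hWd⟩ := exists_nd_of_planes (n := d) (k := hm2) spBilin_isAlt nd_top
          (left_ne_zero_of_mul_eq_one hz2) (fun v => by rw [← hL v, pow_two, Module.End.mul_apply]) (form_sp x)
          finrank_std (by omega) (by rw [Nat.even_iff, Nat.odd_iff]; omega)
        exact ⟨W, by omega, nd_iff.1 hWn, Submodule.map_le_iff_le_comap.2 hW⟩
    · refine iff_of_true ?_ (Or.inr (Or.inr (Or.inl ⟨rfl, hp2⟩)))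
      intro x ⟨z, hz⟩ _
      have h2 : (2 : F) ≠ 0 := by
        have := natCast_ne_zero_of_ne (F := F) (p := p) (r := 2) (Ne.symm hp2)
        exact_mod_cast this
      have hL := (scal x z 2).1 hz
      have hz2 := mul_self_eq_one_iff.1 (hsq _ z 2 (form_sp x) hL)
      obtain ⟨L, hLd⟩ : ∃ L, L = Matrix.toLin' (x : Matrix (Fin d ⊕ Fin d) (Fin d ⊕ Fin d) F) := ⟨_, rfl⟩
      rw [← hLd] at hL ⊢
      have hLL : ∀ v, L (L v) = z • v := fun v => by rw [← hL v, pow_two, Module.End.mul_apply]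
      have hLB : ∀ u v, spBilin d F (L u) (L v) = spBilin d F u v := fun u v => by rw [hLd]; exact form_sp x u v
      have hzz : z * z = 1 := by rcases hz2 with rfl | rfl <;> simp
      obtain ⟨W, hW, hWn, -, hWd⟩ := exists_mult (f := L) (r := 4) spBilin_isAlt (by norm_num) (fun v => by
          rw [show (4 : ℕ) = 2 + 2 from rfl, pow_add, Module.End.mul_apply, hL, hL, smul_smul, hzz, one_smul])
        hLB two_pos hm2 ⊤ (fun _ _ => Submodule.mem_top) nd_top
        (fun Y' a b _ d => exists_inv_plane h2 spBilin_isAlt hz2 hLL hLB a b d)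
        (by rw [finrank_top, finrank_std]; omega)
      exact ⟨W, by omega, nd_iff.1 hWn, Submodule.map_le_iff_le_comap.2 hW⟩
  · obtain ⟨k, hk⟩ := hr.odd_of_ne_two hr2
    obtain ⟨Φ, hΦ⟩ : ∃ Φ : Prop, Φ = ∀ f : (Fin d ⊕ Fin d → F) →ₗ[F] (Fin d ⊕ Fin d → F), (∀ v, (f ^ r) v = v) →
        (∀ u v, spBilin d F (f u) (f v) = spBilin d F u v) → finrank F (fixed f) < 2 * d →
        ∃ W : Submodule F (Fin d ⊕ Fin d → F), finrank F W = m ∧ Nd (spBilin d F) W ∧ PrimeMaps.Inv f W := ⟨_, rfl⟩
    refine Iff.trans (b := Φ) ?_ ?_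
    · rw [hΦ]
      constructor
      · intro h f hf hB hlt
        obtain ⟨x, hx'⟩ := spMk_exists f hB
        have hx : Matrix.toLin' (x : Matrix (Fin d ⊕ Fin d) (Fin d ⊕ Fin d) F) = f :=
          LinearMap.ext fun v => by rw [Matrix.toLin'_apply, hx']
        obtain ⟨W, hWd, hWn, hW⟩ := h x ⟨1, (scal x 1 r).2 fun v => by rw [hx, hf, one_smul]⟩ (fun z hz => by
          rw [hz, map_smul, Matrix.toLin'_one] at hx
          obtain ⟨v, hv⟩ := exists_ne (0 : Fin d ⊕ Fin d → F)
          have hz2 : z * z = 1 := hsq f z 1 hB fun v => by rw [pow_one, ← hx]; rfl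
          have h1 := hf v
          rw [← hx, _root_.smul_pow, ← Module.End.one_eq_id, one_pow, hk, pow_succ, pow_mul, sq, hz2, one_pow,
            one_mul] at h1
          have hz1 : z = 1 := smul_left_injective F hv (h1.trans (one_smul F v).symm)
          have htop : fixed f = ⊤ := eq_top_iff.2 fun u _ => mem_fixed.2 (by rw [← hx, hz1, one_smul]; rfl)
          rw [htop, finrank_top, finrank_std] at hlt
          omega)
        rw [hx] at hW
        exact ⟨W, hWd, nd_iff.2 hWn, fun w hw => hW (Submodule.mem_map_of_mem hw)⟩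
      · intro h
        rintro x ⟨z, hz⟩ hns
        obtain ⟨L, hL⟩ : ∃ L, L = Matrix.toLin' (x : Matrix (Fin d ⊕ Fin d) (Fin d ⊕ Fin d) F) := ⟨_, rfl⟩
        have hLr : ∀ v, (L ^ r) v = z • v := hL ▸ (scal x z r).1 hz
        have hLB : ∀ u v, spBilin d F (L u) (L v) = spBilin d F u v := hL ▸ form_sp x
        have hz2 := hsq L z r hLB hLr
        obtain ⟨f, hf⟩ : ∃ f, f = z • L := ⟨_, rfl⟩
        obtain ⟨W, hWd, hWn, hW⟩ := h f (fun v => by
            rw [hf, _root_.smul_pow, LinearMap.smul_apply, hLr, smul_smul, ← pow_succ, hk, pow_succ, pow_succ,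
              mul_assoc, hz2, mul_one, pow_mul, sq, hz2, one_pow, one_smul]) (fun u v => by
            rw [hf, LinearMap.smul_apply, LinearMap.smul_apply, map_smul, map_smul, LinearMap.smul_apply, hLB,
              smul_eq_mul, smul_eq_mul, ← mul_assoc, hz2, one_mul]) (by
            rw [← finrank_std (F := F)]
            refine Submodule.finrank_lt fun htop => hns z ?_
            refine Matrix.toLin'.injective (LinearMap.ext fun v => ?_)
            have h1 := mem_fixed.1 (htop ▸ Submodule.mem_top : v ∈ fixed f)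
            rw [hf, LinearMap.smul_apply] at h1
            rw [← hL, map_smul, Matrix.toLin'_one]
            show L v = z • v
            conv_rhs => rw [← h1, smul_smul, hz2, one_smul])
        refine ⟨W, hWd, nd_iff.1 hWn, ?_⟩
        rw [← hL, Submodule.map_le_iff_le_comap]
        intro w hw
        have h1 := W.smul_mem z (hW w hw)
        rw [hf, LinearMap.smul_apply, smul_smul, hz2, one_smul] at h1
        exact h1
    · rw [hΦ]
      by_cases hrp : r = p
      · subst hrp
        have h2 : (2 : F) ≠ 0 := by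
          have := natCast_ne_zero_of_ne (F := F) (p := r) (r := 2) (Ne.symm hr2)
          exact_mod_cast this
        rw [unipotent_case h2 ⟨hm2, hm2d⟩ (by omega)]
        constructor
        · exact fun h => Or.inl ⟨rfl, by have := hr.two_le; omega, h⟩
        · rintro (h | h | h | h)
          exacts [h.2.2, absurd h.2.1 hr2, absurd h.1 hr2, absurd rfl h.1]
      · rw [semisimple_case (p := p) hq hrp hr2 (by omega) ⟨hm2, hm2d⟩ hmd hi hcb hrΩ]
        constructor
        · exact fun h => Or.inr (Or.inr (Or.inr ⟨hrp, by have := hr.two_le; omega, h⟩))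
        · rintro (h | h | h | h)
          exacts [absurd h.1 hrp, absurd h.1 hrp, absurd h.1 hr2, h.2.2]

end Cfsg.Agent.S5956
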