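import Cfsg.Statements.S5958
import Cfsg.Agent.Lib.Classical22.PrimeOrderWreathNec
import Cfsg.Agent.Lib.Classical22.PrimeOrderWreathCount
-- import your own Cfsg.Agent.* helpers here

set_option autoImplicit false
open scoped MatrixGroups
open Cfsg

namespace Cfsg.Agent.S5958

open CfsgLib.Classical22.PrimeMaps CfsgLib.Classical22.PrimeMaps.Wreath Module Polynomial in
theorem dim_ge {F : Type*} [Field F] [Fintype F] {p n r : ℕ} [Fact p.Prime] [CharP F p] [Fact r.Prime]
    (hrF : (r : F) ≠ 0) (h : r ∣ Nat.card ((Fin n → F) ≃ₗ[F] (Fin n → F))) :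
    orderOf (Fintype.card F : ZMod r) ≤ n := by
  haveI : Finite ((Fin n → F) ≃ₗ[F] (Fin n → F)) := Finite.of_injective _ DFunLike.coe_injective
  obtain ⟨e, he⟩ := exists_prime_orderOf_dvd_card' (G := (Fin n → F) ≃ₗ[F] (Fin n → F)) r h
  have her : e ^ r = 1 := he ▸ pow_orderOf_eq_one e
  have h1 := (order_spec hrF (pow_coe her) (X := ⊤) fun _ _ => Submodule.mem_top).1
  rw [top_inf_eq, finrank_top, Module.finrank_fin_fun] at h1
  have hlt : Module.finrank F (fixed (e : (Fin n → F) →ₗ[F] (Fin n → F))) < n := by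
    have := Submodule.finrank_lt (show fixed (e : (Fin n → F) →ₗ[F] (Fin n → F)) ≠ ⊤ from fun htop =>
      (Fact.out : r.Prime).ne_one (by
        rw [← he, orderOf_eq_one_iff]
        exact LinearEquiv.ext fun v => mem_fixed.1 (htop ▸ Submodule.mem_top)))
    rwa [Module.finrank_fin_fun] at this
  exact (Nat.le_of_dvd (by omega) h1).trans (Nat.sub_le _ _)

/-- Elements of odd prime order of PSL_n(q) and imprimitive subgroups. Here `T = PSL_n(F)` for a field `F` with `q = p^f` elements (`n ≥ 2`, `(n, q) ≠ (2, 2), (2, 3)`), `n = a·t` with `t ≥ 2`, and Ω is the set of direct-sum decompositions of `F^n` into `t` subspaces of dimension `a` (unordered; their number is the number of ordered ones divided by `t!`), whose stabilizers are the imprimitive subgroups of type GL_a(q) ≀ S_t (maximal except in some small cases; maximality is not assumed); an element of `T` of prime order `r` (a matrix `x` of determinant 1 with `x^r` scalar, `x` not scalar) fixes a point of Ω when it permutes the summands of some such decomposition.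 Let `r ≠ p` be an odd prime dividing the number of such decompositions, let `c` be the multiplicative order of `q` modulo `r`, and write `k = n mod c`, `ℓ = a mod c`. Then every element of `T` of order `r` stabilizes such a decomposition if and only if either `a = 1`, `c = r − 1 > 1` and `n ≤ k·r`, or `c ≤ a` and `k = t·ℓ`. -/
theorem result {F : Type*} [Field F] [Fintype F] {p : ℕ} [Fact p.Prime] [CharP F p] {q : ℕ} (hq : Fintype.card F = q)
    (n a t : ℕ) (hn : 2 ≤ n) (hT : (n, q) ≠ (2, 2) ∧ (n, q) ≠ (2, 3)) (hat : n = a * t) (ha : 1 ≤ a) (ht : 2 ≤ t)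
    (r : ℕ) [Fact r.Prime] (hr2 : r ≠ 2) (hrp : r ≠ p) (hΩ : r ∣ Nat.card {D : Fin t → Submodule F (Fin n → F) // Cfsg.Geo.IsMDecomposition a D} / Nat.factorial t)
    (c : ℕ) (hc : c = orderOf (q : ZMod r)) :
    (∀ x : Matrix.SpecialLinearGroup (Fin n) F,
      (∃ z : F, ((x ^ r : Matrix.SpecialLinearGroup (Fin n) F) : Matrix (Fin n) (Fin n) F) = z • (1 : Matrix (Fin n) (Fin n) F)) →
      (∀ z : F, (x : Matrix (Fin n) (Fin n) F) ≠ z • (1 : Matrix (Fin n) (Fin n) F)) →
      ∃ D : Fin t → Submodule F (Fin n → F), Cfsg.Geo.IsMDecomposition a D ∧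
        ∃ σ : Equiv.Perm (Fin t), ∀ j, (D j).map (Matrix.toLin' (x : Matrix (Fin n) (Fin n) F)) = D (σ j)) ↔
    ((a = 1 ∧ 1 < c ∧ c = r - 1 ∧ n ≤ (n % c) * r) ∨ (c ≤ a ∧ n % c = t * (a % c))) := by
  classical
  open CfsgLib.Classical22.PrimeMaps CfsgLib.Classical22.PrimeMaps.Wreath Module in
  have hr : r.Prime := Fact.out
  have hrF : (r : F) ≠ 0 := natCast_ne_zero_of_ne (p := p) hrp
  obtain ⟨hc0, hc1⟩ := order_facts (F := F) (p := p) (r := r) hq hrp
  rw [← hc] at hc0 hc1
  have hcF : orderOf (Fintype.card F : ZMod r) = c := by rw [hq, hc]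
  -- the family is nonempty and `c ≤ n`
  have hne : Nat.card {D : Fin t → Submodule F (Fin n → F) // Cfsg.Geo.IsMDecomposition a D} ≠ 0 := by
    obtain ⟨D, σ, hd, hD, -⟩ := split_fixed (F := F) (V := Fin n → F) (f := LinearMap.id) hrF
      (fun v => by rw [Module.End.one_eq_id.symm, one_pow]; rfl) (fun _ _ h => h) (a := a) hcF.symm hc0
      t ((n - t * (a % c)) / c) ⊤ (fun _ _ => Submodule.mem_top) (by rw [finrank_top, finrank_fin_fun, hat]) (by
        have h1 : fixed (LinearMap.id : (Fin n → F) →ₗ[F] (Fin n → F)) = ⊤ :=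
          eq_top_iff.2 fun v _ => mem_fixed.2 rfl
        rw [h1, top_inf_eq, finrank_top, finrank_fin_fun, Nat.mul_div_cancel']
        · have h2 : t * (a % c) ≤ n := by rw [hat, mul_comm a t]; exact Nat.mul_le_mul_left t (Nat.mod_le a c)
          omega
        · refine ⟨t * (a / c), ?_⟩
          have h3 : t * (c * (a / c) + a % c) = t * a := by rw [Nat.div_add_mod]
          rw [hat, mul_comm a t]
          rw [mul_add] at h3
          rw [mul_left_comm c t]
          omega)
    obtain ⟨hda, hind⟩ := indep_of_split hd hD (by rw [finrank_fin_fun, hat])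
    exact Nat.card_ne_zero.2 ⟨⟨⟨D, ht, by omega, hda, hind, hD⟩⟩, inferInstance⟩
  have hcn : c ≤ n := hcF ▸ dim_ge (p := p) hrF (hΩ.trans (unordered_dvd ha hne))
  have hnc := Nat.div_add_mod n c
  have hmlt := Nat.mod_lt n hc0
  constructor
  · intro h
    by_cases hc' : c = 1
    · exact Or.inr ⟨by omega, by rw [hc', Nat.mod_one, Nat.mod_one, mul_zero]⟩
    have hno : ∀ z : F, z ^ r = 1 → z = 1 := by
      intro z hz
      by_contra hz1
      have hz0 : z ≠ 0 := fun h => by rw [h, zero_pow hr.ne_zero] at hz; exact zero_ne_one hz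
      have hd : r ∣ Fintype.card F - 1 :=
        (orderOf_eq_prime hz hz1) ▸ orderOf_dvd_of_pow_eq_one (FiniteField.pow_card_sub_one_eq_one z hz0)
      exact hc' (hc1.2 (hq ▸ hd))
    haveI : Nonempty (Fin n) := ⟨⟨0, by omega⟩⟩
    have happly : ∀ f : (Fin n → F) →ₗ[F] (Fin n → F), (∀ v, (f ^ r) v = v) → finrank F (fixed f) < n →
        ∃ (D : Fin t → Submodule F (Fin n → F)) (σ : Equiv.Perm (Fin t)), Cfsg.Geo.IsMDecomposition a D ∧
          ∀ j, (D j).map f = D (σ j) := by
      intro f hf hlt
      have hA : LinearMap.toMatrix' f ^ r = 1 := by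
        show LinearMap.toMatrixAlgEquiv' f ^ r = 1
        rw [← map_pow, show f ^ r = 1 from LinearMap.ext hf, map_one]
      have hdet : (LinearMap.toMatrix' f).det = 1 := hno _ (by rw [← Matrix.det_pow, hA, Matrix.det_one])
      obtain ⟨x, hx⟩ : ∃ x : Matrix.SpecialLinearGroup (Fin n) F,
          (x : Matrix (Fin n) (Fin n) F) = LinearMap.toMatrix' f := ⟨⟨_, hdet⟩, rfl⟩
      obtain ⟨D, hD, σ, hσ⟩ := h x ⟨1, by rw [Matrix.SpecialLinearGroup.coe_pow, hx, one_smul]; exact hA⟩ (fun z hz => by
        rw [hx] at hz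
        rw [hz, _root_.smul_pow, one_pow] at hA
        have hz1 := hno z (by simpa using congrFun (congrFun hA ⟨0, by omega⟩) ⟨0, by omega⟩)
        rw [hz1, one_smul] at hz
        have hf1 : f = LinearMap.id := by rw [← Matrix.toLin'_toMatrix' f, hz, Matrix.toLin'_one]
        have htop : fixed f = ⊤ := eq_top_iff.2 fun v _ => mem_fixed.2 (by rw [hf1]; rfl)
        rw [htop, finrank_top, finrank_fin_fun] at hlt
        omega)
      rw [hx, Matrix.toLin'_toMatrix'] at hσ
      exact ⟨D, σ, hD, hσ⟩
    obtain ⟨fM, hfM, hkM, -⟩ := exists_element (F := F) (p := p) (n := n) (r := r) (l := n / c)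
      (by omega) (by rw [hcF]; exact Nat.mul_div_le n c)
    rw [hcF, show n - c * (n / c) = n % c by omega] at hkM
    obtain ⟨D, σ, hD, hσ⟩ := happly fM hfM (by omega)
    have h0 : ∀ j, D j ≠ ⊥ := fun j hj => by
      have := hD.finrank_eq j
      rw [hj, finrank_bot] at this
      omega
    by_cases hac : c ≤ a
    · refine Or.inr ⟨hac, ?_⟩
      have hall : ∀ j, σ j = j := fun j => by
        by_contra hj
        have := le_fixed_of_moved hr hD.indep h0 hD.finrank_eq hfM hσ hj
        omega
      obtain ⟨hle, -⟩ := le_fixed_of_all hrF hD.indep hD.finrank_eq hfM hσ hall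
      rw [hcF, hkM] at hle
      have hmod : n % c = (t * (a % c)) % c := by rw [hat, Nat.mul_mod_mod, mul_comm]
      rw [hmod, Nat.mod_eq_of_lt (by omega)]
    · obtain ⟨f, hf, hk, P, hP, hPd, hPf⟩ := exists_element (F := F) (p := p) (n := n) (r := r) (l := 1)
        (by omega) (by rw [hcF, mul_one]; exact hcn)
      rw [hcF, mul_one] at hk
      rw [hcF] at hPd
      obtain ⟨E, τ, hE, hτ⟩ := happly f hf (by omega)
      have hE0 : ∀ j, E j ≠ ⊥ := fun j hj => by
        have := hE.finrank_eq j
        rw [hj, finrank_bot] at this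
        omega
      obtain ⟨j, hj⟩ : ∃ j, τ j ≠ j := by
        by_contra hall
        push Not at hall
        have h1 := (le_fixed_of_all hrF hE.indep hE.finrank_eq hf hτ hall).2 (by rw [hcF]; omega)
        rw [hE.iSup_eq_top] at h1
        have h2 := Submodule.finrank_mono h1
        rw [finrank_top, finrank_fin_fun, hk] at h2
        omega
      have hQ : ((P * (Polynomial.X - Polynomial.C 1))).Monic := hP.mul (Polynomial.monic_X_sub_C 1)
      have hrc := natDegree_ge_of_moved hr hE.indep hE0 hf hτ hj hQ (fun v => by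
        rw [map_mul, Module.End.mul_apply, map_sub, Polynomial.aeval_X, Polynomial.aeval_C, map_one,
          LinearMap.sub_apply, Module.End.one_apply, hPf])
      rw [hP.natDegree_mul (Polynomial.monic_X_sub_C 1), Polynomial.natDegree_X_sub_C] at hrc
      have hcr : c ∣ r - 1 := by
        rw [hc]
        refine orderOf_dvd_of_pow_eq_one (ZMod.pow_card_sub_one_eq_one fun h0 => ?_)
        have : orderOf (q : ZMod r) = 0 := by
          rw [h0]
          exact orderOf_eq_zero_iff'.2 fun m hm => by rw [zero_pow hm.ne']; exact zero_ne_one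
        omega
      have hcr' := Nat.le_of_dvd (by have := hr.two_le; omega) hcr
      have hrange := le_range_of_moved hr hE.indep hE0 hE.finrank_eq hf hτ hj
      have hrn := LinearMap.finrank_range_add_finrank_ker (f - 1)
      rw [show LinearMap.ker (f - 1) = fixed f from rfl, hk, finrank_fin_fun] at hrn
      have ha1 : a = 1 := by
        rw [show r - 1 = c by omega] at hrange
        by_contra
        have : 2 * c ≤ a * c := Nat.mul_le_mul_right c (by omega)
        omega
      refine Or.inl ⟨ha1, by omega, by omega, ?_⟩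
      subst ha1
      have hl := lines_le_fixed hrF hD.indep hD.finrank_eq hfM hσ (by rw [hcF]; omega)
      rw [hkM, mul_comm] at hl
      omega
  · intro h x ⟨z, hz⟩ hns
    rw [Matrix.SpecialLinearGroup.coe_pow] at hz
    haveI : Nonempty (Fin n) := ⟨⟨0, by omega⟩⟩
    have hz0 : z ≠ 0 := fun h0 => by
      have h := congrArg Matrix.det hz
      rw [Matrix.det_pow, x.det_coe, one_pow, h0, zero_smul, Matrix.det_zero] at h
      exact one_ne_zero h
    obtain ⟨L, hL⟩ : ∃ L, L = Matrix.toLin' (x : Matrix (Fin n) (Fin n) F) := ⟨_, rfl⟩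
    have hLr : ∀ v, (L ^ r) v = z • v := fun v => by
      rw [hL, ← Matrix.toLin'_pow, hz, map_smul, Matrix.toLin'_one]; rfl
    have hLinj : Function.Injective L := fun v w hvw => by
      obtain ⟨m, rfl⟩ : ∃ m, r = m + 1 := ⟨r - 1, by have := hr.pos; omega⟩
      have e : z • v = z • w := by rw [← hLr, ← hLr, pow_succ, Module.End.mul_apply, Module.End.mul_apply, hvw]
      exact smul_right_injective _ hz0 e
    suffices ∃ (s : F) (f : (Fin n → F) →ₗ[F] (Fin n → F)), s ≠ 0 ∧ L = s • f ∧ Split f a ⊤ t by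
      obtain ⟨s, f, hs, hLf, D, σ, hd, hD, hσ⟩ := this
      obtain ⟨hda, hind⟩ := indep_of_split hd hD (by rw [finrank_fin_fun, hat])
      refine ⟨D, ⟨ht, by omega, hda, hind, hD⟩, σ, fun j => ?_⟩
      rw [← hL, hLf, Submodule.map_smul _ _ _ hs, hσ]
    by_cases hpow : ∃ s : F, s ^ r = z
    · obtain ⟨s, rfl⟩ := hpow
      have hs : s ≠ 0 := fun h0 => hz0 (by rw [h0, zero_pow hr.ne_zero])
      obtain ⟨f, hf⟩ : ∃ f, f = s⁻¹ • L := ⟨_, rfl⟩
      refine ⟨s, f, hs, by rw [hf, smul_smul, mul_inv_cancel₀ hs, one_smul], ?_⟩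
      have hfr : ∀ v, (f ^ r) v = v := fun v => by
        rw [hf, _root_.smul_pow, LinearMap.smul_apply, hLr, smul_smul, inv_pow,
          inv_mul_cancel₀ (pow_ne_zero _ hs), one_smul]
      have hfinj : Function.Injective f := fun v w hvw => hLinj (by
        rw [hf, LinearMap.smul_apply, LinearMap.smul_apply] at hvw
        exact smul_right_injective _ (inv_ne_zero hs) hvw)
      obtain ⟨k, hk⟩ : ∃ k, finrank F (fixed f) = k := ⟨_, rfl⟩
      obtain ⟨d, hd⟩ := (order_spec hrF hfr (X := ⊤) fun _ _ => Submodule.mem_top).1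
      rw [hcF, top_inf_eq, hk, finrank_top, finrank_fin_fun] at hd
      have hkn : k ≤ n := by rw [← hk]; exact (Submodule.finrank_le _).trans (finrank_fin_fun F).le
      have hkmod : k % c = n % c := by
        rw [show n = k + c * d by omega, Nat.add_mul_mod_self_left]
      rcases h with ⟨ha1, hc2, hc3, hc4⟩ | ⟨-, hc4⟩
      · subst ha1
        rw [show t = n by omega]
        refine split_lines hrF hfr hfinj (by rw [hcF]; have := hr.two_le; omega) n ⊤ (fun _ _ => Submodule.mem_top)
          (by rw [finrank_top, finrank_fin_fun]) ?_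
        rw [top_inf_eq, hk, mul_comm]
        exact hc4.trans (Nat.mul_le_mul_right r (hkmod ▸ Nat.mod_le k c))
      · refine split_fixed hrF hfr hfinj hcF.symm hc0 t (k / c) ⊤ (fun _ _ => Submodule.mem_top)
          (by rw [finrank_top, finrank_fin_fun, hat]) ?_
        rw [top_inf_eq, hk, ← hc4, ← hkmod]
        exact (Nat.mod_add_div k c).symm
    · push Not at hpow
      exact ⟨1, L, one_ne_zero, (one_smul F L).symm,
        split_nonpower hr hrF hpow hLr hLinj ha (by rw [finrank_fin_fun, hat])⟩

end Cfsg.Agent.S5958
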