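import Cfsg.Statements.S5959
import Cfsg.Agent.Lib.Classical22.PrimeOrderDecomp
-- import your own Cfsg.Agent.* helpers here

set_option autoImplicit false
open scoped MatrixGroups
open Cfsg

namespace Cfsg.Agent.S5959

open CfsgLib.Classical22.PrimeMaps CfsgLib.Classical22.NilPart

theorem dec_inj {F V : Type*} [Field F] [AddCommGroup V] [Module F V] {t : ℕ} {D : Fin t → Submodule F V}
    (hi : iSupIndep D) (h0 : ∀ j, D j ≠ ⊥) : Function.Injective D := fun i j h => by
  by_contra hne
  have := hi i
  rw [disjoint_iff] at this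
  refine h0 i (eq_bot_iff.2 (le_trans (le_inf le_rfl ?_) this.le))
  exact h ▸ le_iSup₂ (f := fun k (_ : k ≠ i) => D k) j (Ne.symm hne)

theorem free_rank {F V : Type*} [Field F] [AddCommGroup V] [Module F V] [FiniteDimensional F V] {t p : ℕ}
    (hp : p.Prime) {D : Fin t → Submodule F V} (hi : iSupIndep D) (h0 : ∀ j, D j ≠ ⊥) (L : V →ₗ[F] V)
    (hL : L ^ p = 1) (σ : Equiv.Perm (Fin t)) (hσ : ∀ j, (D j).map L = D (σ j)) (j : Fin t) (hj : σ j ≠ j) :
    Module.finrank F (D j) ≤ Module.finrank F (LinearMap.range ((L - 1) ^ (p - 1))) := by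
  have hmapk : ∀ k : ℕ, (D j).map (L ^ k) = D ((σ ^ k) j) := by
    intro k
    induction k with
    | zero => rw [pow_zero, pow_zero]; exact Submodule.map_id (D j)
    | succ k ih =>
      rw [pow_succ', Module.End.mul_eq_comp, Submodule.map_comp, ih, hσ, pow_succ', Equiv.Perm.mul_apply]
  have hper : (σ ^ p) j = j := by
    apply dec_inj hi h0
    rw [← hmapk p, hL]
    exact Submodule.map_id (D j)
  have hne : ∀ i, 0 < i → i < p → (σ ^ i) j ≠ j := by
    intro i hi0 hip hij
    apply hj
    have h1 : Function.IsPeriodicPt σ i j := by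
      rw [Function.IsPeriodicPt, Function.IsFixedPt, ← Equiv.Perm.coe_pow]; exact hij
    have h2 : Function.IsPeriodicPt σ p j := by
      rw [Function.IsPeriodicPt, Function.IsFixedPt, ← Equiv.Perm.coe_pow]; exact hper
    have h3 := h1.gcd h2
    rw [Nat.Coprime.gcd_eq_one ((hp.coprime_iff_not_dvd.2 (Nat.not_dvd_of_pos_of_lt hi0 hip)).symm)] at h3
    exact h3
  obtain ⟨R, hR⟩ : ∃ R, R = ⨆ (i : Fin t) (_ : i ≠ j), D i := ⟨_, rfl⟩
  have key : ∀ v ∈ D j, ∀ k : ℕ, ∀ i : ℕ, i + k < p → (L ^ i) (((L - 1) ^ k) v) - (-1 : F) ^ k • (L ^ i) v ∈ R := by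
    intro v hv k
    induction k with
    | zero => intro i _; simp
    | succ k ih =>
      intro i hik
      have h1 := ih (i + 1) (by omega)
      have h2 := ih i (by omega)
      have h3 : (L ^ (i + 1)) v ∈ R := by
        rw [hR]
        refine le_iSup₂ (f := fun l (_ : l ≠ j) => D l) ((σ ^ (i + 1)) j) (hne _ (by omega) (by omega)) ?_
        rw [← hmapk]
        exact Submodule.mem_map_of_mem hv
      have e : (L ^ i) (((L - 1) ^ (k + 1)) v) =
          (L ^ (i + 1)) (((L - 1) ^ k) v) - (L ^ i) (((L - 1) ^ k) v) := by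
        rw [pow_succ' (L - 1), Module.End.mul_apply, LinearMap.sub_apply, Module.End.one_apply, map_sub,
          pow_succ L i, Module.End.mul_apply]
      rw [e]
      have h4 := R.add_mem (R.sub_mem h1 h2) (R.smul_mem ((-1 : F) ^ k) h3)
      convert h4 using 1
      rw [pow_succ (-1 : F)]
      module
  have hinj : Function.Injective (((L - 1) ^ (p - 1)).rangeRestrict.comp (D j).subtype) := by
    rw [← LinearMap.ker_eq_bot, LinearMap.ker_eq_bot']
    intro v hv
    have hv' : ((L - 1) ^ (p - 1)) (v : V) = 0 := congrArg Subtype.val hv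
    have := key v v.2 (p - 1) 0 (by have := hp.two_le; omega)
    rw [pow_zero, Module.End.one_apply, hv', Module.End.one_apply, zero_sub, Submodule.neg_mem_iff,
      Submodule.smul_mem_iff _ (pow_ne_zero _ (neg_ne_zero.2 one_ne_zero))] at this
    have h2 : (v : V) ∈ D j ⊓ R := ⟨v.2, this⟩
    rw [hR, (hi j).eq_bot] at h2
    exact Subtype.ext h2
  exact LinearMap.finrank_le_finrank_of_injective hinj

/-- Elements of order `p` of PSL_n(q) and imprimitive subgroups: a necessary condition. Here `T = PSL_n(F)` for a field `F` with `q = p^f` elements (`n ≥ 2`, `(n, q) ≠ (2, 2), (2, 3)`), `n = a·t` with `t ≥ 2`, and Ω is the set of direct-sum decompositions of `F^n` into `t` subspaces of dimension `a` (unordered; their number is the number of ordered ones divided by `t!`), whose stabilizers are the imprimitive subgroups of type GL_a(q) ≀ S_t (maximal except in some small cases; maximality is not assumed); an element of `T` of prime order `r` (a matrix `x` of determinant 1 with `x^r` scalar, `x` not scalar)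 fixes a point of Ω when it permutes the summands of some such decomposition. Suppose `p > 2` divides the number of such decompositions. If every element of `T` of order `p` stabilizes such a decomposition, then every partition of `n` into parts of size at most `p` in which the part `p` occurs fewer than `a` times contains (as a sub-multiset) a partition of `a`. -/
theorem result {F : Type*} [Field F] [Fintype F] {p : ℕ} [Fact p.Prime] [CharP F p] {q : ℕ} (hq : Fintype.card F = q)
    (n a t : ℕ) (hn : 2 ≤ n) (hT : (n, q) ≠ (2, 2) ∧ (n, q) ≠ (2, 3)) (hat : n = a * t) (ha : 1 ≤ a) (ht : 2 ≤ t)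
    (hp : 2 < p) (hΩ : p ∣ Nat.card {D : Fin t → Submodule F (Fin n → F) // Cfsg.Geo.IsMDecomposition a D} / Nat.factorial t)
    (h : ∀ x : Matrix.SpecialLinearGroup (Fin n) F,
      (∃ z : F, ((x ^ p : Matrix.SpecialLinearGroup (Fin n) F) : Matrix (Fin n) (Fin n) F) = z • (1 : Matrix (Fin n) (Fin n) F)) →
      (∀ z : F, (x : Matrix (Fin n) (Fin n) F) ≠ z • (1 : Matrix (Fin n) (Fin n) F)) →
      ∃ D : Fin t → Submodule F (Fin n → F), Cfsg.Geo.IsMDecomposition a D ∧
        ∃ σ : Equiv.Perm (Fin t), ∀ j, (D j).map (Matrix.toLin' (x : Matrix (Fin n) (Fin n) F)) = D (σ j)) :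
    (∀ μ : Multiset ℕ, (∀ b ∈ μ, 0 < b ∧ b ≤ p) → μ.sum = n → μ.count p < a → ∃ ν : Multiset ℕ, ν ≤ μ ∧ ν.sum = a) := by
  classical
  have hpp : p.Prime := Fact.out
  intro μ hμ hsum hcount
  obtain ⟨A, N, hA, hdet, hlin, hNp, hrank, hns⟩ := exists_unipotent (F := F) (p := p) (n := n) (by omega) hμ hsum
  rcases hns with hall | hns
  · refine ⟨Multiset.replicate a 1, ?_, by simp⟩
    rw [Multiset.eq_replicate_card.2 hall]
    refine (Multiset.replicate_le_replicate 1).2 ?_
    have := hsum
    rw [Multiset.eq_replicate_card.2 hall, Multiset.sum_replicate, smul_eq_mul, mul_one] at this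
    nlinarith
  obtain ⟨x, hx⟩ : ∃ x : Matrix.SpecialLinearGroup (Fin n) F, (x : Matrix (Fin n) (Fin n) F) = A := ⟨⟨A, hdet⟩, rfl⟩
  obtain ⟨D, hD, σ, hσ⟩ := h x ⟨1, by rw [Matrix.SpecialLinearGroup.coe_pow, hx, one_smul]; exact hA⟩
    (by rw [hx]; exact hns)
  rw [hx] at hσ
  have h0 : ∀ j, D j ≠ ⊥ := fun j hj => by
    have := hD.finrank_eq j
    rw [hj, finrank_bot] at this
    omega
  by_cases hfix : ∃ j, σ j = j
  · obtain ⟨j, hj⟩ := hfix
    have hInv : ∀ X : Submodule F (Fin n → F), X.map (Matrix.toLin' A) ≤ X → Inv N X := by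
      intro X hX w hw
      have h1 := (inv_iff_map A X).1 hX w hw
      rw [hlin, LinearMap.add_apply, Module.End.one_apply, X.add_mem_iff_right hw] at h1
      exact h1
    have hU : (D j).map (Matrix.toLin' A) ≤ D j := by rw [hσ j, hj]
    have hW : (⨆ (i : Fin t) (_ : i ≠ j), D i).map (Matrix.toLin' A) ≤ ⨆ (i : Fin t) (_ : i ≠ j), D i := by
      simp only [Submodule.map_iSup, hσ]
      refine iSup₂_le fun i hi => ?_
      exact le_iSup₂ (f := fun l (_ : l ≠ j) => D l) (σ i) (fun he => hi (σ.injective (he.trans hj.symm)))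
    have hc : IsCompl (D j) (⨆ (i : Fin t) (_ : i ≠ j), D i) := by
      refine ⟨hD.indep j, codisjoint_iff.2 (top_le_iff.1 ?_)⟩
      rw [← hD.iSup_eq_top]
      refine iSup_le fun i => ?_
      by_cases hi : i = j
      · subst hi; exact le_sup_left
      · exact le_sup_of_le_right (le_iSup₂ (f := fun l (_ : l ≠ j) => D l) i hi)
    obtain ⟨ν, hν, hνs⟩ := split_partition hNp (fun b hb => (hμ b hb).1) hrank (hInv _ hU) (hInv _ hW) hc
    exact ⟨ν, hν, hνs.trans (hD.finrank_eq j)⟩
  · exfalso
    push_neg at hfix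
    have hL : Matrix.toLin' A ^ p = 1 := by rw [← Matrix.toLin'_pow, hA, Matrix.toLin'_one]; rfl
    have h1 := free_rank hpp hD.indep h0 (Matrix.toLin' A) hL σ hσ ⟨0, by omega⟩ (hfix _)
    rw [hlin, add_sub_cancel_left, hD.finrank_eq, hrank] at h1
    have h2 := prank_count (μ := μ) (a := p) hpp.pos
    have hz : ∀ k, p ≤ k → prank μ k = 0 := fun k hk => Multiset.sum_eq_zero fun y hy => by
      obtain ⟨b, hb, rfl⟩ := Multiset.mem_map.1 hy
      have := (hμ b hb).2
      omega
    rw [hz p le_rfl, hz (p + 1) (by omega)] at h2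
    omega

end Cfsg.Agent.S5959
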