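import Cfsg.Statements.S5961
import Cfsg.Agent.Lib.Classical22.PrimeOrderSympWreath
import Cfsg.Agent.Lib.Classical22.PrimeOrderSubspaces
-- import your own Cfsg.Agent.* helpers here

set_option autoImplicit false
open scoped MatrixGroups
open Cfsg

namespace Cfsg.Agent.S5961

/-- Elements of odd prime order of PSp_n(q) and imprimitive subgroups. Here `T = PSp_n(q)`, `n = 2d ≥ 4`, `(n, q) ≠ (4, 2)`, realised through the symplectic matrices over the field `F` with `q` elements and the standard alternating form; `n = a·t` with `a` even and `t ≥ 2`, and Ω is the (nonempty) set of orthogonal decompositions of `F^n` into `t` nondegenerate subspaces of dimension `a` (unordered; counted as ordered ones divided by `t!`), whose stabilizers are the imprimitive subgroups of type Sp_a(q) ≀ S_t (maximality is not assumed); an element of `T` of prime order `r` (a symplectic matrix `x` with `x^r` scalar, `x` not scalar) fixes a point of Ω when it permutes the summands of some such decomposition.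 Let `r ≠ p` be an odd prime dividing the number of such decompositions, let `i` be the multiplicative order of `q` modulo `r`, `c = i` if `i` is even and `c = 2i` if `i` is odd, and write `k = n mod c`, `ℓ = a mod c`. Then every element of `T` of order `r` stabilizes such a decomposition if and only if `c ≤ a` and `k = t·ℓ`. -/
theorem result {F : Type*} [Field F] [Fintype F] {p : ℕ} [Fact p.Prime] [CharP F p] {q : ℕ} (hq : Fintype.card F = q)
    (d : ℕ) (hd : 2 ≤ d) (hT : (d, q) ≠ (2, 2))
    (a t : ℕ) (hat : 2 * d = a * t) (ha : 2 ≤ a) (hae : Even a) (ht : 2 ≤ t)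
    (r : ℕ) [Fact r.Prime] (hr2 : r ≠ 2) (hrp : r ≠ p) (hΩ : r ∣ Nat.card {D : Fin t → Submodule F (Fin d ⊕ Fin d → F) // (Cfsg.Geo.IsMDecomposition a D ∧ (∀ j, ∀ u ∈ D j, u ≠ 0 → ∃ v ∈ D j, Cfsg.sympForm d F u v ≠ 0) ∧
          (∀ j j', j ≠ j' → ∀ u ∈ D j, ∀ v ∈ D j', Cfsg.sympForm d F u v = 0))} / Nat.factorial t)
    (i c : ℕ) (hi : i = orderOf (q : ZMod r)) (hc : c = if Even i then i else 2 * i) :
    (∀ x : ↥(Matrix.symplecticGroup (Fin d) F),
      (∃ z : F, ((x ^ r : ↥(Matrix.symplecticGroup (Fin d) F)) : Matrix (Fin d ⊕ Fin d) (Fin d ⊕ Fin d) F) = z • (1 : Matrix (Fin d ⊕ Fin d) (Fin d ⊕ Fin d) F)) →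
      (∀ z : F, (x : Matrix (Fin d ⊕ Fin d) (Fin d ⊕ Fin d) F) ≠ z • (1 : Matrix (Fin d ⊕ Fin d) (Fin d ⊕ Fin d) F)) →
      ∃ D : Fin t → Submodule F (Fin d ⊕ Fin d → F), (Cfsg.Geo.IsMDecomposition a D ∧ (∀ j, ∀ u ∈ D j, u ≠ 0 → ∃ v ∈ D j, Cfsg.sympForm d F u v ≠ 0) ∧
          (∀ j j', j ≠ j' → ∀ u ∈ D j, ∀ v ∈ D j', Cfsg.sympForm d F u v = 0)) ∧
        ∃ σ : Equiv.Perm (Fin t), ∀ j, (D j).map (Matrix.toLin' (x : Matrix (Fin d ⊕ Fin d) (Fin d ⊕ Fin d) F)) = D (σ j)) ↔
    (c ≤ a ∧ (2 * d) % c = t * (a % c)) := by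
  classical
  open CfsgLib.Classical22.PrimeMaps CfsgLib.Classical22.PrimeMaps.Wreath CfsgLib.Classical22.PrimeMaps.Symp Module CfsgLib.Classical in
  have hr : r.Prime := Fact.out
  have hrF : (r : F) ≠ 0 := natCast_ne_zero_of_ne (p := p) hrp
  obtain ⟨hi0, -⟩ := order_facts (F := F) (p := p) (r := r) hq hrp
  rw [← hi] at hi0
  have hiF : i = orderOf (Fintype.card F : ZMod r) := by rw [hq, hi]
  have hcb : c = blockDim i := hc
  have hc0 : 0 < c := hcb ▸ blockDim_pos hi0
  have hne : Nat.card {D : Fin t → Submodule F (Fin d ⊕ Fin d → F) // IsSympDecomp d a D} ≠ 0 := by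
    have h1 : fixed (1 : (Fin d ⊕ Fin d → F) →ₗ[F] (Fin d ⊕ Fin d → F)) = ⊤ := eq_top_iff.2 fun v _ => mem_fixed.2 rfl
    obtain ⟨D, hD, ho, hs⟩ := split_symp (B := spBilin d F) (f := 1) (r := r) hr2 spBilin_isAlt hrF
      (fun v => by rw [one_pow]; rfl) (fun u v => rfl) hiF hi0 hae t (t * (a / c)) ⊤ (fun _ _ => Submodule.mem_top) nd_top
      (by rw [finrank_top, finrank_std, hat]) (by
        rw [h1, top_inf_eq, finrank_top, finrank_std, hat, ← hcb]
        conv_lhs => rw [← Nat.div_add_mod a c]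
        ring)
    exact Nat.card_ne_zero.2 ⟨⟨⟨D, isSympDecomp_of_blocks (by omega) ht (fun j => (hD j).1) (fun j => (hD j).2.2) ho hs⟩⟩,
      inferInstance⟩
  have hcn : c ≤ 2 * d := by
    rw [hcb, hiF]
    exact (blockDim_le hrF (hΩ.trans (unordered_dvd hne))).1
  have hmlt := Nat.mod_lt (2 * d) hc0
  have hnc := Nat.div_add_mod (2 * d) c
  haveI : Nonempty (Fin d ⊕ Fin d) := ⟨Sum.inl ⟨0, by omega⟩⟩
  constructor
  · intro h
    have happly : ∀ f : (Fin d ⊕ Fin d → F) →ₗ[F] (Fin d ⊕ Fin d → F), (∀ v, (f ^ r) v = v) →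
        (∀ u v, spBilin d F (f u) (f v) = spBilin d F u v) → finrank F (fixed f) < 2 * d →
        ∃ (D : Fin t → Submodule F (Fin d ⊕ Fin d → F)) (σ : Equiv.Perm (Fin t)), IsSympDecomp d a D ∧
          ∀ j, (D j).map f = D (σ j) := by
      intro f hf hB hlt
      obtain ⟨x, hx⟩ := spMk_exists f hB
      have hxf : Matrix.toLin' (x : Matrix (Fin d ⊕ Fin d) (Fin d ⊕ Fin d) F) = f :=
        LinearMap.ext fun v => by rw [Matrix.toLin'_apply, hx]
      obtain ⟨D, hD, σ, hσ⟩ := h x ⟨1, by
        rw [one_smul, SubmonoidClass.coe_pow]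
        refine Matrix.toLin'.injective ?_
        rw [Matrix.toLin'_pow, hxf, Matrix.toLin'_one]
        exact LinearMap.ext hf⟩ (fun z hz => by
        rw [hz, map_smul, Matrix.toLin'_one] at hxf
        have hzr : z ^ r = 1 := by
          obtain ⟨v, hv⟩ := exists_ne (0 : Fin d ⊕ Fin d → F)
          have h1 := hf v
          rw [← hxf, _root_.smul_pow, ← Module.End.one_eq_id, one_pow] at h1
          exact smul_left_injective F hv (h1.trans (one_smul F v).symm)
        obtain ⟨v, w, hvw⟩ : ∃ v w, spBilin d F v w ≠ 0 := by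
          obtain ⟨v, hv⟩ := exists_ne (0 : Fin d ⊕ Fin d → F)
          by_contra hcon
          push Not at hcon
          exact hv (sympForm_nondeg (hcon v))
        have h2 := hB v w
        rw [← hxf, LinearMap.smul_apply, LinearMap.smul_apply, map_smul, map_smul, LinearMap.smul_apply, smul_eq_mul,
          smul_eq_mul, ← mul_assoc, LinearMap.id_apply, LinearMap.id_apply] at h2
        have hz2 : z * z = 1 := mul_right_cancel₀ hvw (h2.trans (one_mul _).symm)
        obtain ⟨k, hk⟩ := hr.odd_of_ne_two hr2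
        have hz1 : z = 1 := by
          rw [hk, pow_succ, pow_mul, sq, hz2, one_pow, one_mul] at hzr
          exact hzr
        have htop : fixed f = ⊤ := eq_top_iff.2 fun v _ => mem_fixed.2 (by rw [← hxf, hz1, one_smul]; rfl)
        rw [htop, finrank_top, finrank_std] at hlt
        omega)
      rw [hxf] at hσ
      exact ⟨D, σ, hD, hσ⟩
    have h0 : ∀ {D : Fin t → Submodule F (Fin d ⊕ Fin d → F)}, IsSympDecomp d a D → ∀ j, D j ≠ ⊥ := by
      intro D hD j hj
      have := hD.1.finrank_eq j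
      rw [hj, finrank_bot] at this
      omega
    obtain ⟨fM, hfM, hBM, hkM, -⟩ := exists_element (d := d) (r := r) hrF (hiF ▸ hi0) (l := 2 * d / c)
      (by rw [← hiF, ← hcb]; exact Nat.mul_div_le _ c)
    rw [← hiF, ← hcb] at hkM
    obtain ⟨D, σ, hD, hσ⟩ := happly fM hfM hBM (by
      have : c * 1 ≤ c * (2 * d / c) := Nat.mul_le_mul_left c (Nat.div_pos hcn hc0)
      omega)
    by_cases hac : c ≤ a
    · refine ⟨hac, ?_⟩
      have hall : ∀ j, σ j = j := fun j => by
        by_contra hj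
        have := le_fixed_of_moved hr hD.1.indep (h0 hD) hD.1.finrank_eq hfM hσ hj
        omega
      obtain ⟨hle, -⟩ := blocks_fixed hrF hfM hBM hD hσ hall
      rw [← hiF, ← hcb] at hle
      have hmod : (2 * d) % c = (t * (a % c)) % c := by rw [hat, Nat.mul_mod_mod, mul_comm]
      rw [hmod, Nat.mod_eq_of_lt (by omega)]
    · exfalso
      obtain ⟨f, hf, hB, hk, Q, hQ, hQd, hQf⟩ := exists_element (d := d) (r := r) hrF (hiF ▸ hi0) (l := 1)
        (by rw [← hiF, ← hcb, mul_one]; exact hcn)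
      rw [← hiF, ← hcb, mul_one] at hk
      rw [← hiF, ← hcb] at hQd
      obtain ⟨E, τ, hE, hτ⟩ := happly f hf hB (by omega)
      obtain ⟨j, hj⟩ : ∃ j, τ j ≠ j := by
        by_contra hall
        push Not at hall
        have h1 := (blocks_fixed hrF hf hB hE hτ hall).2 (by rw [← hiF, ← hcb]; omega)
        rw [h1, finrank_top, finrank_std] at hk
        omega
      have hrc := natDegree_ge_of_moved hr hE.1.indep (h0 hE) hf hτ hj hQ hQf
      have hcr : c ∣ r - 1 := by
        rw [hcb]
        refine blockDim_dvd ?_ ?_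
        · rw [hi]
          refine orderOf_dvd_of_pow_eq_one (ZMod.pow_card_sub_one_eq_one fun h0 => ?_)
          have : orderOf (q : ZMod r) = 0 := by
            rw [h0]
            exact orderOf_eq_zero_iff'.2 fun m hm => by rw [zero_pow hm.ne']; exact zero_ne_one
          omega
        · obtain ⟨k, hk⟩ := hr.odd_of_ne_two hr2
          exact ⟨k, by omega⟩
      have hcr' := Nat.le_of_dvd (by have := hr.two_le; omega) hcr
      have hrange := le_range_of_moved hr hE.1.indep (h0 hE) hE.1.finrank_eq hf hτ hj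
      have hrn := LinearMap.finrank_range_add_finrank_ker (f - 1)
      rw [show LinearMap.ker (f - 1) = fixed f from rfl, hk, finrank_std] at hrn
      rw [show r - 1 = c by omega] at hrange
      have : 2 * c ≤ a * c := Nat.mul_le_mul_right c ha
      omega
  · rintro ⟨-, hkl⟩ x ⟨z, hz⟩ -
    rw [SubmonoidClass.coe_pow] at hz
    obtain ⟨L, hL⟩ : ∃ L, L = Matrix.toLin' (x : Matrix (Fin d ⊕ Fin d) (Fin d ⊕ Fin d) F) := ⟨_, rfl⟩
    have hLr : ∀ v, (L ^ r) v = z • v := fun v => by
      rw [hL, ← Matrix.toLin'_pow, hz, map_smul, Matrix.toLin'_one]; rfl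
    have hLB : ∀ u v, spBilin d F (L u) (L v) = spBilin d F u v := fun u v => by rw [hL]; exact form_sp x u v
    have hz2 : z * z = 1 := by
      obtain ⟨v, hv⟩ := exists_ne (0 : Fin d ⊕ Fin d → F)
      obtain ⟨w, hw⟩ : ∃ w, spBilin d F v w ≠ 0 := by
        by_contra hcon
        push Not at hcon
        exact hv (sympForm_nondeg hcon)
      have h2 := form_pow (B := spBilin d F) hLB r v w
      rw [hLr, hLr, map_smul, map_smul, LinearMap.smul_apply, smul_eq_mul, smul_eq_mul, ← mul_assoc] at h2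
      exact mul_right_cancel₀ hw (h2.trans (one_mul _).symm)
    have hz0 : z ≠ 0 := fun h => by rw [h, mul_zero] at hz2; exact zero_ne_one hz2
    obtain ⟨f, hf⟩ : ∃ f, f = z • L := ⟨_, rfl⟩
    have hfr : ∀ v, (f ^ r) v = v := fun v => by
      obtain ⟨k, hk⟩ := hr.odd_of_ne_two hr2
      rw [hf, _root_.smul_pow, LinearMap.smul_apply, hLr, smul_smul, ← pow_succ, hk, pow_succ, pow_succ, mul_assoc,
        hz2, mul_one, pow_mul, sq, hz2, one_pow, one_smul]
    have hfB : ∀ u v, spBilin d F (f u) (f v) = spBilin d F u v := fun u v => by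
      rw [hf, LinearMap.smul_apply, LinearMap.smul_apply, map_smul, map_smul, LinearMap.smul_apply, hLB, smul_eq_mul,
        smul_eq_mul, ← mul_assoc, hz2, one_mul]
    obtain ⟨k, hk⟩ : ∃ k, finrank F (fixed f) = k := ⟨_, rfl⟩
    obtain ⟨s, hs⟩ := dvd_sub_fixed spBilin_isAlt hrF hfr hfB (X := ⊤) (fun _ _ => Submodule.mem_top) nd_top
    rw [top_inf_eq, hk, finrank_top, finrank_std, ← hiF, ← hcb] at hs
    have hkn : k ≤ 2 * d := by rw [← hk, ← finrank_std (F := F)]; exact Submodule.finrank_le _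
    have hkmod : k % c = (2 * d) % c := by
      rw [show 2 * d = k + c * s by omega, Nat.add_mul_mod_self_left]
    obtain ⟨D, hD, ho, hsup⟩ := split_symp (B := spBilin d F) hr2 spBilin_isAlt hrF hfr hfB hiF hi0 hae t (k / c) ⊤
      (fun _ _ => Submodule.mem_top) nd_top (by rw [finrank_top, finrank_std, hat]) (by
        rw [top_inf_eq, hk, ← hcb, ← hkl, ← hkmod]
        exact (Nat.mod_add_div k c).symm)
    refine ⟨D, isSympDecomp_of_blocks (by omega) ht (fun j => (hD j).1) (fun j => (hD j).2.2) ho hsup, 1, fun j => ?_⟩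
    rw [← hL, Equiv.Perm.one_apply, ← Submodule.map_smul L (D j) z hz0, ← hf]
    have hinj : Function.Injective f := fun u v huv => by
      rw [← hfr u, ← hfr v, ← Nat.sub_add_cancel hr.one_le, pow_succ f, Module.End.mul_apply, Module.End.mul_apply, huv]
    exact Submodule.eq_of_le_of_finrank_eq (Submodule.map_le_iff_le_comap.2 (hD j).2.1)
      ((Submodule.equivMapOfInjective f hinj (D j)).finrank_eq.symm)

end Cfsg.Agent.S5961
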