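import Cfsg.Statements.S5970
import Cfsg.Agent.Lib.Classical22.SingerOrderConj
-- import your own Cfsg.Agent.* helpers here

set_option autoImplicit false
open scoped MatrixGroups
open Cfsg

namespace Cfsg.Agent.S5970

open Polynomial Matrix CfsgLib.Classical22.PrimeMaps CfsgLib.Classical22.SingerOrder

theorem aeval_blocks {F : Type*} [Field F] {a b : Type*} [Fintype a] [Fintype b] [DecidableEq a] [DecidableEq b]
    (M : Matrix a a F) (N : Matrix b b F) (g : F[X]) :
    aeval (Matrix.fromBlocks M 0 0 N) g = Matrix.fromBlocks (aeval M g) 0 0 (aeval N g) := by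
  induction g using Polynomial.induction_on' with
  | add p q hp hq => simp [hp, hq, Matrix.fromBlocks_add]
  | monomial k c =>
    simp [aeval_monomial, ← Algebra.smul_def, Matrix.fromBlocks_diagonal_pow, Matrix.fromBlocks_smul]

theorem witness_split {F : Type*} [Field F] {n : ℕ} (hn : 5 ≤ n) {ω : F} (hωn : ω ^ n = 1) (hω : ω ≠ 1) :
    ∃ A : Matrix (Fin n) (Fin n) F, A ^ n = 1 ∧ A.det = 1 ∧ (∀ z : F, A ≠ z • 1) ∧
      (∃ v : Fin n → F, v ≠ 0 ∧ A *ᵥ v = (1 : F) • v) ∧ ∃ P : F[X], P ≠ 0 ∧ P.natDegree < n ∧ aeval A P = 0 := by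
  classical
  have hω0 : ω ≠ 0 := fun h => by rw [h, zero_pow (by omega)] at hωn; exact zero_ne_one hωn
  obtain ⟨i₀, hi₀⟩ : ∃ i : Fin n, i.val = 0 := ⟨⟨0, by omega⟩, rfl⟩
  obtain ⟨i₁, hi₁⟩ : ∃ i : Fin n, i.val = 1 := ⟨⟨1, by omega⟩, rfl⟩
  obtain ⟨i₂, hi₂⟩ : ∃ i : Fin n, i.val = 2 := ⟨⟨2, by omega⟩, rfl⟩
  have h01 : i₁ ≠ i₀ := fun h => by rw [h] at hi₁; omega
  have h20 : i₂ ≠ i₀ := fun h => by rw [h] at hi₂; omega
  have h21 : i₂ ≠ i₁ := fun h => by rw [h] at hi₂; omega
  obtain ⟨d, hd⟩ : ∃ d : Fin n → F, ∀ j, d j = if j = i₀ then ω else if j = i₁ then ω⁻¹ else 1 := ⟨_, fun j => rfl⟩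
  refine ⟨Matrix.diagonal d, ?_, ?_, ?_, ⟨Pi.single i₂ 1, ?_, ?_⟩,
    (X - C 1) * ((X - C ω) * (X - C ω⁻¹)), ?_, ?_, ?_⟩
  · rw [Matrix.diagonal_pow, Matrix.diagonal_eq_one]
    funext j
    rw [Pi.pow_apply, hd]
    split_ifs <;> simp [hωn, inv_pow]
  · rw [Matrix.det_diagonal, Finset.prod_eq_mul i₀ i₁ h01.symm (fun c _ hc => by rw [hd, if_neg hc.1, if_neg hc.2])
      (fun h => absurd (Finset.mem_univ _) h) (fun h => absurd (Finset.mem_univ _) h), hd, hd, if_pos rfl,
      if_neg h01, if_pos rfl, mul_inv_cancel₀ hω0]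
  · intro z hz
    have e0 := congrFun (congrFun hz i₀) i₀
    have e2 := congrFun (congrFun hz i₂) i₂
    simp [hd, h20, h21] at e0 e2
    exact hω (e0.trans e2.symm)
  · simp
  · rw [one_smul]
    funext j
    rw [Matrix.mulVec_diagonal, hd]
    by_cases hj : j = i₂
    · subst hj; simp [h20, h21]
    · simp [hj]
  · exact mul_ne_zero (X_sub_C_ne_zero _) (mul_ne_zero (X_sub_C_ne_zero _) (X_sub_C_ne_zero _))
  · refine lt_of_le_of_lt natDegree_mul_le (lt_of_le_of_lt (add_le_add le_rfl natDegree_mul_le) ?_)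
    rw [natDegree_X_sub_C, natDegree_X_sub_C, natDegree_X_sub_C]
    omega
  · rw [map_mul, map_mul, map_sub, map_sub, map_sub, aeval_X, aeval_C, aeval_C, aeval_C, Matrix.algebraMap_eq_diagonal,
      Matrix.algebraMap_eq_diagonal, Matrix.algebraMap_eq_diagonal, Matrix.diagonal_sub, Matrix.diagonal_sub,
      Matrix.diagonal_sub, Matrix.diagonal_mul_diagonal, Matrix.diagonal_mul_diagonal, Matrix.diagonal_eq_zero]
    funext j
    simp only [Pi.zero_apply, Algebra.algebraMap_self, RingHom.id_apply, Pi.algebraMap_apply, hd]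
    split_ifs <;> simp

theorem witness_block {F : Type*} [Field F] [Fintype F] {n : ℕ} [hn : Fact n.Prime] (hnF : (n : F) ≠ 0)
    (h2 : 2 ≤ orderOf (Fintype.card F : ZMod n)) (hlt : orderOf (Fintype.card F : ZMod n) + 1 < n) :
    ∃ A : Matrix (Fin n) (Fin n) F, A ^ n = 1 ∧ A.det = 1 ∧ (∀ z : F, A ≠ z • 1) ∧
      (∃ v : Fin n → F, v ≠ 0 ∧ A *ᵥ v = (1 : F) • v) ∧ ∃ P : F[X], P ≠ 0 ∧ P.natDegree < n ∧ aeval A P = 0 := by
  classical
  obtain ⟨i, hi⟩ : ∃ i, i = orderOf (Fintype.card F : ZMod n) := ⟨_, rfl⟩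
  obtain ⟨M, hMn, hMd, hMns, -⟩ := exists_order_matrix (n := i) hnF h2 hi.ge
  rw [← hi] at h2 hlt
  let e : Fin i ⊕ Fin (n - i) ≃ Fin n := finSumFinEquiv.trans (finCongr (by omega))
  obtain ⟨A, hA⟩ : ∃ A : Matrix (Fin n) (Fin n) F, A = Matrix.reindexAlgEquiv F F e (Matrix.fromBlocks M 0 0 1) :=
    ⟨_, rfl⟩
  refine ⟨A, ?_, ?_, ?_, ?_, (X - C 1) * M.charpoly, ?_, ?_, ?_⟩
  · rw [hA, ← map_pow, Matrix.fromBlocks_diagonal_pow, hMn, one_pow, Matrix.fromBlocks_one, map_one]
  · rw [hA, Matrix.reindexAlgEquiv_apply, Matrix.det_reindex_self, Matrix.det_fromBlocks_zero₂₁, hMd, Matrix.det_one, one_mul]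
  · intro z hz
    refine hMns z (Matrix.ext fun a b => ?_)
    have h := congrFun (congrFun hz (e (.inl a))) (e (.inl b))
    rw [hA] at h
    simpa [Matrix.one_apply] using h
  · have h0 : (A - 1).det = 0 := by
      rw [hA, ← map_one (Matrix.reindexAlgEquiv F F e), ← map_sub, Matrix.reindexAlgEquiv_apply,
        Matrix.det_reindex_self, ← Matrix.fromBlocks_one, sub_eq_add_neg, Matrix.fromBlocks_neg, Matrix.fromBlocks_add,
        ]
      simp only [neg_zero, add_zero, add_neg_cancel]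
      haveI : Nonempty (Fin (n - i)) := ⟨⟨0, by omega⟩⟩
      rw [Matrix.det_fromBlocks_zero₂₁, Matrix.det_zero, mul_zero]
    obtain ⟨v, hv, hAv⟩ := Matrix.exists_mulVec_eq_zero_iff.2 h0
    exact ⟨v, hv, by rw [one_smul, ← sub_eq_zero, ← hAv, Matrix.sub_mulVec, Matrix.one_mulVec]⟩
  · exact mul_ne_zero (X_sub_C_ne_zero _) M.charpoly_monic.ne_zero
  · refine lt_of_le_of_lt natDegree_mul_le ?_
    rw [natDegree_X_sub_C, Matrix.charpoly_natDegree_eq_dim, Fintype.card_fin]
    omega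
  · rw [hA, aeval_algHom_apply, aeval_blocks, map_mul, map_mul, Matrix.aeval_self_charpoly, mul_zero, map_sub,
      aeval_X, aeval_C, map_one]
    simp

/-- Elements of order `n` of PSL_n(q), `n` prime, and the normalizer of a Singer cycle. Here `T = PSL_n(F)` for a field `F` with `q = p^f` elements (`n ≥ 2`, `(n, q) ≠ (2, 2), (2, 3)`), `k` is a prime dividing `n`, `K` is a subalgebra of the `n × n` matrices that is a field of degree `k` over `F` (an extension-field structure F_{q^k} on `F^n`), and `H` is the subgroup of matrices of determinant 1 normalizing `K` — a subgroup of type GL_{n/k}(q^k) (maximal except in some small cases; maximality is not assumed); Ω is the set of cosets of `H` in `T`, so an element of `T` of prime order `r` (a matrix `x` of determinant 1 with `x^r` scalar, `x` not scalar) fixes a point of Ω when some conjugate of `x` by a matrix of determinant 1 normalizes `K`. Take `k = n > 3` prime with `n ≠ p` (so `H` is the normalizer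 of a Singer cycle), and suppose `n` divides the index of `H`. Then every element of `T` of order `n` is conjugate in `T` into `H` if and only if the multiplicative order of `q` modulo `n` is `n − 1`. -/
theorem result {F : Type*} [Field F] [Fintype F] {p : ℕ} [Fact p.Prime] [CharP F p] {q : ℕ} (hq : Fintype.card F = q)
    (n : ℕ) (hn : 2 ≤ n) (hT : (n, q) ≠ (2, 2) ∧ (n, q) ≠ (2, 3))
    (k : ℕ) (hk : k.Prime) (hkn : k ∣ n) (K : Subalgebra F (Matrix (Fin n) (Fin n) F)) (hK : Cfsg.Geo.IsFieldSubalgebra k K) (hkn' : k = n) (hn3 : 3 < n) (hnp : n ≠ p) (hΩ : n ∣ ((Cfsg.Geo.subalgebraNormalizer K).comap (Matrix.SpecialLinearGroup.toGL : Matrix.SpecialLinearGroup (Fin n) F →* GL (Fin n) F)).index) :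
    (∀ x : Matrix.SpecialLinearGroup (Fin n) F,
      (∃ z : F, ((x ^ n : Matrix.SpecialLinearGroup (Fin n) F) : Matrix (Fin n) (Fin n) F) = z • (1 : Matrix (Fin n) (Fin n) F)) →
      (∀ z : F, (x : Matrix (Fin n) (Fin n) F) ≠ z • (1 : Matrix (Fin n) (Fin n) F)) →
      ∃ P : Matrix.SpecialLinearGroup (Fin n) F, P⁻¹ * x * P ∈ ((Cfsg.Geo.subalgebraNormalizer K).comap (Matrix.SpecialLinearGroup.toGL : Matrix.SpecialLinearGroup (Fin n) F →* GL (Fin n) F))) ↔
    orderOf (q : ZMod n) = n - 1 := by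
  subst k
  subst q
  haveI hnf : Fact n.Prime := ⟨hk⟩
  have hn5 : 5 ≤ n := by
    by_contra hc
    have : n = 4 := by omega
    subst this
    exact absurd hk (by norm_num)
  have hnF : (n : F) ≠ 0 := natCast_ne_zero_of_ne (p := p) hnp
  obtain ⟨hi0, hi1⟩ := order_facts (F := F) (p := p) (r := n) (q := Fintype.card F) rfl hnp
  constructor
  · intro h
    by_contra hi
    obtain ⟨A, hAn, hAd, hAs, ⟨v, hv, hAv⟩, P, hP0, hP, hPA⟩ :
      ∃ A : Matrix (Fin n) (Fin n) F, A ^ n = 1 ∧ A.det = 1 ∧ (∀ z : F, A ≠ z • 1) ∧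
        (∃ v : Fin n → F, v ≠ 0 ∧ A *ᵥ v = (1 : F) • v) ∧ ∃ P : F[X], P ≠ 0 ∧ P.natDegree < n ∧ aeval A P = 0 := by
      rcases Nat.lt_or_ge (orderOf (Fintype.card F : ZMod n)) 2 with h2 | h2
      · obtain ⟨ω, hω⟩ := exists_prime_orderOf_dvd_card' (G := Fˣ) n (by
          rw [Nat.card_units, Nat.card_eq_fintype_card]; exact hi1.1 (by omega))
        refine witness_split hn5 (ω := (ω : F)) ?_ fun h1 => ?_
        · rw [← Units.val_pow_eq_pow_val, ← hω, pow_orderOf_eq_one, Units.val_one]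
        · rw [show ω = 1 from Units.ext h1, orderOf_one] at hω
          exact hk.ne_one hω.symm
      · refine witness_block hnF h2 ?_
        have := Nat.le_of_dvd (by omega) (ZMod.orderOf_dvd_card_sub_one (a := (Fintype.card F : ZMod n)) fun h0 => by
          rw [h0, orderOf_zero] at hi0; omega)
        omega
    refine derangement hk hK ⟨A, hAd⟩ hAs hv hAv hP0 hP hPA (h ⟨A, hAd⟩ ⟨1, ?_⟩ hAs)
    rw [one_smul]
    exact hAn
  · intro hi x ⟨z, hz⟩ hns
    have hnd : ¬ n ∣ Fintype.card F - 1 := fun h => by have := hi1.2 h; omega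
    rw [Matrix.SpecialLinearGroup.coe_pow] at hz
    have hz1 : z = 1 := by
      have hd : z ^ n = 1 := by
        have h := congrArg Matrix.det hz
        rwa [Matrix.det_pow, x.det_coe, one_pow, Matrix.det_smul, Matrix.det_one, mul_one, Fintype.card_fin, eq_comm] at h
      by_contra hz1
      refine hnd ((orderOf_eq_prime hd hz1) ▸ orderOf_dvd_of_pow_eq_one (FiniteField.pow_card_sub_one_eq_one z ?_))
      intro h0
      rw [h0, zero_pow hk.ne_zero] at hd
      exact zero_ne_one hd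
    obtain ⟨y, hy, hyn, hyno⟩ := exists_frob hk hK
    refine conj_into hk.pos (c := 1) (separable_X_pow_sub_C (1 : F) hnF one_ne_zero).squarefree x
      (by rw [hz, hz1]) ?_ y hy hyn hyno (det_surj_of_coprime hk hK hnd)
    refine order_noAnn hk (by omega) hnF hi (by rw [hz, hz1, one_smul]) fun h1 => hns 1 (by rw [one_smul]; exact h1)

end Cfsg.Agent.S5970
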