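import Cfsg.Statements.S5971
import Cfsg.Agent.Lib.Classical22.SingerOrderConj
import Cfsg.Agent.Lib.Classical.GLOrder
-- import your own Cfsg.Agent.* helpers here

set_option autoImplicit false
open scoped MatrixGroups
open Cfsg

namespace Cfsg.Agent.S5971

open Polynomial Matrix CfsgLib.Classical22.PrimeMaps CfsgLib.Classical22.SingerOrder

variable {F : Type*} [Field F]

theorem transvection_case {K : Subalgebra F (Matrix (Fin 3) (Fin 3) F)} [Finite F]
    (hK : Cfsg.Geo.IsFieldSubalgebra 3 K) (h3 : (3 : F) = 0) :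
    ∃ x : SpecialLinearGroup (Fin 3) F, (∃ z : F, ((x ^ 3 : SpecialLinearGroup (Fin 3) F) : Matrix (Fin 3) (Fin 3) F) = z • 1) ∧
      (∀ z : F, (x : Matrix (Fin 3) (Fin 3) F) ≠ z • 1) ∧
      ¬ ∃ Q : SpecialLinearGroup (Fin 3) F, Q⁻¹ * x * Q ∈
        (Cfsg.Geo.subalgebraNormalizer K).comap (SpecialLinearGroup.toGL : SpecialLinearGroup (Fin 3) F →* GL (Fin 3) F) := by
  obtain ⟨N, hN⟩ : ∃ N : Matrix (Fin 3) (Fin 3) F, N = Matrix.single 0 1 1 := ⟨_, rfl⟩
  have hNN : N * N = 0 := by rw [hN]; exact Matrix.single_mul_single_of_ne _ _ _ _ (by decide) _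
  have hd : (1 + N).det = 1 := by rw [hN]; exact Matrix.det_transvection_of_ne 0 1 (by decide) 1
  have h3M : (3 : Matrix (Fin 3) (Fin 3) F) = 0 := by
    rw [show (3 : Matrix (Fin 3) (Fin 3) F) = algebraMap F _ 3 from (map_ofNat _ 3).symm, h3, map_zero]
  have hpow : (1 + N) ^ 3 = 1 := by
    rw [show (1 + N) ^ 3 = 1 + 3 * N + 3 * (N * N) + N * N * N by noncomm_ring, hNN, h3M]
    simp
  have hns : ∀ z : F, 1 + N ≠ z • 1 := fun z hz => by
    have h := congrFun (congrFun hz 0) 1
    simp [hN] at h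
  refine ⟨⟨1 + N, hd⟩, ⟨1, by rw [one_smul]; exact hpow⟩, hns, ?_⟩
  refine derangement Nat.prime_three hK ⟨1 + N, hd⟩ hns (v := Pi.single 0 1) (by simp) (s := 1) ?_
    (P := (X - C 1) * (X - C 1)) (mul_ne_zero (X_sub_C_ne_zero _) (X_sub_C_ne_zero _)) ?_ ?_
  · change (1 + N) *ᵥ _ = _
    rw [one_smul, Matrix.add_mulVec, Matrix.one_mulVec, hN]
    simp
    ext j; fin_cases j <;> simp [Matrix.single]
  · refine lt_of_le_of_lt natDegree_mul_le ?_
    rw [natDegree_X_sub_C]
    norm_num
  · change aeval (1 + N) _ = 0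
    rw [map_mul, map_sub, aeval_X, aeval_C, map_one, add_sub_cancel_left, hNN]

theorem nine_case {K : Subalgebra F (Matrix (Fin 3) (Fin 3) F)} [Fintype F]
    (hK : Cfsg.Geo.IsFieldSubalgebra 3 K) (h9 : 9 ∣ Fintype.card F - 1) :
    ∃ x : SpecialLinearGroup (Fin 3) F, (∃ z : F, ((x ^ 3 : SpecialLinearGroup (Fin 3) F) : Matrix (Fin 3) (Fin 3) F) = z • 1) ∧
      (∀ z : F, (x : Matrix (Fin 3) (Fin 3) F) ≠ z • 1) ∧
      ¬ ∃ Q : SpecialLinearGroup (Fin 3) F, Q⁻¹ * x * Q ∈
        (Cfsg.Geo.subalgebraNormalizer K).comap (SpecialLinearGroup.toGL : SpecialLinearGroup (Fin 3) F →* GL (Fin 3) F) := by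
  obtain ⟨g, hgo, -⟩ := exists_gen (F := F)
  obtain ⟨m, hm⟩ := h9
  have hm0 : 0 < m := by have := Fintype.one_lt_card (α := F); omega
  obtain ⟨s, hs⟩ : ∃ s : Fˣ, s = g ^ m := ⟨_, rfl⟩
  have hso : orderOf s = 9 := by
    rw [hs, orderOf_pow' g hm0.ne', hgo, hm, Nat.gcd_mul_left_left, Nat.mul_div_cancel _ hm0]
  have hs9 : (s : F) ^ 9 = 1 := by rw [← Units.val_pow_eq_pow_val, ← hso, pow_orderOf_eq_one, Units.val_one]
  have hs6 : (s : F) ^ 7 ≠ s := by
    intro h
    have h2 : s ^ 7 = s := Units.ext (by rw [Units.val_pow_eq_pow_val, h])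
    have h3 : s ^ 6 = 1 := by rwa [pow_succ, mul_eq_right] at h2
    have := orderOf_dvd_of_pow_eq_one h3
    rw [hso] at this
    norm_num at this
  obtain ⟨d, hd⟩ : ∃ d : Fin 3 → F, d = ![(s : F), (s : F), (s : F) ^ 7] := ⟨_, rfl⟩
  have hdet : (Matrix.diagonal d).det = 1 := by
    rw [Matrix.det_diagonal, Fin.prod_univ_three, hd]
    simp
    linear_combination hs9
  have hns : ∀ z : F, Matrix.diagonal d ≠ z • 1 := fun z hz => by
    have h0 := congrFun (congrFun hz 0) 0
    have h2 := congrFun (congrFun hz 2) 2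
    simp [hd] at h0 h2
    exact hs6 (h2.trans h0.symm)
  refine ⟨⟨_, hdet⟩, ⟨(s : F) ^ 3, ?_⟩, hns, ?_⟩
  · change Matrix.diagonal d ^ 3 = _
    rw [Matrix.diagonal_pow, smul_one_eq_diagonal]
    congr 1
    funext j
    fin_cases j <;> simp [hd]
    linear_combination ((s : F) ^ 12 + (s : F) ^ 3) * hs9
  refine derangement Nat.prime_three hK ⟨_, hdet⟩ hns (v := Pi.single 0 1) (by simp) (s := (s : F)) ?_
    (P := (X - C (s : F)) * (X - C ((s : F) ^ 7))) (mul_ne_zero (X_sub_C_ne_zero _) (X_sub_C_ne_zero _)) ?_ ?_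
  · change Matrix.diagonal d *ᵥ _ = _
    funext j
    rw [Matrix.mulVec_diagonal]
    fin_cases j <;> simp [hd]
  · refine lt_of_le_of_lt natDegree_mul_le ?_
    rw [natDegree_X_sub_C, natDegree_X_sub_C]
    norm_num
  · change aeval (Matrix.diagonal d) _ = 0
    rw [map_mul, map_sub, map_sub, aeval_X, aeval_C, aeval_C, Matrix.algebraMap_eq_diagonal,
      Matrix.algebraMap_eq_diagonal, Matrix.diagonal_sub, Matrix.diagonal_sub, Matrix.diagonal_mul_diagonal,
      Matrix.diagonal_eq_zero]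
    funext j
    fin_cases j <;> simp [hd]

theorem two_order : orderOf (2 : ZMod 3) = 2 := orderOf_eq_prime (by decide) (by decide)

theorem cube_noAnn {ω : F} (hω : IsPrimitiveRoot ω 3) {A : Matrix (Fin 3) (Fin 3) F} (hA : A ^ 3 = 1)
    (hd : A.det = 1) (hns : ∀ z : F, A ≠ z • 1) : NoAnn A := by
  classical
  intro g hg hga
  by_contra hne
  obtain ⟨f, hf⟩ : ∃ f, f = Matrix.toLinAlgEquiv' A := ⟨_, rfl⟩
  have hfg : aeval f g = 0 := by rw [hf, aeval_algHom_apply, hga, map_zero]
  have hroots : ∀ z ∈ Polynomial.nthRoots 3 (1 : F), z = 1 ∨ z = ω ∨ z = ω ^ 2 := by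
    intro z hz
    obtain ⟨i, hi, rfl⟩ := hω.eq_pow_of_pow_eq_one ((Polynomial.mem_nthRoots (by norm_num)).1 hz)
    interval_cases i <;> simp
  obtain ⟨a, b, c, hab, hbc, hca, hroot, hprod⟩ : ∃ a b c : F, b ≠ a ∧ b ≠ c ∧ c ≠ a ∧ ¬ g.IsRoot a ∧
      ((X - C a) * (X - C b) * (X - C c) = X ^ 3 - 1) := by
    have h1 : (1 : F) ≠ ω := fun h => hω.ne_one (by norm_num) h.symm
    have h2 : (1 : F) ≠ ω ^ 2 := fun h => hω.pow_ne_one_of_pos_of_lt (by norm_num) (by norm_num) h.symm
    have h12 : ω ≠ ω ^ 2 := fun h => h1 (by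
      have h0 : ω ≠ 0 := hω.ne_zero (by norm_num)
      exact mul_left_cancel₀ h0 (by rw [mul_one, ← sq]; exact h))
    have hsum : 1 + ω + ω ^ 2 = 0 := by
      have := hω.geom_sum_eq_zero (by norm_num)
      simpa [Finset.sum_range_succ] using this
    have hω3 : ω ^ 3 = 1 := hω.pow_eq_one
    have e : (X - C 1) * (X - C ω) * (X - C (ω ^ 2)) = (X ^ 3 - 1 : F[X]) := by
      have e1 : 1 + C ω + C (ω ^ 2) = (0 : F[X]) := by rw [← C_1, ← C_add, ← C_add, hsum, C_0]
      have e2 : C ω * C (ω ^ 2) = (1 : F[X]) := by rw [← C_mul, ← pow_succ', hω3, C_1]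
      rw [C_1]
      linear_combination (-(X ^ 2) + X) * e1 + (X - 1) * e2
    by_contra hc
    push Not at hc
    have r1 := fun hr => hc 1 ω (ω ^ 2) h1.symm h12 h2.symm hr e
    have r2 := fun hr => hc ω 1 (ω ^ 2) h1 h2 h12.symm hr (by rw [← e]; ring)
    have r3 := fun hr => hc (ω ^ 2) 1 ω h2 h1 h12 hr (by rw [← e]; ring)
    simp only [imp_false, not_not] at r1 r2 r3
    have hsub : ({1, ω, ω ^ 2} : Finset F) ⊆ g.roots.toFinset := fun z hz => by
      simp only [Finset.mem_insert, Finset.mem_singleton] at hz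
      rw [Multiset.mem_toFinset, mem_roots hne]
      rcases hz with rfl | rfl | rfl <;> assumption
    have h := (Finset.card_le_card hsub).trans ((Multiset.toFinset_card_le _).trans (card_roots' g))
    rw [Finset.card_insert_of_notMem (by simp [h1, h2]), Finset.card_pair h12] at h
    omega
  have hker : ∀ v, f v = a • v → v = 0 := by
    intro v hv
    by_contra hv0
    have hev : Module.End.HasEigenvector f a v := ⟨Module.End.mem_eigenspace_iff.2 hv, hv0⟩
    have h := congrArg (fun F' : Module.End F (Fin 3 → F) => F' v) hfg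
    rw [LinearMap.zero_apply, Module.End.aeval_apply_of_hasEigenvector hev, smul_eq_zero] at h
    exact hroot (h.resolve_right hv0)
  have hbc0 : ∀ v, f (f v - c • v) = b • (f v - c • v) := by
    intro v
    rw [← sub_eq_zero]
    refine hker _ (sub_eq_zero.1 ?_)
    have h := congrArg (fun p : F[X] => aeval f p v) hprod
    have hf3 : (f ^ 3) v = v := by rw [hf, ← map_pow, hA, map_one]; rfl
    simp only [map_mul, map_sub, map_pow, aeval_X, aeval_C, map_one, Module.algebraMap_end_apply, LinearMap.sub_apply,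
      Module.End.mul_apply, Module.End.one_apply, hf3, sub_self] at h
    simp only [map_sub, map_smul] at h ⊢
    linear_combination (norm := module) h
  obtain ⟨U, hU⟩ : ∃ U : Submodule F (Fin 3 → F), ∀ v, v ∈ U ↔ f v = b • v :=
    ⟨Module.End.eigenspace f b, fun v => Module.End.mem_eigenspace_iff⟩
  obtain ⟨W, hW⟩ : ∃ W : Submodule F (Fin 3 → F), ∀ v, v ∈ W ↔ f v = c • v :=
    ⟨Module.End.eigenspace f c, fun v => Module.End.mem_eigenspace_iff⟩
  have hbc' : b - c ≠ 0 := sub_ne_zero.2 hbc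
  have hc : IsCompl U W := by
    refine ⟨Submodule.disjoint_def.2 fun v hv hv' => ?_, codisjoint_iff.2 (eq_top_iff.2 fun v _ => ?_)⟩
    · rw [hU] at hv
      rw [hW, hv, ← sub_eq_zero, ← sub_smul, smul_eq_zero] at hv'
      exact hv'.resolve_left hbc'
    · refine Submodule.mem_sup.2 ⟨(b - c)⁻¹ • (f v - c • v), ?_, v - (b - c)⁻¹ • (f v - c • v), ?_, by abel⟩
      · rw [hU, map_smul, hbc0, smul_comm]
      · rw [hW, map_sub, map_smul, hbc0]
        match_scalars <;> field_simp <;> ring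
  have hdet := hd
  rw [← LinearMap.det_toLin'] at hdet
  have hfe : Matrix.toLin' A = (Submodule.prodEquivOfIsCompl U W hc).conj
      ((b • LinearMap.id).prodMap (c • LinearMap.id)) := by
    refine LinearMap.ext fun v => ?_
    obtain ⟨⟨u, w⟩, rfl⟩ := (Submodule.prodEquivOfIsCompl U W hc).surjective v
    rw [LinearEquiv.conj_apply_apply, LinearEquiv.symm_apply_apply]
    simp only [LinearMap.prodMap_apply, LinearMap.smul_apply, LinearMap.id_apply, Submodule.coe_prodEquivOfIsCompl',
      Submodule.coe_smul, map_add]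
    rw [show Matrix.toLin' A = f from hf.symm, (hU u).1 u.2, (hW w).1 w.2]
  rw [hfe, LinearEquiv.conj_apply, LinearMap.comp_assoc, LinearMap.det_conj, LinearMap.det_prodMap, LinearMap.det_smul, LinearMap.det_smul,
    LinearMap.det_id, LinearMap.det_id, mul_one, mul_one] at hdet
  have hb3 : b ^ 3 = 1 := by
    have h := congrArg (eval b) hprod
    simp at h
    linear_combination -h
  have hc3 : c ^ 3 = 1 := by
    have h := congrArg (eval c) hprod
    simp at h
    linear_combination -h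
  have hsum := Submodule.finrank_add_eq_of_isCompl hc
  rw [Module.finrank_fin_fun] at hsum
  obtain ⟨k, hk⟩ : ∃ k, k = Module.finrank F U := ⟨_, rfl⟩
  rw [show Module.finrank F W = 3 - k by omega, ← hk] at hdet
  have hk3 : k ≤ 3 := by omega
  interval_cases k
  · refine hns c (Matrix.toLin'.injective (LinearMap.ext fun v => ?_))
    rw [map_smul, Matrix.toLin'_one, show Matrix.toLin' A = f from hf.symm]
    refine (hW v).1 ?_
    rw [show W = ⊤ from Submodule.eq_top_of_finrank_eq (by rw [Module.finrank_fin_fun]; omega)]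
    trivial
  · exact hbc (by linear_combination (-b) * hc3 + c * hdet)
  · exact hbc (by linear_combination -b * b * b * 0 + (-b) * 0 + c * hb3 - b * hdet)
  · refine hns b (Matrix.toLin'.injective (LinearMap.ext fun v => ?_))
    rw [map_smul, Matrix.toLin'_one, show Matrix.toLin' A = f from hf.symm]
    refine (hU v).1 ?_
    rw [show U = ⊤ from Submodule.eq_top_of_finrank_eq (by rw [Module.finrank_fin_fun]; omega)]
    trivial

/-- Elements of order 3 of PSL_3(q) and the normalizer of a Singer cycle. Here `T = PSL_n(F)` for a field `F` with `q = p^f` elements (`n ≥ 2`, `(n, q) ≠ (2, 2), (2, 3)`), `k` is a prime dividing `n`, `K` is a subalgebra of the `n × n` matrices that is a field of degree `k` over `F` (an extension-field structure F_{q^k} on `F^n`), and `H` is the subgroup of matrices of determinant 1 normalizing `K` — a subgroup of type GL_{n/k}(q^k) (maximal except in some small cases; maximality is not assumed); Ω is the set of cosets of `H` in `T`, so an element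 of `T` of prime order `r` (a matrix `x` of determinant 1 with `x^r` scalar, `x` not scalar) fixes a point of Ω when some conjugate of `x` by a matrix of determinant 1 normalizes `K`. Take `n = k = 3` and suppose 3 divides the index of `H`. Then every element of `T` of order 3 is conjugate in `T` into `H` if and only if `q ≡ 4, 7` or `8 (mod 9)`. -/
theorem result {F : Type*} [Field F] [Fintype F] {p : ℕ} [Fact p.Prime] [CharP F p] {q : ℕ} (hq : Fintype.card F = q)
    (n : ℕ) (hn : n = 3) (k : ℕ) (hk : k.Prime) (hkn : k ∣ n) (K : Subalgebra F (Matrix (Fin n) (Fin n) F)) (hK : Cfsg.Geo.IsFieldSubalgebra k K) (hk3 : k = 3) (hΩ : 3 ∣ ((Cfsg.Geo.subalgebraNormalizer K).comap (Matrix.SpecialLinearGroup.toGL : Matrix.SpecialLinearGroup (Fin n) F →* GL (Fin n) F)).index) :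
    (∀ x : Matrix.SpecialLinearGroup (Fin n) F,
      (∃ z : F, ((x ^ 3 : Matrix.SpecialLinearGroup (Fin n) F) : Matrix (Fin n) (Fin n) F) = z • (1 : Matrix (Fin n) (Fin n) F)) →
      (∀ z : F, (x : Matrix (Fin n) (Fin n) F) ≠ z • (1 : Matrix (Fin n) (Fin n) F)) →
      ∃ P : Matrix.SpecialLinearGroup (Fin n) F, P⁻¹ * x * P ∈ ((Cfsg.Geo.subalgebraNormalizer K).comap (Matrix.SpecialLinearGroup.toGL : Matrix.SpecialLinearGroup (Fin n) F →* GL (Fin n) F))) ↔
    (q % 9 = 4 ∨ q % 9 = 7 ∨ q % 9 = 8) := by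
  subst hn
  subst k
  subst q
  haveI : Fact (Nat.Prime 3) := ⟨Nat.prime_three⟩
  obtain ⟨a, hp, ha⟩ := FiniteField.card F p
  have hq1 := Fintype.one_lt_card (α := F)
  by_cases h0 : Fintype.card F % 3 = 0
  · have hp3 : p = 3 := by
      have h : 3 ∣ p ^ (a : ℕ) := ha ▸ Nat.dvd_of_mod_eq_zero h0
      exact ((Nat.prime_dvd_prime_iff_eq Nat.prime_three hp).1 (Nat.prime_three.dvd_of_dvd_pow h)).symm
    subst hp3
    have h3 : (3 : F) = 0 := by exact_mod_cast CharP.cast_eq_zero F 3
    refine iff_of_false (fun h => ?_) (by omega)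
    obtain ⟨x, hx, hns, hd⟩ := transvection_case hK h3
    exact hd (h x hx hns)
  by_cases h1 : Fintype.card F % 9 = 1
  · refine iff_of_false (fun h => ?_) (by omega)
    obtain ⟨x, hx, hns, hd⟩ := nine_case (F := F) hK (by omega)
    exact hd (h x hx hns)
  have hp3 : 3 ≠ p := by
    intro h
    subst h
    apply h0
    rw [ha]
    exact Nat.mod_eq_zero_of_dvd (dvd_pow_self 3 a.pos.ne')
  have h3F : ((3 : ℕ) : F) ≠ 0 := natCast_ne_zero_of_ne (p := p) hp3
  obtain ⟨hi0, hi1⟩ := order_facts (F := F) (p := p) (r := 3) (q := Fintype.card F) rfl hp3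
  obtain ⟨y, hy, hyn, hyno⟩ := exists_frob Nat.prime_three hK
  by_cases h2 : Fintype.card F % 3 = 2
  · have hnd : ¬ 3 ∣ Fintype.card F - 1 := by omega
    have h8 : Fintype.card F % 9 = 8 := by
      by_contra h8
      have hy1 : Matrix.GeneralLinearGroup.det y = 1 := by
        have hp : (Matrix.GeneralLinearGroup.det y) ^ 3 = 1 := Units.ext (by
          rw [Units.val_pow_eq_pow_val, Units.val_one, Matrix.GeneralLinearGroup.val_det_apply, ← Matrix.det_pow, hyn,
            one_smul, Matrix.det_one])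
        by_contra hne
        have hdd := orderOf_dvd_natCard (Matrix.GeneralLinearGroup.det y)
        rw [orderOf_eq_prime hp hne, Nat.card_units, Nat.card_eq_fintype_card] at hdd
        exact hnd hdd
      have hH : 3 ∣ Nat.card ((Cfsg.Geo.subalgebraNormalizer K).comap
          (SpecialLinearGroup.toGL : SpecialLinearGroup (Fin 3) F →* GL (Fin 3) F)) := by
        obtain ⟨s, hs⟩ : ∃ s : SpecialLinearGroup (Fin 3) F, SpecialLinearGroup.toGL s = y :=
          ⟨⟨(y : Matrix (Fin 3) (Fin 3) F), congrArg Units.val hy1⟩, Units.ext rfl⟩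
        have hso : orderOf s = 3 := by
          refine orderOf_eq_prime (Subtype.ext ?_) fun h => ?_
          · change (s : Matrix (Fin 3) (Fin 3) F) ^ 3 = 1
            rw [show (s : Matrix (Fin 3) (Fin 3) F) = y from congrArg Units.val hs, hyn, one_smul]
          · rw [h, map_one] at hs
            have hXC : (X - C 1 : F[X]) = 0 := hyno _ (by rw [natDegree_X_sub_C]; norm_num)
              (by rw [← hs]; simp)
            exact X_sub_C_ne_zero 1 hXC
        have hdd := orderOf_dvd_natCard (⟨s, by rw [Subgroup.mem_comap, hs]; exact hy⟩ :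
          ((Cfsg.Geo.subalgebraNormalizer K).comap
            (SpecialLinearGroup.toGL : SpecialLinearGroup (Fin 3) F →* GL (Fin 3) F)))
        rw [Subgroup.orderOf_mk, hso] at hdd
        exact hdd
      have h9 : 9 ∣ Nat.card (SpecialLinearGroup (Fin 3) F) := by
        rw [← Subgroup.index_mul_card ((Cfsg.Geo.subalgebraNormalizer K).comap
          (SpecialLinearGroup.toGL : SpecialLinearGroup (Fin 3) F →* GL (Fin 3) F))]
        exact mul_dvd_mul hΩ hH
      have hc := CfsgLib.Classical.card_SL_mul (F := F) rfl 3 (by norm_num)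
      have h9' := (ZMod.natCast_eq_zero_iff _ 9).2 (Dvd.dvd.mul_left h9 (Fintype.card F - 1))
      rw [hc, Fin.prod_univ_three] at h9'
      simp only [Fin.val_zero, Fin.val_one, Fin.val_two, pow_zero, pow_one] at h9'
      rw [Nat.cast_mul, Nat.cast_mul, Nat.cast_sub (Nat.one_le_pow 3 _ (by omega)),
        Nat.cast_sub (Nat.le_self_pow (show 3 ≠ 0 by norm_num) (Fintype.card F)),
        Nat.cast_sub (Nat.pow_le_pow_right (show 1 ≤ Fintype.card F by omega) (show 2 ≤ 3 by norm_num)),
        Nat.cast_pow, Nat.cast_pow, Nat.cast_one] at h9'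
      have hmod : Fintype.card F % 9 = 2 ∨ Fintype.card F % 9 = 5 := by omega
      rcases hmod with h | h <;>
      · rw [← ZMod.natCast_mod, h] at h9'
        revert h9'
        decide
    refine iff_of_true (fun x ⟨z, hz⟩ hns => ?_) (Or.inr (Or.inr h8))
    rw [Matrix.SpecialLinearGroup.coe_pow] at hz
    have hz1 : z = 1 := by
      have hd : z ^ 3 = 1 := by
        have h := congrArg Matrix.det hz
        rwa [Matrix.det_pow, x.det_coe, one_pow, Matrix.det_smul, Matrix.det_one, mul_one, Fintype.card_fin, eq_comm] at h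
      by_contra hz1
      refine hnd ((orderOf_eq_prime hd hz1) ▸ orderOf_dvd_of_pow_eq_one (FiniteField.pow_card_sub_one_eq_one z ?_))
      intro h0
      rw [h0, zero_pow (by norm_num)] at hd
      exact zero_ne_one hd
    refine conj_into (by norm_num) (c := 1) (separable_X_pow_sub_C (1 : F) h3F one_ne_zero).squarefree x
      (by rw [hz, hz1]) ?_ y hy hyn hyno (det_surj_of_coprime Nat.prime_three hK hnd)
    refine order_noAnn Nat.prime_three le_rfl h3F ?_ (by rw [hz, hz1, one_smul]) fun h1 => hns 1 (by rw [one_smul]; exact h1)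
    have hc2 : ((Fintype.card F : ℕ) : ZMod 3) = 2 := by rw [← ZMod.natCast_mod, h2]; rfl
    rw [hc2]
    show orderOf (2 : ZMod 3) = 2
    exact two_order
  · have h47 : Fintype.card F % 9 = 4 ∨ Fintype.card F % 9 = 7 := by omega
    refine iff_of_true ?_ (h47.elim Or.inl fun h => Or.inr (Or.inl h))
    obtain ⟨g, hgo, hg⟩ := exists_gen (F := F)
    obtain ⟨m, hm⟩ : 3 ∣ Fintype.card F - 1 := by omega
    have hm3 : m % 3 ≠ 0 := by omega
    obtain ⟨ω, hω⟩ : ∃ ω : F, ω = ((g ^ m : Fˣ) : F) := ⟨_, rfl⟩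
    have hωo : IsPrimitiveRoot ω 3 := by
      rw [hω, IsPrimitiveRoot.coe_units_iff, IsPrimitiveRoot.iff_orderOf, orderOf_pow' g (by omega), hgo, hm,
        Nat.gcd_mul_left_left, Nat.mul_div_cancel _ (by omega)]
    have hnc : ∀ z : F, z ^ 3 = 1 → z ≠ 1 → ∀ b : F, b ^ 3 ≠ z := by
      intro z hz hz1 b hb
      have hb0 : b ≠ 0 := fun h => by rw [← hb, h] at hz; norm_num at hz
      obtain ⟨B, hB⟩ : ∃ B : Fˣ, (B : F) = b := ⟨Units.mk0 b hb0, rfl⟩
      have h9 : B ^ 9 = 1 := Units.ext (by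
        rw [Units.val_pow_eq_pow_val, hB, show 9 = 3 * 3 from rfl, pow_mul, hb, hz, Units.val_one])
      have hq : B ^ (Fintype.card F - 1) = 1 := Units.ext (by
        rw [Units.val_pow_eq_pow_val, hB, FiniteField.pow_card_sub_one_eq_one b hb0, Units.val_one])
      have h := pow_gcd_eq_one.2 ⟨h9, hq⟩
      rw [show Nat.gcd 9 (Fintype.card F - 1) = 3 by
        rw [hm, show (9 : ℕ) = 3 * 3 from rfl, Nat.gcd_mul_left,
          (Nat.prime_three.coprime_iff_not_dvd.2 (by omega) : Nat.Coprime 3 m), mul_one]] at h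
      apply hz1
      rw [← hb, ← hB, ← Units.val_pow_eq_pow_val, h, Units.val_one]
    have hel : ∀ z : F, z ^ 3 = 1 → z ≠ 1 → ∃ u ∈ Cfsg.Geo.subalgebraNormalizer K,
        (u : Matrix (Fin 3) (Fin 3) F) ^ 3 = z • 1 ∧ (u : Matrix (Fin 3) (Fin 3) F).det = z := by
      intro z hz hz1
      letI : Field K := (isField (by norm_num) hK).toField
      haveI : Finite K := Module.finite_of_finite F
      letI : Fintype K := Fintype.ofFinite K
      obtain ⟨G, hGo, hG⟩ := exists_gen (F := K)
      have hKc : Fintype.card K = Fintype.card F ^ 3 := by rw [Module.card_eq_pow_finrank (K := F), hK.finrank_eq]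
      obtain ⟨N, hN⟩ : 9 ∣ Fintype.card K - 1 := by
        have h : (Fintype.card F ^ 3) % 9 = 1 := by
          rw [Nat.pow_mod]
          rcases h47 with h | h <;> rw [h]
        omega
      have hz0 : z ≠ 0 := fun h => by rw [h] at hz; norm_num at hz
      obtain ⟨Z, hZ⟩ : ∃ Z : Kˣ, (Z : K) = algebraMap F K z :=
        ⟨Units.mk0 (algebraMap F K z) (fun h => hz0 ((map_eq_zero _).1 h)), rfl⟩
      obtain ⟨k, rfl⟩ := hG Z
      have hk : (G ^ k) ^ 3 = 1 := Units.ext (by
        rw [Units.val_pow_eq_pow_val, hZ, ← map_pow, hz, map_one, Units.val_one])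
      rw [← pow_mul] at hk
      have hd := orderOf_dvd_of_pow_eq_one hk
      rw [hGo, hN, show 9 * N = 3 * N * 3 by ring] at hd
      obtain ⟨l, rfl⟩ := (dvd_mul_right 3 N).trans ((Nat.mul_dvd_mul_iff_right (by norm_num)).1 hd)
      obtain ⟨U, hU⟩ : ∃ U : K, U = ((G ^ l : Kˣ) : K) := ⟨_, rfl⟩
      have hU3 : (U : Matrix (Fin 3) (Fin 3) F) ^ 3 = z • 1 := by
        rw [← Subalgebra.coe_pow, hU, ← Units.val_pow_eq_pow_val, ← pow_mul, mul_comm, hZ, Subalgebra.coe_algebraMap,
          Algebra.algebraMap_eq_smul_one]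
      have hdet := (det_nonpower Nat.prime_three (hnc z hz hz1) (U : Matrix (Fin 3) (Fin 3) F) hU3).2
      rw [show (-1 : F) ^ (3 + 1) = 1 by norm_num, one_mul, Nat.div_self (by norm_num), pow_one] at hdet
      have hu : IsUnit (U : Matrix (Fin 3) (Fin 3) F) := by
        rw [Matrix.isUnit_iff_isUnit_det, hdet]
        exact isUnit_iff_ne_zero.2 hz0
      exact ⟨hu.unit, unit_mem (by norm_num) hK (by rw [IsUnit.unit_spec]; exact U.2), by rw [IsUnit.unit_spec]; exact hU3,
        by rw [IsUnit.unit_spec]; exact hdet⟩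
    have hdet : ∀ d : Fˣ, ∃ u ∈ Cfsg.Geo.subalgebraNormalizer K, Matrix.GeneralLinearGroup.det u = d := by
      intro d
      obtain ⟨w, hw⟩ : ∃ w : Fˣ, (w : F) = ω := ⟨g ^ m, hω.symm⟩
      obtain ⟨u, hu, -, hud⟩ := hel ω hωo.pow_eq_one (hωo.ne_one (by norm_num))
      have huw : Matrix.GeneralLinearGroup.det u = w := Units.ext (by
        rw [Matrix.GeneralLinearGroup.val_det_apply, hud, hw])
      obtain ⟨j, -, hj⟩ := hωo.eq_pow_of_pow_eq_one (ξ := ((d ^ m : Fˣ) : F)) (by
        rw [← Units.val_pow_eq_pow_val, ← pow_mul, show m * 3 = Fintype.card F - 1 by omega, Units.val_pow_eq_pow_val,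
          FiniteField.pow_card_sub_one_eq_one _ d.ne_zero])
      have hdm : d ^ m = w ^ j := Units.ext (by rw [← hj, Units.val_pow_eq_pow_val w, hw])
      obtain ⟨a, b, hab⟩ : ∃ a b : ℕ, m * a = 3 * b + 1 := by
        rcases (show m % 3 = 1 ∨ m % 3 = 2 by omega) with h | h
        · exact ⟨1, m / 3, by omega⟩
        · exact ⟨2, 2 * (m / 3) + 1, by omega⟩
      obtain ⟨s, hs, hsd⟩ := scalar_unit_mem (by norm_num) hK (d ^ b)⁻¹
      refine ⟨u ^ (j * a) * s, mul_mem (pow_mem hu _) hs, ?_⟩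
      rw [map_mul, map_pow, huw, hsd, pow_mul, ← hdm, ← pow_mul, hab, inv_pow, ← pow_mul, mul_comm b 3, pow_succ]
      exact mul_inv_cancel_comm _ _
    intro x ⟨z, hz⟩ hns
    rw [Matrix.SpecialLinearGroup.coe_pow] at hz
    have hz3 : z ^ 3 = 1 := by
      have h := congrArg Matrix.det hz
      rwa [Matrix.det_pow, x.det_coe, one_pow, Matrix.det_smul, Matrix.det_one, mul_one, Fintype.card_fin, eq_comm] at h
    by_cases hz1 : z = 1
    · exact conj_into (by norm_num) (c := 1) (separable_X_pow_sub_C (1 : F) h3F one_ne_zero).squarefree x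
        (by rw [hz, hz1]) (cube_noAnn hωo (by rw [hz, hz1, one_smul]) x.det_coe hns) y hy hyn hyno hdet
    · have hirr := X_pow_sub_C_irreducible_of_prime Nat.prime_three (hnc z hz3 hz1)
      obtain ⟨u, hu, hu3, -⟩ := hel z hz3 hz1
      exact conj_into (by norm_num) (c := z) hirr.squarefree x hz (irr_noAnn (by norm_num) hirr hz) u hu hu3
        (irr_noAnn (by norm_num) hirr hu3) hdet

end Cfsg.Agent.S5971
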