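import Cfsg.Statements.S5972
import Cfsg.Agent.Lib.Classical22.OrthTypeRows
-- import your own Cfsg.Agent.* helpers here

set_option autoImplicit false
open scoped MatrixGroups
open Cfsg

namespace Cfsg.Agent.S5972

open CfsgLib.Classical22.OrthType in

/-- Elements of prime order of Ω_n(q), n = 2d+1 ≥ 7, q odd, with no fixed totally singular `m`-space. Here `T = Ω_n(q)` is realised as the commutator subgroup of the isometry group of the quadratic form `x₀² + Σ xᵢyᵢ` over the field `F` with `q` elements (it has trivial centre, so its elements of prime order `r` are used directly); let `1 ≤ m ≤ d` and let `r` be a prime dividing the number of totally singular `m`-spaces. For `r ≠ p` let `i` be the multiplicative order of `q` modulo `r`, `c = i` for `i` even and `c = 2i` for `i` odd, and write `k = n mod c`, `ℓ = m mod i`, `n' = ⌊n/i⌋`, `m' = ⌊m/i⌋`, `t = (r−1)/i`. Then every element of `T` of order `r` fixes some totally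 singular `m`-space if and only if either (i) `r = 2` and (`m < (n−1)/2` or `q ≡ 1 (mod 4)`); or (ii) `r ≠ p` is odd, `i ≤ m`, `k > 2ℓ`, and (`i` is odd or `n' − 2m' ≥ t`). -/
theorem result {F : Type*} [Field F] [Fintype F] {p : ℕ} [Fact p.Prime] [CharP F p] {q : ℕ} (hq : Fintype.card F = q) (hqodd : Odd q)
    (d m : ℕ) (hd : 3 ≤ d) (hm : 1 ≤ m) (hmd : m ≤ d)
    (r : ℕ) [Fact r.Prime]
    (hrΩ : r ∣ Nat.card {W : Submodule F (Unit ⊕ (Fin d ⊕ Fin d) → F) // Module.finrank F ↥W = m ∧ (∀ w ∈ W, Cfsg.quadFormOdd d F w = 0)})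
    (i c : ℕ) (hi : i = orderOf (q : ZMod r)) (hc : c = if Even i then i else 2 * i) :
    (∀ x : GL (Unit ⊕ (Fin d ⊕ Fin d)) F, x ∈ Cfsg.Geo.omegaGL (Cfsg.quadFormOdd d F) → orderOf x = r →
      ∃ W : Submodule F (Unit ⊕ (Fin d ⊕ Fin d) → F), Module.finrank F ↥W = m ∧ (∀ w ∈ W, Cfsg.quadFormOdd d F w = 0) ∧
        W.map (Matrix.toLin' (x : Matrix (Unit ⊕ (Fin d ⊕ Fin d)) (Unit ⊕ (Fin d ⊕ Fin d)) F)) ≤ W) ↔
    ((r = 2 ∧ (m < d ∨ q % 4 = 1)) ∨
     (r ≠ p ∧ 2 < r ∧ i ≤ m ∧ 2 * (m % i) < (2 * d + 1) % c ∧ (Odd i ∨ (r - 1) / i + 2 * (m / i) ≤ (2 * d + 1) / i))) := by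
  obtain ⟨hF, hF'⟩ : (2 : F) ≠ 0 ∧ CfsgLib.Classical.PolarNondeg (CfsgLib.Classical.qOdd d F) :=
    ⟨two_ne_zero_of_odd hq hqodd, polarNondeg_qOdd' (two_ne_zero_of_odd hq hqodd) d⟩
  simp only [← CfsgLib.Classical.coe_qOdd] at hrΩ ⊢
  obtain ⟨Q, hQdef⟩ : ∃ Q, Q = CfsgLib.Classical.qOdd d F := ⟨_, rfl⟩
  rw [← hQdef] at hrΩ hF' ⊢
  have hn : Module.finrank F (CfsgLib.Classical.OddI d → F) = 2 * d + 1 := finrank_qOdd d
  by_cases hrp : r = p
  · subst hrp
    exact absurd hrΩ (ts_not_dvd hF' (by omega))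
  simp only [← and_assoc]
  rw [bridge_order (Q := Q)]
  by_cases hr2 : r = 2
  · subst hr2
    rw [two_ts_odd hF hF' hn (by omega) hmd, eta_iff hq hqodd]
    simp
  have hr3 : 2 < r := lt_of_le_of_ne (Fact.out : r.Prime).two_le (Ne.symm hr2)
  rw [reduce_order hF' (by omega) hr2]
  obtain ⟨C, hCi, hCt, hrq⟩ := exists_ctx (F := F) hq hr2 hrp hi
  have hodd : ¬ Even (Module.finrank F (CfsgLib.Classical.OddI d → F)) :=
    Nat.not_even_iff_odd.2 (hn ▸ odd_two_mul_add_one d)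
  have hε : Even (Module.finrank F (CfsgLib.Classical.OddI d → F)) → Sg Q 1 := fun h => absurd h hodd
  have hwin := ts_window (C := C) (hq ▸ hrq) hF' (fun _ => hF) hε (Or.inl rfl) hm (by omega) hrΩ
  rw [ts_all (C := C) hF' (fun _ => hF) hε (by omega)]
  rw [hn, hCi] at hwin ⊢
  rw [hCt, arith_ts_odd_dim 1 (hCi ▸ C.pos) (ctx_t_pos C hCi hCt) hc hmd hwin]
  simp [hr2, hr3, hrp, and_assoc]

end Cfsg.Agent.S5972
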