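import Cfsg.Statements.S5973
import Cfsg.Agent.Lib.Classical22.OrthTypeRows
-- import your own Cfsg.Agent.* helpers here

set_option autoImplicit false
open scoped MatrixGroups
open Cfsg

namespace Cfsg.Agent.S5973

open CfsgLib.Classical22.OrthType in

/-- Elements of prime order of PΩ⁺_n(q), n = 2d ≥ 8, with no fixed totally singular `m`-space, `m < n/2`. Here `T = PΩ⁺_n(q)` is realised through `Ω⁺_n(q)`, the commutator subgroup of the isometry group of the quadratic form `Σ xᵢyᵢ` over the field `F` with `q` elements; an element of `T` of prime order `r` is an element `x` of `Ω⁺_n(q)` with `x^r` scalar and `x` not scalar. Let `1 ≤ m < d` and let `r` be a prime dividing the number of totally singular `m`-spaces. For `r ≠ p` let `i` be the multiplicative order of `q` modulo `r`, `c = i` for `i` even and `c = 2i` for `i` odd, and write `k = n mod c`, `ℓ = m mod i`, `n' = ⌊n/i⌋`, `m'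 = ⌊m/i⌋`, `t = (r−1)/i`. Then every element of `T` of order `r` fixes some totally singular `m`-space if and only if one of: (i) `r = 2 ≠ p` and either `q ≡ 1 (mod 4)`, or `q ≡ 3 (mod 4)`, `m ≤ n/2 − 2` and (`m` even or `n ≡ 2 (mod 4)`); (ii) `r ≠ p` odd, `i` odd, `i ≤ m` and `k ≥ 2ℓ`; (iii) `r ≠ p` odd, `i` even, `i ≤ m`, `n' − 2m' ≥ t`, and one of: `i ≥ 2ℓ`, `k = 0`, `n/i` odd and `n' − 2m' > t`; or `k ≥ 2ℓ` and `n'` even; or `k > 2ℓ` and `n'` odd. -/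
theorem result {F : Type*} [Field F] [Fintype F] {p : ℕ} [Fact p.Prime] [CharP F p] {q : ℕ} (hq : Fintype.card F = q)
    (d m : ℕ) (hd : 4 ≤ d) (hm : 1 ≤ m) (hmd : m < d)
    (r : ℕ) [Fact r.Prime]
    (hrΩ : r ∣ Nat.card {W : Submodule F (Fin d ⊕ Fin d → F) // Module.finrank F ↥W = m ∧ (∀ w ∈ W, Cfsg.quadFormPlus d F w = 0)})
    (i c : ℕ) (hi : i = orderOf (q : ZMod r)) (hc : c = if Even i then i else 2 * i) :
    (∀ x : GL (Fin d ⊕ Fin d) F, x ∈ Cfsg.Geo.omegaGL (Cfsg.quadFormPlus d F) →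
      (∃ z : F, ((x ^ r : GL (Fin d ⊕ Fin d) F) : Matrix (Fin d ⊕ Fin d) (Fin d ⊕ Fin d) F) = z • (1 : Matrix (Fin d ⊕ Fin d) (Fin d ⊕ Fin d) F)) →
      (∀ z : F, (x : Matrix (Fin d ⊕ Fin d) (Fin d ⊕ Fin d) F) ≠ z • (1 : Matrix (Fin d ⊕ Fin d) (Fin d ⊕ Fin d) F)) →
      ∃ W : Submodule F (Fin d ⊕ Fin d → F), Module.finrank F ↥W = m ∧ (∀ w ∈ W, Cfsg.quadFormPlus d F w = 0) ∧
        W.map (Matrix.toLin' (x : Matrix (Fin d ⊕ Fin d) (Fin d ⊕ Fin d) F)) ≤ W) ↔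
    ((r = 2 ∧ p ≠ 2 ∧ (q % 4 = 1 ∨ (q % 4 = 3 ∧ m + 2 ≤ d ∧ (Even m ∨ (2 * d) % 4 = 2)))) ∨
     (r ≠ p ∧ 2 < r ∧ Odd i ∧ i ≤ m ∧ 2 * (m % i) ≤ (2 * d) % c) ∨
     (r ≠ p ∧ 2 < r ∧ Even i ∧ i ≤ m ∧ (r - 1) / i + 2 * (m / i) ≤ (2 * d) / i ∧
       ((2 * (m % i) ≤ i ∧ (2 * d) % c = 0 ∧ Odd ((2 * d) / i) ∧ (r - 1) / i + 2 * (m / i) < (2 * d) / i) ∨
        (2 * (m % i) ≤ (2 * d) % c ∧ Even ((2 * d) / i)) ∨
        (2 * (m % i) < (2 * d) % c ∧ Odd ((2 * d) / i))))) := by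
  simp only [← CfsgLib.Classical.coe_qPlus] at hrΩ ⊢
  obtain ⟨Q, hQdef⟩ : ∃ Q, Q = CfsgLib.Classical.qPlus d F := ⟨_, rfl⟩
  have hQ : CfsgLib.Classical.PolarNondeg Q := hQdef ▸ CfsgLib.Classical.polarNondeg_qPlus d
  have hQs : Sg Q 1 := hQdef ▸ sg_qPlus d
  rw [← hQdef] at hrΩ ⊢
  have hn : Module.finrank F (Fin d ⊕ Fin d → F) = 2 * d := finrank_qPlus d
  by_cases hrp : r = p
  · subst hrp
    exact absurd hrΩ (ts_not_dvd hQ (by omega))
  simp only [← and_assoc]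
  rw [bridge_scalar (Q := Q)]
  by_cases hr2 : r = 2
  · subst hr2
    have hp : p ≠ 2 := Ne.symm hrp
    have hodd : Odd q := odd_card_of_ne_two hq hp
    rw [two_ts_plus (two_ne_zero_of_odd hq hodd) hQ hQs hn (by omega) hmd, eta_iff hq hodd]
    obtain ⟨k, rfl⟩ := hodd
    simp only [hp, ne_eq, not_false_eq_true, true_and, lt_self_iff_false, false_and, and_false, or_false,
      Nat.even_iff, Nat.odd_iff]
    omega
  have hr3 : 2 < r := lt_of_le_of_ne (Fact.out : r.Prime).two_le (Ne.symm hr2)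
  rw [reduce_scalar hQ (by omega) hr2]
  obtain ⟨C, hCi, hCt, hrq⟩ := exists_ctx (F := F) hq hr2 hrp hi
  have h2 : Odd (Module.finrank F (Fin d ⊕ Fin d → F)) → (2 : F) ≠ 0 := fun h =>
    absurd h (Nat.not_odd_iff_even.2 (hn ▸ even_two_mul d))
  have hwin := ts_window (C := C) (hq ▸ hrq) hQ h2 (fun _ => hQs) (Or.inl rfl) hm (by omega) hrΩ
  rw [ts_all (C := C) hQ h2 (fun _ => hQs) (by omega)]
  rw [hn, hCi] at hwin ⊢
  rw [hCt, arith_ts_plus (hCi ▸ C.pos) (ctx_t_pos C hCi hCt) hc hmd hwin]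
  simp [hr2, hr3, hrp, and_assoc]

end Cfsg.Agent.S5973
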