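import Cfsg.Statements.S5974
import Cfsg.Agent.Lib.Classical22.OrthTypeRows
import Cfsg.Agent.Lib.Classical22.OrthTypeUnipotentRows
import Cfsg.Agent.Lib.Classical22.OrthTypeCharTwo
-- import your own Cfsg.Agent.* helpers here

set_option autoImplicit false
open scoped MatrixGroups
open Cfsg

namespace Cfsg.Agent.S5974

open CfsgLib.Classical22.OrthType in

/-- Elements of prime order of PΩ⁺_n(q), n = 2d ≥ 8, with no fixed nondegenerate hyperbolic `m`-space. Here `T = PΩ⁺_n(q)` is realised through `Ω⁺_n(q)`, the commutator subgroup of the isometry group of `Q = Σ xᵢyᵢ` over the field `F` with `q` elements; an element of `T` of prime order `r` is an element `x` of `Ω⁺_n(q)` with `x^r` scalar and `x` not scalar. A hyperbolic `m`-space is a subspace `W` of even dimension `m` on which the polar form of `Q` is nondegenerate and which contains a totally singular subspace of dimension `m/2`. Let `m` be even with `2 ≤ m < n/2`, and let `r` be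 a prime dividing the number of hyperbolic `m`-spaces, with `r = 2` or `r ≠ p`. For `r ≠ p` let `i` be the multiplicative order of `q` modulo `r`, `c = i` for `i` even and `c = 2i` for `i` odd, and write `k = n mod c`, `ℓ' = m mod c`. Then every element of `T` of order `r` fixes some hyperbolic `m`-space if and only if one of: (i) `r = 2` and (`n ≡ 2 (mod 4)`, or `m ≡ 0 (mod 4)`, or `q ≡ 1 (mod 4)`); (ii) `r ≠ p` odd, `i` odd, `c ≤ m` and `k ≥ ℓ'`; (iii) `r ≠ p` odd, `i` even, and either `k = 0` and (`n/i` odd, or `ℓ' = 0` and `m/i` even), or `i ≤ m` and (`k > ℓ' > 0`, or `k = ℓ' > 0` and `(n + m − 2k)/i` even, or `k > ℓ' = 0` and `m/i` even). -/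
theorem result {F : Type*} [Field F] [Fintype F] {p : ℕ} [Fact p.Prime] [CharP F p] {q : ℕ} (hq : Fintype.card F = q)
    (d m : ℕ) (hd : 4 ≤ d) (hm : 2 ≤ m) (hme : Even m) (hmd : m < d)
    (r : ℕ) [Fact r.Prime] (hr : r = 2 ∨ r ≠ p)
    (hrΩ : r ∣ Nat.card {W : Submodule F (Fin d ⊕ Fin d → F) // (Module.finrank F ↥W = m ∧ (∀ u ∈ W, u ≠ 0 → ∃ v ∈ W, QuadraticMap.polar (Cfsg.quadFormPlus d F) u v ≠ 0) ∧
          ∃ U : Submodule F (Fin d ⊕ Fin d → F), U ≤ W ∧ 2 * Module.finrank F ↥U = m ∧ ∀ u ∈ U, Cfsg.quadFormPlus d F u = 0)})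
    (i c : ℕ) (hi : i = orderOf (q : ZMod r)) (hc : c = if Even i then i else 2 * i) :
    (∀ x : GL (Fin d ⊕ Fin d) F, x ∈ Cfsg.Geo.omegaGL (Cfsg.quadFormPlus d F) →
      (∃ z : F, ((x ^ r : GL (Fin d ⊕ Fin d) F) : Matrix (Fin d ⊕ Fin d) (Fin d ⊕ Fin d) F) = z • (1 : Matrix (Fin d ⊕ Fin d) (Fin d ⊕ Fin d) F)) →
      (∀ z : F, (x : Matrix (Fin d ⊕ Fin d) (Fin d ⊕ Fin d) F) ≠ z • (1 : Matrix (Fin d ⊕ Fin d) (Fin d ⊕ Fin d) F)) →
      ∃ W : Submodule F (Fin d ⊕ Fin d → F), (Module.finrank F ↥W = m ∧ (∀ u ∈ W, u ≠ 0 → ∃ v ∈ W, QuadraticMap.polar (Cfsg.quadFormPlus d F) u v ≠ 0) ∧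
          ∃ U : Submodule F (Fin d ⊕ Fin d → F), U ≤ W ∧ 2 * Module.finrank F ↥U = m ∧ ∀ u ∈ U, Cfsg.quadFormPlus d F u = 0) ∧
        W.map (Matrix.toLin' (x : Matrix (Fin d ⊕ Fin d) (Fin d ⊕ Fin d) F)) ≤ W) ↔
    ((r = 2 ∧ ((2 * d) % 4 = 2 ∨ m % 4 = 0 ∨ q % 4 = 1)) ∨
     (r ≠ p ∧ 2 < r ∧ Odd i ∧ c ≤ m ∧ m % c ≤ (2 * d) % c) ∨
     (r ≠ p ∧ 2 < r ∧ Even i ∧
       (((2 * d) % c = 0 ∧ (Odd ((2 * d) / i) ∨ (m % c = 0 ∧ Even (m / i)))) ∨
        (i ≤ m ∧ ((m % c < (2 * d) % c ∧ 0 < m % c) ∨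
                  ((2 * d) % c = m % c ∧ 0 < m % c ∧ Even ((2 * d + m - 2 * ((2 * d) % c)) / i)) ∨
                  (0 < (2 * d) % c ∧ m % c = 0 ∧ Even (m / i))))))) := by
  simp only [← CfsgLib.Classical.coe_qPlus] at hrΩ ⊢
  obtain ⟨Q, hQdef⟩ : ∃ Q, Q = CfsgLib.Classical.qPlus d F := ⟨_, rfl⟩
  have hQ : CfsgLib.Classical.PolarNondeg Q := hQdef ▸ CfsgLib.Classical.polarNondeg_qPlus d
  have hQs : Sg Q 1 := hQdef ▸ sg_qPlus d
  rw [← hQdef] at hrΩ ⊢
  have hn : Module.finrank F (Fin d ⊕ Fin d → F) = 2 * d := finrank_qPlus d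
  have hset : ∀ W : Submodule F (Fin d ⊕ Fin d → F), (Module.finrank F W = m ∧
      (∀ u ∈ W, u ≠ 0 → ∃ v ∈ W, QuadraticMap.polar Q u v ≠ 0) ∧
      ∃ U : Submodule F (Fin d ⊕ Fin d → F), U ≤ W ∧ 2 * Module.finrank F U = m ∧ ∀ u ∈ U, Q u = 0) ↔
      (Module.finrank F W = m ∧ CfsgLib.Classical.PolarNondeg (res Q W) ∧ Sg (res Q W) 1) := fun W => by
    rw [nd_forall_iff]
    refine and_congr_right fun hd => and_congr_right fun hW => ?_
    rw [← plus_iff hW (hd ▸ hme), hd]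
    exact exists_congr fun U => and_congr_right fun _ => and_comm
  rw [bridge_scalar (Q := Q), Nat.card_congr (Equiv.subtypeEquivRight hset)] at *
  simp only [hset]
  by_cases hr2 : r = 2
  · subst hr2
    obtain ⟨k, rfl⟩ := hme
    rw [show k + k = 2 * k by ring] at *
    by_cases hp : p = 2
    · subst hp
      have h20 : (2 : F) = 0 := CharTwo.two_eq_zero
      obtain ⟨u, hu⟩ := even_card_of_two hq rfl
      simp only [ne_eq, not_true_eq_false, lt_self_iff_false, false_and, and_false, or_false, true_and]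
      constructor
      · intro h
        by_contra hcon
        have hde : Even d := by rw [Nat.even_iff]; omega
        obtain ⟨l, rfl⟩ := hde
        obtain ⟨g, hg, hgp, hns, hW⟩ := unipotent_full (p := 2) (l := l) hQ hQs (by omega) (by omega)
        obtain ⟨W, ⟨hWd, hWn, -⟩, hWi⟩ := h g hg ⟨1, fun v => by rw [hgp, one_smul]; rfl⟩ hns
        have := hW W hWi hWn
        rw [hWd] at this
        omega
      · intro hc g _ ⟨z, hz⟩ _
        exact two_char_two h20 hQ hQs hn (by omega) (by omega)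
          (Or.inl ⟨rfl, by rw [Nat.even_iff, Nat.odd_iff]; omega⟩) g hz
    · have hodd : Odd q := odd_card_of_ne_two hq hp
      rw [two_nd_even (two_ne_zero_of_odd hq hodd) hQ hQs hn (by omega) (by omega)
        (by omega) (Or.inl rfl), sq_two_iff hq]
      have hη := eta_iff hq hodd
      simp only [hp, ne_eq, not_false_eq_true, true_and, lt_self_iff_false, false_and, and_false, or_false]
      obtain ⟨u, rfl⟩ := hodd
      rcases eta_pm (F := F) with he | he <;> simp only [he, true_iff, iff_true, reduceCtorEq, false_iff,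
        Int.reduceNeg, one_pow] at hη ⊢ <;>
        rcases Nat.even_or_odd d with hd' | hd' <;> rcases Nat.even_or_odd k with hk' | hk' <;>
        simp [hd', hk', Nat.not_odd_iff_even.2, Nat.not_even_iff_odd.2] <;>
        simp only [Nat.even_iff, Nat.odd_iff] at * <;> omega
  have hrp : r ≠ p := hr.resolve_left hr2
  have hr3 : 2 < r := lt_of_le_of_ne (Fact.out : r.Prime).two_le (Ne.symm hr2)
  rw [reduce_scalar hQ (by omega) hr2]
  obtain ⟨C, hCi, hCt, hrq⟩ := exists_ctx (F := F) hq hr2 hrp hi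
  have h2 : Odd (Module.finrank F (Fin d ⊕ Fin d → F)) → (2 : F) ≠ 0 := fun h =>
    absurd h (Nat.not_odd_iff_even.2 (hn ▸ even_two_mul d))
  have hwin := nd_window (C := C) (hq ▸ hrq) hQ h2 (fun _ => hQs) (Or.inl rfl) hme (by omega) (by omega)
    (εW := 1) (Or.inl rfl) hrΩ
  rw [nd_all (C := C) hQ h2 (fun _ => hQs) hme (by omega) (by omega) (Or.inl rfl)]
  rw [hn, mul_one, hCi] at hwin ⊢
  rw [arith_plus_plus (hCi ▸ C.pos) hc (by omega) hwin]
  simp [hr2, hr3, hrp]

end Cfsg.Agent.S5974
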