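import Cfsg.Statements.S5979
import Cfsg.Agent.Lib.Classical22.TensorPrimeOrder
-- import your own Cfsg.Agent.* helpers here

set_option autoImplicit false
open scoped MatrixGroups
open Cfsg

namespace Cfsg.Agent.S5979

open Matrix Kronecker CfsgLib.Classical22 CfsgLib.Classical22.Monomial CfsgLib.Classical22.InvolClasses

theorem pos_aux {F : Type*} [Field F] [Fintype F] {q : ℕ} (hq : Fintype.card F = q) {n b : ℕ} (hnb : n = 2 * b)
    (hb : 0 < b) (hodd : Odd q) (hv : padicValNat 2 (q - 1) ≤ padicValNat 2 n) (e : Fin n ≃ Fin 2 × Fin b)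
    (P : GL (Fin n) F) (x : SpecialLinearGroup (Fin n) F) {z : F}
    (hx : (x : Matrix (Fin n) (Fin n) F) * x = z • 1) :
    ∃ R : GL (Fin n) F, R⁻¹ * SpecialLinearGroup.toGL x * R ∈ Cfsg.Geo.tensorProductSubgroup 2 b e P := by
  classical
  have hn : 0 < n := by omega
  obtain ⟨g, hg⟩ : ∃ g, g = SpecialLinearGroup.toGL x := ⟨_, rfl⟩
  have hgx : (g : Matrix (Fin n) (Fin n) F) * g = z • 1 := by rw [hg]; exact hx
  rw [← hg]
  have hdet : ∀ Q : GL (Fin n) F, ((Q⁻¹ * g * Q : GL (Fin n) F) : Matrix (Fin n) (Fin n) F).det = 1 := fun Q => by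
    rw [Units.val_mul, Units.val_mul, Matrix.det_units_conj', hg]
    exact x.2
  have h2 := InvolArith.two_ne_zero_of_odd hq hodd
  by_cases hz : ∃ s : F, s ^ 2 = z
  · obtain ⟨s₀, rfl⟩ := hz
    have hs0 : s₀ ≠ 0 := fun h => sq_ne_zero hgx hn (by rw [h]; ring)
    obtain ⟨s, rfl⟩ : ∃ s : Fˣ, (s : F) = s₀ := ⟨Units.mk0 s₀ hs0, rfl⟩
    obtain ⟨Q, c, hQ, hc⟩ := exists_diag h2 hgx
    obtain ⟨π, ε, hπ, hcπ⟩ := InvolPairing.diag_pairing hq hodd (by rw [hnb]; exact even_two_mul b) hn (Or.inr hv) c hc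
      (by rw [← hQ]; exact hdet Q)
    obtain ⟨σ, hσ⟩ : ∃ σ : Fˣ, ∀ i, c (π i) = σ * c i := by
      rcases hcπ with h | h
      · exact ⟨1, fun i => by rw [h, one_mul]⟩
      · exact ⟨-1, fun i => by rw [h, neg_one_mul]⟩
    have hcard : Fintype.card {i // ε i = true} = b := by
      have hswap : Fintype.card {i // ε i = true} = Fintype.card {i // ¬ ε i = true} :=
        Fintype.card_congr (π.subtypeEquiv fun i => by rw [hπ.2]; simp)
      have hsum := Fintype.card_subtype_compl (fun i => ε i = true)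
      have hle := Fintype.card_subtype_le (fun i => ε i = true)
      rw [Fintype.card_fin] at hsum hle
      omega
    obtain ⟨f, hf⟩ : ∃ f : Fin b ≃ {i // ε i = true}, True := ⟨(Fintype.equivFinOfCardEq hcard).symm, trivial⟩
    obtain ⟨e', he'⟩ : ∃ e' : Fin 2 × Fin b ≃ Fin n, ∀ p, e' p = if p.1 = 0 then (f p.2 : Fin n) else π (f p.2) := by
      have hinj : Function.Injective (fun p : Fin 2 × Fin b => if p.1 = 0 then (f p.2 : Fin n) else π (f p.2)) := by
        rintro ⟨k, j⟩ ⟨k', j'⟩ h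
        have hε := congrArg ε h
        fin_cases k <;> fin_cases k' <;> simp [hπ.2, (f j).2, (f j').2] at h hε ⊢
        all_goals exact f.injective (Subtype.ext h)
      exact ⟨Equiv.ofBijective _ ((Fintype.bijective_iff_injective_and_card _).2 ⟨hinj, by simp [hnb]⟩), fun p => rfl⟩
    obtain ⟨d, hd⟩ : ∃ d : Fin 2 → Fˣ, d = fun k => if k = 0 then 1 else σ := ⟨_, rfl⟩
    refine TensorPrime.mem_of_kron e e'.symm P (g := g) (Q := Q) (diagGL d) (diagGL fun j => c (f j)) ?_
    have hmd : ∀ {m : ℕ} (w : Fin m → Fˣ),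
        ((diagGL w : GL (Fin m) F) : Matrix (Fin m) (Fin m) F) = diagonal fun i => (w i : F) := fun w => by
      ext i j
      show (mono 1 w : Matrix _ _ F) i j = _
      by_cases h : i = j
      · subst h; simp [mono_apply]
      · simp [mono_apply, h]
    rw [hQ, show ((mono 1 c : GL (Fin n) F) : Matrix (Fin n) (Fin n) F) = diagonal fun i => (c i : F) from hmd c, hmd,
      hmd, Matrix.diagonal_kronecker_diagonal, Matrix.submatrix_diagonal_equiv]
    refine congrArg _ (funext fun i => ?_)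
    obtain ⟨⟨k, j⟩, rfl⟩ := e'.surjective i
    rw [Function.comp_apply, Equiv.symm_apply_apply, he', hd]
    fin_cases k <;> simp [hσ]
  · push Not at hz
    obtain ⟨zu, rfl⟩ : ∃ zu : Fˣ, (zu : F) = z := ⟨Units.mk0 z (sq_ne_zero hgx hn), rfl⟩
    obtain ⟨m, e', Q, hQ⟩ := exists_nonsquare hgx hz
    obtain rfl : m = b := by
      have h := Fintype.card_congr e'
      simp at h
      omega
    obtain ⟨A, hA⟩ : ∃ A : GL (Fin 2) F, (A : Matrix (Fin 2) (Fin 2) F) = !![0, (zu : F); 1, 0] :=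
      ⟨Matrix.GeneralLinearGroup.mkOfDetNeZero _ (by simp : (!![0, (zu : F); 1, 0]).det ≠ 0), rfl⟩
    refine TensorPrime.mem_of_kron e e'.symm P (g := g) (Q := Q) A 1 ?_
    rw [hQ, pair_eq_block, hA, Units.val_one, Matrix.kronecker_one, Matrix.reindex_apply]

/-- Elements of prime order of PSL_n(q) and the stabilizers of tensor decompositions with factors of different dimensions. Here `T = PSL_n(F)` for a field `F` with `q` elements and `n = a·b` with `2 ≤ a < b`; a tensor decomposition `F^n ≅ F^a ⊗ F^b` is given by a bijection `e` of index sets and a change of basis `P`, and `H` is the subgroup of matrices of determinant 1 in its stabilizer (the conjugate by `P` of the group of Kronecker products `g₁ ⊗ g₂`) — a subgroup of type GL_a(q) ⊗ GL_b(q) (maximality is not assumed); Ω is the set of cosets of `H` in `T`, so an element of `T` of prime order `r` (a matrix `x` of determinant 1 with `x^r` scalar, `x` not scalar) fixes a point of Ω exactly when some conjugate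 of `x` by a matrix of determinant 1 lies in `H`. Let `r` be a prime dividing the index of `H`. Then every element of `T` of order `r` fixes a point of Ω if and only if `r = 2`, `a = 2`, `q` is odd and `(q − 1)_2 ≤ (n)_2` (2-parts). -/
theorem result {F : Type*} [Field F] [Fintype F] {p : ℕ} [Fact p.Prime] [CharP F p] {q : ℕ} (hq : Fintype.card F = q)
    (n a b : ℕ) (hab : n = a * b) (ha : 2 ≤ a) (hlt : a < b) (e : Fin n ≃ Fin a × Fin b) (P : GL (Fin n) F)
    (r : ℕ) [Fact r.Prime]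
    (hΩ : r ∣ (Cfsg.Geo.tensorProductSubgroup a b e P).relIndex (Cfsg.Geo.specialLinear (Fin n) F)) :
    (∀ x ∈ Cfsg.Geo.specialLinear (Fin n) F, (∃ z : F, ((x ^ r : GL (Fin n) F) : Matrix (Fin n) (Fin n) F) = z • (1 : Matrix (Fin n) (Fin n) F)) →
      (∀ z : F, (x : Matrix (Fin n) (Fin n) F) ≠ z • (1 : Matrix (Fin n) (Fin n) F)) →
      ∃ g ∈ Cfsg.Geo.specialLinear (Fin n) F, g⁻¹ * x * g ∈ Cfsg.Geo.tensorProductSubgroup a b e P) ↔
    (r = 2 ∧ a = 2 ∧ Odd q ∧ padicValNat 2 (q - 1) ≤ padicValNat 2 n) := by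
  constructor
  · intro h
    by_contra hc
    obtain ⟨X, ⟨z, hXr⟩, hXs, hX⟩ := CfsgLib.Classical22.TensorPrime.exists_derangement hq hab ha hlt e P hΩ hc
    obtain ⟨g, -, hg⟩ := h (Matrix.SpecialLinearGroup.toGL X) (MonoidHom.mem_ker.2 (Units.ext X.2)) ⟨z, by rw [Units.val_pow_eq_pow_val]; exact hXr⟩ hXs
    exact hX g hg
  · rintro ⟨rfl, rfl, hodd, hv⟩ x hx ⟨z, hxz⟩ -
    obtain ⟨X, rfl⟩ : ∃ X : Matrix.SpecialLinearGroup (Fin n) F, Matrix.SpecialLinearGroup.toGL X = x :=
      ⟨⟨(x : Matrix (Fin n) (Fin n) F), congrArg Units.val (MonoidHom.mem_ker.1 hx)⟩, Units.ext rfl⟩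
    have hX : (X : Matrix (Fin n) (Fin n) F) * (X : Matrix (Fin n) (Fin n) F) = z • 1 := by
      rw [← hxz, Units.val_pow_eq_pow_val, pow_two]; rfl
    obtain ⟨R, hR⟩ := pos_aux hq hab (by omega) hodd hv e P X hX
    obtain ⟨P', hP'⟩ := CfsgLib.Classical22.InvolClasses.conj_sl (by omega) X hX R
    refine ⟨Matrix.SpecialLinearGroup.toGL P', MonoidHom.mem_ker.2 (Units.ext P'.2), ?_⟩
    rw [← hP', map_mul, map_mul, map_inv] at hR
    exact hR

end Cfsg.Agent.S5979
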