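import Cfsg.Statements.S5981
import Mathlib
import Cfsg.Agent.Lib.Classical.Elusive.SLFormOrder
import Cfsg.Agent.Lib.Classical.Elusive.SLFormFix
-- import your own Cfsg.Agent.* helpers here

set_option autoImplicit false
open scoped MatrixGroups
open Cfsg

namespace Cfsg.Agent.S5981

/-- Elements of prime order of PSL_n(q), q odd, and the subgroups of orthogonal type. Here `T = PSL_n(F)` for a field `F` with `q` elements, `q` odd, `n ≥ 3`; `Q` is a non-degenerate quadratic form on `F^n` (of either type when `n` is even) and `H` is the subgroup of matrices of determinant 1 that preserve `Q` up to a scalar — a subgroup of type O^ε_n(q) (maximality is not assumed); Ω is the set of cosets of `H` in `T`, so an element of `T` of prime order `r` (a matrix `x` of determinant 1 with `x^r` scalar, `x` not scalar) fixes a point of Ω exactly when some conjugate of `x` by a matrix of determinant 1 preserves `Q` up to a scalar. Let `r` be a prime dividing the index of `H`, with `(n, r) ≠ (6, 3)`. Then every element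 of `T` of order `r` fixes a point of Ω if and only if `r = 2`, or `r ∈ {3, 5}`, `n = r` and `(q − 1)_r = r` (the `r`-part of `q − 1` is exactly `r`). The case `(n, r) = (6, 3)` is not covered by this statement. -/
theorem result {F : Type*} [Field F] [Fintype F] {p : ℕ} [Fact p.Prime] [CharP F p] {q : ℕ} (hq : Fintype.card F = q)
    (hodd : Odd q) (n : ℕ) (hn : 3 ≤ n) (Q : (Fin n → F) → F) (hQ : Cfsg.Geo.IsNondegenerateQuadraticForm Q)
    (r : ℕ) [Fact r.Prime] (hgap : ¬ (n = 6 ∧ r = 3))
    (hΩ : r ∣ (Cfsg.Geo.quadSimilarityGroup Q).relIndex (Cfsg.Geo.specialLinear (Fin n) F)) :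
    (∀ x ∈ Cfsg.Geo.specialLinear (Fin n) F, (∃ z : F, ((x ^ r : GL (Fin n) F) : Matrix (Fin n) (Fin n) F) = z • (1 : Matrix (Fin n) (Fin n) F)) →
      (∀ z : F, (x : Matrix (Fin n) (Fin n) F) ≠ z • (1 : Matrix (Fin n) (Fin n) F)) →
      ∃ g ∈ Cfsg.Geo.specialLinear (Fin n) F, g⁻¹ * x * g ∈ Cfsg.Geo.quadSimilarityGroup Q) ↔
    (r = 2 ∨ ((r = 3 ∨ r = 5) ∧ n = r ∧ padicValNat r (q - 1) = 1)) := by
  classical
  have h2 : (2 : F) ≠ 0 := CfsgLib.Classical.two_ne_zero_of_odd_card (hq.symm ▸ hodd)
  subst hq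
  let Qf : QuadraticForm F (Fin n → F) :=
    QuadraticMap.ofPolar Q (fun a x => by rw [hQ.smul, smul_eq_mul, sq])
      hQ.polar_bilinear.add_left (fun a x v => by rw [hQ.polar_bilinear.smul_left, smul_eq_mul])
  have hPN : CfsgLib.Classical.PolarNondeg Qf := fun v hv => by_contra fun hv0 => by
    obtain ⟨w, hw⟩ := (hQ.nondegenerate v hv0).2
    exact hw (hv w)
  have hG : (CfsgLib.Classical.polarGram Qf).det ≠ 0 := CfsgLib.Classical.SylowTwo.det_polarGram_ne Qf hPN
  set A : Matrix (Fin n) (Fin n) F := (2 : F)⁻¹ • CfsgLib.Classical.polarGram Qf with hA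
  have hAs : A.transpose = A := by rw [hA, Matrix.transpose_smul, CfsgLib.Classical.SylowTwo.polarGram_transpose]
  have hAd : A.det ≠ 0 := by
    rw [hA, Matrix.det_smul]; exact mul_ne_zero (pow_ne_zero _ (inv_ne_zero h2)) hG
  have hsim : Cfsg.Geo.quadSimilarityGroup Q = CfsgLib.Forms.simBil A :=
    CfsgLib.Forms.quadSim_eq_simBil h2 hAs fun v => by
      rw [hA, Matrix.smul_mulVec, dotProduct_smul, ← CfsgLib.Classical.SylowTwo.polarGram_form, smul_eq_mul,
        CfsgLib.Classical.quad_polar_self, ← mul_assoc, inv_mul_cancel₀ h2, one_mul]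
      rfl
  constructor
  · intro hall
    by_contra hcond
    push Not at hcond
    obtain ⟨hr2, hexc⟩ := hcond
    have hnobad : ∀ x : GL (Fin n) F, ¬ CfsgLib.Classical.Elusive.SLForm.Bad r A x := by
      rintro x ⟨h1, h2', h3, h4⟩
      obtain ⟨g, hg, hgx⟩ := hall x h1 h2' h3
      exact h4 ⟨g, hg, hsim ▸ hgx⟩
    by_cases hrp : r = p
    · subst hrp
      obtain ⟨x, hx⟩ := CfsgLib.Classical.Elusive.SLForm.bad_char (p := r) (by omega : 2 ≤ n) h2 hAs hAd
      exact hnobad x hx
    by_cases hr1 : r ∣ Fintype.card F - 1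
    · obtain ⟨ω, hω⟩ := exists_prime_orderOf_dvd_card (G := Fˣ) r (by rwa [Fintype.card_units])
      have hωr : ω ^ r = 1 := hω ▸ pow_orderOf_eq_one ω
      have hω1 : ω ≠ 1 := fun h => by
        rw [h, orderOf_one] at hω; exact (Fact.out : r.Prime).ne_one hω.symm
      by_cases hex : n = r ∧ (r = 3 ∨ r = 5)
      · obtain ⟨hnr, hr35⟩ := hex
        have hq0 : Fintype.card F - 1 ≠ 0 := by
          have := Fintype.one_lt_card (α := F); omega
        have hv : r ^ 2 ∣ Fintype.card F - 1 := by
          rw [padicValNat_dvd_iff_le hq0]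
          have h1 : 1 ≤ padicValNat r (Fintype.card F - 1) := one_le_padicValNat_of_dvd hq0 hr1
          have h1' : padicValNat r (Fintype.card F - 1) ≠ 1 := by
            rcases hr35 with h | h
            · exact hexc (Or.inl h) hnr
            · exact hexc (Or.inr h) hnr
          omega
        obtain ⟨g, hg⟩ := IsCyclic.exists_generator (α := Fˣ)
        obtain ⟨k, hk⟩ := (Fintype.card_units (α := F)).symm ▸ hv
        have hgo : orderOf g = Fintype.card Fˣ := by
          rw [orderOf_eq_card_of_forall_mem_zpowers hg, Nat.card_eq_fintype_card]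
        set ζ := g ^ k with hζ
        have hζo : orderOf ζ = r ^ 2 := by
          rw [hζ, orderOf_pow, hgo, hk, Nat.gcd_mul_left_left, Nat.mul_div_cancel _ (by
            rcases Nat.eq_zero_or_pos k with rfl | hk0
            · rw [mul_zero] at hk; exact absurd hk (Fintype.card_pos).ne'
            · exact hk0)]
        have hζr : ζ ^ r ≠ 1 := fun h => by
          have := Nat.le_of_dvd (Fact.out : r.Prime).pos (hζo ▸ orderOf_dvd_of_pow_eq_one h)
          have := (Fact.out : r.Prime).two_le
          nlinarith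
        have hζr2 : ζ ^ (r * r) = 1 := by rw [← sq, ← hζo]; exact pow_orderOf_eq_one ζ
        obtain ⟨v, hv, -⟩ := CfsgLib.Classical.Elusive.SLForm.exists_two_valued (n := n) r hr2 1 one_pos
          (by omega) (by omega) (a := ζ⁻¹ * ζ ^ r) (b := ζ⁻¹)
          (fun h => hζr (mul_eq_left.1 h)) (by rw [mul_pow, ← pow_mul, hζr2, mul_one]) (by
            rw [pow_one, hnr, mul_comm ζ⁻¹, mul_assoc, ← pow_succ', Nat.sub_add_cancel (Fact.out : r.Prime).one_le,
              inv_pow, mul_inv_cancel])
        exact hnobad _ (hv.bad hAs hAd)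
      by_cases hr3 : r = 3
      · subst hr3
        have hn3 : n ≠ 3 := fun h => hex ⟨h, Or.inl rfl⟩
        have hn6 : n ≠ 6 := fun h => hgap ⟨h, rfl⟩
        obtain ⟨v, hv, -⟩ := CfsgLib.Classical.Elusive.SLForm.exists_two_valued (n := n) 3 hr2 3 (by norm_num)
          (by omega) (by omega) (a := ω) (b := 1) hω1 (by rw [hωr, one_pow]) (by rw [hωr, one_pow, one_mul])
        exact hnobad _ (hv.bad hAs hAd)
      · have hr5 : 5 ≤ r := by
          have := (Fact.out : r.Prime).two_le
          by_contra hlt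
          interval_cases r
          · exact hr2 rfl
          · exact hr3 rfl
          · exact absurd (Fact.out : Nat.Prime 4) (by norm_num)
        obtain ⟨v, hv, -⟩ := CfsgLib.Classical.Elusive.SLForm.exists_three_valued (n := n) r hr5 hn
          (fun h => hex ⟨h.1.trans h.2.symm, Or.inr h.2⟩) hω
        exact hnobad _ (hv.bad hAs hAd)
    · rcases CfsgLib.Classical.Elusive.SLForm.cases_of_dvd_index h2 hr2 hrp hr1 (by omega : 1 ≤ n) Qf hPN hΩ with
        ⟨hodd', hin⟩ | ⟨m, ε, hnm, hs, he⟩
      · obtain ⟨x, hx⟩ := CfsgLib.Classical.Elusive.SLForm.bad_odd hrp hr2 hr1 hodd' hin hAs hAd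
        exact hnobad x hx
      · obtain ⟨x, hx1, hx2, hx3, hx4⟩ :=
          CfsgLib.Classical.Elusive.SLForm.bad_even hr2 hrp hr1 hnm (by omega) Qf hPN hs he
        exact hx4 (hall x hx1 ⟨1, by rw [hx2, Units.val_one, one_smul]⟩ hx3)
  · rintro hcond x hx ⟨z, hz⟩ -
    rw [hsim]
    rcases hcond with rfl | ⟨hr35, hnr, hv⟩
    · rw [Units.val_pow_eq_pow_val] at hz
      by_cases hsq : IsSquare z
      · obtain ⟨α, rfl⟩ := hsq
        haveI : Nonempty (Fin n) := ⟨⟨0, by omega⟩⟩
        have hα : α ≠ 0 := fun h => by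
          have hd := congrArg Matrix.det hz
          rw [Matrix.det_pow, Matrix.det_smul, h, mul_zero, zero_pow (by simp; omega), zero_mul] at hd
          exact (Matrix.isUnits_det_units x).ne_zero (pow_eq_zero_iff two_ne_zero |>.1 hd)
        exact CfsgLib.Classical.Elusive.SLForm.fixes_square (by omega) h2 hAs hAd (α := Units.mk0 α hα)
          (by rw [hz, sq, Units.val_mk0])
      · exact CfsgLib.Classical.Elusive.SLForm.fixes_nonsquare (by omega) h2 hAs hAd hsq hz
    · exact CfsgLib.Classical.Elusive.SLForm.fixes_exceptional hr35 hnr hv h2 hAs hAd hx hz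

end Cfsg.Agent.S5981
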