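import Cfsg.Statements.S5982
import Mathlib
import Cfsg.Agent.Lib.Classical.Elusive.SLUnitWitness
import Cfsg.Agent.Lib.Classical.Elusive.SLUnitFix
import Cfsg.Agent.Lib.Classical.Elusive.SLUnitOrder
-- import your own Cfsg.Agent.* helpers here

set_option autoImplicit false
open scoped MatrixGroups
open Cfsg

namespace Cfsg.Agent.S5982

/-- Elements of prime order of PSL_n(q), q = q₀², and the subgroups of unitary type. Here `T = PSL_n(F)` for a field `F` with `q = q₀²` elements (`n ≥ 3`), `f` is a non-degenerate unitary form on `F^n` for the involutory automorphism `x ↦ x^{q₀}`, and `H` is the subgroup of matrices of determinant 1 that preserve `f` up to a scalar — a subgroup of type GU_n(q₀) (maximality is not assumed); Ω is the set of cosets of `H` in `T`, so an element of `T` of prime order `r` (a matrix `x` of determinant 1 with `x^r` scalar, `x` not scalar) fixes a point of Ω exactly when some conjugate of `x` by a matrix of determinant 1 preserves `f` up to a scalar. Let `r` be a prime dividing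 the index of `H`, with `r = 2` or `r` different from the characteristic `p`, and with `(n, r) ≠ (6, 3)`. Then every element of `T` of order `r` fixes a point of Ω if and only if either `r = 2` and (`p = 2` or `(n)_2 ≤ (q − 1)_2`), or `r ∈ {3, 5}`, `n = r` and `(q₀ − 1)_r = r`. (Odd `r = p` and the case `(n, r) = (6, 3)` are not covered by this statement.) -/
theorem result {F : Type*} [Field F] [Fintype F] {p : ℕ} [Fact p.Prime] [CharP F p] {q : ℕ} (hq : Fintype.card F = q)
    (q₀ : ℕ) (hq₀ : q = q₀ ^ 2) (n : ℕ) (hn : 3 ≤ n) (f : (Fin n → F) → (Fin n → F) → F) (hf : Cfsg.Geo.IsUnitaryFormPow q₀ f)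
    (r : ℕ) [Fact r.Prime] (hr : r = 2 ∨ r ≠ p) (hgap : ¬ (n = 6 ∧ r = 3))
    (hΩ : r ∣ (Cfsg.Geo.similarityGroup f).relIndex (Cfsg.Geo.specialLinear (Fin n) F)) :
    (∀ x ∈ Cfsg.Geo.specialLinear (Fin n) F, (∃ z : F, ((x ^ r : GL (Fin n) F) : Matrix (Fin n) (Fin n) F) = z • (1 : Matrix (Fin n) (Fin n) F)) →
      (∀ z : F, (x : Matrix (Fin n) (Fin n) F) ≠ z • (1 : Matrix (Fin n) (Fin n) F)) →
      ∃ g ∈ Cfsg.Geo.specialLinear (Fin n) F, g⁻¹ * x * g ∈ Cfsg.Geo.similarityGroup f) ↔
    ((r = 2 ∧ (p = 2 ∨ padicValNat 2 n ≤ padicValNat 2 (q - 1))) ∨ ((r = 3 ∨ r = 5) ∧ n = r ∧ padicValNat r (q₀ - 1) = 1)) := by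
  classical
  subst hq
  have hF : Fintype.card F = q₀ ^ 2 := hq₀
  have hq2 : 2 ≤ q₀ := CfsgLib.Classical.two_le_q hF
  obtain ⟨σ, hσ, hinv, hne⟩ := CfsgLib.Classical.exists_qPow hF
  set A : Matrix (Fin n) (Fin n) F := Matrix.of fun i j => f (Pi.single i 1) (Pi.single j 1) with hA
  have hz : ∀ v, f 0 v = 0 := fun v => by
    have := hf.smul_left 0 0 v
    rwa [zero_smul, zero_mul] at this
  have hlin : ∀ u v, f u v = ∑ i, u i * f (Pi.single i 1) v := by
    intro u v
    let L : (Fin n → F) →ₗ[F] F :=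
      { toFun := fun w => f w v, map_add' := fun a b => hf.add_left a b v, map_smul' := fun c a => hf.smul_left c a v }
    calc f u v = L u := rfl
      _ = ∑ i, u i * f (Pi.single i 1) v := by
        conv_lhs => rw [← Finset.univ_sum_single u]
        rw [map_sum]
        refine Finset.sum_congr rfl fun i _ => ?_
        rw [show (Pi.single i (u i) : Fin n → F) = u i • Pi.single i 1 by
          ext k; by_cases h : k = i <;> simp [h]]
        exact hf.smul_left _ _ v
  have hfA : f = CfsgLib.Classical.Elusive.SLUnit.hForm σ A := by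
    funext u v
    rw [CfsgLib.Classical.Elusive.SLUnit.hForm, hlin]
    refine Finset.sum_congr rfl fun i _ => ?_
    congr 1
    rw [hf.herm, hlin v, ← hσ, map_sum]
    refine Finset.sum_congr rfl fun j _ => ?_
    rw [map_mul, hσ (f _ _), ← hf.herm, mul_comm]
    rfl
  have hAh : A.transpose = A.map σ := by
    ext i j
    rw [Matrix.transpose_apply, Matrix.map_apply, hA, Matrix.of_apply, Matrix.of_apply, hf.herm, hσ]
  have hAd : A.det ≠ 0 := fun h0 => by
    obtain ⟨w, hw0, hw⟩ := Matrix.exists_mulVec_eq_zero_iff.2 h0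
    have hv0 : σ ∘ w ≠ 0 := fun h => hw0 (funext fun i => (map_eq_zero σ).1 (congrFun h i))
    obtain ⟨⟨u, hu⟩, -⟩ := hf.nondegenerate (σ ∘ w) hv0
    refine hu ?_
    rw [hfA, CfsgLib.Classical.Elusive.SLUnit.hForm,
      show σ ∘ (σ ∘ w) = w from funext fun i => hinv (w i), hw, dotProduct_zero]
  rw [hfA] at hΩ ⊢
  have hq1 : 0 < Fintype.card F - 1 := by
    have := Fintype.one_lt_card (α := F); omega
  have hsq : Fintype.card F - 1 = (q₀ + 1) * (q₀ - 1) := by
    rw [hF]; simpa using Nat.sq_sub_sq q₀ 1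
  constructor
  · intro hall
    by_contra hcond
    push Not at hcond
    obtain ⟨hc1, hc2⟩ := hcond
    have hno : ∀ x : GL (Fin n) F, x ∈ Cfsg.Geo.specialLinear (Fin n) F →
        (∃ z : F, ((x ^ r : GL (Fin n) F) : Matrix (Fin n) (Fin n) F) = z • (1 : Matrix (Fin n) (Fin n) F)) →
        (∀ z : F, (x : Matrix (Fin n) (Fin n) F) ≠ z • (1 : Matrix (Fin n) (Fin n) F)) →
        ¬ CfsgLib.Classical.Elusive.SLUnit.UFixes σ A x → False := fun x h1 h2 h3 h4 => h4 (hall x h1 h2 h3)
    by_cases hr2 : r = 2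
    · subst hr2
      obtain ⟨hp2, hv⟩ := hc1 rfl
      have hchar : ringChar F ≠ 2 := by rwa [ringChar.eq F p]
      set e := padicValNat 2 (Fintype.card F - 1) with he
      obtain ⟨m, hm⟩ : 2 ^ e ∣ Fintype.card F - 1 := pow_padicValNat_dvd
      have hodd : Odd (Fintype.card F) := Nat.odd_iff.2 (FiniteField.odd_card_of_char_ne_two hchar)
      have he1 : 1 ≤ e := one_le_padicValNat_of_dvd hq1.ne' (by
        obtain ⟨t, ht⟩ := hodd; exact ⟨t, by omega⟩)
      obtain ⟨g, hg⟩ := IsCyclic.exists_generator (α := Fˣ)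
      have hgo : orderOf g = Fintype.card F - 1 := by
        rw [orderOf_eq_card_of_forall_mem_zpowers hg, Nat.card_eq_fintype_card, Fintype.card_units]
      set ζ := g ^ m with hζ
      have hm0 : 0 < m := Nat.pos_of_ne_zero fun h => by rw [h, mul_zero] at hm; omega
      have hζo : orderOf ζ = 2 ^ e := by
        rw [hζ, orderOf_pow, hgo, hm, Nat.gcd_mul_left_left, Nat.mul_div_cancel _ hm0]
      have hnsq : ¬ IsSquare (ζ : F) := fun hs => by
        rw [FiniteField.isSquare_iff hchar ζ.ne_zero] at hs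
        have h1 : 2 ^ e ∣ Fintype.card F / 2 := hζo ▸ orderOf_dvd_of_pow_eq_one (Units.ext (by simpa using hs))
        have h2 : 2 ^ (e + 1) ∣ Fintype.card F - 1 := by
          obtain ⟨t, ht⟩ := hodd
          rw [pow_succ', show Fintype.card F - 1 = 2 * (Fintype.card F / 2) by omega]
          exact mul_dvd_mul_left 2 h1
        have := (padicValNat_dvd_iff_le hq1.ne').1 h2
        omega
      have hn2 : 2 ^ (e + 1) ∣ n := (padicValNat_dvd_iff_le (by omega : n ≠ 0)).2 (by omega)
      obtain ⟨k, hk⟩ : 2 ∣ n := (dvd_pow_self 2 (by omega)).trans hn2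
      have hk2 : 2 ^ e ∣ k := by
        rw [hk, pow_succ'] at hn2
        exact Nat.dvd_of_mul_dvd_mul_left (by norm_num) hn2
      obtain ⟨x, hx2, hxdet, hxns⟩ := CfsgLib.Classical.Elusive.SLUnit.exists_sq_model (z := (ζ : F)) hk ζ.ne_zero
      refine hno x ?_ ⟨ζ, by rw [Units.val_pow_eq_pow_val]; exact hx2⟩ (hxns (by omega))
        (CfsgLib.Classical.Elusive.SLUnit.not_ufixes_nonsquare hinv hAh hAd (by omega) hσ hF hchar hnsq hx2)
      show Matrix.GeneralLinearGroup.det x = 1
      refine Units.ext ?_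
      show (x : Matrix (Fin n) (Fin n) F).det = 1
      have hke : Even k := even_iff_two_dvd.2 ((dvd_pow_self 2 (by omega)).trans hk2)
      have hζk : ζ ^ k = 1 := orderOf_dvd_iff_pow_eq_one.1 (hζo ▸ hk2)
      rw [hxdet, hke.neg_pow, ← Units.val_pow_eq_pow_val, hζk, Units.val_one]
    have hrp : r ≠ p := hr.resolve_left hr2
    obtain ⟨j, hj1, hjn, hj⟩ := CfsgLib.Classical.Elusive.SLUnit.exists_neg_power (p := p) (r := r) (q₀ := q₀)
      (by omega : 1 ≤ n) hσ hF hne hinv hAh hAd hr2 hrp hΩ
    haveI : Fact (2 < r) := ⟨lt_of_le_of_ne (Fact.out : r.Prime).two_le (Ne.symm hr2)⟩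
    by_cases hr1 : r ∣ Fintype.card F - 1
    · -- here `q₀ ≡ 1`
      have hq0 : (q₀ : ZMod r) = 1 := by
        have h1 : (q₀ : ZMod r) ^ 2 = 1 := by
          rw [← sub_eq_zero, ← Nat.cast_pow, ← Nat.cast_one, ← Nat.cast_sub (Nat.one_le_pow _ _ (by omega)),
            ZMod.natCast_eq_zero_iff, ← hF]
          exact hr1
        rcases sq_eq_one_iff.1 h1 with h | h
        · exact h
        · rw [h, neg_neg, one_pow] at hj
          exact absurd hj.symm ZMod.neg_one_ne_one
      have hr0 : r ∣ q₀ - 1 := by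
        rw [← ZMod.natCast_eq_zero_iff, Nat.cast_sub (by omega), hq0, Nat.cast_one, sub_self]
      have hfix : ∀ (m : ℕ) (u : Fˣ), m ∣ q₀ - 1 → u ^ m = 1 → σ (u : F) = u := by
        intro m u hm hu
        obtain ⟨t, ht⟩ := hm
        have h1 : u ^ q₀ = u := by
          rw [show q₀ = m * t + 1 by omega, pow_succ, pow_mul, hu, one_pow, one_mul]
        rw [hσ, ← Units.val_pow_eq_pow_val, h1]
      obtain ⟨ω, hω⟩ := exists_prime_orderOf_dvd_card (G := Fˣ) r (by rwa [Fintype.card_units])
      have hωr : ω ^ r = 1 := hω ▸ pow_orderOf_eq_one ω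
      have hω1 : ω ≠ 1 := fun h => by
        rw [h, orderOf_one] at hω; exact (Fact.out : r.Prime).ne_one hω.symm
      have hfin : ∀ v : Fin n → Fˣ, CfsgLib.Classical.Elusive.SLForm.DiagWitness r v →
          (∀ i, σ (v i : F) = v i) → False := fun v hv hvf =>
        hno _ hv.basic.1 hv.basic.2.1 hv.basic.2.2
          (CfsgLib.Classical.Elusive.SLUnit.not_ufixes_diag hinv hAh hAd (by omega) hv hvf)
      by_cases hex : n = r ∧ (r = 3 ∨ r = 5)
      · obtain ⟨hnr, hr35⟩ := hex
        have hv : r ^ 2 ∣ q₀ - 1 := by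
          rw [padicValNat_dvd_iff_le (by omega)]
          have h1 : 1 ≤ padicValNat r (q₀ - 1) := one_le_padicValNat_of_dvd (by omega) hr0
          have h1' : padicValNat r (q₀ - 1) ≠ 1 := by
            rcases hr35 with h | h
            · exact hc2 (Or.inl h) hnr
            · exact hc2 (Or.inr h) hnr
          omega
        obtain ⟨g, hg⟩ := IsCyclic.exists_generator (α := Fˣ)
        have hgo : orderOf g = Fintype.card F - 1 := by
          rw [orderOf_eq_card_of_forall_mem_zpowers hg, Nat.card_eq_fintype_card, Fintype.card_units]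
        obtain ⟨k, hk⟩ : r ^ 2 ∣ Fintype.card F - 1 := hsq ▸ dvd_mul_of_dvd_right hv _
        have hk0 : 0 < k := Nat.pos_of_ne_zero fun h => by rw [h, mul_zero] at hk; omega
        set ζ := g ^ k with hζ
        have hζo : orderOf ζ = r ^ 2 := by
          rw [hζ, orderOf_pow, hgo, hk, Nat.gcd_mul_left_left, Nat.mul_div_cancel _ hk0]
        have hζr : ζ ^ r ≠ 1 := fun h => by
          have := Nat.le_of_dvd (Fact.out : r.Prime).pos (hζo ▸ orderOf_dvd_of_pow_eq_one h)
          have := (Fact.out : r.Prime).two_le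
          nlinarith
        have hζr2 : ζ ^ (r * r) = 1 := by rw [← sq, ← hζo]; exact pow_orderOf_eq_one ζ
        obtain ⟨v, hv1, hv2⟩ := CfsgLib.Classical.Elusive.SLForm.exists_two_valued (n := n) r hr2 1 one_pos
          (by omega) (by omega) (a := ζ⁻¹ * ζ ^ r) (b := ζ⁻¹)
          (fun h => hζr (mul_eq_left.1 h)) (by rw [mul_pow, ← pow_mul, hζr2, mul_one]) (by
            rw [pow_one, hnr, mul_comm ζ⁻¹, mul_assoc, ← pow_succ', Nat.sub_add_cancel (Fact.out : r.Prime).one_le,
              inv_pow, mul_inv_cancel])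
        refine hfin v hv1 fun i => hfix (r ^ 2) (v i) hv ?_
        have h1 : ζ ^ r ^ 2 = 1 := hζo ▸ pow_orderOf_eq_one ζ
        rcases hv2 i with h | h <;> rw [h]
        · rw [mul_pow, inv_pow, h1, ← pow_mul ζ r (r ^ 2), mul_comm r, pow_mul ζ (r ^ 2) r, h1, one_pow, inv_one, mul_one]
        · rw [inv_pow, h1, inv_one]
      by_cases hr3 : r = 3
      · subst hr3
        have hn3 : n ≠ 3 := fun h => hex ⟨h, Or.inl rfl⟩
        have hn6 : n ≠ 6 := fun h => hgap ⟨h, rfl⟩
        obtain ⟨v, hv1, hv2⟩ := CfsgLib.Classical.Elusive.SLForm.exists_two_valued (n := n) 3 hr2 3 (by norm_num)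
          (by omega) (by omega) (a := ω) (b := 1) hω1 (by rw [hωr, one_pow]) (by rw [hωr, one_pow, one_mul])
        refine hfin v hv1 fun i => hfix 3 (v i) hr0 ?_
        rcases hv2 i with h | h <;> rw [h]
        · exact hωr
        · exact one_pow _
      · have hr5 : 5 ≤ r := by
          have := (Fact.out : r.Prime).two_le
          by_contra hlt
          interval_cases r
          · exact hr2 rfl
          · exact hr3 rfl
          · exact absurd (Fact.out : Nat.Prime 4) (by norm_num)
        obtain ⟨v, hv1, hv2⟩ := CfsgLib.Classical.Elusive.SLForm.exists_three_valued (n := n) r hr5 hn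
          (fun h => hex ⟨h.1.trans h.2.symm, Or.inr h.2⟩) hω
        refine hfin v hv1 fun i => hfix r (v i) hr0 ?_
        obtain ⟨t, ht⟩ := Subgroup.mem_zpowers_iff.1 (hv2 i)
        rw [← ht, ← zpow_natCast, ← zpow_mul, mul_comm, zpow_mul, zpow_natCast, hωr, one_zpow]
    · have heven : Even (orderOf (-(q₀ : ZMod r))) := by
        by_contra ho
        rw [Nat.not_even_iff_odd] at ho
        have h1 : ((-(q₀ : ZMod r)) ^ j) ^ orderOf (-(q₀ : ZMod r)) = 1 := by
          rw [← pow_mul, mul_comm, pow_mul, pow_orderOf_eq_one, one_pow]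
        rw [hj, ho.neg_one_pow] at h1
        exact ZMod.neg_one_ne_one h1
      have hin : orderOf ((Fintype.card F : ℕ) : ZMod r) ≤ n := by
        refine le_trans (Nat.le_of_dvd hj1 (orderOf_dvd_of_pow_eq_one ?_)) hjn
        rw [hF, Nat.cast_pow, ← neg_sq, ← pow_mul, mul_comm, pow_mul, hj, neg_one_sq]
      obtain ⟨x, hx1, hx2, hx3, hx4⟩ := CfsgLib.Classical.Elusive.SLUnit.bad_unit_semisimple (n := n) hinv hAh hAd
        hσ hF hrp hr1 heven hin
      exact hno x hx1 ⟨1, by rw [hx2, Units.val_one, one_smul]⟩ hx3 hx4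
  · rintro hcond x hx ⟨z, hz⟩ -
    rcases hcond with ⟨rfl, hcase⟩ | ⟨hr35, hnr, hv⟩
    · rw [Units.val_pow_eq_pow_val] at hz
      haveI : Nonempty (Fin n) := ⟨⟨0, by omega⟩⟩
      by_cases hp2 : p = 2
      · subst hp2
        exact CfsgLib.Classical.Elusive.SLUnit.ufixes_char_two hne hinv hAh hAd (by omega) hz
      have hv := hcase.resolve_left hp2
      have hchar : ringChar F ≠ 2 := by rwa [ringChar.eq F p]
      have h2 : (2 : F) ≠ 0 := Ring.two_ne_zero hchar
      have hxdet : (x : Matrix (Fin n) (Fin n) F).det = 1 := congrArg Units.val hx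
      by_cases hs : IsSquare z
      · obtain ⟨α, rfl⟩ := hs
        have hα : α ≠ 0 := fun h => by
          have hd := congrArg Matrix.det hz
          rw [Matrix.det_pow, hxdet, one_pow, h, mul_zero, zero_smul, Matrix.det_zero] at hd
          exact one_ne_zero hd
        exact CfsgLib.Classical.Elusive.SLUnit.ufixes_square hne hinv hAh hAd (by omega) h2 (α := Units.mk0 α hα)
          (by rw [hz, sq, Units.val_mk0])
      · exfalso
        obtain ⟨k, hk, hdet⟩ := CfsgLib.Classical.Elusive.SLUnit.det_of_sq_nonsquare hs hz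
        rw [hxdet] at hdet
        have hz0 : z ≠ 0 := fun h => hs (h ▸ IsSquare.zero)
        set e := padicValNat 2 (Fintype.card F - 1) with he
        have hoddq : Odd (Fintype.card F) := Nat.odd_iff.2 (FiniteField.odd_card_of_char_ne_two hchar)
        have ho : 2 ^ e ∣ orderOf z := by
          by_contra hno
          refine hs ((FiniteField.isSquare_iff hchar hz0).2 (orderOf_dvd_iff_pow_eq_one.1 ?_))
          have hd : orderOf z ∣ Fintype.card F - 1 := orderOf_dvd_of_pow_eq_one (FiniteField.pow_card_sub_one_eq_one z hz0)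
          obtain ⟨t, ht⟩ := hd
          rcases Nat.even_or_odd t with ⟨s, hs'⟩ | htodd
          · exact ⟨s, by
              subst hs'
              obtain ⟨w, hw⟩ := hoddq
              have : orderOf z * (s + s) = 2 * (orderOf z * s) := by ring
              omega⟩
          · exfalso
            refine hno (Nat.Coprime.dvd_of_dvd_mul_right (Nat.Coprime.pow_left e (Nat.coprime_two_left.2 htodd)) ?_)
            rw [← ht]; exact pow_padicValNat_dvd
        have he2 : 2 ≤ e := by
          have hodd0 : Odd q₀ := by rw [hF, Nat.odd_pow_iff two_ne_zero] at hoddq; exact hoddq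
          obtain ⟨w, hw⟩ := hodd0
          exact (padicValNat_dvd_iff_le hq1.ne').1 ⟨(w + 1) * w, by
            rw [hsq, hw, show 2 * w + 1 - 1 = 2 * w by omega]; ring⟩
        have h2k : 2 ^ e ∣ 2 * k := by
          refine ho.trans (orderOf_dvd_of_pow_eq_one ?_)
          rw [show z ^ (2 * k) = ((-z) ^ k) ^ 2 by rw [← pow_mul, mul_comm k 2, pow_mul, pow_mul, neg_sq], ← hdet, one_pow]
        have hke : Even k := by
          obtain ⟨w, hw⟩ := h2k
          refine even_iff_two_dvd.2 ⟨2 ^ (e - 2) * w, ?_⟩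
          have h4 : 2 ^ e = 2 * 2 * 2 ^ (e - 2) := by rw [show 2 * 2 = 2 ^ 2 from rfl, ← pow_add]; congr 1; omega
          rw [h4] at hw
          linarith
        have hk' : 2 ^ (e + 1) ∣ n := by
          rw [hk, pow_succ']
          refine mul_dvd_mul_left 2 (ho.trans (orderOf_dvd_of_pow_eq_one ?_))
          rw [← hke.neg_pow z, ← hdet]
        have := (padicValNat_dvd_iff_le (by omega : n ≠ 0)).1 hk'
        omega
    · have hr1 : 1 ≤ padicValNat r (q₀ - 1) := by omega
      have hr0 : r ∣ q₀ - 1 := dvd_of_one_le_padicValNat hr1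
      have hplus : padicValNat r (q₀ + 1) = 0 := padicValNat.eq_zero_of_not_dvd fun h => by
        have h2 : r ∣ 2 := by
          have := Nat.dvd_sub h hr0
          rwa [show q₀ + 1 - (q₀ - 1) = 2 by omega] at this
        have := Nat.le_of_dvd (by norm_num) h2
        rcases hr35 with rfl | rfl <;> omega
      refine CfsgLib.Classical.Elusive.SLUnit.ufixes_exceptional hne hinv hAh hAd hr35 hnr ?_ (fun a ha => ?_) hx hz
      · rw [hsq, padicValNat.mul (by omega) (by omega), hplus, hv]
      · obtain ⟨t, ht⟩ := hr0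
        rw [hσ, show q₀ = r * t + 1 by omega, pow_succ, pow_mul, ha, one_pow, one_mul]

end Cfsg.Agent.S5982
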