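import Cfsg.Statements.S5983
import Mathlib
import Cfsg.Agent.Lib.Classical.Elusive.SpQuad
-- import your own Cfsg.Agent.* helpers here

set_option autoImplicit false
open scoped MatrixGroups
open Cfsg

namespace Cfsg.Agent.S5983

/-- Elements of prime order of PSp_n(q), q even, and the subgroups of orthogonal type. Here `T = Sp_{2d}(F)` for a field `F` of characteristic 2 with `q` elements (`d ≥ 2`, `(d, q) ≠ (2, 2)`), realised as the invertible matrices preserving the standard alternating form; `Q` is a non-degenerate quadratic form on `F^{2d}` whose polar form is that alternating form, and `H` is the subgroup of `T` preserving `Q` up to a scalar (equivalently preserving `Q`) — a subgroup of type O^±_{2d}(q) (maximality is not assumed); `Q` is of plus type when `F^{2d}` contains a `d`-dimensional subspace on which `Q` vanishes, of minus type otherwise. Ω is the set of cosets of `H` in `T`, so an element of `T` of prime order `r` (`x ∈ T` with `x^r` scalar,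 `x` not scalar) fixes a point of Ω exactly when some `T`-conjugate of `x` preserves `Q`. Let `r` be a prime dividing the index of `H`. Then every element of `T` of order `r` fixes a point of Ω if and only if `r = 2` and either `Q` is of plus type or `d` is odd. -/
theorem result {F : Type*} [Field F] [Fintype F] {p : ℕ} [Fact p.Prime] [CharP F p] {q : ℕ} (hq : Fintype.card F = q)
    (hp : p = 2) (d : ℕ) (hd : 2 ≤ d) (hT : (d, q) ≠ (2, 2)) (Q : (Fin d ⊕ Fin d → F) → F) (hQ : Cfsg.Geo.IsNondegenerateQuadraticForm Q)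
    (hQf : ∀ u v, QuadraticMap.polar Q u v = Cfsg.sympForm d F u v)
    (r : ℕ) [Fact r.Prime]
    (hΩ : r ∣ (Cfsg.Geo.quadSimilarityGroup Q).relIndex (Cfsg.spGL d F)) :
    (∀ x ∈ Cfsg.spGL d F, (∃ z : F, ((x ^ r : GL (Fin d ⊕ Fin d) F) : Matrix (Fin d ⊕ Fin d) (Fin d ⊕ Fin d) F) = z • (1 : Matrix (Fin d ⊕ Fin d) (Fin d ⊕ Fin d) F)) →
      (∀ z : F, (x : Matrix (Fin d ⊕ Fin d) (Fin d ⊕ Fin d) F) ≠ z • (1 : Matrix (Fin d ⊕ Fin d) (Fin d ⊕ Fin d) F)) →
      ∃ g ∈ Cfsg.spGL d F, g⁻¹ * x * g ∈ Cfsg.Geo.quadSimilarityGroup Q) ↔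
    (r = 2 ∧ (Cfsg.Geo.IsPlusTypeOn Q ⊤ ∨ Odd d)) := by
  subst hp
  obtain ⟨M, rfl⟩ : ∃ M, d = M + 1 := ⟨d - 1, by omega⟩
  let Qf : QuadraticForm F (Fin (M + 1) ⊕ Fin (M + 1) → F) :=
    QuadraticMap.ofPolar Q (fun a x => by rw [hQ.smul, smul_eq_mul, sq])
      hQ.polar_bilinear.add_left (fun a x v => by rw [hQ.polar_bilinear.smul_left, smul_eq_mul])
  have hcoe : ∀ v, Qf v = Q v := fun v => rfl
  have hpol : CfsgLib.Classical.Elusive.Pol Qf := fun u v => by
    rw [CfsgLib.Classical.Elusive.fB_eq, ← hQf]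
    rfl
  -- a pair with `f = 1`
  obtain ⟨u₀, v₀, huv⟩ : ∃ u v, Cfsg.sympForm (M + 1) F u v ≠ 0 :=
    ⟨Pi.single (Sum.inl 0) 1, Pi.single (Sum.inr 0) 1, by
      simp [Cfsg.sympForm, Matrix.J, Matrix.fromBlocks_mulVec, dotProduct, Fintype.sum_sum_type,
        Pi.single_apply, Function.comp_def, Matrix.neg_mulVec, Matrix.one_mulVec]⟩
  have hone : ∀ z : F, z * z = 1 → z = 1 := fun z hz => by
    rcases mul_self_eq_one_iff.mp hz with h | h
    · exact h
    · rw [h, CharTwo.neg_eq]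
  have hscal : ∀ x ∈ Cfsg.spGL (M + 1) F, ∀ z : F,
      (x : Matrix (Fin (M + 1) ⊕ Fin (M + 1)) (Fin (M + 1) ⊕ Fin (M + 1)) F) = z • 1 → z = 1 := by
    intro x hx z hz
    have h := CfsgLib.Classical.Elusive.mem_spGL_iff.mp hx u₀ v₀
    rw [hz] at h
    simp only [Matrix.smul_mulVec, Matrix.one_mulVec, map_smul, LinearMap.smul_apply, smul_eq_mul,
      CfsgLib.Classical.Elusive.fB_eq] at h
    exact hone z (mul_right_cancel₀ huv (by rw [mul_assoc, h, one_mul]))
  have hH : ∀ g ∈ Cfsg.spGL (M + 1) F,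
      g ∈ Cfsg.Geo.quadSimilarityGroup Q ↔ CfsgLib.Classical.Elusive.Pres g Qf := by
    intro g hg
    constructor
    · rintro ⟨c, hc⟩ v
      have h := CfsgLib.Classical.Elusive.mem_spGL_iff.mp hg u₀ v₀
      rw [CfsgLib.Classical.Elusive.fB_eq, CfsgLib.Classical.Elusive.fB_eq, ← hQf, ← hQf] at h
      simp only [QuadraticMap.polar, ← Matrix.mulVec_add, hc] at h
      rw [← mul_sub, ← mul_sub] at h
      have hne : Q (u₀ + v₀) - Q u₀ - Q v₀ ≠ 0 := fun h0 => huv (by rw [← hQf]; exact h0)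
      rw [hcoe, hcoe, hc, mul_eq_right₀ hne |>.mp h, one_mul]
    · exact fun h => ⟨1, fun v => by rw [Units.val_one, one_mul]; exact h v⟩
  have key := CfsgLib.Classical.Elusive.conj_iff hpol hH hΩ
  have hplus : Cfsg.Geo.IsPlusTypeOn Q ⊤ ↔
      ∃ U : Submodule F (Fin (M + 1) ⊕ Fin (M + 1) → F), Module.finrank F U = M + 1 ∧ ∀ u ∈ U, Qf u = 0 := by
    have hfr : Module.finrank F (⊤ : Submodule F (Fin (M + 1) ⊕ Fin (M + 1) → F)) = 2 * (M + 1) := by
      rw [finrank_top, Module.finrank_pi, Fintype.card_sum, Fintype.card_fin]; omega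
    constructor
    · rintro ⟨U, -, hU0, hU⟩
      rw [hfr] at hU
      exact ⟨U, by omega, hU0⟩
    · rintro ⟨U, hU, hU0⟩
      exact ⟨U, le_top, hU0, by rw [hfr, hU]⟩
  rw [hplus, ← key]
  constructor
  · intro h x hx hxr hx1
    refine h x hx ⟨1, by rw [hxr]; simp⟩ fun z hz => hx1 (Units.ext ?_)
    rw [hz, hscal x hx z hz, one_smul, Units.val_one]
  · intro h x hx ⟨z, hz⟩ hx1
    refine h x hx (Units.ext ?_) fun h1 => hx1 1 (by rw [h1]; simp)
    rw [hz, hscal _ (pow_mem hx r) z hz, one_smul, Units.val_one]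

end Cfsg.Agent.S5983
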