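import Cfsg.Statements.S5984
import Cfsg.Agent.Lib.Classical22.PolarPairInvol
import Mathlib.FieldTheory.Finite.Basic
-- import your own Cfsg.Agent.* helpers here

set_option autoImplicit false
open scoped MatrixGroups
open Cfsg

namespace Cfsg.Agent.S5984

open CfsgLib.Classical22.PolarPair

/-- Elements of prime order of PSU_n(q) and the stabilizers of pairs of complementary totally singular subspaces. Here `T = PSU_n(q)` is realised through `SU_n(q)`, the matrices of determinant 1 over the field `F` with `q²` elements preserving the hermitian form `Σ uᵢ vᵢ^q`, with `n ≥ 4` even; `D` is a pair of complementary subspaces of dimension `n/2` on each of which the form vanishes identically, and `H` is the subgroup of `SU_n(q)` fixing or interchanging the two members — a subgroup of type GL_{n/2}(q²).2 (maximality is not assumed). Ω is the set of cosets of `H`, so an element of `T` of prime order `r` (`x ∈ SU_n(q)` with `x^r` scalar, `x` not scalar) fixes a point of Ω exactly when some `SU_n(q)`-conjugate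 of `x` lies in `H`. Let `r` be a prime dividing the index of `H`. Then every element of `T` of order `r` fixes a point of Ω if and only if `r = 2`, `q` is odd and `(q + 1)_2 ≤ (n)_2` (2-parts). -/
theorem result {F : Type*} [Field F] [Fintype F] {p : ℕ} [Fact p.Prime] [CharP F p] {q : ℕ} (hq : Fintype.card F = q ^ 2)
    (n : ℕ) (hn : 4 ≤ n) (he : Even n) (D : Fin 2 → Submodule F (Fin n → F)) (hD : Cfsg.Geo.IsMDecomposition (n / 2) D)
    (hDs : ∀ i, Cfsg.Geo.IsTotallySingularFor (Cfsg.hermForm n F q) (D i))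
    (r : ℕ) [Fact r.Prime]
    (hΩ : r ∣ (Cfsg.Geo.decompositionStabilizer D).relIndex (Cfsg.GU n F q ⊓ Cfsg.Geo.specialLinear (Fin n) F)) :
    (∀ x ∈ Cfsg.GU n F q ⊓ Cfsg.Geo.specialLinear (Fin n) F, (∃ z : F, ((x ^ r : GL (Fin n) F) : Matrix (Fin n) (Fin n) F) = z • (1 : Matrix (Fin n) (Fin n) F)) →
      (∀ z : F, (x : Matrix (Fin n) (Fin n) F) ≠ z • (1 : Matrix (Fin n) (Fin n) F)) →
      ∃ g ∈ Cfsg.GU n F q ⊓ Cfsg.Geo.specialLinear (Fin n) F, g⁻¹ * x * g ∈ Cfsg.Geo.decompositionStabilizer D) ↔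
    (r = 2 ∧ Odd q ∧ padicValNat 2 (q + 1) ≤ padicValNat 2 n) := by
  classical
  obtain ⟨m, rfl⟩ := he.two_dvd
  rw [show 2 * m / 2 = m by omega] at hD
  have hm : 2 ≤ m := by omega
  have hq2 := CfsgLib.Classical.two_le_q hq
  obtain ⟨k, hp, hk⟩ := FiniteField.card F p
  have hpq : p ∣ q := hp.dvd_of_dvd_pow (n := 2) (hq ▸ hk ▸ dvd_pow_self p k.ne_zero)
  have hodd_iff : Odd q ↔ p ≠ 2 := by
    constructor
    · intro ho hp2
      subst hp2
      exact Nat.not_even_iff_odd.2 ho (even_iff_two_dvd.2 hpq)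
    · intro hp2
      rcases Nat.even_or_odd q with h | h
      · exfalso
        have h2 : 2 ∣ p ^ (k : ℕ) := hk ▸ hq ▸ dvd_pow (even_iff_two_dvd.1 h) (by norm_num)
        exact hp2 ((Nat.prime_dvd_prime_iff_eq Nat.prime_two hp).1 (Nat.prime_two.dvd_of_dvd_pow h2)).symm
      · exact h
  constructor
  · intro h
    by_contra hcond
    obtain ⟨x, hgu, hsl, hz, hns, hnp⟩ : ∃ x : GL (Fin (2 * m)) F, x ∈ Cfsg.GU (2 * m) F q ∧
        x ∈ Cfsg.Geo.specialLinear (Fin (2 * m)) F ∧
        (∃ z : F, ((x ^ r : GL (Fin (2 * m)) F) : Matrix (Fin (2 * m)) (Fin (2 * m)) F) = z • 1) ∧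
        (∀ z : F, (x : Matrix (Fin (2 * m)) (Fin (2 * m)) F) ≠ z • 1) ∧
        ¬ Preserves q m (x : Matrix (Fin (2 * m)) (Fin (2 * m)) F) := by
      by_cases hrp : r = p
      · obtain ⟨x, h1, h2, h3, h4, h5⟩ := exists_transv (m := m) hq (p := p) hn hm
        exact ⟨x, h1, h2, ⟨1, by rw [hrp, h3, one_smul, Units.val_one]⟩, h4, h5⟩
      by_cases hr2 : r = 2
      · subst hr2
        have hodd : Odd q := hodd_iff.2 fun h => hrp h.symm
        exact exists_bad_invol hq hodd hn hm (not_le.1 fun hle => hcond ⟨rfl, hodd, hle⟩)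
      have hr : r.Prime := Fact.out
      have hrq : ¬ r ∣ q := fun hd => hrp ((Nat.prime_dvd_prime_iff_eq hr hp).1
        (hr.dvd_of_dvd_pow (hk ▸ hq ▸ dvd_pow hd (by norm_num))))
      have hrF : (r : F) ≠ 0 := by
        rw [Ne, CharP.cast_eq_zero_iff F p]
        exact fun hd => hrp ((Nat.prime_dvd_prime_iff_eq hp hr).1 hd).symm
      obtain ⟨j, hj, hrj⟩ : ∃ j ∈ Finset.range m, r ∣ q ^ (2 * j + 1) + 1 := by
        rcases hr.dvd_mul.1 (hΩ.trans (index_dvd hq rfl (by omega) hD hDs)) with h | h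
        · exact absurd (hr.dvd_of_dvd_pow h) hrq
        · exact hr.prime.exists_mem_finset_dvd h
      rw [Finset.mem_range] at hj
      have hQ : (q : ZMod r) ^ (2 * j + 1) = -1 := by
        have h := (ZMod.natCast_eq_zero_iff _ r).2 hrj
        rw [Nat.cast_add, Nat.cast_pow, Nat.cast_one] at h
        exact eq_neg_of_add_eq_zero_left h
      have hne : (1 : ZMod r) ≠ -1 := fun h => by
        have h' : ((2 : ℕ) : ZMod r) = 0 := by push_cast; linear_combination h
        rw [ZMod.natCast_eq_zero_iff] at h'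
        exact hr2 ((Nat.prime_dvd_prime_iff_eq hr Nat.prime_two).1 h')
      obtain ⟨e, he'⟩ : ∃ e, e = orderOf (Fintype.card F : ZMod r) := ⟨_, rfl⟩
      have hed : e ∣ 2 * j + 1 := by
        rw [he']
        refine orderOf_dvd_of_pow_eq_one ?_
        rw [hq, Nat.cast_pow, ← pow_mul, mul_comm, pow_mul, hQ, neg_one_sq]
      have heo : Odd e := (show Odd (2 * j + 1) from ⟨j, rfl⟩).of_dvd_nat hed
      have hQe : (q : ZMod r) ^ e = -1 := by
        have h1 : (q : ZMod r) ^ e * (q : ZMod r) ^ e = 1 := by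
          rw [← pow_add, ← two_mul, pow_mul, ← Nat.cast_pow, ← hq, he', pow_orderOf_eq_one]
        rcases mul_self_eq_one_iff.1 h1 with h1 | h1
        · obtain ⟨c, hc⟩ := hed
          rw [hc, pow_mul, h1, one_pow] at hQ
          exact absurd hQ hne
        · exact h1
      have hre : r ∣ q ^ e + 1 := by
        rw [← ZMod.natCast_eq_zero_iff, Nat.cast_add, Nat.cast_pow, Nat.cast_one, hQe, neg_add_cancel]
      have hele : e ≤ 2 * m := by
        have := Nat.le_of_dvd (by omega) hed
        omega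
      have he0 : e ≠ 0 := fun h0 => by rw [h0] at heo; exact absurd heo (by decide)
      by_cases he1 : e = 1
      · rw [he1, pow_one] at hre
        obtain ⟨w, hw⟩ := exists_prime_orderOf_dvd_card' (G := Fˣ) r (by
          rw [Nat.card_units, Nat.card_eq_fintype_card, hq, show q ^ 2 - 1 = (q + 1) * (q - 1) by
            rw [← Nat.sq_sub_sq, one_pow]]
          exact hre.mul_right _)
        have hwr : (w : F) ^ r = 1 := by rw [← Units.val_pow_eq_pow_val, ← hw, pow_orderOf_eq_one, Units.val_one]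
        have hw0 : (w : F) ≠ 0 := w.ne_zero
        have hw1 : (w : F) ≠ 1 := fun h => by
          rw [show w = 1 from Units.ext h, orderOf_one] at hw
          exact hr.ne_one hw.symm
        have hwq : (w : F) ^ (q + 1) = 1 := by
          obtain ⟨c, hc⟩ := hre
          rw [hc, pow_mul, hwr, one_pow]
        have hwinv : (w : F)⁻¹ ≠ (w : F) := fun h => by
          have h2 : (w : F) ^ 2 = 1 := by
            rw [sq]; nth_rewrite 1 [← h]; exact inv_mul_cancel₀ hw0
          have h3 := pow_gcd_eq_one.2 ⟨h2, hwr⟩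
          rw [Nat.Coprime.gcd_eq_one ((Nat.coprime_primes Nat.prime_two hr).2 (Ne.symm hr2)), pow_one] at h3
          exact hw1 h3
        obtain ⟨i₀, hi₀⟩ : ∃ i : Fin (2 * m), i.val = 0 := ⟨⟨0, by omega⟩, rfl⟩
        obtain ⟨i₁, hi₁⟩ : ∃ i : Fin (2 * m), i.val = 1 := ⟨⟨1, by omega⟩, rfl⟩
        have h10 : i₁ ≠ i₀ := fun h => by rw [h] at hi₁; omega
        obtain ⟨d, hd⟩ : ∃ d : Fin (2 * m) → F, ∀ i, d i = if i = i₀ then (w : F) else if i = i₁ then (w : F)⁻¹ else 1 :=
          ⟨_, fun i => rfl⟩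
        have hdr : ∀ i, d i ^ r = 1 := fun i => by
          rw [hd]; split_ifs <;> simp [hwr, inv_pow]
        obtain ⟨x, h1, h2, h3, h4⟩ := exists_line (m := m) hq (d := d) (fun i => by
            rw [hd]; split_ifs <;> simp [hwq, inv_pow])
          (by
            rw [Finset.prod_eq_mul i₀ i₁ h10.symm (fun c _ hc => by rw [hd, if_neg hc.1, if_neg hc.2])
              (fun h => absurd (Finset.mem_univ _) h) (fun h => absurd (Finset.mem_univ _) h), hd, hd, if_pos rfl,
              if_neg h10, if_pos rfl, mul_inv_cancel₀ hw0])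
          (i₀ := i₀) (fun i hi => by
            rw [hd, hd, if_neg hi, if_pos rfl]
            split_ifs
            · exact hwinv
            · exact Ne.symm hw1) hm (Or.inl ⟨r, 1, hr.odd_of_ne_two hr2, one_ne_zero, hdr⟩)
        refine ⟨x, h1, h2, ⟨1, ?_⟩, fun z hz => ?_, h4⟩
        · rw [Units.val_pow_eq_pow_val, h3, Matrix.diagonal_pow, one_smul, Matrix.diagonal_eq_one]
          funext i
          exact hdr i
        · rw [h3, Matrix.smul_one_eq_diagonal] at hz
          have ed := Matrix.diagonal_injective hz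
          have e0 := congrFun ed i₀
          have e1 := congrFun ed i₁
          rw [hd, if_pos rfl] at e0
          rw [hd, if_neg h10, if_pos rfl] at e1
          exact hwinv (e1.trans e0.symm)
      · obtain ⟨x, h1, h2, h3, h4, h5⟩ := exists_block (n := 2 * m) (m := m) hq (r := r) hr2 hrF he' (by omega) hele (by omega) (by
          rw [CfsgLib.Classical.card_gu hq e, CfsgLib.Classical.unitaryOrder]
          refine dvd_mul_of_dvd_right (hre.trans ?_) _
          refine dvd_trans ?_ (Finset.dvd_prod_of_mem _ (Finset.mem_range.2 (show e - 1 < e by omega)))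
          rw [show e - 1 + 1 = e by omega, if_pos (by obtain ⟨c, hc⟩ := heo; exact ⟨c, by omega⟩)])
        exact ⟨x, h1, h2, ⟨1, by rw [h3, one_smul, Units.val_one]⟩, h4, h5⟩
    obtain ⟨g, hg, hgx⟩ := h x ⟨hgu, hsl⟩ hz hns
    exact hnp (preserves_of_conj hD hDs hg.1 hgx)
  · rintro ⟨rfl, hodd, hv⟩ x hx ⟨z, hz⟩ -
    exact invol_mem hq hodd rfl (by omega) hD hDs hv x hx hz

end Cfsg.Agent.S5984
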