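import Cfsg.Statements.S5988
import Cfsg.Agent.Lib.Classical22.OrthTypeRows
import Cfsg.Agent.Lib.Classical22.OrthTypeUnipotentRows
-- import your own Cfsg.Agent.* helpers here

set_option autoImplicit false
open scoped MatrixGroups
open Cfsg

namespace Cfsg.Agent.S5988

open CfsgLib.Classical22.OrthType in

/-- Elements of prime order of PΩ⁺_n(q) with no fixed elliptic `m`-space. Here `T = PΩ⁺_n(F)`, `n = 2d ≥ 8`, realised through `Ω⁺_n(q)`, the commutator subgroup of the isometry group of `Q = Σ xᵢyᵢ` over the field `F` with `q` elements; an element of `T` of prime order `r` is an element `x` of `Ω⁺_n(q)` with `x^r` scalar and `x` not scalar; a nondegenerate `m`-space (even `m`) is a subspace on which the polar form of `Q` is nondegenerate; it is hyperbolic if it contains an `m/2`-dimensional subspace on which `Q` vanishes, elliptic otherwise. Let `m` be even with `2 ≤ m < n/2` and let `r` be a prime dividing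 the number of elliptic `m`-spaces; for `r ≠ p` let `i` be the multiplicative order of `q` modulo `r`, `c = i` for `i` even and `c = 2i` for `i` odd, and write `k = n mod c`, `ℓ = m mod i`, `ℓ' = m mod c`, `n' = ⌊n/i⌋`, `m' = ⌊m/i⌋`, `t = (r−1)/i`. Then every element of `T` of order `r` fixes some elliptic `m`-space if and only if one of: (i) `r = 2 ≠ p` and either `n ≡ 0 (mod 4)`, `q ≡ 3 (mod 4)` and `m ≡ 2 (mod 4)`, or `n ≡ 2 (mod 4)` and `q ≢ 1 (mod 8)`; (ii) `r ≠ p` odd, `i` odd, `c ≤ m` and `k > ℓ' > 0`; (iii) `r ≠ p` odd, `i` even, and either `k = 0` and (`n/i` odd, or `ℓ' = 0` and `m/i` odd), or `i ≤ m` and (`k > ℓ' > 0`, or `k = ℓ' > 0` and `(n + m − 2k)/i` odd, or `k > ℓ' = 0` and `m/i` odd). (For `r = p` there is always an element of order `p` fixing no elliptic `m`-space.) -/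
theorem result {F : Type*} [Field F] [Fintype F] {p : ℕ} [Fact p.Prime] [CharP F p] {q : ℕ} (hq : Fintype.card F = q)
    (d m : ℕ) (hd : 4 ≤ d) (hm : 2 ≤ m) (hme : Even m) (hmd : m < d)
    (r : ℕ) [Fact r.Prime]
    (hrΩ : r ∣ Nat.card {W : Submodule F (Fin d ⊕ Fin d → F) // Module.finrank F ↥W = m ∧ Cfsg.Geo.IsNondegenerateOn (QuadraticMap.polar (Cfsg.quadFormPlus d F)) W ∧ ¬ Cfsg.Geo.IsPlusTypeOn (Cfsg.quadFormPlus d F) W})
    (i c : ℕ) (hi : i = orderOf (q : ZMod r)) (hc : c = if Even i then i else 2 * i) :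
    (∀ x : GL (Fin d ⊕ Fin d) F, x ∈ Cfsg.Geo.omegaGL (Cfsg.quadFormPlus d F) →
      (∃ z : F, ((x ^ r : GL (Fin d ⊕ Fin d) F) : Matrix (Fin d ⊕ Fin d) (Fin d ⊕ Fin d) F) = z • (1 : Matrix (Fin d ⊕ Fin d) (Fin d ⊕ Fin d) F)) →
      (∀ z : F, (x : Matrix (Fin d ⊕ Fin d) (Fin d ⊕ Fin d) F) ≠ z • (1 : Matrix (Fin d ⊕ Fin d) (Fin d ⊕ Fin d) F)) →
      ∃ W : Submodule F (Fin d ⊕ Fin d → F), (Module.finrank F ↥W = m ∧ Cfsg.Geo.IsNondegenerateOn (QuadraticMap.polar (Cfsg.quadFormPlus d F)) W ∧ ¬ Cfsg.Geo.IsPlusTypeOn (Cfsg.quadFormPlus d F) W) ∧ W.map (Matrix.toLin' (x : Matrix (Fin d ⊕ Fin d) (Fin d ⊕ Fin d) F)) ≤ W) ↔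
    ((r = 2 ∧ p ≠ 2 ∧ ((Even d ∧ q % 4 = 3 ∧ m % 4 = 2) ∨ (Odd d ∧ q % 8 ≠ 1))) ∨
     (r ≠ p ∧ 2 < r ∧ Odd i ∧ c ≤ m ∧ 0 < m % c ∧ m % c < (2 * d) % c) ∨
     (r ≠ p ∧ 2 < r ∧ Even i ∧
       (((2 * d) % c = 0 ∧ (Odd ((2 * d) / i) ∨ (m % c = 0 ∧ Odd (m / i)))) ∨
        (i ≤ m ∧ ((0 < m % c ∧ m % c < (2 * d) % c) ∨
                  (0 < m % c ∧ m % c = (2 * d) % c ∧ Odd ((2 * d + m - 2 * ((2 * d) % c)) / i)) ∨
                  (m % c = 0 ∧ 0 < (2 * d) % c ∧ Odd (m / i))))))) := by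
  simp only [← CfsgLib.Classical.coe_qPlus] at hrΩ ⊢
  obtain ⟨Q, hQdef⟩ : ∃ Q, Q = CfsgLib.Classical.qPlus d F := ⟨_, rfl⟩
  have hQ : CfsgLib.Classical.PolarNondeg Q := hQdef ▸ CfsgLib.Classical.polarNondeg_qPlus d
  have hQs : Sg Q 1 := hQdef ▸ sg_qPlus d
  rw [← hQdef] at hrΩ ⊢
  have hn : Module.finrank F (Fin d ⊕ Fin d → F) = 2 * d := finrank_qPlus d
  rw [bridge_scalar (Q := Q), Nat.card_congr (Equiv.subtypeEquivRight fun W => elliptic_iff (Q := Q) hme)] at *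
  simp only [elliptic_iff (Q := Q) hme]
  by_cases hrp : r = p
  · subst hrp
    refine iff_of_false (fun h => ?_) (by rintro (⟨h, h', -⟩ | ⟨h, -⟩ | ⟨h, -⟩) <;> omega)
    obtain ⟨g, hg, hgp, hns, hW⟩ := unipotent_plus (p := r) hQ hQs hn (by omega)
    obtain ⟨W, ⟨hWd, hWn, hWs⟩, hWi⟩ := h g hg ⟨1, fun v => by rw [hgp, one_smul]; rfl⟩ hns
    exact absurd (sg_unique hWs (hW W hWi hWn (hWd ▸ hme))) (by norm_num)
  by_cases hr2 : r = 2
  · subst hr2
    have hp : p ≠ 2 := Ne.symm hrp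
    have hodd : Odd q := odd_card_of_ne_two hq hp
    obtain ⟨k, rfl⟩ := hme
    rw [show k + k = 2 * k by ring, two_nd_even (two_ne_zero_of_odd hq hodd) hQ hQs hn (by omega) (by omega)
      (by omega) (Or.inr rfl), sq_two_iff hq]
    have hη := eta_iff hq hodd
    simp only [hp, ne_eq, not_false_eq_true, true_and, lt_self_iff_false, false_and, and_false, or_false]
    obtain ⟨u, rfl⟩ := hodd
    rcases eta_pm (F := F) with he | he <;> simp only [he, true_iff, iff_true, reduceCtorEq, false_iff, Int.reduceNeg,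
      one_pow] at hη ⊢ <;>
      rcases Nat.even_or_odd d with hd' | hd' <;> rcases Nat.even_or_odd k with hk' | hk' <;>
      simp [hd', hk', Nat.not_odd_iff_even.2, Nat.not_even_iff_odd.2] <;>
      simp only [Nat.even_iff, Nat.odd_iff] at * <;> omega
  have hr3 : 2 < r := lt_of_le_of_ne (Fact.out : r.Prime).two_le (Ne.symm hr2)
  rw [reduce_scalar hQ (by omega) hr2]
  obtain ⟨C, hCi, hCt, hrq⟩ := exists_ctx (F := F) hq hr2 hrp hi
  have h2 : Odd (Module.finrank F (Fin d ⊕ Fin d → F)) → (2 : F) ≠ 0 := fun h =>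
    absurd h (Nat.not_odd_iff_even.2 (hn ▸ even_two_mul d))
  have hwin := nd_window (C := C) (hq ▸ hrq) hQ h2 (fun _ => hQs) (Or.inl rfl) hme (by omega) (by omega)
    (εW := -1) (Or.inr rfl) hrΩ
  rw [nd_all (C := C) hQ h2 (fun _ => hQs) hme (by omega) (by omega) (Or.inr rfl)]
  rw [hn, mul_one, hCi] at hwin ⊢
  rw [arith_plus_minus (hCi ▸ C.pos) hc (by omega) hwin]
  simp [hr2, hr3, hrp]

end Cfsg.Agent.S5988
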