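import Cfsg.Statements.S5990
import Cfsg.Agent.Lib.Classical22.OrthTypeRows
import Cfsg.Agent.Lib.Classical22.OrthTypeUnipotentRows
import Cfsg.Agent.Lib.Classical22.OrthTypeCharTwo
-- import your own Cfsg.Agent.* helpers here

set_option autoImplicit false
open scoped MatrixGroups
open Cfsg

namespace Cfsg.Agent.S5990

open CfsgLib.Classical22.OrthType in

/-- Elements of prime order of PΩ⁻_n(q) with no fixed elliptic `m`-space. Here `T = PΩ⁻_n(F)`, `n = 2d ≥ 8`, realised through `Ω⁻_n(q)`, the commutator subgroup of the isometry group of `Q = Σ_{i<d−1} xᵢyᵢ + z₁² + a z₁z₂ + b z₂²` with `z₁² + a z₁z₂ + b z₂²` anisotropic, over the field `F` with `q` elements; an element of `T` of prime order `r` is an element `x` of `Ω⁻_n(q)` with `x^r` scalar and `x` not scalar; a nondegenerate `m`-space (even `m`) is a subspace on which the polar form of `Q` is nondegenerate; it is hyperbolic if it contains an `m/2`-dimensional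 subspace on which `Q` vanishes, elliptic otherwise. Let `m` be even with `2 ≤ m ≤ n − 2` (no restriction `m < n/2`: fixing an elliptic `m`-space is the same as fixing its hyperbolic orthogonal complement) and let `r` be a prime dividing the number of elliptic `m`-spaces, with `r = 2` or `r ≠ p`; for `r ≠ p` let `i` be the multiplicative order of `q` modulo `r`, `c = i` for `i` even and `c = 2i` for `i` odd, and write `k = n mod c`, `ℓ = m mod i`, `ℓ' = m mod c`, `n' = ⌊n/i⌋`, `m' = ⌊m/i⌋`, `t = (r−1)/i`. Then every element of `T` of order `r` fixes some elliptic `m`-space if and only if one of: (i) `r = p = 2` and (`n ≡ 0 (mod 4)` or `m ≡ 2 (mod 4)`); (ii) `r = 2 ≠ p` and (`n ≡ 0 (mod 4)`, or `q ≢ 7 (mod 8)`, or `m ≡ 2 (mod 4)`); (iii) `r ≠ p` odd, `i` odd, and `k = 0` or (`c ≤ m` and `k ≥ ℓ' > 0`); (iv) `r ≠ p` odd, `i` even, and either `k = 0` and (`n/i` even, or `ℓ' = 0` and `m/i` odd), or `k > 0`,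 `i ≤ m` and (`k > ℓ' > 0`, or `ℓ' = 0` and `m/i` odd, or `k = ℓ'` and `(n + m − 2k)/i` even). (Odd `r = p` is not covered by this statement.) -/
theorem result {F : Type*} [Field F] [Fintype F] {p : ℕ} [Fact p.Prime] [CharP F p] {q : ℕ} (hq : Fintype.card F = q)
    (d m : ℕ) (hd : 4 ≤ d) (hm : 2 ≤ m) (hme : Even m) (hmn : m + 2 ≤ 2 * d) (a b : F) (hab : ∀ x y : F, x ^ 2 + a * x * y + b * y ^ 2 = 0 → x = 0 ∧ y = 0)
    (r : ℕ) [Fact r.Prime] (hr : r = 2 ∨ r ≠ p)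
    (hrΩ : r ∣ Nat.card {W : Submodule F ((Fin (d - 1) ⊕ Fin (d - 1)) ⊕ Fin 2 → F) // Module.finrank F ↥W = m ∧ Cfsg.Geo.IsNondegenerateOn (QuadraticMap.polar (Cfsg.quadFormMinus (d - 1) F a b)) W ∧ ¬ Cfsg.Geo.IsPlusTypeOn (Cfsg.quadFormMinus (d - 1) F a b) W})
    (i c : ℕ) (hi : i = orderOf (q : ZMod r)) (hc : c = if Even i then i else 2 * i) :
    (∀ x : GL ((Fin (d - 1) ⊕ Fin (d - 1)) ⊕ Fin 2) F, x ∈ Cfsg.Geo.omegaGL (Cfsg.quadFormMinus (d - 1) F a b) →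
      (∃ z : F, ((x ^ r : GL ((Fin (d - 1) ⊕ Fin (d - 1)) ⊕ Fin 2) F) : Matrix ((Fin (d - 1) ⊕ Fin (d - 1)) ⊕ Fin 2) ((Fin (d - 1) ⊕ Fin (d - 1)) ⊕ Fin 2) F) = z • (1 : Matrix ((Fin (d - 1) ⊕ Fin (d - 1)) ⊕ Fin 2) ((Fin (d - 1) ⊕ Fin (d - 1)) ⊕ Fin 2) F)) →
      (∀ z : F, (x : Matrix ((Fin (d - 1) ⊕ Fin (d - 1)) ⊕ Fin 2) ((Fin (d - 1) ⊕ Fin (d - 1)) ⊕ Fin 2) F) ≠ z • (1 : Matrix ((Fin (d - 1) ⊕ Fin (d - 1)) ⊕ Fin 2) ((Fin (d - 1) ⊕ Fin (d - 1)) ⊕ Fin 2) F)) →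
      ∃ W : Submodule F ((Fin (d - 1) ⊕ Fin (d - 1)) ⊕ Fin 2 → F), (Module.finrank F ↥W = m ∧ Cfsg.Geo.IsNondegenerateOn (QuadraticMap.polar (Cfsg.quadFormMinus (d - 1) F a b)) W ∧ ¬ Cfsg.Geo.IsPlusTypeOn (Cfsg.quadFormMinus (d - 1) F a b) W) ∧ W.map (Matrix.toLin' (x : Matrix ((Fin (d - 1) ⊕ Fin (d - 1)) ⊕ Fin 2) ((Fin (d - 1) ⊕ Fin (d - 1)) ⊕ Fin 2) F)) ≤ W) ↔
    ((r = 2 ∧ p = 2 ∧ (Even d ∨ m % 4 = 2)) ∨
     (r = 2 ∧ p ≠ 2 ∧ (Even d ∨ q % 8 ≠ 7 ∨ m % 4 = 2)) ∨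
     (r ≠ p ∧ 2 < r ∧ Odd i ∧ ((2 * d) % c = 0 ∨ (c ≤ m ∧ 0 < m % c ∧ m % c ≤ (2 * d) % c))) ∨
     (r ≠ p ∧ 2 < r ∧ Even i ∧
       (((2 * d) % c = 0 ∧ (Even ((2 * d) / i) ∨ (m % c = 0 ∧ Odd (m / i)))) ∨
        (0 < (2 * d) % c ∧ i ≤ m ∧ ((0 < m % c ∧ m % c < (2 * d) % c) ∨ (m % c = 0 ∧ Odd (m / i)) ∨
                                    (m % c = (2 * d) % c ∧ Even ((2 * d + m - 2 * ((2 * d) % c)) / i))))))) := by
  simp only [← CfsgLib.Classical.coe_qExt_qBin] at hrΩ ⊢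
  obtain ⟨Q, hQdef⟩ : ∃ Q, Q = CfsgLib.Classical.qExt (d - 1) (CfsgLib.Classical.qBin a b) := ⟨_, rfl⟩
  have hQ : CfsgLib.Classical.PolarNondeg Q :=
    hQdef ▸ CfsgLib.Classical.polarNondeg_qExt (CfsgLib.Classical.polarNondeg_qBin hab) (d - 1)
  have hQs : Sg Q (-1) := hQdef ▸ sg_qMinus (by omega) hab
  rw [← hQdef] at hrΩ ⊢
  have hn : Module.finrank F ((Fin (d - 1) ⊕ Fin (d - 1)) ⊕ Fin 2 → F) = 2 * d := finrank_qMinus (by omega)
  rw [bridge_scalar (Q := Q), Nat.card_congr (Equiv.subtypeEquivRight fun W => elliptic_iff (Q := Q) hme)] at *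
  simp only [elliptic_iff (Q := Q) hme]
  by_cases hr2 : r = 2
  · subst hr2
    obtain ⟨k, rfl⟩ := hme
    rw [show k + k = 2 * k by ring] at *
    by_cases hp : p = 2
    · subst hp
      simp only [ne_eq, not_true_eq_false, lt_self_iff_false, false_and, and_false, or_false, true_and]
      constructor
      · intro h
        by_contra hcon
        push Not at hcon
        obtain ⟨l, rfl⟩ : Odd d := Nat.not_even_iff_odd.1 hcon.1
        obtain ⟨g, hg, hgp, hns, hW⟩ := unipotent_plane (p := 2) (l := l) hQ hQs (by omega) (by omega)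
        obtain ⟨W, ⟨hWd, hWn, hWs⟩, hWi⟩ := h g hg ⟨1, fun v => by rw [hgp, one_smul]; rfl⟩ hns
        have h4 := (hW W hWi hWn).2 (by omega)
        exact absurd (sg_unique hWs h4) (by norm_num)
      · intro hc g _ ⟨z, hz⟩ _
        exact two_char_two CharTwo.two_eq_zero hQ hQs hn (by omega) (by omega)
          (Or.inr ⟨rfl, by rw [Nat.odd_iff]; rcases hc with h | h; exacts [Or.inl h, Or.inr (by omega)]⟩) g hz
    · have hodd : Odd q := odd_card_of_ne_two hq hp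
      rw [two_nd_even (two_ne_zero_of_odd hq hodd) hQ hQs hn (by omega) (by omega)
        (by omega) (Or.inr rfl), sq_two_iff hq]
      have hη := eta_iff hq hodd
      simp only [hp, ne_eq, not_false_eq_true, true_and, lt_self_iff_false, false_and, and_false, or_false,
        false_or]
      obtain ⟨u, rfl⟩ := hodd
      rcases eta_pm (F := F) with he | he <;> simp only [he, true_iff, iff_true, reduceCtorEq, false_iff,
        Int.reduceNeg, one_pow] at hη ⊢ <;>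
        rcases Nat.even_or_odd d with hd' | hd' <;> rcases Nat.even_or_odd k with hk' | hk' <;>
        simp [hd', hk', Nat.not_odd_iff_even.2, Nat.not_even_iff_odd.2] <;>
        simp only [Nat.even_iff, Nat.odd_iff] at * <;> omega
  have hrp : r ≠ p := hr.resolve_left hr2
  have hr3 : 2 < r := lt_of_le_of_ne (Fact.out : r.Prime).two_le (Ne.symm hr2)
  rw [reduce_scalar hQ (by omega) hr2]
  obtain ⟨C, hCi, hCt, hrq⟩ := exists_ctx (F := F) hq hr2 hrp hi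
  have h2 : Odd (Module.finrank F ((Fin (d - 1) ⊕ Fin (d - 1)) ⊕ Fin 2 → F)) → (2 : F) ≠ 0 := fun h =>
    absurd h (Nat.not_odd_iff_even.2 (hn ▸ even_two_mul d))
  have hwin := nd_window (C := C) (hq ▸ hrq) hQ h2 (fun _ => hQs) (Or.inr rfl) hme (by omega) (by omega)
    (εW := -1) (Or.inr rfl) hrΩ
  rw [nd_all (C := C) hQ h2 (fun _ => hQs) hme (by omega) (by omega) (Or.inr rfl)]
  rw [hn, neg_one_mul, neg_neg, hCi] at hwin ⊢
  rw [arith_minus_minus (hCi ▸ C.pos) hc (by omega) hwin]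
  simp [hr2, hr3, hrp]

end Cfsg.Agent.S5990
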