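import Cfsg.Statements.S5991
import Cfsg.Agent.Lib.Classical22.OrthTypeRows
import Cfsg.Agent.Lib.Classical22.OrthTypeUnipotentRows
-- import your own Cfsg.Agent.* helpers here

set_option autoImplicit false
open scoped MatrixGroups
open Cfsg

namespace Cfsg.Agent.S5991

open CfsgLib.Classical22.OrthType in

/-- Elements of prime order of PΩ⁻_n(q), q odd, with no fixed nondegenerate `m`-space of odd dimension. Here `T = PΩ⁻_n(F)`, `n = 2d ≥ 8`, realised through `Ω⁻_n(q)`, the commutator subgroup of the isometry group of `Q = Σ_{i<d−1} xᵢyᵢ + z₁² + a z₁z₂ + b z₂²` with `z₁² + a z₁z₂ + b z₂²` anisotropic, over the field `F` with `q` elements; an element of `T` of prime order `r` is an element `x` of `Ω⁻_n(q)` with `x^r` scalar and `x` not scalar; `q` and `m` are odd, `1 ≤ m < n/2`. The nondegenerate `m`-spaces fall into two isometry classes, each an orbit of `T`, with equivalent actions; fix one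 such space `W₀` and let Ω be the set of nondegenerate `m`-spaces isometric to `W₀`. Let `r` be a prime dividing the size of Ω; for `r ≠ p` let `i` be the multiplicative order of `q` modulo `r`, `c = i` for `i` even and `c = 2i` for `i` odd, and write `k = n mod c`, `ℓ = m mod i`, `ℓ' = m mod c`, `n' = ⌊n/i⌋`, `m' = ⌊m/i⌋`, `t = (r−1)/i`. Then every element of `T` of order `r` fixes a member of Ω if and only if one of: (i) `r = 2` and (`n ≡ 0 (mod 4)` or `q ≢ 7 (mod 8)`); (ii) `r ≠ p` odd, `i` odd, and `k = 0` or (`c ≤ m` and `k > ℓ' > 0`); (iii) `r ≠ p` odd, `i` even, and either `k = 0` and `n/i` even, or `k > 0`, `i ≤ m` and `k > ℓ' > 0`. (For `r = p` there is always an element of order `p` fixing no member of Ω.) -/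
theorem result {F : Type*} [Field F] [Fintype F] {p : ℕ} [Fact p.Prime] [CharP F p] {q : ℕ} (hq : Fintype.card F = q)
    (hodd : Odd q) (d m : ℕ) (hd : 4 ≤ d) (hm : Odd m) (hmd : m < d) (a b : F) (hab : ∀ x y : F, x ^ 2 + a * x * y + b * y ^ 2 = 0 → x = 0 ∧ y = 0)
    (W₀ : Submodule F ((Fin (d - 1) ⊕ Fin (d - 1)) ⊕ Fin 2 → F)) (hW₀ : Module.finrank F ↥W₀ = m ∧ Cfsg.Geo.IsNondegenerateOn (QuadraticMap.polar (Cfsg.quadFormMinus (d - 1) F a b)) W₀)
    (r : ℕ) [Fact r.Prime]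
    (hrΩ : r ∣ Nat.card {W : Submodule F ((Fin (d - 1) ⊕ Fin (d - 1)) ⊕ Fin 2 → F) // Module.finrank F ↥W = m ∧ Cfsg.Geo.IsNondegenerateOn (QuadraticMap.polar (Cfsg.quadFormMinus (d - 1) F a b)) W ∧ Cfsg.Geo.AreIsometricFor (Cfsg.quadFormMinus (d - 1) F a b) W W₀})
    (i c : ℕ) (hi : i = orderOf (q : ZMod r)) (hc : c = if Even i then i else 2 * i) :
    (∀ x : GL ((Fin (d - 1) ⊕ Fin (d - 1)) ⊕ Fin 2) F, x ∈ Cfsg.Geo.omegaGL (Cfsg.quadFormMinus (d - 1) F a b) →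
      (∃ z : F, ((x ^ r : GL ((Fin (d - 1) ⊕ Fin (d - 1)) ⊕ Fin 2) F) : Matrix ((Fin (d - 1) ⊕ Fin (d - 1)) ⊕ Fin 2) ((Fin (d - 1) ⊕ Fin (d - 1)) ⊕ Fin 2) F) = z • (1 : Matrix ((Fin (d - 1) ⊕ Fin (d - 1)) ⊕ Fin 2) ((Fin (d - 1) ⊕ Fin (d - 1)) ⊕ Fin 2) F)) →
      (∀ z : F, (x : Matrix ((Fin (d - 1) ⊕ Fin (d - 1)) ⊕ Fin 2) ((Fin (d - 1) ⊕ Fin (d - 1)) ⊕ Fin 2) F) ≠ z • (1 : Matrix ((Fin (d - 1) ⊕ Fin (d - 1)) ⊕ Fin 2) ((Fin (d - 1) ⊕ Fin (d - 1)) ⊕ Fin 2) F)) →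
      ∃ W : Submodule F ((Fin (d - 1) ⊕ Fin (d - 1)) ⊕ Fin 2 → F), (Module.finrank F ↥W = m ∧ Cfsg.Geo.IsNondegenerateOn (QuadraticMap.polar (Cfsg.quadFormMinus (d - 1) F a b)) W ∧ Cfsg.Geo.AreIsometricFor (Cfsg.quadFormMinus (d - 1) F a b) W W₀) ∧ W.map (Matrix.toLin' (x : Matrix ((Fin (d - 1) ⊕ Fin (d - 1)) ⊕ Fin 2) ((Fin (d - 1) ⊕ Fin (d - 1)) ⊕ Fin 2) F)) ≤ W) ↔
    ((r = 2 ∧ (Even d ∨ q % 8 ≠ 7)) ∨
     (r ≠ p ∧ 2 < r ∧ Odd i ∧ ((2 * d) % c = 0 ∨ (c ≤ m ∧ 0 < m % c ∧ m % c < (2 * d) % c))) ∨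
     (r ≠ p ∧ 2 < r ∧ Even i ∧ (((2 * d) % c = 0 ∧ Even ((2 * d) / i)) ∨ (0 < (2 * d) % c ∧ i ≤ m ∧ 0 < m % c ∧ m % c < (2 * d) % c)))) := by
  have hF : (2 : F) ≠ 0 := two_ne_zero_of_odd hq hodd
  simp only [← CfsgLib.Classical.coe_qExt_qBin] at hW₀ hrΩ ⊢
  obtain ⟨Q, hQdef⟩ : ∃ Q, Q = CfsgLib.Classical.qExt (d - 1) (CfsgLib.Classical.qBin a b) := ⟨_, rfl⟩
  have hQ : CfsgLib.Classical.PolarNondeg Q :=
    hQdef ▸ CfsgLib.Classical.polarNondeg_qExt (CfsgLib.Classical.polarNondeg_qBin hab) (d - 1)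
  have hQs : Sg Q (-1) := hQdef ▸ sg_qMinus (by omega) hab
  rw [← hQdef] at hW₀ hrΩ ⊢
  have hn : Module.finrank F ((Fin (d - 1) ⊕ Fin (d - 1)) ⊕ Fin 2 → F) = 2 * d := finrank_qMinus (by omega)
  have hW₀n := (isNondegenerateOn_iff (Q := Q)).1 hW₀.2
  have hset : ∀ W : Submodule F ((Fin (d - 1) ⊕ Fin (d - 1)) ⊕ Fin 2 → F), (Module.finrank F W = m ∧
      Cfsg.Geo.IsNondegenerateOn (QuadraticMap.polar Q) W ∧ Cfsg.Geo.AreIsometricFor ⇑Q W W₀) ↔
      Isom (res Q W₀) (res Q W) := fun W => by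
    rw [areIsometric_iff, isNondegenerateOn_iff]
    exact ⟨fun h => h.2.2, fun h => ⟨h.finrank_eq.symm.trans hW₀.1, polarNondeg_of_isom h hW₀n, h⟩⟩
  rw [bridge_scalar (Q := Q), Nat.card_congr (Equiv.subtypeEquivRight hset)] at *
  simp only [hset]
  obtain ⟨hWd, -⟩ := hW₀
  by_cases hrp : r = p
  · subst hrp
    have hp : r ≠ 2 := fun h => Nat.not_even_iff_odd.2 hodd (even_card_of_two hq h)
    refine iff_of_false (fun h => ?_) (by simp [hp])
    have fin : ∀ g : CfsgLib.Classical.qAut Q, g ∈ commutator (CfsgLib.Classical.qAut Q) → g ^ r = 1 →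
        (∀ z : F, ∃ v, g.1 v ≠ z • v) → (∀ W : Submodule F ((Fin (d - 1) ⊕ Fin (d - 1)) ⊕ Fin 2 → F), (∀ w ∈ W, g.1 w ∈ W) →
          Isom (res Q W₀) (res Q W) → False) → False := fun g hg hgp hns hW => by
      obtain ⟨W, hi, hWi⟩ := h g hg ⟨1, fun v => by rw [hgp, one_smul]; rfl⟩ hns
      exact hW W hWi hi
    have hm4 : m % 2 = 1 := Nat.odd_iff.1 hm
    rcases Nat.even_or_odd' d with ⟨l, rfl | rfl⟩
    · obtain ⟨g, hg, hgp, hns, hW⟩ := unipotent_class (p := r) (l := l - 1) hp hQ hQs (by omega) (by omega) hW₀n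
        (hWd.symm ▸ hm)
      exact fin g hg hgp hns hW
    · by_cases h4 : m % 4 = 3
      · obtain ⟨g, hg, hgp, hns, hW⟩ := unipotent_plane (p := r) (l := l) hQ hQs (by omega) (by omega)
        refine fin g hg hgp hns fun W hWi hi => ?_
        have := (hW W hWi (polarNondeg_of_isom hi hW₀n)).1
        rw [← hi.finrank_eq, hWd] at this
        exact this h4
      · obtain ⟨g, hg, hgp, hns, hW⟩ := unipotent_pair (p := r) (l := l - 1) hp hQ hQs (by omega)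
        refine fin g hg hgp hns fun W hWi hi => ?_
        have := hW W hWi (polarNondeg_of_isom hi hW₀n)
        rw [← hi.finrank_eq, hWd] at this
        omega
  by_cases hr2 : r = 2
  · subst hr2
    rw [two_nd_class hF hQ hQs hn (by omega) hW₀n (hWd.symm ▸ hm) (hWd.symm ▸ hmd), sq_two_iff hq]
    have hη := eta_iff hq hodd
    simp only [true_and, lt_self_iff_false, false_and, and_false, or_false]
    obtain ⟨u, rfl⟩ := hodd
    rcases eta_pm (F := F) with he | he <;> simp only [he, true_iff, iff_true, reduceCtorEq, false_iff, Int.reduceNeg,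
      one_pow] at hη ⊢ <;>
      rcases Nat.even_or_odd d with hd' | hd' <;>
      simp [hd', Nat.not_odd_iff_even.2, Nat.not_even_iff_odd.2] <;>
      simp only [Nat.even_iff, Nat.odd_iff] at * <;> omega
  have hr3 : 2 < r := lt_of_le_of_ne (Fact.out : r.Prime).two_le (Ne.symm hr2)
  rw [reduce_scalar hQ (by omega) hr2]
  obtain ⟨C, hCi, hCt, hrq⟩ := exists_ctx (F := F) hq hr2 hrp hi
  have hev : Even (Module.finrank F ((Fin (d - 1) ⊕ Fin (d - 1)) ⊕ Fin 2 → F)) := hn ▸ even_two_mul d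
  have hwin := nd_odd_window (C := C) (hq ▸ hrq) hQ hF hev hQs hW₀n (hWd.symm ▸ hm) (by omega) hrΩ
  rw [parab_all (C := C) hQ hF hev hQs hW₀n (hWd.symm ▸ hm) (by omega)]
  rw [hn, hWd, hCi] at hwin ⊢
  rw [arith_parab_minus 1 (hCi ▸ C.pos) hc hm (by omega) hwin]
  simp [hr2, hr3, hrp]

end Cfsg.Agent.S5991
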