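import Cfsg.Statements.S5993
import Cfsg.Agent.Lib.Classical22.OrthTypeRows
import Cfsg.Agent.Lib.Classical22.OrthTypeUnipotentRows
-- import your own Cfsg.Agent.* helpers here

set_option autoImplicit false
open scoped MatrixGroups
open Cfsg

namespace Cfsg.Agent.S5993

open CfsgLib.Classical22.OrthType in

/-- Elements of prime order of Ω_n(q), nq odd, with no fixed elliptic `m`-space. Here `T = Ω_n(F)`, `n = 2d+1 ≥ 7`, `q` odd, realised as the commutator subgroup of the isometry group of `Q = x₀² + Σ xᵢyᵢ` over the field `F` with `q` elements (trivial centre, so its elements of prime order `r` are used directly); a nondegenerate `m`-space (even `m`) is a subspace on which the polar form of `Q` is nondegenerate; it is hyperbolic if it contains an `m/2`-dimensional subspace on which `Q` vanishes, elliptic otherwise. Let `m` be even with `2 ≤ m ≤ n − 1` (no restriction `m < n/2`) and let `r` be a prime dividing the number of elliptic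 `m`-spaces; for `r ≠ p` let `i` be the multiplicative order of `q` modulo `r`, `c = i` for `i` even and `c = 2i` for `i` odd, and write `k = n mod c`, `ℓ' = m mod c`. Then every element of `T` of order `r` fixes some elliptic `m`-space if and only if `r = 2`, or `r ≠ p` is odd and one of: (i) `i` odd, `c ≤ m` and `k > ℓ' > 0`; (ii) `i` even, `i ≤ m`, `k > ℓ'`, and `m/i` odd whenever `ℓ' = 0`. (For `r = p` there is always an element of order `p` fixing no elliptic `m`-space.) -/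
theorem result {F : Type*} [Field F] [Fintype F] {p : ℕ} [Fact p.Prime] [CharP F p] {q : ℕ} (hq : Fintype.card F = q) (hqodd : Odd q)
    (d m : ℕ) (hd : 3 ≤ d) (hm : 2 ≤ m) (hme : Even m) (hmn : m ≤ 2 * d)
    (r : ℕ) [Fact r.Prime]
    (hrΩ : r ∣ Nat.card {W : Submodule F (Unit ⊕ (Fin d ⊕ Fin d) → F) // Module.finrank F ↥W = m ∧ Cfsg.Geo.IsNondegenerateOn (QuadraticMap.polar (Cfsg.quadFormOdd d F)) W ∧ ¬ Cfsg.Geo.IsPlusTypeOn (Cfsg.quadFormOdd d F) W})
    (i c : ℕ) (hi : i = orderOf (q : ZMod r)) (hc : c = if Even i then i else 2 * i) :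
    (∀ x : GL (Unit ⊕ (Fin d ⊕ Fin d)) F, x ∈ Cfsg.Geo.omegaGL (Cfsg.quadFormOdd d F) → orderOf x = r →
      ∃ W : Submodule F (Unit ⊕ (Fin d ⊕ Fin d) → F), (Module.finrank F ↥W = m ∧ Cfsg.Geo.IsNondegenerateOn (QuadraticMap.polar (Cfsg.quadFormOdd d F)) W ∧ ¬ Cfsg.Geo.IsPlusTypeOn (Cfsg.quadFormOdd d F) W) ∧ W.map (Matrix.toLin' (x : Matrix (Unit ⊕ (Fin d ⊕ Fin d)) (Unit ⊕ (Fin d ⊕ Fin d)) F)) ≤ W) ↔
    (r = 2 ∨
     (r ≠ p ∧ 2 < r ∧ Odd i ∧ c ≤ m ∧ 0 < m % c ∧ m % c < (2 * d + 1) % c) ∨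
     (r ≠ p ∧ 2 < r ∧ Even i ∧ i ≤ m ∧ m % c < (2 * d + 1) % c ∧ (0 < m % c ∨ Odd (m / i)))) := by
  obtain ⟨hF, hF'⟩ : (2 : F) ≠ 0 ∧ CfsgLib.Classical.PolarNondeg (CfsgLib.Classical.qOdd d F) :=
    ⟨two_ne_zero_of_odd hq hqodd, polarNondeg_qOdd' (two_ne_zero_of_odd hq hqodd) d⟩
  simp only [← CfsgLib.Classical.coe_qOdd] at hrΩ ⊢
  obtain ⟨Q, hQdef⟩ : ∃ Q, Q = CfsgLib.Classical.qOdd d F := ⟨_, rfl⟩
  rw [← hQdef] at hrΩ hF' ⊢
  have hn : Module.finrank F (CfsgLib.Classical.OddI d → F) = 2 * d + 1 := finrank_qOdd d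
  rw [bridge_order (Q := Q), Nat.card_congr (Equiv.subtypeEquivRight fun W => elliptic_iff (Q := Q) hme)] at *
  simp only [elliptic_iff (Q := Q) hme]
  by_cases hr2 : r = 2
  · subst hr2
    exact iff_of_true (two_nd_odd_dim hF hF' hn (by omega) hme hm hmn (Or.inr rfl)) (Or.inl rfl)
  have hr3 : 2 < r := lt_of_le_of_ne (Fact.out : r.Prime).two_le (Ne.symm hr2)
  by_cases hrp : r = p
  · subst hrp
    refine iff_of_false (fun h => ?_) (by simp [hr2])
    obtain ⟨g, hg, hgp, hg1, hW⟩ := unipotent_odd_dim hr2 hF' hn (by omega)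
    obtain ⟨W, ⟨hWd, hWn, hWs⟩, hWi⟩ := h g hg hgp hg1
    exact absurd (sg_unique hWs (hW W hWi hWn (hWd ▸ hme))) (by norm_num)
  rw [reduce_order hF' (by omega) hr2]
  obtain ⟨C, hCi, hCt, hrq⟩ := exists_ctx (F := F) hq hr2 hrp hi
  have hodd : ¬ Even (Module.finrank F (CfsgLib.Classical.OddI d → F)) :=
    Nat.not_even_iff_odd.2 (hn ▸ odd_two_mul_add_one d)
  have hε : Even (Module.finrank F (CfsgLib.Classical.OddI d → F)) → Sg Q (-1) := fun h => absurd h hodd
  have hwin := nd_window (C := C) (hq ▸ hrq) hF' (fun _ => hF) hε (Or.inr rfl) hme (by omega) (by omega)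
    (εW := -1) (Or.inr rfl) hrΩ
  rw [nd_all (C := C) hF' (fun _ => hF) hε hme (by omega) (by omega) (Or.inr rfl)]
  rw [hn, neg_one_mul, neg_neg, hCi] at hwin ⊢
  have hcap : ∀ x, CfsgLib.Classical22.OrthType.cap i (2 * d + 1) x =
      CfsgLib.Classical22.OrthType.cap i (2 * d + 1) 1 := fun x => by
    rw [cap_odd_dim (odd_two_mul_add_one d), cap_odd_dim (odd_two_mul_add_one d)]
  rw [hcap] at hwin ⊢
  rw [arith_odd_minus 1 (hCi ▸ C.pos) hc hme hmn hwin]
  simp [hr2, hr3, hrp]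

end Cfsg.Agent.S5993
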