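import Cfsg.Statements.S5995
import Mathlib
import Mathlib
import Cfsg.Agent.Lib.Classical.Elusive.Partition
import Cfsg.Agent.Lib.Classical.OmegaOdd
import Cfsg.Agent.Lib.Classical.QuadPOmega
import Cfsg.Agent.Lib.Classical.FiniteFieldSq
-- import your own Cfsg.Agent.* helpers here

set_option autoImplicit false
open scoped MatrixGroups
open Cfsg

namespace Cfsg.Agent.S5995

/-- A necessary condition for every element of order p of Ω_n(q), nq odd, to fix a hyperbolic `m`-space. Here `T = Ω_n(F)`, `n = 2d+1 ≥ 7`, `q` odd, realised as the commutator subgroup of the isometry group of `Q = x₀² + Σ xᵢyᵢ` over the field `F` with `q` elements (trivial centre, so its elements of prime order `r` are used directly); a nondegenerate `m`-space (even `m`) is a subspace on which the polar form of `Q` is nondegenerate; it is hyperbolic if it contains an `m/2`-dimensional subspace on which `Q` vanishes, elliptic otherwise. Let `m` be even with `2 ≤ m ≤ n − 1` and suppose `p` divides the number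 of hyperbolic `m`-spaces. If every element of `T` of order `p` fixes some hyperbolic `m`-space, then `m ≡ 0 (mod 4)` and every partition of `n` into parts of size at most `p` in which every even part has even multiplicity contains (as a sub-multiset) a partition of `m` in which every even part has even multiplicity. -/
theorem result {F : Type*} [Field F] [Fintype F] {p : ℕ} [Fact p.Prime] [CharP F p] {q : ℕ} (hq : Fintype.card F = q) (hqodd : Odd q)
    (d m : ℕ) (hd : 3 ≤ d) (hm : 2 ≤ m) (hme : Even m) (hmn : m ≤ 2 * d)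
    (hpΩ : p ∣ Nat.card {W : Submodule F (Unit ⊕ (Fin d ⊕ Fin d) → F) // Module.finrank F ↥W = m ∧ Cfsg.Geo.IsNondegenerateOn (QuadraticMap.polar (Cfsg.quadFormOdd d F)) W ∧ Cfsg.Geo.IsPlusTypeOn (Cfsg.quadFormOdd d F) W}) :
    (∀ x : GL (Unit ⊕ (Fin d ⊕ Fin d)) F, x ∈ Cfsg.Geo.omegaGL (Cfsg.quadFormOdd d F) → orderOf x = p →
      ∃ W : Submodule F (Unit ⊕ (Fin d ⊕ Fin d) → F), (Module.finrank F ↥W = m ∧ Cfsg.Geo.IsNondegenerateOn (QuadraticMap.polar (Cfsg.quadFormOdd d F)) W ∧ Cfsg.Geo.IsPlusTypeOn (Cfsg.quadFormOdd d F) W) ∧ W.map (Matrix.toLin' (x : Matrix (Unit ⊕ (Fin d ⊕ Fin d)) (Unit ⊕ (Fin d ⊕ Fin d)) F)) ≤ W) →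
    (m % 4 = 0 ∧ (∀ μ : Multiset ℕ, (∀ e ∈ μ, 0 < e ∧ e ≤ p) → (∀ e : ℕ, Even e → Even (μ.count e)) → μ.sum = 2 * d + 1 →
        ∃ ν : Multiset ℕ, ν ≤ μ ∧ ν.sum = m ∧ ∀ e : ℕ, Even e → Even (ν.count e))) := by
  intro h
  have hqo : Odd (Fintype.card F) := hq ▸ hqodd
  have h2 : (2 : F) ≠ 0 := CfsgLib.Classical.two_ne_zero_of_odd_card hqo
  have hp : p ≠ 2 := by
    rintro rfl
    exact h2 (CharTwo.two_eq_zero)
  simp only [← CfsgLib.Classical.coe_qOdd] at h
  set Q := CfsgLib.Classical.qOdd d F with hQdef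
  have hQ : CfsgLib.Classical.PolarNondeg Q := CfsgLib.Classical.polarNondeg_qOdd h2 d
  have hι : Fintype.card (Unit ⊕ (Fin d ⊕ Fin d)) = 2 * d + 1 := by simp; omega
  have hh := CfsgLib.Classical.Elusive.qAut_version (p := p) Q (m := m)
    (fun W => Cfsg.Geo.IsPlusTypeOn ⇑Q W) fun x hx hxp hz =>
      h x hx (orderOf_eq_prime hxp fun hx1 => hz 1 (by rw [hx1, one_smul, Units.val_one]))
  exact ⟨CfsgLib.Classical.Elusive.mod_four_odd h2 Q hQ hp (by omega) hι hme _ hh,
    fun μ hb he hs => CfsgLib.Classical.Elusive.partition_condition h2 Q hQ hp hme (le_of_le_of_eq (show m ≤ 2 * d + 1 by omega) hι.symm) _ hh μ hb he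
      (hs.trans hι.symm)⟩

end Cfsg.Agent.S5995
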