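import Cfsg.Statements.S5998
import Cfsg.Agent.Lib.Classical22.ExtraThree
-- import your own Cfsg.Agent.* helpers here

set_option autoImplicit false
open scoped MatrixGroups
open Cfsg

namespace Cfsg.Agent.S5998

open Matrix CfsgLib.Classical22 CfsgLib.Classical22.Monomial CfsgLib.Classical22.ExtraThree CfsgLib.Classical22.InvolClasses

theorem det_mono {F : Type*} [Field F] (c : Fin 3 → Fˣ) :
    ((mono 1 c : GL (Fin 3) F) : Matrix (Fin 3) (Fin 3) F).det = ∏ i, (c i : F) := det_diag c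

theorem invol_case {F : Type*} [Field F] [Fintype F] (h2 : (2 : F) ≠ 0) (R : Subgroup (GL (Fin 3) F))
    {Q : GL (Fin 3) F} (hflip : ∀ u : Fˣ, Q * mono ExtraThree.flip (fun _ => u) * Q⁻¹ ∈ Cfsg.Geo.subgroupNormalizer R)
    (x : SpecialLinearGroup (Fin 3) F) {z : F} (hx : (x : Matrix (Fin 3) (Fin 3) F) * x = z • 1)
    (hns : ∀ c : F, (x : Matrix (Fin 3) (Fin 3) F) ≠ c • 1) :
    ∃ g : SpecialLinearGroup (Fin 3) F, (SpecialLinearGroup.toGL g)⁻¹ * SpecialLinearGroup.toGL x * SpecialLinearGroup.toGL g ∈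
      Cfsg.Geo.subgroupNormalizer R := by
  classical
  have hz : z ^ 3 = 1 := by
    have h := congrArg Matrix.det hx
    rw [det_mul, x.2, one_mul, det_smul, det_one, mul_one, Fintype.card_fin] at h
    exact h.symm
  obtain ⟨s, hs⟩ : ∃ s : Fˣ, (s : F) = z ^ 2 :=
    ⟨Units.mk0 (z ^ 2) (fun h => by rw [sq_eq_zero_iff] at h; rw [h] at hz; simp at hz), rfl⟩
  have hs3 : (s : F) ^ 3 = 1 := by rw [hs]; linear_combination (z ^ 3 + 1) * hz
  have hxs : ((SpecialLinearGroup.toGL x : GL (Fin 3) F) : Matrix (Fin 3) (Fin 3) F) *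
      (SpecialLinearGroup.toGL x : GL (Fin 3) F) = ((s : F) ^ 2) • 1 := by
    show (x : Matrix (Fin 3) (Fin 3) F) * x = _
    rw [hx, hs]; congr 1; linear_combination (-z) * hz
  obtain ⟨P, c, hP, hc⟩ := exists_diag h2 hxs
  have hdet : (c 0 : F) * c 1 * c 2 = 1 := by
    have h := congrArg (fun g : GL (Fin 3) F => (g : Matrix (Fin 3) (Fin 3) F).det) hP
    simp only [Units.val_mul, Matrix.det_units_conj', det_mono, Fin.prod_univ_three] at h
    rw [← h]
    exact x.2
  have hns' : ¬ ∀ i, c i = c 0 := fun h => hns (c 0) (by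
    show ((SpecialLinearGroup.toGL x : GL (Fin 3) F) : Matrix (Fin 3) (Fin 3) F) = _
    rw [show SpecialLinearGroup.toGL x = P * (P⁻¹ * SpecialLinearGroup.toGL x * P) * P⁻¹ by group, hP, Units.val_mul,
      Units.val_mul, show ((mono 1 c : GL (Fin 3) F) : Matrix (Fin 3) (Fin 3) F) = (c 0 : F) • 1 by
        ext a b; rw [mono_apply, Matrix.smul_apply, Matrix.one_apply, h b, Equiv.Perm.one_apply]
        split_ifs <;> simp,
      mul_smul_comm, mul_one, smul_mul_assoc, Units.mul_inv])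
  have hne : -s ≠ s := fun h => h2 (by
    have h' : -(s : F) = s := by rw [← Units.val_neg, h]
    exact (mul_eq_zero.1 (show (2 : F) * s = 0 by linear_combination -h')).resolve_right s.ne_zero)
  obtain ⟨k, hk⟩ : ∃ k, ∀ i, c i = if i = k then s else -s := by
    have bad : (1 : F) ≠ -1 := fun h => h2 (by linear_combination h)
    rcases hc 0 with a | a <;> rcases hc 1 with b | b <;> rcases hc 2 with d | d
    · exact absurd (fun i => by fin_cases i <;> simp [a, b, d]) hns'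
    · exfalso; rw [a, b, d, Units.val_neg] at hdet; exact bad (by linear_combination -hdet - hs3)
    · exfalso; rw [a, b, d, Units.val_neg] at hdet; exact bad (by linear_combination -hdet - hs3)
    · exact ⟨0, fun i => by fin_cases i <;> simp [a, b, d]⟩
    · exfalso; rw [a, b, d, Units.val_neg] at hdet; exact bad (by linear_combination -hdet - hs3)
    · exact ⟨1, fun i => by fin_cases i <;> simp [a, b, d]⟩
    · exact ⟨2, fun i => by fin_cases i <;> simp [a, b, d]⟩
    · exact absurd (fun i => by fin_cases i <;> simp [a, b, d]) hns'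
  obtain ⟨T, hT⟩ : ∃ T : GL (Fin 3) F, T = mono ExtraThree.flip (fun _ => -s) := ⟨_, rfl⟩
  obtain ⟨w, hw⟩ : ∃ w : Fin 3 → Fin 3 → F, w = ![![0, 1, -1], ![1, 0, 0], ![0, 1, 1]] := ⟨_, rfl⟩
  have hLI : LinearIndependent F w := by
    refine Matrix.linearIndependent_rows_of_isUnit ((Matrix.isUnit_iff_isUnit_det (Matrix.of w)).2
      (isUnit_iff_ne_zero.2 fun h => h2 ?_))
    rw [hw, Matrix.det_fin_three] at h
    simp at h
    linear_combination -h
  let b₀ := basisOfLinearIndependentOfCardEqFinrank hLI (by simp)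
  obtain ⟨π, hπ⟩ : ∃ π : Equiv.Perm (Fin 3), π = Equiv.swap 0 k := ⟨_, rfl⟩
  obtain ⟨Q₂, hQ₂⟩ := of_basis T (b₀.reindex π) 1 c (fun j => by
    rw [Module.Basis.reindex_apply, show b₀ (π.symm j) = w (π.symm j) by simp [b₀], Equiv.Perm.one_apply,
      Module.Basis.reindex_apply, show b₀ (π.symm j) = w (π.symm j) by simp [b₀]]
    obtain ⟨i, rfl⟩ := π.surjective j
    rw [Equiv.symm_apply_apply, hk]
    have hki : π i = k ↔ i = 0 := by
      rw [hπ]; constructor
      · intro h; exact (Equiv.swap (0 : Fin 3) k).injective (h.trans (Equiv.swap_apply_left 0 k).symm)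
      · rintro rfl; exact Equiv.swap_apply_left 0 k
    simp only [hki]
    funext a
    obtain ⟨a, rfl⟩ := (ExtraThree.flip).surjective a
    rw [hT, mono_mulVec]
    fin_cases i <;> fin_cases a <;> simp [hw, Fin.ext_iff]
    )
  have hconj : (P * Q₂⁻¹ * Q⁻¹)⁻¹ * SpecialLinearGroup.toGL x * (P * Q₂⁻¹ * Q⁻¹) = Q * T * Q⁻¹ := by
    rw [show (P * Q₂⁻¹ * Q⁻¹)⁻¹ * SpecialLinearGroup.toGL x * (P * Q₂⁻¹ * Q⁻¹) =
      Q * (Q₂ * (P⁻¹ * SpecialLinearGroup.toGL x * P) * Q₂⁻¹) * Q⁻¹ by group, hP, ← hQ₂]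
    group
  obtain ⟨g, hg⟩ := conj_sl (by norm_num) x hx (P * Q₂⁻¹ * Q⁻¹)
  refine ⟨g, ?_⟩
  rw [map_mul, map_mul, map_inv, hconj] at hg
  rw [hg, hT]
  exact hflip _

theorem diag_case {F : Type*} [Field F] (h3 : (3 : F) ≠ 0) {ω : F} (hω : ω ^ 3 = 1) (hω1 : ω ≠ 1)
    (R : Subgroup (GL (Fin 3) F)) {Q : GL (Fin 3) F}
    (hdiag : ∀ (u : Fˣ) (c : Fin 3 → Fˣ), (∀ i, c i ^ 3 = 1) → Q * mono 1 (fun i => u * c i) * Q⁻¹ ∈ Cfsg.Geo.subgroupNormalizer R)
    (x : GL (Fin 3) F) (η : Fˣ) (hx : (x : Matrix (Fin 3) (Fin 3) F) ^ 3 = ((η : F) ^ 3) • 1) :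
    ∃ g : SpecialLinearGroup (Fin 3) F, (SpecialLinearGroup.toGL g)⁻¹ * x * SpecialLinearGroup.toGL g ∈
      Cfsg.Geo.subgroupNormalizer R := by
  classical
  obtain ⟨y, hy⟩ : ∃ y : GL (Fin 3) F, (y : Matrix (Fin 3) (Fin 3) F) = (η : F)⁻¹ • (x : Matrix (Fin 3) (Fin 3) F) :=
    ⟨⟨(η : F)⁻¹ • (x : Matrix (Fin 3) (Fin 3) F), (η : F) • ((x⁻¹ : GL (Fin 3) F) : Matrix (Fin 3) (Fin 3) F),
      by simp [smul_smul], by simp [smul_smul]⟩, rfl⟩
  obtain ⟨P, c, hP, hc⟩ := exists_diag_three h3 hω hω1 (g := y)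
    (by rw [hy, _root_.smul_pow, hx, smul_smul, ← mul_pow, inv_mul_cancel₀ η.ne_zero, one_pow, one_smul])
  have hPx : P⁻¹ * x * P = mono 1 (fun i => η * c i) := by
    refine Units.ext ?_
    rw [Units.val_mul, Units.val_mul, show (x : Matrix (Fin 3) (Fin 3) F) = (η : F) • (y : Matrix (Fin 3) (Fin 3) F) by
      rw [hy, smul_smul, mul_inv_cancel₀ η.ne_zero, one_smul], mul_smul_comm, smul_mul_assoc, ← Units.val_mul,
      ← Units.val_mul, hP]
    ext a b
    rw [Matrix.smul_apply, mono_apply, mono_apply, smul_eq_mul, mul_ite, mul_zero, Units.val_mul]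
  obtain ⟨G, hG⟩ : ∃ G, G = P * Q⁻¹ := ⟨_, rfl⟩
  obtain ⟨C, hC⟩ : ∃ C, C = P * mono 1 (Function.update 1 0 (Matrix.GeneralLinearGroup.det G)⁻¹) * P⁻¹ := ⟨_, rfl⟩
  have hCx : C * x = x * C := by
    rw [hC]
    refine cent_transfer hPx ?_
    rw [mono_mul, mono_mul]
    congr 1
    funext j
    simp [mul_comm]
  have hCd : Matrix.GeneralLinearGroup.det C = (Matrix.GeneralLinearGroup.det G)⁻¹ := by
    rw [hC, map_mul, map_mul, map_inv, mul_inv_cancel_comm]
    refine Units.ext ?_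
    rw [Matrix.GeneralLinearGroup.val_det_apply, det_mono, Fin.prod_univ_three]
    simp
  obtain ⟨g, hg⟩ : ∃ g : SpecialLinearGroup (Fin 3) F, SpecialLinearGroup.toGL g = C * G :=
    ⟨⟨((C * G : GL (Fin 3) F) : Matrix (Fin 3) (Fin 3) F), by
      rw [← Matrix.GeneralLinearGroup.val_det_apply, map_mul, hCd, inv_mul_cancel, Units.val_one]⟩, Units.ext rfl⟩
  refine ⟨g, ?_⟩
  rw [hg, show (C * G)⁻¹ * x * (C * G) = G⁻¹ * C⁻¹ * (x * C) * G by group, ← hCx, inv_mul_cancel_left' , hG,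
    show (P * Q⁻¹)⁻¹ * x * (P * Q⁻¹) = Q * (P⁻¹ * x * P) * Q⁻¹ by group, hPx]
  exact hdiag η c hc
where
  inv_mul_cancel_left' {C G x : GL (Fin 3) F} : G⁻¹ * C⁻¹ * (C * x) * G = G⁻¹ * x * G := by group

theorem index_case {F : Type*} [Field F] [Fintype F] {p : ℕ} (hF : Fintype.card F = p) (hp3 : p % 3 = 1) (hp9 : p % 9 ≠ 1)
    (R : Subgroup (GL (Fin 3) F)) (hR : Nat.card R = 27) (hle : R ≤ Cfsg.Geo.specialLinear (Fin 3) F) :
    ¬ 3 ∣ (Cfsg.Geo.subgroupNormalizer R).relIndex (Cfsg.Geo.specialLinear (Fin 3) F) := by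
  intro hd
  have h1 : Nat.card (Cfsg.Geo.specialLinear (Fin 3) F) = Nat.card (SpecialLinearGroup (Fin 3) F) :=
    CfsgLib.Classical.card_ker_det
  have h2 := CfsgLib.Classical.card_SL_mul (F := F) hF 3 (by norm_num)
  have h3 : 27 ∣ Nat.card ((Cfsg.Geo.subgroupNormalizer R).subgroupOf (Cfsg.Geo.specialLinear (Fin 3) F)) := by
    rw [← hR, ← Nat.card_congr (Subgroup.subgroupOfEquivOfLe hle).toEquiv]
    exact Subgroup.card_dvd_of_le fun u hu => by
      rw [Subgroup.mem_subgroupOf] at hu ⊢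
      exact Subgroup.le_normalizer hu
  have h4 : 81 ∣ Nat.card (SpecialLinearGroup (Fin 3) F) := by
    rw [← h1, ← Subgroup.index_mul_card ((Cfsg.Geo.subgroupNormalizer R).subgroupOf (Cfsg.Geo.specialLinear (Fin 3) F))]
    exact Nat.mul_dvd_mul (show 3 ∣ _ from hd) h3
  obtain ⟨k, rfl⟩ : ∃ k, p = 3 * k + 1 := ⟨p / 3, by omega⟩
  have hk : ¬ 3 ∣ k := by omega
  have hk0 : 0 < k := by omega
  have h5 : Nat.card (SpecialLinearGroup (Fin 3) F) =
      27 * (k * k * ((3 * k + 1) ^ 3 * (3 * k * k + 3 * k + 1) * (3 * k + 2))) := by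
    refine Nat.eq_of_mul_eq_mul_left (show 0 < 3 * k + 1 - 1 by omega) (h2.trans ?_)
    rw [Fin.prod_univ_three]
    simp only [Fin.val_zero, Fin.val_one, Fin.val_two, pow_zero, pow_one]
    have e1 : (3 * k + 1) ^ 3 = 27 * k ^ 3 + 27 * k ^ 2 + 9 * k + 1 := by ring
    have e2 : (3 * k + 1) ^ 2 = 9 * k ^ 2 + 6 * k + 1 := by ring
    rw [show 3 * k + 1 - 1 = 3 * k by omega,
      show (3 * k + 1) ^ 3 - 1 = 9 * k * (3 * k * k + 3 * k + 1) by rw [e1]; simp; ring,
      show (3 * k + 1) ^ 3 - (3 * k + 1) = (3 * k + 1) * (3 * k) * (3 * k + 2) by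
        rw [Nat.sub_eq_iff_eq_add (Nat.le_self_pow (by norm_num) _)]; ring,
      show (3 * k + 1) ^ 3 - (3 * k + 1) ^ 2 = (3 * k + 1) ^ 2 * (3 * k) by
        rw [Nat.sub_eq_iff_eq_add (Nat.pow_le_pow_right (by omega) (by norm_num))]; ring]
    ring
  rw [h5, show (81 : ℕ) = 27 * 3 from rfl, Nat.mul_dvd_mul_iff_left (by norm_num)] at h4
  rcases (Nat.prime_three.dvd_mul).1 h4 with h | h
  · exact hk ((Nat.prime_three.dvd_mul).1 h |>.elim id id)
  · rcases (Nat.prime_three.dvd_mul).1 h with h | h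
    · rcases (Nat.prime_three.dvd_mul).1 h with h | h
      · have := Nat.prime_three.dvd_of_dvd_pow h; omega
      · rw [show 3 * k * k + 3 * k + 1 = 3 * (k * k + k) + 1 by ring] at h; omega
    · omega

/-- Elements of prime order of PSL_3(p), p ≡ 1 (mod 3), and the normalizer of an extraspecial subgroup of order 27. Here `T = PSL_3(F)` for the field `F` with `p` elements, `p` a prime with `p ≡ 1 (mod 3)`; `R` is a non-abelian subgroup of GL_3(F) of order 27 and exponent 3 (an extraspecial group 3^{1+2}, acting absolutely irreducibly), and `H` is the subgroup of matrices of determinant 1 normalizing `R` — a subgroup of type 3^{1+2}.Sp₂(3) (maximality is not assumed). Ω is the set of cosets of `H` in `T`, so an element of `T` of prime order `r` (a matrix `x` of determinant 1 with `x^r` scalar, `x` not scalar) fixes a point of Ω exactly when some conjugate of `x` by a matrix of determinant 1 normalizes `R`. Let `r` be a prime dividing the index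 of `H`. Then every element of `T` of order `r` fixes a point of Ω if and only if `r = 2`, or `r = 3` and `p ≡ 1 (mod 9)`. -/
theorem result {F : Type*} [Field F] [Fintype F] {p : ℕ} [Fact p.Prime] [CharP F p] (hF : Fintype.card F = p) (hp3 : p % 3 = 1)
    (R : Subgroup (GL (Fin 3) F)) (hR : Nat.card R = 27) (hRe : Monoid.exponent R = 3) (hRna : ¬ IsMulCommutative R)
    (r : ℕ) [Fact r.Prime]
    (hΩ : r ∣ (Cfsg.Geo.subgroupNormalizer R).relIndex (Cfsg.Geo.specialLinear (Fin 3) F)) :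
    (∀ x ∈ Cfsg.Geo.specialLinear (Fin 3) F, (∃ z : F, ((x ^ r : GL (Fin 3) F) : Matrix (Fin 3) (Fin 3) F) = z • (1 : Matrix (Fin 3) (Fin 3) F)) →
      (∀ z : F, (x : Matrix (Fin 3) (Fin 3) F) ≠ z • (1 : Matrix (Fin 3) (Fin 3) F)) →
      ∃ g ∈ Cfsg.Geo.specialLinear (Fin 3) F, g⁻¹ * x * g ∈ Cfsg.Geo.subgroupNormalizer R) ↔ (r = 2 ∨ (r = 3 ∧ p % 9 = 1)) := by
  classical
  have hp : p.Prime := Fact.out
  have h3 : (3 : F) ≠ 0 := fun h => by
    have : p ∣ 3 := (CharP.cast_eq_zero_iff F p 3).1 (by exact_mod_cast h)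
    have := (Nat.prime_dvd_prime_iff_eq hp Nat.prime_three).1 this
    omega
  have h2 : (2 : F) ≠ 0 := fun h => by
    have : p ∣ 2 := (CharP.cast_eq_zero_iff F p 2).1 (by exact_mod_cast h)
    have := (Nat.prime_dvd_prime_iff_eq hp Nat.prime_two).1 this
    omega
  haveI : Fact (Nat.Prime 3) := ⟨Nat.prime_three⟩
  obtain ⟨w, hw⟩ := exists_prime_orderOf_dvd_card (G := Fˣ) 3 (by rw [Fintype.card_units, hF]; omega)
  have hω : (w : F) ^ 3 = 1 := by rw [← Units.val_pow_eq_pow_val, ← hw, pow_orderOf_eq_one, Units.val_one]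
  have hω1 : (w : F) ≠ 1 := fun h => by rw [Units.val_eq_one] at h; rw [h, orderOf_one] at hw; omega
  haveI : Finite R := Nat.finite_of_card_ne_zero (by omega)
  obtain ⟨Q, l, hl, hl1, ha, hb, hz, hcl⟩ := ExtraThree.exists_form h3 hω hω1 R hR hRe hRna
  have to_sl : ∀ x ∈ Cfsg.Geo.specialLinear (Fin 3) F, ∃ X : SpecialLinearGroup (Fin 3) F, SpecialLinearGroup.toGL X = x :=
    fun x hx => ⟨⟨(x : Matrix (Fin 3) (Fin 3) F), congrArg Units.val (MonoidHom.mem_ker.1 hx)⟩, Units.ext rfl⟩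
  rcases (by
      have hr := (Fact.out : r.Prime)
      by_cases h : r = 2
      · exact Or.inl h
      · by_cases h' : r = 3
        · exact Or.inr (Or.inl h')
        · refine Or.inr (Or.inr ?_)
          have := hr.two_le
          by_contra h5
          have : r = 4 := by omega
          rw [this] at hr
          norm_num at hr : r = 2 ∨ r = 3 ∨ 5 ≤ r) with hr | hr | hr
  · refine iff_of_true (fun x hx hxr hns => ?_) (Or.inl hr)
    obtain ⟨z, hxr⟩ := hxr
    obtain ⟨X, rfl⟩ := to_sl x hx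
    rw [hr, Units.val_pow_eq_pow_val, pow_two] at hxr
    obtain ⟨g, hg⟩ := invol_case h2 R (fun u => ExtraThree.flip_normalizes R hl ha hb hz hcl u) X hxr hns
    exact ⟨_, MonoidHom.mem_ker.2 (Units.ext (by rw [Matrix.GeneralLinearGroup.val_det_apply]; exact g.2)), hg⟩
  · by_cases hp9 : p % 9 = 1
    · refine iff_of_true (fun x hx hxr _ => ?_) (Or.inr ⟨hr, hp9⟩)
      obtain ⟨z, hxr⟩ := hxr
      rw [hr, Units.val_pow_eq_pow_val] at hxr
      have hz3 : z ^ 3 = 1 := by
        have h := congrArg Matrix.det hxr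
        rw [det_pow, congrArg Units.val (MonoidHom.mem_ker.1 hx) |>.trans Units.val_one |> fun (e : ((Matrix.GeneralLinearGroup.det x : Fˣ) : F) = 1) => (Matrix.GeneralLinearGroup.val_det_apply x).symm.trans e,
          one_pow, det_smul, det_one, mul_one, Fintype.card_fin] at h
        exact h.symm
      obtain ⟨γ, hγ⟩ := IsCyclic.exists_generator (α := Fˣ)
      obtain ⟨zu, hzu⟩ : ∃ zu : Fˣ, (zu : F) = z := ⟨Units.mk0 z (fun h => by rw [h] at hz3; simp at hz3), rfl⟩
      obtain ⟨m, hm⟩ := (mem_powers_iff_mem_zpowers.2 (hγ zu) : zu ∈ Submonoid.powers γ)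
      have hm' : γ ^ m = zu := hm
      have ho : orderOf γ = p - 1 := by
        rw [orderOf_eq_card_of_forall_mem_zpowers hγ, Nat.card_eq_fintype_card, Fintype.card_units, hF]
      have hdm : p - 1 ∣ 3 * m := by
        rw [← ho]
        refine orderOf_dvd_of_pow_eq_one ?_
        rw [mul_comm, pow_mul, hm']
        exact Units.ext (by rw [Units.val_pow_eq_pow_val, hzu, hz3, Units.val_one])
      obtain ⟨j, hj⟩ : 3 ∣ m :=
        Nat.dvd_of_mul_dvd_mul_left (show 0 < 3 by norm_num) ((show 3 * 3 ∣ p - 1 by omega).trans hdm)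
      obtain ⟨g, hg⟩ := diag_case h3 hω hω1 R
        (fun u c hc => ExtraThree.diag_normalizes R hl hl1 ha hb hz hcl u c hc) x (γ ^ j)
        (by rw [hxr, ← hzu, ← hm', hj, pow_mul', Units.val_pow_eq_pow_val, Units.val_pow_eq_pow_val])
      exact ⟨_, MonoidHom.mem_ker.2 (Units.ext (by rw [Matrix.GeneralLinearGroup.val_det_apply]; exact g.2)), hg⟩
    · exfalso
      refine index_case hF hp3 hp9 R hR ?_ (hr ▸ hΩ)
      rw [← hcl, Subgroup.closure_le]
      have hd : ∀ (M : GL (Fin 3) F), Matrix.GeneralLinearGroup.det M = 1 → Q * M * Q⁻¹ ∈ Cfsg.Geo.specialLinear (Fin 3) F :=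
        fun M hM => MonoidHom.mem_ker.2 (by rw [map_mul, map_mul, map_inv, hM, mul_one, mul_inv_cancel])
      have hl3 : (l : F) ^ 3 = 1 := by rw [← Units.val_pow_eq_pow_val, hl, Units.val_one]
      rintro _ (rfl | rfl | rfl) <;> refine hd _ (Units.ext ?_)
      · rw [Matrix.GeneralLinearGroup.val_det_apply, det_mono, Fin.prod_univ_three]
        simp
        linear_combination hl3
      · rw [Matrix.GeneralLinearGroup.val_det_apply, Matrix.det_fin_three]
        simp [mono_apply, Fin.ext_iff]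
      · rw [Matrix.GeneralLinearGroup.val_det_apply, det_mono, Fin.prod_univ_three]
        simp
        linear_combination hl3
  · refine iff_of_false (fun h => ?_) (by omega)
    obtain ⟨g₀, hg₀⟩ := exists_prime_orderOf_dvd_card' (G := Cfsg.Geo.specialLinear (Fin 3) F) r
      (hΩ.trans (Subgroup.relIndex_dvd_card _ _))
    have hgr : ((g₀ : GL (Fin 3) F)) ^ r = 1 := by
      have := pow_orderOf_eq_one g₀
      rw [hg₀] at this
      exact congrArg Subtype.val this
    have hns : ∀ c : F, ((g₀ : GL (Fin 3) F) : Matrix (Fin 3) (Fin 3) F) ≠ c • 1 := by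
      intro c hc
      have hc3 : c ^ 3 = 1 := by
        have h := congrArg Units.val (MonoidHom.mem_ker.1 g₀.2)
        rw [Matrix.GeneralLinearGroup.val_det_apply, hc, det_smul, det_one, mul_one, Fintype.card_fin, Units.val_one] at h
        exact h
      have hcr : c ^ r = 1 := by
        have h' := congrArg (fun N : GL (Fin 3) F => (N : Matrix (Fin 3) (Fin 3) F) 0 0) hgr
        beta_reduce at h'
        rw [Units.val_pow_eq_pow_val, hc, _root_.smul_pow, one_pow] at h'
        simpa using h'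
      have hc1 : c = 1 := by
        have hco : orderOf c ∣ Nat.gcd 3 r := Nat.dvd_gcd (orderOf_dvd_of_pow_eq_one hc3) (orderOf_dvd_of_pow_eq_one hcr)
        rw [(Nat.coprime_primes Nat.prime_three Fact.out).2 (by omega)] at hco
        exact orderOf_eq_one_iff.1 (Nat.dvd_one.1 hco)
      rw [hc1, one_smul] at hc
      have : g₀ = 1 := Subtype.ext (Units.ext hc)
      rw [this, orderOf_one] at hg₀
      omega
    obtain ⟨g, -, hg⟩ := h _ g₀.2 ⟨1, by rw [hgr, one_smul, Units.val_one]⟩ hns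
    have hgr' : (g⁻¹ * (g₀ : GL (Fin 3) F) * g) ^ r = 1 := by
      rw [← MulAut.conj_symm_apply, ← map_pow, hgr, map_one]
    obtain ⟨c, hc⟩ := ExtraThree.no_large_prime R hR hl hl1 ha hb hz hr hg (z := 1) (by rw [hgr', one_smul, Units.val_one])
    refine hns c ?_
    rw [show (g₀ : GL (Fin 3) F) = g * (g⁻¹ * g₀ * g) * g⁻¹ by group, Units.val_mul, Units.val_mul, hc,
      mul_smul_comm, mul_one, smul_mul_assoc, Units.mul_inv]

end Cfsg.Agent.S5998
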