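import Cfsg.Statements.S5999
import Cfsg.Agent.Lib.Classical22.UnitaryThree
-- import your own Cfsg.Agent.* helpers here

set_option autoImplicit false
open scoped MatrixGroups
open Cfsg

namespace Cfsg.Agent.S5999

open Matrix CfsgLib.Classical CfsgLib.Classical22 CfsgLib.Classical22.Monomial CfsgLib.Classical22.ExtraThree
  CfsgLib.Classical22.InvolClasses CfsgLib.Classical22.UnitaryThree

theorem det_mono3 {F : Type*} [Field F] (c : Fin 3 → Fˣ) :
    ((mono 1 c : GL (Fin 3) F) : Matrix (Fin 3) (Fin 3) F).det = ∏ i, (c i : F) := det_diag c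

theorem invol_normal {F : Type*} [Field F] [Fintype F] {q : ℕ} (hF : Fintype.card F = q ^ 2) (h2 : (2 : F) ≠ 0)
    {s : Fˣ} (hs3 : (s : F) ^ 3 = 1) (hsq : (s : F) ^ (q + 1) = 1) (hev : Even (q + 1))
    {g : GL (Fin 3) F} (hg : g ∈ Cfsg.GU 3 F q) (hdet : (g : Matrix (Fin 3) (Fin 3) F).det = 1)
    (hgg : (g : Matrix (Fin 3) (Fin 3) F) * g = ((s : F) ^ 2) • 1) (hns : ∀ c : F, (g : Matrix (Fin 3) (Fin 3) F) ≠ c • 1) :
    ∃ U ∈ Cfsg.GU 3 F q, U⁻¹ * g * U = mono 1 (fun i => if i = 0 then s else -s) := by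
  classical
  obtain ⟨P, c₀, hP, hc₀⟩ := exists_diag h2 hgg
  have hn1 : ∀ i, (c₀ i : F) ^ (q + 1) = 1 := fun i => by
    rcases hc₀ i with h | h
    · rw [h, hsq]
    · rw [h, Units.val_neg, hev.neg_pow, hsq]
  obtain ⟨U, hU, c, hUc, hcc⟩ := exists_unitary_diag hF hg hP hn1
  have hc : ∀ i, c i = s ∨ c i = -s := fun i => by obtain ⟨j, hj⟩ := hcc i; rw [hj]; exact hc₀ j
  have hdetc : (c 0 : F) * c 1 * c 2 = 1 := by
    have h := congrArg (fun M : GL (Fin 3) F => (M : Matrix (Fin 3) (Fin 3) F).det) hUc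
    simp only [Units.val_mul, Matrix.det_units_conj', det_mono3, Fin.prod_univ_three] at h
    rw [← h]; exact hdet
  have hns' : ¬ ∀ i, c i = c 0 := fun h => hns (c 0) (by
    rw [show g = U * (U⁻¹ * g * U) * U⁻¹ by group, hUc, Units.val_mul,
      Units.val_mul, show ((mono 1 c : GL (Fin 3) F) : Matrix (Fin 3) (Fin 3) F) = (c 0 : F) • 1 by
        ext a b; rw [mono_apply, Matrix.smul_apply, Matrix.one_apply, h b, Equiv.Perm.one_apply]
        split_ifs <;> simp,
      mul_smul_comm, mul_one, smul_mul_assoc, Units.mul_inv])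
  obtain ⟨k, hk⟩ : ∃ k, ∀ i, c i = if i = k then s else -s := by
    have bad : (1 : F) ≠ -1 := fun h => h2 (by linear_combination h)
    rcases hc 0 with a | a <;> rcases hc 1 with b | b <;> rcases hc 2 with d | d
    · exact absurd (fun i => by fin_cases i <;> simp [a, b, d]) hns'
    · exfalso; rw [a, b, d, Units.val_neg] at hdetc; exact bad (by linear_combination -hdetc - hs3)
    · exfalso; rw [a, b, d, Units.val_neg] at hdetc; exact bad (by linear_combination -hdetc - hs3)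
    · exact ⟨0, fun i => by fin_cases i <;> simp [a, b, d]⟩
    · exfalso; rw [a, b, d, Units.val_neg] at hdetc; exact bad (by linear_combination -hdetc - hs3)
    · exact ⟨1, fun i => by fin_cases i <;> simp [a, b, d]⟩
    · exact ⟨2, fun i => by fin_cases i <;> simp [a, b, d]⟩
    · exact absurd (fun i => by fin_cases i <;> simp [a, b, d]) hns'
  obtain ⟨π, hπ⟩ : ∃ π : Equiv.Perm (Fin 3), π = Equiv.swap 0 k := ⟨_, rfl⟩
  refine ⟨U * mono π 1, mul_mem hU (mono_mem hF _ _ fun i => by simp), ?_⟩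
  rw [show (U * mono π 1)⁻¹ * g * (U * mono π 1) = (mono π 1)⁻¹ * (U⁻¹ * g * U) * mono π 1 by group, hUc,
    mul_assoc, inv_mul_eq_iff_eq_mul, mono_mul, mono_mul, one_mul, mul_one]
  congr 1
  funext i
  simp only [Pi.one_apply, mul_one, one_mul, hk]
  have hki : π i = k ↔ i = 0 := by
    rw [hπ]; constructor
    · intro h; exact (Equiv.swap (0 : Fin 3) k).injective (h.trans (Equiv.swap_apply_left 0 k).symm)
    · rintro rfl; exact Equiv.swap_apply_left 0 k
  simp [hki]

theorem index_case {F : Type*} [Field F] [Fintype F] {p : ℕ} (hF : Fintype.card F = p ^ 2) (hp3 : p % 3 = 2)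
    (hp9 : p % 9 ≠ 8) (R : Subgroup (GL (Fin 3) F)) (hR : Nat.card R = 27)
    (hle : R ≤ Cfsg.GU 3 F p ⊓ Cfsg.Geo.specialLinear (Fin 3) F) :
    ¬ 3 ∣ (Cfsg.Geo.subgroupNormalizer R).relIndex (Cfsg.GU 3 F p ⊓ Cfsg.Geo.specialLinear (Fin 3) F) := by
  intro hd
  obtain ⟨S, hS⟩ : ∃ S, Cfsg.GU 3 F p ⊓ Cfsg.Geo.specialLinear (Fin 3) F = S := ⟨_, rfl⟩
  rw [hS] at hd hle
  have h1 : Nat.card S = Nat.card (Cfsg.SU 3 F p) := by
    subst hS
    exact Nat.card_congr
      { toFun := fun g => suMk ((g : GL (Fin 3) F) : Matrix (Fin 3) (Fin 3) F)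
          (congrArg Units.val (MonoidHom.mem_ker.1 g.2.2)) g.2.1
        invFun := fun h => ⟨SpecialLinearGroup.toGL h.1,
          fun u v => h.2 u v, MonoidHom.mem_ker.2 (Units.ext (by rw [Matrix.GeneralLinearGroup.val_det_apply]; exact h.1.2))⟩
        left_inv := fun g => Subtype.ext (Units.ext rfl)
        right_inv := fun h => Subtype.ext (Subtype.ext rfl) }
  have h2 := CfsgLib.Classical.card_su (F := F) hF (show 1 ≤ 3 by norm_num)
  have h3 : 27 ∣ Nat.card ((Cfsg.Geo.subgroupNormalizer R).subgroupOf S) := by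
    rw [← hR, ← Nat.card_congr (Subgroup.subgroupOfEquivOfLe hle).toEquiv]
    exact Subgroup.card_dvd_of_le fun u hu => by
      rw [Subgroup.mem_subgroupOf] at hu ⊢
      exact Subgroup.le_normalizer hu
  have h4 : 81 ∣ Nat.card (Cfsg.SU 3 F p) := by
    rw [← h1, ← Subgroup.index_mul_card ((Cfsg.Geo.subgroupNormalizer R).subgroupOf S)]
    exact Nat.mul_dvd_mul (show 3 ∣ _ from hd) h3
  obtain ⟨k, rfl⟩ : ∃ k, p = 3 * k + 2 := ⟨p / 3, by omega⟩
  have h5 : Nat.card (Cfsg.SU 3 F (3 * k + 2)) =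
      27 * ((k + 1) * (k + 1) * ((3 * k + 2) ^ 3 * (3 * k + 1) * (3 * k * k + 3 * k + 1))) := by
    refine Nat.eq_of_mul_eq_mul_left (show 0 < 3 * k + 2 + 1 by omega) (h2.trans ?_)
    rw [unitaryOrder, Finset.prod_range_succ, Finset.prod_range_succ, Finset.prod_range_succ, Finset.prod_range_zero,
      if_pos (by decide), if_neg (by decide), if_pos (by decide), show 3 * (3 - 1) / 2 = 3 from rfl]
    have e2 : (3 * k + 2) ^ (1 + 1) = 9 * k ^ 2 + 12 * k + 4 := by ring
    rw [show (3 * k + 2) ^ (1 + 1) - 1 = (3 * k + 1) * (3 * k + 3) by rw [e2]; simp; ring]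
    ring
  rw [h5, show (81 : ℕ) = 27 * 3 from rfl, Nat.mul_dvd_mul_iff_left (by norm_num)] at h4
  rcases (Nat.prime_three.dvd_mul).1 h4 with h | h
  · have := (Nat.prime_three.dvd_mul).1 h |>.elim id id
    omega
  · rcases (Nat.prime_three.dvd_mul).1 h with h | h
    · rcases (Nat.prime_three.dvd_mul).1 h with h | h
      · have := Nat.prime_three.dvd_of_dvd_pow h; omega
      · omega
    · rw [show 3 * k * k + 3 * k + 1 = 3 * (k * k + k) + 1 by ring] at h; omega

/-- Elements of prime order of PSU_3(p), p ≡ 2 (mod 3), and the normalizer of an extraspecial subgroup of order 27. Here `T = PSU_3(p)` for a prime `p ≥ 5` with `p ≡ 2 (mod 3)`, realised through `SU_3(p)`, the matrices of determinant 1 over the field `F` with `p²` elements preserving the hermitian form `Σ uᵢvᵢ^p`; `R` is a non-abelian subgroup of order 27 and exponent 3 of the full unitary group of that form (an extraspecial group 3^{1+2}, acting absolutely irreducibly), and `H` is the subgroup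 of `SU_3(p)` normalizing `R` — a subgroup of type 3^{1+2}.Sp₂(3) (maximality is not assumed). Ω is the set of cosets of `H`, so an element of `T` of prime order `r` (`x ∈ SU_3(p)` with `x^r` scalar, `x` not scalar) fixes a point of Ω exactly when some `SU_3(p)`-conjugate of `x` normalizes `R`. Let `r` be a prime dividing the index of `H`. Then every element of `T` of order `r` fixes a point of Ω if and only if `r = 2`, or `r = 3` and `p ≡ 8 (mod 9)`. -/
theorem result {F : Type*} [Field F] [Fintype F] {p : ℕ} [Fact p.Prime] [CharP F p] (hF : Fintype.card F = p ^ 2) (hp : 5 ≤ p) (hp3 : p % 3 = 2)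
    (R : Subgroup (GL (Fin 3) F)) (hRU : R ≤ Cfsg.GU 3 F p) (hR : Nat.card R = 27) (hRe : Monoid.exponent R = 3) (hRna : ¬ IsMulCommutative R)
    (r : ℕ) [Fact r.Prime]
    (hΩ : r ∣ (Cfsg.Geo.subgroupNormalizer R).relIndex (Cfsg.GU 3 F p ⊓ Cfsg.Geo.specialLinear (Fin 3) F)) :
    (∀ x ∈ Cfsg.GU 3 F p ⊓ Cfsg.Geo.specialLinear (Fin 3) F, (∃ z : F, ((x ^ r : GL (Fin 3) F) : Matrix (Fin 3) (Fin 3) F) = z • (1 : Matrix (Fin 3) (Fin 3) F)) →
      (∀ z : F, (x : Matrix (Fin 3) (Fin 3) F) ≠ z • (1 : Matrix (Fin 3) (Fin 3) F)) →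
      ∃ g ∈ Cfsg.GU 3 F p ⊓ Cfsg.Geo.specialLinear (Fin 3) F, g⁻¹ * x * g ∈ Cfsg.Geo.subgroupNormalizer R) ↔ (r = 2 ∨ (r = 3 ∧ p % 9 = 8)) := by
  classical
  have hp' : p.Prime := Fact.out
  have h3 : (3 : F) ≠ 0 := fun h => by
    have : p ∣ 3 := (CharP.cast_eq_zero_iff F p 3).1 (by exact_mod_cast h)
    have := (Nat.prime_dvd_prime_iff_eq hp' Nat.prime_three).1 this
    omega
  have h2 : (2 : F) ≠ 0 := fun h => by
    have : p ∣ 2 := (CharP.cast_eq_zero_iff F p 2).1 (by exact_mod_cast h)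
    have := (Nat.prime_dvd_prime_iff_eq hp' Nat.prime_two).1 this
    omega
  haveI : Fact (Nat.Prime 3) := ⟨Nat.prime_three⟩
  have h3p : 3 ∣ p + 1 := by omega
  have hev : Even (p + 1) := by
    rcases hp'.eq_two_or_odd' with h | h
    · omega
    · exact h.add_one
  have hcube : ∀ t : F, t ^ 3 = 1 → t ^ (p + 1) = 1 := fun t ht => by
    obtain ⟨j, hj⟩ := h3p
    rw [hj, pow_mul, ht, one_pow]
  obtain ⟨w, hw⟩ := exists_prime_orderOf_dvd_card (G := Fˣ) 3 (by
    rw [Fintype.card_units, hF, show p ^ 2 - 1 = (p + 1) * (p - 1) by rw [← Nat.sq_sub_sq, one_pow]]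
    exact Dvd.dvd.mul_right h3p _)
  have hω : (w : F) ^ 3 = 1 := by rw [← Units.val_pow_eq_pow_val, ← hw, pow_orderOf_eq_one, Units.val_one]
  have hω1 : (w : F) ≠ 1 := fun h => by rw [Units.val_eq_one] at h; rw [h, orderOf_one] at hw; omega
  haveI : Finite R := Nat.finite_of_card_ne_zero (by omega)
  obtain ⟨Q₀, l, hl, hl1, ha₀, hb₀, hz₀, hcl₀⟩ := ExtraThree.exists_form h3 hω hω1 R hR hRe hRna
  have hl3 : (l : F) ^ 3 = 1 := by rw [← Units.val_pow_eq_pow_val, hl, Units.val_one]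
  obtain ⟨Q, hQ, hQe⟩ := exists_unitary_form hF hl hl1 (hcube _ hl3) (hRU ha₀) (hRU hb₀)
  have ha := ha₀; have hb := hb₀; have hz := hz₀; have hcl := hcl₀
  rw [← hQe] at ha hb hz
  rw [← hQe, ← hQe, ← hQe] at hcl
  rcases (by
      have hr := (Fact.out : r.Prime)
      by_cases h : r = 2
      · exact Or.inl h
      · by_cases h' : r = 3
        · exact Or.inr (Or.inl h')
        · refine Or.inr (Or.inr ?_)
          have := hr.two_le
          by_contra h5
          have : r = 4 := by omega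
          rw [this] at hr
          norm_num at hr : r = 2 ∨ r = 3 ∨ 5 ≤ r) with hr | hr | hr
  · refine iff_of_true (fun x hx hxr hns => ?_) (Or.inl hr)
    obtain ⟨z, hxr⟩ := hxr
    obtain ⟨hxU, hxS⟩ := hx
    have hxd : (x : Matrix (Fin 3) (Fin 3) F).det = 1 := congrArg Units.val (MonoidHom.mem_ker.1 hxS)
    rw [hr, Units.val_pow_eq_pow_val, pow_two] at hxr
    have hz3 : z ^ 3 = 1 := by
      have h := congrArg Matrix.det hxr
      rw [det_mul, hxd, one_mul, det_smul, det_one, mul_one, Fintype.card_fin] at h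
      exact h.symm
    obtain ⟨s, hs⟩ : ∃ s : Fˣ, (s : F) = z ^ 2 :=
      ⟨Units.mk0 (z ^ 2) (fun h => by rw [sq_eq_zero_iff] at h; rw [h] at hz3; simp at hz3), rfl⟩
    have hs3 : (s : F) ^ 3 = 1 := by rw [hs]; linear_combination (z ^ 3 + 1) * hz3
    have hsp := hcube _ hs3
    obtain ⟨U, hU, hUc⟩ := invol_normal hF h2 hs3 hsp hev hxU hxd
      (by rw [hxr, hs]; congr 1; linear_combination (-z) * hz3) hns
    obtain ⟨T, hT⟩ : ∃ T : GL (Fin 3) F, T = mono ExtraThree.flip (fun _ => -s) := ⟨_, rfl⟩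
    obtain ⟨V, hV, hVc⟩ := invol_normal hF h2 hs3 hsp hev (g := T)
      (hT ▸ mono_mem hF _ _ fun i => by rw [Units.val_neg, hev.neg_pow, hsp])
      (by
        rw [hT, Matrix.det_fin_three]
        simp [mono_apply, show (-2 : Fin 3) = 1 from rfl, show (-1 : Fin 3) = 2 from rfl]
        linear_combination hs3)
      (by
        rw [hT, ← Units.val_mul, mono_mul]
        ext a b
        rw [mono_apply, Matrix.smul_apply, Matrix.one_apply]
        fin_cases a <;> fin_cases b <;> simp [pow_two, Fin.ext_iff])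
      (fun c hc => by
        have := congrFun (congrFun hc 1) 2
        rw [hT, mono_apply] at this
        simp [show (-2 : Fin 3) = 1 from rfl] at this)
    obtain ⟨g, hg, hgx⟩ := adjust hF (by norm_num) hU (mul_mem (mul_mem hU (inv_mem hV)) (inv_mem hQ)) hUc
    refine ⟨g, hg, ?_⟩
    rw [hgx, show (U * V⁻¹ * Q⁻¹)⁻¹ * x * (U * V⁻¹ * Q⁻¹) = Q * (V * (U⁻¹ * x * U) * V⁻¹) * Q⁻¹ by group, hUc, ← hVc,
      show V * (V⁻¹ * T * V) * V⁻¹ = T by group, hT]
    exact ExtraThree.flip_normalizes R hl ha hb hz hcl _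
  · by_cases hp9 : p % 9 = 8
    · refine iff_of_true (fun x hx hxr _ => ?_) (Or.inr ⟨hr, hp9⟩)
      obtain ⟨z, hxr⟩ := hxr
      obtain ⟨hxU, hxS⟩ := hx
      have hxd : (x : Matrix (Fin 3) (Fin 3) F).det = 1 := congrArg Units.val (MonoidHom.mem_ker.1 hxS)
      rw [hr, Units.val_pow_eq_pow_val] at hxr
      have hz3 : z ^ 3 = 1 := by
        have h := congrArg Matrix.det hxr
        rw [det_pow, hxd, one_pow, det_smul, det_one, mul_one, Fintype.card_fin] at h
        exact h.symm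
      obtain ⟨γ, hγ⟩ := IsCyclic.exists_generator (α := Fˣ)
      obtain ⟨zu, hzu⟩ : ∃ zu : Fˣ, (zu : F) = z := ⟨Units.mk0 z (fun h => by rw [h] at hz3; simp at hz3), rfl⟩
      obtain ⟨m, hm⟩ := (mem_powers_iff_mem_zpowers.2 (hγ zu) : zu ∈ Submonoid.powers γ)
      have hm' : γ ^ m = zu := hm
      have ho : orderOf γ = p ^ 2 - 1 := by
        rw [orderOf_eq_card_of_forall_mem_zpowers hγ, Nat.card_eq_fintype_card, Fintype.card_units, hF]
      have hdm : p ^ 2 - 1 ∣ 3 * m := by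
        rw [← ho]
        refine orderOf_dvd_of_pow_eq_one ?_
        rw [mul_comm, pow_mul, hm']
        exact Units.ext (by rw [Units.val_pow_eq_pow_val, hzu, hz3, Units.val_one])
      have h9 : 9 ∣ p + 1 := by omega
      obtain ⟨j, hj⟩ : 3 ∣ m := by
        refine Nat.dvd_of_mul_dvd_mul_left (show 0 < 3 by norm_num) (Dvd.dvd.trans ?_ hdm)
        rw [show p ^ 2 - 1 = (p + 1) * (p - 1) by rw [← Nat.sq_sub_sq, one_pow]]
        exact h9.mul_right _
      obtain ⟨η, hη⟩ : ∃ η : Fˣ, η = γ ^ j := ⟨_, rfl⟩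
      have hη3 : (η : F) ^ 3 = z := by
        rw [← hzu, ← hm', hj, hη, pow_mul']; simp only [Units.val_pow_eq_pow_val]
      have hηq : (η : F) ^ (p + 1) = 1 := by
        obtain ⟨i, hi⟩ := h9
        rw [hi, show 9 * i = 3 * (3 * i) by ring, pow_mul, hη3, pow_mul, hz3, one_pow]
      obtain ⟨y, hy⟩ : ∃ y : GL (Fin 3) F, y = mono 1 (fun _ => η⁻¹) * x := ⟨_, rfl⟩
      have hym : (y : Matrix (Fin 3) (Fin 3) F) = ((η⁻¹ : Fˣ) : F) • (x : Matrix (Fin 3) (Fin 3) F) := by
        rw [hy]; ext a b; rw [(entry_diag x _ a b).2, Matrix.smul_apply, smul_eq_mul]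
      have hyU : y ∈ Cfsg.GU 3 F p := hy ▸ mul_mem (mono_mem hF _ _ fun i => by
        rw [Units.val_inv_eq_inv_val, _root_.inv_pow, hηq, inv_one]) hxU
      obtain ⟨P, c₀, hP, hc₀⟩ := exists_diag_three h3 hω hω1 (g := y) (by
        rw [hym, _root_.smul_pow, hxr, smul_smul, ← hη3, ← mul_pow, Units.inv_mul, one_pow, one_smul])
      have hc₀' : ∀ i, (c₀ i : F) ^ 3 = 1 := fun i => by rw [← Units.val_pow_eq_pow_val, hc₀, Units.val_one]
      obtain ⟨U, hU, c, hUc, hcc⟩ := exists_unitary_diag hF hyU hP fun i => hcube _ (hc₀' i)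
      have hUx : U⁻¹ * x * U = mono 1 (fun i => η * c i) := by
        have hsc : ∀ M : GL (Fin 3) F, mono 1 (fun _ => η) * M = M * mono 1 (fun _ => η) := fun M =>
          Units.ext (Matrix.ext fun a b => by rw [(entry_diag M _ a b).1, (entry_diag M _ a b).2, mul_comm])
        have hxy : x = mono 1 (fun _ => η) * y := by
          rw [hy, ← mul_assoc, mono_mul]
          simp [show (fun _ : Fin 3 => (1 : Fˣ)) = 1 from rfl, mono_one]
        rw [hxy, show U⁻¹ * (mono 1 (fun _ => η) * y) * U = U⁻¹ * (mono 1 (fun _ => η)) * y * U by group, ← hsc,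
          show mono 1 (fun _ => η) * U⁻¹ * y * U = mono 1 (fun _ => η) * (U⁻¹ * y * U) by group, hUc, mono_mul]
        rfl
      obtain ⟨g, hg, hgx⟩ := adjust hF (by norm_num) hU (mul_mem hU (inv_mem hQ)) hUx
      refine ⟨g, hg, ?_⟩
      rw [hgx, show (U * Q⁻¹)⁻¹ * x * (U * Q⁻¹) = Q * (U⁻¹ * x * U) * Q⁻¹ by group, hUx]
      exact ExtraThree.diag_normalizes R hl hl1 ha hb hz hcl η c fun i => by
        obtain ⟨j, hj⟩ := hcc i; rw [hj, hc₀ j]
    · exfalso
      refine index_case hF hp3 hp9 R hR (le_inf hRU ?_) (hr ▸ hΩ)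
      rw [← hcl, Subgroup.closure_le]
      have hd : ∀ (M : GL (Fin 3) F), Matrix.GeneralLinearGroup.det M = 1 → Q * M * Q⁻¹ ∈ Cfsg.Geo.specialLinear (Fin 3) F :=
        fun M hM => MonoidHom.mem_ker.2 (by rw [map_mul, map_mul, map_inv, hM, mul_one, mul_inv_cancel])
      rintro _ (rfl | rfl | rfl) <;> refine hd _ (Units.ext ?_)
      · rw [Matrix.GeneralLinearGroup.val_det_apply, det_mono3, Fin.prod_univ_three]
        simp
        linear_combination hl3
      · rw [Matrix.GeneralLinearGroup.val_det_apply, Matrix.det_fin_three]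
        simp [mono_apply, Fin.ext_iff]
      · rw [Matrix.GeneralLinearGroup.val_det_apply, det_mono3, Fin.prod_univ_three]
        simp
        linear_combination hl3
  · refine iff_of_false (fun h => ?_) (by omega)
    obtain ⟨g₀, hg₀⟩ := exists_prime_orderOf_dvd_card' (G := ↥(Cfsg.GU 3 F p ⊓ Cfsg.Geo.specialLinear (Fin 3) F)) r
      (hΩ.trans (Subgroup.relIndex_dvd_card _ _))
    have hgr : ((g₀ : GL (Fin 3) F)) ^ r = 1 := by
      have := pow_orderOf_eq_one g₀
      rw [hg₀] at this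
      exact congrArg Subtype.val this
    have hns : ∀ c : F, ((g₀ : GL (Fin 3) F) : Matrix (Fin 3) (Fin 3) F) ≠ c • 1 := by
      intro c hc
      have hc3 : c ^ 3 = 1 := by
        have h := congrArg Units.val (MonoidHom.mem_ker.1 g₀.2.2)
        rw [Matrix.GeneralLinearGroup.val_det_apply, hc, det_smul, det_one, mul_one, Fintype.card_fin, Units.val_one] at h
        exact h
      have hcr : c ^ r = 1 := by
        have h' := congrArg (fun N : GL (Fin 3) F => (N : Matrix (Fin 3) (Fin 3) F) 0 0) hgr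
        beta_reduce at h'
        rw [Units.val_pow_eq_pow_val, hc, _root_.smul_pow, one_pow] at h'
        simpa using h'
      have hc1 : c = 1 := by
        have hco : orderOf c ∣ Nat.gcd 3 r := Nat.dvd_gcd (orderOf_dvd_of_pow_eq_one hc3) (orderOf_dvd_of_pow_eq_one hcr)
        rw [(Nat.coprime_primes Nat.prime_three Fact.out).2 (by omega)] at hco
        exact orderOf_eq_one_iff.1 (Nat.dvd_one.1 hco)
      rw [hc1, one_smul] at hc
      have : g₀ = 1 := Subtype.ext (Units.ext hc)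
      rw [this, orderOf_one] at hg₀
      omega
    obtain ⟨g, -, hg⟩ := h _ g₀.2 ⟨1, by rw [hgr, one_smul, Units.val_one]⟩ hns
    have hgr' : (g⁻¹ * (g₀ : GL (Fin 3) F) * g) ^ r = 1 := by
      rw [← MulAut.conj_symm_apply, ← map_pow, hgr, map_one]
    obtain ⟨c, hc⟩ := ExtraThree.no_large_prime R hR hl hl1 ha hb hz hr hg (z := 1) (by rw [hgr', one_smul, Units.val_one])
    refine hns c ?_
    rw [show (g₀ : GL (Fin 3) F) = g * (g⁻¹ * g₀ * g) * g⁻¹ by group, Units.val_mul, Units.val_mul, hc,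
      mul_smul_comm, mul_one, smul_mul_assoc, Units.mul_inv]

end Cfsg.Agent.S5999
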