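import Cfsg.Statements.S6000
import Cfsg.Agent.Lib.Classical22.SympTypeFour.Witness
import Cfsg.Agent.Lib.Classical22.SympTypeFour.Conj
import Cfsg.Agent.Lib.Classical22.InvolClasses
-- import your own Cfsg.Agent.* helpers here

set_option autoImplicit false
open scoped MatrixGroups
open Cfsg

namespace Cfsg.Agent.S6000

open Matrix Polynomial CfsgLib.Classical22 CfsgLib.Classical22.SympTypeFour

/-- Elements of prime order of PSL_4(p), p ≡ 1 (mod 4), and the normalizer of a 2-group of symplectic type of order 2⁶. Here `T = PSL_4(F)` for the field `F` with `p` elements, `p` a prime with `p ≡ 1 (mod 4)`; `R` is an absolutely irreducible subgroup of GL_4(F) of order 2⁶ that is a 2-group of symplectic type of exponent 4 with centre of order 4 (the central product of the scalars of order 4 with an extraspecial group 2^{1+4}), and `H` is the subgroup of matrices of determinant 1 normalizing `R` — a subgroup of type 2⁴.Sp₄(2) (maximality is not assumed). Ω is the set of cosets of `H` in `T`, so an element of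 `T` of prime order `r` (a matrix `x` of determinant 1 with `x^r` scalar, `x` not scalar) fixes a point of Ω exactly when some conjugate of `x` by a matrix of determinant 1 normalizes `R`. Let `r` be a prime dividing the index of `H`. Then every element of `T` of order `r` fixes a point of Ω if and only if `r = 2`, or `r = 3` and `p ≡ 2 (mod 3)`, or `r = 5` and `p ≡ ±2 (mod 5)` (`p` has multiplicative order 4 modulo 5). -/
theorem result {F : Type*} [Field F] [Fintype F] {p : ℕ} [Fact p.Prime] [CharP F p] (hF : Fintype.card F = p) (hp4 : p % 4 = 1)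
    (R : Subgroup (GL (Fin 4) F)) (hR : Cfsg.Geo.IsLinearSymplecticTypeData 2 R) (hR6 : Nat.card R = 2 ^ 6)
    (r : ℕ) [Fact r.Prime]
    (hΩ : r ∣ (Cfsg.Geo.subgroupNormalizer R).relIndex (Cfsg.Geo.specialLinear (Fin 4) F)) :
    (∀ x ∈ Cfsg.Geo.specialLinear (Fin 4) F, (∃ z : F, ((x ^ r : GL (Fin 4) F) : Matrix (Fin 4) (Fin 4) F) = z • (1 : Matrix (Fin 4) (Fin 4) F)) →
      (∀ z : F, (x : Matrix (Fin 4) (Fin 4) F) ≠ z • (1 : Matrix (Fin 4) (Fin 4) F)) →
      ∃ g ∈ Cfsg.Geo.specialLinear (Fin 4) F, g⁻¹ * x * g ∈ Cfsg.Geo.subgroupNormalizer R) ↔ (r = 2 ∨ (r = 3 ∧ p % 3 = 2) ∨ (r = 5 ∧ orderOf (p : ZMod 5) = 4)) := by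
  classical
  have hp := (Fact.out : p.Prime)
  have hr := (Fact.out : r.Prime)
  have hp2 : p ≠ 2 := by omega
  have hp3 : p ≠ 3 := by omega
  obtain ⟨h2', h3', h5'⟩ := two_three_five (F := F) (p := p)
  have h2 := h2' hp2
  have h3 := h3' hp3
  have hι : Fintype.card (Fin 4) = 4 := Fintype.card_fin 4
  have hZ : Nat.card (Subgroup.center R) = 4 := by
    obtain ⟨p', e', -, -, hcase⟩ := hR.field
    rcases hcase with ⟨h, -⟩ | ⟨-, -, h, -⟩ | ⟨-, -, h, -⟩
    · exact absurd h (by decide)
    · exact h
    · simp at h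
  obtain ⟨hS, z, e, hz, hzc, hz2, hF'⟩ := setup_four h2 hR.symplecticType hR.absIrred hR6 hZ
  have hZd : Nat.card (Subgroup.center R) ∣ 4 := by rw [hZ]
  obtain ⟨G, hGd⟩ : ∃ G, G = Cfsg.Geo.specialLinear (Fin 4) F := ⟨_, rfl⟩
  rw [← hGd] at hΩ ⊢
  have hdet : ∀ x ∈ G, (x : Matrix (Fin 4) (Fin 4) F).det = 1 := fun x hx => mem_sl_iff.1 (hGd ▸ hx)
  have hh : Sesq (RingHom.id F) (fun _ _ : Fin 4 → F => (0 : F)) :=
    ⟨fun _ _ _ => by simp, fun _ _ _ => by simp, fun _ _ _ => by simp, fun _ _ _ => by simp⟩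
  have hpres : ∀ g : GL (Fin 4) F, Pres (fun _ _ : Fin 4 → F => (0 : F)) g := fun _ _ _ => rfl
  have hG : ∀ g, Pres (fun _ _ : Fin 4 → F => (0 : F)) g → (g : Matrix (Fin 4) (Fin 4) F).det = 1 → g ∈ G :=
    fun g _ hd => hGd ▸ mem_sl_iff.2 hd
  have hconj : ∀ m : ℕ, (m : F) ≠ 0 → ∀ x y g : GL (Fin 4) F, x ∈ G → y ∈ G → x ^ m = 1 → g * y = x * g →
      ∃ k ∈ G, k⁻¹ * x * k = y := fun m hm x y g _ _ hx hg => hGd ▸ sl_conj_of_gl (by norm_num) hm hx hg
  have hz4 : ∀ x ∈ G, ∀ c : F, ((x ^ r : GL (Fin 4) F) : Matrix (Fin 4) (Fin 4) F) = c • 1 → c ^ 4 = 1 :=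
    fun x hx c hc => by
    have h := congrArg Matrix.det hc
    rw [Units.val_pow_eq_pow_val, Matrix.det_pow, hdet x hx, one_pow, Matrix.det_smul, Matrix.det_one, mul_one, hι] at h
    exact h.symm
  have hscal : ∀ c : F, c ^ 4 = 1 → ∀ (n : ℕ) (u : GL (Fin 4) F), (u : Matrix (Fin 4) (Fin 4) F) = c ^ n • 1 → u ∈ G :=
    fun c hc n u hu => hG u (hpres u) (by rw [hu, Matrix.det_smul, Matrix.det_one, mul_one, hι, pow_right_comm, hc, one_pow])
  constructor
  · intro H
    by_contra hcon
    push Not at hcon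
    obtain ⟨hr2, hcon3, hcon5⟩ := hcon
    have bad : ∀ x ∈ G, x ^ r = 1 → (∀ c : F, (x : Matrix (Fin 4) (Fin 4) F) ≠ c • 1) →
        (∀ k : GL (Fin 4) F, k⁻¹ * x * k ∉ Cfsg.Geo.subgroupNormalizer R) → False := fun x hx hxr hns hk => by
      obtain ⟨g, -, hg⟩ := H x hx ⟨1, by rw [hxr, one_smul, Units.val_one]⟩ hns
      exact hk g hg
    rcases lt_or_ge 5 r with h | h
    · obtain ⟨x, hx, hxr, hns, hk⟩ := exists_bad_large h2 hι hS hZd h hdet hΩ
      exact bad x hx hxr hns hk
    have : r = 3 ∨ r = 5 := by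
      have := hr.two_le
      interval_cases r <;> first | omega | norm_num at hr
    rcases this with rfl | rfl
    · have hp31 : p % 3 = 1 := by
        have h0 : p % 3 ≠ 0 := fun h0 =>
          hp3 ((Nat.prime_dvd_prime_iff_eq Nat.prime_three hp).1 (Nat.dvd_of_mod_eq_zero h0)).symm
        have := hcon3 rfl
        omega
      obtain ⟨w, hw⟩ := exists_prime_orderOf_dvd_card (G := Fˣ) 3 (by rw [Fintype.card_units, hF]; omega)
      have hw3 : ((w : F)) ^ 3 = 1 := by
        rw [← Units.val_pow_eq_pow_val, ← hw, pow_orderOf_eq_one, Units.val_one]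
      have hw1 : (w : F) ≠ 1 := fun h => by
        rw [Units.val_eq_one.1 h, orderOf_one] at hw; omega
      have hww : (w : F) * w + w + 1 = 0 := by
        have : ((w : F) - 1) * ((w : F) * w + w + 1) = 0 := by linear_combination hw3
        exact (mul_eq_zero.1 this).resolve_left (sub_ne_zero.2 hw1)
      obtain ⟨x, -, hx3, hxd, hns, ht, ht'⟩ := diag_omega hw3 hw1
      refine bad x (hG x (hpres x) hxd) hx3 hns (bad_trace h2 hι hS hZd (by decide) hx3 hns ?_)
      rw [ht, ht']
      exact omega_bad h2 h3 hww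
    · by_cases hp5 : p = 5
      · subst hp5
        obtain ⟨x, hx⟩ : ∃ x : GL (Fin 4) F, (x : Matrix (Fin 4) (Fin 4) F) = transvection 0 3 1 :=
          ⟨⟨transvection 0 3 1, transvection 0 3 (-1), by
            rw [transvection_mul_transvection_same (h := by decide), add_neg_cancel, transvection_zero], by
            rw [transvection_mul_transvection_same (h := by decide), neg_add_cancel, transvection_zero]⟩, rfl⟩
        have hxd : (x : Matrix (Fin 4) (Fin 4) F).det = 1 := by rw [hx, det_transvection_of_ne _ _ (by decide)]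
        have hxp : x ^ 5 = 1 := by
          refine Units.ext ?_
          have hadd := fun a b : F => transvection_mul_transvection_same (R := F) (i := (0 : Fin 4)) (j := 3) (by decide) a b
          rw [Units.val_pow_eq_pow_val, hx, pow_succ, pow_succ, pow_succ, pow_succ, pow_one, hadd, hadd, hadd, hadd,
            Units.val_one]
          have h50 : ((5 : ℕ) : F) = 0 := CharP.cast_eq_zero F 5
          rw [show (1 : F) + 1 + 1 + 1 + 1 = ((5 : ℕ) : F) by push_cast; ring, h50, transvection_zero]
        have hns : ∀ c : F, (x : Matrix (Fin 4) (Fin 4) F) ≠ c • 1 := fun c hc => by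
          rw [hx] at hc
          have := congrFun (congrFun hc 0) 3
          simp [transvection, Matrix.single] at this
        refine bad x (hG x (hpres x) hxd) hxp hns
          (bad_transvection h2 hι hS hp2 hxp hns (l := Pi.single 0 1) (fun v => ⟨v 3, ?_⟩) ?_)
        · rw [hx]; funext i
          fin_cases i <;> simp [transvection, Matrix.single, Matrix.mulVec, dotProduct, Fin.sum_univ_four]
        · rw [hx]; funext i
          fin_cases i <;> simp [transvection, Matrix.single, Matrix.mulVec, dotProduct, Fin.sum_univ_four]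
      · obtain ⟨s, hs, -⟩ := exists_golden (F := F) hp2 hp5 (hcon5 rfl)
        have h5 := h5' hp5
        obtain ⟨x, -, hx5, hxd, hns, ht, ht'⟩ := block_five (a := s / 2) (b := 1) (c := s / 2 * (s / 2) - 1)
          (by ring) (by rw [mul_div_cancel₀ _ h2]; exact hs) h5
        refine bad x (hG x (hpres x) hxd) hx5 hns (bad_trace h2 hι hS hZd (by decide) hx5 hns ?_)
        rw [ht, ht', mul_div_cancel₀ _ h2]
        exact golden_bad h5 hs
  · rintro h x hx ⟨c, hc⟩ hns
    have hc4 := hz4 x hx c hc
    rcases h with rfl | ⟨rfl, hp32⟩ | ⟨rfl, hord⟩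
    · obtain ⟨m, hm⟩ : ∃ m : F, m ^ 2 = c := by
        by_contra hcon
        push Not at hcon
        have hc0 : c ≠ 0 := fun h => by simp [h] at hc4
        obtain ⟨m, ε, P, hP⟩ := InvolClasses.exists_nonsquare (g := x) (z := Units.mk0 c hc0)
          (by rw [← Units.val_mul, ← pow_two]; exact hc) hcon
        have hm2 : m = 2 := by
          have := Fintype.card_congr ε
          simp at this
          omega
        have hd := congrArg (fun g : GL (Fin 4) F => (g : Matrix (Fin 4) (Fin 4) F).det) hP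
        rw [InvolClasses.det_pair] at hd
        have hd' : ((P⁻¹ * x * P : GL (Fin 4) F) : Matrix (Fin 4) (Fin 4) F).det = (x : Matrix (Fin 4) (Fin 4) F).det := by
          rw [Units.val_mul, Units.val_mul, Matrix.det_mul, Matrix.det_mul, mul_right_comm, ← Matrix.det_mul,
            ← Units.val_mul, inv_mul_cancel, Units.val_one, Matrix.det_one, one_mul]
        rw [hd', hdet x hx, hm2, Units.val_mk0, neg_sq] at hd
        rcases sq_eq_one_iff.1 hd.symm with rfl | rfl
        · exact hcon 1 (one_pow 2)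
        · obtain ⟨i, hi⟩ := (FiniteField.isSquare_neg_one_iff (F := F)).2 (by rw [hF]; omega)
          exact hcon i (by rw [hi, pow_two])
      have hm0 : m ≠ 0 := fun h => by subst h; simp [← hm] at hc4
      obtain ⟨u, hu⟩ := exists_scalar_gl (ι := Fin 4) hm0
      have hxu : x * x = u * u := Units.ext (by
        rw [← pow_two, hc, Units.val_mul, hu, smul_mul_smul_comm, one_mul, ← pow_two, hm])
      refine two_pos h2 hι hS hF' hz hzc hz2 hh (fun a _ => hpres a) hG hdet (hconj 8 ?_) hu (hpres u) hx hxu ?_ hns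
      · rw [show ((8 : ℕ) : F) = 2 ^ 3 by norm_num]; exact pow_ne_zero 3 h2
      · refine Units.ext ?_
        rw [show 8 = 2 * 4 from rfl, pow_mul, Units.val_pow_eq_pow_val, hc, _root_.smul_pow, hc4, one_pow, one_smul,
          Units.val_one]
    · have hω : ∀ a : F, a * a + a + 1 ≠ 0 := fun a ha => by
        have ha3 : a ^ 3 = 1 := by linear_combination (a - 1) * ha
        have ha0 : a ≠ 0 := fun h => by simp [h] at ha3
        have h1 := pow_gcd_eq_one.2 ⟨ha3, hF ▸ FiniteField.pow_card_sub_one_eq_one a ha0⟩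
        rw [show Nat.gcd 3 (p - 1) = 1 from (Nat.prime_three.coprime_iff_not_dvd.2 (by omega)).gcd_eq_one, pow_one] at h1
        subst h1
        exact h3 (by linear_combination ha)
      obtain ⟨hpar, hcl⟩ := class_three_linear (ι := Fin 4) hι h3 hω
      exact odd_reduce (by decide) (three_pos h2 h3 hι hS hF' hz hzc hz2 hh (fun a _ => hpres a) hG
        (hconj 3 (by exact_mod_cast h3)) (fun x _ h => hpar x h) (fun x y _ _ h h' => hcl x y h h'))
        hx hc hc4 hns (hscal c hc4)
    · have hp5 : p ≠ 5 := fun h => by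
        subst h
        rw [ZMod.natCast_self, orderOf_zero] at hord
        omega
      exact odd_reduce (by decide) (five_pos h2 hι hS hF' hh (fun a _ => hpres a) hG
        (hconj 5 (by exact_mod_cast h5' hp5)) (fun x y _ _ h h' a b => class_five_linear hF hι hord x y h h' a b))
        hx hc hc4 hns (hscal c hc4)

end Cfsg.Agent.S6000
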