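import Cfsg.Statements.S6001
import Cfsg.Agent.Lib.Classical22.SympTypeFour.Witness
import Cfsg.Agent.Lib.Classical22.SympTypeFour.Conj
-- import your own Cfsg.Agent.* helpers here

set_option autoImplicit false
open scoped MatrixGroups
open Cfsg

namespace Cfsg.Agent.S6001

open Matrix Polynomial CfsgLib.Classical CfsgLib.Classical22.SympTypeFour

theorem unit_transvection {F : Type*} [Field F] [Fintype F] {p : ℕ} [Fact p.Prime] [CharP F p]
    (hF : Fintype.card F = p ^ 2) (hp : Odd p) :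
    ∃ x ∈ Cfsg.GU 4 F p, x ^ p = 1 ∧ (x : Matrix (Fin 4) (Fin 4) F).det = 1 ∧
      (∀ t : F, (x : Matrix (Fin 4) (Fin 4) F) ≠ t • 1) ∧
      ∃ l : Fin 4 → F, (∀ v, ∃ t : F, (x : Matrix (Fin 4) (Fin 4) F) *ᵥ v = v + t • l) ∧
        (x : Matrix (Fin 4) (Fin 4) F) *ᵥ l = l := by
  obtain ⟨σ, hσ, hσσ, -⟩ := exists_qPow hF
  obtain ⟨a, ha⟩ := exists_norm_eq hF (μ := (-1 : F)) hp.neg_one_pow
  obtain ⟨k, hk⟩ := GUConj.exists_pow_ne hF
  obtain ⟨c, hcd⟩ : ∃ c : F, c = k - k ^ p := ⟨_, rfl⟩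
  have hc : c ^ p = -c := by rw [hcd, ← hσ, map_sub, ← hσ k, hσσ]; ring
  have hc0 : c ≠ 0 := hcd ▸ sub_ne_zero.2 (Ne.symm hk)
  obtain ⟨v, hv⟩ : ∃ v : Fin 4 → F, v = ![1, a, 0, 0] := ⟨_, rfl⟩
  obtain ⟨w, hw⟩ : ∃ w : Fin 4 → F, w = fun i => v i ^ p := ⟨_, rfl⟩
  obtain ⟨M, hM⟩ : ∃ M : Matrix (Fin 4) (Fin 4) F, M = c • vecMulVec v w := ⟨_, rfl⟩
  have hwv : w ⬝ᵥ v = 0 := by
    simp [dotProduct, Fin.sum_univ_four, hw, hv, ← pow_succ, ha]
  have hMM : M * M = 0 := by
    rw [hM, smul_mul_smul_comm, vecMulVec_mul_vecMulVec, hwv]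
    simp
  have hMs : GUConj.starQ p M = -M := by
    have e : ∀ i j, GUConj.starQ p M i j = -(M i j) := fun i j => by
      rw [hM]
      simp only [GUConj.starQ, Matrix.transpose_apply, Matrix.map_apply, Matrix.smul_apply, vecMulVec_apply,
        smul_eq_mul, hw, mul_pow, hc, pow_q_q hF]
      ring
    exact Matrix.ext e
  obtain ⟨x, hx⟩ : ∃ x : GL (Fin 4) F, (x : Matrix (Fin 4) (Fin 4) F) = 1 + M :=
    ⟨⟨1 + M, 1 - M, by simp only [mul_sub, add_mul, mul_one, one_mul, hMM]; abel,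
      by simp only [sub_mul, mul_add, mul_one, one_mul, hMM]; abel⟩, rfl⟩
  have hpw : ∀ n : ℕ, (1 + M) ^ n = 1 + (n : F) • M := fun n => by
    induction n with
    | zero => rw [pow_zero, Nat.cast_zero, zero_smul, add_zero]
    | succ n ih =>
      rw [pow_succ, ih]
      simp only [add_mul, mul_add, mul_one, one_mul, smul_mul_assoc, hMM, smul_zero, add_zero, Nat.cast_succ, add_smul,
        one_smul]
      abel
  have hxp : x ^ p = 1 := Units.ext (by
    rw [Units.val_pow_eq_pow_val, hx, hpw, CharP.cast_eq_zero, zero_smul, add_zero, Units.val_one])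
  have hMl : ∀ u, M *ᵥ u = (c * (w ⬝ᵥ u)) • v := fun u => by
    rw [hM, smul_mulVec, vecMulVec_mulVec]; simp [smul_smul]
  refine ⟨x, (GUConj.mem_gu_iff_starQ hF x).2 ?_, hxp, ?_, fun t ht => ?_, v, fun u => ⟨c * (w ⬝ᵥ u), ?_⟩, ?_⟩
  · rw [hx, GUConj.starQ_add hF, GUConj.starQ_one hF, hMs]
    simp only [add_mul, mul_add, neg_mul, one_mul, mul_one, hMM]; abel
  · have h1 := congrArg Matrix.det (congrArg Units.val hxp)
    rw [Units.val_pow_eq_pow_val, Matrix.det_pow, Units.val_one, Matrix.det_one] at h1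
    refine sub_eq_zero.1 (pow_eq_zero_iff (Fact.out : p.Prime).ne_zero |>.1 ?_)
    rw [sub_pow_char, h1, one_pow, sub_self]
  · rw [hx, hM] at ht
    have := congrFun (congrFun ht 1) 0
    rw [Matrix.add_apply, Matrix.smul_apply, vecMulVec_apply, hw, hv] at this
    simp at this
    rcases this with h | h
    · exact hc0 h
    · subst h; simp at ha
  · rw [hx, add_mulVec, one_mulVec, hMl]
  · rw [hx, add_mulVec, one_mulVec, hMl, hwv, mul_zero, zero_smul, add_zero]

/-- Elements of prime order of PSU_4(p), p ≡ 3 (mod 4), and the normalizer of a 2-group of symplectic type of order 2⁶. Here `T = PSU_4(p)` for a prime `p ≡ 3 (mod 4)`, realised through `SU_4(p)`, the matrices of determinant 1 over the field `F` with `p²` elements preserving the hermitian form `f = Σ uᵢvᵢ^p`; `R` is an absolutely irreducible subgroup of the full unitary group of `f` of order 2⁶ that is a 2-group of symplectic type of exponent 4 with centre of order 4, and `H` is the subgroup of `SU_4(p)`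 normalizing `R` — a subgroup of type 2⁴.Sp₄(2) (maximality is not assumed). Ω is the set of cosets of `H`, so an element of `T` of prime order `r` (`x ∈ SU_4(p)` with `x^r` scalar, `x` not scalar) fixes a point of Ω exactly when some `SU_4(p)`-conjugate of `x` normalizes `R`. Let `r` be a prime dividing the index of `H`. Then every element of `T` of order `r` fixes a point of Ω if and only if `r = 2`, or `r = 3` and `p ≡ 1 (mod 3)`, or `r = 5` and `p ≡ ±2 (mod 5)` (`p` has multiplicative order 4 modulo 5). -/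
theorem result {F : Type*} [Field F] [Fintype F] {p : ℕ} [Fact p.Prime] [CharP F p] (hF : Fintype.card F = p ^ 2) (hp4 : p % 4 = 3)
    (R : Subgroup (GL (Fin 4) F)) (hRs : Cfsg.Geo.IsSymplecticTypeGroup 2 R) (hRi : Cfsg.Geo.ActsAbsolutelyIrreducibly (Cfsg.Geo.matrixSet R))
    (hRU : R ≤ Cfsg.GU 4 F p) (hR6 : Nat.card R = 2 ^ 6) (hRZ : Nat.card (Subgroup.center R) = 4)
    (r : ℕ) [Fact r.Prime]
    (hΩ : r ∣ (Cfsg.Geo.subgroupNormalizer R).relIndex (Cfsg.GU 4 F p ⊓ Cfsg.Geo.specialLinear (Fin 4) F)) :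
    (∀ x ∈ Cfsg.GU 4 F p ⊓ Cfsg.Geo.specialLinear (Fin 4) F, (∃ z : F, ((x ^ r : GL (Fin 4) F) : Matrix (Fin 4) (Fin 4) F) = z • (1 : Matrix (Fin 4) (Fin 4) F)) →
      (∀ z : F, (x : Matrix (Fin 4) (Fin 4) F) ≠ z • (1 : Matrix (Fin 4) (Fin 4) F)) →
      ∃ g ∈ Cfsg.GU 4 F p ⊓ Cfsg.Geo.specialLinear (Fin 4) F, g⁻¹ * x * g ∈ Cfsg.Geo.subgroupNormalizer R) ↔ (r = 2 ∨ (r = 3 ∧ p % 3 = 1) ∨ (r = 5 ∧ orderOf (p : ZMod 5) = 4)) := by
  classical
  have hp := (Fact.out : p.Prime)
  have hr := (Fact.out : r.Prime)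
  have hp2 : p ≠ 2 := by omega
  have hp5 : p ≠ 5 := by omega
  have hodd : Odd p := hp.odd_of_ne_two hp2
  obtain ⟨h2', h3', h5'⟩ := two_three_five (F := F) (p := p)
  have h2 := h2' hp2
  have h5 := h5' hp5
  have hrc : ringChar F ≠ 2 := by rw [ringChar.eq F p]; exact hp2
  have hι : Fintype.card (Fin 4) = 4 := Fintype.card_fin 4
  obtain ⟨hS, z, e, hz, hzc, hz2, hF'⟩ := setup_four h2 hRs hRi hR6 hRZ
  have hZd : Nat.card (Subgroup.center R) ∣ 4 := by rw [hRZ]
  obtain ⟨σ, hσ, hσσ, -⟩ := exists_qPow hF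
  obtain ⟨G, hGd⟩ : ∃ G, G = Cfsg.GU 4 F p ⊓ Cfsg.Geo.specialLinear (Fin 4) F := ⟨_, rfl⟩
  rw [← hGd] at hΩ ⊢
  have hGU : ∀ x ∈ G, x ∈ Cfsg.GU 4 F p := fun x hx => (hGd ▸ hx : x ∈ Cfsg.GU 4 F p ⊓ _).1
  have hdet : ∀ x ∈ G, (x : Matrix (Fin 4) (Fin 4) F).det = 1 := fun x hx =>
    mem_sl_iff.1 (hGd ▸ hx : x ∈ Cfsg.GU 4 F p ⊓ _).2
  have hmem : ∀ g, g ∈ Cfsg.GU 4 F p → (g : Matrix (Fin 4) (Fin 4) F).det = 1 → g ∈ G :=
    fun g hg hd => hGd ▸ ⟨hg, mem_sl_iff.2 hd⟩
  have hh : Sesq σ (Cfsg.hermForm 4 F p) :=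
    ⟨fun u v w => by simp only [Cfsg.hermForm, Pi.add_apply, add_mul, Finset.sum_add_distrib],
      fun u v w => by simp only [Cfsg.hermForm, Pi.add_apply, ← hσ, map_add, mul_add, Finset.sum_add_distrib],
      fun t u w => by simp only [Cfsg.hermForm, Pi.smul_apply, smul_eq_mul, Finset.mul_sum, mul_assoc],
      fun t u w => by simp only [Cfsg.hermForm, Pi.smul_apply, smul_eq_mul, ← hσ, map_mul, Finset.mul_sum, mul_left_comm]⟩
  have hpR : ∀ a ∈ R, Pres (Cfsg.hermForm 4 F p) a := fun a ha => hRU ha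
  have hG : ∀ g, Pres (Cfsg.hermForm 4 F p) g → (g : Matrix (Fin 4) (Fin 4) F).det = 1 → g ∈ G := fun g hg hd => hmem g hg hd
  have hconj : ∀ m : ℕ, (m : F) ≠ 0 → ∀ x y g : GL (Fin 4) F, x ∈ G → y ∈ G → x ^ m = 1 → g * y = x * g →
      ∃ k ∈ G, k⁻¹ * x * k = y := fun m hm x y g hx hy hxm hg =>
    hGd ▸ gu_conj_of_gl hF (by norm_num) hm (hGU x hx) (hGU y hy) hxm hg
  constructor
  · intro H
    by_contra hcon
    push Not at hcon
    obtain ⟨hr2, hcon3, hcon5⟩ := hcon
    have bad : ∀ x ∈ G, x ^ r = 1 → (∀ t : F, (x : Matrix (Fin 4) (Fin 4) F) ≠ t • 1) →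
        (∀ k : GL (Fin 4) F, k⁻¹ * x * k ∉ Cfsg.Geo.subgroupNormalizer R) → False := fun x hx hxr hns hk => by
      obtain ⟨g, -, hg⟩ := H x hx ⟨1, by rw [hxr, one_smul, Units.val_one]⟩ hns
      exact hk g hg
    rcases lt_or_ge 5 r with h | h
    · obtain ⟨x, hx, hxr, hns, hk⟩ := exists_bad_large h2 hι hS hZd h hdet hΩ
      exact bad x hx hxr hns hk
    have : r = 3 ∨ r = 5 := by
      have := hr.two_le
      interval_cases r <;> first | omega | norm_num at hr
    rcases this with rfl | rfl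
    · by_cases hp3 : p = 3
      · subst hp3
        obtain ⟨x, hxU, hxp, hxd, hns, l, hl, hxl⟩ := unit_transvection hF hodd
        exact bad x (hmem x hxU hxd) hxp hns (bad_transvection h2 hι hS hp2 hxp hns hl hxl)
      · have hp32 : p % 3 = 2 := by
          have h0 : p % 3 ≠ 0 := fun h0 =>
            hp3 ((Nat.prime_dvd_prime_iff_eq Nat.prime_three hp).1 (Nat.dvd_of_mod_eq_zero h0)).symm
          have := hcon3 rfl
          omega
        obtain ⟨w, hw⟩ := exists_prime_orderOf_dvd_card (G := Fˣ) 3 (by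
          rw [Fintype.card_units, hF]
          have h1 : p ^ 2 % 3 = 1 := by rw [Nat.pow_mod, hp32]
          omega)
        have hw3 : ((w : F)) ^ 3 = 1 := by
          rw [← Units.val_pow_eq_pow_val, ← hw, pow_orderOf_eq_one, Units.val_one]
        have hw1 : (w : F) ≠ 1 := fun h => by
          rw [Units.val_eq_one.1 h, orderOf_one] at hw; omega
        have hww : (w : F) * w + w + 1 = 0 := by
          have : ((w : F) - 1) * ((w : F) * w + w + 1) = 0 := by linear_combination hw3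
          exact (mul_eq_zero.1 this).resolve_left (sub_ne_zero.2 hw1)
        have hwp : (w : F) ^ p * w = 1 := by
          rw [← pow_succ]
          obtain ⟨k, hk⟩ : 3 ∣ p + 1 := by omega
          rw [hk, pow_mul, hw3, one_pow]
        obtain ⟨x, hx, hx3, hxd, hns, ht, ht'⟩ := diag_omega hw3 hw1
        have hxU : x ∈ Cfsg.GU 4 F p := by
          rw [GUConj.mem_gu_iff_starQ hF, hx, GUConj.starQ, diagonal_map (f := fun y : F => y ^ p) (zero_pow hp.ne_zero), diagonal_transpose,
            diagonal_mul_diagonal, ← diagonal_one]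
          congr 1
          funext i
          fin_cases i <;> simp [hwp]
        refine bad x (hmem x hxU hxd) hx3 hns (bad_trace h2 hι hS hZd (by decide) hx3 hns ?_)
        rw [ht, ht']
        exact omega_bad h2 (h3' hp3) hww
    · obtain ⟨s, hs, hsσ⟩ := exists_golden (F := F) hp2 hp5 (hcon5 rfl)
      obtain ⟨a, had⟩ : ∃ a : F, a = s / 2 := ⟨_, rfl⟩
      have hap : a ^ p = a := by rw [had, ← hσ, map_div₀, hsσ σ, map_ofNat]
      obtain ⟨b, hb⟩ := exists_norm_eq hF (μ := 1 - a * a) (by rw [← hσ, map_sub, map_one, map_mul, hσ, hap])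
      rw [pow_succ] at hb
      obtain ⟨x, hx, hx5, hxd, hns, ht, ht'⟩ := block_five (a := a) (b := b) (c := -b ^ p)
        (by linear_combination hb) (by rw [had, mul_div_cancel₀ _ h2]; exact hs) h5
      have hxU : x ∈ Cfsg.GU 4 F p := by
        rw [GUConj.mem_gu_iff_starQ hF, hx]
        have hnp : (-b ^ p) ^ p = -b := by rw [hodd.neg_pow, pow_q_q hF]
        ext i j
        fin_cases i <;> fin_cases j <;>
          simp [Matrix.mul_apply, Fin.sum_univ_four, GUConj.starQ, hap, hnp, zero_pow hp.ne_zero] <;>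
          first | linear_combination hb | ring
      refine bad x (hmem x hxU hxd) hx5 hns (bad_trace h2 hι hS hZd (by decide) hx5 hns ?_)
      rw [ht, ht', had, mul_div_cancel₀ _ h2]
      exact golden_bad h5 hs
  · rintro h x hx ⟨c, hc⟩ hns
    have hc4 : c ^ 4 = 1 := by
      have h1 := congrArg Matrix.det hc
      rw [Units.val_pow_eq_pow_val, Matrix.det_pow, hdet x hx, one_pow, Matrix.det_smul, Matrix.det_one, mul_one, hι] at h1
      exact h1.symm
    have h4p : ∀ k : F, k ^ 4 = 1 → k ^ p * k = 1 := fun k hk => by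
      obtain ⟨j, hj⟩ : 4 ∣ p + 1 := by omega
      rw [← pow_succ, hj, pow_mul, hk, one_pow]
    have scal_mem : ∀ (k : F) (u : GL (Fin 4) F), (u : Matrix (Fin 4) (Fin 4) F) = k • 1 → k ^ p * k = 1 →
        u ∈ Cfsg.GU 4 F p := fun k u hu hk => by
      rw [GUConj.mem_gu_iff_starQ hF, hu, starQ_smul hF, GUConj.starQ_one hF, smul_mul_smul_comm, one_mul, hk, one_smul]
    have hscal : ∀ (n : ℕ) (u : GL (Fin 4) F), (u : Matrix (Fin 4) (Fin 4) F) = c ^ n • 1 → u ∈ G := fun n u hu => by
      have h4n : (c ^ n) ^ 4 = 1 := by rw [pow_right_comm, hc4, one_pow]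
      exact hmem u (scal_mem _ u hu (h4p _ h4n)) (by rw [hu, Matrix.det_smul, Matrix.det_one, mul_one, hι, h4n])
    rcases h with rfl | ⟨rfl, hp31⟩ | ⟨rfl, hord⟩
    · have hc0 : c ≠ 0 := fun h => by simp [h] at hc4
      obtain ⟨m, hm⟩ : IsSquare c := (FiniteField.isSquare_iff hrc hc0).2 (by
        obtain ⟨j, hj⟩ : 4 ∣ p + 1 := by omega
        obtain ⟨i, hi⟩ := hodd
        have : p ^ 2 / 2 = 4 * (j * i) := by
          have h1 : p ^ 2 = 1 + 2 * (4 * (j * i)) := by
            calc p ^ 2 = 1 + 2 * i * (p + 1) := by rw [hi]; ring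
              _ = _ := by rw [hj]; ring
          rw [h1, Nat.add_mul_div_left _ _ two_pos]; norm_num
        rw [hF, this, pow_mul, hc4, one_pow])
      have hm0 : m ≠ 0 := fun h => hc0 (by rw [hm, h, zero_mul])
      obtain ⟨u, hu⟩ := exists_scalar_gl (ι := Fin 4) hm0
      have hxx : (x : Matrix (Fin 4) (Fin 4) F) * x = c • 1 := by rw [← Units.val_mul, ← pow_two]; exact hc
      have hxu : x * x = u * u := Units.ext (by
        rw [Units.val_mul, hxx, Units.val_mul, hu, smul_mul_smul_comm, one_mul, ← hm])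
      have hx8 : x ^ 8 = 1 := Units.ext (by
        rw [show 8 = 2 * 4 from rfl, pow_mul, Units.val_pow_eq_pow_val, hc, _root_.smul_pow, hc4, one_pow, one_smul,
          Units.val_one])
      have hcc : c ^ p * c = 1 := h4p c hc4
      have hmp : m ^ p * m = 1 := by
        have : (m ^ p * m) * (m ^ p * m) = 1 := by
          rw [← hcc, hm, mul_pow]; ring
        refine (mul_self_eq_one_iff.1 this).resolve_right fun hneg => ?_
        -- an anti-isometry has determinant one
        obtain ⟨t, ht⟩ : ∃ t : GL (Fin 4) F, t = u⁻¹ * x := ⟨_, rfl⟩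
        have hui : ((u⁻¹ : GL (Fin 4) F) : Matrix (Fin 4) (Fin 4) F) = m⁻¹ • 1 :=
          (Units.eq_inv_of_mul_eq_one_left (by rw [hu, smul_mul_smul_comm, mul_inv_cancel₀ hm0, one_mul, one_smul])).symm
        have htv : (t : Matrix (Fin 4) (Fin 4) F) = m⁻¹ • (x : Matrix (Fin 4) (Fin 4) F) := by
          rw [ht, Units.val_mul, hui, smul_mul_assoc, one_mul]
        have htt : t * t = 1 := Units.ext (by
          rw [Units.val_mul, htv, smul_mul_smul_comm, hxx, smul_smul, Units.val_one, hm]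
          rw [show m⁻¹ * m⁻¹ * (m * m) = 1 by field_simp, one_smul])
        have hts : GUConj.starQ p (t : Matrix (Fin 4) (Fin 4) F) = -(t : Matrix (Fin 4) (Fin 4) F) := by
          have hxi : ((x⁻¹ : GL (Fin 4) F) : Matrix (Fin 4) (Fin 4) F) = c⁻¹ • (x : Matrix (Fin 4) (Fin 4) F) :=
            (Units.eq_inv_of_mul_eq_one_left (by rw [mul_smul_comm, hxx, smul_smul, inv_mul_cancel₀ hc0, one_smul])).symm
          rw [htv, starQ_smul hF, starQ_val hF (hGU x hx), hxi, smul_smul, ← neg_smul, inv_pow]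
          congr 1
          have hmp0 : m ^ p ≠ 0 := pow_ne_zero _ hm0
          field_simp
          rw [hm]
          linear_combination m * hneg
        have hk2 : kdim (t : Matrix (Fin 4) (Fin 4) F) (X + C 1) = 2 := by
          have hsum := kdim_two_sum h2 htt
          have heq : kdim (t : Matrix (Fin 4) (Fin 4) F) (X + C 1) = kdim (t : Matrix (Fin 4) (Fin 4) F) (X - C 1) := by
            obtain ⟨M, hM⟩ : ∃ M, M = aeval (t : Matrix (Fin 4) (Fin 4) F) (X + C (1 : F)) := ⟨_, rfl⟩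
            rw [kdim, ← hM, ← ker_starQ hF M, kdim, hM, map_add, aeval_X, aeval_C, map_one, GUConj.starQ_add hF, hts,
              GUConj.starQ_one hF, map_sub, aeval_X, aeval_C, map_one,
              show -(t : Matrix (Fin 4) (Fin 4) F) + 1 = -((t : Matrix (Fin 4) (Fin 4) F) - 1) by abel]
            exact congrArg (fun U : Submodule F (Fin 4 → F) => Module.finrank F U) (Submodule.ext fun v => by
              rw [LinearMap.mem_ker, LinearMap.mem_ker, map_neg, LinearMap.neg_apply, neg_eq_zero])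
          omega
        have kd : ∀ (i j : Fin 5), i ≠ j → kdim (e i : Matrix (Fin 4) (Fin 4) F) (X + C 1) = 2 := fun i j hij => by
          have := kdim_anti h2 (hF'.sq i) (hF'.anti j i hij.symm)
          omega
        obtain ⟨B, hB⟩ : ∃ B, B = z * (e 0 * e 1) := ⟨_, rfl⟩
        have hB2 : B * B = 1 := by
          rw [hB, sq_mul_comm (hzc _), sq_mul_anti (hF'.anti 0 1 (by decide)), hz2, hF'.sq, hF'.sq, one_mul, neg_one_mul,
            neg_neg]
        have hBk : kdim (B : Matrix (Fin 4) (Fin 4) F) (X + C 1) = 2 := by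
          have := kdim_anti h2 hB2 (r := e 0) (hB ▸ anti_scaled hzc (anti_left hF' (by decide)))
          omega
        have dconj : ∀ a b : GL (Fin 4) F, a * a = 1 → b * b = 1 → kdim (a : Matrix (Fin 4) (Fin 4) F) (X + C 1) = 2 →
            kdim (b : Matrix (Fin 4) (Fin 4) F) (X + C 1) = 2 →
            (a : Matrix (Fin 4) (Fin 4) F).det = (b : Matrix (Fin 4) (Fin 4) F).det := fun a b ha hb ka kb => by
          obtain ⟨g, hg⟩ := conj_two h2 ha hb (ka.trans kb.symm)
          have h1 := congrArg (fun y : GL (Fin 4) F => (y : Matrix (Fin 4) (Fin 4) F).det) hg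
          rw [Units.val_mul, Units.val_mul, Matrix.det_mul, Matrix.det_mul, mul_comm (b : Matrix (Fin 4) (Fin 4) F).det] at h1
          exact mul_left_cancel₀ ((Matrix.isUnit_iff_isUnit_det _).1 g.isUnit).ne_zero h1
        have d01 := dconj _ _ (hF'.sq 0) (hF'.sq 1) (kd 0 1 (by decide)) (kd 1 0 (by decide))
        have dB := dconj _ _ hB2 (hF'.sq 0) hBk (kd 0 1 (by decide))
        have dt := dconj _ _ htt (hF'.sq 0) hk2 (kd 0 1 (by decide))
        obtain ⟨tz, -, htz⟩ := scalar_of_commute hS.irr (x := z) fun a _ => hzc a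
        have htz2 : tz * tz = -1 := by
          have h1 := congrArg Units.val hz2
          rw [Units.val_mul, htz, smul_mul_smul_comm, one_mul, Units.val_neg, Units.val_one, ← neg_one_smul F (1 : Matrix (Fin 4) (Fin 4) F)] at h1
          exact scalar_inj h1
        have d02 : (e 0 : Matrix (Fin 4) (Fin 4) F).det * (e 0 : Matrix (Fin 4) (Fin 4) F).det = 1 := by
          rw [← Matrix.det_mul, val_sq_one (hF'.sq 0), Matrix.det_one]
        rw [hB, Units.val_mul, Units.val_mul, Matrix.det_mul, Matrix.det_mul, ← d01, d02, htz, Matrix.det_smul,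
          Matrix.det_one, hι, mul_one, mul_one, show tz ^ 4 = 1 by linear_combination (tz * tz - 1) * htz2] at dB
        rw [← dB, htv, Matrix.det_smul, hdet x hx, hι, mul_one] at dt
        have hm4 : m ^ 4 = 1 := by rw [← _root_.inv_inj, ← inv_pow, inv_one]; exact dt
        rw [h4p m hm4] at hneg
        exact h2 (by linear_combination hneg)
      exact two_pos h2 hι hS hF' hz hzc hz2 hh hpR hG hdet
        (hconj 8 (by rw [show ((8 : ℕ) : F) = 2 ^ 3 by norm_num]; exact pow_ne_zero 3 h2)) hu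
        (scal_mem m u hu hmp) hx hxu hx8 hns
    · have h3 := h3' (by omega)
      obtain ⟨w, hw⟩ := exists_prime_orderOf_dvd_card (G := Fˣ) 3 (by
        rw [Fintype.card_units, hF]
        have h1 : p ^ 2 % 3 = 1 := by rw [Nat.pow_mod, hp31]
        omega)
      have hw3 : ((w : F)) ^ 3 = 1 := by
        rw [← Units.val_pow_eq_pow_val, ← hw, pow_orderOf_eq_one, Units.val_one]
      have hw1 : (w : F) ≠ 1 := fun h => by
        rw [Units.val_eq_one.1 h, orderOf_one] at hw; omega
      have hww : (w : F) * w + w + 1 = 0 := by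
        have : ((w : F) - 1) * ((w : F) * w + w + 1) = 0 := by linear_combination hw3
        exact (mul_eq_zero.1 this).resolve_left (sub_ne_zero.2 hw1)
      have hwp : (w : F) ^ p = w := by
        rw [← Nat.div_add_mod p 3, hp31, pow_succ, pow_mul, hw3, one_pow, one_mul]
      obtain ⟨hpar, hcl⟩ := class_three_unitary hF h3 hww hwp
      exact odd_reduce (by decide) (three_pos h2 h3 hι hS hF' hz hzc hz2 hh hpR hG
        (hconj 3 (by exact_mod_cast h3)) (fun y hy h => hpar y (hGU y hy) h)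
        (fun a b ha hb h h' => hcl a b (hGU a ha) (hGU b hb) h h')) hx hc hc4 hns hscal
    · have hco : Nat.Coprime 5 (p ^ 2 - 1) := by
        refine ((by norm_num : Nat.Prime 5).coprime_iff_not_dvd).2 fun hdvd => (ord_five hp5).1 hord ?_
        have h0 := (ZMod.natCast_eq_zero_iff _ 5).2 hdvd
        rw [Nat.cast_sub (Nat.one_le_pow _ _ hp.pos), Nat.cast_pow, Nat.cast_one, sub_eq_zero, pow_two] at h0
        exact h0
      exact odd_reduce (by decide) (five_pos h2 hι hS hF' hh hpR hG (hconj 5 (by exact_mod_cast h5))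
        (fun a b ha hb h h' n n' => class_five_unitary hF hodd hrc h5 hco a b (hGU a ha) (hGU b hb) h h' n n'))
        hx hc hc4 hns hscal

end Cfsg.Agent.S6001
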