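import Cfsg.Statements.S6002
import Cfsg.Agent.Lib.Classical22.SympTypeFour.Witness
import Cfsg.Agent.Lib.Classical22.SympTypeFour.Conj
import Cfsg.Agent.Lib.Classical.SpInvolutions
import Cfsg.Agent.Lib.Classical.SpSimple
import Cfsg.Agent.Lib.Classical.SpSemisimpleClasses
-- import your own Cfsg.Agent.* helpers here

set_option autoImplicit false
open scoped MatrixGroups
open Cfsg

namespace Cfsg.Agent.S6002

open Matrix Polynomial CfsgLib.Classical CfsgLib.Classical22.SympTypeFour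

theorem sp_lift {F : Type*} [Field F] {x : GL (Fin 2 ⊕ Fin 2) F} (hx : x ∈ Cfsg.spGL 2 F) :
    ∃ A : symplecticGroup (Fin 2) F, (spToSpGL A : GL (Fin 2 ⊕ Fin 2) F) = x :=
  ⟨⟨_, mem_sp_iff.2 hx⟩, Units.ext rfl⟩

theorem sp_block {F : Type*} [Field F] {a b c d : F} (hdet : a * d - b * c = 1) :
    ∃ x ∈ Cfsg.spGL 2 F,
      ((x : Matrix (Fin 2 ⊕ Fin 2) (Fin 2 ⊕ Fin 2) F) - 1) *
        ((x : Matrix (Fin 2 ⊕ Fin 2) (Fin 2 ⊕ Fin 2) F) * x - (a + d) • (x : Matrix (Fin 2 ⊕ Fin 2) (Fin 2 ⊕ Fin 2) F) + 1) = 0 ∧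
      Matrix.trace (x : Matrix (Fin 2 ⊕ Fin 2) (Fin 2 ⊕ Fin 2) F) = a + d + 2 ∧
      Matrix.trace ((x⁻¹ : GL (Fin 2 ⊕ Fin 2) F) : Matrix (Fin 2 ⊕ Fin 2) (Fin 2 ⊕ Fin 2) F) = a + d + 2 ∧
      (a + d ≠ 2 → ∀ t : F, (x : Matrix (Fin 2 ⊕ Fin 2) (Fin 2 ⊕ Fin 2) F) ≠ t • 1) := by
  obtain ⟨M, hM⟩ : ∃ M, M = fromBlocks (diagonal ![a, 1]) (diagonal ![b, 0]) (diagonal ![c, 0]) (diagonal ![d, 1]) :=
    ⟨_, rfl⟩
  obtain ⟨N, hN⟩ : ∃ N, N = fromBlocks (diagonal ![d, 1]) (diagonal ![-b, 0]) (diagonal ![-c, 0]) (diagonal ![a, 1]) :=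
    ⟨_, rfl⟩
  have e1 : M * N = 1 := by
    rw [hM, hN, fromBlocks_multiply, ← fromBlocks_one, ← diagonal_one]
    simp only [diagonal_mul_diagonal, diagonal_add]
    refine Matrix.ext_iff_blocks.2 ⟨?_, ?_, ?_, ?_⟩ <;>
      simp only [toBlocks_fromBlocks₁₁, toBlocks_fromBlocks₁₂, toBlocks_fromBlocks₂₁, toBlocks_fromBlocks₂₂,
        ← diagonal_zero] <;> congr 1 <;> funext i <;> fin_cases i <;> simp <;>
      first | linear_combination hdet | ring
  obtain ⟨x, hx, hxi⟩ : ∃ x : GL (Fin 2 ⊕ Fin 2) F, (x : Matrix (Fin 2 ⊕ Fin 2) (Fin 2 ⊕ Fin 2) F) = M ∧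
      ((x⁻¹ : GL (Fin 2 ⊕ Fin 2) F) : Matrix (Fin 2 ⊕ Fin 2) (Fin 2 ⊕ Fin 2) F) = N :=
    ⟨⟨M, N, e1, mul_eq_one_comm.1 e1⟩, rfl, rfl⟩
  refine ⟨x, fun u v => ?_, ?_, ?_, ?_, fun ht t hc => ?_⟩
  · show sympForm 2 F ((x : Matrix (Fin 2 ⊕ Fin 2) (Fin 2 ⊕ Fin 2) F) *ᵥ u)
      ((x : Matrix (Fin 2 ⊕ Fin 2) (Fin 2 ⊕ Fin 2) F) *ᵥ v) = _
    rw [hx, hM, sympForm_eq, sympForm_eq, Fin.sum_univ_two, Fin.sum_univ_two]
    simp [fromBlocks_mulVec, mulVec_diagonal, Function.comp_apply]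
    linear_combination (u (Sum.inr 0) * v (Sum.inl 0) - u (Sum.inl 0) * v (Sum.inr 0)) * hdet
  · rw [hx, hM]
    ext i j
    rcases i with i | i <;> rcases j with j | j <;> fin_cases i <;> fin_cases j <;>
      simp [Matrix.mul_apply, Matrix.one_apply, Fintype.sum_sum_type, Fin.sum_univ_two] <;>
      first | linear_combination (1 - a) * hdet | linear_combination (1 - d) * hdet | linear_combination (-b) * hdet |
        linear_combination (-c) * hdet | ring
  · rw [hx, hM, trace, Fintype.sum_sum_type, Fin.sum_univ_two, Fin.sum_univ_two]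
    simp; ring
  · rw [hxi, hN, trace, Fintype.sum_sum_type, Fin.sum_univ_two, Fin.sum_univ_two]
    simp; ring
  · rw [hx, hM] at hc
    have q1 := congrFun (congrFun hc (Sum.inl 0)) (Sum.inl 0)
    have q2 := congrFun (congrFun hc (Sum.inr 0)) (Sum.inr 0)
    have q3 := congrFun (congrFun hc (Sum.inl 1)) (Sum.inl 1)
    simp at q1 q2 q3
    exact ht (by rw [q1, q2, ← q3, one_add_one_eq_two])

/-- Elements of prime order of PSp_4(p), p odd, and the normalizer of an extraspecial 2-group of order 2⁵ of minus type. Here `T = PSp_4(F)` for the field `F` with `p` elements, `p` an odd prime, realised through the matrices preserving the standard alternating form `f`; `R` is an absolutely irreducible subgroup of `T` (it preserves `f`) that is a 2-group of symplectic type of exponent 4, order 2⁵ and centre of order 2, of minus type (no elementary abelian subgroup of order 2³), and `H` is the subgroup of `T` normalizing `R` — a subgroup of type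 2^{1+4}.O₄⁻(2) (maximality is not assumed). Ω is the set of cosets of `H` in `T`, so an element of `T` of prime order `r` (`x ∈ T` with `x^r` scalar, `x` not scalar) fixes a point of Ω exactly when some `T`-conjugate of `x` normalizes `R`. Let `r` be a prime dividing the index of `H`. Then every element of `T` of order `r` fixes a point of Ω if and only if `r = 2`, or `r = 5` and `p` has multiplicative order 4 modulo 5. -/
theorem result {F : Type*} [Field F] [Fintype F] {p : ℕ} [Fact p.Prime] [CharP F p] (hF : Fintype.card F = p) (hodd : Odd p)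
    (R : Subgroup (GL (Fin 2 ⊕ Fin 2) F)) (hRs : Cfsg.Geo.IsSymplecticTypeGroup 2 R) (hRi : Cfsg.Geo.ActsAbsolutelyIrreducibly (Cfsg.Geo.matrixSet R))
    (hRf : R ≤ Cfsg.spGL 2 F) (hR5 : Nat.card R = 2 ^ 5) (hRZ : Nat.card (Subgroup.center R) = 2) (hRm : Cfsg.Geo.IsOfMinusType 2 R)
    (r : ℕ) [Fact r.Prime]
    (hΩ : r ∣ (Cfsg.Geo.subgroupNormalizer R).relIndex (Cfsg.spGL 2 F)) :
    (∀ x ∈ Cfsg.spGL 2 F, (∃ z : F, ((x ^ r : GL (Fin 2 ⊕ Fin 2) F) : Matrix (Fin 2 ⊕ Fin 2) (Fin 2 ⊕ Fin 2) F) = z • (1 : Matrix (Fin 2 ⊕ Fin 2) (Fin 2 ⊕ Fin 2) F)) →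
      (∀ z : F, (x : Matrix (Fin 2 ⊕ Fin 2) (Fin 2 ⊕ Fin 2) F) ≠ z • (1 : Matrix (Fin 2 ⊕ Fin 2) (Fin 2 ⊕ Fin 2) F)) →
      ∃ g ∈ Cfsg.spGL 2 F, g⁻¹ * x * g ∈ Cfsg.Geo.subgroupNormalizer R) ↔ (r = 2 ∨ (r = 5 ∧ orderOf (p : ZMod 5) = 4)) := by
  classical
  have hp := (Fact.out : p.Prime)
  have hr := (Fact.out : r.Prime)
  have hp2 : p ≠ 2 := by rintro rfl; exact absurd hodd (by decide)
  obtain ⟨h2', h3', h5'⟩ := two_three_five (F := F) (p := p)
  have h2 := h2' hp2
  have hι : Fintype.card (Fin 2 ⊕ Fin 2) = 4 := by simp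
  have hZd : Nat.card (Subgroup.center R) ∣ 4 := by rw [hRZ]; norm_num
  have hS := setting_of_type h2 hRs hRi (by rw [hR5, hRZ]; norm_num) (by rw [hRZ])
  obtain ⟨a, b, c, d, hP, ha, hb, hc, hd⟩ := exists_frame_of_minus h2 hS hRm
  have hdet : ∀ x ∈ Cfsg.spGL 2 F, (x : Matrix (Fin 2 ⊕ Fin 2) (Fin 2 ⊕ Fin 2) F).det = 1 := fun x hx => by
    obtain ⟨A, rfl⟩ := sp_lift hx
    exact CfsgLib.Classical.SpSemisimple.det_sp A
  have hscalar : ∀ x ∈ Cfsg.spGL 2 F, ∀ t : F, (x : Matrix (Fin 2 ⊕ Fin 2) (Fin 2 ⊕ Fin 2) F) = t • 1 → t * t = 1 := by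
    intro x hx t ht
    have := hx (Pi.single (Sum.inr 0) 1) (Pi.single (Sum.inl 0) 1)
    change sympForm 2 F ((x : Matrix (Fin 2 ⊕ Fin 2) (Fin 2 ⊕ Fin 2) F) *ᵥ _) ((x : Matrix (Fin 2 ⊕ Fin 2) (Fin 2 ⊕ Fin 2) F) *ᵥ _) = _ at this
    rw [ht, smul_mulVec, smul_mulVec, one_mulVec, one_mulVec, sympForm_smul_left, sympForm_smul_right,
      sympForm_single_inl] at this
    simpa using this
  constructor
  · intro H
    by_contra hcon
    push Not at hcon
    obtain ⟨hr2, hcon5⟩ := hcon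
    have bad : ∀ x ∈ Cfsg.spGL 2 F, x ^ r = 1 →
        (∀ t : F, (x : Matrix (Fin 2 ⊕ Fin 2) (Fin 2 ⊕ Fin 2) F) ≠ t • 1) →
        (∀ k : GL (Fin 2 ⊕ Fin 2) F, k⁻¹ * x * k ∉ Cfsg.Geo.subgroupNormalizer R) → False := fun x hx hxr hns hk => by
      obtain ⟨g, -, hg⟩ := H x hx ⟨1, by rw [hxr, one_smul, Units.val_one]⟩ hns
      exact hk g hg
    rcases lt_or_ge 5 r with h | h
    · obtain ⟨x, hx, hxr, hns, hk⟩ := exists_bad_large h2 hι hS hZd h hdet hΩ
      exact bad x hx hxr hns hk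
    have h35 : r = 3 ∨ r = 5 := by
      have := hr.two_le
      interval_cases r <;> first | omega | norm_num at hr
    by_cases hrp : r = p
    · obtain ⟨v, hv⟩ : ∃ v : Fin 2 ⊕ Fin 2 → F, v = Pi.single (Sum.inl 0) 1 := ⟨_, rfl⟩
      obtain ⟨x, hx⟩ : ∃ x : GL (Fin 2 ⊕ Fin 2) F, x = (spToSpGL (spT v 1) : GL (Fin 2 ⊕ Fin 2) F) := ⟨_, rfl⟩
      have hxv : ∀ w, (x : Matrix (Fin 2 ⊕ Fin 2) (Fin 2 ⊕ Fin 2) F) *ᵥ w = w + (1 * sympForm 2 F w v) • v :=
        fun w => hx ▸ spT_apply v 1 w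
      have hpw : ∀ n : ℕ, spT v (1 : F) ^ n = spT v (n : F) := fun n => by
        induction n with
        | zero => rw [pow_zero, Nat.cast_zero, spT_zero]
        | succ n ih => rw [pow_succ, ih, spT_mul, Nat.cast_succ]
      have hxp : x ^ p = 1 := by
        rw [hx, ← SubmonoidClass.coe_pow, ← map_pow, hpw, CharP.cast_eq_zero, spT_zero, map_one, OneMemClass.coe_one]
      have hns : ∀ t : F, (x : Matrix (Fin 2 ⊕ Fin 2) (Fin 2 ⊕ Fin 2) F) ≠ t • 1 := fun t ht => by
        have h1 := congrFun (hxv (Pi.single (Sum.inr 0) 1)) (Sum.inl 0)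
        rw [ht, smul_mulVec, one_mulVec, hv, sympForm_single_inl] at h1
        simp at h1
      refine bad x (hx ▸ (spToSpGL (spT v 1)).2) (hrp ▸ hxp) hns
        (bad_transvection h2 hι hS hp2 hxp hns (l := v) (fun w => ⟨_, hxv w⟩) ?_)
      rw [hxv, sympForm_self, mul_zero, zero_smul, add_zero]
    · rcases h35 with rfl | rfl
      · have h3 := h3' (Ne.symm hrp)
        obtain ⟨x, hx, hq, ht, ht', hns'⟩ := sp_block (a := (0 : F)) (b := -1) (c := 1) (d := -1) (by ring)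
        have hns := hns' (fun h => h3 (by linear_combination -h))
        have hx3 : x ^ 3 = 1 := by
          refine Units.ext ?_
          rw [Units.val_pow_eq_pow_val, Units.val_one, ← sub_eq_zero, ← hq]
          simp only [zero_add, neg_smul, one_smul, sub_neg_eq_add, mul_add, sub_mul, mul_one, one_mul, pow_succ,
            pow_zero, mul_assoc]
          abel
        refine bad x hx hx3 hns (bad_three_minus h2 h3 hι hS hRm hRZ hx3 hns ?_)
        rw [ht, ht']; ring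
      · have hp5 : p ≠ 5 := Ne.symm hrp
        have h5 := h5' hp5
        obtain ⟨s, hs, -⟩ := exists_golden (F := F) hp2 hp5 (hcon5 rfl)
        obtain ⟨x, hx, hq, ht, ht', hns'⟩ := sp_block (a := (0 : F)) (b := -1) (c := 1) (d := s) (by ring)
        rw [zero_add] at hq ht ht' hns'
        have hns := hns' (fun h => h5 (by rw [h] at hs; linear_combination hs))
        have hx5 : x ^ 5 = 1 := Units.ext (by
          rw [Units.val_pow_eq_pow_val, Units.val_one]; exact pow_five_of hs hq)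
        refine bad x hx hx5 hns (bad_trace h2 hι hS hZd (by decide) hx5 hns ?_)
        rw [ht, ht']
        exact golden_bad h5 hs
  · rintro h x hx ⟨t, htr⟩ hns
    have ht2 : t * t = 1 := hscalar _ (pow_mem hx r) t htr
    obtain ⟨hh, hG⟩ : Sesq (RingHom.id F) (sympForm 2 F) ∧
        ∀ g, Pres (sympForm 2 F) g → (g : Matrix (Fin 2 ⊕ Fin 2) (Fin 2 ⊕ Fin 2) F).det = 1 → g ∈ Cfsg.spGL 2 F :=
      ⟨⟨sympForm_add_left, sympForm_add_right, sympForm_smul_left, fun k u v => by simp [sympForm_smul_right]⟩,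
        fun g hg _ => hg⟩
    have hRN : ∀ r ∈ R, r ∈ Cfsg.Geo.subgroupNormalizer R := fun r hr => Subgroup.le_normalizer hr
    have hF' := frame_of_pairs h2 hS hP ha hb hc hd
    rcases h with rfl | ⟨rfl, hord⟩
    · obtain ⟨A, rfl⟩ := sp_lift hx
      have inj : ∀ A B : symplecticGroup (Fin 2) F, (spToSpGL A : GL (Fin 2 ⊕ Fin 2) F) = spToSpGL B → A = B :=
        fun A B e => Subtype.ext (congrArg Units.val e)
      have fin : ∀ B : symplecticGroup (Fin 2) F, (spToSpGL B : GL (Fin 2 ⊕ Fin 2) F) ∈ R →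
          (∃ k, k * A * k⁻¹ = B) →
          ∃ g ∈ Cfsg.spGL 2 F, g⁻¹ * (spToSpGL A : GL (Fin 2 ⊕ Fin 2) F) * g ∈ Cfsg.Geo.subgroupNormalizer R := by
        rintro B hB ⟨k, hk⟩
        refine ⟨(spToSpGL k⁻¹ : Cfsg.spGL 2 F), SetLike.coe_mem _, ?_⟩
        rw [← hk] at hB
        simpa using hRN _ hB
      rcases mul_self_eq_one_iff.1 ht2 with rfl | rfl
      · have hA2 : A * A = 1 := Subtype.ext (by
          rw [one_smul, pow_two, Units.val_mul] at htr
          exact htr)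
        obtain ⟨B, hB⟩ := sp_lift (hRf (hF'.mem 0))
        obtain ⟨i, hi, k, hk⟩ := exists_conj_spSign h2 A hA2
        obtain ⟨i', hi', k', hk'⟩ := exists_conj_spSign h2 B (inj _ _ (by
          rw [map_mul, map_one, Subgroup.coe_mul, OneMemClass.coe_one, hB, hF'.sq 0]))
        have key : ∀ (C : symplecticGroup (Fin 2) F) (j : ℕ), j ≤ 2 → ∀ k, k * C * k⁻¹ = spSign 2 F j →
            (∀ t : F, (C : Matrix (Fin 2 ⊕ Fin 2) (Fin 2 ⊕ Fin 2) F) ≠ t • 1) → j = 1 := by
          intro C j hj k hk hns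
          interval_cases j
          · rw [spSign_zero] at hk
            exact absurd (by rw [mul_inv_eq_one] at hk; simpa using congrArg Subtype.val (mul_left_cancel (hk.trans (mul_one k).symm))) (hns 1)
          · rfl
          · rw [spSign_top] at hk
            refine absurd ?_ (hns (-1))
            have : C = spNegOne := by
              have h1 : k * C = k * spNegOne := by
                rw [Subgroup.mem_center_iff.1 spNegOne_mem_center k, ← hk, inv_mul_cancel_right]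
              exact mul_left_cancel h1
            rw [this]
            simp [spNegOne]
        have hi1 := key A i hi k hk (fun t => hns t)
        have hi2 := key B i' hi' k' hk' (fun t ht => by
          have e1 : ((![a, b, a * b * c, a * b * d, a * b * (c * d)] 0 : GL (Fin 2 ⊕ Fin 2) F) :
              Matrix (Fin 2 ⊕ Fin 2) (Fin 2 ⊕ Fin 2) F) = t • 1 := by rw [← hB]; exact ht
          have e2 := hF'.anti 0 1 (by decide)
          rw [scalar_comm e1] at e2
          exact neg_ne_self h2 _ e2.symm)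
        refine fin B (hB ▸ hF'.mem 0) ⟨k'⁻¹ * k, ?_⟩
        calc k'⁻¹ * k * A * (k'⁻¹ * k)⁻¹ = k'⁻¹ * (k * A * k⁻¹) * k' := by group
          _ = k'⁻¹ * (k' * B * k'⁻¹) * k' := by rw [hk, hi1, hk', hi2]
          _ = B := by group
      · have hA2 : A * A = spNegOne := Subtype.ext (by
          rw [neg_one_smul, pow_two, Units.val_mul] at htr
          exact htr)
        obtain ⟨B, hB⟩ := sp_lift (hRf hP.hc)
        obtain ⟨k, hk⟩ := exists_conj_spJ h2 A hA2
        obtain ⟨k', hk'⟩ := exists_conj_spJ h2 B (Subtype.ext (by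
          have e1 := congrArg Units.val hc
          rw [← hB, Units.val_mul, Units.val_neg, Units.val_one] at e1
          exact e1))
        refine fin B (hB ▸ hP.hc) ⟨k'⁻¹ * k, ?_⟩
        calc k'⁻¹ * k * A * (k'⁻¹ * k)⁻¹ = k'⁻¹ * (k * A * k⁻¹) * k' := by group
          _ = k'⁻¹ * (k' * B * k'⁻¹) * k' := by rw [hk, hk']
          _ = B := by group
    · have hp5 : p ≠ 5 := fun h => by
        subst h
        rw [ZMod.natCast_self, orderOf_zero] at hord
        omega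
      have ht4 : t ^ 4 = 1 := by linear_combination (t * t + 1) * ht2
      refine odd_reduce (by decide) (five_pos h2 hι hS hF' hh (fun a ha => hRf ha) hG
        (fun x y g hx hy h hg => sp_conj_of_gl (p := p) (m := 5) (by exact_mod_cast h5' hp5) hx hy h hg)
        (fun x y _ _ h h' a b => class_five_linear hF hι hord x y h h' a b)) hx htr ht4 hns (fun n u hu => ?_)
      intro v w
      show sympForm 2 F ((u : Matrix (Fin 2 ⊕ Fin 2) (Fin 2 ⊕ Fin 2) F) *ᵥ v) ((u : Matrix (Fin 2 ⊕ Fin 2) (Fin 2 ⊕ Fin 2) F) *ᵥ w) = _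
      rw [hu, smul_mulVec, smul_mulVec, one_mulVec, one_mulVec, sympForm_smul_left, sympForm_smul_right, ← mul_assoc,
        ← mul_pow, ht2, one_pow, one_mul]

end Cfsg.Agent.S6002
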